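import Cfsg.Agent.Lib.Helper92.LeechM22

set_option autoImplicit false

open scoped Pointwise

namespace Cfsg.Agent.Lib.Helper92

open Cfsg Cfsg.Spor Cfsg.Agent.Lib.Helper7

/-! ### Simplicity of the stabiliser of two vectors of type 3 with inner product `-32` -/

/-- Lengths of the classes. -/
def hsM (d : ℤ) : ℕ := if d = 0 then 1 else if d = 1 then 22 else 77

theorem hs_prim : ∀ I ∈ ({0, 1, 2} : Finset ℤ).powerset, (0 : ℤ) ∈ I → (∑ d ∈ I, hsM d) ∣ 100 →
    I = {0} ∨ I = {0, 1, 2} := by decide +kernel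

theorem hs_num : ∀ I ∈ (({0, 1, 2} : Finset ℤ).erase 0).powerset,
    ∀ J ∈ (({0, 1, 2} : Finset ℤ).erase 0).powerset, I.Nonempty → J.Nonempty → Disjoint I J →
    5 ∣ 1 + ∑ d ∈ I, hsM d → 2 ∣ 1 + ∑ d ∈ J, hsM d → False := by decide +kernel

theorem dot_smul_fix {g : Co0} {v : leechLattice} (h : g • v = v) (y : leechLattice) :
    dotInt (v : GolayPt → ℤ) ((g • y : leechLattice) : GolayPt → ℤ) =
      dotInt (v : GolayPt → ℤ) (y : GolayPt → ℤ) := by
  have h1 := co0_smul_dotInt g v y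
  rw [h] at h1
  exact h1

open Classical in
/-- The classes of the points, seen from a point. -/
noncomputable def hsC (x y : leechLattice) : ℤ :=
  if y = x then 0 else if dotInt (x : GolayPt → ℤ) (y : GolayPt → ℤ) = 8 then 1 else 2

theorem hsC_self (x : leechLattice) : hsC x x = 0 := if_pos rfl

theorem hsC_eq_zero {x y : leechLattice} (h : hsC x y = 0) : y = x := by
  unfold hsC at h
  by_contra hne
  rw [if_neg hne] at h
  split_ifs at h <;> omega

theorem hsC_eq_one {x y : leechLattice}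
    (hx : dotInt (x : GolayPt → ℤ) (x : GolayPt → ℤ) = 32) :
    hsC x y = 1 ↔ dotInt (x : GolayPt → ℤ) (y : GolayPt → ℤ) = 8 := by
  unfold hsC
  constructor
  · intro h
    split_ifs at h with h1 h2
    · omega
    · exact h2
    · omega
  · intro h
    have hne : y ≠ x := by
      rintro rfl
      omega
    rw [if_neg hne, if_pos h]

theorem hsC_eq_two {x y : leechLattice} :
    hsC x y = 2 ↔ y ≠ x ∧ dotInt (x : GolayPt → ℤ) (y : GolayPt → ℤ) ≠ 8 := by
  unfold hsC
  constructor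
  · intro h
    split_ifs at h with h1 h2
    · omega
    · omega
    · exact ⟨h1, h2⟩
  · rintro ⟨h1, h2⟩
    rw [if_neg h1, if_neg h2]

/-- The stabiliser of two vectors of type 3 with inner product `-32` is simple of order
`44352000`. -/
theorem hs_isHS (v w : leechLattice) (hv : sqNorm (v : GolayPt → ℤ) = 48)
    (hw : sqNorm (w : GolayPt → ℤ) = 48)
    (hvw : dotInt (v : GolayPt → ℤ) (w : GolayPt → ℤ) = -32) :
    IsSimpleGroup ↥(MulAction.stabilizer Co0 v ⊓ MulAction.stabilizer Co0 w) ∧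
    Nat.card ↥(MulAction.stabilizer Co0 v ⊓ MulAction.stabilizer Co0 w) = 44352000 := by
  obtain ⟨nX, tX⟩ := hs_orbit v w hv hw hvw
  obtain ⟨x, hx⟩ := Set.nonempty_of_ncard_ne_zero (s := {x : leechLattice |
    sqNorm (x : GolayPt → ℤ) = 32 ∧ dotInt (v : GolayPt → ℤ) (x : GolayPt → ℤ) = 24 ∧
    dotInt (w : GolayPt → ℤ) (x : GolayPt → ℤ) = -24}) (by rw [nX]; norm_num)
  obtain ⟨n22, n77, tS⟩ := hs_sub v w x hv hw hvw hx
  have hxx : dotInt (x : GolayPt → ℤ) (x : GolayPt → ℤ) = 32 := by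
    rw [dotInt_self]
    exact hx.1
  have hfix : ∀ g : ↥(MulAction.stabilizer Co0 v ⊓ MulAction.stabilizer Co0 w),
      g.1 • v = v ∧ g.1 • w = w := fun g =>
    ⟨MulAction.mem_stabilizer_iff.mp (Subgroup.mem_inf.mp g.2).1,
      MulAction.mem_stabilizer_iff.mp (Subgroup.mem_inf.mp g.2).2⟩
  have D : ColData ↥(MulAction.stabilizer Co0 v ⊓ MulAction.stabilizer Co0 w)
      {x : leechLattice | sqNorm (x : GolayPt → ℤ) = 32 ∧
        dotInt (v : GolayPt → ℤ) (x : GolayPt → ℤ) = 24 ∧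
        dotInt (w : GolayPt → ℤ) (x : GolayPt → ℤ) = -24} x (hsC x) {0, 1, 2} hsM := by
    apply ColData.of_card hx (Set.finite_of_ncard_ne_zero (by rw [nX]; norm_num))
    · intro g y hy
      obtain ⟨h1, h2⟩ := hfix g
      exact ⟨(co0_smul_sqNorm g.1 y).trans hy.1, (dot_smul_fix h1 y).trans hy.2.1,
        (dot_smul_fix h2 y).trans hy.2.2⟩
    · intro y hy
      obtain ⟨g, h1, h2, h3⟩ := tX x hx y hy
      exact ⟨⟨g, Subgroup.mem_inf.mpr ⟨h1, h2⟩⟩, h3⟩
    · intro g hg y hy
      have hg' : g.1 • x = x := hg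
      have e1 : g • y = x ↔ y = x := by
        constructor
        · intro h
          have h' : g.1 • y = g.1 • x := h.trans hg'.symm
          exact smul_left_cancel _ h'
        · intro h
          rw [h]
          exact hg
      have e2 : dotInt (x : GolayPt → ℤ) ((g • y : leechLattice) : GolayPt → ℤ) =
          dotInt (x : GolayPt → ℤ) (y : GolayPt → ℤ) := dot_smul_fix hg' y
      unfold hsC
      simp only [e1, e2]
    · intro y hy y' hy' hne hne' hc
      have hiff : dotInt (x : GolayPt → ℤ) (y : GolayPt → ℤ) = 8 ↔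
          dotInt (x : GolayPt → ℤ) (y' : GolayPt → ℤ) = 8 := by
        rw [← hsC_eq_one hxx, ← hsC_eq_one hxx, hc]
      obtain ⟨g, h1, h2, h3, h4⟩ := tS y hy y' hy' hne hne' hiff
      exact ⟨⟨g, Subgroup.mem_inf.mpr ⟨h1, h2⟩⟩, h3, h4⟩
    · intro d hd
      simp only [Finset.mem_insert, Finset.mem_singleton] at hd
      rcases hd with rfl | rfl | rfl
      · have e : {y | y ∈ {x : leechLattice | sqNorm (x : GolayPt → ℤ) = 32 ∧
            dotInt (v : GolayPt → ℤ) (x : GolayPt → ℤ) = 24 ∧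
            dotInt (w : GolayPt → ℤ) (x : GolayPt → ℤ) = -24} ∧ hsC x y = 0} = {x} := by
          ext y
          constructor
          · rintro ⟨-, h⟩
            exact hsC_eq_zero h
          · intro h
            rw [Set.mem_singleton_iff.mp h]
            exact ⟨hx, hsC_self x⟩
        rw [e, Set.ncard_singleton]
        rfl
      · have e : {y | y ∈ {x : leechLattice | sqNorm (x : GolayPt → ℤ) = 32 ∧
            dotInt (v : GolayPt → ℤ) (x : GolayPt → ℤ) = 24 ∧
            dotInt (w : GolayPt → ℤ) (x : GolayPt → ℤ) = -24} ∧ hsC x y = 1} =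
            {y | y ∈ {x : leechLattice | sqNorm (x : GolayPt → ℤ) = 32 ∧
            dotInt (v : GolayPt → ℤ) (x : GolayPt → ℤ) = 24 ∧
            dotInt (w : GolayPt → ℤ) (x : GolayPt → ℤ) = -24} ∧
            dotInt (x : GolayPt → ℤ) (y : GolayPt → ℤ) = 8} := by
          ext y
          exact and_congr_right (fun _ => hsC_eq_one hxx)
        rw [e, n22]
        rfl
      · have e : {y | y ∈ {x : leechLattice | sqNorm (x : GolayPt → ℤ) = 32 ∧
            dotInt (v : GolayPt → ℤ) (x : GolayPt → ℤ) = 24 ∧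
            dotInt (w : GolayPt → ℤ) (x : GolayPt → ℤ) = -24} ∧ hsC x y = 2} =
            {y | y ∈ {x : leechLattice | sqNorm (x : GolayPt → ℤ) = 32 ∧
            dotInt (v : GolayPt → ℤ) (x : GolayPt → ℤ) = 24 ∧
            dotInt (w : GolayPt → ℤ) (x : GolayPt → ℤ) = -24} ∧ y ≠ x ∧
            dotInt (x : GolayPt → ℤ) (y : GolayPt → ℤ) ≠ 8} := by
          ext y
          exact and_congr_right (fun _ => hsC_eq_two)
        rw [e, n77]
        rfl
    · intro y _ h
      rw [hsC_self] at h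
      exact hsC_eq_zero h
    · rw [nX]
      rfl
  have hKx : IsSimpleGroup ↥(MulAction.stabilizer
      ↥(MulAction.stabilizer Co0 v ⊓ MulAction.stabilizer Co0 w) x) ∧
      Nat.card ↥(MulAction.stabilizer
        ↥(MulAction.stabilizer Co0 v ⊓ MulAction.stabilizer Co0 w) x) = 443520 := by
    obtain ⟨g₁, e1, e2, e3⟩ := exists_to_vwx v w x hv hw hvw hx
    have E1 : g₁ • v = ⟨vecOf v0L, v0L_mem⟩ := Subtype.ext e1
    have E2 : g₁ • w = ⟨vecOf w0L, w0L_mem⟩ := Subtype.ext e2
    have E3 : g₁ • x = ⟨vecOf a0L, a0L_mem⟩ := Subtype.ext e3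
    have e : ↥(MulAction.stabilizer Co0 v ⊓ MulAction.stabilizer Co0 w ⊓
        MulAction.stabilizer Co0 x) ≃* ↥stdK := conjEquiv g₁ (fun k => by
      rw [mem_stdK, conj_smul_iff E1, conj_smul_iff E2, conj_smul_iff E3, Subgroup.mem_inf,
        Subgroup.mem_inf, MulAction.mem_stabilizer_iff, MulAction.mem_stabilizer_iff,
        MulAction.mem_stabilizer_iff, and_assoc])
    have e' := (stabSubEquiv (MulAction.stabilizer Co0 v ⊓ MulAction.stabilizer Co0 w) x).trans e
    exact ⟨e'.isSimpleGroup_congr.mpr stdK_simple, by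
      rw [Nat.card_congr e'.toEquiv, stdK_card]⟩
  have hp5 : Fact (Nat.Prime 5) := ⟨by norm_num⟩
  have hp2 : Fact (Nat.Prime 2) := ⟨by norm_num⟩
  refine ⟨D.simple ?_ hKx.1 (D.move 1 (by simp) (by decide)) 5 2 (by norm_num)
    (by rw [nX]; norm_num) (by rw [nX]; norm_num) ?_, ?_⟩
  · intro I hI h0 hdvd
    rw [nX] at hdvd
    rw [hsC_self] at h0 ⊢
    exact hs_prim I (Finset.mem_powerset.mpr hI) h0 hdvd
  · intro I J hI hJ
    rw [hsC_self] at hI hJ
    exact hs_num I (Finset.mem_powerset.mpr hI) J (Finset.mem_powerset.mpr hJ)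
  · rw [D.card, nX, hKx.2]

end Cfsg.Agent.Lib.Helper92
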