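import Cfsg.Agent.Lib.Helper92.LeechPairs
import Cfsg.Agent.Lib.Helper93.Code24

set_option autoImplicit false

open scoped Pointwise symmDiff

namespace Cfsg.Agent.Lib.Helper92

open Cfsg Cfsg.Spor Cfsg.Agent.Lib.Helper7

/-! ### Vectors with two entries `±4` -/

theorem sum_two {i j : GolayPt} (hij : i ≠ j) (a b : ℤ) :
    ∑ p : GolayPt, (if p = i then a else if p = j then b else 0) = a + b := by
  have : ∀ p : GolayPt, (if p = i then a else if p = j then b else 0) =
      (if p = i then a else 0) + (if p = j then b else 0) := by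
    intro p
    by_cases h1 : p = i
    · have h2 : p ≠ j := fun h => hij (h1.symm.trans h)
      rw [if_pos h1, if_pos h1, if_neg h2, add_zero]
    · rw [if_neg h1, if_neg h1, zero_add]
  rw [Finset.sum_congr rfl (fun p _ => this p), Finset.sum_add_distrib, Finset.sum_ite_eq',
    Finset.sum_ite_eq']
  simp

/-- The vector with entries `4 s` and `4 t` at two points. -/
def vecA (i j : GolayPt) (s t : ℤ) : GolayPt → ℤ :=
  fun p => if p = i then 4 * s else if p = j then 4 * t else 0

theorem vecA_mem {i j : GolayPt} (hij : i ≠ j) {s t : ℤ} (hs : s = 1 ∨ s = -1)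
    (ht : t = 1 ∨ t = -1) : vecA i j s t ∈ leechLattice := by
  apply AddSubgroup.subset_closure
  refine mem_leechSet_of_const_mod_four _ 0 0 (by rfl) (fun p => ?_) ?_
  · unfold vecA Int.ModEq
    split_ifs <;> omega
  · have : ∑ p, vecA i j s t p = 4 * s + 4 * t := sum_two hij _ _
    rw [this]
    unfold Int.ModEq
    rcases hs with rfl | rfl <;> rcases ht with rfl | rfl <;> norm_num

theorem sqNorm_vecA {i j : GolayPt} (hij : i ≠ j) {s t : ℤ} (hs : s = 1 ∨ s = -1)
    (ht : t = 1 ∨ t = -1) : sqNorm (vecA i j s t) = 32 := by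
  unfold sqNorm
  have : ∀ p, vecA i j s t p ^ 2 =
      if p = i then 16 * s ^ 2 else if p = j then 16 * t ^ 2 else 0 := by
    intro p
    unfold vecA
    split_ifs <;> ring
  rw [Finset.sum_congr rfl (fun p _ => this p), sum_two hij]
  rcases hs with rfl | rfl <;> rcases ht with rfl | rfl <;> norm_num

theorem dot_vecA (u : GolayPt → ℤ) {i j : GolayPt} (hij : i ≠ j) (s t : ℤ) :
    dotInt u (vecA i j s t) = 4 * s * u i + 4 * t * u j := by
  unfold dotInt
  have : ∀ p, u p * vecA i j s t p =
      if p = i then 4 * s * u i else if p = j then 4 * t * u j else 0 := by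
    intro p
    unfold vecA
    by_cases h1 : p = i
    · rw [if_pos h1, if_pos h1, h1]; ring
    · rw [if_neg h1, if_neg h1]
      by_cases h2 : p = j
      · rw [if_pos h2, if_pos h2, h2]; ring
      · rw [if_neg h2, if_neg h2]; ring
  rw [Finset.sum_congr rfl (fun p _ => this p), sum_two hij]

/-- The sign of an integer, with value `-1` at `0`. -/
def sgI (a : ℤ) : ℤ := if 0 < a then 1 else -1

theorem sgI_cases (a : ℤ) : sgI a = 1 ∨ sgI a = -1 := by
  unfold sgI
  split_ifs <;> simp

theorem sgI_mul (a : ℤ) : sgI a * a = |a| := by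
  unfold sgI
  split_ifs with h
  · rw [abs_of_pos h]; ring
  · rw [abs_of_nonpos (not_lt.mp h)]; ring

theorem vecA_sg (u : GolayPt → ℤ) {i j : GolayPt} (hij : i ≠ j) :
    vecA i j (sgI (u i)) (sgI (u j)) ∈ leechLattice ∧
      sqNorm (vecA i j (sgI (u i)) (sgI (u j))) = 32 ∧
      dotInt u (vecA i j (sgI (u i)) (sgI (u j))) = 4 * |u i| + 4 * |u j| := by
  refine ⟨vecA_mem hij (sgI_cases _) (sgI_cases _), sqNorm_vecA hij (sgI_cases _) (sgI_cases _), ?_⟩
  rw [dot_vecA u hij, mul_assoc, mul_assoc, sgI_mul, sgI_mul]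

/-! ### Vectors of sum of squares `48`: a minimal vector with inner product `24` -/

theorem dot24_odd {u : GolayPt → ℤ} (hu : u ∈ leechLattice) (hn : sqNorm u = 48)
    (ho : u none % 2 = 1) : ∃ v ∈ leechLattice, sqNorm v = 32 ∧ dotInt u v = 24 := by
  classical
  have hodd : ∀ i, u i % 2 = 1 := fun i => by
    have := parity_of_mem hu i none
    omega
  have hsum := sum_excess u
  rw [hn] at hsum
  have hex : ∃ i, u i ^ 2 - 1 ≠ 0 := by
    by_contra hc
    push Not at hc
    rw [Finset.sum_eq_zero (fun i _ => hc i)] at hsum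
    omega
  obtain ⟨i, hi⟩ := hex
  have hi1 := excess_le hodd {i}
  rw [Finset.sum_singleton, hn] at hi1
  have hiv : u i = 3 ∨ u i = -3 ∨ u i = 5 ∨ u i = -5 := by
    have h2 : u i ≤ 5 := by nlinarith
    have h3 : -5 ≤ u i := by nlinarith
    have h4 := hodd i
    have h5 : u i ≠ 1 := fun h => hi (by rw [h]; norm_num)
    have h6 : u i ≠ -1 := fun h => hi (by rw [h]; norm_num)
    omega
  by_cases h5 : u i = 5 ∨ u i = -5
  · obtain ⟨j, hji⟩ : ∃ j, j ≠ i := by
      by_cases h : i = none
      · exact ⟨some 0, by rw [h]; simp⟩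
      · exact ⟨none, fun h' => h h'.symm⟩
    have hj1 := excess_le hodd {i, j}
    rw [Finset.sum_insert (by simpa using Ne.symm hji), Finset.sum_singleton, hn] at hj1
    have e1 : u i ^ 2 = 25 := by rcases h5 with h | h <;> rw [h] <;> norm_num
    have hjv := sq_le_one (by omega) (hodd j)
    obtain ⟨m1, m2, m3⟩ := vecA_sg u (Ne.symm hji)
    refine ⟨_, m1, m2, ?_⟩
    rw [m3]
    rcases h5 with h | h <;> rcases hjv with h' | h' <;> rw [h, h'] <;> norm_num
  · have h3 : u i = 3 ∨ u i = -3 := by tauto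
    have e1 : u i ^ 2 = 9 := by rcases h3 with h | h <;> rw [h] <;> norm_num
    have hex2 : ∃ j, j ≠ i ∧ u j ^ 2 - 1 ≠ 0 := by
      by_contra hc
      push Not at hc
      rw [Finset.sum_eq_single i (fun j _ hj => hc j hj)
        (fun h => absurd (Finset.mem_univ i) h)] at hsum
      omega
    obtain ⟨j, hji, hj⟩ := hex2
    have hj1 := excess_le hodd {i, j}
    rw [Finset.sum_insert (by simpa using Ne.symm hji), Finset.sum_singleton, hn] at hj1
    have hjv : u j = 3 ∨ u j = -3 := by
      have h2 : u j ≤ 4 := by nlinarith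
      have h3' : -4 ≤ u j := by nlinarith
      have h4 := hodd j
      have h5' : u j ≠ 1 := fun h => hj (by rw [h]; norm_num)
      have h6 : u j ≠ -1 := fun h => hj (by rw [h]; norm_num)
      omega
    obtain ⟨m1, m2, m3⟩ := vecA_sg u (Ne.symm hji)
    refine ⟨_, m1, m2, ?_⟩
    rw [m3]
    rcases h3 with h | h <;> rcases hjv with h' | h' <;> rw [h, h'] <;> norm_num

theorem dot24_even_big {u : GolayPt → ℤ} (hu : u ∈ leechLattice) (hn : sqNorm u = 48)
    (he : u none % 2 = 0) (p : GolayPt) (hp : 16 ≤ u p ^ 2) :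
    ∃ v ∈ leechLattice, sqNorm v = 32 ∧ dotInt u v = 24 := by
  classical
  have heven : ∀ i, u i % 2 = 0 := fun i => by
    have := parity_of_mem hu i none
    omega
  have hm := mem_support_bitWord heven
  have hb : bitWord u ∈ golayCode := bitWord_mem hu
  have hSne : (support₂ (bitWord u)).Nonempty := by
    by_contra hc
    rw [Finset.not_nonempty_iff_eq_empty] at hc
    have h4 : ∀ i, u i % 4 = 0 := by
      intro i
      have h1 : i ∉ support₂ (bitWord u) := by rw [hc]; simp
      rw [hm] at h1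
      have := heven i
      omega
    have ht : typeWord u = 0 := by
      funext i
      simp only [typeWord, gBit_eq, cast_half, Pi.zero_apply]
      have h1 := h4 i
      have h2 := h4 none
      rw [if_neg (by omega), if_neg (by omega)]
      simp
    have := sqNorm_dvd_of_typeWord hu ht
    rw [hn] at this
    omega
  obtain ⟨q, hq⟩ := hSne
  have hq4 : u q % 4 = 2 := (hm q).mp hq
  have hpS : u p % 4 = 0 := by
    by_contra hc
    have hp2 : u p % 4 = 2 := by have := heven p; omega
    have hpS : p ∈ support₂ (bitWord u) := (hm p).mpr hp2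
    have h36 : 36 ≤ u p ^ 2 := by
      have h1 : u p ≤ -6 ∨ 6 ≤ u p := by
        by_contra hcc
        push Not at hcc
        have h2 : u p = 2 ∨ u p = -2 := by omega
        rcases h2 with h | h <;> rw [h] at hp <;> norm_num at hp
      rcases h1 with h | h <;> nlinarith
    have hcard : 8 ≤ (support₂ (bitWord u)).card := by
      rcases weight_cases _ hb with h | h | h | h | h
      · exfalso
        rw [h] at hpS
        simp [support₂] at hpS
      all_goals omega
    have hge4 : ∀ i ∈ support₂ (bitWord u), 0 ≤ u i ^ 2 - 4 := by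
      intro i hi
      have h2 := (hm i).mp hi
      have h3 : u i ≤ -2 ∨ 2 ≤ u i := by omega
      rcases h3 with h | h <;> nlinarith
    have h1 : u p ^ 2 - 4 ≤ ∑ i ∈ support₂ (bitWord u), (u i ^ 2 - 4) :=
      Finset.single_le_sum hge4 hpS
    have h2 : ∑ i ∈ support₂ (bitWord u), u i ^ 2 ≤ 48 := hn ▸ sq_sum_le u _
    rw [Finset.sum_sub_distrib, Finset.sum_const, nsmul_eq_mul] at h1
    have h3 : (8 : ℤ) ≤ ((support₂ (bitWord u)).card : ℤ) := by exact_mod_cast hcard
    linarith
  have hpq : p ≠ q := fun h => by rw [h] at hpS; omega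
  have hs2 := sq_sum_le u {p, q}
  rw [Finset.sum_insert (by simpa using hpq), Finset.sum_singleton, hn] at hs2
  have hq4' : 4 ≤ u q ^ 2 := by
    have h1 : u q ≤ -2 ∨ 2 ≤ u q := by omega
    rcases h1 with h | h <;> nlinarith
  have hpv : u p = 4 ∨ u p = -4 := by
    have h2 : u p ≤ 6 := by nlinarith
    have h3 : -6 ≤ u p := by nlinarith
    have h0 : u p ≠ 0 := fun h => by rw [h] at hp; norm_num at hp
    omega
  have hqv : u q = 2 ∨ u q = -2 := by
    have h2 : u q ≤ 5 := by nlinarith
    have h3 : -5 ≤ u q := by nlinarith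
    omega
  obtain ⟨m1, m2, m3⟩ := vecA_sg u hpq
  refine ⟨_, m1, m2, ?_⟩
  rw [m3]
  rcases hpv with h | h <;> rcases hqv with h' | h' <;> rw [h, h'] <;> norm_num

/-- A vector with entries `±2` on the set `O`: the entries of `u` on `O ∩ S`, the entry `t` at
`q` and `2` at the other points of `O`. -/
def octVec (O S : Finset GolayPt) (u : GolayPt → ℤ) (q : GolayPt) (t : ℤ) : GolayPt → ℤ :=
  fun i => if i ∈ O then (if i ∈ S then u i else if i = q then t else 2) else 0

theorem octVec_val {O S : Finset GolayPt} {u : GolayPt → ℤ} (hS2 : ∀ i, i ∈ S → (u i = 2 ∨ u i = -2))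
    (q : GolayPt) {t : ℤ} (ht : t = 2 ∨ t = -2) (i : GolayPt) :
    (i ∈ O → (octVec O S u q t i = 2 ∨ octVec O S u q t i = -2)) ∧
      (i ∉ O → octVec O S u q t i = 0) := by
  unfold octVec
  constructor
  · intro hi
    rw [if_pos hi]
    by_cases h1 : i ∈ S
    · rw [if_pos h1]; exact hS2 i h1
    · rw [if_neg h1]
      by_cases h2 : i = q
      · rw [if_pos h2]; exact ht
      · rw [if_neg h2]; exact Or.inl rfl
  · intro hi
    rw [if_neg hi]

theorem octVec_props {O S : Finset GolayPt} {u : GolayPt → ℤ}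
    (hS2 : ∀ i, i ∈ S → (u i = 2 ∨ u i = -2)) (hSz : ∀ i, i ∉ S → u i = 0)
    {w : GolayPt → ZMod 2} (hw : w ∈ golayCode) (hwO : support₂ w = O) (hO8 : O.card = 8)
    (hk : (O ∩ S).card = 6) (q : GolayPt) {t : ℤ} (ht : t = 2 ∨ t = -2) :
    (∑ i, octVec O S u q t i) % 4 = 0 ∧ sqNorm (octVec O S u q t) = 32 ∧
      dotInt u (octVec O S u q t) = 24 ∧
      ((∑ i, octVec O S u q t i) % 8 = 0 → octVec O S u q t ∈ leechLattice) := by
  classical
  have hv := octVec_val (O := O) hS2 q ht
  refine ⟨?_, ?_, ?_, ?_⟩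
  · have hterm : ∀ i, (4 : ℤ) ∣ octVec O S u q t i - (if i ∈ O then (2 : ℤ) else 0) := by
      intro i
      by_cases hi : i ∈ O
      · rw [if_pos hi]
        rcases (hv i).1 hi with h | h <;> rw [h] <;> norm_num
      · rw [if_neg hi, (hv i).2 hi]; norm_num
    have hs := Finset.dvd_sum (fun i (_ : i ∈ Finset.univ) => hterm i)
    rw [Finset.sum_sub_distrib, Finset.sum_ite_mem, Finset.univ_inter, Finset.sum_const,
      nsmul_eq_mul, hO8] at hs
    push_cast at hs
    omega
  · unfold sqNorm
    have hterm : ∀ i, octVec O S u q t i ^ 2 = if i ∈ O then (4 : ℤ) else 0 := by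
      intro i
      by_cases hi : i ∈ O
      · rw [if_pos hi]
        rcases (hv i).1 hi with h | h <;> rw [h] <;> norm_num
      · rw [if_neg hi, (hv i).2 hi]; norm_num
    rw [Finset.sum_congr rfl (fun i _ => hterm i), Finset.sum_ite_mem, Finset.univ_inter,
      Finset.sum_const, nsmul_eq_mul, hO8]
    norm_num
  · unfold dotInt
    have hterm : ∀ i, u i * octVec O S u q t i = if i ∈ O ∩ S then (4 : ℤ) else 0 := by
      intro i
      by_cases hi : i ∈ O
      · by_cases hiS : i ∈ S
        · rw [if_pos (Finset.mem_inter.mpr ⟨hi, hiS⟩)]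
          unfold octVec
          rw [if_pos hi, if_pos hiS]
          rcases hS2 i hiS with h | h <;> rw [h] <;> norm_num
        · rw [if_neg (fun h => hiS (Finset.mem_inter.mp h).2), hSz i hiS, zero_mul]
      · rw [if_neg (fun h => hi (Finset.mem_inter.mp h).1), (hv i).2 hi, mul_zero]
    rw [Finset.sum_congr rfl (fun i _ => hterm i), Finset.sum_ite_mem, Finset.univ_inter,
      Finset.sum_const, nsmul_eq_mul, hk]
    norm_num
  · intro h8
    rw [mem_leechLattice_iff]
    refine ⟨0, fun i => ?_, ?_, ?_⟩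
    · unfold Int.ModEq
      by_cases hi : i ∈ O
      · rcases (hv i).1 hi with h | h <;> rw [h] <;> norm_num
      · rw [(hv i).2 hi]
    · unfold Int.ModEq
      omega
    · have hbw : bitWord (octVec O S u q t) = w := by
        funext i
        unfold bitWord
        rw [cast_half]
        have hwi : i ∈ O ↔ w i ≠ 0 := by
          rw [← hwO]
          simp [support₂]
        by_cases hi : i ∈ O
        · have h1 : w i = 1 := by
            rcases zmod2_cases (w i) with h | h
            · exact absurd h (hwi.mp hi)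
            · exact h
          rw [h1]
          rcases (hv i).1 hi with h | h <;> rw [h] <;> norm_num
        · have h1 : w i = 0 := by
            by_contra hc
            exact hi (hwi.mpr hc)
          rw [h1, (hv i).2 hi]
          norm_num
      rw [hbw]
      exact hw

theorem dot24_dodecad {u : GolayPt → ℤ} (hu : u ∈ leechLattice) (hn : sqNorm u = 48)
    (hval : ∀ i, u i = 0 ∨ u i = 2 ∨ u i = -2) :
    ∃ v ∈ leechLattice, sqNorm v = 32 ∧ dotInt u v = 24 := by
  classical
  have heven : ∀ i, u i % 2 = 0 := fun i => by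
    rcases hval i with h | h | h <;> rw [h] <;> norm_num
  have hm := mem_support_bitWord heven
  have hb : bitWord u ∈ golayCode := bitWord_mem hu
  obtain ⟨S, hS⟩ : ∃ S, S = support₂ (bitWord u) := ⟨_, rfl⟩
  rw [← hS] at hm
  have hSz : ∀ i, i ∉ S → u i = 0 := by
    intro i hi
    rw [hm] at hi
    rcases hval i with h | h | h
    · exact h
    · rw [h] at hi; norm_num at hi
    · rw [h] at hi; norm_num at hi
  have hS2 : ∀ i, i ∈ S → (u i = 2 ∨ u i = -2) := by
    intro i hi
    rw [hm] at hi
    rcases hval i with h | h | h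
    · rw [h] at hi; norm_num at hi
    · exact Or.inl h
    · exact Or.inr h
  have hcard : S.card = 12 := by
    have h1 : sqNorm u = ∑ i, if i ∈ S then (4 : ℤ) else 0 := by
      unfold sqNorm
      refine Finset.sum_congr rfl (fun i _ => ?_)
      by_cases hi : i ∈ S
      · rw [if_pos hi]
        rcases hS2 i hi with h | h <;> rw [h] <;> norm_num
      · rw [if_neg hi, hSz i hi]; norm_num
    rw [hn, Finset.sum_ite_mem, Finset.univ_inter, Finset.sum_const, nsmul_eq_mul] at h1
    have h2 : (S.card : ℤ) = 12 := by omega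
    exact_mod_cast h2
  obtain ⟨T, hTS, hT5⟩ := Finset.exists_subset_card_eq (show 5 ≤ S.card by omega)
  obtain ⟨O, hO, hTO⟩ := Cfsg.Agent.Lib.Helper93.octad_exists hT5
  obtain ⟨⟨w, hw, hwO⟩, hO8⟩ := hO
  have hsd : support₂ (w + bitWord u) = O ∆ S := by
    ext i
    have hwi : i ∈ O ↔ w i ≠ 0 := by
      rw [← hwO]
      simp [support₂]
    have hbi : i ∈ S ↔ bitWord u i ≠ 0 := by
      rw [hS]
      simp [support₂]
    simp only [support₂, Finset.mem_filter, Finset.mem_univ, true_and, Pi.add_apply,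
      Finset.mem_symmDiff]
    rw [hwi, hbi]
    rcases zmod2_cases (w i) with h1 | h1 <;> rcases zmod2_cases (bitWord u i) with h2 | h2 <;>
      rw [h1, h2] <;> decide
  have hk : (O ∩ S).card = 6 := by
    have h1 := Cfsg.Agent.Lib.Helper93.card_symmDiff_add O S
    have h2 : 5 ≤ (O ∩ S).card := by
      rw [← hT5]
      exact Finset.card_le_card (Finset.subset_inter hTO hTS)
    have h3 : (O ∩ S).card ≤ 8 := by
      rw [← hO8]
      exact Finset.card_le_card Finset.inter_subset_left
    rcases weight_cases _ (golayCode.add_mem hw hb) with h | h | h | h | h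
    · have h4 : (O ∆ S).card = 0 := by
        rw [← hsd, h]
        simp [support₂]
      omega
    all_goals (rw [hsd] at h; omega)
  have hdiff : (O \ S).card = 2 := by
    have := Finset.card_sdiff_add_card_inter O S
    omega
  obtain ⟨q₁, q₂, hq12, hqe⟩ := Finset.card_eq_two.mp hdiff
  have hq2 : q₂ ∈ O \ S := by rw [hqe]; simp
  obtain ⟨hq2O, hq2S⟩ := Finset.mem_sdiff.mp hq2
  obtain ⟨a1, a2, a3, a4⟩ := octVec_props hS2 hSz hw hwO hO8 hk q₂ (t := 2) (Or.inl rfl)
  obtain ⟨b1, b2, b3, b4⟩ := octVec_props hS2 hSz hw hwO hO8 hk q₂ (t := -2) (Or.inr rfl)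
  have hdiffsum : ∑ i, octVec O S u q₂ 2 i = ∑ i, octVec O S u q₂ (-2) i + 4 := by
    have hterm : ∀ i, octVec O S u q₂ 2 i =
        octVec O S u q₂ (-2) i + (if i = q₂ then (4 : ℤ) else 0) := by
      intro i
      unfold octVec
      by_cases hi : i = q₂
      · rw [hi, if_pos hq2O, if_pos hq2O, if_neg hq2S, if_neg hq2S]
        simp
      · simp [hi]
    rw [Finset.sum_congr rfl (fun i _ => hterm i), Finset.sum_add_distrib, Finset.sum_ite_eq']
    simp
  by_cases h8 : (∑ i, octVec O S u q₂ 2 i) % 8 = 0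
  · exact ⟨_, a4 h8, a2, a3⟩
  · exact ⟨_, b4 (by omega), b2, b3⟩

/-- Every lattice vector with sum of squares `48` has inner product `24` with some minimal
vector. -/
theorem exists_dot24 {u : GolayPt → ℤ} (hu : u ∈ leechLattice) (hn : sqNorm u = 48) :
    ∃ v ∈ leechLattice, sqNorm v = 32 ∧ dotInt u v = 24 := by
  by_cases ho : u none % 2 = 1
  · exact dot24_odd hu hn ho
  · have he : u none % 2 = 0 := by omega
    by_cases hbig : ∃ p, 16 ≤ u p ^ 2
    · obtain ⟨p, hp⟩ := hbig
      exact dot24_even_big hu hn he p hp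
    · push Not at hbig
      apply dot24_dodecad hu hn
      intro i
      have h1 := hbig i
      have h2 : u i % 2 = 0 := by
        have := parity_of_mem hu i none
        omega
      have h3 : u i ≤ 3 := by nlinarith
      have h4 : -3 ≤ u i := by nlinarith
      omega

/-- Every lattice vector with sum of squares `48` is the sum of two minimal vectors with inner
product `-8`. -/
theorem decomp48 {u : GolayPt → ℤ} (hu : u ∈ leechLattice) (hn : sqNorm u = 48) :
    ∃ v w, v ∈ leechLattice ∧ w ∈ leechLattice ∧ sqNorm v = 32 ∧ sqNorm w = 32 ∧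
      dotInt v w = -8 ∧ u = v + w := by
  obtain ⟨v, hv, hvn, hd⟩ := exists_dot24 hu hn
  have hwn : sqNorm (u - v) = 32 := by
    rw [sqNorm_sub]
    omega
  refine ⟨v, u - v, hv, sub_mem hu hv, hvn, hwn, ?_, by abel⟩
  have h3 : sqNorm (v + (u - v)) = 48 := by rw [add_sub_cancel]; exact hn
  have := dot_of_norms hvn hwn h3
  omega

/-- The automorphism group is transitive on the lattice vectors with sum of squares `48`. -/
theorem co0_trans_48 (x x' : leechLattice) (hx : sqNorm (x : GolayPt → ℤ) = 48)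
    (hx' : sqNorm (x' : GolayPt → ℤ) = 48) : ∃ g : Co0, g • x = x' := by
  obtain ⟨v, w, hv, hw, hvn, hwn, hd, e⟩ := decomp48 x.2 hx
  obtain ⟨v', w', hv', hw', hvn', hwn', hd', e'⟩ := decomp48 x'.2 hx'
  obtain ⟨g, h1, h2⟩ := pair_transfer trans8 ⟨v, hv⟩ ⟨w, hw⟩ ⟨v', hv'⟩ ⟨w', hw'⟩ hvn hwn hvn' hwn'
    hd hd'
  refine ⟨g, ?_⟩
  have ex : x = ⟨v, hv⟩ + ⟨w, hw⟩ := Subtype.ext e
  have ex' : x' = ⟨v', hv'⟩ + ⟨w', hw'⟩ := Subtype.ext e'
  rw [ex, ex', co0_smul_add, h1, h2]

end Cfsg.Agent.Lib.Helper92
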