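import Cfsg.Agent.Lib.Helper92.LeechCensus
import Cfsg.Agent.Lib.Helper92.LeechDecomp48

set_option autoImplicit false

open scoped Pointwise

namespace Cfsg.Agent.Lib.Helper92

open Cfsg Cfsg.Spor Cfsg.Agent.Lib.Helper7

/-! ### Decompositions of a vector of sum of squares `48` into two minimal vectors -/

/-- The finite set of lattice vectors with sum of squares `48`. -/
noncomputable def F48 : Finset (GolayPt → ℤ) := shortF.filter (fun y => sqNorm y = 48)

theorem mem_F48 {y : GolayPt → ℤ} : y ∈ F48 ↔ y ∈ leechLattice ∧ sqNorm y = 48 := by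
  unfold F48
  rw [Finset.mem_filter, mem_shortF]
  constructor
  · rintro ⟨⟨h1, -⟩, h2⟩
    exact ⟨h1, h2⟩
  · rintro ⟨h1, h2⟩
    exact ⟨⟨h1, by omega⟩, h2⟩

theorem card_F48 : F48.card = 16773120 := (card_filter_short 48 (by norm_num)).trans count48

/-- The number of minimal vectors `v` with `u - v` minimal. -/
noncomputable def md (u : GolayPt → ℤ) : ℕ := (minF.filter (fun v => sqNorm (u - v) = 32)).card

theorem co0_smul_sub (g : Co0) (v w : leechLattice) : g • (v - w) = g • v - g • w := by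
  have h := co0_smul_add g (v - w) w
  rw [sub_add_cancel] at h
  rw [h, add_sub_cancel_right]

theorem md_const {u u' : GolayPt → ℤ} (hu : u ∈ F48) (hu' : u' ∈ F48) : md u = md u' := by
  obtain ⟨huL, hun⟩ := mem_F48.mp hu
  obtain ⟨huL', hun'⟩ := mem_F48.mp hu'
  obtain ⟨g, hg⟩ := co0_trans_48 ⟨u, huL⟩ ⟨u', huL'⟩ hun hun'
  have key : ∀ (g : Co0) (u u' : leechLattice), g • u = u' → ∀ w : leechLattice,
      sqNorm ((u : GolayPt → ℤ) - (w : GolayPt → ℤ)) = 32 →
      sqNorm ((u' : GolayPt → ℤ) - ((g • w : leechLattice) : GolayPt → ℤ)) = 32 := by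
    intro g u u' hg w hw
    have h1 := co0_smul_sqNorm g (u - w)
    rw [co0_smul_sub, hg] at h1
    exact h1.trans hw
  unfold md
  refine Finset.card_bij (fun w hw => ((g • (⟨w, (mem_minF.mp (Finset.mem_filter.mp hw).1).1⟩ :
    leechLattice) : leechLattice) : GolayPt → ℤ)) ?_ ?_ ?_
  · intro w hw
    obtain ⟨hw1, hw2⟩ := Finset.mem_filter.mp hw
    obtain ⟨hwL, hwn⟩ := mem_minF.mp hw1
    rw [Finset.mem_filter, mem_minF]
    exact ⟨⟨Subtype.coe_prop _, by rw [co0_smul_sqNorm]; exact hwn⟩,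
      key g ⟨u, huL⟩ ⟨u', huL'⟩ hg ⟨w, hwL⟩ hw2⟩
  · intro w₁ hw₁ w₂ hw₂ h
    have h' := smul_left_cancel g (Subtype.ext h)
    exact congrArg Subtype.val h'
  · intro w hw
    obtain ⟨hw1, hw2⟩ := Finset.mem_filter.mp hw
    obtain ⟨hwL, hwn⟩ := mem_minF.mp hw1
    have hm : ((g⁻¹ • (⟨w, hwL⟩ : leechLattice) : leechLattice) : GolayPt → ℤ) ∈
        minF.filter (fun v => sqNorm (u - v) = 32) := by
      rw [Finset.mem_filter, mem_minF]
      exact ⟨⟨Subtype.coe_prop _, by rw [co0_smul_sqNorm]; exact hwn⟩,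
        key g⁻¹ ⟨u', huL'⟩ ⟨u, huL⟩ (by rw [← hg, inv_smul_smul]) ⟨w, hwL⟩ hw2⟩
    refine ⟨_, hm, ?_⟩
    show ((g • (g⁻¹ • (⟨w, hwL⟩ : leechLattice)) : leechLattice) : GolayPt → ℤ) = w
    rw [smul_inv_smul]

theorem pairs48_card : (minF.sigma (fun v => minF.filter (fun w => dotInt v w = -8))).card =
    (F48.sigma (fun u => minF.filter (fun v => sqNorm (u - v) = 32))).card := by
  refine Finset.card_nbij' (fun p => ⟨p.1 + p.2, p.1⟩) (fun q => ⟨q.2, q.1 - q.2⟩) ?_ ?_ ?_ ?_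
  · intro p hp
    rw [Finset.mem_coe, Finset.mem_sigma, Finset.mem_filter] at hp
    obtain ⟨h1, h2, h3⟩ := hp
    obtain ⟨h1L, h1n⟩ := mem_minF.mp h1
    obtain ⟨h2L, h2n⟩ := mem_minF.mp h2
    rw [Finset.mem_coe, Finset.mem_sigma, Finset.mem_filter]
    refine ⟨mem_F48.mpr ⟨add_mem h1L h2L, by rw [sqNorm_add]; omega⟩, h1, ?_⟩
    show sqNorm (p.1 + p.2 - p.1) = 32
    rw [add_sub_cancel_left]
    exact h2n
  · intro q hq
    rw [Finset.mem_coe, Finset.mem_sigma, Finset.mem_filter] at hq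
    obtain ⟨h1, h2, h3⟩ := hq
    obtain ⟨h1L, h1n⟩ := mem_F48.mp h1
    obtain ⟨h2L, h2n⟩ := mem_minF.mp h2
    rw [Finset.mem_coe, Finset.mem_sigma, Finset.mem_filter]
    refine ⟨h2, mem_minF.mpr ⟨sub_mem h1L h2L, h3⟩, ?_⟩
    show dotInt q.2 (q.1 - q.2) = -8
    have h4 : sqNorm (q.2 + (q.1 - q.2)) = 48 := by rw [add_sub_cancel]; exact h1n
    have := dot_of_norms h2n h3 h4
    omega
  · intro p _
    show (⟨p.1, p.1 + p.2 - p.1⟩ : Σ _ : (GolayPt → ℤ), (GolayPt → ℤ)) = p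
    rw [add_sub_cancel_left]
  · intro q _
    show (⟨q.2 + (q.1 - q.2), q.2⟩ : Σ _ : (GolayPt → ℤ), (GolayPt → ℤ)) = q
    rw [add_sub_cancel]

theorem md_val {u : GolayPt → ℤ} (hu : u ∈ F48) : md u = 552 := by
  have h := pairs48_card
  have e : ∀ v ∈ minF, (minF.filter (fun w => dotInt v w = -8)).card = 47104 :=
    fun v hv => (census hv).2.1
  have e' : ∀ x ∈ F48, (minF.filter (fun v => sqNorm (x - v) = 32)).card = md u :=
    fun x hx => md_const hx hu
  rw [Finset.card_sigma, Finset.card_sigma, Finset.sum_congr rfl e, Finset.sum_const, card_minF,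
    Finset.sum_congr rfl e', Finset.sum_const, card_F48] at h
  simp only [smul_eq_mul] at h
  omega

end Cfsg.Agent.Lib.Helper92
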