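import Cfsg.Agent.Lib.Helper92.LeechCenter
import Cfsg.Agent.Lib.Helper7.GolayM24
import Cfsg.Prelude.Def_SporadicCombinatorics

set_option autoImplicit false

namespace Cfsg.Agent.Lib.Helper92

open Cfsg Cfsg.Agent.Lib.Helper7

/-- `g` maps the standard cross into itself. -/
def StabCross (g : Co0) : Prop :=
  ∀ v : leechLattice, (v : GolayPt → ℤ) ∈ stdCross →
    ((g • v : leechLattice) : GolayPt → ℤ) ∈ stdCross

theorem vecEight_eq_single (i : GolayPt) : vecEight i = Pi.single i 8 := by
  funext j
  simp [vecEight, Pi.single_apply]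

theorem latEight_mem_stdCross (i : GolayPt) : ((latEight i : leechLattice) : GolayPt → ℤ) ∈ stdCross :=
  ⟨i, 8, Or.inl rfl, vecEight_eq_single i⟩

theorem dotInt_single (y : GolayPt → ℤ) (k : GolayPt) (a : ℤ) :
    dotInt y (Pi.single k a) = y k * a := by
  unfold dotInt
  rw [Finset.sum_eq_single k]
  · simp
  · intro j _ hj
    simp [hj]
  · intro h; exact absurd (Finset.mem_univ k) h

theorem cast_half_cases (a : ℤ) (h : a = 2 ∨ a = -2 ∨ a = 3 ∨ a = -1) : ((a / 2 : ℤ) : ZMod 2) = 1 := by
  rcases h with h | h | h | h <;> rw [h] <;> decide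

theorem cast_half_cases0 (a : ℤ) (h : a = 0 ∨ a = 1 ∨ a = -3) : ((a / 2 : ℤ) : ZMod 2) = 0 := by
  rcases h with h | h | h <;> rw [h] <;> decide

/-- Structure of an automorphism preserving the standard cross: a signed permutation with
permutation part in `M24` and sign word in the code. -/
theorem stab_cross_struct (g : Co0) (hg : StabCross g) :
    ∃ σ ∈ M24, ∃ u ∈ golayCode, ∀ x : leechLattice,
      (((g : Equiv.Perm leechLattice) x : leechLattice) : GolayPt → ℤ) =
        signVec u (permVec σ (x : GolayPt → ℤ)) := by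
  have hgm : (g : Equiv.Perm leechLattice) ∈ Co0 := g.2
  have h1 : ∀ i : GolayPt, ∃ (k : GolayPt) (t : ℤ), (t = 8 ∨ t = -8) ∧
      (((g : Equiv.Perm leechLattice) (latEight i) : leechLattice) : GolayPt → ℤ) = Pi.single k t :=
    fun i => hg (latEight i) (latEight_mem_stdCross i)
  choose τ t ht hτ using h1
  -- `τ` is injective
  have hinj : Function.Injective τ := by
    intro i j hij
    by_contra hne
    have h := co0_dotInt hgm (latEight i) (latEight j)
    rw [hτ i, hτ j, dotInt_single] at h
    have h2 : dotInt ((latEight i : leechLattice) : GolayPt → ℤ) (latEight j : leechLattice) = 0 := by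
      show dotInt (vecEight i) (vecEight j) = 0
      rw [dotInt_vecEight]
      simp [vecEight, Ne.symm hne]
    rw [h2, hij] at h
    simp only [Pi.single_eq_same] at h
    rcases ht i with hi | hi <;> rcases ht j with hj | hj <;> rw [hi, hj] at h <;> omega
  have hbij : Function.Bijective τ := Finite.injective_iff_bijective.mp hinj
  let σ : Equiv.Perm GolayPt := Equiv.ofBijective τ hbij
  have hσ : ∀ i, σ i = τ i := fun i => rfl
  -- coordinates of images
  have hcoord : ∀ (x : leechLattice) (i : GolayPt),
      (((g : Equiv.Perm leechLattice) x : leechLattice) : GolayPt → ℤ) (τ i) * t i =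
        8 * (x : GolayPt → ℤ) i := by
    intro x i
    have h := co0_dotInt hgm x (latEight i)
    rw [hτ i, dotInt_single] at h
    rw [h]
    exact dotInt_vecEight _ i
  let s : GolayPt → ℤ := fun i => t i / 8
  have hs : ∀ i, s i = 1 ∨ s i = -1 := by
    intro i
    rcases ht i with h | h
    · left; show t i / 8 = 1; rw [h]; norm_num
    · right; show t i / 8 = -1; rw [h]; norm_num
  have hcoord' : ∀ (x : leechLattice) (j : GolayPt),
      (((g : Equiv.Perm leechLattice) x : leechLattice) : GolayPt → ℤ) j =
        s (σ.symm j) * (x : GolayPt → ℤ) (σ.symm j) := by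
    intro x j
    have h := hcoord x (σ.symm j)
    rw [← hσ, Equiv.apply_symm_apply] at h
    show _ = t (σ.symm j) / 8 * _
    rcases ht (σ.symm j) with h' | h'
    · rw [h'] at h ⊢
      norm_num
      omega
    · rw [h'] at h ⊢
      norm_num
      omega
  let u : GolayPt → ZMod 2 := fun j => if s (σ.symm j) = -1 then 1 else 0
  have hsgn : ∀ j, sgn u j = s (σ.symm j) := by
    intro j
    show (if (if s (σ.symm j) = -1 then (1 : ZMod 2) else 0) = 1 then (-1 : ℤ) else 1) = s (σ.symm j)
    rcases hs (σ.symm j) with h | h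
    · rw [h]; simp
    · rw [h]; simp
  have hform : ∀ x : leechLattice,
      (((g : Equiv.Perm leechLattice) x : leechLattice) : GolayPt → ℤ) =
        signVec u (permVec σ (x : GolayPt → ℤ)) := by
    intro x
    funext j
    rw [hcoord' x j]
    show _ = sgn u j * (x : GolayPt → ℤ) (σ.symm j)
    rw [hsgn]
  -- the permutation lies in `M24`
  have hσM : σ ∈ M24 := by
    apply mem_M24_of_forall
    intro w hw
    have hx := two_ind_mem hw
    have himg := ((g : Equiv.Perm leechLattice) ⟨_, hx⟩).2
    obtain ⟨m, -, -, hb⟩ := (mem_leechLattice_iff _).mp himg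
    have e : bitWord (((g : Equiv.Perm leechLattice) ⟨_, hx⟩ : leechLattice) : GolayPt → ℤ)
        = w ∘ σ.symm := by
      funext j
      simp only [bitWord, Function.comp_apply]
      rw [hcoord' ⟨_, hx⟩ j]
      show ((s (σ.symm j) * (if w (σ.symm j) = 1 then (2 : ℤ) else 0) / 2 : ℤ) : ZMod 2) = w (σ.symm j)
      rcases zmod2_cases (w (σ.symm j)) with h0 | h0
      · rw [h0, if_neg (by decide), mul_zero]; decide
      · rw [h0, if_pos rfl]
        rcases hs (σ.symm j) with h | h
        · rw [h]; decide
        · rw [h]; decide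
    rw [e] at hb
    exact hb
  -- the sign word lies in the code
  have hu : u ∈ golayCode := by
    have himg := ((g : Equiv.Perm leechLattice) ⟨_, vecThree_mem⟩).2
    obtain ⟨m, -, -, hb⟩ := (mem_leechLattice_iff _).mp himg
    have e : bitWord (((g : Equiv.Perm leechLattice) ⟨_, vecThree_mem⟩ : leechLattice) : GolayPt → ℤ)
        = u := by
      funext j
      simp only [bitWord]
      rw [hcoord' ⟨_, vecThree_mem⟩ j]
      show ((s (σ.symm j) * vecThree (σ.symm j) / 2 : ℤ) : ZMod 2) = if s (σ.symm j) = -1 then 1 else 0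
      have hv : vecThree (σ.symm j) = -3 ∨ vecThree (σ.symm j) = 1 := by
        unfold vecThree
        split_ifs
        · left; rfl
        · right; rfl
      rcases hs (σ.symm j) with h | h <;> rcases hv with h' | h'
      · rw [h, h', if_neg (by norm_num)]; decide
      · rw [h, h', if_neg (by norm_num)]; decide
      · rw [h, h', if_pos rfl]; decide
      · rw [h, h', if_pos rfl]; decide
    rw [e] at hb
    exact hb
  exact ⟨σ, hσM, u, hu, hform⟩

theorem signVec_eq_signedPerm (u : GolayPt → ZMod 2) (σ : Equiv.Perm GolayPt) (x : GolayPt → ℤ) :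
    signVec u (permVec σ x) = signedPerm σ (support₂ u) x := by
  funext j
  simp only [signVec, permVec, signedPerm, sgn, support₂, Finset.mem_filter, Finset.mem_univ, true_and]
  rcases zmod2_cases (u j) with h | h
  · rw [h, if_neg (by decide), if_neg (by simp)]; ring
  · rw [h, if_pos rfl, if_pos (by decide)]; ring

/-- First half of the statement on the stabiliser of the standard cross. -/
theorem stab_cross_monomial (g : Co0) (hg : StabCross g) :
    ∃ f ∈ golayMonomialMaps, ∀ v : leechLattice,
      ((g • v : leechLattice) : GolayPt → ℤ) = f (v : GolayPt → ℤ) := by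
  obtain ⟨σ, hσ, u, hu, h⟩ := stab_cross_struct g hg
  refine ⟨signedPerm σ (support₂ u), ⟨σ, hσ, support₂ u, ⟨u, hu, rfl⟩, rfl⟩, fun v => ?_⟩
  rw [← signVec_eq_signedPerm]
  exact h v

/-- The monomial element attached to a permutation of `M24` and a code word. -/
def monoElt (p : M24 × golayCode) : Co0 :=
  ⟨signCo p.2.1 p.2.2, signCo_mem _ _⟩ * ⟨permCo p.1.1 p.1.2, permCo_mem _ _⟩

theorem monoElt_apply (p : M24 × golayCode) (x : leechLattice) :
    (((monoElt p : Equiv.Perm leechLattice) x : leechLattice) : GolayPt → ℤ) =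
      signVec p.2.1 (permVec p.1.1 (x : GolayPt → ℤ)) := rfl

theorem signVec_permVec_single (w : GolayPt → ZMod 2) (σ : Equiv.Perm GolayPt) (i : GolayPt) (a : ℤ) :
    signVec w (permVec σ (Pi.single i a)) = Pi.single (σ i) (sgn w (σ i) * a) := by
  funext j
  simp only [signVec, permVec, Pi.single_apply]
  by_cases h : j = σ i
  · rw [h, Equiv.symm_apply_apply, if_pos rfl, if_pos rfl]
  · have : σ.symm j ≠ i := fun h' => h (by rw [← h', Equiv.apply_symm_apply])
    rw [if_neg this, if_neg h, mul_zero]

theorem monoElt_stab (p : M24 × golayCode) : StabCross (monoElt p) := by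
  rintro v ⟨i, a, ha, hv⟩
  show (((monoElt p : Equiv.Perm leechLattice) v : leechLattice) : GolayPt → ℤ) ∈ stdCross
  rw [monoElt_apply, hv, signVec_permVec_single]
  refine ⟨p.1.1 i, sgn p.2.1 (p.1.1 i) * a, ?_, rfl⟩
  unfold sgn
  split_ifs <;> rcases ha with h | h <;> rw [h] <;> norm_num

theorem monoElt_injective : Function.Injective monoElt := by
  rintro ⟨⟨σ, hσ⟩, ⟨w, hw⟩⟩ ⟨⟨σ', hσ'⟩, ⟨w', hw'⟩⟩ h
  have key : ∀ i : GolayPt, σ i = σ' i ∧ sgn w (σ i) = sgn w' (σ i) := by
    intro i
    have h1 := congrArg (fun g : Co0 => (((g : Equiv.Perm leechLattice) (latEight i) : leechLattice)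
      : GolayPt → ℤ) (σ i)) h
    simp only [monoElt_apply] at h1
    have e : ((latEight i : leechLattice) : GolayPt → ℤ) = Pi.single i 8 := vecEight_eq_single i
    rw [e, signVec_permVec_single, signVec_permVec_single] at h1
    simp only [Pi.single_apply, if_true] at h1
    by_cases hi : σ i = σ' i
    · refine ⟨hi, ?_⟩
      rw [if_pos hi, ← hi] at h1
      omega
    · rw [if_neg hi] at h1
      exfalso
      unfold sgn at h1
      split_ifs at h1 <;> omega
  have hσσ : σ = σ' := Equiv.ext (fun i => (key i).1)
  have hww : w = w' := by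
    funext k
    have h2 := (key (σ.symm k)).2
    rw [Equiv.apply_symm_apply] at h2
    unfold sgn at h2
    rcases zmod2_cases (w k) with h0 | h0 <;> rcases zmod2_cases (w' k) with h0' | h0'
    · rw [h0, h0']
    · rw [h0, h0'] at h2; simp at h2
    · rw [h0, h0'] at h2; simp at h2
    · rw [h0, h0']
  subst hσσ
  subst hww
  rfl

theorem card_stab_cross : Nat.card {g : Co0 // StabCross g} = 4096 * 244823040 := by
  have hbij : Function.Bijective
      (fun p : M24 × golayCode => (⟨monoElt p, monoElt_stab p⟩ : {g : Co0 // StabCross g})) := by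
    constructor
    · intro p q h
      exact monoElt_injective (congrArg Subtype.val h)
    · rintro ⟨g, hg⟩
      obtain ⟨σ, hσ, u, hu, h⟩ := stab_cross_struct g hg
      refine ⟨(⟨σ, hσ⟩, ⟨u, hu⟩), ?_⟩
      apply Subtype.ext
      apply Subtype.ext
      apply Equiv.ext
      intro x
      apply Subtype.ext
      exact (h x).symm
  rw [← Nat.card_eq_of_bijective _ hbij, Nat.card_prod, card_M24]
  have : Nat.card golayCode = 4096 := Cfsg.Agent.Lib.Helper6.Golay.card_golayCode
  rw [this]

end Cfsg.Agent.Lib.Helper92
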