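import Cfsg.Agent.Lib.Helper92.LeechTrans4
import Cfsg.Agent.Lib.Helper92.LeechDecomp48
import Cfsg.Agent.Lib.Helper92.LeechCross

set_option autoImplicit false

open scoped Pointwise

namespace Cfsg.Agent.Lib.Helper92

open Cfsg Cfsg.Spor Cfsg.Agent.Lib.Helper7

/-! ### The standard cross -/

theorem mem_stdCross_iff (y : GolayPt → ℤ) :
    y ∈ stdCross ↔ ∃ i, y = vecEight i ∨ y = -vecEight i := by
  constructor
  · rintro ⟨i, s, hs, rfl⟩
    refine ⟨i, ?_⟩
    rcases hs with rfl | rfl
    · left; exact (vecEight_eq_single i).symm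
    · right; rw [vecEight_eq_single, ← Pi.single_neg]
  · rintro ⟨i, h | h⟩
    · exact ⟨i, 8, Or.inl rfl, h.trans (vecEight_eq_single i)⟩
    · exact ⟨i, -8, Or.inr rfl, by rw [h, vecEight_eq_single, ← Pi.single_neg]⟩

theorem stdCross_sub_lattice {y : GolayPt → ℤ} (hy : y ∈ stdCross) : y ∈ leechLattice := by
  obtain ⟨i, h | h⟩ := (mem_stdCross_iff y).mp hy
  · rw [h]; exact vecEight_mem i
  · rw [h]; exact neg_mem (vecEight_mem i)

theorem stdCross_ncard : stdCross.ncard = 48 := by
  have hrange : stdCross = Set.range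
      (fun p : GolayPt × Bool => (Pi.single p.1 (if p.2 then (8 : ℤ) else -8) : GolayPt → ℤ)) := by
    ext y
    constructor
    · rintro ⟨i, s, hs, rfl⟩
      rcases hs with rfl | rfl
      · exact ⟨(i, true), by simp⟩
      · exact ⟨(i, false), by simp⟩
    · rintro ⟨⟨i, b⟩, rfl⟩
      cases b
      · exact ⟨i, -8, Or.inr rfl, by simp⟩
      · exact ⟨i, 8, Or.inl rfl, by simp⟩
  have hinj : Function.Injective
      (fun p : GolayPt × Bool => (Pi.single p.1 (if p.2 then (8 : ℤ) else -8) : GolayPt → ℤ)) := by
    rintro ⟨i, b⟩ ⟨j, c⟩ h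
    have h1 := congrFun h i
    simp only [Pi.single_apply, if_true] at h1
    have hij : i = j := by
      by_contra hne
      rw [if_neg hne] at h1
      cases b <;> simp at h1
    subst hij
    simp only [if_true] at h1
    have hbc : b = c := by
      cases b <;> cases c <;> simp at h1 <;> rfl
    rw [hbc]
  rw [hrange, Set.ncard_range_of_injective hinj, Nat.card_prod, Nat.card_eq_fintype_card,
    Nat.card_eq_fintype_card, card_golayPt, Fintype.card_bool]

theorem eight_sub (i : GolayPt) (hi : i ≠ none) (t : ℤ) :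
    vecEight none - (fun p => t * vecEight i p) = 2 • vecA none i 1 (-t) := by
  funext p
  simp only [Pi.sub_apply, Pi.smul_apply, vecEight, vecA]
  by_cases h1 : p = none
  · have h2 : p ≠ i := fun h => hi (h.symm.trans h1)
    rw [if_pos h1, if_neg h2, if_pos h1]
    norm_num
  · rw [if_neg h1, if_neg h1]
    by_cases h2 : p = i
    · rw [if_pos h2, if_pos h2]
      ring
    · rw [if_neg h2, if_neg h2]
      norm_num

theorem stdCross_sub_cross : stdCross ⊆ cross (vecEight none) := by
  intro y hy
  refine ⟨stdCross_sub_lattice hy, ?_, ?_⟩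
  · obtain ⟨i, h | h⟩ := (mem_stdCross_iff y).mp hy
    · rw [h, sqNorm_vecEight, sqNorm_vecEight]
    · rw [h, sqNorm_neg', sqNorm_vecEight, sqNorm_vecEight]
  · obtain ⟨i, h | h⟩ := (mem_stdCross_iff y).mp hy
    · by_cases hi : i = none
      · exact ⟨0, leechLattice.zero_mem, by rw [h, hi, sub_self, smul_zero]⟩
      · refine ⟨vecA none i 1 (-1), vecA_mem (Ne.symm hi) (Or.inl rfl) (Or.inr rfl), ?_⟩
        rw [← eight_sub i hi 1, h]
        congr 1
        funext p
        simp
    · by_cases hi : i = none
      · refine ⟨vecEight none, vecEight_mem none, ?_⟩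
        rw [h, hi, two_smul]
        abel
      · refine ⟨vecA none i 1 1, vecA_mem (Ne.symm hi) (Or.inl rfl) (Or.inl rfl), ?_⟩
        have := eight_sub i hi (-1)
        rw [neg_neg] at this
        rw [← this, h]
        congr 1
        funext p
        simp

theorem cross_eight : cross (vecEight none) = stdCross := by
  have h48 : (cross (vecEight none)).ncard = 48 :=
    ncard_class64 (vecEight none) (vecEight_mem none) (sqNorm_vecEight none)
  exact (Set.eq_of_subset_of_ncard_le stdCross_sub_cross (by rw [h48, stdCross_ncard])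
    (Set.finite_of_ncard_ne_zero (by rw [h48]; norm_num))).symm

/-! ### The stabiliser of `8 e_∞` -/

theorem stab_imp_stabCross (h : Co0) (hh : h • latEight none = latEight none) : StabCross h := by
  intro v hv
  have hv' : (v : GolayPt → ℤ) ∈ cross (vecEight none) := by rw [cross_eight]; exact hv
  obtain ⟨-, hvn, z, hz, hxz⟩ := hv'
  rw [← cross_eight]
  refine ⟨(h • v).2, ?_, ((h • (⟨z, hz⟩ : leechLattice) : leechLattice) : GolayPt → ℤ),
    (h • (⟨z, hz⟩ : leechLattice)).2, ?_⟩
  · rw [co0_smul_sqNorm]; exact hvn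
  · have e : latEight none = v + ((⟨z, hz⟩ : leechLattice) + ⟨z, hz⟩) := by
      apply Subtype.ext
      show vecEight none = v.1 + (z + z)
      rw [← two_smul ℕ z, ← hxz]
      abel
    have e2 := congrArg (fun x => h • x) e
    simp only [co0_smul_add, hh] at e2
    have e3 := congrArg (Subtype.val) e2
    have e4 : vecEight none = ((h • v : leechLattice) : GolayPt → ℤ) +
        (((h • (⟨z, hz⟩ : leechLattice) : leechLattice) : GolayPt → ℤ) +
          ((h • (⟨z, hz⟩ : leechLattice) : leechLattice) : GolayPt → ℤ)) := e3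
    rw [two_smul]
    rw [e4]
    abel

theorem stabCross_mul {g h : Co0} (hg : StabCross g) (hh : StabCross h) : StabCross (g * h) :=
  fun v hv => by
    rw [mul_smul]
    exact hg _ (hh v hv)

theorem exists_mono_to (c : leechLattice) (hc : (c : GolayPt → ℤ) ∈ stdCross) :
    ∃ g : Co0, StabCross g ∧ g • latEight none = c := by
  obtain ⟨i, s, hs, hcs⟩ := hc
  obtain ⟨π, hπ, hmap⟩ := Cfsg.Agent.Lib.Helper26.M24_lists_map (L := [none]) (L' := [i])
    (by simp) (by simp) rfl (by simp)
  simp only [List.map_cons, List.map_nil, List.cons.injEq, and_true] at hmap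
  rcases hs with rfl | rfl
  · refine ⟨monoElt (⟨π, hπ⟩, ⟨0, golayCode.zero_mem⟩), monoElt_stab _, ?_⟩
    apply Subtype.ext
    show signVec 0 (permVec π (vecEight none)) = c.1
    have e : sgn 0 i * 8 = 8 := by simp [sgn]
    rw [vecEight_eq_single, signVec_permVec_single, hcs, hmap, e]
  · refine ⟨monoElt (⟨π, hπ⟩, ⟨1, one_mem_golayCode⟩), monoElt_stab _, ?_⟩
    apply Subtype.ext
    show signVec 1 (permVec π (vecEight none)) = c.1
    have e : sgn 1 i * 8 = -8 := by simp [sgn]
    rw [vecEight_eq_single, signVec_permVec_single, hcs, hmap, e]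

/-- A chosen monomial automorphism carrying `8 e_∞` to a given vector of the standard cross. -/
noncomputable def chooseMono (c : {v : leechLattice // (v : GolayPt → ℤ) ∈ stdCross}) : Co0 :=
  Classical.choose (exists_mono_to c.1 c.2)

theorem chooseMono_spec (c : {v : leechLattice // (v : GolayPt → ℤ) ∈ stdCross}) :
    StabCross (chooseMono c) ∧ chooseMono c • latEight none = c.1 :=
  Classical.choose_spec (exists_mono_to c.1 c.2)

/-- The stabiliser of the standard cross is the product of the cross and the stabiliser of one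
of its vectors. -/
noncomputable def crossEquiv : {g : Co0 // StabCross g} ≃
    {v : leechLattice // (v : GolayPt → ℤ) ∈ stdCross} ×
      MulAction.stabilizer Co0 (latEight none) where
  toFun g := (⟨g.1 • latEight none, g.2 _ (latEight_mem_stdCross none)⟩,
    ⟨(chooseMono ⟨g.1 • latEight none, g.2 _ (latEight_mem_stdCross none)⟩)⁻¹ * g.1, by
      rw [MulAction.mem_stabilizer_iff, mul_smul, inv_smul_eq_iff]
      exact (chooseMono_spec ⟨g.1 • latEight none, g.2 _ (latEight_mem_stdCross none)⟩).2.symm⟩)
  invFun p := ⟨chooseMono p.1 * p.2.1,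
    stabCross_mul (chooseMono_spec p.1).1 (stab_imp_stabCross p.2.1 p.2.2)⟩
  left_inv g := by
    apply Subtype.ext
    show chooseMono _ * ((chooseMono _)⁻¹ * g.1) = g.1
    rw [mul_inv_cancel_left]
  right_inv p := by
    obtain ⟨c, h⟩ := p
    have hc : (chooseMono c * h.1) • latEight none = c.1 := by
      rw [mul_smul, MulAction.mem_stabilizer_iff.mp h.2]
      exact (chooseMono_spec c).2
    have hc' : (⟨(chooseMono c * h.1) • latEight none,
        (stabCross_mul (chooseMono_spec c).1 (stab_imp_stabCross h.1 h.2)) _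
          (latEight_mem_stdCross none)⟩ : {v : leechLattice // (v : GolayPt → ℤ) ∈ stdCross}) = c :=
      Subtype.ext hc
    apply Prod.ext
    · exact hc'
    · apply Subtype.ext
      show (chooseMono _)⁻¹ * (chooseMono c * h.1) = h.1
      rw [hc', inv_mul_cancel_left]

theorem card_crossElt : Nat.card {v : leechLattice // (v : GolayPt → ℤ) ∈ stdCross} = 48 := by
  have e : {v : leechLattice // (v : GolayPt → ℤ) ∈ stdCross} ≃ stdCross :=
    { toFun := fun v => ⟨v.1.1, v.2⟩
      invFun := fun y => ⟨⟨y.1, stdCross_sub_lattice y.2⟩, y.2⟩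
      left_inv := fun v => rfl
      right_inv := fun y => rfl }
  rw [Nat.card_congr e, Nat.card_coe_set_eq, stdCross_ncard]

theorem orbit_latEight : MulAction.orbit Co0 (latEight none) =
    {v : leechLattice | sqNorm (v : GolayPt → ℤ) = 64} := by
  ext v
  constructor
  · rintro ⟨g, rfl⟩
    show sqNorm ((g • latEight none : leechLattice) : GolayPt → ℤ) = 64
    rw [co0_smul_sqNorm]
    exact sqNorm_vecEight none
  · intro hv
    obtain ⟨g, hg⟩ := co0_trans_64 (latEight none) v (sqNorm_vecEight none) hv
    exact ⟨g, hg⟩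

theorem card_orbit_latEight : Nat.card (MulAction.orbit Co0 (latEight none)) = 398034000 := by
  rw [Nat.card_coe_set_eq, orbit_latEight,
    ← Set.ncard_image_of_injective _ Subtype.val_injective]
  have : Subtype.val '' {v : leechLattice | sqNorm (v : GolayPt → ℤ) = 64} =
      {x : GolayPt → ℤ | x ∈ leechLattice ∧ sqNorm x = 64} := by
    ext x
    constructor
    · rintro ⟨v, hv, rfl⟩
      exact ⟨v.2, hv⟩
    · rintro ⟨hx, hn⟩
      exact ⟨⟨x, hx⟩, hn, rfl⟩
  rw [this]
  exact count64

/-- The order of the automorphism group of the lattice. -/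
theorem card_co0 : Nat.card Co0 = 8315553613086720000 := by
  have h1 := Subgroup.card_eq_card_quotient_mul_card_subgroup
    (MulAction.stabilizer Co0 (latEight none))
  rw [← Nat.card_congr (MulAction.orbitEquivQuotientStabilizer Co0 (latEight none)),
    card_orbit_latEight] at h1
  have h2 : Nat.card {g : Co0 // StabCross g} =
      48 * Nat.card (MulAction.stabilizer Co0 (latEight none)) := by
    rw [Nat.card_congr crossEquiv, Nat.card_prod, card_crossElt]
  rw [card_stab_cross] at h2
  omega

end Cfsg.Agent.Lib.Helper92
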