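import Mathlib
import Cfsg.Agent.S3993

set_option autoImplicit false

namespace Cfsg.Agent.Lib.Helper92

/-! ### Simplicity from a transitive action with a simple point stabiliser -/

/-- A transitive action on a set, with the orbits of a point stabiliser given by the values
of a function, and their lengths. -/
structure ColData (G : Type*) {Ω : Type*} [Group G] [MulAction G Ω] (X : Set Ω) (x : Ω)
    (c : Ω → ℤ) (cols : Finset ℤ) (m : ℤ → ℕ) : Prop where
  hx : x ∈ X
  hfin : X.Finite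
  hinv : ∀ g : G, ∀ y ∈ X, g • y ∈ X
  htrans : ∀ y ∈ X, ∃ g : G, g • x = y
  hcol_inv : ∀ g : G, g • x = x → ∀ y ∈ X, c (g • y) = c y
  hcol_tr : ∀ y ∈ X, ∀ y' ∈ X, c y = c y' → ∃ g : G, g • x = x ∧ g • y = y'
  hcols : ∀ y ∈ X, c y ∈ cols
  hm : ∀ d ∈ cols, {y | y ∈ X ∧ c y = d}.ncard = m d
  hc₀ : ∀ y ∈ X, c y = c x → y = x

section

variable {G Ω : Type*} [Group G] [MulAction G Ω] {X : Set Ω} {x : Ω} {c : Ω → ℤ}
  {cols : Finset ℤ} {m : ℤ → ℕ}

theorem ColData.ncard_cols (D : ColData G X x c cols m) :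
    ∀ I : Finset ℤ, I ⊆ cols → {y | y ∈ X ∧ c y ∈ I}.ncard = ∑ d ∈ I, m d := by
  classical
  intro I
  induction I using Finset.induction_on with
  | empty =>
    intro _
    simp
  | insert d I hd ih =>
    intro hI
    have hsub : I ⊆ cols := fun a ha => hI (Finset.mem_insert_of_mem ha)
    have hdc : d ∈ cols := hI (Finset.mem_insert_self d I)
    have e : {y | y ∈ X ∧ c y ∈ insert d I} =
        {y | y ∈ X ∧ c y = d} ∪ {y | y ∈ X ∧ c y ∈ I} := by
      ext y
      simp only [Set.mem_ofPred_eq, Finset.mem_insert, Set.mem_union]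
      tauto
    have hdisj : Disjoint {y | y ∈ X ∧ c y = d} {y | y ∈ X ∧ c y ∈ I} := by
      rw [Set.disjoint_left]
      rintro y ⟨-, h1⟩ ⟨-, h2⟩
      exact hd (h1 ▸ h2)
    rw [e, Set.ncard_union_eq hdisj (D.hfin.subset (fun y hy => hy.1))
      (D.hfin.subset (fun y hy => hy.1)), D.hm d hdc, ih hsub, Finset.sum_insert hd]

/-- A subset invariant under the point stabiliser is a union of orbits. -/
theorem ColData.ncard_inv (D : ColData G X x c cols m) (T : Set Ω) (hT : T ⊆ X)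
    (hTinv : ∀ g : G, g • x = x → ∀ y ∈ T, g • y ∈ T) :
    ∃ I : Finset ℤ, I ⊆ cols ∧ (∀ y ∈ X, y ∈ T ↔ c y ∈ I) ∧ (∀ d ∈ I, ∃ y ∈ T, c y = d) ∧
      T.ncard = ∑ d ∈ I, m d := by
  classical
  have hmem : ∀ y ∈ X, y ∈ T ↔ c y ∈ cols.filter (fun d => ∃ y ∈ T, c y = d) := by
    intro y hy
    rw [Finset.mem_filter]
    constructor
    · intro h
      exact ⟨D.hcols y hy, y, h, rfl⟩
    · rintro ⟨-, y₀, hy₀, e⟩
      obtain ⟨g, hg, rfl⟩ := D.hcol_tr y₀ (hT hy₀) y hy e
      exact hTinv g hg y₀ hy₀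
  refine ⟨cols.filter (fun d => ∃ y ∈ T, c y = d), Finset.filter_subset _ _, hmem, ?_, ?_⟩
  · intro d hd
    exact (Finset.mem_filter.mp hd).2
  · have e : T = {y | y ∈ X ∧ c y ∈ cols.filter (fun d => ∃ y ∈ T, c y = d)} := by
      ext y
      constructor
      · intro h
        exact ⟨hT h, (hmem y (hT h)).mp h⟩
      · rintro ⟨h1, h2⟩
        exact (hmem y h1).mpr h2
    exact (congrArg Set.ncard e).trans (D.ncard_cols _ (Finset.filter_subset _ _))

/-- The length of an orbit of a normal subgroup divides the length of the orbit of the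
group. -/
theorem normal_orbit_dvd (X : Set Ω) (x : Ω) (hX : ∀ y, y ∈ X ↔ ∃ g : G, g • x = y)
    (N : Subgroup G) [N.Normal] : {y | ∃ n ∈ N, n • x = y}.ncard ∣ X.ncard := by
  have h1 : X = MulAction.orbit G x := by
    ext y
    rw [hX]
    rfl
  have h2 : X.ncard = (MulAction.stabilizer G x).index := by
    rw [h1, MulAction.index_stabilizer]
  have h3 : {y | ∃ n ∈ N, n • x = y} =
      MulAction.orbit ↥(N ⊔ MulAction.stabilizer G x) x := by
    ext y
    constructor
    · rintro ⟨n, hn, rfl⟩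
      exact ⟨⟨n, Subgroup.mem_sup_left hn⟩, rfl⟩
    · rintro ⟨⟨k, hk⟩, rfl⟩
      have hk' : k ∈ (↑(N ⊔ MulAction.stabilizer G x) : Set G) := hk
      rw [Subgroup.normal_mul] at hk'
      obtain ⟨n, hn, h, hh, rfl⟩ := Set.mem_mul.mp hk'
      refine ⟨n, hn, ?_⟩
      show n • x = (n * h) • x
      rw [mul_smul, MulAction.mem_stabilizer_iff.mp hh]
  have h4 : (MulAction.orbit ↥(N ⊔ MulAction.stabilizer G x) x).ncard =
      (MulAction.stabilizer ↥(N ⊔ MulAction.stabilizer G x) x).index :=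
    (MulAction.index_stabilizer _ x).symm
  have h5 : MulAction.stabilizer ↥(N ⊔ MulAction.stabilizer G x) x =
      (MulAction.stabilizer G x).subgroupOf (N ⊔ MulAction.stabilizer G x) := by
    ext k
    rw [MulAction.mem_stabilizer_iff, Subgroup.mem_subgroupOf, MulAction.mem_stabilizer_iff]
    rfl
  rw [h3, h4, h5, h2]
  exact Subgroup.relIndex_dvd_index_of_le le_sup_right

/-- A nontrivial normal subgroup is transitive, when the lengths of the orbits of the point
stabiliser exclude blocks and the action is faithful. -/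
theorem ColData.normal_trans (D : ColData G X x c cols m)
    (hprim : ∀ I : Finset ℤ, I ⊆ cols → c x ∈ I → (∑ d ∈ I, m d) ∣ X.ncard →
      I = {c x} ∨ I = cols)
    (hfaith : ∀ g : G, (∀ y ∈ X, g • y = y) → g = 1)
    (N : Subgroup G) [hN : N.Normal] (hne : N ≠ ⊥) : ∀ y ∈ X, ∃ n ∈ N, n • x = y := by
  have hBX : {y | ∃ n ∈ N, n • x = y} ⊆ X := by
    rintro y ⟨n, -, rfl⟩
    exact D.hinv n x D.hx
  have hBinv : ∀ g : G, g • x = x → ∀ y ∈ {y | ∃ n ∈ N, n • x = y},
      g • y ∈ {y | ∃ n ∈ N, n • x = y} := by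
    rintro g hg y ⟨n, hn, rfl⟩
    refine ⟨g * n * g⁻¹, hN.conj_mem n hn g, ?_⟩
    rw [mul_smul, mul_smul, inv_smul_eq_iff.mpr hg.symm]
  obtain ⟨I, hI, hmem, -, hcard⟩ := D.ncard_inv _ hBX hBinv
  have hxB : x ∈ {y | ∃ n ∈ N, n • x = y} := ⟨1, N.one_mem, one_smul _ _⟩
  have hxI : c x ∈ I := (hmem x D.hx).mp hxB
  have hdvd : (∑ d ∈ I, m d) ∣ X.ncard := by
    rw [← hcard]
    exact normal_orbit_dvd X x (fun y => ⟨D.htrans y, by
      rintro ⟨g, rfl⟩
      exact D.hinv g x D.hx⟩) N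
  rcases hprim I hI hxI hdvd with h | h
  · exfalso
    apply hne
    have hfix : ∀ n ∈ N, n • x = x := by
      intro n hn
      have hnB : n • x ∈ {y | ∃ n ∈ N, n • x = y} := ⟨n, hn, rfl⟩
      have h2 := (hmem _ (hBX hnB)).mp hnB
      rw [h, Finset.mem_singleton] at h2
      exact D.hc₀ _ (hBX hnB) h2
    rw [Subgroup.eq_bot_iff_forall]
    intro n hn
    apply hfaith
    intro y hy
    obtain ⟨g, rfl⟩ := D.htrans y hy
    have hc : g⁻¹ * n * g ∈ N := by
      have := hN.conj_mem n hn g⁻¹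
      rwa [inv_inv] at this
    have := hfix (g⁻¹ * n * g) hc
    rw [mul_smul, mul_smul, inv_smul_eq_iff] at this
    exact this
  · intro y hy
    have hc : c y ∈ I := by
      rw [h]
      exact D.hcols y hy
    exact (hmem y hy).mpr hc

/-- The action is faithful when the point stabiliser is simple and moves a point. -/
theorem ColData.faith_of_simple (D : ColData G X x c cols m)
    (hH : IsSimpleGroup ↥(MulAction.stabilizer G x))
    (hmove : ∃ g : G, g • x = x ∧ ∃ y ∈ X, g • y ≠ y) :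
    ∀ g : G, (∀ y ∈ X, g • y = y) → g = 1 := by
  let K : Subgroup G :=
    { carrier := {g | ∀ y ∈ X, g • y = y}
      mul_mem' := fun {a b} ha hb y hy => by rw [mul_smul, hb y hy, ha y hy]
      one_mem' := fun y _ => one_smul _ y
      inv_mem' := fun {a} ha y hy => by rw [inv_smul_eq_iff, ha y hy] }
  have hKn : K.Normal := by
    refine ⟨fun n hn g y hy => ?_⟩
    have h1 : g⁻¹ • y ∈ X := D.hinv g⁻¹ y hy
    rw [mul_smul, mul_smul, hn _ h1, smul_inv_smul]
  have hKH : K ≤ MulAction.stabilizer G x := fun g hg => hg x D.hx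
  have hn : (K.subgroupOf (MulAction.stabilizer G x)).Normal := hKn.subgroupOf _
  intro g hg
  have hgK : g ∈ K := hg
  rcases hH.eq_bot_or_eq_top_of_normal _ hn with h | h
  · rw [Subgroup.subgroupOf_eq_bot] at h
    have : g ∈ K ⊓ MulAction.stabilizer G x := ⟨hgK, hKH hgK⟩
    rw [h.eq_bot, Subgroup.mem_bot] at this
    exact this
  · rw [Subgroup.subgroupOf_eq_top] at h
    obtain ⟨g', hg', y, hy, hne⟩ := hmove
    exact absurd (h (MulAction.mem_stabilizer_iff.mpr hg') y hy) hne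

/-- Simplicity, when the nontrivial normal subgroups are transitive, the point stabiliser is
simple and no normal subgroup is regular. -/
theorem simple_of_trans [Nontrivial G] (X : Set Ω) (x : Ω)
    (hinv : ∀ g : G, ∀ y ∈ X, g • y ∈ X) (hx : x ∈ X)
    (hN : ∀ N : Subgroup G, N.Normal → N ≠ ⊥ → ∀ y ∈ X, ∃ n ∈ N, n • x = y)
    (hH : IsSimpleGroup ↥(MulAction.stabilizer G x))
    (hreg : ∀ N : Subgroup G, N.Normal → (∀ y ∈ X, ∃ n ∈ N, n • x = y) →
      N ⊓ MulAction.stabilizer G x = ⊥ → False) : IsSimpleGroup G := by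
  refine ⟨fun N hNn => ?_⟩
  by_cases hbot : N = ⊥
  · exact Or.inl hbot
  · right
    have htr := hN N hNn hbot
    have hn : (N.subgroupOf (MulAction.stabilizer G x)).Normal := hNn.subgroupOf _
    rcases hH.eq_bot_or_eq_top_of_normal _ hn with h | h
    · rw [Subgroup.subgroupOf_eq_bot] at h
      exact (hreg N hNn htr h.eq_bot).elim
    · rw [Subgroup.subgroupOf_eq_top] at h
      rw [Subgroup.eq_top_iff']
      intro g
      obtain ⟨n, hn', e⟩ := htr (g • x) (hinv g x hx)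
      have hs : n⁻¹ * g ∈ MulAction.stabilizer G x := by
        rw [MulAction.mem_stabilizer_iff, mul_smul, inv_smul_eq_iff, e]
      have := N.mul_mem hn' (h hs)
      rwa [mul_inv_cancel_left] at this

theorem ColData.m_self (D : ColData G X x c cols m) : m (c x) = 1 := by
  rw [← D.hm (c x) (D.hcols x D.hx)]
  have h : {y | y ∈ X ∧ c y = c x} = {x} := by
    ext y
    simp only [Set.mem_ofPred_eq, Set.mem_singleton_iff]
    constructor
    · rintro ⟨h1, h2⟩
      exact D.hc₀ y h1 h2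
    · rintro rfl
      exact ⟨D.hx, rfl⟩
  rw [h, Set.ncard_singleton]

theorem regular_inj (x : Ω) (N : Subgroup G) (hreg : N ⊓ MulAction.stabilizer G x = ⊥)
    (n n' : G) (hn : n ∈ N) (hn' : n' ∈ N) (h : n • x = n' • x) : n = n' := by
  have h1 : n⁻¹ * n' ∈ N ⊓ MulAction.stabilizer G x := by
    refine Subgroup.mem_inf.mpr ⟨N.mul_mem (N.inv_mem hn) hn', ?_⟩
    rw [MulAction.mem_stabilizer_iff, mul_smul, inv_smul_eq_iff, h]
  rw [hreg, Subgroup.mem_bot] at h1
  exact (inv_mul_eq_one.mp h1)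

/-- In a regular normal subgroup the solutions of `n ^ p = 1` make a union of orbits of the
point stabiliser, of length divisible by `p`. -/
theorem ColData.regular_aux (D : ColData G X x c cols m) (N : Subgroup G) [hN : N.Normal]
    (htr : ∀ y ∈ X, ∃ n ∈ N, n • x = y) (hreg : N ⊓ MulAction.stabilizer G x = ⊥)
    (p : ℕ) [hp : Fact p.Prime] (hpd : p ∣ X.ncard) :
    ∃ I : Finset ℤ, I ⊆ cols.erase (c x) ∧ I.Nonempty ∧ p ∣ 1 + ∑ d ∈ I, m d ∧
      ∀ d ∈ I, ∃ n ∈ N, n ^ p = 1 ∧ n ≠ 1 ∧ c (n • x) = d := by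
  classical
  have hinj := regular_inj x N hreg
  have hTX : {y | ∃ n ∈ N, n ^ p = 1 ∧ n • x = y} ⊆ X := by
    rintro y ⟨n, -, -, rfl⟩
    exact D.hinv n x D.hx
  have hTinv : ∀ g : G, g • x = x → ∀ y ∈ {y | ∃ n ∈ N, n ^ p = 1 ∧ n • x = y},
      g • y ∈ {y | ∃ n ∈ N, n ^ p = 1 ∧ n • x = y} := by
    rintro g hg y ⟨n, hn, hnp, rfl⟩
    refine ⟨g * n * g⁻¹, hN.conj_mem n hn g, ?_, ?_⟩
    · rw [conj_pow, hnp, mul_one, mul_inv_cancel]
    · rw [mul_smul, mul_smul, inv_smul_eq_iff.mpr hg.symm]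
  obtain ⟨I, hI, hmem, hex, hcard⟩ := D.ncard_inv _ hTX hTinv
  have hxT : x ∈ {y | ∃ n ∈ N, n ^ p = 1 ∧ n • x = y} := ⟨1, N.one_mem, one_pow _, one_smul _ _⟩
  have hxI : c x ∈ I := (hmem x D.hx).mp hxT
  -- the subgroup is finite, of the order of the set
  have hXfin : Finite ↥X := D.hfin.to_subtype
  have hbij : Function.Bijective (fun n : N => (⟨n.1 • x, D.hinv n.1 x D.hx⟩ : ↥X)) := by
    constructor
    · intro a b hab
      exact Subtype.ext (hinj a.1 b.1 a.2 b.2 (congrArg Subtype.val hab))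
    · rintro ⟨y, hy⟩
      obtain ⟨n, hn, e⟩ := htr y hy
      exact ⟨⟨n, hn⟩, Subtype.ext e⟩
  have hNfin : Finite ↥N := Finite.of_injective _ hbij.1
  have hNcard : Nat.card ↥N = X.ncard := by
    rw [← Nat.card_coe_set_eq]
    exact Nat.card_congr (Equiv.ofBijective _ hbij)
  have hfrob : p ∣ Nat.card {g : ↥N // g ^ p = 1} :=
    Cfsg.Agent.S3993.result p (hNcard ▸ hpd)
  have hbij2 : Function.Bijective (fun g : {g : ↥N // g ^ p = 1} =>
      (⟨g.1.1 • x, g.1.1, g.1.2, by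
        have := congrArg Subtype.val g.2
        simpa using this, rfl⟩ : ↥{y | ∃ n ∈ N, n ^ p = 1 ∧ n • x = y})) := by
    constructor
    · intro a b hab
      exact Subtype.ext (Subtype.ext (hinj a.1.1 b.1.1 a.1.2 b.1.2 (congrArg Subtype.val hab)))
    · rintro ⟨y, n, hn, hnp, e⟩
      exact ⟨⟨⟨n, hn⟩, Subtype.ext (by simpa using hnp)⟩, Subtype.ext e⟩
  have hTcard : {y | ∃ n ∈ N, n ^ p = 1 ∧ n • x = y}.ncard =
      Nat.card {g : ↥N // g ^ p = 1} := by
    rw [← Nat.card_coe_set_eq]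
    exact (Nat.card_congr (Equiv.ofBijective _ hbij2)).symm
  have hsum : ∑ d ∈ I, m d = 1 + ∑ d ∈ I.erase (c x), m d := by
    rw [← Finset.add_sum_erase I m hxI, D.m_self]
  refine ⟨I.erase (c x), Finset.erase_subset_erase _ hI, ?_, ?_, ?_⟩
  · obtain ⟨n, hn⟩ := exists_prime_orderOf_dvd_card' (G := ↥N) p (hNcard ▸ hpd)
    have hn1 : n ≠ 1 := by
      rintro rfl
      rw [orderOf_one] at hn
      exact hp.out.one_lt.ne hn
    have hnT : n.1 • x ∈ {y | ∃ n ∈ N, n ^ p = 1 ∧ n • x = y} := by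
      refine ⟨n.1, n.2, ?_, rfl⟩
      have := pow_orderOf_eq_one n
      rw [hn] at this
      have := congrArg Subtype.val this
      simpa using this
    refine ⟨c (n.1 • x), Finset.mem_erase.mpr ⟨?_, (hmem _ (hTX hnT)).mp hnT⟩⟩
    intro h
    have h2 := D.hc₀ _ (hTX hnT) h
    apply hn1
    apply Subtype.ext
    exact hinj n.1 1 n.2 N.one_mem (by rw [h2, one_smul])
  · rw [← hsum, ← hcard, hTcard]
    exact hfrob
  · intro d hd
    obtain ⟨hd1, hd2⟩ := Finset.mem_erase.mp hd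
    obtain ⟨y, ⟨n, hn, hnp, rfl⟩, e⟩ := hex d hd2
    refine ⟨n, hn, hnp, ?_, e⟩
    rintro rfl
    rw [one_smul] at e
    exact hd1 e.symm

/-- No normal subgroup is regular, when two primes dividing the degree have no disjoint unions
of orbits of the point stabiliser of the lengths that the theorem of Frobenius asks for. -/
theorem ColData.regular_false (D : ColData G X x c cols m) (p q : ℕ) [hp : Fact p.Prime]
    [hq : Fact q.Prime] (hpq : p ≠ q) (hpd : p ∣ X.ncard) (hqd : q ∣ X.ncard)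
    (hnum : ∀ I J : Finset ℤ, I ⊆ cols.erase (c x) → J ⊆ cols.erase (c x) → I.Nonempty →
      J.Nonempty → Disjoint I J → p ∣ 1 + ∑ d ∈ I, m d → q ∣ 1 + ∑ d ∈ J, m d → False)
    (N : Subgroup G) [hN : N.Normal] (htr : ∀ y ∈ X, ∃ n ∈ N, n • x = y)
    (hreg : N ⊓ MulAction.stabilizer G x = ⊥) : False := by
  obtain ⟨I, hI, hIne, hIp, hIex⟩ := D.regular_aux N htr hreg p hpd
  obtain ⟨J, hJ, hJne, hJq, hJex⟩ := D.regular_aux N htr hreg q hqd
  refine hnum I J hI hJ hIne hJne ?_ hIp hJq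
  rw [Finset.disjoint_left]
  intro d hdI hdJ
  obtain ⟨n, hn, hnp, -, e⟩ := hIex d hdI
  obtain ⟨n', hn', hnq, hn1, e'⟩ := hJex d hdJ
  obtain ⟨g, hg, hgn⟩ := D.hcol_tr (n • x) (D.hinv n x D.hx) (n' • x) (D.hinv n' x D.hx)
    (e.trans e'.symm)
  have h1 : g * n * g⁻¹ = n' := by
    apply regular_inj x N hreg _ _ (hN.conj_mem n hn g) hn'
    rw [mul_smul, mul_smul, inv_smul_eq_iff.mpr hg.symm]
    exact hgn
  have h2 : n' ^ p = 1 := by
    rw [← h1, conj_pow, hnp, mul_one, mul_inv_cancel]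
  have h3 : orderOf n' ∣ Nat.gcd p q :=
    Nat.dvd_gcd (orderOf_dvd_of_pow_eq_one h2) (orderOf_dvd_of_pow_eq_one hnq)
  rw [(Nat.coprime_primes hp.out hq.out).mpr hpq, Nat.dvd_one, orderOf_eq_one_iff] at h3
  exact hn1 h3

/-- The order of the group. -/
theorem ColData.card (D : ColData G X x c cols m) :
    Nat.card G = X.ncard * Nat.card ↥(MulAction.stabilizer G x) := by
  have h1 : X = MulAction.orbit G x := by
    ext y
    constructor
    · intro hy
      obtain ⟨g, rfl⟩ := D.htrans y hy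
      exact ⟨g, rfl⟩
    · rintro ⟨g, rfl⟩
      exact D.hinv g x D.hx
  rw [h1, ← MulAction.index_stabilizer, mul_comm]
  exact (Subgroup.card_mul_index _).symm

/-- Simplicity of a group with a transitive action with a simple point stabiliser. -/
theorem ColData.simple (D : ColData G X x c cols m)
    (hprim : ∀ I : Finset ℤ, I ⊆ cols → c x ∈ I → (∑ d ∈ I, m d) ∣ X.ncard →
      I = {c x} ∨ I = cols)
    (hH : IsSimpleGroup ↥(MulAction.stabilizer G x))
    (hmove : ∃ g : G, g • x = x ∧ ∃ y ∈ X, g • y ≠ y)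
    (p q : ℕ) [hp : Fact p.Prime] [hq : Fact q.Prime] (hpq : p ≠ q) (hpd : p ∣ X.ncard)
    (hqd : q ∣ X.ncard)
    (hnum : ∀ I J : Finset ℤ, I ⊆ cols.erase (c x) → J ⊆ cols.erase (c x) → I.Nonempty →
      J.Nonempty → Disjoint I J → p ∣ 1 + ∑ d ∈ I, m d → q ∣ 1 + ∑ d ∈ J, m d → False) :
    IsSimpleGroup G := by
  have hnt : Nontrivial G := by
    obtain ⟨g, -, y, -, hne⟩ := hmove
    exact ⟨⟨g, 1, fun h => hne (by rw [h, one_smul])⟩⟩
  have hfaith := D.faith_of_simple hH hmove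
  exact simple_of_trans X x D.hinv D.hx
    (fun N hN hne => by
      have := hN
      exact D.normal_trans hprim hfaith N hne) hH
    (fun N hN htr hreg => by
      have := hN
      exact D.regular_false p q hpq hpd hqd hnum N htr hreg)

/-- The classes of given lengths cover the set when the lengths add up to its length. -/
theorem cover_of_card {X : Set Ω} {c : Ω → ℤ} {cols : Finset ℤ} {m : ℤ → ℕ} (hfin : X.Finite)
    (hm : ∀ d ∈ cols, {y | y ∈ X ∧ c y = d}.ncard = m d) (hsum : ∑ d ∈ cols, m d = X.ncard) :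
    ∀ y ∈ X, c y ∈ cols := by
  classical
  have key : ∀ I : Finset ℤ, I ⊆ cols → {y | y ∈ X ∧ c y ∈ I}.ncard = ∑ d ∈ I, m d := by
    intro I
    induction I using Finset.induction_on with
    | empty =>
      intro _
      simp
    | insert d I hd ih =>
      intro hI
      have hsub : I ⊆ cols := fun a ha => hI (Finset.mem_insert_of_mem ha)
      have hdc : d ∈ cols := hI (Finset.mem_insert_self d I)
      have e : {y | y ∈ X ∧ c y ∈ insert d I} =
          {y | y ∈ X ∧ c y = d} ∪ {y | y ∈ X ∧ c y ∈ I} := by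
        ext y
        simp only [Set.mem_ofPred_eq, Finset.mem_insert, Set.mem_union]
        tauto
      have hdisj : Disjoint {y | y ∈ X ∧ c y = d} {y | y ∈ X ∧ c y ∈ I} := by
        rw [Set.disjoint_left]
        rintro y ⟨-, h1⟩ ⟨-, h2⟩
        exact hd (h1 ▸ h2)
      rw [e, Set.ncard_union_eq hdisj (hfin.subset (fun y hy => hy.1))
        (hfin.subset (fun y hy => hy.1)), hm d hdc, ih hsub, Finset.sum_insert hd]
  have h1 : {y | y ∈ X ∧ c y ∈ cols} = X := by
    apply Set.eq_of_subset_of_ncard_le (fun y hy => hy.1) _ hfin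
    rw [key cols (Finset.Subset.refl _), hsum]
  intro y hy
  rw [← h1] at hy
  exact hy.2

/-- The data of the action, from the classes, their lengths adding up to the degree. -/
theorem ColData.of_card {X : Set Ω} {x : Ω} {c : Ω → ℤ} {cols : Finset ℤ} {m : ℤ → ℕ}
    (hx : x ∈ X) (hfin : X.Finite) (hinv : ∀ g : G, ∀ y ∈ X, g • y ∈ X)
    (htrans : ∀ y ∈ X, ∃ g : G, g • x = y)
    (hcol_inv : ∀ g : G, g • x = x → ∀ y ∈ X, c (g • y) = c y)
    (hcol_tr : ∀ y ∈ X, ∀ y' ∈ X, y ≠ x → y' ≠ x → c y = c y' → ∃ g : G, g • x = x ∧ g • y = y')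
    (hm : ∀ d ∈ cols, {y | y ∈ X ∧ c y = d}.ncard = m d)
    (hc₀ : ∀ y ∈ X, c y = c x → y = x) (hsum : ∑ d ∈ cols, m d = X.ncard) :
    ColData G X x c cols m where
  hx := hx
  hfin := hfin
  hinv := hinv
  htrans := htrans
  hcol_inv := hcol_inv
  hcol_tr := by
    intro y hy y' hy' e
    by_cases h1 : y = x
    · have h2 : y' = x := hc₀ y' hy' (by rw [← e, h1])
      exact ⟨1, one_smul _ _, by rw [one_smul, h1, h2]⟩
    · have h2 : y' ≠ x := by
        intro h2
        exact h1 (hc₀ y hy (by rw [e, h2]))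
      exact hcol_tr y hy y' hy' h1 h2 e
  hcols := cover_of_card hfin hm hsum
  hm := hm
  hc₀ := hc₀

/-- The point stabiliser in a subgroup. -/
def stabSubEquiv (K : Subgroup G) (x : Ω) :
    ↥(MulAction.stabilizer ↥K x) ≃* ↥(K ⊓ MulAction.stabilizer G x) where
  toFun g := ⟨g.1.1, Subgroup.mem_inf.mpr ⟨g.1.2, MulAction.mem_stabilizer_iff.mpr
    (MulAction.mem_stabilizer_iff.mp g.2)⟩⟩
  invFun h := ⟨⟨h.1, (Subgroup.mem_inf.mp h.2).1⟩, MulAction.mem_stabilizer_iff.mpr
    (MulAction.mem_stabilizer_iff.mp (Subgroup.mem_inf.mp h.2).2)⟩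
  left_inv _ := rfl
  right_inv _ := rfl
  map_mul' _ _ := rfl

/-- Conjugate subgroups are isomorphic. -/
def conjEquiv {K K' : Subgroup G} (g : G) (h : ∀ k, k ∈ K ↔ g * k * g⁻¹ ∈ K') : ↥K ≃* ↥K' where
  toFun k := ⟨g * k.1 * g⁻¹, (h k.1).mp k.2⟩
  invFun k := ⟨g⁻¹ * k.1 * g, (h _).mpr (by
    have e : g * (g⁻¹ * k.1 * g) * g⁻¹ = k.1 := by group
    rw [e]
    exact k.2)⟩
  left_inv k := Subtype.ext (by
    show g⁻¹ * (g * k.1 * g⁻¹) * g = k.1
    group)
  right_inv k := Subtype.ext (by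
    show g * (g⁻¹ * k.1 * g) * g⁻¹ = k.1
    group)
  map_mul' a b := Subtype.ext (by
    show g * (a.1 * b.1) * g⁻¹ = g * a.1 * g⁻¹ * (g * b.1 * g⁻¹)
    group)

theorem conj_smul_iff {g k : G} {a a' : Ω} (h : g • a = a') :
    (g * k * g⁻¹) • a' = a' ↔ k • a = a := by
  rw [← h, mul_smul, mul_smul, inv_smul_smul, smul_left_cancel_iff]

/-- An element of the point stabiliser moving a point, from a class with two elements. -/
theorem ColData.move (D : ColData G X x c cols m) (d : ℤ) (hd : d ∈ cols) (h1 : 1 < m d) :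
    ∃ g : G, g • x = x ∧ ∃ y ∈ X, g • y ≠ y := by
  rw [← D.hm d hd] at h1
  obtain ⟨a, ha, b, hb, hab⟩ := (Set.one_lt_ncard (D.hfin.subset (fun y hy => hy.1))).mp h1
  obtain ⟨g, hg, e⟩ := D.hcol_tr a ha.1 b hb.1 (ha.2.trans hb.2.symm)
  exact ⟨g, hg, a, ha.1, fun h => hab (h.symm.trans e)⟩

/-- The data of the action, with transitivity asked only on the listed classes. -/
theorem ColData.of_card' {X : Set Ω} {x : Ω} {c : Ω → ℤ} {cols : Finset ℤ} {m : ℤ → ℕ}
    (hx : x ∈ X) (hfin : X.Finite) (hinv : ∀ g : G, ∀ y ∈ X, g • y ∈ X)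
    (htrans : ∀ y ∈ X, ∃ g : G, g • x = y)
    (hcol_inv : ∀ g : G, g • x = x → ∀ y ∈ X, c (g • y) = c y)
    (hcol_tr : ∀ d ∈ cols, d ≠ c x → ∀ y ∈ X, ∀ y' ∈ X, c y = d → c y' = d →
      ∃ g : G, g • x = x ∧ g • y = y')
    (hm : ∀ d ∈ cols, {y | y ∈ X ∧ c y = d}.ncard = m d)
    (hc₀ : ∀ y ∈ X, c y = c x → y = x) (hsum : ∑ d ∈ cols, m d = X.ncard) :
    ColData G X x c cols m :=
  ColData.of_card hx hfin hinv htrans hcol_inv
    (fun y hy y' hy' hne _ e => hcol_tr (c y) (cover_of_card hfin hm hsum y hy)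
      (fun h => hne (hc₀ y hy h)) y hy y' hy' rfl e.symm) hm hc₀ hsum

end

end Cfsg.Agent.Lib.Helper92
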