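import Cfsg.Agent.Lib.Helper92.LeechHS
import Cfsg.Agent.Lib.Helper92.LeechCensus48
import Cfsg.Agent.Lib.Helper92.LeechOrder
import Cfsg.Agent.Lib.Helper92.SimplePrim
import Cfsg.Agent.Lib.Helper7.GolaySimpleThms

set_option autoImplicit false

open scoped Pointwise

namespace Cfsg.Agent.Lib.Helper92

open Cfsg Cfsg.Spor Cfsg.Agent.Lib.Helper7

/-! ### The stabiliser of the standard triple is the stabiliser of two points in `M24` -/

theorem vecOf_eq_of_forall {l : List ℤ} {f : GolayPt → ℤ}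
    (h : ∀ j < 24, l.getD j 0 = f (pt j)) : vecOf l = f := by
  funext p
  rw [← pt_idx p, vecOf_pt l (idx_lt p)]
  exact h _ (idx_lt p)

theorem v0L_eq : vecOf v0L = fun p => if p = pt 0 then 5 else 1 :=
  vecOf_eq_of_forall (by decide +kernel)

theorem w0L_eq : vecOf w0L = fun p => if p = pt 23 then -5 else -1 :=
  vecOf_eq_of_forall (by decide +kernel)

theorem a0L_mem : vecOf a0L ∈ leechLattice := leechB_sound (by decide +kernel)

/-- The coordinate permutations of `M24` fixing given points, in the group of the lattice. -/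
def permHom (F : ℕ) : ↥(fixSub F) →* Co0 where
  toFun σ := ⟨permCo σ.1 (fixSub_le_M24 F σ.2), permCo_mem _ _⟩
  map_one' := by
    apply Subtype.ext
    apply Equiv.ext
    intro x
    apply Subtype.ext
    rfl
  map_mul' a b := by
    apply Subtype.ext
    apply Equiv.ext
    intro x
    apply Subtype.ext
    rfl

theorem permHom_coe (F : ℕ) (σ : ↥(fixSub F)) (x : leechLattice) :
    ((permHom F σ • x : leechLattice) : GolayPt → ℤ) = permVec σ.1 (x : GolayPt → ℤ) := rfl

theorem permHom_inj (F : ℕ) : Function.Injective (permHom F) := by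
  intro a b h
  apply Subtype.ext
  apply Equiv.ext
  intro i
  have h1 : ((permHom F a • latEight i : leechLattice) : GolayPt → ℤ) (a.1 i) =
      ((permHom F b • latEight i : leechLattice) : GolayPt → ℤ) (a.1 i) := by rw [h]
  rw [permHom_coe, permHom_coe] at h1
  change vecEight i (a.1.symm (a.1 i)) = vecEight i (b.1.symm (a.1 i)) at h1
  unfold vecEight at h1
  rw [Equiv.symm_apply_apply, if_pos rfl] at h1
  by_contra hne
  rw [if_neg (fun e => hne ((Equiv.symm_apply_eq _).mp e))] at h1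
  norm_num at h1

/-- The standard triple. -/
def stdK : Subgroup Co0 :=
  MulAction.stabilizer Co0 (⟨vecOf v0L, v0L_mem⟩ : leechLattice) ⊓
    MulAction.stabilizer Co0 (⟨vecOf w0L, w0L_mem⟩ : leechLattice) ⊓
    MulAction.stabilizer Co0 (⟨vecOf a0L, a0L_mem⟩ : leechLattice)

theorem mem_stdK (g : Co0) : g ∈ stdK ↔
    g • (⟨vecOf v0L, v0L_mem⟩ : leechLattice) = ⟨vecOf v0L, v0L_mem⟩ ∧
    g • (⟨vecOf w0L, w0L_mem⟩ : leechLattice) = ⟨vecOf w0L, w0L_mem⟩ ∧
    g • (⟨vecOf a0L, a0L_mem⟩ : leechLattice) = ⟨vecOf a0L, a0L_mem⟩ := by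
  unfold stdK
  rw [Subgroup.mem_inf, Subgroup.mem_inf, MulAction.mem_stabilizer_iff,
    MulAction.mem_stabilizer_iff, MulAction.mem_stabilizer_iff, and_assoc]

theorem eight_eq : latEight none = (⟨vecOf a0L, a0L_mem⟩ : leechLattice) -
    ⟨vecOf v0L, v0L_mem⟩ - ⟨vecOf w0L, w0L_mem⟩ := by
  apply Subtype.ext
  show vecEight none = vecOf a0L - vecOf v0L - vecOf w0L
  funext p
  rw [← pt_idx p, Pi.sub_apply, Pi.sub_apply, vecOf_pt _ (idx_lt p), vecOf_pt _ (idx_lt p),
    vecOf_pt _ (idx_lt p)]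
  unfold vecEight
  have key : ∀ j < 24, (if pt j = none then (8 : ℤ) else 0) =
      a0L.getD j 0 - v0L.getD j 0 - w0L.getD j 0 := by decide +kernel
  exact key _ (idx_lt p)

theorem a0L_eq : vecOf a0L = fun p => if p = pt 0 then 4 else if p = pt 23 then 4 else 0 :=
  vecOf_eq_of_forall (by decide +kernel)

theorem fixSub2_fix {σ : Equiv.Perm GolayPt} (h : σ ∈ fixSub 8388609) :
    σ (pt 0) = pt 0 ∧ σ (pt 23) = pt 23 :=
  ⟨h.2 0 (by norm_num) (by decide), h.2 23 (by norm_num) (by decide)⟩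

theorem symm_eq_iff {σ : Equiv.Perm GolayPt} {q : GolayPt} (h : σ q = q) (i : GolayPt) :
    σ.symm i = q ↔ i = q := by
  constructor
  · intro e
    rw [← Equiv.apply_symm_apply σ i, e, h]
  · intro e
    rw [e, Equiv.symm_apply_eq, h]

theorem permHom_mem_stdK (σ : ↥(fixSub 8388609)) : permHom 8388609 σ ∈ stdK := by
  obtain ⟨h0, h23⟩ := fixSub2_fix σ.2
  rw [mem_stdK]
  refine ⟨Subtype.ext ?_, Subtype.ext ?_, Subtype.ext ?_⟩
  · rw [permHom_coe]
    show permVec σ.1 (vecOf v0L) = vecOf v0L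
    rw [v0L_eq]
    funext i
    show (if σ.1.symm i = pt 0 then (5 : ℤ) else 1) = if i = pt 0 then 5 else 1
    simp only [symm_eq_iff h0]
  · rw [permHom_coe]
    show permVec σ.1 (vecOf w0L) = vecOf w0L
    rw [w0L_eq]
    funext i
    show (if σ.1.symm i = pt 23 then (-5 : ℤ) else -1) = if i = pt 23 then -5 else -1
    simp only [symm_eq_iff h23]
  · rw [permHom_coe]
    show permVec σ.1 (vecOf a0L) = vecOf a0L
    rw [a0L_eq]
    funext i
    show (if σ.1.symm i = pt 0 then (4 : ℤ) else if σ.1.symm i = pt 23 then 4 else 0) =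
      if i = pt 0 then 4 else if i = pt 23 then 4 else 0
    simp only [symm_eq_iff h0, symm_eq_iff h23]

theorem exists_of_mem_stdK (g : Co0) (hg : g ∈ stdK) :
    ∃ σ : ↥(fixSub 8388609), permHom 8388609 σ = g := by
  rw [mem_stdK] at hg
  obtain ⟨hv, hw, ha⟩ := hg
  have h8 : g • latEight none = latEight none := by
    rw [eight_eq, co0_smul_sub, co0_smul_sub, hv, hw, ha]
  obtain ⟨σ, hσ, u, hu, hx⟩ := stab_cross_struct g (stab_imp_stabCross g h8)
  have hV : signVec u (permVec σ (vecOf v0L)) = vecOf v0L := by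
    rw [← hx ⟨vecOf v0L, v0L_mem⟩]
    exact congrArg Subtype.val hv
  have hW : signVec u (permVec σ (vecOf w0L)) = vecOf w0L := by
    rw [← hx ⟨vecOf w0L, w0L_mem⟩]
    exact congrArg Subtype.val hw
  rw [v0L_eq] at hV
  rw [w0L_eq] at hW
  have hsgn : ∀ i, sgn u i = 1 := by
    intro i
    have h := congrFun hV i
    simp only [signVec, permVec, sgn] at h ⊢
    split_ifs at h ⊢ <;> omega
  have h0 : σ (pt 0) = pt 0 := by
    have h := congrFun hV (σ (pt 0))
    simp only [signVec, permVec, hsgn, Equiv.symm_apply_apply, if_true, one_mul] at h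
    by_contra hne
    rw [if_neg hne] at h
    omega
  have h23 : σ (pt 23) = pt 23 := by
    have h := congrFun hW (σ (pt 23))
    simp only [signVec, permVec, hsgn, Equiv.symm_apply_apply, if_true, one_mul] at h
    by_contra hne
    rw [if_neg hne] at h
    omega
  have hmem : σ ∈ fixSub 8388609 := by
    refine ⟨hσ, fun i hi hF => ?_⟩
    rcases bit_F2 i hi hF with rfl | rfl
    · exact h23
    · exact h0
  refine ⟨⟨σ, hmem⟩, ?_⟩
  apply Subtype.ext
  apply Equiv.ext
  intro x
  apply Subtype.ext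
  rw [hx x]
  funext i
  show permVec σ x.1 i = signVec u (permVec σ x.1) i
  simp only [signVec, hsgn, one_mul]

/-- The stabiliser of the standard triple is the stabiliser of two points in `M24`. -/
noncomputable def m22Equiv : ↥(fixSub 8388609) ≃* ↥stdK :=
  MulEquiv.ofBijective ((permHom 8388609).codRestrict stdK permHom_mem_stdK)
    ⟨fun a b h => permHom_inj _ (congrArg Subtype.val h), fun g => by
      obtain ⟨σ, hσ⟩ := exists_of_mem_stdK g.1 g.2
      exact ⟨σ, Subtype.ext hσ⟩⟩

theorem stdK_simple : IsSimpleGroup ↥stdK :=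
  m22Equiv.isSimpleGroup_congr.mp isSimpleGroup_fixSub2

theorem stdK_card : Nat.card ↥stdK = 443520 := by
  rw [← Nat.card_congr m22Equiv.toEquiv, card_fixSub2]

end Cfsg.Agent.Lib.Helper92
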