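import Cfsg.Agent.Lib.Helper92.LeechMod2

set_option autoImplicit false

namespace Cfsg.Agent.Lib.Helper92

open Cfsg Cfsg.Agent.Lib.Helper7

/-- Differences of parities with the coordinate at the extra point. -/
def parHom : (GolayPt → ℤ) →+ (ZMod 23 → ZMod 2) where
  toFun x := fun i => ((x (some i) - x none : ℤ) : ZMod 2)
  map_zero' := by funext i; simp
  map_add' x y := by
    funext i
    simp only [Pi.add_apply]
    push_cast
    ring

/-- The integer vectors all of whose coordinates have the same parity. -/
def sameParity : AddSubgroup (GolayPt → ℤ) := parHom.ker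

theorem mem_sameParity {x : GolayPt → ℤ} : x ∈ sameParity ↔ ∀ i, x i ≡ x none [ZMOD 2] := by
  unfold sameParity
  rw [AddMonoidHom.mem_ker]
  constructor
  · intro h i
    cases i with
    | none => rfl
    | some j =>
      have := congrFun h j
      simp only [parHom, AddMonoidHom.coe_mk, ZeroHom.coe_mk, Pi.zero_apply] at this
      have h2 : ((x (some j) - x none : ℤ) : ZMod 2) = ((0 : ℤ) : ZMod 2) := by
        rw [this]; simp
      have h3 := (ZMod.intCast_eq_intCast_iff _ _ 2).mp h2
      unfold Int.ModEq at h3 ⊢
      omega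
  · intro h
    funext j
    simp only [parHom, AddMonoidHom.coe_mk, ZeroHom.coe_mk, Pi.zero_apply]
    have h3 := h (some j)
    have h2 : ((x (some j) - x none : ℤ) : ZMod 2) = ((0 : ℤ) : ZMod 2) := by
      apply (ZMod.intCast_eq_intCast_iff _ _ 2).mpr
      unfold Int.ModEq at h3 ⊢
      omega
    rw [h2]; simp

theorem parHom_surjective : Function.Surjective parHom := by
  intro w
  refine ⟨fun p => match p with | none => 0 | some i => ((w i).val : ℤ), ?_⟩
  funext i
  simp only [parHom, AddMonoidHom.coe_mk, ZeroHom.coe_mk]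
  simp

theorem sameParity_index : sameParity.index = 2 ^ 23 := by
  unfold sameParity
  rw [AddSubgroup.index_ker, AddMonoidHom.range_eq_top.mpr parHom_surjective]
  rw [Nat.card_congr (AddSubgroup.topEquiv (G := ZMod 23 → ZMod 2)).toEquiv]
  rw [Nat.card_eq_fintype_card, Fintype.card_fun, ZMod.card, ZMod.card]

theorem leechLattice_le_sameParity : leechLattice ≤ sameParity := by
  intro x hx
  obtain ⟨m, h2, -, -⟩ := (mem_leechLattice_iff x).mp hx
  rw [mem_sameParity]
  intro i
  exact (h2 i).trans (h2 none).symm

/-- The vectors with all coordinates of the same parity whose second binary digits form a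
code word. -/
def codeParity : AddSubgroup (GolayPt → ℤ) where
  carrier := {x | x ∈ sameParity ∧ typeWord x ∈ golayCode}
  zero_mem' := by
    refine ⟨sameParity.zero_mem, ?_⟩
    have : typeWord 0 = 0 := by
      funext i
      simp [typeWord, gBit]
    rw [this]; exact Submodule.zero_mem _
  add_mem' := by
    rintro x y ⟨hx, hx'⟩ ⟨hy, hy'⟩
    refine ⟨sameParity.add_mem hx hy, ?_⟩
    rw [typeWord_add (mem_sameParity.mp hx) (mem_sameParity.mp hy)]
    exact Submodule.add_mem _ hx' hy'
  neg_mem' := by
    rintro x ⟨hx, hx'⟩
    refine ⟨sameParity.neg_mem hx, ?_⟩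
    have h0 : typeWord (x + -x) = typeWord x + typeWord (-x) :=
      typeWord_add (mem_sameParity.mp hx) (mem_sameParity.mp (sameParity.neg_mem hx))
    have hz : typeWord (x + -x) = 0 := by
      rw [add_neg_cancel]
      funext i
      simp [typeWord, gBit]
    rw [hz] at h0
    have : typeWord (-x) = -typeWord x := by
      rw [eq_neg_iff_add_eq_zero, add_comm]; exact h0.symm
    show typeWord (-x) ∈ golayCode
    rw [this]; exact Submodule.neg_mem _ hx'

theorem mem_codeParity {x : GolayPt → ℤ} :
    x ∈ codeParity ↔ x ∈ sameParity ∧ typeWord x ∈ golayCode := Iff.rfl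

theorem codeParity_le : codeParity ≤ sameParity := fun _ hx => hx.1

theorem leechLattice_le_codeParity : leechLattice ≤ codeParity := fun _ hx =>
  ⟨leechLattice_le_sameParity hx, typeWord_mem hx⟩

/-- `typeWord` as a homomorphism on `sameParity`. -/
def typeHom' : sameParity →+ (GolayPt → ZMod 2) :=
  AddMonoidHom.mk' (fun x => typeWord x.1)
    (fun x y => typeWord_add (mem_sameParity.mp x.2) (mem_sameParity.mp y.2))

theorem typeHom'_surjective : Function.Surjective typeHom' := by
  intro w
  -- first a preimage of a word vanishing at the extra point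
  have key : ∀ w : GolayPt → ZMod 2, w none = 0 → ∃ x : sameParity, typeHom' x = w := by
    intro w h0
    have hmem : (fun i => if w i = 1 then (2 : ℤ) else 0) ∈ sameParity := by
      rw [mem_sameParity]
      intro i
      by_cases h : w i = 1
      · simp only [if_pos h, h0]; decide
      · simp only [if_neg h, h0]; decide
    exact ⟨⟨_, hmem⟩, typeWord_two_ind w h0⟩
  rcases zmod2_cases (w none) with h | h
  · exact key w h
  · have h0 : (w + 1) none = 0 := by
      simp only [Pi.add_apply, Pi.one_apply, h]; decide
    obtain ⟨x, hx⟩ := key (w + 1) h0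
    have hv : vecThree ∈ sameParity := leechLattice_le_sameParity vecThree_mem
    refine ⟨x + ⟨vecThree, hv⟩, ?_⟩
    rw [map_add, hx]
    have : typeHom' ⟨vecThree, hv⟩ = 1 := typeWord_vecThree
    rw [this]
    funext i
    simp only [Pi.add_apply, Pi.one_apply]
    have h2z : (2 : ZMod 2) = 0 := by decide
    linear_combination h2z

theorem golayCode_index : golayCode.toAddSubgroup.index = 2 ^ 12 := by
  have h := AddSubgroup.card_mul_index golayCode.toAddSubgroup
  have h1 : Nat.card golayCode.toAddSubgroup = 4096 :=
    Cfsg.Agent.Lib.Helper6.Golay.card_golayCode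
  have h2 : Nat.card (GolayPt → ZMod 2) = 2 ^ 24 := by
    rw [Nat.card_eq_fintype_card, Fintype.card_fun, ZMod.card, card_golayPt]
  rw [h1, h2] at h
  omega

theorem codeParity_relIndex : codeParity.relIndex sameParity = 2 ^ 12 := by
  have hker : codeParity.addSubgroupOf sameParity =
      ((QuotientAddGroup.mk' golayCode.toAddSubgroup).comp typeHom').ker := by
    ext x
    rw [AddSubgroup.mem_addSubgroupOf, AddMonoidHom.mem_ker, AddMonoidHom.comp_apply,
      QuotientAddGroup.mk'_apply, QuotientAddGroup.eq_zero_iff]
    constructor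
    · intro h; exact h.2
    · intro h; exact ⟨x.2, h⟩
  show (codeParity.addSubgroupOf sameParity).index = 2 ^ 12
  rw [hker, AddSubgroup.index_ker]
  have hsurj : Function.Surjective ((QuotientAddGroup.mk' golayCode.toAddSubgroup).comp typeHom') :=
    (QuotientAddGroup.mk'_surjective _).comp typeHom'_surjective
  rw [AddMonoidHom.range_eq_top.mpr hsurj]
  rw [Nat.card_congr (AddSubgroup.topEquiv
    (G := (GolayPt → ZMod 2) ⧸ golayCode.toAddSubgroup)).toEquiv]
  rw [← AddSubgroup.index_eq_card]
  exact golayCode_index

/-- The coordinate sum corrected at the extra point, modulo `8`. -/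
def sumHom : (GolayPt → ℤ) →+ ZMod 8 where
  toFun x := ((∑ i, x i - 4 * x none : ℤ) : ZMod 8)
  map_zero' := by simp
  map_add' x y := by
    simp only [Pi.add_apply, Finset.sum_add_distrib]
    push_cast
    ring

theorem sumHom_apply (x : GolayPt → ℤ) : sumHom x = ((∑ i, x i - 4 * x none : ℤ) : ZMod 8) := rfl

theorem mem_leech_iff_of_codeParity {x : GolayPt → ℤ} (hx : x ∈ codeParity) :
    x ∈ leechLattice ↔ sumHom x = 0 := by
  have hpar := mem_sameParity.mp hx.1
  have hz : sumHom x = 0 ↔ (∑ i, x i - 4 * x none) % 8 = 0 := by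
    rw [sumHom_apply]
    have : ((0 : ZMod 8)) = ((0 : ℤ) : ZMod 8) := by simp
    rw [this, ZMod.intCast_eq_intCast_iff]
    unfold Int.ModEq
    simp
  rw [hz, mem_leechLattice_iff]
  constructor
  · rintro ⟨m, h2, h8, -⟩
    have := h2 none
    unfold Int.ModEq at this h8
    omega
  · intro h
    refine ⟨x none, hpar, ?_, ?_⟩
    · unfold Int.ModEq
      omega
    · have := hx.2
      rw [typeWord_eq] at this
      have h1 : gBit (x none) • (1 : GolayPt → ZMod 2) ∈ golayCode :=
        Submodule.smul_mem _ _ one_mem_golayCode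
      have h3 := Submodule.sub_mem _ this h1
      simpa using h3

theorem sum_mod_four {x : GolayPt → ℤ} (hx : x ∈ codeParity) : (∑ i, x i) % 4 = 0 := by
  have hpar := mem_sameParity.mp hx.1
  have hb : bitWord x ∈ golayCode := by
    have := hx.2
    rw [typeWord_eq] at this
    have h1 : gBit (x none) • (1 : GolayPt → ZMod 2) ∈ golayCode :=
      Submodule.smul_mem _ _ one_mem_golayCode
    have h3 := Submodule.sub_mem _ this h1
    simpa using h3
  have hw := weight_mod _ hb
  have hc := card_support_bitWord x
  have hterm : ∀ i, (4 : ℤ) ∣ x i - x none % 2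
      - 2 * (if x i % 4 = 2 ∨ x i % 4 = 3 then (1 : ℤ) else 0) := by
    intro i
    have hi := hpar i
    unfold Int.ModEq at hi
    by_cases h : x i % 4 = 2 ∨ x i % 4 = 3
    · rw [if_pos h]; omega
    · rw [if_neg h]; omega
  have hs : (4 : ℤ) ∣ ∑ i, (x i - x none % 2
      - 2 * (if x i % 4 = 2 ∨ x i % 4 = 3 then (1 : ℤ) else 0)) :=
    Finset.dvd_sum (fun i _ => hterm i)
  rw [Finset.sum_sub_distrib, Finset.sum_sub_distrib, ← Finset.mul_sum, ← hc] at hs
  simp only [Finset.sum_const, Finset.card_univ, card_golayPt, nsmul_eq_mul] at hs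
  push_cast at hs
  omega

/-- The vector with a single coordinate `4`. -/
def vecFour : GolayPt → ℤ := fun i => if i = some 0 then 4 else 0

theorem vecFour_mem : vecFour ∈ codeParity := by
  refine ⟨?_, ?_⟩
  · rw [mem_sameParity]
    intro i
    simp only [vecFour]
    by_cases h : i = some 0
    · rw [if_pos h]; decide
    · rw [if_neg h]; decide
  · have : typeWord vecFour = 0 := by
      funext i
      simp only [typeWord, gBit, vecFour, Pi.zero_apply]
      by_cases h : i = some 0
      · rw [if_pos h]; decide
      · rw [if_neg h]; decide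
    rw [this]; exact Submodule.zero_mem _

theorem sumHom_vecFour : sumHom vecFour = 4 := by
  rw [sumHom_apply]
  have : (∑ i, vecFour i - 4 * vecFour none : ℤ) = 4 := by decide
  rw [this]; rfl

theorem leech_relIndex : leechLattice.relIndex codeParity = 2 := by
  have h1 : leechLattice = sumHom.ker ⊓ codeParity := by
    ext x
    rw [AddSubgroup.mem_inf, AddMonoidHom.mem_ker]
    constructor
    · intro hx
      exact ⟨(mem_leech_iff_of_codeParity (leechLattice_le_codeParity hx)).mp hx,
        leechLattice_le_codeParity hx⟩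
    · rintro ⟨h0, hx⟩
      exact (mem_leech_iff_of_codeParity hx).mpr h0
  rw [h1, AddSubgroup.inf_relIndex_right, AddSubgroup.relIndex_ker]
  have hmap : codeParity.map sumHom = AddSubgroup.zmultiples (4 : ZMod 8) := by
    ext y
    rw [AddSubgroup.mem_map, AddSubgroup.mem_zmultiples_iff]
    constructor
    · rintro ⟨x, hx, rfl⟩
      have h4 := sum_mod_four hx
      rw [sumHom_apply]
      refine ⟨(∑ i, x i - 4 * x none) / 4, ?_⟩
      have : (∑ i, x i - 4 * x none) = ((∑ i, x i - 4 * x none) / 4) * 4 := by omega
      conv_rhs => rw [this]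
      push_cast
      simp
    · rintro ⟨k, rfl⟩
      refine ⟨k • vecFour, codeParity.zsmul_mem vecFour_mem k, ?_⟩
      rw [map_zsmul, sumHom_vecFour]
  rw [hmap, Nat.card_zmultiples]
  exact addOrderOf_eq_prime (by decide) (by decide)

/-- The lattice has index `2 ^ 36` in the group of all integer vectors. -/
theorem leechLattice_index : leechLattice.index = 2 ^ 36 := by
  rw [← AddSubgroup.relIndex_mul_index leechLattice_le_sameParity,
    ← AddSubgroup.relIndex_mul_relIndex _ _ _ leechLattice_le_codeParity codeParity_le,
    leech_relIndex, codeParity_relIndex, sameParity_index]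
  norm_num

end Cfsg.Agent.Lib.Helper92
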