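import Cfsg.Agent.Lib.Helper92.LeechCountVals
import Cfsg.Agent.Lib.Helper92.LeechIndex

set_option autoImplicit false

namespace Cfsg.Agent.Lib.Helper92

open Cfsg Cfsg.Agent.Lib.Helper7

/-! ### Twice the lattice and its index -/

/-- Doubling of integer vectors. -/
def dblHom : (GolayPt → ℤ) →+ (GolayPt → ℤ) := nsmulAddMonoidHom 2

theorem dblHom_apply (x : GolayPt → ℤ) : dblHom x = 2 • x := rfl

theorem dblHom_injective : Function.Injective dblHom := by
  intro x y h
  funext i
  have hi := congrFun h i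
  simp only [dblHom_apply, Pi.smul_apply, nsmul_eq_mul] at hi
  push_cast at hi
  omega

/-- Twice the lattice. -/
def twoL : AddSubgroup (GolayPt → ℤ) := leechLattice.map dblHom

theorem mem_twoL {x : GolayPt → ℤ} : x ∈ twoL ↔ ∃ z ∈ leechLattice, x = 2 • z := by
  unfold twoL
  rw [AddSubgroup.mem_map]
  constructor
  · rintro ⟨z, hz, rfl⟩; exact ⟨z, hz, rfl⟩
  · rintro ⟨z, hz, rfl⟩; exact ⟨z, hz, rfl⟩

theorem twoL_le : twoL ≤ leechLattice := by
  intro x hx
  obtain ⟨z, hz, rfl⟩ := mem_twoL.mp hx
  exact leechLattice.nsmul_mem hz 2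

/-- Reduction modulo `2`. -/
def modTwoHom : (GolayPt → ℤ) →+ (GolayPt → ZMod 2) := (Int.castAddHom (ZMod 2)).compLeft GolayPt

theorem modTwoHom_apply (x : GolayPt → ℤ) (i : GolayPt) : modTwoHom x i = ((x i : ℤ) : ZMod 2) := rfl

theorem dblHom_range : dblHom.range = modTwoHom.ker := by
  ext x
  rw [AddMonoidHom.mem_range, AddMonoidHom.mem_ker]
  constructor
  · rintro ⟨z, rfl⟩
    funext i
    rw [modTwoHom_apply, dblHom_apply]
    simp only [Pi.smul_apply, nsmul_eq_mul, Pi.zero_apply]
    push_cast
    have : (2 : ZMod 2) = 0 := by decide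
    rw [this, zero_mul]
  · intro h
    refine ⟨fun i => x i / 2, ?_⟩
    funext i
    have hi := congrFun h i
    rw [modTwoHom_apply, Pi.zero_apply, ZMod.intCast_zmod_eq_zero_iff_dvd] at hi
    rw [dblHom_apply]
    simp only [Pi.smul_apply, nsmul_eq_mul]
    push_cast at hi ⊢
    omega

theorem modTwoHom_surjective : Function.Surjective modTwoHom := by
  intro w
  refine ⟨fun i => ((w i).val : ℤ), ?_⟩
  funext i
  rw [modTwoHom_apply]
  simp

theorem dblHom_range_index : dblHom.range.index = 2 ^ 24 := by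
  rw [dblHom_range, AddSubgroup.index_ker, AddMonoidHom.range_eq_top.mpr modTwoHom_surjective]
  rw [Nat.card_congr (AddSubgroup.topEquiv (G := GolayPt → ZMod 2)).toEquiv]
  rw [Nat.card_eq_fintype_card, Fintype.card_fun, ZMod.card, card_golayPt]

theorem twoL_index : twoL.index = 2 ^ 36 * 2 ^ 24 := by
  unfold twoL
  rw [AddSubgroup.index_map_of_injective _ dblHom_injective, leechLattice_index, dblHom_range_index]

theorem twoL_relIndex : twoL.relIndex leechLattice = 2 ^ 24 := by
  have h := AddSubgroup.relIndex_mul_index twoL_le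
  rw [twoL_index, leechLattice_index] at h
  exact Nat.eq_of_mul_eq_mul_right (by positivity) (h.trans (mul_comm _ _))

/-! ### Short vectors in a class -/

theorem short_cong {y y' : GolayPt → ℤ} (_hy : y ∈ leechLattice) (hy' : y' ∈ leechLattice)
    (h : y - y' ∈ twoL) (hn : sqNorm y ≤ 64) (hn' : sqNorm y' ≤ 64) :
    y' = y ∨ y' = -y ∨ (sqNorm y = 64 ∧ sqNorm y' = 64 ∧ dotInt y y' = 0) := by
  obtain ⟨z, hz, hyz⟩ := mem_twoL.mp h
  by_cases h1 : y' = y
  · exact Or.inl h1
  by_cases h2 : y' = -y
  · exact Or.inr (Or.inl h2)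
  right; right
  have hz0 : z ≠ 0 := by
    rintro rfl
    apply h1
    rw [smul_zero] at hyz
    exact (sub_eq_zero.mp hyz).symm
  have hzn := sqNorm_ge hz hz0
  have e1 : sqNorm (y - y') = 4 * sqNorm z := by rw [hyz, sqNorm_two_smul']
  have hsum : y + y' = 2 • (z + y') := by
    rw [smul_add, ← hyz, two_smul]
    abel
  have hz' : z + y' ∈ leechLattice := add_mem hz hy'
  have hz'0 : z + y' ≠ 0 := by
    intro h0
    apply h2
    rw [h0, smul_zero] at hsum
    exact (neg_eq_of_add_eq_zero_right hsum).symm ▸ rfl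
  have hzn' := sqNorm_ge hz' hz'0
  have e2 : sqNorm (y + y') = 4 * sqNorm (z + y') := by rw [hsum, sqNorm_two_smul']
  rw [sqNorm_sub] at e1
  rw [sqNorm_add] at e2
  refine ⟨by omega, by omega, by omega⟩

/-! ### At most 48 pairwise orthogonal or opposite vectors -/

/-- An integer vector as a vector of Euclidean space. -/
noncomputable def toE (y : GolayPt → ℤ) : EuclideanSpace ℝ GolayPt :=
  WithLp.toLp 2 (fun i => (y i : ℝ))

theorem inner_toE (y y' : GolayPt → ℤ) : inner ℝ (toE y) (toE y') = ((dotInt y y' : ℤ) : ℝ) := by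
  unfold toE dotInt
  rw [PiLp.inner_apply]
  push_cast
  refine Finset.sum_congr rfl (fun i _ => ?_)
  simp [mul_comm]

theorem toE_ne_zero {y : GolayPt → ℤ} (h : y ≠ 0) : toE y ≠ 0 := by
  intro h0
  apply h
  funext i
  have hi : (toE y) i = (0 : EuclideanSpace ℝ GolayPt) i := by rw [h0]
  simp only [toE, PiLp.zero_apply] at hi
  exact_mod_cast hi

theorem card_le_of_ortho (F : Finset (GolayPt → ℤ)) (h0 : ∀ y ∈ F, y ≠ 0)
    (h : ∀ y ∈ F, ∀ y' ∈ F, y' = y ∨ y' = -y ∨ dotInt y y' = 0) : F.card ≤ 48 := by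
  classical
  let g : (GolayPt → ℤ) → Finset (GolayPt → ℤ) := fun y => {y, -y}
  have h1 : F.card ≤ 2 * (F.image g).card := by
    refine Finset.card_le_mul_card_image F 2 (fun a ha => ?_)
    obtain ⟨y₀, hy₀, rfl⟩ := Finset.mem_image.mp ha
    have hsub : F.filter (fun x => g x = g y₀) ⊆ {y₀, -y₀} := by
      intro x hx
      have hx2 : g x = g y₀ := (Finset.mem_filter.mp hx).2
      have : x ∈ g x := Finset.mem_insert_self _ _
      rw [hx2] at this
      exact this
    exact (Finset.card_le_card hsub).trans Finset.card_le_two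
  have h2 : (F.image g).card ≤ 24 := by
    have hrep : ∀ a : (F.image g : Finset _), ∃ y ∈ F, g y = a.1 := fun a =>
      Finset.mem_image.mp a.2
    choose rep hrepF hrepg using hrep
    have hli : LinearIndependent ℝ (fun a : (F.image g : Finset _) => toE (rep a)) := by
      refine linearIndependent_of_ne_zero_of_inner_eq_zero (fun a => toE_ne_zero (h0 _ (hrepF a))) ?_
      intro a b hab
      rw [inner_toE]
      rcases h _ (hrepF a) _ (hrepF b) with h3 | h3 | h3
      · exfalso
        apply hab
        apply Subtype.ext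
        rw [← hrepg a, ← hrepg b, h3]
      · exfalso
        apply hab
        apply Subtype.ext
        rw [← hrepg a, ← hrepg b, h3]
        show ({rep a, -rep a} : Finset (GolayPt → ℤ)) = {-rep a, - -rep a}
        rw [neg_neg, Finset.pair_comm]
      · rw [h3]; simp
    have := hli.fintype_card_le_finrank
    rw [finrank_euclideanSpace, card_golayPt, Fintype.card_coe] at this
    exact this
  omega

/-! ### The weighted count of short vectors -/

/-- The lattice vectors of sum of squares at most `64`. -/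
def shortSet : Set (GolayPt → ℤ) := {y | y ∈ leechLattice ∧ sqNorm y ≤ 64}

theorem shortSet_finite : shortSet.Finite :=
  finite_box _ (fun _ hy => mem_boxW_of_sq hy.2)

/-- The lattice vectors of sum of squares at most `64`, as a finite set. -/
noncomputable def shortF : Finset (GolayPt → ℤ) := shortSet_finite.toFinset

theorem mem_shortF {y : GolayPt → ℤ} : y ∈ shortF ↔ y ∈ leechLattice ∧ sqNorm y ≤ 64 := by
  unfold shortF
  rw [Set.Finite.mem_toFinset]
  rfl

/-- The weight of a vector of a given sum of squares. -/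
def wtN (n : ℤ) : ℕ := if n = 0 then 48 else if n = 64 then 1 else 24

theorem sqNorm_eq_zero {y : GolayPt → ℤ} (h : sqNorm y = 0) : y = 0 := by
  unfold sqNorm at h
  funext i
  have := (Finset.sum_eq_zero_iff_of_nonneg (fun j _ => sq_nonneg (y j))).mp h i (Finset.mem_univ i)
  exact pow_eq_zero_iff (two_ne_zero) |>.mp this

theorem sqNorm_zero' : sqNorm (0 : GolayPt → ℤ) = 0 := by
  unfold sqNorm
  simp

theorem sqNorm_cases {y : GolayPt → ℤ} (hy : y ∈ shortF) :
    sqNorm y ∈ ({0, 32, 48, 64} : Finset ℤ) := by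
  obtain ⟨hy1, hy2⟩ := mem_shortF.mp hy
  have hd := sqNorm_dvd hy1
  simp only [Finset.mem_insert, Finset.mem_singleton]
  by_cases h0 : y = 0
  · left; rw [h0]; exact sqNorm_zero'
  · have := sqNorm_ge hy1 h0
    omega

theorem card_filter_short (n : ℤ) (hn : n ≤ 64) :
    (shortF.filter (fun y => sqNorm y = n)).card =
      {x : GolayPt → ℤ | x ∈ leechLattice ∧ sqNorm x = n}.ncard := by
  rw [← Set.ncard_coe_finset]
  congr 1
  ext y
  simp only [Finset.coe_filter, Set.mem_ofPred_eq, mem_shortF]
  constructor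
  · rintro ⟨⟨h1, -⟩, h2⟩; exact ⟨h1, h2⟩
  · rintro ⟨h1, h2⟩; exact ⟨⟨h1, by omega⟩, h2⟩

theorem card_filter_zero : (shortF.filter (fun y => sqNorm y = 0)).card = 1 := by
  rw [Finset.card_eq_one]
  refine ⟨0, ?_⟩
  ext y
  simp only [Finset.mem_filter, Finset.mem_singleton, mem_shortF]
  constructor
  · rintro ⟨-, h⟩; exact sqNorm_eq_zero h
  · rintro rfl
    exact ⟨⟨leechLattice.zero_mem, by rw [sqNorm_zero']; norm_num⟩, sqNorm_zero'⟩

theorem weighted_total : ∑ y ∈ shortF, wtN (sqNorm y) = 48 * 2 ^ 24 := by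
  classical
  rw [← Finset.sum_fiberwise_of_maps_to (fun y hy => sqNorm_cases hy)]
  have hin : ∀ n : ℤ, ∑ y ∈ shortF.filter (fun y => sqNorm y = n), wtN (sqNorm y) =
      (shortF.filter (fun y => sqNorm y = n)).card * wtN n := by
    intro n
    rw [← smul_eq_mul, ← Finset.sum_const]
    refine Finset.sum_congr rfl (fun y hy => ?_)
    rw [(Finset.mem_filter.mp hy).2]
  simp only [hin]
  rw [Finset.sum_insert (by decide), Finset.sum_insert (by decide), Finset.sum_insert (by decide),
    Finset.sum_singleton, card_filter_zero, card_filter_short 32 (by norm_num),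
    card_filter_short 48 (by norm_num), card_filter_short 64 (by norm_num), count32, count48,
    count64]
  have e0 : wtN 0 = 48 := by decide
  have e1 : wtN 32 = 24 := by decide
  have e2 : wtN 48 = 24 := by decide
  have e3 : wtN 64 = 1 := by decide
  rw [e0, e1, e2, e3]
  norm_num

/-! ### Classes modulo twice the lattice -/

/-- The group of classes of the lattice modulo twice the lattice. -/
abbrev ClassQ : Type := leechLattice ⧸ (twoL.addSubgroupOf leechLattice)

theorem card_classQ : Nat.card ClassQ = 2 ^ 24 := twoL_relIndex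

/-- The class of a vector (zero outside the lattice). -/
noncomputable def classOf (y : GolayPt → ℤ) : ClassQ := by
  classical
  exact if h : y ∈ leechLattice then QuotientAddGroup.mk ⟨y, h⟩ else 0

theorem classOf_eq_iff {y y' : GolayPt → ℤ} (hy : y ∈ leechLattice) (hy' : y' ∈ leechLattice) :
    classOf y = classOf y' ↔ y - y' ∈ twoL := by
  unfold classOf
  rw [dif_pos hy, dif_pos hy', QuotientAddGroup.eq, AddSubgroup.mem_addSubgroupOf]
  have e : ((-(⟨y, hy⟩ : leechLattice) + ⟨y', hy'⟩ : leechLattice) : GolayPt → ℤ) = -(y - y') := by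
    show -y + y' = -(y - y')
    abel
  rw [e, neg_mem_iff]

/-- The total weight of the short vectors of a class. -/
noncomputable def fiberWt (k : ClassQ) : ℕ := by
  classical
  exact ∑ y ∈ shortF.filter (fun y => classOf y = k), wtN (sqNorm y)

theorem fiberWt_le (k : ClassQ) : fiberWt k ≤ 48 := by
  classical
  unfold fiberWt
  by_cases hA : ∃ y₀ ∈ shortF.filter (fun y => classOf y = k), sqNorm y₀ < 64
  · obtain ⟨y₀, hy₀, hlt⟩ := hA
    obtain ⟨hy₀s, hy₀k⟩ := Finset.mem_filter.mp hy₀
    obtain ⟨hy₀L, hy₀n⟩ := mem_shortF.mp hy₀s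
    have hsub : shortF.filter (fun y => classOf y = k) ⊆ {y₀, -y₀} := by
      intro y hy
      obtain ⟨hys, hyk⟩ := Finset.mem_filter.mp hy
      obtain ⟨hyL, hyn⟩ := mem_shortF.mp hys
      have hc : y₀ - y ∈ twoL := (classOf_eq_iff hy₀L hyL).mp (hy₀k.trans hyk.symm)
      rcases short_cong hy₀L hyL hc hy₀n hyn with h | h | h
      · rw [h]; exact Finset.mem_insert_self _ _
      · rw [h]; exact Finset.mem_insert_of_mem (Finset.mem_singleton_self _)
      · omega
    refine (Finset.sum_le_sum_of_subset hsub).trans ?_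
    by_cases h0 : y₀ = 0
    · rw [h0, neg_zero, Finset.pair_eq_singleton, Finset.sum_singleton, sqNorm_zero']
      decide
    · have hne : y₀ ≠ -y₀ := by
        intro h
        apply h0
        funext i
        have hi := congrFun h i
        simp only [Pi.neg_apply, Pi.zero_apply] at hi ⊢
        omega
      rw [Finset.sum_pair hne, sqNorm_neg']
      have hge := sqNorm_ge hy₀L h0
      have : wtN (sqNorm y₀) = 24 := by
        unfold wtN
        rw [if_neg (by omega), if_neg (by omega)]
      rw [this]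
  · push Not at hA
    have h64 : ∀ y ∈ shortF.filter (fun y => classOf y = k), sqNorm y = 64 := by
      intro y hy
      have h1 := hA y hy
      have h2 := (mem_shortF.mp (Finset.mem_filter.mp hy).1).2
      omega
    have hsum : ∑ y ∈ shortF.filter (fun y => classOf y = k), wtN (sqNorm y) =
        (shortF.filter (fun y => classOf y = k)).card := by
      rw [Finset.card_eq_sum_ones]
      refine Finset.sum_congr rfl (fun y hy => ?_)
      rw [h64 y hy]
      decide
    rw [hsum]
    refine card_le_of_ortho _ (fun y hy h0 => ?_) (fun y hy y' hy' => ?_)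
    · have := h64 y hy
      rw [h0, sqNorm_zero'] at this
      omega
    · obtain ⟨hys, hyk⟩ := Finset.mem_filter.mp hy
      obtain ⟨hyL, hyn⟩ := mem_shortF.mp hys
      obtain ⟨hys', hyk'⟩ := Finset.mem_filter.mp hy'
      obtain ⟨hyL', hyn'⟩ := mem_shortF.mp hys'
      have hc : y - y' ∈ twoL := (classOf_eq_iff hyL hyL').mp (hyk.trans hyk'.symm)
      rcases short_cong hyL hyL' hc hyn hyn' with h | h | h
      · exact Or.inl h
      · exact Or.inr (Or.inl h)
      · exact Or.inr (Or.inr h.2.2)

theorem fiberWt_eq (k : ClassQ) : fiberWt k = 48 := by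
  classical
  haveI : Finite ClassQ := Nat.finite_of_card_ne_zero (by rw [card_classQ]; positivity)
  haveI : Fintype ClassQ := Fintype.ofFinite _
  have hsum : ∑ k : ClassQ, fiberWt k = ∑ _k : ClassQ, 48 := by
    have h1 : ∑ k : ClassQ, fiberWt k = ∑ y ∈ shortF, wtN (sqNorm y) := by
      unfold fiberWt
      exact Finset.sum_fiberwise shortF classOf (fun y => wtN (sqNorm y))
    rw [h1, weighted_total, Finset.sum_const, Finset.card_univ, ← Nat.card_eq_fintype_card,
      card_classQ, smul_eq_mul, mul_comm]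
  exact (Finset.sum_eq_sum_iff_of_le (fun k _ => fiberWt_le k)).mp hsum k (Finset.mem_univ k)

/-- Every class modulo twice the lattice contains a vector of sum of squares at most `64`. -/
theorem exists_short (x : GolayPt → ℤ) (hx : x ∈ leechLattice) :
    ∃ y ∈ leechLattice, sqNorm y ≤ 64 ∧ ∃ z ∈ leechLattice, x - y = 2 • z := by
  classical
  have h := fiberWt_eq (classOf x)
  unfold fiberWt at h
  have hne : (shortF.filter (fun y => classOf y = classOf x)).Nonempty := by
    by_contra hc
    rw [Finset.not_nonempty_iff_eq_empty] at hc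
    rw [hc, Finset.sum_empty] at h
    omega
  obtain ⟨y, hy⟩ := hne
  obtain ⟨hys, hyk⟩ := Finset.mem_filter.mp hy
  obtain ⟨hyL, hyn⟩ := mem_shortF.mp hys
  exact ⟨y, hyL, hyn, mem_twoL.mp ((classOf_eq_iff hx hyL).mp hyk.symm)⟩

/-- The vectors of sum of squares `64` congruent to a given one modulo twice the lattice are
`48` in number. -/
theorem ncard_class64 (x : GolayPt → ℤ) (hx : x ∈ leechLattice) (hxn : sqNorm x = 64) :
    {y : GolayPt → ℤ | y ∈ leechLattice ∧ sqNorm y = sqNorm x ∧
      ∃ z ∈ leechLattice, x - y = 2 • z}.ncard = 48 := by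
  classical
  have h := fiberWt_eq (classOf x)
  unfold fiberWt at h
  have hset : {y : GolayPt → ℤ | y ∈ leechLattice ∧ sqNorm y = sqNorm x ∧
      ∃ z ∈ leechLattice, x - y = 2 • z} =
      ((shortF.filter (fun y => classOf y = classOf x) : Finset _) : Set (GolayPt → ℤ)) := by
    ext y
    simp only [Finset.coe_filter, mem_shortF]
    constructor
    · rintro ⟨hyL, hyn, hz⟩
      exact ⟨⟨hyL, by rw [hyn, hxn]⟩, ((classOf_eq_iff hx hyL).mpr (mem_twoL.mpr hz)).symm⟩
    · rintro ⟨⟨hyL, hyn⟩, hk⟩
      have hc : x - y ∈ twoL := (classOf_eq_iff hx hyL).mp hk.symm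
      refine ⟨hyL, ?_, mem_twoL.mp hc⟩
      rcases short_cong hx hyL hc (by omega) hyn with h1 | h1 | h1
      · rw [h1]
      · rw [h1, sqNorm_neg']
      · rw [h1.2.1, hxn]
  rw [hset, Set.ncard_coe_finset]
  have h64 : ∀ y ∈ shortF.filter (fun y => classOf y = classOf x), sqNorm y = 64 := by
    intro y hy
    have hy' : y ∈ ((shortF.filter (fun y => classOf y = classOf x) : Finset _) :
        Set (GolayPt → ℤ)) := hy
    rw [← hset] at hy'
    rw [hy'.2.1, hxn]
  rw [Finset.card_eq_sum_ones, ← h]
  refine Finset.sum_congr rfl (fun y hy => ?_)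
  rw [h64 y hy]
  decide

end Cfsg.Agent.Lib.Helper92
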