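import Cfsg.Agent.Lib.Helper92.LeechPairs
import Cfsg.Agent.Lib.Helper92.LeechClasses

set_option autoImplicit false

open scoped Pointwise

namespace Cfsg.Agent.Lib.Helper92

open Cfsg Cfsg.Spor Cfsg.Agent.Lib.Helper7

/-! ### Vectors of sum of squares `64` -/

/-- Every lattice vector with sum of squares `64` is the sum of two orthogonal minimal
vectors. -/
theorem decomp64 {x : GolayPt → ℤ} (hx : x ∈ leechLattice) (hn : sqNorm x = 64) :
    ∃ v w, v ∈ leechLattice ∧ w ∈ leechLattice ∧ sqNorm v = 32 ∧ sqNorm w = 32 ∧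
      dotInt v w = 0 ∧ x = v + w := by
  classical
  have h48 := ncard_class64 x hx hn
  have hlt : ({x, -x} : Set (GolayPt → ℤ)).ncard <
      {y : GolayPt → ℤ | y ∈ leechLattice ∧ sqNorm y = sqNorm x ∧
        ∃ z ∈ leechLattice, x - y = 2 • z}.ncard := by
    rw [h48]
    have h1 := Set.ncard_insert_le x ({-x} : Set (GolayPt → ℤ))
    rw [Set.ncard_singleton] at h1
    omega
  obtain ⟨f, hf, hfn⟩ := Set.exists_mem_notMem_of_ncard_lt_ncard hlt (Set.toFinite _)
  obtain ⟨hfL, hfnorm, z, hz, hxz⟩ := hf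
  rw [hn] at hfnorm
  have hf1 : f ≠ x := fun h => hfn (by rw [h]; exact Set.mem_insert _ _)
  have hf2 : f ≠ -x := fun h => hfn (by rw [h]; exact Set.mem_insert_of_mem _ rfl)
  have hdot : dotInt x f = 0 := by
    rcases short_cong hx hfL (mem_twoL.mpr ⟨z, hz, hxz⟩) (by omega) (by omega) with h | h | h
    · exact absurd h hf1
    · exact absurd h hf2
    · exact h.2.2
  have hzn : sqNorm z = 32 := by
    have e1 : sqNorm (x - f) = 4 * sqNorm z := by rw [hxz, sqNorm_two_smul']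
    rw [sqNorm_sub] at e1
    omega
  have hv : x - z ∈ leechLattice := sub_mem hx hz
  have hvn : sqNorm (x - z) = 32 := by
    have hsum : x + f = 2 • (x - z) := by
      have : f = x - 2 • z := by rw [← hxz]; abel
      rw [this, smul_sub, two_smul, two_smul]
      abel
    have e2 : sqNorm (x + f) = 4 * sqNorm (x - z) := by rw [hsum, sqNorm_two_smul']
    rw [sqNorm_add] at e2
    omega
  refine ⟨x - z, z, hv, hz, hvn, hzn, ?_, by abel⟩
  have h3 : sqNorm ((x - z) + z) = 64 := by rw [sub_add_cancel]; exact hn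
  have := dot_of_norms hvn hzn h3
  omega

/-- The automorphism group is transitive on the lattice vectors with sum of squares `64`. -/
theorem co0_trans_64 (x x' : leechLattice) (hx : sqNorm (x : GolayPt → ℤ) = 64)
    (hx' : sqNorm (x' : GolayPt → ℤ) = 64) : ∃ g : Co0, g • x = x' := by
  obtain ⟨v, w, hv, hw, hvn, hwn, hd, e⟩ := decomp64 x.2 hx
  obtain ⟨v', w', hv', hw', hvn', hwn', hd', e'⟩ := decomp64 x'.2 hx'
  obtain ⟨g, h1, h2⟩ := pair_transfer trans0 ⟨v, hv⟩ ⟨w, hw⟩ ⟨v', hv'⟩ ⟨w', hw'⟩ hvn hwn hvn' hwn'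
    hd hd'
  refine ⟨g, ?_⟩
  have ex : x = ⟨v, hv⟩ + ⟨w, hw⟩ := Subtype.ext e
  have ex' : x' = ⟨v', hv'⟩ + ⟨w', hw'⟩ := Subtype.ext e'
  rw [ex, ex', co0_smul_add, h1, h2]

end Cfsg.Agent.Lib.Helper92
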