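import Cfsg.Agent.Lib.Helper92.LeechDesign
import Cfsg.Agent.Lib.Helper92.LeechTrans4

set_option autoImplicit false

open scoped Pointwise

namespace Cfsg.Agent.Lib.Helper92

open Cfsg Cfsg.Spor Cfsg.Agent.Lib.Helper7

/-! ### The census of minimal vectors by inner product with a fixed one -/

/-- The number of minimal vectors with inner product `d` with `v`. -/
noncomputable def nd (v : GolayPt → ℤ) (d : ℤ) : ℕ := (minF.filter (fun w => dotInt v w = d)).card

theorem neg_mem_minF {w : GolayPt → ℤ} (hw : w ∈ minF) : -w ∈ minF := by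
  rw [mem_minF] at hw ⊢
  exact ⟨neg_mem hw.1, by rw [sqNorm_neg']; exact hw.2⟩

theorem dot_cases {v w : GolayPt → ℤ} (hv : v ∈ minF) (hw : w ∈ minF) :
    (dotInt v w = 32 ∧ w = v) ∨ (dotInt v w = -32 ∧ w = -v) ∨ dotInt v w = 16 ∨
      dotInt v w = -16 ∨ dotInt v w = 8 ∨ dotInt v w = -8 ∨ dotInt v w = 0 := by
  obtain ⟨hvL, hvn⟩ := mem_minF.mp hv
  obtain ⟨hwL, hwn⟩ := mem_minF.mp hw
  have h8 := dotInt_dvd hvL hwL
  by_cases h1 : w = v
  · left
    subst h1
    exact ⟨by rw [dotInt_self]; exact hvn, rfl⟩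
  by_cases h2 : w = -v
  · right; left
    subst h2
    exact ⟨by rw [dotInt_neg_right, dotInt_self, hvn], rfl⟩
  have e1 : 32 ≤ sqNorm (v - w) :=
    sqNorm_ge (sub_mem hvL hwL) (fun h => h1 (sub_eq_zero.mp h).symm)
  have e2 : 32 ≤ sqNorm (v + w) :=
    sqNorm_ge (add_mem hvL hwL) (fun h => h2 (eq_neg_of_add_eq_zero_right h))
  rw [sqNorm_sub] at e1
  rw [sqNorm_add] at e2
  omega

/-- The possible inner products of two minimal vectors. -/
def dotVals : Finset ℤ := {32, -32, 16, -16, 8, -8, 0}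

theorem dot_mem {v w : GolayPt → ℤ} (hv : v ∈ minF) (hw : w ∈ minF) : dotInt v w ∈ dotVals := by
  unfold dotVals
  simp only [Finset.mem_insert, Finset.mem_singleton]
  rcases dot_cases hv hw with h | h | h | h | h | h | h
  · exact Or.inl h.1
  · exact Or.inr (Or.inl h.1)
  · exact Or.inr (Or.inr (Or.inl h))
  · exact Or.inr (Or.inr (Or.inr (Or.inl h)))
  · exact Or.inr (Or.inr (Or.inr (Or.inr (Or.inl h))))
  · exact Or.inr (Or.inr (Or.inr (Or.inr (Or.inr (Or.inl h)))))
  · exact Or.inr (Or.inr (Or.inr (Or.inr (Or.inr (Or.inr h)))))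

theorem nd_sum {v : GolayPt → ℤ} (hv : v ∈ minF) : ∑ d ∈ dotVals, nd v d = 196560 := by
  rw [← card_minF]
  exact (Finset.card_eq_sum_card_fiberwise (fun w hw => dot_mem hv hw)).symm

theorem nd_sq_sum {v : GolayPt → ℤ} (hv : v ∈ minF) :
    ∑ d ∈ dotVals, d ^ 2 * (nd v d : ℤ) = 262080 * 32 := by
  have h := design2 v
  rw [(mem_minF.mp hv).2] at h
  rw [← h, ← Finset.sum_fiberwise_of_maps_to (fun w hw => dot_mem hv hw)]
  refine Finset.sum_congr rfl (fun d _ => ?_)
  have e : ∀ w ∈ minF.filter (fun w => dotInt v w = d), dotInt v w ^ 2 = d ^ 2 := by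
    intro w hw
    rw [(Finset.mem_filter.mp hw).2]
  rw [Finset.sum_congr rfl e, Finset.sum_const]
  unfold nd
  rw [nsmul_eq_mul, mul_comm]

theorem nd_pos {v : GolayPt → ℤ} (hv : v ∈ minF) : nd v 32 = 1 := by
  unfold nd
  rw [Finset.card_eq_one]
  refine ⟨v, ?_⟩
  ext w
  rw [Finset.mem_filter, Finset.mem_singleton]
  constructor
  · rintro ⟨hw, hd⟩
    rcases dot_cases hv hw with h | h | h | h | h | h | h
    · exact h.2
    · have := h.1; omega
    all_goals omega
  · rintro rfl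
    exact ⟨hv, by rw [dotInt_self]; exact (mem_minF.mp hv).2⟩

theorem nd_neg (v : GolayPt → ℤ) (d : ℤ) : nd v (-d) = nd v d := by
  unfold nd
  refine Finset.card_nbij' (fun w => -w) (fun w => -w) ?_ ?_ (fun w _ => neg_neg w)
    (fun w _ => neg_neg w)
  · intro w hw
    have hw' := Finset.mem_filter.mp hw
    exact Finset.mem_filter.mpr ⟨neg_mem_minF hw'.1, by rw [dotInt_neg_right, hw'.2, neg_neg]⟩
  · intro w hw
    have hw' := Finset.mem_filter.mp hw
    exact Finset.mem_filter.mpr ⟨neg_mem_minF hw'.1, by rw [dotInt_neg_right, hw'.2]⟩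

theorem nd_relations {v : GolayPt → ℤ} (hv : v ∈ minF) :
    2 + 2 * nd v (-16) + 2 * nd v (-8) + nd v 0 = 196560 ∧
      4 * nd v (-16) + nd v (-8) = 65504 := by
  have h1 := nd_sum hv
  have h2 := nd_sq_sum hv
  have e1 := nd_pos hv
  have e2 := nd_neg v 32
  have e3 := nd_neg v 16
  have e4 := nd_neg v 8
  unfold dotVals at h1 h2
  rw [Finset.sum_insert (by decide), Finset.sum_insert (by decide), Finset.sum_insert (by decide),
    Finset.sum_insert (by decide), Finset.sum_insert (by decide), Finset.sum_insert (by decide),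
    Finset.sum_singleton] at h1 h2
  omega

theorem nd_const {v v' : GolayPt → ℤ} (hv : v ∈ minF) (hv' : v' ∈ minF) (d : ℤ) :
    nd v d = nd v' d := by
  obtain ⟨hvL, hvn⟩ := mem_minF.mp hv
  obtain ⟨hvL', hvn'⟩ := mem_minF.mp hv'
  obtain ⟨g, hg⟩ := co0_trans_min ⟨v, hvL⟩ ⟨v', hvL'⟩ hvn hvn'
  unfold nd
  refine Finset.card_bij (fun w hw => ((g • (⟨w, (mem_minF.mp (Finset.mem_filter.mp hw).1).1⟩ :
    leechLattice) : leechLattice) : GolayPt → ℤ)) ?_ ?_ ?_
  · intro w hw
    obtain ⟨hw1, hw2⟩ := Finset.mem_filter.mp hw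
    obtain ⟨hwL, hwn⟩ := mem_minF.mp hw1
    rw [Finset.mem_filter, mem_minF]
    refine ⟨⟨Subtype.coe_prop _, by rw [co0_smul_sqNorm]; exact hwn⟩, ?_⟩
    have := co0_smul_dotInt g ⟨v, hvL⟩ ⟨w, hwL⟩
    rw [hg] at this
    exact this.trans hw2
  · intro w₁ hw₁ w₂ hw₂ h
    have h' := smul_left_cancel g (Subtype.ext h)
    exact congrArg Subtype.val h'
  · intro w hw
    obtain ⟨hw1, hw2⟩ := Finset.mem_filter.mp hw
    obtain ⟨hwL, hwn⟩ := mem_minF.mp hw1
    have hm : ((g⁻¹ • (⟨w, hwL⟩ : leechLattice) : leechLattice) : GolayPt → ℤ) ∈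
        minF.filter (fun w => dotInt v w = d) := by
      rw [Finset.mem_filter, mem_minF]
      refine ⟨⟨Subtype.coe_prop _, by rw [co0_smul_sqNorm]; exact hwn⟩, ?_⟩
      have := co0_smul_dotInt g⁻¹ ⟨v', hvL'⟩ ⟨w, hwL⟩
      rw [← hg, inv_smul_smul, hg] at this
      exact this.trans hw2
    refine ⟨_, hm, ?_⟩
    show ((g • (g⁻¹ • (⟨w, hwL⟩ : leechLattice)) : leechLattice) : GolayPt → ℤ) = w
    rw [smul_inv_smul]

/-- The finite set of lattice vectors with sum of squares `64`. -/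
noncomputable def F64 : Finset (GolayPt → ℤ) := shortF.filter (fun y => sqNorm y = 64)

theorem mem_F64 {y : GolayPt → ℤ} : y ∈ F64 ↔ y ∈ leechLattice ∧ sqNorm y = 64 := by
  unfold F64
  rw [Finset.mem_filter, mem_shortF]
  constructor
  · rintro ⟨⟨h1, -⟩, h2⟩
    exact ⟨h1, h2⟩
  · rintro ⟨h1, h2⟩
    exact ⟨⟨h1, by omega⟩, h2⟩

theorem neg_mem_F64 {w : GolayPt → ℤ} (hw : w ∈ F64) : -w ∈ F64 := by
  rw [mem_F64] at hw ⊢
  exact ⟨neg_mem hw.1, by rw [sqNorm_neg']; exact hw.2⟩

theorem card_F64 : F64.card = 398034000 := (card_filter_short 64 (by norm_num)).trans count64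

open Classical in
/-- The vectors of `F64` congruent to `x` modulo twice the lattice, other than `x` and `-x`. -/
noncomputable def cls (x : GolayPt → ℤ) : Finset (GolayPt → ℤ) :=
  F64.filter (fun f => x - f ∈ twoL ∧ f ≠ x ∧ f ≠ -x)

open Classical in
theorem card_cls {x : GolayPt → ℤ} (hx : x ∈ F64) : (cls x).card = 46 := by
  obtain ⟨hxL, hxn⟩ := mem_F64.mp hx
  have h48 := ncard_class64 x hxL hxn
  have hset : {y : GolayPt → ℤ | y ∈ leechLattice ∧ sqNorm y = sqNorm x ∧
      ∃ z ∈ leechLattice, x - y = 2 • z} =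
      ((F64.filter (fun f => x - f ∈ twoL) : Finset _) : Set (GolayPt → ℤ)) := by
    ext y
    simp only [Finset.coe_filter, mem_F64, mem_twoL, Set.mem_ofPred_eq, hxn]
    tauto
  rw [hset, Set.ncard_coe_finset] at h48
  have e : cls x = ((F64.filter (fun f => x - f ∈ twoL)).erase x).erase (-x) := by
    ext f
    unfold cls
    simp only [Finset.mem_filter, Finset.mem_erase]
    tauto
  have hx0 : x ≠ 0 := by
    rintro rfl
    rw [sqNorm_zero'] at hxn
    omega
  have m1 : x ∈ F64.filter (fun f => x - f ∈ twoL) := by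
    rw [Finset.mem_filter]
    refine ⟨hx, ?_⟩
    rw [sub_self]
    exact zero_mem _
  have m2 : -x ∈ (F64.filter (fun f => x - f ∈ twoL)).erase x := by
    rw [Finset.mem_erase, Finset.mem_filter]
    refine ⟨?_, neg_mem_F64 hx, ?_⟩
    · intro h
      apply hx0
      have : (2 : ℤ) • x = 0 := by rw [two_smul]; nth_rewrite 1 [← h]; exact neg_add_cancel x
      exact (smul_eq_zero.mp this).resolve_left (by norm_num)
    · rw [mem_twoL]
      exact ⟨x, hxL, by rw [sub_neg_eq_add, two_smul]⟩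
  rw [e, Finset.card_erase_of_mem m2, Finset.card_erase_of_mem m1, h48]

theorem decomp_pair {x f z : GolayPt → ℤ} (hx : x ∈ F64) (hf : f ∈ F64) (hz : z ∈ leechLattice)
    (hxz : x - f = 2 • z) (hf1 : f ≠ x) (hf2 : f ≠ -x) :
    x - z ∈ minF ∧ z ∈ minF ∧ dotInt (x - z) z = 0 ∧ x - z - z = f := by
  obtain ⟨hxL, hxn⟩ := mem_F64.mp hx
  obtain ⟨hfL, hfn⟩ := mem_F64.mp hf
  have hdot : dotInt x f = 0 := by
    rcases short_cong hxL hfL (mem_twoL.mpr ⟨z, hz, hxz⟩) (by omega) (by omega) with h | h | h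
    · exact absurd h hf1
    · exact absurd h hf2
    · exact h.2.2
  have hzn : sqNorm z = 32 := by
    have e1 : sqNorm (x - f) = 4 * sqNorm z := by rw [hxz, sqNorm_two_smul']
    rw [sqNorm_sub] at e1
    omega
  have hv : x - z ∈ leechLattice := sub_mem hxL hz
  have hfe : f = x - 2 • z := by rw [← hxz]; abel
  have hvn : sqNorm (x - z) = 32 := by
    have hsum : x + f = 2 • (x - z) := by
      rw [hfe, smul_sub, two_smul, two_smul]
      abel
    have e2 : sqNorm (x + f) = 4 * sqNorm (x - z) := by rw [hsum, sqNorm_two_smul']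
    rw [sqNorm_add] at e2
    omega
  refine ⟨mem_minF.mpr ⟨hv, hvn⟩, mem_minF.mpr ⟨hz, hzn⟩, ?_, ?_⟩
  · have h3 : sqNorm ((x - z) + z) = 64 := by rw [sub_add_cancel]; exact hxn
    have := dot_of_norms hvn hzn h3
    omega
  · rw [hfe, two_smul]; abel

open Classical in
theorem pairs_card : (minF.sigma (fun v => minF.filter (fun w => dotInt v w = 0))).card =
    (F64.sigma cls).card := by
  refine Finset.card_nbij (fun p => ⟨p.1 + p.2, p.1 - p.2⟩) ?_ ?_ ?_
  · intro p hp
    rw [Finset.mem_coe, Finset.mem_sigma, Finset.mem_filter] at hp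
    obtain ⟨h1, h2, h3⟩ := hp
    obtain ⟨h1L, h1n⟩ := mem_minF.mp h1
    obtain ⟨h2L, h2n⟩ := mem_minF.mp h2
    rw [Finset.mem_coe, Finset.mem_sigma]
    have hs : p.1 + p.2 ∈ F64 := mem_F64.mpr ⟨add_mem h1L h2L, by rw [sqNorm_add]; omega⟩
    have hd : p.1 - p.2 ∈ F64 := mem_F64.mpr ⟨sub_mem h1L h2L, by rw [sqNorm_sub]; omega⟩
    refine ⟨hs, ?_⟩
    show p.1 - p.2 ∈ cls (p.1 + p.2)
    unfold cls
    rw [Finset.mem_filter]
    refine ⟨hd, ?_, ?_, ?_⟩
    · rw [mem_twoL]
      exact ⟨p.2, h2L, by rw [two_smul]; abel⟩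
    · intro h
      have h0 : p.2 = 0 := by
        funext i
        have := congrFun h i
        simp only [Pi.add_apply, Pi.sub_apply, Pi.zero_apply] at this ⊢
        omega
      rw [h0, sqNorm_zero'] at h2n
      omega
    · intro h
      have h0 : p.1 = 0 := by
        funext i
        have := congrFun h i
        simp only [Pi.add_apply, Pi.sub_apply, Pi.zero_apply, Pi.neg_apply] at this ⊢
        omega
      rw [h0, sqNorm_zero'] at h1n
      omega
  · intro p _ q _ h
    simp only [Sigma.mk.injEq, heq_eq_eq] at h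
    obtain ⟨ha, hb⟩ := h
    have e1 : p.1 = q.1 := by
      funext i
      have h1 := congrFun ha i
      have h2 := congrFun hb i
      simp only [Pi.add_apply, Pi.sub_apply] at h1 h2
      omega
    have e2 : p.2 = q.2 := by
      funext i
      have h1 := congrFun ha i
      have h2 := congrFun hb i
      simp only [Pi.add_apply, Pi.sub_apply] at h1 h2
      omega
    exact Sigma.ext e1 (heq_of_eq e2)
  · intro q hq
    rw [Finset.mem_coe, Finset.mem_sigma] at hq
    obtain ⟨hx, hf⟩ := hq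
    unfold cls at hf
    rw [Finset.mem_filter] at hf
    obtain ⟨hfF, htw, hf1, hf2⟩ := hf
    obtain ⟨z, hz, hxz⟩ := mem_twoL.mp htw
    obtain ⟨m1, m2, m3, m4⟩ := decomp_pair hx hfF hz hxz hf1 hf2
    refine ⟨⟨q.1 - z, z⟩, ?_, ?_⟩
    · rw [Finset.mem_coe, Finset.mem_sigma, Finset.mem_filter]
      exact ⟨m1, m2, m3⟩
    · show (⟨q.1 - z + z, q.1 - z - z⟩ : Σ _ : (GolayPt → ℤ), (GolayPt → ℤ)) = q
      rw [sub_add_cancel, m4]

theorem nd_zero {v : GolayPt → ℤ} (hv : v ∈ minF) : nd v 0 = 93150 := by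
  classical
  have h := pairs_card
  have e : ∀ w ∈ minF, (minF.filter (fun y => dotInt w y = 0)).card = nd v 0 :=
    fun w hw => nd_const hw hv 0
  rw [Finset.card_sigma, Finset.card_sigma, Finset.sum_congr rfl (fun x hx => card_cls hx),
    Finset.sum_const, card_F64, Finset.sum_congr rfl e, Finset.sum_const, card_minF] at h
  simp only [smul_eq_mul] at h
  omega

/-- The census of minimal vectors by inner product with a fixed minimal vector. -/
theorem census {v : GolayPt → ℤ} (hv : v ∈ minF) :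
    nd v (-16) = 4600 ∧ nd v (-8) = 47104 ∧ nd v 0 = 93150 := by
  have h0 := nd_zero hv
  obtain ⟨h1, h2⟩ := nd_relations hv
  omega

theorem ncard_nd (v : GolayPt → ℤ) (d : ℤ) :
    {w : GolayPt → ℤ | w ∈ leechLattice ∧ sqNorm w = 32 ∧ dotInt v w = d}.ncard = nd v d := by
  unfold nd
  rw [← Set.ncard_coe_finset]
  congr 1
  ext w
  simp only [Finset.coe_filter, Set.mem_ofPred_eq, mem_minF, and_assoc]

end Cfsg.Agent.Lib.Helper92
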