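import Cfsg.Agent.Lib.Helper92.LeechMono

set_option autoImplicit false

namespace Cfsg.Agent.Lib.Helper92

open Cfsg Cfsg.Agent.Lib.Helper7

/-- The element `8 e_i` of the lattice. -/
def latEight (i : GolayPt) : leechLattice := ⟨vecEight i, vecEight_mem i⟩

theorem sqNorm_vecEight (i : GolayPt) : sqNorm (vecEight i) = 64 := by
  unfold sqNorm vecEight
  rw [Finset.sum_eq_single i]
  · simp
  · intro j _ hj
    simp [hj]
  · intro h; exact absurd (Finset.mem_univ i) h

/-- An automorphism commuting with all sign changes on code words is diagonal. -/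
theorem diag_of_commute_sign {f : Equiv.Perm leechLattice} (hf : f ∈ Co0)
    (hcomm : ∀ (c : GolayPt → ZMod 2) (hc : c ∈ golayCode) (x : leechLattice),
      f (signCo c hc x) = signCo c hc (f x)) :
    ∃ s : GolayPt → ℤ, (∀ i, s i = 1 ∨ s i = -1) ∧
      ∀ (x : leechLattice) (i : GolayPt), (f x : GolayPt → ℤ) i = s i * (x : GolayPt → ℤ) i := by
  have hzero : ∀ i j : GolayPt, j ≠ i → (f (latEight i) : GolayPt → ℤ) j = 0 := by
    intro i j hji
    obtain ⟨c, hc, hci, hcj⟩ := exists_sep i j (Ne.symm hji)
    have hfix : signCo c hc (latEight i) = latEight i := by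
      apply Subtype.ext
      funext k
      show signVec c (vecEight i) k = vecEight i k
      simp only [signVec, vecEight, sgn]
      by_cases hk : k = i
      · rw [hk, hci, if_neg (by decide)]; simp
      · rw [if_neg hk]; simp
    have h := hcomm c hc (latEight i)
    rw [hfix] at h
    have h' := congrArg (fun v : leechLattice => (v : GolayPt → ℤ) j) h
    simp only [signCo_apply, signVec, sgn, hcj, if_pos] at h'
    omega
  have hsq : ∀ i : GolayPt, (f (latEight i) : GolayPt → ℤ) i = 8 ∨
      (f (latEight i) : GolayPt → ℤ) i = -8 := by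
    intro i
    have h := co0_sqNorm hf (latEight i)
    have h64 : sqNorm ((latEight i : leechLattice) : GolayPt → ℤ) = 64 := sqNorm_vecEight i
    rw [h64] at h
    unfold sqNorm at h
    rw [Finset.sum_eq_single i] at h
    · have h2 : ((f (latEight i) : GolayPt → ℤ) i - 8) * ((f (latEight i) : GolayPt → ℤ) i + 8) = 0 := by
        linear_combination h
      rcases mul_eq_zero.mp h2 with h3 | h3
      · left; omega
      · right; omega
    · intro j _ hj
      rw [hzero i j hj]; simp
    · intro h'; exact absurd (Finset.mem_univ i) h'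
  refine ⟨fun i => (f (latEight i) : GolayPt → ℤ) i / 8, fun i => ?_, fun x i => ?_⟩
  · rcases hsq i with h | h
    · left; show (f (latEight i) : GolayPt → ℤ) i / 8 = 1; rw [h]; norm_num
    · right; show (f (latEight i) : GolayPt → ℤ) i / 8 = -1; rw [h]; norm_num
  · have h := co0_dotInt hf x (latEight i)
    have h8 : dotInt (x : GolayPt → ℤ) (latEight i : leechLattice) = 8 * (x : GolayPt → ℤ) i :=
      dotInt_vecEight _ i
    rw [h8] at h
    unfold dotInt at h
    rw [Finset.sum_eq_single i] at h
    · show (f x : GolayPt → ℤ) i = (f (latEight i) : GolayPt → ℤ) i / 8 * (x : GolayPt → ℤ) i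
      rcases hsq i with h' | h'
      · rw [h'] at h ⊢
        norm_num
        omega
      · rw [h'] at h ⊢
        norm_num
        omega
    · intro j _ hj
      rw [hzero i j hj]; simp
    · intro h'; exact absurd (Finset.mem_univ i) h'

theorem projInv_none : projInv none = some 0 := rfl

theorem shiftPerm_some (a : ZMod 23) : shiftPerm (some a) = some (a + 1) := rfl

/-- A diagonal automorphism commuting with the coordinate permutations from `M24` is `±1`. -/
theorem const_of_commute_perm {f : Equiv.Perm leechLattice}
    (hcomm : ∀ (π : Equiv.Perm GolayPt) (hπ : π ∈ M24) (x : leechLattice),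
      f (permCo π hπ x) = permCo π hπ (f x))
    (s : GolayPt → ℤ)
    (hs : ∀ (x : leechLattice) (i : GolayPt), (f x : GolayPt → ℤ) i = s i * (x : GolayPt → ℤ) i) :
    ∀ i, s i = s none := by
  have key : ∀ (π : Equiv.Perm GolayPt), π ∈ M24 → ∀ k, s (π k) = s k := by
    intro π hπ k
    have h := hcomm π hπ (latEight k)
    have h' := congrArg (fun v : leechLattice => (v : GolayPt → ℤ) (π k)) h
    simp only [permCo_apply, permVec, hs, Equiv.symm_apply_apply] at h'
    have h8 : ((latEight k : leechLattice) : GolayPt → ℤ) k = 8 := by
      show vecEight k k = 8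
      simp [vecEight]
    rw [h8] at h'
    omega
  have hshift : ∀ n : ℕ, s (some ((n : ℕ) : ZMod 23)) = s (some 0) := by
    intro n
    induction n with
    | zero => simp
    | succ n ih =>
      have := key shiftPerm shiftPerm_mem (some ((n : ℕ) : ZMod 23))
      rw [shiftPerm_some] at this
      rw [Nat.cast_succ, this, ih]
  have hproj : s (some 0) = s none := by
    have := key projInv projInv_mem none
    rw [projInv_none] at this
    exact this
  intro i
  cases i with
  | none => rfl
  | some a =>
    have := hshift a.val
    rw [ZMod.natCast_zmod_val] at this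
    rw [this, hproj]

/-- The negation, as an element of the automorphism group. -/
def negElt : Co0 := ⟨negCo, negCo_mem⟩

theorem negElt_mem_center : negElt ∈ Subgroup.center Co0 := by
  rw [Subgroup.mem_center_iff]
  intro h
  apply Subtype.ext
  apply Equiv.ext
  intro v
  show (h : Equiv.Perm leechLattice) (negCo v) = negCo ((h : Equiv.Perm leechLattice) v)
  rw [negCo_apply, negCo_apply, co0_map_neg h.2]

theorem one_ne_negElt : (1 : Co0) ≠ negElt := by
  intro h
  have h1 := congrArg (fun g : Co0 => ((g : Equiv.Perm leechLattice) (latEight none) : GolayPt → ℤ) none) h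
  have h2 : ((latEight none : leechLattice) : GolayPt → ℤ) none = 8 := by
    show vecEight none none = 8
    simp [vecEight]
  have h3 : ((negCo (latEight none) : leechLattice) : GolayPt → ℤ) none = -8 := by
    rw [negCo_apply]
    show -(vecEight none none) = -8
    simp [vecEight]
  simp only [negElt] at h1
  have h4 : (((1 : Co0) : Equiv.Perm leechLattice) (latEight none) : GolayPt → ℤ) none = 8 := h2
  rw [h4, h3] at h1
  omega

theorem center_co0 (g : Co0) (hg : g ∈ Subgroup.center Co0) : g = 1 ∨ g = negElt := by
  rw [Subgroup.mem_center_iff] at hg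
  have hsign : ∀ (c : GolayPt → ZMod 2) (hc : c ∈ golayCode) (x : leechLattice),
      (g : Equiv.Perm leechLattice) (signCo c hc x) = signCo c hc ((g : Equiv.Perm leechLattice) x) := by
    intro c hc x
    have h := hg ⟨signCo c hc, signCo_mem c hc⟩
    have h' := congrArg (fun k : Co0 => (k : Equiv.Perm leechLattice) x) h
    exact h'.symm
  have hperm : ∀ (π : Equiv.Perm GolayPt) (hπ : π ∈ M24) (x : leechLattice),
      (g : Equiv.Perm leechLattice) (permCo π hπ x) = permCo π hπ ((g : Equiv.Perm leechLattice) x) := by
    intro π hπ x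
    have h := hg ⟨permCo π hπ, permCo_mem π hπ⟩
    have h' := congrArg (fun k : Co0 => (k : Equiv.Perm leechLattice) x) h
    exact h'.symm
  obtain ⟨s, hs1, hs⟩ := diag_of_commute_sign g.2 hsign
  have hconst := const_of_commute_perm hperm s hs
  rcases hs1 none with h | h
  · left
    apply Subtype.ext
    apply Equiv.ext
    intro x
    apply Subtype.ext
    funext i
    rw [hs x i, hconst i, h, one_mul]
    rfl
  · right
    apply Subtype.ext
    apply Equiv.ext
    intro x
    apply Subtype.ext
    funext i
    rw [hs x i, hconst i, h]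
    show -1 * (x : GolayPt → ℤ) i = ((negCo x : leechLattice) : GolayPt → ℤ) i
    rw [negCo_apply]
    show -1 * (x : GolayPt → ℤ) i = -((x : GolayPt → ℤ) i)
    ring

theorem card_center_co0 : Nat.card (Subgroup.center Co0) = 2 := by
  rw [Nat.card_eq_two_iff]
  refine ⟨1, ⟨negElt, negElt_mem_center⟩, ?_, ?_⟩
  · intro h
    exact one_ne_negElt (congrArg Subtype.val h)
  · ext z
    simp only [Set.mem_insert_iff, Set.mem_singleton_iff, Set.mem_univ, iff_true]
    rcases center_co0 z.1 z.2 with h | h
    · left; exact Subtype.ext h
    · right; exact Subtype.ext h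

end Cfsg.Agent.Lib.Helper92
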