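import Cfsg.Agent.Lib.Helper92.LeechQuad
import Cfsg.Agent.Lib.Helper92.LeechCenter
import Cfsg.Agent.S1567

set_option autoImplicit false

open scoped Pointwise

namespace Cfsg.Agent.Lib.Helper92

open Cfsg Cfsg.Spor Cfsg.Agent.Lib.Helper7

/-! ### Automorphisms are determined by their values on minimal vectors -/

theorem co0_ext_min {f h : Equiv.Perm leechLattice} (hf : f ∈ Co0) (hh : h ∈ Co0)
    (H : ∀ v : leechLattice, sqNorm (v : GolayPt → ℤ) = 32 → f v = h v) : f = h := by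
  apply Equiv.ext
  intro x
  have hx : (x : GolayPt → ℤ) ∈ AddSubgroup.closure
      {y : GolayPt → ℤ | y ∈ leechLattice ∧ sqNorm y = 32} := by
    rw [Cfsg.Agent.S1567.result]
    exact x.2
  have key : ∀ y (_ : y ∈ AddSubgroup.closure {y : GolayPt → ℤ | y ∈ leechLattice ∧ sqNorm y = 32}),
      ∀ hy : y ∈ leechLattice, f ⟨y, hy⟩ = h ⟨y, hy⟩ := by
    intro y hy
    induction hy using AddSubgroup.closure_induction with
    | mem y hy =>
      intro hy'
      exact H ⟨y, hy'⟩ hy.2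
    | zero =>
      intro hy'
      have : (⟨0, hy'⟩ : leechLattice) = 0 := rfl
      rw [this, co0_map_zero hf, co0_map_zero hh]
    | add a b ha hb iha ihb =>
      intro hy'
      have ha' : a ∈ leechLattice := by rw [← Cfsg.Agent.S1567.result]; exact ha
      have hb' : b ∈ leechLattice := by rw [← Cfsg.Agent.S1567.result]; exact hb
      have : (⟨a + b, hy'⟩ : leechLattice) = ⟨a, ha'⟩ + ⟨b, hb'⟩ := rfl
      rw [this, co0_map_add hf, co0_map_add hh, iha ha', ihb hb']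
    | neg a ha iha =>
      intro hy'
      have ha' : a ∈ leechLattice := by rw [← Cfsg.Agent.S1567.result]; exact ha
      have : (⟨-a, hy'⟩ : leechLattice) = -⟨a, ha'⟩ := rfl
      rw [this, co0_map_neg hf, co0_map_neg hh, iha ha']
  exact key x.1 hx x.2

/-! ### Non-orthogonality links any two minimal vectors -/

theorem qL_link : dL qL1 qL4 = -8 ∧ dL qL4 qL1 = -8 := by decide +kernel

/-- `(4, -4, 0, …)`. -/
def qL8 : List ℤ := [-4, 0, 0, 0, 0, 0, 0, 0, 0, 0, 0, 0, 0, 0, 0, 0, 0, 0, 0, 0, 0, 0, 0, 4]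

theorem qL8_ok : leechB qL8 = true ∧ nL qL8 = 32 ∧ dL qL1 qL8 = 0 ∧ dL qL1 qL2 = -16 ∧
    dL qL2 qL8 = -16 := by decide +kernel

theorem exists_link (v w : leechLattice) (hv : sqNorm (v : GolayPt → ℤ) = 32)
    (hw : sqNorm (w : GolayPt → ℤ) = 32)
    (hd : dotInt (v : GolayPt → ℤ) (w : GolayPt → ℤ) = 0) :
    ∃ z : leechLattice, sqNorm (z : GolayPt → ℤ) = 32 ∧
      dotInt (v : GolayPt → ℤ) (z : GolayPt → ℤ) ≠ 0 ∧
      dotInt (z : GolayPt → ℤ) (w : GolayPt → ℤ) ≠ 0 := by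
  obtain ⟨o1, o2, -, -, -, -⟩ := qL_ok
  obtain ⟨n1, n2, -⟩ := qL_vals
  obtain ⟨o8, n8, d18, d12, d28⟩ := qL8_ok
  have N1 : sqNorm ((lv qL1 o1 : leechLattice) : GolayPt → ℤ) = 32 := (sqNorm_vecOf _).trans n1
  have N2 : sqNorm ((lv qL2 o2 : leechLattice) : GolayPt → ℤ) = 32 := (sqNorm_vecOf _).trans n2
  have N8 : sqNorm ((lv qL8 o8 : leechLattice) : GolayPt → ℤ) = 32 := (sqNorm_vecOf _).trans n8
  have D18 : dotInt ((lv qL1 o1 : leechLattice) : GolayPt → ℤ) (lv qL8 o8 : leechLattice) = 0 :=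
    (dotInt_vecOf _ _).trans d18
  have D12 : dotInt ((lv qL1 o1 : leechLattice) : GolayPt → ℤ) (lv qL2 o2 : leechLattice) = -16 :=
    (dotInt_vecOf _ _).trans d12
  have D28 : dotInt ((lv qL2 o2 : leechLattice) : GolayPt → ℤ) (lv qL8 o8 : leechLattice) = -16 :=
    (dotInt_vecOf _ _).trans d28
  obtain ⟨g, h1, h2⟩ := pair_transfer trans0 (lv qL1 o1) (lv qL8 o8) v w N1 N8 hv hw D18 hd
  refine ⟨g • lv qL2 o2, by rw [co0_smul_sqNorm]; exact N2, ?_, ?_⟩
  · rw [← h1, co0_smul_dotInt, D12]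
    norm_num
  · rw [← h2, co0_smul_dotInt, D28]
    norm_num

/-! ### The action modulo twice the lattice is faithful modulo the centre -/

theorem mod2_trivial_central (g : Co0)
    (hg : ∀ v : leechLattice, ∃ w : leechLattice,
      ((g • v : leechLattice) : GolayPt → ℤ) - (v : GolayPt → ℤ) = 2 • (w : GolayPt → ℤ)) :
    g ∈ Subgroup.center Co0 := by
  have hpm : ∀ v : leechLattice, sqNorm (v : GolayPt → ℤ) = 32 → g • v = v ∨ g • v = -v := by
    intro v hv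
    obtain ⟨w, hw⟩ := hg v
    have hmem : (v : GolayPt → ℤ) - ((g • v : leechLattice) : GolayPt → ℤ) ∈ twoL := by
      refine mem_twoL.mpr ⟨-w.1, neg_mem w.2, ?_⟩
      rw [smul_neg, ← hw]
      abel
    have hn : sqNorm ((g • v : leechLattice) : GolayPt → ℤ) = 32 := by
      rw [co0_smul_sqNorm]; exact hv
    rcases short_cong v.2 (g • v).2 hmem (by omega) (by omega) with h | h | h
    · exact Or.inl (Subtype.ext h)
    · exact Or.inr (Subtype.ext h)
    · omega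
  have hstep : ∀ v w : leechLattice, sqNorm (v : GolayPt → ℤ) = 32 →
      sqNorm (w : GolayPt → ℤ) = 32 →
      dotInt (v : GolayPt → ℤ) (w : GolayPt → ℤ) ≠ 0 → g • v = v → g • w = w := by
    intro v w hv hw hd hgv
    rcases hpm w hw with h | h
    · exact h
    · exfalso
      have e := co0_smul_dotInt g v w
      rw [hgv, h] at e
      have e2 : dotInt (v : GolayPt → ℤ) ((-w : leechLattice) : GolayPt → ℤ) =
          -dotInt (v : GolayPt → ℤ) (w : GolayPt → ℤ) := dotInt_neg_right _ _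
      rw [e2] at e
      omega
  have hall : ∀ v w : leechLattice, sqNorm (v : GolayPt → ℤ) = 32 →
      sqNorm (w : GolayPt → ℤ) = 32 → g • v = v → g • w = w := by
    intro v w hv hw hgv
    by_cases hd : dotInt (v : GolayPt → ℤ) (w : GolayPt → ℤ) = 0
    · obtain ⟨z, hz, hd1, hd2⟩ := exists_link v w hv hw hd
      exact hstep z w hz hw hd2 (hstep v z hv hz hd1 hgv)
    · exact hstep v w hv hw hd hgv
  obtain ⟨o1, -⟩ := qL_ok
  obtain ⟨n1, -⟩ := qL_vals
  have N1 : sqNorm ((lv qL1 o1 : leechLattice) : GolayPt → ℤ) = 32 := (sqNorm_vecOf _).trans n1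
  by_cases h1 : g • lv qL1 o1 = lv qL1 o1
  · have e : g = 1 := by
      apply Subtype.ext
      apply co0_ext_min g.2 Co0.one_mem
      intro v hv
      exact hall _ v N1 hv h1
    rw [e]
    exact Subgroup.one_mem _
  · have e : g = negElt := by
      apply Subtype.ext
      apply co0_ext_min g.2 negCo_mem
      intro v hv
      rcases hpm v hv with h | h
      · exact absurd (hall v _ hv N1 h) h1
      · exact h
    rw [e]
    exact negElt_mem_center

/-! ### Irreducibility modulo twice the lattice -/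

theorem two_zsmul_eq (z : GolayPt → ℤ) : (2 : ℤ) • z = 2 • z := by
  funext i
  simp

/-- A vector with sum of squares `48`. -/
def qL7 : List ℤ :=
  [-5, -1, -1, -1, -1, -1, -1, -1, -1, -1, -1, -1, -1, -1, -1, -1, -1, -1, -1, -1, -1, -1, -1, -1]

/-- A vector with sum of squares `64`. -/
def qL9 : List ℤ := [4, 4, 4, 0, 0, 0, 0, 0, 0, 0, 0, 0, 0, 0, 0, 0, 0, 0, 0, 0, 0, 0, 0, 4]

/-- A vector with sum of squares `64`. -/
def qL10 : List ℤ := [4, 4, 0, 4, 0, 0, 0, 0, 0, 0, 0, 0, 0, 0, 0, 0, 0, 0, 0, 0, 0, 0, 0, 4]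

theorem qL7_ok : leechB qL7 = true ∧ nL qL7 = 48 ∧ dL qL5 qL7 = 32 ∧ leechB qL9 = true ∧
    leechB qL10 = true ∧ nL qL9 = 64 ∧ nL qL10 = 64 ∧ dL qL9 qL10 = 48 := by decide +kernel

theorem irr_mod2 (M : AddSubgroup (GolayPt → ℤ)) (h2 : ∀ v ∈ leechLattice, (2 : ℤ) • v ∈ M)
    (hle : M ≤ leechLattice)
    (hinv : ∀ g : Co0, ∀ v : leechLattice, (v : GolayPt → ℤ) ∈ M →
      ((g • v : leechLattice) : GolayPt → ℤ) ∈ M) :
    (∀ x ∈ M, ∃ w ∈ leechLattice, x = (2 : ℤ) • w) ∨ M = leechLattice := by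
  by_cases hall : ∀ x ∈ M, ∃ w ∈ leechLattice, x = (2 : ℤ) • w
  · exact Or.inl hall
  right
  push Not at hall
  obtain ⟨x, hxM, hx⟩ := hall
  obtain ⟨y, hy, hyn, z, hz, hxz⟩ := exists_short x (hle hxM)
  have hyM : y ∈ M := by
    have e : y = x - (2 : ℤ) • z := by rw [two_zsmul_eq, ← hxz]; abel
    rw [e]
    exact M.sub_mem hxM (h2 z hz)
  have hy0 : y ≠ 0 := by
    intro h
    rw [h, sub_zero] at hxz
    exact hx z hz (by rw [two_zsmul_eq]; exact hxz)
  obtain ⟨o1, o2, o3, o4, o5, o6⟩ := qL_ok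
  obtain ⟨o7, n7, d57, o9, o10, n9, n10, d910⟩ := qL7_ok
  obtain ⟨n1, n2, n3, n4, n5, n6, -⟩ := qL_vals
  have hmin : ∃ m : leechLattice, (m : GolayPt → ℤ) ∈ M ∧ sqNorm (m : GolayPt → ℤ) = 32 := by
    have hc := sqNorm_cases (mem_shortF.mpr ⟨hy, hyn⟩)
    simp only [Finset.mem_insert, Finset.mem_singleton] at hc
    rcases hc with h | h | h | h
    · exact absurd (sqNorm_eq_zero h) hy0
    · exact ⟨⟨y, hy⟩, hyM, h⟩
    · have N5 : sqNorm ((lv qL5 o5 : leechLattice) : GolayPt → ℤ) = 48 := (sqNorm_vecOf _).trans n5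
      have N7 : sqNorm ((lv qL7 o7 : leechLattice) : GolayPt → ℤ) = 48 := (sqNorm_vecOf _).trans n7
      obtain ⟨g5, hg5⟩ := co0_trans_48 ⟨y, hy⟩ (lv qL5 o5) h N5
      obtain ⟨g7, hg7⟩ := co0_trans_48 ⟨y, hy⟩ (lv qL7 o7) h N7
      have m5 : ((lv qL5 o5 : leechLattice) : GolayPt → ℤ) ∈ M := by
        rw [← hg5]; exact hinv g5 ⟨y, hy⟩ hyM
      have m7 : ((lv qL7 o7 : leechLattice) : GolayPt → ℤ) ∈ M := by
        rw [← hg7]; exact hinv g7 ⟨y, hy⟩ hyM
      refine ⟨lv qL5 o5 - lv qL7 o7, M.sub_mem m5 m7, ?_⟩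
      show sqNorm (vecOf qL5 - vecOf qL7) = 32
      rw [sqNorm_sub, sqNorm_vecOf, sqNorm_vecOf, dotInt_vecOf]
      show nL qL5 + nL qL7 - 2 * dL qL5 qL7 = 32
      rw [n5, n7, d57]
      norm_num
    · have N9 : sqNorm ((lv qL9 o9 : leechLattice) : GolayPt → ℤ) = 64 := (sqNorm_vecOf _).trans n9
      have N10 : sqNorm ((lv qL10 o10 : leechLattice) : GolayPt → ℤ) = 64 :=
        (sqNorm_vecOf _).trans n10
      obtain ⟨g5, hg5⟩ := co0_trans_64 ⟨y, hy⟩ (lv qL9 o9) h N9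
      obtain ⟨g7, hg7⟩ := co0_trans_64 ⟨y, hy⟩ (lv qL10 o10) h N10
      have m5 : ((lv qL9 o9 : leechLattice) : GolayPt → ℤ) ∈ M := by
        rw [← hg5]; exact hinv g5 ⟨y, hy⟩ hyM
      have m7 : ((lv qL10 o10 : leechLattice) : GolayPt → ℤ) ∈ M := by
        rw [← hg7]; exact hinv g7 ⟨y, hy⟩ hyM
      refine ⟨lv qL9 o9 - lv qL10 o10, M.sub_mem m5 m7, ?_⟩
      show sqNorm (vecOf qL9 - vecOf qL10) = 32
      rw [sqNorm_sub, sqNorm_vecOf, sqNorm_vecOf, dotInt_vecOf]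
      show nL qL9 + nL qL10 - 2 * dL qL9 qL10 = 32
      rw [n9, n10, d910]
      norm_num
  obtain ⟨m, hmM, hmn⟩ := hmin
  apply le_antisymm hle
  rw [← Cfsg.Agent.S1567.result, AddSubgroup.closure_le]
  rintro v ⟨hv, hvn⟩
  obtain ⟨g, hg⟩ := co0_trans_min m ⟨v, hv⟩ hmn hvn
  have := hinv g m hmM
  rw [hg] at this
  exact this

end Cfsg.Agent.Lib.Helper92
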