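import Cfsg.Agent.Lib.Helper92.LeechTrans

set_option autoImplicit false

open scoped Pointwise

namespace Cfsg.Agent.Lib.Helper92

open Cfsg Cfsg.Spor Cfsg.Agent.Lib.Helper7

/-! ### Transitivity statements for the automorphism group, on lattice elements -/

theorem exists_to_U (v : leechLattice) (hv : sqNorm (v : GolayPt → ℤ) = 32) :
    ∃ h : Equiv.Perm leechLattice, h ∈ Co0 ∧ h v = leechU := by
  obtain ⟨g, hg, hx, e⟩ := crel_min v.2 hv
  exact ⟨g, hg, Subtype.ext e⟩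

/-- The automorphism group is transitive on the minimal vectors. -/
theorem co0_trans_min (v w : leechLattice) (hv : sqNorm (v : GolayPt → ℤ) = 32)
    (hw : sqNorm (w : GolayPt → ℤ) = 32) : ∃ g : Co0, g • v = w := by
  obtain ⟨h, hh, hv0⟩ := exists_to_U v hv
  obtain ⟨k, hk, hw0⟩ := exists_to_U w hw
  refine ⟨⟨k⁻¹ * h, Co0.mul_mem (Co0.inv_mem hk) hh⟩, ?_⟩
  show (k⁻¹ * h) v = w
  rw [Equiv.Perm.mul_apply, hv0, ← hw0]
  exact Equiv.symm_apply_apply k w

theorem stab_transfer {d : ℤ}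
    (H : ∀ {x x' : GolayPt → ℤ}, x ∈ leechLattice → sqNorm x = 32 → dotInt vecU x = d →
      x' ∈ leechLattice → sqNorm x' = 32 → dotInt vecU x' = d → SRel x x')
    (v w w' : leechLattice) (hv : sqNorm (v : GolayPt → ℤ) = 32)
    (hw : sqNorm (w : GolayPt → ℤ) = 32) (hw' : sqNorm (w' : GolayPt → ℤ) = 32)
    (hd : dotInt (v : GolayPt → ℤ) (w : GolayPt → ℤ) = d)
    (hd' : dotInt (v : GolayPt → ℤ) (w' : GolayPt → ℤ) = d) :
    ∃ g : Co0, g • v = v ∧ g • w = w' := by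
  obtain ⟨h, hh, hv0⟩ := exists_to_U v hv
  have e1 : dotInt vecU ((h w : leechLattice) : GolayPt → ℤ) = d := by
    have := co0_dotInt hh v w
    rw [hv0] at this
    exact this.trans hd
  have e2 : dotInt vecU ((h w' : leechLattice) : GolayPt → ℤ) = d := by
    have := co0_dotInt hh v w'
    rw [hv0] at this
    exact this.trans hd'
  obtain ⟨k, hk, hku, hx, e⟩ := H (h w).2 ((co0_sqNorm hh w).trans hw) e1 (h w').2
    ((co0_sqNorm hh w').trans hw') e2
  have e' : k (h w) = h w' := Subtype.ext e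
  refine ⟨⟨h⁻¹ * k * h, Co0.mul_mem (Co0.mul_mem (Co0.inv_mem hh) hk) hh⟩, ?_, ?_⟩
  · show (h⁻¹ * k * h) v = v
    rw [Equiv.Perm.mul_apply, Equiv.Perm.mul_apply, hv0, hku, ← hv0]
    exact Equiv.symm_apply_apply h v
  · show (h⁻¹ * k * h) w = w'
    rw [Equiv.Perm.mul_apply, Equiv.Perm.mul_apply, e']
    exact Equiv.symm_apply_apply h w'

end Cfsg.Agent.Lib.Helper92
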