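import Mathlib

set_option autoImplicit false

/-!
A verified dynamic programme for counting integer vectors with prescribed per-coordinate
value sets, total cost and total residue modulo `8`.
-/

namespace Cfsg.Agent.Lib.Helper92.DP

section Abstract

variable (W : Finset ℤ) (wt : Bool → ℤ → ℕ) (q : ℤ → ℤ) (σ : ℤ → ZMod 8)

/-- One step of the counting recursion for a coordinate of kind `b`. -/
def stepW (b : Bool) (T : ℤ → ZMod 8 → ℕ) : ℤ → ZMod 8 → ℕ :=
  fun r s => ∑ v : W, wt b v * T (r - q v) (s - σ v)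

theorem stepW_comm (b b' : Bool) (T : ℤ → ZMod 8 → ℕ) :
    stepW W wt q σ b (stepW W wt q σ b' T) = stepW W wt q σ b' (stepW W wt q σ b T) := by
  funext r s
  simp only [stepW, Finset.mul_sum]
  rw [Finset.sum_comm]
  refine Finset.sum_congr rfl (fun v _ => Finset.sum_congr rfl (fun v' _ => ?_))
  have e1 : r - q v' - q v = r - q v - q v' := by ring
  have e2 : s - σ v' - σ v = s - σ v - σ v' := by ring
  rw [e1, e2]; ring

/-- The weighted sum over all assignments of values to the coordinates. -/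
def wsum {κ : Type} [Fintype κ] [DecidableEq κ] (t : κ → Bool) (T : ℤ → ZMod 8 → ℕ) (r : ℤ) (s : ZMod 8) : ℕ :=
  ∑ y : κ → W, (∏ i, wt (t i) (y i)) * T (r - ∑ i, q (y i)) (s - ∑ i, σ (y i))

/-- Number of coordinates of kind `true`. -/
def cntT {κ : Type} [Fintype κ] (t : κ → Bool) : ℕ := ∑ i, if t i then 1 else 0

/-- Number of coordinates of kind `false`. -/
def cntF {κ : Type} [Fintype κ] (t : κ → Bool) : ℕ := ∑ i, if t i then 0 else 1

theorem wsum_fin : ∀ (k : ℕ) (t : Fin k → Bool) (T : ℤ → ZMod 8 → ℕ) (r : ℤ) (s : ZMod 8),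
    wsum W wt q σ t T r s =
      (stepW W wt q σ true)^[cntT t] ((stepW W wt q σ false)^[cntF t] T) r s := by
  intro k
  induction k with
  | zero =>
    intro t T r s
    simp [wsum, cntT, cntF]
  | succ k ih =>
    intro t T r s
    have hre : wsum W wt q σ t T r s =
        ∑ v : W, wt (t 0) v * wsum W wt q σ (fun i : Fin k => t i.succ) T (r - q v) (s - σ v) := by
      unfold wsum
      rw [← Fintype.sum_equiv (Fin.consEquiv (fun _ : Fin (k + 1) => (W : Type))) (fun p =>
        (∏ i, wt (t i) ((Fin.cons p.1 p.2 : Fin (k + 1) → W) i)) *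
          T (r - ∑ i, q ((Fin.cons p.1 p.2 : Fin (k + 1) → W) i))
            (s - ∑ i, σ ((Fin.cons p.1 p.2 : Fin (k + 1) → W) i))) _ (fun p => rfl)]
      rw [Fintype.sum_prod_type]
      refine Finset.sum_congr rfl (fun v _ => ?_)
      rw [Finset.mul_sum]
      refine Finset.sum_congr rfl (fun y _ => ?_)
      rw [Fin.prod_univ_succ, Fin.sum_univ_succ, Fin.sum_univ_succ]
      simp only [Fin.cons_zero, Fin.cons_succ]
      have e1 : r - (q v + ∑ i : Fin k, q (y i)) = r - q v - ∑ i : Fin k, q (y i) := by ring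
      have e2 : s - (σ v + ∑ i : Fin k, σ (y i)) = s - σ v - ∑ i : Fin k, σ (y i) := by ring
      rw [e1, e2, mul_assoc]
    rw [hre]
    have hstep : ∀ (r : ℤ) (s : ZMod 8),
        ∑ v : W, wt (t 0) v * wsum W wt q σ (fun i : Fin k => t i.succ) T (r - q v) (s - σ v) =
          stepW W wt q σ (t 0) ((stepW W wt q σ true)^[cntT (fun i : Fin k => t i.succ)]
            ((stepW W wt q σ false)^[cntF (fun i : Fin k => t i.succ)] T)) r s := by
      intro r s
      unfold stepW
      refine Finset.sum_congr rfl (fun v _ => ?_)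
      rw [ih]
      rfl
    rw [hstep]
    have hT : cntT t = (if t 0 then 1 else 0) + cntT (fun i : Fin k => t i.succ) := by
      unfold cntT; rw [Fin.sum_univ_succ]
    have hF : cntF t = (if t 0 then 0 else 1) + cntF (fun i : Fin k => t i.succ) := by
      unfold cntF; rw [Fin.sum_univ_succ]
    rw [hT, hF]
    cases h0 : t 0 with
    | true =>
      simp only [if_true, zero_add]
      rw [add_comm, Function.iterate_succ_apply']
    | false =>
      simp only [Bool.false_eq_true, if_false, zero_add]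
      rw [add_comm 1, Function.iterate_succ_apply']
      have hc : Function.Commute (stepW W wt q σ false) (stepW W wt q σ true) :=
        fun T => stepW_comm W wt q σ false true T
      rw [(hc.iterate_right _).eq]

/-- Transport along an equivalence of index types. -/
theorem wsum_equiv {κ κ' : Type} [Fintype κ] [Fintype κ'] [DecidableEq κ] [DecidableEq κ'] (e : κ ≃ κ') (t : κ' → Bool)
    (T : ℤ → ZMod 8 → ℕ) (r : ℤ) (s : ZMod 8) :
    wsum W wt q σ t T r s = wsum W wt q σ (fun i => t (e i)) T r s := by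
  unfold wsum
  refine Fintype.sum_equiv (Equiv.arrowCongr e.symm (Equiv.refl _))
    (fun y : κ' → W => (∏ i, wt (t i) (y i)) * T (r - ∑ i, q (y i)) (s - ∑ i, σ (y i)))
    (fun y : κ → W => (∏ i, wt (t (e i)) (y i)) * T (r - ∑ i, q (y i)) (s - ∑ i, σ (y i)))
    (fun y => ?_)
  have h1 : ∏ i, wt (t i) (y i) = ∏ i, wt (t (e i)) ((Equiv.arrowCongr e.symm (Equiv.refl _) y) i) := by
    refine (Fintype.prod_equiv e (fun i => wt (t (e i)) ((Equiv.arrowCongr e.symm (Equiv.refl _) y) i))
      (fun i => wt (t i) (y i)) (fun i => ?_)).symm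
    simp [Equiv.arrowCongr]
  have h2 : ∑ i, q (y i) = ∑ i, q ((Equiv.arrowCongr e.symm (Equiv.refl _) y) i) := by
    refine (Fintype.sum_equiv e (fun i => q ((Equiv.arrowCongr e.symm (Equiv.refl _) y) i))
      (fun i => q (y i)) (fun i => ?_)).symm
    simp [Equiv.arrowCongr]
  have h3 : ∑ i, σ (y i) = ∑ i, σ ((Equiv.arrowCongr e.symm (Equiv.refl _) y) i) := by
    refine (Fintype.sum_equiv e (fun i => σ ((Equiv.arrowCongr e.symm (Equiv.refl _) y) i))
      (fun i => σ (y i)) (fun i => ?_)).symm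
    simp [Equiv.arrowCongr]
  show (∏ i, wt (t i) (y i)) * T (r - ∑ i, q (y i)) (s - ∑ i, σ (y i)) = _
  rw [h1, h2, h3]

theorem cntT_equiv {κ κ' : Type} [Fintype κ] [Fintype κ'] (e : κ ≃ κ') (t : κ' → Bool) :
    cntT t = cntT (fun i => t (e i)) := by
  unfold cntT
  exact (Fintype.sum_equiv e (fun i => if t (e i) then 1 else 0) (fun i => if t i then 1 else 0)
    (fun i => rfl)).symm

theorem cntF_equiv {κ κ' : Type} [Fintype κ] [Fintype κ'] (e : κ ≃ κ') (t : κ' → Bool) :
    cntF t = cntF (fun i => t (e i)) := by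
  unfold cntF
  exact (Fintype.sum_equiv e (fun i => if t (e i) then 0 else 1) (fun i => if t i then 0 else 1)
    (fun i => rfl)).symm

/-- The weighted sum over an arbitrary finite index type. -/
theorem wsum_eq {κ : Type} [Fintype κ] [DecidableEq κ] (t : κ → Bool) (T : ℤ → ZMod 8 → ℕ) (r : ℤ) (s : ZMod 8) :
    wsum W wt q σ t T r s =
      (stepW W wt q σ true)^[cntT t] ((stepW W wt q σ false)^[cntF t] T) r s := by
  have e := (Fintype.equivFin κ).symm
  rw [wsum_equiv W wt q σ e t, wsum_fin, ← cntT_equiv e t, ← cntF_equiv e t]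

end Abstract

section Count

/-- The base table: one vector (the empty one) of cost `0` and residue `0`. -/
def T0 : ℤ → ZMod 8 → ℕ := fun r s => if r = 0 ∧ s = 0 then 1 else 0

/-- A set of integer vectors cut out by per-coordinate conditions, total cost and total
residue is counted by the weighted sum. -/
theorem ncard_eq_wsum {κ : Type} [Fintype κ] [DecidableEq κ] (W : Finset ℤ) (wt : Bool → ℤ → ℕ)
    (A : Bool → ℤ → Prop) [∀ b v, Decidable (A b v)] (hwt : ∀ b v, wt b v = if A b v then 1 else 0)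
    (q : ℤ → ℤ) (σ : ℤ → ZMod 8) (t : κ → Bool) (m : ℤ) (s0 : ZMod 8) (S : Set (κ → ℤ))
    (hS : ∀ x, x ∈ S ↔ (∀ i, x i ∈ W) ∧ (∀ i, A (t i) (x i)) ∧ ∑ i, q (x i) = m ∧ ∑ i, σ (x i) = s0) :
    S.ncard = wsum W wt q σ t T0 m s0 := by
  classical
  let Q : (κ → W) → Prop := fun y =>
    (∀ i, A (t i) (y i)) ∧ ∑ i, q (y i) = m ∧ ∑ i, σ (y i) = s0
  have e : S ≃ {y : κ → W // Q y} :=
    { toFun := fun x => ⟨fun i => ⟨x.1 i, ((hS x.1).mp x.2).1 i⟩, ((hS x.1).mp x.2).2⟩
      invFun := fun y => ⟨fun i => (y.1 i : ℤ), (hS _).mpr ⟨fun i => (y.1 i).2, y.2⟩⟩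
      left_inv := fun x => rfl
      right_inv := fun y => rfl }
  rw [← Nat.card_coe_set_eq, Nat.card_congr e, Nat.card_eq_fintype_card, Fintype.card_subtype,
    Finset.card_filter]
  unfold wsum
  refine Finset.sum_congr rfl (fun y _ => ?_)
  have hprod : ∏ i, wt (t i) (y i) = if ∀ i, A (t i) (y i) then 1 else 0 := by
    simp only [hwt]
    rw [Finset.prod_boole]
    simp
  rw [hprod]
  unfold T0
  by_cases h1 : ∀ i, A (t i) (y i)
  · by_cases h2 : ∑ i, q (y i) = m
    · by_cases h3 : ∑ i, σ (y i) = s0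
      · rw [if_pos ⟨h1, h2, h3⟩, if_pos h1, if_pos ⟨by rw [h2]; ring, by rw [h3]; ring⟩]
      · rw [if_neg (fun h => h3 h.2.2), if_pos h1, if_neg (fun h => h3 (by
          have := h.2; exact (sub_eq_zero.mp this).symm))]
    · rw [if_neg (fun h => h2 h.2.1), if_pos h1, if_neg (fun h => h2 (by
        have := h.1; exact (sub_eq_zero.mp this).symm))]
  · rw [if_neg (fun h => h1 h.1), if_neg h1, zero_mul]

end Count

section Table

/-- Abstract step with an explicit list of (cost, residue) options. -/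
def stepP (L : List (ℕ × ℕ)) (T : ℤ → ZMod 8 → ℕ) : ℤ → ZMod 8 → ℕ :=
  fun r s => (L.map fun p => T (r - (p.1 : ℤ)) (s - (p.2 : ZMod 8))).sum

/-- Table lookup. -/
def look (tab : List (List ℕ)) (r s : ℕ) : ℕ := (tab.getD r []).getD s 0

/-- Computable step on tables with rows `0..R` and `8` columns. -/
def stepTab (R : ℕ) (L : List (ℕ × ℕ)) (tab : List (List ℕ)) : List (List ℕ) :=
  (List.range (R + 1)).map fun r => (List.range 8).map fun s =>
    (L.map fun p => if p.1 ≤ r then look tab (r - p.1) ((s + 8 - p.2) % 8) else 0).sum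

/-- The base table. -/
def tab0 (R : ℕ) : List (List ℕ) :=
  (List.range (R + 1)).map fun r => (List.range 8).map fun s => if r = 0 ∧ s = 0 then 1 else 0

/-- `tab` represents the function `T` on rows `0..R`; `T` vanishes for negative cost. -/
def Rep (R : ℕ) (T : ℤ → ZMod 8 → ℕ) (tab : List (List ℕ)) : Prop :=
  (∀ r : ℤ, r < 0 → ∀ s, T r s = 0) ∧
    ∀ r : ℕ, r ≤ R → ∀ s : ℕ, s < 8 → look tab r s = T (r : ℤ) (s : ZMod 8)

theorem getD_map_range {α : Type} (n : ℕ) (F : ℕ → α) (d : α) (i : ℕ) (hi : i < n) :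
    ((List.range n).map F).getD i d = F i := by
  rw [List.getD_eq_getElem?_getD, List.getElem?_map, List.getElem?_range hi]
  rfl

theorem look_map (R : ℕ) (f : ℕ → ℕ → ℕ) (r s : ℕ) (hr : r ≤ R) (hs : s < 8) :
    look ((List.range (R + 1)).map fun r => (List.range 8).map fun s => f r s) r s = f r s := by
  unfold look
  rw [getD_map_range (R + 1) _ [] r (by omega), getD_map_range 8 _ 0 s hs]

theorem rep_base (R : ℕ) : Rep R T0 (tab0 R) := by
  refine ⟨fun r hr s => ?_, fun r hr s hs => ?_⟩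
  · unfold T0
    rw [if_neg (fun h => by omega)]
  · unfold tab0
    rw [look_map R _ r s hr hs]
    unfold T0
    have h1 : ((r : ℤ) = 0) ↔ r = 0 := by omega
    have h2 : ((s : ZMod 8) = 0) ↔ s = 0 := by
      rw [ZMod.natCast_eq_zero_iff]
      constructor
      · intro h; exact Nat.eq_zero_of_dvd_of_lt h hs
      · intro h; rw [h]; exact dvd_zero _
    simp only [h1, h2]

theorem rep_step (R : ℕ) (L : List (ℕ × ℕ)) (hL : ∀ p ∈ L, p.2 ≤ 8) {T : ℤ → ZMod 8 → ℕ}
    {tab : List (List ℕ)} (h : Rep R T tab) : Rep R (stepP L T) (stepTab R L tab) := by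
  refine ⟨fun r hr s => ?_, fun r hr s hs => ?_⟩
  · unfold stepP
    apply List.sum_eq_zero
    intro x hx
    rw [List.mem_map] at hx
    obtain ⟨p, -, rfl⟩ := hx
    exact h.1 _ (by have := Int.natCast_nonneg p.1; omega) _
  · unfold stepTab
    rw [look_map R _ r s hr hs]
    unfold stepP
    congr 1
    apply List.map_congr_left
    intro p hp
    split_ifs with hle
    · rw [h.2 (r - p.1) (by omega) _ (Nat.mod_lt _ (by norm_num))]
      have e1 : ((r - p.1 : ℕ) : ℤ) = (r : ℤ) - (p.1 : ℤ) := by omega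
      have e2 : (((s + 8 - p.2) % 8 : ℕ) : ZMod 8) = (s : ZMod 8) - (p.2 : ZMod 8) := by
        rw [ZMod.natCast_mod, Nat.cast_sub (by have := hL p hp; omega)]
        push_cast
        have h8 : (8 : ZMod 8) = 0 := by decide
        rw [h8, add_zero]
      rw [e1, e2]
    · exact (h.1 _ (by omega) _).symm

theorem rep_iter (R : ℕ) (L : List (ℕ × ℕ)) (hL : ∀ p ∈ L, p.2 ≤ 8) :
    ∀ (k : ℕ) {T : ℤ → ZMod 8 → ℕ} {tab : List (List ℕ)}, Rep R T tab →
      Rep R ((stepP L)^[k] T) ((stepTab R L)^[k] tab) := by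
  intro k
  induction k with
  | zero => intro T tab h; exact h
  | succ k ih =>
    intro T tab h
    rw [Function.iterate_succ_apply', Function.iterate_succ_apply']
    exact rep_step R L hL (ih h)

/-- Evaluation of the two-kind iterate by tables. -/
theorem eval_tab (R : ℕ) (LA LB : List (ℕ × ℕ)) (hA : ∀ p ∈ LA, p.2 ≤ 8) (hB : ∀ p ∈ LB, p.2 ≤ 8)
    (a b : ℕ) (r : ℕ) (hr : r ≤ R) (s : ℕ) (hs : s < 8) :
    (stepP LA)^[a] ((stepP LB)^[b] T0) (r : ℤ) (s : ZMod 8) =
      look ((stepTab R LA)^[a] ((stepTab R LB)^[b] (tab0 R))) r s :=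
  ((rep_iter R LA hA a (rep_iter R LB hB b (rep_base R))).2 r hr s hs).symm

end Table


end Cfsg.Agent.Lib.Helper92.DP
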