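import Mathlib
import Cfsg.Prelude.Def_Sporadic_a
import Cfsg.Agent.Lib.Helper7.GolayCode

set_option autoImplicit false

namespace Cfsg.Agent.Lib.Helper92

open Cfsg Cfsg.Agent.Lib.Helper7

/-- The word of second binary digits of an integer vector. -/
def bitWord (x : GolayPt → ℤ) : GolayPt → ZMod 2 := fun i => ((x i / 2 : ℤ) : ZMod 2)

/-- The membership condition of the lattice, written with `bitWord`. -/
def LeechPred (x : GolayPt → ℤ) : Prop :=
  ∃ m : ℤ, (∀ i, x i ≡ m [ZMOD 2]) ∧ (∑ i, x i ≡ 4 * m [ZMOD 8]) ∧ bitWord x ∈ golayCode

theorem cast_half (a : ℤ) : ((a / 2 : ℤ) : ZMod 2) = if a % 4 = 2 ∨ a % 4 = 3 then 1 else 0 := by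
  rw [← ZMod.intCast_mod (a / 2) 2]
  split_ifs with h
  · have : a / 2 % ((2 : ℕ) : ℤ) = 1 := by push_cast; omega
    rw [this]; simp
  · have : a / 2 % ((2 : ℕ) : ℤ) = 0 := by push_cast; omega
    rw [this]; simp

theorem one_mem_golayCode : (1 : GolayPt → ZMod 2) ∈ golayCode :=
  Submodule.subset_span (Or.inr rfl)

/-- A set is the support of a code word iff its indicator word is a code word. -/
theorem mem_supports_iff (S : Finset GolayPt) :
    S ∈ supports (golayCode : Set (GolayPt → ZMod 2)) ↔
      (fun i => if i ∈ S then (1 : ZMod 2) else 0) ∈ golayCode := by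
  constructor
  · rintro ⟨w, hw, rfl⟩
    have : (fun i => if i ∈ support₂ w then (1 : ZMod 2) else 0) = w := by
      funext i
      simp only [support₂, Finset.mem_filter, Finset.mem_univ, true_and]
      rcases zmod2_cases (w i) with h | h <;> simp [h]
    rw [this]
    exact hw
  · intro h
    refine ⟨_, h, ?_⟩
    ext i
    simp only [support₂, Finset.mem_filter, Finset.mem_univ, true_and]
    by_cases hi : i ∈ S <;> simp [hi]

theorem mem_leechSet_iff (x : GolayPt → ℤ) : x ∈ leechSet ↔ LeechPred x := by
  constructor
  · rintro ⟨m, h2, h8, hk⟩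
    refine ⟨m, h2, h8, ?_⟩
    rcases Int.emod_two_eq_zero_or_one m with hm | hm
    · have h := (mem_supports_iff _).mp (hk 2)
      have e : bitWord x = fun i => if i ∈ (Finset.univ.filter fun i => x i ≡ 2 [ZMOD 4]) then (1 : ZMod 2) else 0 := by
        funext i
        have hi := h2 i
        simp only [bitWord, cast_half, Finset.mem_filter, Finset.mem_univ, true_and]
        by_cases h1 : x i ≡ 2 [ZMOD 4]
        · rw [if_pos h1]
          unfold Int.ModEq at hi h1
          rw [if_pos (by omega)]
        · rw [if_neg h1]
          unfold Int.ModEq at hi h1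
          rw [if_neg (by omega)]
      rw [e]; exact h
    · have h := (mem_supports_iff _).mp (hk 3)
      have e : bitWord x = fun i => if i ∈ (Finset.univ.filter fun i => x i ≡ 3 [ZMOD 4]) then (1 : ZMod 2) else 0 := by
        funext i
        have hi := h2 i
        simp only [bitWord, cast_half, Finset.mem_filter, Finset.mem_univ, true_and]
        by_cases h1 : x i ≡ 3 [ZMOD 4]
        · rw [if_pos h1]
          unfold Int.ModEq at hi h1
          rw [if_pos (by omega)]
        · rw [if_neg h1]
          unfold Int.ModEq at hi h1
          rw [if_neg (by omega)]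
      rw [e]; exact h
  · rintro ⟨m, h2, h8, hb⟩
    refine ⟨m, h2, h8, fun k => ?_⟩
    rw [mem_supports_iff]
    by_cases hpar : k % 2 = m % 2
    · by_cases hk : k % 4 = 2 ∨ k % 4 = 3
      · -- the set is the support of `bitWord x`
        have e : (fun i => if i ∈ (Finset.univ.filter fun i => x i ≡ k [ZMOD 4]) then (1 : ZMod 2) else 0)
            = bitWord x := by
          funext i
          have hi := h2 i
          simp only [bitWord, cast_half, Finset.mem_filter, Finset.mem_univ, true_and]
          by_cases h1 : x i ≡ k [ZMOD 4]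
          · rw [if_pos h1]
            unfold Int.ModEq at hi h1
            rw [if_pos (by omega)]
          · rw [if_neg h1]
            unfold Int.ModEq at hi h1
            rw [if_neg (by omega)]
        rw [e]; exact hb
      · have e : (fun i => if i ∈ (Finset.univ.filter fun i => x i ≡ k [ZMOD 4]) then (1 : ZMod 2) else 0)
            = bitWord x + 1 := by
          funext i
          have hi := h2 i
          simp only [bitWord, cast_half, Finset.mem_filter, Finset.mem_univ, true_and, Pi.add_apply,
            Pi.one_apply]
          by_cases h1 : x i ≡ k [ZMOD 4]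
          · rw [if_pos h1]
            unfold Int.ModEq at hi h1
            rw [if_neg (by omega)]; simp
          · rw [if_neg h1]
            unfold Int.ModEq at hi h1
            rw [if_pos (by omega)]; decide
        rw [e]; exact Submodule.add_mem _ hb one_mem_golayCode
    · have e : (fun i => if i ∈ (Finset.univ.filter fun i => x i ≡ k [ZMOD 4]) then (1 : ZMod 2) else 0)
          = 0 := by
        funext i
        have hi := h2 i
        simp only [Finset.mem_filter, Finset.mem_univ, true_and, Pi.zero_apply]
        have h1 : ¬ x i ≡ k [ZMOD 4] := by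
          intro h1
          unfold Int.ModEq at hi h1
          omega
        rw [if_neg h1]
      rw [e]; exact Submodule.zero_mem _

theorem leechPred_zero : LeechPred 0 := by
  refine ⟨0, fun i => by simp, by simp, ?_⟩
  have : bitWord 0 = 0 := by funext i; simp [bitWord]
  rw [this]; exact Submodule.zero_mem _

theorem half_add (a b : ℤ) : (a + b) / 2 = a / 2 + b / 2 + (a % 2) * (b % 2) := by
  rcases Int.emod_two_eq_zero_or_one a with ha | ha <;>
    rcases Int.emod_two_eq_zero_or_one b with hb | hb <;> rw [ha, hb] <;> omega

theorem half_neg (a : ℤ) : (-a) / 2 = -(a / 2) - a % 2 := by omega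

theorem leechPred_add {x y : GolayPt → ℤ} (hx : LeechPred x) (hy : LeechPred y) : LeechPred (x + y) := by
  obtain ⟨m, h2, h8, hb⟩ := hx
  obtain ⟨m', h2', h8', hb'⟩ := hy
  refine ⟨m + m', fun i => (h2 i).add (h2' i), ?_, ?_⟩
  · have : ∑ i, (x + y) i = ∑ i, x i + ∑ i, y i := by
      simp only [Pi.add_apply, Finset.sum_add_distrib]
    rw [this, mul_add]
    exact h8.add h8'
  · have e : bitWord (x + y) = bitWord x + bitWord y +
        (((m % 2) * (m' % 2) : ℤ) : ZMod 2) • (1 : GolayPt → ZMod 2) := by
      funext i
      have hi := h2 i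
      have hi' := h2' i
      unfold Int.ModEq at hi hi'
      simp only [bitWord, Pi.add_apply, Pi.smul_apply, Pi.one_apply, smul_eq_mul, mul_one]
      rw [half_add, hi, hi']
      push_cast
      rfl
    rw [e]
    exact Submodule.add_mem _ (Submodule.add_mem _ hb hb') (Submodule.smul_mem _ _ one_mem_golayCode)

theorem leechPred_neg {x : GolayPt → ℤ} (hx : LeechPred x) : LeechPred (-x) := by
  obtain ⟨m, h2, h8, hb⟩ := hx
  refine ⟨-m, fun i => (h2 i).neg, ?_, ?_⟩
  · have : ∑ i, (-x) i = -∑ i, x i := by
      simp only [Pi.neg_apply, Finset.sum_neg_distrib]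
    rw [this, mul_neg]
    exact h8.neg
  · have e : bitWord (-x) = bitWord x + ((m % 2 : ℤ) : ZMod 2) • (1 : GolayPt → ZMod 2) := by
      funext i
      have hi := h2 i
      unfold Int.ModEq at hi
      simp only [bitWord, Pi.add_apply, Pi.smul_apply, Pi.one_apply, smul_eq_mul, mul_one, Pi.neg_apply]
      rw [half_neg, hi]
      push_cast
      have h2z : ∀ a b : ZMod 2, -a - b = a + b := by decide
      exact h2z _ _
    rw [e]
    exact Submodule.add_mem _ hb (Submodule.smul_mem _ _ one_mem_golayCode)

theorem mem_leechLattice_iff (x : GolayPt → ℤ) : x ∈ leechLattice ↔ LeechPred x := by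
  constructor
  · intro hx
    unfold leechLattice at hx
    induction hx using AddSubgroup.closure_induction with
    | mem y hy => exact (mem_leechSet_iff y).mp hy
    | zero => exact leechPred_zero
    | add y z _ _ hy hz => exact leechPred_add hy hz
    | neg y _ hy => exact leechPred_neg hy
  · intro hx
    exact AddSubgroup.subset_closure ((mem_leechSet_iff x).mpr hx)

theorem leechLattice_coe : (leechLattice : Set (GolayPt → ℤ)) = leechSet := by
  ext x
  rw [SetLike.mem_coe, mem_leechLattice_iff, mem_leechSet_iff]

theorem weights_all : (List.range 4096).all (fun k => k == 0 || popc (enc k) == 8 ||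
    popc (enc k) == 12 || popc (enc k) == 16 || popc (enc k) == 24) = true := by
  decide +kernel

/-- The weights of the code words are `0, 8, 12, 16, 24`. -/
theorem weight_cases (w : GolayPt → ZMod 2) (hw : w ∈ golayCode) :
    w = 0 ∨ (support₂ w).card = 8 ∨ (support₂ w).card = 12 ∨ (support₂ w).card = 16 ∨
      (support₂ w).card = 24 := by
  obtain ⟨k, hk, rfl⟩ := (mem_golayCode_iff w).mp hw
  have h := all_range weights_all k hk
  rw [card_support₂_wordOf]
  simp only [Bool.or_eq_true, beq_iff_eq] at h
  rcases h with (((h | h) | h) | h) | h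
  · left; rw [h, enc_zero, wordOf_zero]
  · right; left; exact h
  · right; right; left; exact h
  · right; right; right; left; exact h
  · right; right; right; right; exact h

theorem card_golayPt : Fintype.card GolayPt = 24 := by
  simp [GolayPt]

/-- Non-zero vectors of the lattice have sum of squares at least `32`. -/
theorem sqNorm_ge {x : GolayPt → ℤ} (hx : x ∈ leechLattice) (h0 : x ≠ 0) : 32 ≤ sqNorm x := by
  obtain ⟨m, h2, h8, hb⟩ := (mem_leechLattice_iff x).mp hx
  have hw := weight_cases _ hb
  unfold sqNorm
  rcases Int.emod_two_eq_zero_or_one m with hm | hm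
  · rcases hw with hw | hw
    · -- all coordinates divisible by 4
      have h4 : ∀ i, x i % 4 = 0 := by
        intro i
        have hi := h2 i
        unfold Int.ModEq at hi
        have h5 := congrFun hw i
        simp only [bitWord, cast_half, Pi.zero_apply] at h5
        by_contra hne
        rw [if_pos (by omega)] at h5
        exact one_ne_zero h5
      have e4 : ∀ i, x i = 4 * (x i / 4) := by
        intro i
        have := h4 i
        omega
      have hsum : ∑ i, x i ^ 2 = 16 * ∑ i, (x i / 4) ^ 2 := by
        rw [Finset.mul_sum]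
        refine Finset.sum_congr rfl (fun i _ => ?_)
        have e := e4 i
        generalize x i / 4 = y at e
        rw [e]; ring
      have hsum1 : ∑ i, x i = 4 * ∑ i, (x i / 4) := by
        rw [Finset.mul_sum]
        exact Finset.sum_congr rfl (fun i _ => e4 i)
      have hpar : (2 : ℤ) ∣ ∑ i, (x i / 4) ^ 2 - ∑ i, (x i / 4) := by
        rw [← Finset.sum_sub_distrib]
        apply Finset.dvd_sum
        intro i _
        have : (x i / 4) ^ 2 - x i / 4 = (x i / 4) * (x i / 4 - 1) := by ring
        rw [this]
        exact Int.even_mul_pred_self _ |>.two_dvd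
      have hpos : 0 < ∑ i, (x i / 4) ^ 2 := by
        obtain ⟨j, hj⟩ := Function.ne_iff.mp h0
        have hj' : x j / 4 ≠ 0 := by
          intro h
          apply hj
          rw [e4 j, h]; simp
        have h1 : 0 < (x j / 4) ^ 2 := by positivity
        exact lt_of_lt_of_le h1
          (Finset.single_le_sum (f := fun i => (x i / 4) ^ 2) (fun i _ => sq_nonneg _) (Finset.mem_univ j))
      unfold Int.ModEq at h8
      rw [hsum]
      rw [hsum1] at h8
      omega
    · -- weight at least 8
      have h4 : ∀ i ∈ support₂ (bitWord x), 4 ≤ x i ^ 2 := by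
        intro i hi
        have hi2 := h2 i
        unfold Int.ModEq at hi2
        simp only [support₂, Finset.mem_filter, Finset.mem_univ, true_and, bitWord, cast_half] at hi
        have h5 : x i % 4 = 2 := by
          by_contra hne
          rw [if_neg (by omega)] at hi
          exact hi rfl
        have h6 : x i ≤ -2 ∨ 2 ≤ x i := by omega
        rcases h6 with h6 | h6 <;> nlinarith
      have h7 : (support₂ (bitWord x)).card • (4 : ℤ) ≤ ∑ i ∈ support₂ (bitWord x), x i ^ 2 :=
        Finset.card_nsmul_le_sum _ _ _ h4
      have h8' : ∑ i ∈ support₂ (bitWord x), x i ^ 2 ≤ ∑ i, x i ^ 2 :=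
        Finset.sum_le_sum_of_subset_of_nonneg (Finset.subset_univ _) (fun i _ _ => sq_nonneg _)
      rw [nsmul_eq_mul] at h7
      have h9 : (8 : ℤ) ≤ ((support₂ (bitWord x)).card : ℤ) := by
        rcases hw with h | h | h | h <;> rw [h] <;> norm_num
      linarith
  · -- odd coordinates
    by_contra hlt
    push Not at hlt
    have hodd : ∀ i, x i % 2 = 1 := by
      intro i
      have hi := h2 i
      unfold Int.ModEq at hi
      omega
    have h1 : ∀ i, 1 ≤ x i ^ 2 := by
      intro i
      have := hodd i
      have h6 : x i ≤ -1 ∨ 1 ≤ x i := by omega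
      rcases h6 with h6 | h6 <;> nlinarith
    have hle : ∀ j, x j ^ 2 ≤ 8 := by
      intro j
      have h3 : ∑ i, (x i ^ 2 - 1) = ∑ i, x i ^ 2 - 24 := by
        rw [Finset.sum_sub_distrib]
        simp [card_golayPt]
      have h4 : x j ^ 2 - 1 ≤ ∑ i, (x i ^ 2 - 1) :=
        Finset.single_le_sum (f := fun i => x i ^ 2 - 1) (fun i _ => by linarith [h1 i]) (Finset.mem_univ j)
      linarith
    have hpm : ∀ i, x i = 1 ∨ x i = -1 := by
      intro i
      have := hodd i
      have := hle i
      have h6 : -2 ≤ x i ∧ x i ≤ 2 := by constructor <;> nlinarith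
      omega
    have hval : ∀ i, x i = 1 - 2 * (if bitWord x i ≠ 0 then 1 else 0) := by
      intro i
      simp only [bitWord, cast_half]
      rcases hpm i with h | h
      · rw [h]; norm_num
      · rw [h]; norm_num
    have hsum : ∑ i, x i = 24 - 2 * ((support₂ (bitWord x)).card : ℤ) := by
      calc ∑ i, x i = ∑ i, ((1 : ℤ) - 2 * (if bitWord x i ≠ 0 then 1 else 0)) :=
            Finset.sum_congr rfl (fun i _ => hval i)
        _ = 24 - 2 * ((support₂ (bitWord x)).card : ℤ) := by
            rw [Finset.sum_sub_distrib, ← Finset.mul_sum, Finset.sum_boole]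
            simp [card_golayPt, support₂]
    unfold Int.ModEq at h8
    rw [hsum] at h8
    rcases hw with h | h | h | h | h
    · have : (support₂ (bitWord x)).card = 0 := by rw [h]; simp [support₂]
      rw [this] at h8
      omega
    all_goals (rw [h] at h8; omega)

end Cfsg.Agent.Lib.Helper92
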