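import Cfsg.Agent.Lib.Helper92.LeechCo2Simple
import Cfsg.Agent.Lib.Helper92.LeechIrr
import Cfsg.Agent.Lib.Helper92.LeechOrder

set_option autoImplicit false

open scoped Pointwise

namespace Cfsg.Agent.Lib.Helper92

open Cfsg Cfsg.Spor Cfsg.Agent.Lib.Helper7

/-! ### Simplicity of the automorphism group of the lattice modulo its centre -/

/-- An automorphism carrying each minimal vector to itself or its opposite is `1` or `-1`. -/
theorem pm_central (g : Co0)
    (hpm : ∀ v : leechLattice, sqNorm (v : GolayPt → ℤ) = 32 → g • v = v ∨ g • v = -v) :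
    g = 1 ∨ g = negElt := by
  have hstep : ∀ v w : leechLattice, sqNorm (v : GolayPt → ℤ) = 32 →
      sqNorm (w : GolayPt → ℤ) = 32 →
      dotInt (v : GolayPt → ℤ) (w : GolayPt → ℤ) ≠ 0 → g • v = v → g • w = w := by
    intro v w hv hw hd hgv
    rcases hpm w hw with h | h
    · exact h
    · exfalso
      have e := co0_smul_dotInt g v w
      rw [hgv, h] at e
      have e2 : dotInt (v : GolayPt → ℤ) ((-w : leechLattice) : GolayPt → ℤ) =
          -dotInt (v : GolayPt → ℤ) (w : GolayPt → ℤ) := dotInt_neg_right _ _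
      rw [e2] at e
      omega
  have hall : ∀ v w : leechLattice, sqNorm (v : GolayPt → ℤ) = 32 →
      sqNorm (w : GolayPt → ℤ) = 32 → g • v = v → g • w = w := by
    intro v w hv hw hgv
    by_cases hd : dotInt (v : GolayPt → ℤ) (w : GolayPt → ℤ) = 0
    · obtain ⟨z, hz, hd1, hd2⟩ := exists_link v w hv hw hd
      exact hstep z w hz hw hd2 (hstep v z hv hz hd1 hgv)
    · exact hstep v w hv hw hd hgv
  obtain ⟨o1, -⟩ := qL_ok
  obtain ⟨n1, -⟩ := qL_vals
  have N1 : sqNorm ((lv qL1 o1 : leechLattice) : GolayPt → ℤ) = 32 := (sqNorm_vecOf _).trans n1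
  by_cases h1 : g • lv qL1 o1 = lv qL1 o1
  · left
    apply Subtype.ext
    apply co0_ext_min g.2 Co0.one_mem
    intro v hv
    exact hall _ v N1 hv h1
  · right
    apply Subtype.ext
    apply co0_ext_min g.2 negCo_mem
    intro v hv
    rcases hpm v hv with h | h
    · exact absurd (hall v _ hv N1 h) h1
    · exact h

theorem eq_neg_of_dot {x y : leechLattice} {n : ℤ} (hx : sqNorm (x : GolayPt → ℤ) = n)
    (hy : sqNorm (y : GolayPt → ℤ) = n)
    (h : dotInt (x : GolayPt → ℤ) (y : GolayPt → ℤ) = -n) : y = -x := by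
  have h1 : sqNorm ((x : GolayPt → ℤ) + (y : GolayPt → ℤ)) = 0 := by
    rw [sqNorm_add, hx, hy, h]
    ring
  have h2 := sqNorm_eq_zero h1
  apply Subtype.ext
  show (y : GolayPt → ℤ) = -(x : GolayPt → ℤ)
  exact eq_neg_of_add_eq_zero_right h2

/-- Lengths of the classes. -/
def co1M (d : ℤ) : ℕ :=
  if d = 32 then 1 else if d = -32 then 1 else if d = 16 then 4600 else if d = -16 then 4600
  else if d = 8 then 47104 else if d = -8 then 47104 else 93150

theorem co1M_vals : co1M 32 = 1 ∧ co1M (-32) = 1 ∧ co1M 16 = 4600 ∧ co1M (-16) = 4600 ∧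
    co1M 8 = 47104 ∧ co1M (-8) = 47104 ∧ co1M 0 = 93150 := by decide

theorem co1_prim : ∀ I ∈ ({32, -32, 16, -16, 8, -8, 0} : Finset ℤ).powerset, (32 : ℤ) ∈ I →
    (∑ d ∈ I, co1M d) ∣ 196560 →
    I = {32} ∨ I = {32, -32} ∨ I = {32, -32, 16, -16, 8, -8, 0} := by decide +kernel

theorem co1_num : ∀ I ∈ (({32, -32, 16, -16, 8, -8, 0} : Finset ℤ).erase 32).powerset,
    ∀ J ∈ (({32, -32, 16, -16, 8, -8, 0} : Finset ℤ).erase 32).powerset,
    Disjoint I J → 7 ∣ 1 + ∑ d ∈ I, co1M d → 2 ∣ 1 + ∑ d ∈ J, co1M d → False := by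
  decide +kernel

theorem ncard_min : {y : leechLattice | sqNorm (y : GolayPt → ℤ) = 32}.ncard = 196560 := by
  rw [ncard_lat (fun w => sqNorm w = 32)]
  exact count32

/-- The action of the automorphism group on the minimal vectors. -/
theorem co1_data (x : leechLattice) (hx : sqNorm (x : GolayPt → ℤ) = 32) :
    ColData Co0 {y : leechLattice | sqNorm (y : GolayPt → ℤ) = 32} x (dotC x)
      {32, -32, 16, -16, 8, -8, 0} co1M := by
  have hxm : (x : GolayPt → ℤ) ∈ minF := mem_minF.mpr ⟨x.2, hx⟩
  have hxx : dotC x x = 32 := by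
    unfold dotC
    rw [dotInt_self]
    exact hx
  have hcl : ∀ d : ℤ, {y | y ∈ {y : leechLattice | sqNorm (y : GolayPt → ℤ) = 32} ∧
      dotC x y = d}.ncard = nd (x : GolayPt → ℤ) d := by
    intro d
    have h := ncard_lat (fun w => sqNorm w = 32 ∧ dotInt (x : GolayPt → ℤ) w = d)
    exact h.trans (ncard_nd _ d)
  have hneg : ∀ y : leechLattice, sqNorm (y : GolayPt → ℤ) = 32 →
      sqNorm ((-y : leechLattice) : GolayPt → ℤ) = 32 := fun y hy => (sqNorm_neg' _).trans hy
  have hdneg : ∀ (y : leechLattice) (d : ℤ), dotC x y = d →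
      dotInt (x : GolayPt → ℤ) ((-y : leechLattice) : GolayPt → ℤ) = -d := fun y d hy =>
    (dotInt_neg_right _ _).trans (congrArg Neg.neg hy)
  have hflip : ∀ d : ℤ, (∀ w w' : leechLattice, sqNorm (w : GolayPt → ℤ) = 32 →
      sqNorm (w' : GolayPt → ℤ) = 32 → dotInt (x : GolayPt → ℤ) (w : GolayPt → ℤ) = -d →
      dotInt (x : GolayPt → ℤ) (w' : GolayPt → ℤ) = -d → ∃ g : Co0, g • x = x ∧ g • w = w') →
      ∀ y y' : leechLattice, sqNorm (y : GolayPt → ℤ) = 32 → sqNorm (y' : GolayPt → ℤ) = 32 →
      dotC x y = d → dotC x y' = d → ∃ g : Co0, g • x = x ∧ g • y = y' := by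
    intro d H y y' hy hy' e e'
    obtain ⟨g, h1, h2⟩ := H (-y) (-y') (hneg y hy) (hneg y' hy') (hdneg y d e) (hdneg y' d e')
    refine ⟨g, h1, ?_⟩
    rw [co0_smul_neg] at h2
    exact neg_injective h2
  apply ColData.of_card' (show x ∈ {y : leechLattice | sqNorm (y : GolayPt → ℤ) = 32} from hx)
    (Set.finite_of_ncard_ne_zero (by rw [ncard_min]; norm_num))
  · intro g y hy
    exact (co0_smul_sqNorm g y).trans hy
  · intro y hy
    exact co0_trans_min x y hx hy
  · intro g hg y _
    exact dot_smul_fix hg y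
  · intro d hd hne y hy y' hy' e e'
    rw [hxx] at hne
    simp only [Finset.mem_insert, Finset.mem_singleton] at hd
    rcases hd with rfl | rfl | rfl | rfl | rfl | rfl | rfl
    · exact absurd rfl hne
    · have h1 := eq_neg_of_dot hx hy e
      have h2 := eq_neg_of_dot hx hy' e'
      exact ⟨1, one_smul _ _, by rw [one_smul, h1, h2]⟩
    · exact hflip 16 (fun w w' hw hw' hd hd' => stab_transfer trans16 x w w' hx hw hw' hd hd')
        y y' hy hy' e e'
    · exact stab_transfer trans16 x y y' hx hy hy' e e'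
    · exact hflip 8 (fun w w' hw hw' hd hd' => stab_transfer trans8 x w w' hx hw hw' hd hd')
        y y' hy hy' e e'
    · exact stab_transfer trans8 x y y' hx hy hy' e e'
    · exact stab_transfer trans0 x y y' hx hy hy' e e'
  · intro d hd
    rw [hcl d]
    obtain ⟨c16, c8, c0⟩ := census hxm
    obtain ⟨v1, v2, v3, v4, v5, v6, v7⟩ := co1M_vals
    simp only [Finset.mem_insert, Finset.mem_singleton] at hd
    rcases hd with rfl | rfl | rfl | rfl | rfl | rfl | rfl
    · rw [v1]
      exact nd_pos hxm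
    · rw [v2]
      exact (nd_neg _ 32).trans (nd_pos hxm)
    · rw [v3]
      have h := nd_neg (x : GolayPt → ℤ) (-16)
      rw [neg_neg] at h
      exact h.trans c16
    · rw [v4]
      exact c16
    · rw [v5]
      have h := nd_neg (x : GolayPt → ℤ) (-8)
      rw [neg_neg] at h
      exact h.trans c8
    · rw [v6]
      exact c8
    · rw [v7]
      exact c0
  · intro y hy h
    exact eq_of_dot_eq hx hy (h.trans hxx)
  · rw [ncard_min]
    rfl

/-- A normal subgroup of the automorphism group is central or everything. -/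
theorem co0_normal (N : Subgroup Co0) [hN : N.Normal] : N ≤ Subgroup.center Co0 ∨ N = ⊤ := by
  have hA : sqNorm (vecOf aNL) = 32 := by
    rw [sqNorm_vecOf_dotL (by decide)]
    decide +kernel
  obtain ⟨x, hx⟩ : ∃ x : leechLattice, sqNorm (x : GolayPt → ℤ) = 32 :=
    ⟨⟨vecOf aNL, aNL_mem⟩, hA⟩
  have D := co1_data x hx
  have hxx : dotC x x = 32 := by
    unfold dotC
    rw [dotInt_self]
    exact hx
  obtain ⟨I, hI, hxI, hdvd, hmem⟩ := D.normal_orbit N
  rw [ncard_min] at hdvd
  rw [hxx] at hxI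
  have hconj : ∀ n ∈ N, ∀ g : Co0, g⁻¹ * n * g ∈ N := by
    intro n hn g
    have h := hN.conj_mem n hn g⁻¹
    rwa [inv_inv] at h
  have hnorm : ∀ g : Co0, sqNorm ((g • x : leechLattice) : GolayPt → ℤ) = 32 := fun g =>
    (co0_smul_sqNorm g x).trans hx
  rcases co1_prim I (Finset.mem_powerset.mpr hI) hxI hdvd with h | h | h
  · left
    intro n hn
    have key : ∀ y : leechLattice, sqNorm (y : GolayPt → ℤ) = 32 → n • y = y := by
      intro y hy
      obtain ⟨g, rfl⟩ := co0_trans_min x y hx hy
      have h2 : dotC x ((g⁻¹ * n * g) • x) ∈ I :=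
        (hmem _ (hnorm _)).mp ⟨_, hconj n hn g, rfl⟩
      rw [h, Finset.mem_singleton] at h2
      have h1 : (g⁻¹ * n * g) • x = x := eq_of_dot_eq hx (hnorm _) h2
      rw [mul_smul, mul_smul, inv_smul_eq_iff] at h1
      exact h1
    have e : n = 1 := by
      apply Subtype.ext
      apply co0_ext_min n.2 Co0.one_mem
      intro v hv
      exact key v hv
    rw [e]
    exact Subgroup.one_mem _
  · left
    intro n hn
    have key : ∀ y : leechLattice, sqNorm (y : GolayPt → ℤ) = 32 → n • y = y ∨ n • y = -y := by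
      intro y hy
      obtain ⟨g, rfl⟩ := co0_trans_min x y hx hy
      have h2 : dotC x ((g⁻¹ * n * g) • x) ∈ I :=
        (hmem _ (hnorm _)).mp ⟨_, hconj n hn g, rfl⟩
      rw [h, Finset.mem_insert, Finset.mem_singleton] at h2
      rcases h2 with h2 | h2
      · left
        have h1 : (g⁻¹ * n * g) • x = x := eq_of_dot_eq hx (hnorm _) h2
        rw [mul_smul, mul_smul, inv_smul_eq_iff] at h1
        exact h1
      · right
        have h1 : (g⁻¹ * n * g) • x = -x := eq_neg_of_dot hx (hnorm _) h2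
        rw [mul_smul, mul_smul, inv_smul_eq_iff, co0_smul_neg] at h1
        exact h1
    rcases pm_central n key with e | e
    · rw [e]
      exact Subgroup.one_mem _
    · rw [e]
      exact negElt_mem_center
  · right
    have htr : ∀ y ∈ {y : leechLattice | sqNorm (y : GolayPt → ℤ) = 32},
        ∃ n ∈ N, n • x = y := fun y hy => (hmem y hy).mpr (h ▸ D.hcols y hy)
    apply trans_normal_top _ x D.hinv D.hx N htr (co2_isCo2 x hx).1
    intro hreg
    exact D.regular_false' 7 2 (by norm_num) (by rw [ncard_min]; norm_num)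
      (by rw [ncard_min]; norm_num)
      (fun I J hI hJ => by
        rw [hxx] at hI hJ
        exact co1_num I (Finset.mem_powerset.mpr hI) J (Finset.mem_powerset.mpr hJ)) N htr hreg

/-- The automorphism group of the lattice modulo its centre is simple of order
`4157776806543360000`. -/
theorem co1_isCo1 : IsSimpleGroup (Co0 ⧸ Subgroup.center Co0) ∧
    Nat.card (Co0 ⧸ Subgroup.center Co0) = 4157776806543360000 := by
  have hcard : Nat.card (Co0 ⧸ Subgroup.center Co0) = 4157776806543360000 := by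
    have h := Subgroup.card_eq_card_quotient_mul_card_subgroup (Subgroup.center Co0)
    rw [card_co0, card_center_co0] at h
    omega
  have hfin : Finite (Co0 ⧸ Subgroup.center Co0) :=
    Nat.finite_of_card_ne_zero (by rw [hcard]; norm_num)
  have hnt : Nontrivial (Co0 ⧸ Subgroup.center Co0) :=
    Finite.one_lt_card_iff_nontrivial.mp (by rw [hcard]; norm_num)
  refine ⟨⟨fun M hM => ?_⟩, hcard⟩
  have hN : (M.comap (QuotientGroup.mk' (Subgroup.center Co0))).Normal := hM.comap _
  rcases co0_normal (M.comap (QuotientGroup.mk' (Subgroup.center Co0))) with h | h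
  · left
    rw [Subgroup.eq_bot_iff_forall]
    intro q hq
    obtain ⟨g, rfl⟩ := QuotientGroup.mk_surjective q
    have hg : g ∈ Subgroup.center Co0 := h (Subgroup.mem_comap.mpr hq)
    exact (QuotientGroup.eq_one_iff g).mpr hg
  · right
    rw [Subgroup.eq_top_iff']
    intro q
    obtain ⟨g, rfl⟩ := QuotientGroup.mk_surjective q
    have hg : g ∈ M.comap (QuotientGroup.mk' (Subgroup.center Co0)) := by
      rw [h]
      exact Subgroup.mem_top g
    exact Subgroup.mem_comap.mp hg

end Cfsg.Agent.Lib.Helper92
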