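import Cfsg.Agent.Lib.Helper92.LeechNormal

set_option autoImplicit false

namespace Cfsg.Agent.Lib.Helper92

open Cfsg Cfsg.Spor Cfsg.Agent.Lib.Helper7

/-! ### Fusion of the classes by the non-monomial automorphism (generated data) -/

/-- Representative of the base class for inner product `-16`. -/
def rep16 : List ℤ := [0, -4, 0, 0, 0, 0, 0, 0, 0, 0, 0, 0, 0, 0, 0, 0, 0, 0, 0, 0, 0, 0, 0, -4]

theorem rep16_key : keyChk rep16 (-4) (0) true = true := by decide +kernel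

theorem conn16_m4_0_A : Conn (-4) (0) true (-4) (0) true := conn_refl _ _ _

/-- Fusion vector joining two classes. -/
def fv16_m2_m2_N : List ℤ := [-2, 2, -2, -2, 0, -2, 0, 0, 0, 0, 0, 0, 0, 0, -2, 0, 0, 2, 0, 0, 0, 0, 0, -2]

theorem fv16_m2_m2_N_a : keyChk fv16_m2_m2_N (-2) (-2) false = true := by decide +kernel

theorem fv16_m2_m2_N_b : keyChk (gL fv16_m2_m2_N) (-4) (0) true = true := by decide +kernel

theorem conn16_m2_m2_N : Conn (-2) (-2) false (-4) (0) true :=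
  (conn_edge fv16_m2_m2_N fv16_m2_m2_N_a fv16_m2_m2_N_b).trans (vecOf (gL fv16_m2_m2_N)) (inKey_of_chk fv16_m2_m2_N_b) conn16_m4_0_A

/-- Fusion vector joining two classes. -/
def fv16_0_m4_A : List ℤ := [-4, 0, -4, 0, 0, 0, 0, 0, 0, 0, 0, 0, 0, 0, 0, 0, 0, 0, 0, 0, 0, 0, 0, 0]

theorem fv16_0_m4_A_a : keyChk fv16_0_m4_A (0) (-4) true = true := by decide +kernel

theorem fv16_0_m4_A_b : keyChk (gL fv16_0_m4_A) (-4) (0) true = true := by decide +kernel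

theorem conn16_0_m4_A : Conn (0) (-4) true (-4) (0) true :=
  (conn_edge fv16_0_m4_A fv16_0_m4_A_a fv16_0_m4_A_b).trans (vecOf (gL fv16_0_m4_A)) (inKey_of_chk fv16_0_m4_A_b) conn16_m4_0_A

/-- Fusion vector joining two classes. -/
def fv16_m3_m1_N : List ℤ := [-1, -1, -1, -1, -1, -1, -1, -1, -1, -1, -1, 1, -1, 1, -1, 1, 1, 1, -1, -1, -1, 1, 1, -3]

theorem fv16_m3_m1_N_a : keyChk fv16_m3_m1_N (-3) (-1) false = true := by decide +kernel

theorem fv16_m3_m1_N_b : keyChk (gL fv16_m3_m1_N) (-2) (-2) false = true := by decide +kernel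

theorem conn16_m3_m1_N : Conn (-3) (-1) false (-4) (0) true :=
  (conn_edge fv16_m3_m1_N fv16_m3_m1_N_a fv16_m3_m1_N_b).trans (vecOf (gL fv16_m3_m1_N)) (inKey_of_chk fv16_m3_m1_N_b) conn16_m2_m2_N

/-- Fusion vector joining two classes. -/
def fv16_m1_m3_N : List ℤ := [-3, -1, -1, -1, -1, -1, -1, -1, -1, -1, -1, 1, 1, 1, 1, 1, -1, -1, 1, -1, -1, 1, -1, -1]

theorem fv16_m1_m3_N_a : keyChk fv16_m1_m3_N (-1) (-3) false = true := by decide +kernel

theorem fv16_m1_m3_N_b : keyChk (gL fv16_m1_m3_N) (-2) (-2) false = true := by decide +kernel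

theorem conn16_m1_m3_N : Conn (-1) (-3) false (-4) (0) true :=
  (conn_edge fv16_m1_m3_N fv16_m1_m3_N_a fv16_m1_m3_N_b).trans (vecOf (gL fv16_m1_m3_N)) (inKey_of_chk fv16_m1_m3_N_b) conn16_m2_m2_N

/-- Representative of the base class for inner product `0`. -/
def rep0 : List ℤ := [-4, 0, 0, 0, 0, 0, 0, 0, 0, 0, 0, 0, 0, 0, 0, 0, 0, 0, 0, 0, 0, 0, 0, 4]

theorem rep0_key : keyChk rep0 (4) (-4) true = true := by decide +kernel

theorem conn0_4_m4_A : Conn (4) (-4) true (4) (-4) true := conn_refl _ _ _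

/-- Fusion vector joining two classes. -/
def fv0_0_0_A : List ℤ := [0, -4, 4, 0, 0, 0, 0, 0, 0, 0, 0, 0, 0, 0, 0, 0, 0, 0, 0, 0, 0, 0, 0, 0]

theorem fv0_0_0_A_a : keyChk fv0_0_0_A (0) (0) true = true := by decide +kernel

theorem fv0_0_0_A_b : keyChk (gL fv0_0_0_A) (4) (-4) true = true := by decide +kernel

theorem conn0_0_0_A : Conn (0) (0) true (4) (-4) true :=
  (conn_edge fv0_0_0_A fv0_0_0_A_a fv0_0_0_A_b).trans (vecOf (gL fv0_0_0_A)) (inKey_of_chk fv0_0_0_A_b) conn0_4_m4_A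

/-- Fusion vector joining two classes. -/
def fv0_m4_4_A : List ℤ := [4, 0, 0, 0, 0, 0, 0, 0, 0, 0, 0, 0, 0, 0, 0, 0, 0, 0, 0, 0, 0, 0, 0, -4]

theorem fv0_m4_4_A_a : keyChk fv0_m4_4_A (-4) (4) true = true := by decide +kernel

theorem fv0_m4_4_A_b : keyChk (gL fv0_m4_4_A) (0) (0) true = true := by decide +kernel

theorem conn0_m4_4_A : Conn (-4) (4) true (4) (-4) true :=
  (conn_edge fv0_m4_4_A fv0_m4_4_A_a fv0_m4_4_A_b).trans (vecOf (gL fv0_m4_4_A)) (inKey_of_chk fv0_m4_4_A_b) conn0_0_0_A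

/-- Fusion vector joining two classes. -/
def fv0_m2_2_N : List ℤ := [2, -2, -2, -2, 0, -2, 0, 0, 0, 0, 0, 0, 0, 0, -2, 0, 0, 2, 0, 0, 0, 0, 0, -2]

theorem fv0_m2_2_N_a : keyChk fv0_m2_2_N (-2) (2) false = true := by decide +kernel

theorem fv0_m2_2_N_b : keyChk (gL fv0_m2_2_N) (0) (0) true = true := by decide +kernel

theorem conn0_m2_2_N : Conn (-2) (2) false (4) (-4) true :=
  (conn_edge fv0_m2_2_N fv0_m2_2_N_a fv0_m2_2_N_b).trans (vecOf (gL fv0_m2_2_N)) (inKey_of_chk fv0_m2_2_N_b) conn0_0_0_A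

/-- Fusion vector joining two classes. -/
def fv0_0_0_N : List ℤ := [0, 0, 0, -2, -2, -2, 0, 0, 0, 0, 0, 0, 0, -2, -2, 0, -2, 2, 0, 0, 0, 0, 2, 0]

theorem fv0_0_0_N_a : keyChk fv0_0_0_N (0) (0) false = true := by decide +kernel

theorem fv0_0_0_N_b : keyChk (gL fv0_0_0_N) (0) (0) true = true := by decide +kernel

theorem conn0_0_0_N : Conn (0) (0) false (4) (-4) true :=
  (conn_edge fv0_0_0_N fv0_0_0_N_a fv0_0_0_N_b).trans (vecOf (gL fv0_0_0_N)) (inKey_of_chk fv0_0_0_N_b) conn0_0_0_A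

/-- Fusion vector joining two classes. -/
def fv0_2_m2_N : List ℤ := [-2, -2, -2, -2, 0, -2, 0, 0, 0, 0, 0, 0, 0, 0, -2, 0, 0, 2, 0, 0, 0, 0, 0, 2]

theorem fv0_2_m2_N_a : keyChk fv0_2_m2_N (2) (-2) false = true := by decide +kernel

theorem fv0_2_m2_N_b : keyChk (gL fv0_2_m2_N) (0) (0) true = true := by decide +kernel

theorem conn0_2_m2_N : Conn (2) (-2) false (4) (-4) true :=
  (conn_edge fv0_2_m2_N fv0_2_m2_N_a fv0_2_m2_N_b).trans (vecOf (gL fv0_2_m2_N)) (inKey_of_chk fv0_2_m2_N_b) conn0_0_0_A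

/-- Fusion vector joining two classes. -/
def fv0_m1_1_N : List ℤ := [1, 1, -3, -1, -1, -1, -1, -1, -1, -1, -1, -1, 1, -1, -1, -1, -1, 1, -1, 1, 1, -1, 1, -1]

theorem fv0_m1_1_N_a : keyChk fv0_m1_1_N (-1) (1) false = true := by decide +kernel

theorem fv0_m1_1_N_b : keyChk (gL fv0_m1_1_N) (-2) (2) false = true := by decide +kernel

theorem conn0_m1_1_N : Conn (-1) (1) false (4) (-4) true :=
  (conn_edge fv0_m1_1_N fv0_m1_1_N_a fv0_m1_1_N_b).trans (vecOf (gL fv0_m1_1_N)) (inKey_of_chk fv0_m1_1_N_b) conn0_m2_2_N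

/-- Fusion vector joining two classes. -/
def fv0_1_m1_N : List ℤ := [-1, 1, -3, -1, -1, -1, -1, -1, -1, -1, -1, -1, -1, -1, 1, -1, 1, -1, 1, 1, 1, -1, -1, 1]

theorem fv0_1_m1_N_a : keyChk fv0_1_m1_N (1) (-1) false = true := by decide +kernel

theorem fv0_1_m1_N_b : keyChk (gL fv0_1_m1_N) (-2) (2) false = true := by decide +kernel

theorem conn0_1_m1_N : Conn (1) (-1) false (4) (-4) true :=
  (conn_edge fv0_1_m1_N fv0_1_m1_N_a fv0_1_m1_N_b).trans (vecOf (gL fv0_1_m1_N)) (inKey_of_chk fv0_1_m1_N_b) conn0_m2_2_N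

/-- Representative of the base class for inner product `-8`. -/
def rep8 : List ℤ := [0, -2, -2, -2, -2, 0, -2, 0, 0, 0, 0, 0, 0, 0, 0, -2, 0, 0, -2, 0, 0, 0, 0, -2]

theorem rep8_key : keyChk rep8 (-2) (0) false = true := by decide +kernel

theorem conn8_m2_0_N : Conn (-2) (0) false (-2) (0) false := conn_refl _ _ _

/-- Fusion vector joining two classes. -/
def fv8_m3_1_N : List ℤ := [1, 1, -1, -1, -1, -1, -1, -1, -1, -1, -1, -1, -1, 1, -1, 1, -1, 1, 1, 1, -1, -1, -1, -3]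

theorem fv8_m3_1_N_a : keyChk fv8_m3_1_N (-3) (1) false = true := by decide +kernel

theorem fv8_m3_1_N_b : keyChk (gL fv8_m3_1_N) (-2) (0) false = true := by decide +kernel

theorem conn8_m3_1_N : Conn (-3) (1) false (-2) (0) false :=
  (conn_edge fv8_m3_1_N fv8_m3_1_N_a fv8_m3_1_N_b).trans (vecOf (gL fv8_m3_1_N)) (inKey_of_chk fv8_m3_1_N_b) conn8_m2_0_N

/-- Fusion vector joining two classes. -/
def fv8_m1_m1_N : List ℤ := [-1, -1, -3, -1, -1, -1, -1, -1, -1, -1, -1, 1, 1, -1, -1, -1, 1, 1, 1, -1, 1, 1, -1, -1]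

theorem fv8_m1_m1_N_a : keyChk fv8_m1_m1_N (-1) (-1) false = true := by decide +kernel

theorem fv8_m1_m1_N_b : keyChk (gL fv8_m1_m1_N) (-2) (0) false = true := by decide +kernel

theorem conn8_m1_m1_N : Conn (-1) (-1) false (-2) (0) false :=
  (conn_edge fv8_m1_m1_N fv8_m1_m1_N_a fv8_m1_m1_N_b).trans (vecOf (gL fv8_m1_m1_N)) (inKey_of_chk fv8_m1_m1_N_b) conn8_m2_0_N

/-- Fusion vector joining two classes. -/
def fv8_0_m2_N : List ℤ := [-2, 0, -2, -2, -2, -2, 0, 0, 0, 0, 0, 0, 0, 0, 0, -2, 0, 0, 0, 0, -2, 0, -2, 0]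

theorem fv8_0_m2_N_a : keyChk fv8_0_m2_N (0) (-2) false = true := by decide +kernel

theorem fv8_0_m2_N_b : keyChk (gL fv8_0_m2_N) (-2) (0) false = true := by decide +kernel

theorem conn8_0_m2_N : Conn (0) (-2) false (-2) (0) false :=
  (conn_edge fv8_0_m2_N fv8_0_m2_N_a fv8_0_m2_N_b).trans (vecOf (gL fv8_0_m2_N)) (inKey_of_chk fv8_0_m2_N_b) conn8_m2_0_N

/-- Fusion vector joining two classes. -/
def fv8_1_m3_N : List ℤ := [-3, 1, -1, -1, -1, -1, -1, -1, -1, -1, -1, -1, -1, 1, -1, 1, -1, 1, 1, 1, -1, -1, -1, 1]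

theorem fv8_1_m3_N_a : keyChk fv8_1_m3_N (1) (-3) false = true := by decide +kernel

theorem fv8_1_m3_N_b : keyChk (gL fv8_1_m3_N) (-2) (0) false = true := by decide +kernel

theorem conn8_1_m3_N : Conn (1) (-3) false (-2) (0) false :=
  (conn_edge fv8_1_m3_N fv8_1_m3_N_a fv8_1_m3_N_b).trans (vecOf (gL fv8_1_m3_N)) (inKey_of_chk fv8_1_m3_N_b) conn8_m2_0_N

/-! ### Transitivity of the stabiliser of `leechU` on the minimal vectors with a given inner product -/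

theorem toBase16 {w : GolayPt → ℤ} (hw : w ∈ leechLattice) (hn : sqNorm w = 32)
    (hd : dotInt vecU w = -16) : SRel w (vecOf rep16) := by
  rw [dot_vecU] at hd
  have hr := inKey_of_chk rep16_key
  rcases key_vals hw hn with ⟨ho, hk, ha, hb, hab⟩ | ⟨hk, ha, hb⟩ | ⟨hk, he, ha, hb⟩
  · have hv : (w none = -3 ∧ w (some 0) = -1) ∨ (w none = -1 ∧ w (some 0) = -3) := by omega
    rcases hv with ⟨e1, e2⟩ | ⟨e1, e2⟩
    · exact conn16_m3_m1_N w _ ⟨hw, hn, e1, e2, iff_of_false hk (by decide)⟩ hr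
    · exact conn16_m1_m3_N w _ ⟨hw, hn, e1, e2, iff_of_false hk (by decide)⟩ hr
  · have hv : (w none = -4 ∧ w (some 0) = 0) ∨ (w none = 0 ∧ w (some 0) = -4) := by omega
    rcases hv with ⟨e1, e2⟩ | ⟨e1, e2⟩
    · exact conn16_m4_0_A w _ ⟨hw, hn, e1, e2, iff_of_true hk rfl⟩ hr
    · exact conn16_0_m4_A w _ ⟨hw, hn, e1, e2, iff_of_true hk rfl⟩ hr
  · have hv : w none = -2 ∧ w (some 0) = -2 := by omega
    exact conn16_m2_m2_N w _ ⟨hw, hn, hv.1, hv.2, iff_of_false hk (by decide)⟩ hr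

theorem trans16 {w w' : GolayPt → ℤ} (hw : w ∈ leechLattice) (hn : sqNorm w = 32)
    (hd : dotInt vecU w = -16) (hw' : w' ∈ leechLattice) (hn' : sqNorm w' = 32)
    (hd' : dotInt vecU w' = -16) : SRel w w' :=
  (toBase16 hw hn hd).trans (toBase16 hw' hn' hd').symm

theorem toBase0 {w : GolayPt → ℤ} (hw : w ∈ leechLattice) (hn : sqNorm w = 32)
    (hd : dotInt vecU w = 0) : SRel w (vecOf rep0) := by
  rw [dot_vecU] at hd
  have hr := inKey_of_chk rep0_key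
  rcases key_vals hw hn with ⟨ho, hk, ha, hb, hab⟩ | ⟨hk, ha, hb⟩ | ⟨hk, he, ha, hb⟩
  · have hv : (w none = -1 ∧ w (some 0) = 1) ∨ (w none = 1 ∧ w (some 0) = -1) := by omega
    rcases hv with ⟨e1, e2⟩ | ⟨e1, e2⟩
    · exact conn0_m1_1_N w _ ⟨hw, hn, e1, e2, iff_of_false hk (by decide)⟩ hr
    · exact conn0_1_m1_N w _ ⟨hw, hn, e1, e2, iff_of_false hk (by decide)⟩ hr
  · have hv : (w none = 4 ∧ w (some 0) = -4) ∨ (w none = 0 ∧ w (some 0) = 0) ∨ (w none = -4 ∧ w (some 0) = 4) := by omega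
    rcases hv with ⟨e1, e2⟩ | ⟨e1, e2⟩ | ⟨e1, e2⟩
    · exact conn0_4_m4_A w _ ⟨hw, hn, e1, e2, iff_of_true hk rfl⟩ hr
    · exact conn0_0_0_A w _ ⟨hw, hn, e1, e2, iff_of_true hk rfl⟩ hr
    · exact conn0_m4_4_A w _ ⟨hw, hn, e1, e2, iff_of_true hk rfl⟩ hr
  · have hv : (w none = -2 ∧ w (some 0) = 2) ∨ (w none = 0 ∧ w (some 0) = 0) ∨ (w none = 2 ∧ w (some 0) = -2) := by omega
    rcases hv with ⟨e1, e2⟩ | ⟨e1, e2⟩ | ⟨e1, e2⟩
    · exact conn0_m2_2_N w _ ⟨hw, hn, e1, e2, iff_of_false hk (by decide)⟩ hr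
    · exact conn0_0_0_N w _ ⟨hw, hn, e1, e2, iff_of_false hk (by decide)⟩ hr
    · exact conn0_2_m2_N w _ ⟨hw, hn, e1, e2, iff_of_false hk (by decide)⟩ hr

theorem trans0 {w w' : GolayPt → ℤ} (hw : w ∈ leechLattice) (hn : sqNorm w = 32)
    (hd : dotInt vecU w = 0) (hw' : w' ∈ leechLattice) (hn' : sqNorm w' = 32)
    (hd' : dotInt vecU w' = 0) : SRel w w' :=
  (toBase0 hw hn hd).trans (toBase0 hw' hn' hd').symm

theorem toBase8 {w : GolayPt → ℤ} (hw : w ∈ leechLattice) (hn : sqNorm w = 32)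
    (hd : dotInt vecU w = -8) : SRel w (vecOf rep8) := by
  rw [dot_vecU] at hd
  have hr := inKey_of_chk rep8_key
  rcases key_vals hw hn with ⟨ho, hk, ha, hb, hab⟩ | ⟨hk, ha, hb⟩ | ⟨hk, he, ha, hb⟩
  · have hv : (w none = -3 ∧ w (some 0) = 1) ∨ (w none = -1 ∧ w (some 0) = -1) ∨ (w none = 1 ∧ w (some 0) = -3) := by omega
    rcases hv with ⟨e1, e2⟩ | ⟨e1, e2⟩ | ⟨e1, e2⟩
    · exact conn8_m3_1_N w _ ⟨hw, hn, e1, e2, iff_of_false hk (by decide)⟩ hr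
    · exact conn8_m1_m1_N w _ ⟨hw, hn, e1, e2, iff_of_false hk (by decide)⟩ hr
    · exact conn8_1_m3_N w _ ⟨hw, hn, e1, e2, iff_of_false hk (by decide)⟩ hr
  · exfalso; omega
  · have hv : (w none = -2 ∧ w (some 0) = 0) ∨ (w none = 0 ∧ w (some 0) = -2) := by omega
    rcases hv with ⟨e1, e2⟩ | ⟨e1, e2⟩
    · exact conn8_m2_0_N w _ ⟨hw, hn, e1, e2, iff_of_false hk (by decide)⟩ hr
    · exact conn8_0_m2_N w _ ⟨hw, hn, e1, e2, iff_of_false hk (by decide)⟩ hr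

theorem trans8 {w w' : GolayPt → ℤ} (hw : w ∈ leechLattice) (hn : sqNorm w = 32)
    (hd : dotInt vecU w = -8) (hw' : w' ∈ leechLattice) (hn' : sqNorm w' = 32)
    (hd' : dotInt vecU w' = -8) : SRel w w' :=
  (toBase8 hw hn hd).trans (toBase8 hw' hn' hd').symm

end Cfsg.Agent.Lib.Helper92
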