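import Cfsg.Agent.Lib.Helper92.LeechRank5
import Cfsg.Agent.Lib.Helper92.LeechHSSimple

set_option autoImplicit false

open scoped Pointwise

namespace Cfsg.Agent.Lib.Helper92

open Cfsg Cfsg.Spor Cfsg.Agent.Lib.Helper7

/-! ### Simplicity of the stabiliser of a vector of type 3 -/

/-- The inner product with a point, as the class function. -/
def dotC (x y : leechLattice) : ℤ := dotInt (x : GolayPt → ℤ) (y : GolayPt → ℤ)

theorem eq_of_dot_eq {x y : leechLattice} {n : ℤ} (hx : sqNorm (x : GolayPt → ℤ) = n)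
    (hy : sqNorm (y : GolayPt → ℤ) = n)
    (h : dotInt (x : GolayPt → ℤ) (y : GolayPt → ℤ) = n) : y = x := by
  have h1 : sqNorm ((x : GolayPt → ℤ) - (y : GolayPt → ℤ)) = 0 := by
    rw [sqNorm_sub, hx, hy, h]
    ring
  have h2 := sqNorm_eq_zero h1
  exact Subtype.ext (sub_eq_zero.mp h2).symm

/-- Lengths of the classes. -/
def co3M (d : ℤ) : ℕ :=
  if d = 32 then 1 else if d = -8 then 352 else if d = 16 then 1100 else if d = 0 then 4125
  else 5600

theorem co3_prim : ∀ I ∈ ({32, -8, 16, 0, 8} : Finset ℤ).powerset, (32 : ℤ) ∈ I →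
    (∑ d ∈ I, co3M d) ∣ 11178 → I = {32} ∨ I = {32, -8, 16, 0, 8} := by decide +kernel

theorem co3_num : ∀ I ∈ (({32, -8, 16, 0, 8} : Finset ℤ).erase 32).powerset,
    ∀ J ∈ (({32, -8, 16, 0, 8} : Finset ℤ).erase 32).powerset, I.Nonempty → J.Nonempty →
    Disjoint I J → 23 ∣ 1 + ∑ d ∈ I, co3M d → 2 ∣ 1 + ∑ d ∈ J, co3M d → False := by
  decide +kernel

/-- The classes of the points seen from a point: lengths and transitivity. -/
theorem co3_classes (u x : leechLattice) (hu : sqNorm (u : GolayPt → ℤ) = 48)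
    (hx : x ∈ {x : leechLattice | sqNorm (x : GolayPt → ℤ) = 32 ∧
      dotInt (u : GolayPt → ℤ) (x : GolayPt → ℤ) = -16}) :
    ∀ d ∈ ({32, -8, 16, 0, 8} : Finset ℤ), d ≠ 32 →
      {y : leechLattice | y ∈ {x : leechLattice | sqNorm (x : GolayPt → ℤ) = 32 ∧
        dotInt (u : GolayPt → ℤ) (x : GolayPt → ℤ) = -16} ∧
        dotInt (x : GolayPt → ℤ) (y : GolayPt → ℤ) = d}.ncard = co3M d ∧
      ∀ y ∈ {y : leechLattice | y ∈ {x : leechLattice | sqNorm (x : GolayPt → ℤ) = 32 ∧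
        dotInt (u : GolayPt → ℤ) (x : GolayPt → ℤ) = -16} ∧
        dotInt (x : GolayPt → ℤ) (y : GolayPt → ℤ) = d},
      ∀ y' ∈ {y : leechLattice | y ∈ {x : leechLattice | sqNorm (x : GolayPt → ℤ) = 32 ∧
        dotInt (u : GolayPt → ℤ) (x : GolayPt → ℤ) = -16} ∧
        dotInt (x : GolayPt → ℤ) (y : GolayPt → ℤ) = d},
      ∃ g : Co0, g • u = u ∧ g • x = x ∧ g • y = y' := by
  obtain ⟨g₀, hg₀⟩ := exists_to_u0 u hu
  have hx0 : g₀ • x ∈ XSet co3aconds := by
    rw [show co3aconds = [(u0L, -16)] from rfl, xset_one, dot_smul_of_eq hg₀, co0_smul_sqNorm]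
    exact hx
  obtain ⟨k, hk, e2⟩ := to_std co3a_main g₀ x hx0
  have e1 := fix_inv_mul hk (show u0L ∈ co3aB from List.mem_cons_self) hg₀
  generalize k⁻¹ * g₀ = g₁ at e1 e2
  have e2' : ((g₁ • x : leechLattice) : GolayPt → ℤ) = vecOf x0L := e2
  have conv : ∀ (d : ℤ) (N : ℕ),
      ({y : leechLattice | y ∈ {x : leechLattice | sqNorm (x : GolayPt → ℤ) = 32 ∧
        dotInt (u : GolayPt → ℤ) (x : GolayPt → ℤ) = -16} ∧
        dotInt (x : GolayPt → ℤ) (y : GolayPt → ℤ) = d}.ncard = N ∧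
      ∀ y ∈ {y : leechLattice | y ∈ {x : leechLattice | sqNorm (x : GolayPt → ℤ) = 32 ∧
        dotInt (u : GolayPt → ℤ) (x : GolayPt → ℤ) = -16} ∧
        dotInt (x : GolayPt → ℤ) (y : GolayPt → ℤ) = d},
      MulAction.orbit ↥(MulAction.stabilizer ↥Co0 u ⊓ MulAction.stabilizer ↥Co0 x) y =
        {y : leechLattice | y ∈ {x : leechLattice | sqNorm (x : GolayPt → ℤ) = 32 ∧
          dotInt (u : GolayPt → ℤ) (x : GolayPt → ℤ) = -16} ∧
          dotInt (x : GolayPt → ℤ) (y : GolayPt → ℤ) = d}) →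
      ({y : leechLattice | y ∈ {x : leechLattice | sqNorm (x : GolayPt → ℤ) = 32 ∧
        dotInt (u : GolayPt → ℤ) (x : GolayPt → ℤ) = -16} ∧
        dotInt (x : GolayPt → ℤ) (y : GolayPt → ℤ) = d}.ncard = N ∧
      ∀ y ∈ {y : leechLattice | y ∈ {x : leechLattice | sqNorm (x : GolayPt → ℤ) = 32 ∧
        dotInt (u : GolayPt → ℤ) (x : GolayPt → ℤ) = -16} ∧
        dotInt (x : GolayPt → ℤ) (y : GolayPt → ℤ) = d},
      ∀ y' ∈ {y : leechLattice | y ∈ {x : leechLattice | sqNorm (x : GolayPt → ℤ) = 32 ∧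
        dotInt (u : GolayPt → ℤ) (x : GolayPt → ℤ) = -16} ∧
        dotInt (x : GolayPt → ℤ) (y : GolayPt → ℤ) = d},
      ∃ g : Co0, g • u = u ∧ g • x = x ∧ g • y = y') := by
    rintro d N ⟨n, o⟩
    refine ⟨n, fun y hy y' hy' => ?_⟩
    have h := o y hy
    rw [← h] at hy'
    obtain ⟨g, hg⟩ := hy'
    exact ⟨g.1, (Subgroup.mem_inf.mp g.2).1, (Subgroup.mem_inf.mp g.2).2, hg⟩
  intro d hd hne
  simp only [Finset.mem_insert, Finset.mem_singleton] at hd
  rcases hd with rfl | rfl | rfl | rfl | rfl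
  · exact absurd rfl hne
  · exact conv _ _ (rank5_aux e1 e2' (-8) r5d_main (B := r5dB) List.mem_cons_self
      (List.mem_cons_of_mem _ List.mem_cons_self))
  · exact conv _ _ (rank5_aux e1 e2' 16 r5a_main (B := r5aB) List.mem_cons_self
      (List.mem_cons_of_mem _ List.mem_cons_self))
  · exact conv _ _ (rank5_aux e1 e2' 0 r5c_main (B := r5cB) List.mem_cons_self
      (List.mem_cons_of_mem _ List.mem_cons_self))
  · exact conv _ _ (rank5_aux e1 e2' 8 r5b_main (B := r5bB) List.mem_cons_self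
      (List.mem_cons_of_mem _ List.mem_cons_self))

/-- The stabiliser of a vector of type 3 is simple of order `495766656000`. -/
theorem co3_isCo3 (u : leechLattice) (hu : sqNorm (u : GolayPt → ℤ) = 48) :
    IsSimpleGroup ↥(MulAction.stabilizer Co0 u) ∧
    Nat.card ↥(MulAction.stabilizer Co0 u) = 495766656000 := by
  obtain ⟨nX, tX⟩ := co3_orbit u hu
  obtain ⟨x, hx⟩ := Set.nonempty_of_ncard_ne_zero (s := {x : leechLattice |
    sqNorm (x : GolayPt → ℤ) = 32 ∧ dotInt (u : GolayPt → ℤ) (x : GolayPt → ℤ) = -16})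
    (by rw [nX]; norm_num)
  have hcl := co3_classes u x hu hx
  have hxx : dotC x x = 32 := by
    unfold dotC
    rw [dotInt_self]
    exact hx.1
  have D : ColData ↥(MulAction.stabilizer Co0 u)
      {x : leechLattice | sqNorm (x : GolayPt → ℤ) = 32 ∧
        dotInt (u : GolayPt → ℤ) (x : GolayPt → ℤ) = -16} x (dotC x) {32, -8, 16, 0, 8}
      co3M := by
    apply ColData.of_card' hx (Set.finite_of_ncard_ne_zero (by rw [nX]; norm_num))
    · intro g y hy
      have h1 : g.1 • u = u := g.2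
      exact ⟨(co0_smul_sqNorm g.1 y).trans hy.1, (dot_smul_fix h1 y).trans hy.2⟩
    · intro y hy
      obtain ⟨g, h1, h2⟩ := tX x hx y hy
      exact ⟨⟨g, h1⟩, h2⟩
    · intro g hg y _
      exact dot_smul_fix (show g.1 • x = x from hg) y
    · intro d hd hne y hy y' hy' e e'
      rw [hxx] at hne
      obtain ⟨g, h1, h2, h3⟩ := (hcl d hd hne).2 y ⟨hy, e⟩ y' ⟨hy', e'⟩
      exact ⟨⟨g, h1⟩, h2, h3⟩
    · intro d hd
      by_cases h32 : d = 32
      · subst h32
        have e : {y | y ∈ {x : leechLattice | sqNorm (x : GolayPt → ℤ) = 32 ∧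
            dotInt (u : GolayPt → ℤ) (x : GolayPt → ℤ) = -16} ∧ dotC x y = 32} = {x} := by
          ext y
          constructor
          · rintro ⟨h1, h2⟩
            exact eq_of_dot_eq hx.1 h1.1 h2
          · intro h
            rw [Set.mem_singleton_iff.mp h]
            exact ⟨hx, hxx⟩
        rw [e, Set.ncard_singleton]
        rfl
      · exact (hcl d hd h32).1
    · intro y hy h
      exact eq_of_dot_eq hx.1 hy.1 (h.trans hxx)
    · rw [nX]
      rfl
  have hKx : IsSimpleGroup ↥(MulAction.stabilizer ↥(MulAction.stabilizer Co0 u) x) ∧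
      Nat.card ↥(MulAction.stabilizer ↥(MulAction.stabilizer Co0 u) x) = 44352000 := by
    have hw : sqNorm ((-(u + x) : leechLattice) : GolayPt → ℤ) = 48 := by
      show sqNorm (-((u : GolayPt → ℤ) + (x : GolayPt → ℤ))) = 48
      rw [sqNorm_neg', sqNorm_add, hu, hx.1, hx.2]
      norm_num
    have huw : dotInt (u : GolayPt → ℤ) ((-(u + x) : leechLattice) : GolayPt → ℤ) = -32 := by
      show dotInt (u : GolayPt → ℤ) (-((u : GolayPt → ℤ) + (x : GolayPt → ℤ))) = -32
      rw [dotInt_neg_right, dotInt_add_right, dotInt_self, hu, hx.2]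
      norm_num
    have heq : MulAction.stabilizer Co0 u ⊓ MulAction.stabilizer Co0 x =
        MulAction.stabilizer Co0 u ⊓ MulAction.stabilizer Co0 (-(u + x)) := by
      ext g
      rw [Subgroup.mem_inf, Subgroup.mem_inf, MulAction.mem_stabilizer_iff,
        MulAction.mem_stabilizer_iff, MulAction.mem_stabilizer_iff]
      constructor
      · rintro ⟨h1, h2⟩
        exact ⟨h1, by rw [co0_smul_neg, co0_smul_add, h1, h2]⟩
      · rintro ⟨h1, h2⟩
        refine ⟨h1, ?_⟩
        rw [co0_smul_neg, co0_smul_add, h1] at h2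
        exact add_left_cancel (neg_injective h2)
    have hs := hs_isHS u (-(u + x)) hu hw huw
    rw [← heq] at hs
    have e' := stabSubEquiv (MulAction.stabilizer Co0 u) x
    exact ⟨e'.isSimpleGroup_congr.mpr hs.1, by rw [Nat.card_congr e'.toEquiv, hs.2]⟩
  have hp23 : Fact (Nat.Prime 23) := ⟨by norm_num⟩
  have hp2 : Fact (Nat.Prime 2) := ⟨by norm_num⟩
  refine ⟨D.simple ?_ hKx.1 (D.move (-8) (by simp) (by decide)) 23 2 (by norm_num)
    (by rw [nX]; norm_num) (by rw [nX]; norm_num) ?_, ?_⟩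
  · intro I hI h0 hdvd
    rw [nX] at hdvd
    rw [hxx] at h0 ⊢
    exact co3_prim I (Finset.mem_powerset.mpr hI) h0 hdvd
  · intro I J hI hJ
    rw [hxx] at hI hJ
    exact co3_num I (Finset.mem_powerset.mpr hI) J (Finset.mem_powerset.mpr hJ)
  · rw [D.card, nX, hKx.2]

end Cfsg.Agent.Lib.Helper92
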