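import Cfsg.Agent.Lib.Helper92.LeechMcL2
import Cfsg.Agent.Lib.Helper92.LeechCo3Simple

set_option autoImplicit false

open scoped Pointwise

namespace Cfsg.Agent.Lib.Helper92

open Cfsg Cfsg.Spor Cfsg.Agent.Lib.Helper7

/-! ### Simplicity of the stabiliser of two minimal vectors with inner product `-8` -/

/-- Lengths of the classes. -/
def mclM (d : ℤ) : ℕ :=
  if d = 32 then 1 else if d = 0 then 330 else if d = 16 then 462 else 1232

theorem mcl_prim : ∀ I ∈ ({32, 0, 16, 8} : Finset ℤ).powerset, (32 : ℤ) ∈ I →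
    (∑ d ∈ I, mclM d) ∣ 2025 → I = {32} ∨ I = {32, 0, 16, 8} := by decide +kernel

theorem mcl_num : ∀ I ∈ (({32, 0, 16, 8} : Finset ℤ).erase 32).powerset,
    ∀ J ∈ (({32, 0, 16, 8} : Finset ℤ).erase 32).powerset, I.Nonempty → J.Nonempty →
    Disjoint I J → 3 ∣ 1 + ∑ d ∈ I, mclM d → 5 ∣ 1 + ∑ d ∈ J, mclM d → False := by
  decide +kernel

/-- The opposite of the vector `x0L`. -/
def nxL : List ℤ := [-4, 0, 0, 0, 0, 0, 0, 0, 0, 0, 0, 0, 0, 0, 0, 0, 0, 0, 0, 0, 0, 0, 0, 4]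

theorem nxL_mem : vecOf nxL ∈ leechLattice := leechB_sound (by decide +kernel)

theorem v0L_lin : (⟨vecOf v0L, v0L_mem⟩ : leechLattice) =
    ⟨vecOf bNL, bNL_mem⟩ + ⟨vecOf aNL, aNL_mem⟩ - ⟨vecOf nxL, nxL_mem⟩ := by
  apply Subtype.ext
  show vecOf v0L = vecOf bNL + vecOf aNL - vecOf nxL
  funext p
  rw [← pt_idx p, Pi.sub_apply, Pi.add_apply, vecOf_pt _ (idx_lt p), vecOf_pt _ (idx_lt p),
    vecOf_pt _ (idx_lt p), vecOf_pt _ (idx_lt p)]
  have key : ∀ j < 24, v0L.getD j 0 = bNL.getD j 0 + aNL.getD j 0 - nxL.getD j 0 := by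
    decide +kernel
  exact key _ (idx_lt p)

theorem w0L_lin : (⟨vecOf w0L, w0L_mem⟩ : leechLattice) =
    -(⟨vecOf bNL, bNL_mem⟩ + ⟨vecOf aNL, aNL_mem⟩) := by
  apply Subtype.ext
  show vecOf w0L = -(vecOf bNL + vecOf aNL)
  funext p
  rw [← pt_idx p, Pi.neg_apply, Pi.add_apply, vecOf_pt _ (idx_lt p), vecOf_pt _ (idx_lt p),
    vecOf_pt _ (idx_lt p)]
  have key : ∀ j < 24, w0L.getD j 0 = -(bNL.getD j 0 + aNL.getD j 0) := by
    decide +kernel
  exact key _ (idx_lt p)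

theorem a0L_lin : (⟨vecOf a0L, a0L_mem⟩ : leechLattice) = ⟨vecOf aNL, aNL_mem⟩ :=
  Subtype.ext rfl

/-- The stabiliser of the standard triple, with other fixed vectors. -/
theorem mem_stdK' (g : Co0) : g ∈ stdK ↔
    g • (⟨vecOf aNL, aNL_mem⟩ : leechLattice) = ⟨vecOf aNL, aNL_mem⟩ ∧
    g • (⟨vecOf bNL, bNL_mem⟩ : leechLattice) = ⟨vecOf bNL, bNL_mem⟩ ∧
    g • (⟨vecOf nxL, nxL_mem⟩ : leechLattice) = ⟨vecOf nxL, nxL_mem⟩ := by
  rw [mem_stdK, v0L_lin, w0L_lin, a0L_lin]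
  constructor
  · rintro ⟨h1, h2, h3⟩
    rw [co0_smul_neg, co0_smul_add, h3, neg_inj, add_left_inj] at h2
    rw [co0_smul_sub, co0_smul_add, h2, h3, sub_right_inj] at h1
    exact ⟨h3, h2, h1⟩
  · rintro ⟨h1, h2, h3⟩
    refine ⟨?_, ?_, h1⟩
    · rw [co0_smul_sub, co0_smul_add, h1, h2, h3]
    · rw [co0_smul_neg, co0_smul_add, h1, h2]

/-- The classes of the points seen from a point: lengths and transitivity. -/
theorem mcl_classes (v w x : leechLattice) (hv : sqNorm (v : GolayPt → ℤ) = 32)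
    (hw : sqNorm (w : GolayPt → ℤ) = 32)
    (hvw : dotInt (v : GolayPt → ℤ) (w : GolayPt → ℤ) = -8)
    (hx : x ∈ {x : leechLattice | sqNorm (x : GolayPt → ℤ) = 32 ∧
        dotInt (v : GolayPt → ℤ) (x : GolayPt → ℤ) = 0 ∧
        dotInt (w : GolayPt → ℤ) (x : GolayPt → ℤ) = 16}) :
    ∀ d ∈ ({32, 0, 16, 8} : Finset ℤ), d ≠ 32 →
      {y : leechLattice | y ∈ {x : leechLattice | sqNorm (x : GolayPt → ℤ) = 32 ∧
        dotInt (v : GolayPt → ℤ) (x : GolayPt → ℤ) = 0 ∧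
        dotInt (w : GolayPt → ℤ) (x : GolayPt → ℤ) = 16} ∧
        dotInt (x : GolayPt → ℤ) (y : GolayPt → ℤ) = d}.ncard = mclM d ∧
      ∀ y ∈ {y : leechLattice | y ∈ {x : leechLattice | sqNorm (x : GolayPt → ℤ) = 32 ∧
        dotInt (v : GolayPt → ℤ) (x : GolayPt → ℤ) = 0 ∧
        dotInt (w : GolayPt → ℤ) (x : GolayPt → ℤ) = 16} ∧
        dotInt (x : GolayPt → ℤ) (y : GolayPt → ℤ) = d},
      ∀ y' ∈ {y : leechLattice | y ∈ {x : leechLattice | sqNorm (x : GolayPt → ℤ) = 32 ∧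
        dotInt (v : GolayPt → ℤ) (x : GolayPt → ℤ) = 0 ∧
        dotInt (w : GolayPt → ℤ) (x : GolayPt → ℤ) = 16} ∧
        dotInt (x : GolayPt → ℤ) (y : GolayPt → ℤ) = d},
      ∃ g : Co0, g • v = v ∧ g • w = w ∧ g • x = x ∧ g • y = y' := by
  obtain ⟨g₀, hg1, hg2⟩ := exists_to_ba v w hv hw hvw
  have hS : ∀ x : leechLattice, x ∈ {x : leechLattice | sqNorm (x : GolayPt → ℤ) = 32 ∧
      dotInt (v : GolayPt → ℤ) (x : GolayPt → ℤ) = 0 ∧
      dotInt (w : GolayPt → ℤ) (x : GolayPt → ℤ) = 16} ↔ g₀ • x ∈ XSet mclbconds := by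
    intro x
    rw [show mclbconds = [(bNL, 0), (aNL, 16)] from rfl, xset_two, dot_smul_of_eq hg1,
      dot_smul_of_eq hg2, co0_smul_sqNorm]
    exact Iff.rfl
  have mb0 : bNL ∈ mclbB := List.mem_cons_self
  have ma0 : aNL ∈ mclbB := List.mem_cons_of_mem _ List.mem_cons_self
  obtain ⟨k, hk, e3⟩ := to_std mclb_main g₀ x ((hS x).mp hx)
  have e1 := fix_inv_mul hk mb0 hg1
  have e2 := fix_inv_mul hk ma0 hg2
  generalize k⁻¹ * g₀ = g₁ at e1 e2 e3
  have e3' : ((g₁ • x : leechLattice) : GolayPt → ℤ) = vecOf yNL := e3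
  have conv : ∀ (d : ℤ) (N : ℕ),
      ({y : leechLattice | y ∈ {x : leechLattice | sqNorm (x : GolayPt → ℤ) = 32 ∧
        dotInt (v : GolayPt → ℤ) (x : GolayPt → ℤ) = 0 ∧
        dotInt (w : GolayPt → ℤ) (x : GolayPt → ℤ) = 16} ∧
        dotInt (x : GolayPt → ℤ) (y : GolayPt → ℤ) = d}.ncard = N ∧
      ∀ y ∈ {y : leechLattice | y ∈ {x : leechLattice | sqNorm (x : GolayPt → ℤ) = 32 ∧
        dotInt (v : GolayPt → ℤ) (x : GolayPt → ℤ) = 0 ∧
        dotInt (w : GolayPt → ℤ) (x : GolayPt → ℤ) = 16} ∧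
        dotInt (x : GolayPt → ℤ) (y : GolayPt → ℤ) = d},
      MulAction.orbit ↥(MulAction.stabilizer ↥Co0 v ⊓ MulAction.stabilizer ↥Co0 w ⊓
        MulAction.stabilizer ↥Co0 x) y =
        {y : leechLattice | y ∈ {x : leechLattice | sqNorm (x : GolayPt → ℤ) = 32 ∧
          dotInt (v : GolayPt → ℤ) (x : GolayPt → ℤ) = 0 ∧
          dotInt (w : GolayPt → ℤ) (x : GolayPt → ℤ) = 16} ∧
          dotInt (x : GolayPt → ℤ) (y : GolayPt → ℤ) = d}) →
      ({y : leechLattice | y ∈ {x : leechLattice | sqNorm (x : GolayPt → ℤ) = 32 ∧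
        dotInt (v : GolayPt → ℤ) (x : GolayPt → ℤ) = 0 ∧
        dotInt (w : GolayPt → ℤ) (x : GolayPt → ℤ) = 16} ∧
        dotInt (x : GolayPt → ℤ) (y : GolayPt → ℤ) = d}.ncard = N ∧
      ∀ y ∈ {y : leechLattice | y ∈ {x : leechLattice | sqNorm (x : GolayPt → ℤ) = 32 ∧
        dotInt (v : GolayPt → ℤ) (x : GolayPt → ℤ) = 0 ∧
        dotInt (w : GolayPt → ℤ) (x : GolayPt → ℤ) = 16} ∧
        dotInt (x : GolayPt → ℤ) (y : GolayPt → ℤ) = d},
      ∀ y' ∈ {y : leechLattice | y ∈ {x : leechLattice | sqNorm (x : GolayPt → ℤ) = 32 ∧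
        dotInt (v : GolayPt → ℤ) (x : GolayPt → ℤ) = 0 ∧
        dotInt (w : GolayPt → ℤ) (x : GolayPt → ℤ) = 16} ∧
        dotInt (x : GolayPt → ℤ) (y : GolayPt → ℤ) = d},
      ∃ g : Co0, g • v = v ∧ g • w = w ∧ g • x = x ∧ g • y = y') := by
    rintro d N ⟨n, o⟩
    refine ⟨n, fun y hy y' hy' => ?_⟩
    have h := o y hy
    rw [← h] at hy'
    obtain ⟨g, hg⟩ := hy'
    exact ⟨g.1, (Subgroup.mem_inf.mp (Subgroup.mem_inf.mp g.2).1).1,
      (Subgroup.mem_inf.mp (Subgroup.mem_inf.mp g.2).1).2, (Subgroup.mem_inf.mp g.2).2, hg⟩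
  intro d hd hne
  simp only [Finset.mem_insert, Finset.mem_singleton] at hd
  rcases hd with rfl | rfl | rfl | rfl
  · exact absurd rfl hne
  · exact conv _ _ (m22p_aux e1 e2 e3' 0 m22pa_main (B := m22paB) List.mem_cons_self
      (List.mem_cons_of_mem _ List.mem_cons_self)
      (List.mem_cons_of_mem _ (List.mem_cons_of_mem _ List.mem_cons_self)))
  · exact conv _ _ (m22p_aux e1 e2 e3' 16 m22pb_main (B := m22pbB) List.mem_cons_self
      (List.mem_cons_of_mem _ List.mem_cons_self)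
      (List.mem_cons_of_mem _ (List.mem_cons_of_mem _ List.mem_cons_self)))
  · exact conv _ _ (m22p_aux e1 e2 e3' 8 m22pc_main (B := m22pcB) List.mem_cons_self
      (List.mem_cons_of_mem _ List.mem_cons_self)
      (List.mem_cons_of_mem _ (List.mem_cons_of_mem _ List.mem_cons_self)))

/-- The stabiliser of a point is the stabiliser of two points in `M24`. -/
theorem mcl_point (v w x : leechLattice) (hv : sqNorm (v : GolayPt → ℤ) = 32)
    (hw : sqNorm (w : GolayPt → ℤ) = 32)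
    (hvw : dotInt (v : GolayPt → ℤ) (w : GolayPt → ℤ) = -8)
    (hx : x ∈ {x : leechLattice | sqNorm (x : GolayPt → ℤ) = 32 ∧
        dotInt (v : GolayPt → ℤ) (x : GolayPt → ℤ) = 0 ∧
        dotInt (w : GolayPt → ℤ) (x : GolayPt → ℤ) = 16}) :
    Nonempty (↥(MulAction.stabilizer Co0 v ⊓ MulAction.stabilizer Co0 w ⊓
      MulAction.stabilizer Co0 x) ≃* ↥stdK) := by
  have hA : sqNorm (vecOf aNL) = 32 := by
    rw [sqNorm_vecOf_dotL (by decide)]
    decide +kernel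
  have hB : sqNorm (vecOf bNL) = 32 := by
    rw [sqNorm_vecOf_dotL (by decide)]
    decide +kernel
  have hAB : dotInt (vecOf aNL) (vecOf bNL) = -8 := by
    rw [dotL_vecOf (by decide) (by decide)]
    decide +kernel
  have hN : sqNorm (vecOf nxL) = 32 := by
    rw [sqNorm_vecOf_dotL (by decide)]
    decide +kernel
  have hAN : dotInt (vecOf aNL) (vecOf nxL) = 0 := by
    rw [dotL_vecOf (by decide) (by decide)]
    decide +kernel
  have hBN : dotInt (vecOf bNL) (vecOf nxL) = 16 := by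
    rw [dotL_vecOf (by decide) (by decide)]
    decide +kernel
  obtain ⟨g₀, hgB, hgA⟩ := exists_to_ba w v hw hv (by rw [dotInt_comm]; exact hvw)
  obtain ⟨-, tr, -⟩ := mcl_2025 ⟨vecOf aNL, aNL_mem⟩ ⟨vecOf bNL, bNL_mem⟩ hA hB hAB
  obtain ⟨k, hkA, hkB, hkx⟩ := tr (g₀ • x)
    ⟨(co0_smul_sqNorm g₀ x).trans hx.1, (dot_smul_of_eq hgA x).trans hx.2.1,
      (dot_smul_of_eq hgB x).trans hx.2.2⟩ ⟨vecOf nxL, nxL_mem⟩ ⟨hN, hAN, hBN⟩
  have E1 : (k * g₀) • v = ⟨vecOf aNL, aNL_mem⟩ := by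
    rw [mul_smul, show g₀ • v = ⟨vecOf aNL, aNL_mem⟩ from Subtype.ext hgA, hkA]
  have E2 : (k * g₀) • w = ⟨vecOf bNL, bNL_mem⟩ := by
    rw [mul_smul, show g₀ • w = ⟨vecOf bNL, bNL_mem⟩ from Subtype.ext hgB, hkB]
  have E3 : (k * g₀) • x = ⟨vecOf nxL, nxL_mem⟩ := by
    rw [mul_smul, hkx]
  exact ⟨conjEquiv (k * g₀) (fun k' => by
    rw [mem_stdK', conj_smul_iff E1, conj_smul_iff E2, conj_smul_iff E3, Subgroup.mem_inf,
      Subgroup.mem_inf, MulAction.mem_stabilizer_iff, MulAction.mem_stabilizer_iff,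
      MulAction.mem_stabilizer_iff, and_assoc])⟩

/-- The stabiliser of two minimal vectors with inner product `-8` is simple of order
`898128000`. -/
theorem mcl_isMcL (v w : leechLattice) (hv : sqNorm (v : GolayPt → ℤ) = 32)
    (hw : sqNorm (w : GolayPt → ℤ) = 32)
    (hvw : dotInt (v : GolayPt → ℤ) (w : GolayPt → ℤ) = -8) :
    IsSimpleGroup ↥(MulAction.stabilizer Co0 v ⊓ MulAction.stabilizer Co0 w) ∧
    Nat.card ↥(MulAction.stabilizer Co0 v ⊓ MulAction.stabilizer Co0 w) = 898128000 := by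
  obtain ⟨nX, tX, -⟩ := mcl_2025 v w hv hw hvw
  obtain ⟨x, hx⟩ := Set.nonempty_of_ncard_ne_zero (s := {x : leechLattice |
    sqNorm (x : GolayPt → ℤ) = 32 ∧ dotInt (v : GolayPt → ℤ) (x : GolayPt → ℤ) = 0 ∧
    dotInt (w : GolayPt → ℤ) (x : GolayPt → ℤ) = 16}) (by rw [nX]; norm_num)
  have hcl := mcl_classes v w x hv hw hvw hx
  have hxx : dotC x x = 32 := by
    unfold dotC
    rw [dotInt_self]
    exact hx.1
  have hfix : ∀ g : ↥(MulAction.stabilizer Co0 v ⊓ MulAction.stabilizer Co0 w),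
      g.1 • v = v ∧ g.1 • w = w := fun g =>
    ⟨MulAction.mem_stabilizer_iff.mp (Subgroup.mem_inf.mp g.2).1,
      MulAction.mem_stabilizer_iff.mp (Subgroup.mem_inf.mp g.2).2⟩
  have D : ColData ↥(MulAction.stabilizer Co0 v ⊓ MulAction.stabilizer Co0 w)
      {x : leechLattice | sqNorm (x : GolayPt → ℤ) = 32 ∧
        dotInt (v : GolayPt → ℤ) (x : GolayPt → ℤ) = 0 ∧
        dotInt (w : GolayPt → ℤ) (x : GolayPt → ℤ) = 16} x (dotC x) {32, 0, 16, 8} mclM := by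
    apply ColData.of_card' hx (Set.finite_of_ncard_ne_zero (by rw [nX]; norm_num))
    · intro g y hy
      obtain ⟨h1, h2⟩ := hfix g
      exact ⟨(co0_smul_sqNorm g.1 y).trans hy.1, (dot_smul_fix h1 y).trans hy.2.1,
        (dot_smul_fix h2 y).trans hy.2.2⟩
    · intro y hy
      obtain ⟨g, h1, h2, h3⟩ := tX x hx y hy
      exact ⟨⟨g, Subgroup.mem_inf.mpr ⟨h1, h2⟩⟩, h3⟩
    · intro g hg y _
      exact dot_smul_fix (show g.1 • x = x from hg) y
    · intro d hd hne y hy y' hy' e e'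
      rw [hxx] at hne
      obtain ⟨g, h1, h2, h3, h4⟩ := (hcl d hd hne).2 y ⟨hy, e⟩ y' ⟨hy', e'⟩
      exact ⟨⟨g, Subgroup.mem_inf.mpr ⟨h1, h2⟩⟩, h3, h4⟩
    · intro d hd
      by_cases h32 : d = 32
      · subst h32
        have e : {y | y ∈ {x : leechLattice | sqNorm (x : GolayPt → ℤ) = 32 ∧
            dotInt (v : GolayPt → ℤ) (x : GolayPt → ℤ) = 0 ∧
            dotInt (w : GolayPt → ℤ) (x : GolayPt → ℤ) = 16} ∧ dotC x y = 32} = {x} := by
          ext y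
          constructor
          · rintro ⟨h1, h2⟩
            exact eq_of_dot_eq hx.1 h1.1 h2
          · intro h
            rw [Set.mem_singleton_iff.mp h]
            exact ⟨hx, hxx⟩
        rw [e, Set.ncard_singleton]
        rfl
      · exact (hcl d hd h32).1
    · intro y hy h
      exact eq_of_dot_eq hx.1 hy.1 (h.trans hxx)
    · rw [nX]
      rfl
  have hKx : IsSimpleGroup ↥(MulAction.stabilizer
      ↥(MulAction.stabilizer Co0 v ⊓ MulAction.stabilizer Co0 w) x) ∧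
      Nat.card ↥(MulAction.stabilizer
        ↥(MulAction.stabilizer Co0 v ⊓ MulAction.stabilizer Co0 w) x) = 443520 := by
    obtain ⟨e⟩ := mcl_point v w x hv hw hvw hx
    have e' := (stabSubEquiv (MulAction.stabilizer Co0 v ⊓ MulAction.stabilizer Co0 w) x).trans e
    exact ⟨e'.isSimpleGroup_congr.mpr stdK_simple, by
      rw [Nat.card_congr e'.toEquiv, stdK_card]⟩
  have hp3 : Fact (Nat.Prime 3) := ⟨by norm_num⟩
  have hp5 : Fact (Nat.Prime 5) := ⟨by norm_num⟩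
  refine ⟨D.simple ?_ hKx.1 (D.move 0 (by simp) (by decide)) 3 5 (by norm_num)
    (by rw [nX]; norm_num) (by rw [nX]; norm_num) ?_, ?_⟩
  · intro I hI h0 hdvd
    rw [nX] at hdvd
    rw [hxx] at h0 ⊢
    exact mcl_prim I (Finset.mem_powerset.mpr hI) h0 hdvd
  · intro I J hI hJ
    rw [hxx] at hI hJ
    exact mcl_num I (Finset.mem_powerset.mpr hI) J (Finset.mem_powerset.mpr hJ)
  · rw [D.card, nX, hKx.2]

end Cfsg.Agent.Lib.Helper92
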