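import Cfsg.Agent.Lib.Helper92.LeechMaskM22

set_option autoImplicit false

namespace Cfsg.Agent.Lib.Helper92

open Cfsg Cfsg.Spor Cfsg.Agent.Lib.Helper7

/-- The base vectors. -/
def co2cB : List (List ℤ) :=
  [([-3, 1, 1, 1, 1, 1, 1, 1, 1, 1, 1, 1, 1, 1, 1, 1, 1, 1, 1, 1, 1, 1, 1, 1] : List ℤ),
   ([4, 0, 0, 0, 0, 0, 0, 0, 0, 0, 0, 0, 0, 0, 0, 0, 0, 0, 0, 0, 0, 0, 0, 4] : List ℤ)]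

/-- The conditions. -/
def co2cconds : List (List ℤ × ℤ) :=
  [(([-3, 1, 1, 1, 1, 1, 1, 1, 1, 1, 1, 1, 1, 1, 1, 1, 1, 1, 1, 1, 1, 1, 1, 1] : List ℤ), -8),
   (([4, 0, 0, 0, 0, 0, 0, 0, 0, 0, 0, 0, 0, 0, 0, 0, 0, 0, 0, 0, 0, 0, 0, 4] : List ℤ), -8)]

/-- The base point. -/
def co2cx0 : List ℤ := ([-2, -2, -2, -2, -2, 0, 0, -2, 0, 0, -2, 0, -2, 0, 0, 0, 0, 0, 0, 0, 0, 0, 0, 0] : List ℤ)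

/-- The generators. -/
def co2cgens : List (List Prim) :=
  [[Prim.P 980275914351787324191492553553580224 [2]],
   [Prim.P 972560138397867987084212241321578816 [0, 0, 0, 0, 0, 2, 0]],
   [Prim.S 72588 17, Prim.X, Prim.P 59314883423196395270363755326747362 [2, 0, 2, 0, 2, 0, 0, 0, 1, 0, 1], Prim.X, Prim.P 58787897417608843860516518117114594 [0, 0, 1, 0, 1], Prim.S 36294 8, Prim.P 789931698167370323696501940202197175 [1, 0, 2], Prim.X, Prim.P 1795248432537898728475572672376535 [1], Prim.S 10558 2, Prim.X, Prim.P 980275914351787324191492553553580224 [2], Prim.S 10558 2, Prim.S 525274 128, Prim.P 980275914351787324191492553553580224 [2], Prim.S 72588 17, Prim.X, Prim.P 59314883423196395270363755326747362 [2, 0, 2, 0, 2,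 0, 0, 0, 1, 0, 1], Prim.X, Prim.P 58787897417608843860516518117114594 [0, 0, 1, 0, 1], Prim.S 36294 8, Prim.P 789931698167370323696501940202197175 [1, 0, 2], Prim.X, Prim.P 1795248432537898728475572672376535 [1], Prim.S 10558 2, Prim.X, Prim.P 980275914351787324191492553553580224 [2], Prim.S 10558 2, Prim.S 525274 128],
   [Prim.S 525274 128, Prim.S 10558 2, Prim.P 974380510768821363662145534143076928 [4], Prim.Y, Prim.S 10558 2, Prim.P 1795248432537898728475572672376535 [1], Prim.Y, Prim.P 4384458875472214385511754829968598 [4, 3, 1], Prim.S 36294 8, Prim.P 58787897417608843860516518117114594 [1, 3, 1, 3, 3], Prim.Y, Prim.P 69254452604385244895569291420107491 [1, 3, 1, 3, 3, 3, 4, 3, 4, 3, 4], Prim.Y, Prim.S 72588 17,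 Prim.P 974380510768821363662145534143076928 [4], Prim.S 525274 128, Prim.S 10558 2, Prim.P 974380510768821363662145534143076928 [4], Prim.Y, Prim.S 10558 2, Prim.P 1795248432537898728475572672376535 [1], Prim.Y, Prim.P 4384458875472214385511754829968598 [4, 3, 1], Prim.S 36294 8, Prim.P 58787897417608843860516518117114594 [1, 3, 1, 3, 3], Prim.Y, Prim.P 69254452604385244895569291420107491 [1, 3, 1, 3, 3, 3, 4, 3, 4, 3, 4], Prim.Y, Prim.S 72588 17]]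

set_option maxRecDepth 100000 in
set_option maxHeartbeats 0 in
/-- The intermediate images of the base vectors under the generators. -/
def co2cgmids : List (List (List (List ℤ))) :=
  [[[([-3, 1, 1, 1, 1, 1, 1, 1, 1, 1, 1, 1, 1, 1, 1, 1, 1, 1, 1, 1, 1, 1, 1, 1] : List ℤ)], [([4, 0, 0, 0, 0, 0, 0, 0, 0, 0, 0, 0, 0, 0, 0, 0, 0, 0, 0, 0, 0, 0, 0, 4] : List ℤ)]],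
   [[([-3, 1, 1, 1, 1, 1, 1, 1, 1, 1, 1, 1, 1, 1, 1, 1, 1, 1, 1, 1, 1, 1, 1, 1] : List ℤ)], [([4, 0, 0, 0, 0, 0, 0, 0, 0, 0, 0, 0, 0, 0, 0, 0, 0, 0, 0, 0, 0, 0, 0, 4] : List ℤ)]],
   [[([-3, 1, -1, -1, 1, 1, 1, -1, -1, -1, 1, -1, -1, 1, 1, 1, -1, 1, 1, 1, 1, 1, 1, 1] : List ℤ), ([2, -2, 0, -2, 0, 0, 0, -2, 0, -2, 0, 0, 0, 0, 0, 0, -2, 0, 2, 0, 0, 0, 0, -2] : List ℤ), ([0, -2, 0, 2, 0, 2, 0, 0, 0, 0, 0, 0, 0, -2, 0, -2, -2, 0, 0, 0, -2, 0, 0, -2] : List ℤ), ([-2, 0, -2, 0, 2, 0, 0, 0, 0, 2, 2, 0, 0, 0, -2, 0, 0, -2, 0, 0, 0, 0, 2, 0] : List ℤ), ([-2, 0, -2, 0, 0, 0, 2, 0, -2, 0, 0, -2, 0, 2, 0, 0, 2, 0, 0, 0, 0, 2, 0, 0] : List ℤ), ([-2, 0, 2, 0, 0, 0, -2, 0, 2, 0, 0, 2, 0, 2, 0, 0, 2, 0, 0, 0, 0, 2, 0, 0] : List ℤ), ([0,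 0, 0, 0, 2, 0, 0, 0, 2, 0, 0, -2, 2, 2, 0, 0, 2, 0, 2, 0, 0, 0, -2, 0] : List ℤ), ([0, 0, 0, 0, 0, 0, 0, 0, 0, 0, 0, -4, 0, 0, 0, 0, 0, 0, 0, 0, 0, 0, -4, 0] : List ℤ), ([0, -4, -4, 0, 0, 0, 0, 0, 0, 0, 0, 0, 0, 0, 0, 0, 0, 0, 0, 0, 0, 0, 0, 0] : List ℤ), ([0, 4, 4, 0, 0, 0, 0, 0, 0, 0, 0, 0, 0, 0, 0, 0, 0, 0, 0, 0, 0, 0, 0, 0] : List ℤ), ([4, 0, 0, 0, 0, 0, 0, 0, 0, 0, 0, 0, 0, 0, 0, 0, 0, 0, 0, 0, 0, 0, 0, 4] : List ℤ), ([4, 0, 0, 0, 0, 0, 0, 0, 0, 0, 0, 0, 0, 0, 0, 0, 0, 0, 0, 0, 0, 0, 0, 4] : List ℤ), ([4, 0, 0, 0, 0, 0, 0, 0, 0, 0, 0, 0, 0, 0, 0, 0, 0, 0, 0, 0, 0, 0, 0, 4] : List ℤ), ([4, 0, 0, 0, 0, 0, 0, 0, 0, 0, 0, 0, 0, 0, 0, 0, 0, 0, 0, 0, 0, 0, 0, 4] : List ℤ), ([4, 0, 0, 0, 0, 0, 0, 0, 0, 0, 0, 0, 0, 0, 0,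 0, 0, 0, 0, 0, 0, 0, 0, 4] : List ℤ), ([4, 0, 0, 0, 0, 0, 0, 0, 0, 0, 0, 0, 0, 0, 0, 0, 0, 0, 0, 0, 0, 0, 0, 4] : List ℤ), ([0, 4, 4, 0, 0, 0, 0, 0, 0, 0, 0, 0, 0, 0, 0, 0, 0, 0, 0, 0, 0, 0, 0, 0] : List ℤ), ([4, 0, 0, 0, 0, 0, 0, 0, 0, 0, 0, 0, 0, 0, 0, 0, 0, 0, 0, 0, 0, 0, 0, 4] : List ℤ), ([0, 4, 4, 0, 0, 0, 0, 0, 0, 0, 0, 0, 0, 0, 0, 0, 0, 0, 0, 0, 0, 0, 0, 0] : List ℤ), ([4, 0, 0, 0, 0, 0, 0, 0, 0, 0, 0, 0, 0, 0, 0, 0, 0, 0, 0, 0, 0, 0, 0, 4] : List ℤ), ([4, 0, 0, 0, 0, 0, 0, 0, 0, 0, 0, 0, 0, 0, 0, 0, 0, 0, 0, 0, 0, 0, 0, 4] : List ℤ), ([4, 0, 0, 0, 0, 0, 0, 0, 0, 0, 0, 0, 0, 0, 0, 0, 0, 0, 0, 0, 0, 0, 4, 0] : List ℤ), ([-2, 2, 2, 0, -2, 0, 0, 0, 0, 0, 0, 0, 0, -2, 0, 0, -2, 0, 0, 0, 0, 0, 2, 2] : List ℤ), ([2,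 2, 0, 0, 0, 0, 0, -2, 0, 0, -2, 2, 0, 0, 0, 0, 0, -2, 0, 0, 0, 0, 2, -2] : List ℤ), ([2, -2, 0, 0, 0, 0, 0, -2, 0, 0, -2, -2, 0, 0, 0, 0, 0, -2, 0, 0, 0, 0, 2, -2] : List ℤ), ([-3, 1, -1, 1, -1, 1, 1, -1, 1, 1, -1, -1, 1, -1, 1, 1, -1, -1, 1, 1, 1, 1, 1, 1] : List ℤ), ([-3, 1, -1, 1, 1, -1, -1, -1, 1, -1, 1, -1, 1, -1, 1, 1, 1, 1, 1, -1, 1, 1, 1, 1] : List ℤ), ([-3, -1, 1, -1, -1, 1, -1, -1, -1, -1, 1, 1, 1, 1, 1, 1, 1, 1, 1, -1, 1, 1, 1, 1] : List ℤ), ([-3, 1, 1, 1, 1, 1, 1, 1, 1, 1, 1, 1, 1, 1, 1, 1, 1, 1, 1, 1, 1, 1, 1, 1] : List ℤ)], [([4, 0, 0, 0, 0, 0, 0, 0, 0, 0, 0, 0, 0, 0, 0, 0, 0, 0, 0, 0, 0, 0, 0, 4] : List ℤ), ([0, 4, 4, 0, 0, 0, 0, 0, 0, 0, 0, 0, 0, 0, 0, 0, 0, 0, 0, 0, 0, 0, 0, 0] : List ℤ), ([4, 0, 0, 0,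 0, 0, 0, 0, 0, 0, 0, 0, 0, 0, 0, 0, 0, 0, 0, 0, 0, 0, 0, 4] : List ℤ), ([0, 4, 4, 0, 0, 0, 0, 0, 0, 0, 0, 0, 0, 0, 0, 0, 0, 0, 0, 0, 0, 0, 0, 0] : List ℤ), ([4, 0, 0, 0, 0, 0, 0, 0, 0, 0, 0, 0, 0, 0, 0, 0, 0, 0, 0, 0, 0, 0, 0, 4] : List ℤ), ([4, 0, 0, 0, 0, 0, 0, 0, 0, 0, 0, 0, 0, 0, 0, 0, 0, 0, 0, 0, 0, 0, 0, 4] : List ℤ), ([4, 0, 0, 0, 0, 0, 0, 0, 0, 0, 0, 0, 0, 0, 0, 0, 0, 0, 0, 0, 0, 0, 4, 0] : List ℤ), ([-2, 2, 2, 0, -2, 0, 0, 0, 0, 0, 0, 0, 0, -2, 0, 0, -2, 0, 0, 0, 0, 0, 2, 2] : List ℤ), ([2, 2, 0, 0, 0, 0, 0, -2, 0, 0, -2, 2, 0, 0, 0, 0, 0, -2, 0, 0, 0, 0, 2, -2] : List ℤ), ([2, -2, 0, 0, 0, 0, 0, -2, 0, 0, -2, -2, 0, 0, 0, 0, 0, -2, 0, 0, 0, 0, 2, -2] : List ℤ), ([-3, 1, -1, 1, -1, 1, 1, -1, 1, 1, -1, -1, 1,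 -1, 1, 1, -1, -1, 1, 1, 1, 1, 1, 1] : List ℤ), ([-3, 1, -1, 1, 1, -1, -1, -1, 1, -1, 1, -1, 1, -1, 1, 1, 1, 1, 1, -1, 1, 1, 1, 1] : List ℤ), ([-3, -1, 1, -1, -1, 1, -1, -1, -1, -1, 1, 1, 1, 1, 1, 1, 1, 1, 1, -1, 1, 1, 1, 1] : List ℤ), ([-3, 1, 1, 1, 1, 1, 1, 1, 1, 1, 1, 1, 1, 1, 1, 1, 1, 1, 1, 1, 1, 1, 1, 1] : List ℤ), ([-3, 1, 1, 1, 1, 1, 1, 1, 1, 1, 1, 1, 1, 1, 1, 1, 1, 1, 1, 1, 1, 1, 1, 1] : List ℤ), ([-3, 1, -1, -1, 1, 1, 1, -1, -1, -1, 1, -1, -1, 1, 1, 1, -1, 1, 1, 1, 1, 1, 1, 1] : List ℤ), ([2, -2, 0, -2, 0, 0, 0, -2, 0, -2, 0, 0, 0, 0, 0, 0, -2, 0, 2, 0, 0, 0, 0, -2] : List ℤ), ([0, -2, 0, 2, 0, 2, 0, 0, 0, 0, 0, 0, 0, -2, 0, -2, -2, 0, 0, 0, -2, 0, 0, -2] : List ℤ), ([-2, 0, -2, 0, 2, 0, 0, 0, 0, 2, 2, 0, 0, 0,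 -2, 0, 0, -2, 0, 0, 0, 0, 2, 0] : List ℤ), ([-2, 0, -2, 0, 0, 0, 2, 0, -2, 0, 0, -2, 0, 2, 0, 0, 2, 0, 0, 0, 0, 2, 0, 0] : List ℤ), ([-2, 0, 2, 0, 0, 0, -2, 0, 2, 0, 0, 2, 0, 2, 0, 0, 2, 0, 0, 0, 0, 2, 0, 0] : List ℤ), ([0, 0, 0, 0, 2, 0, 0, 0, 2, 0, 0, -2, 2, 2, 0, 0, 2, 0, 2, 0, 0, 0, -2, 0] : List ℤ), ([0, 0, 0, 0, 0, 0, 0, 0, 0, 0, 0, -4, 0, 0, 0, 0, 0, 0, 0, 0, 0, 0, -4, 0] : List ℤ), ([0, -4, -4, 0, 0, 0, 0, 0, 0, 0, 0, 0, 0, 0, 0, 0, 0, 0, 0, 0, 0, 0, 0, 0] : List ℤ), ([0, 4, 4, 0, 0, 0, 0, 0, 0, 0, 0, 0, 0, 0, 0, 0, 0, 0, 0, 0, 0, 0, 0, 0] : List ℤ), ([4, 0, 0, 0, 0, 0, 0, 0, 0, 0, 0, 0, 0, 0, 0, 0, 0, 0, 0, 0, 0, 0, 0, 4] : List ℤ), ([4, 0, 0, 0, 0, 0, 0, 0, 0, 0, 0, 0, 0, 0, 0, 0, 0, 0, 0, 0, 0, 0, 0, 4] : List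 ℤ), ([4, 0, 0, 0, 0, 0, 0, 0, 0, 0, 0, 0, 0, 0, 0, 0, 0, 0, 0, 0, 0, 0, 0, 4] : List ℤ), ([4, 0, 0, 0, 0, 0, 0, 0, 0, 0, 0, 0, 0, 0, 0, 0, 0, 0, 0, 0, 0, 0, 0, 4] : List ℤ)]],
   [[([-3, -1, 1, -1, -1, 1, -1, -1, -1, -1, 1, 1, 1, 1, 1, 1, 1, 1, 1, -1, 1, 1, 1, 1] : List ℤ), ([-3, 1, -1, 1, 1, -1, -1, -1, 1, -1, 1, -1, 1, -1, 1, 1, 1, 1, 1, -1, 1, 1, 1, 1] : List ℤ), ([-3, 1, -1, 1, -1, 1, 1, -1, 1, 1, -1, -1, 1, -1, 1, 1, -1, -1, 1, 1, 1, 1, 1, 1] : List ℤ), ([2, -2, 0, 0, 0, 0, 0, -2, 0, 0, -2, -2, 0, 0, 0, 0, 0, -2, 0, 0, 0, 0, 2, -2] : List ℤ), ([2, 2, 0, 0, 0, 0, 0, -2, 0, 0, -2, 2, 0, 0, 0, 0, 0, -2, 0, 0, 0, 0, 2, -2] : List ℤ), ([-2, 2, 2, 0, -2, 0, 0, 0, 0, 0, 0, 0, 0, -2, 0, 0, -2, 0, 0, 0, 0, 0, 2, 2] : List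 ℤ), ([4, 0, 0, 0, 0, 0, 0, 0, 0, 0, 0, 0, 0, 0, 0, 0, 0, 0, 0, 0, 0, 0, 4, 0] : List ℤ), ([4, 0, 0, 0, 0, 0, 0, 0, 0, 0, 0, 0, 0, 0, 0, 0, 0, 0, 0, 0, 0, 0, 0, 4] : List ℤ), ([4, 0, 0, 0, 0, 0, 0, 0, 0, 0, 0, 0, 0, 0, 0, 0, 0, 0, 0, 0, 0, 0, 0, 4] : List ℤ), ([0, 4, 4, 0, 0, 0, 0, 0, 0, 0, 0, 0, 0, 0, 0, 0, 0, 0, 0, 0, 0, 0, 0, 0] : List ℤ), ([4, 0, 0, 0, 0, 0, 0, 0, 0, 0, 0, 0, 0, 0, 0, 0, 0, 0, 0, 0, 0, 0, 0, 4] : List ℤ), ([0, 4, 4, 0, 0, 0, 0, 0, 0, 0, 0, 0, 0, 0, 0, 0, 0, 0, 0, 0, 0, 0, 0, 0] : List ℤ), ([4, 0, 0, 0, 0, 0, 0, 0, 0, 0, 0, 0, 0, 0, 0, 0, 0, 0, 0, 0, 0, 0, 0, 4] : List ℤ), ([4, 0, 0, 0, 0, 0, 0, 0, 0, 0, 0, 0, 0, 0, 0, 0, 0, 0, 0, 0, 0, 0, 0, 4] : List ℤ), ([4, 0, 0, 0, 0, 0, 0, 0, 0, 0, 0, 0, 0, 0,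 0, 0, 0, 0, 0, 0, 0, 0, 0, 4] : List ℤ), ([4, 0, 0, 0, 0, 0, 0, 0, 0, 0, 0, 0, 0, 0, 0, 0, 0, 0, 0, 0, 0, 0, 0, 4] : List ℤ), ([4, 0, 0, 0, 0, 0, 0, 0, 0, 0, 0, 0, 0, 0, 0, 0, 0, 0, 0, 0, 0, 0, 0, 4] : List ℤ), ([4, 0, 0, 0, 0, 0, 0, 0, 0, 0, 0, 0, 0, 0, 0, 0, 0, 0, 0, 0, 0, 0, 0, 4] : List ℤ), ([0, 4, 4, 0, 0, 0, 0, 0, 0, 0, 0, 0, 0, 0, 0, 0, 0, 0, 0, 0, 0, 0, 0, 0] : List ℤ), ([0, -4, -4, 0, 0, 0, 0, 0, 0, 0, 0, 0, 0, 0, 0, 0, 0, 0, 0, 0, 0, 0, 0, 0] : List ℤ), ([0, 0, 0, 0, 0, 0, 0, 0, 0, 0, 0, -4, 0, 0, 0, 0, 0, 0, 0, 0, 0, 0, -4, 0] : List ℤ), ([0, 0, 0, 0, 2, 0, 0, 0, 2, 0, 0, -2, 2, 2, 0, 0, 2, 0, 2, 0, 0, 0, -2, 0] : List ℤ), ([-2, 0, 2, 0, 0, 0, -2, 0, 2, 0, 0, 2, 0, 2, 0, 0, 2, 0, 0, 0, 0, 2, 0, 0] : List ℤ),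 ([-2, 0, -2, 0, 0, 0, 2, 0, -2, 0, 0, -2, 0, 2, 0, 0, 2, 0, 0, 0, 0, 2, 0, 0] : List ℤ), ([-2, 0, -2, 0, 2, 0, 0, 0, 0, 2, 2, 0, 0, 0, -2, 0, 0, -2, 0, 0, 0, 0, 2, 0] : List ℤ), ([0, -2, 0, 2, 0, 2, 0, 0, 0, 0, 0, 0, 0, -2, 0, -2, -2, 0, 0, 0, -2, 0, 0, -2] : List ℤ), ([2, -2, 0, -2, 0, 0, 0, -2, 0, -2, 0, 0, 0, 0, 0, 0, -2, 0, 2, 0, 0, 0, 0, -2] : List ℤ), ([-3, 1, -1, -1, 1, 1, 1, -1, -1, -1, 1, -1, -1, 1, 1, 1, -1, 1, 1, 1, 1, 1, 1, 1] : List ℤ), ([-3, 1, 1, 1, 1, 1, 1, 1, 1, 1, 1, 1, 1, 1, 1, 1, 1, 1, 1, 1, 1, 1, 1, 1] : List ℤ)], [([4, 0, 0, 0, 0, 0, 0, 0, 0, 0, 0, 0, 0, 0, 0, 0, 0, 0, 0, 0, 0, 0, 0, 4] : List ℤ), ([4, 0, 0, 0, 0, 0, 0, 0, 0, 0, 0, 0, 0, 0, 0, 0, 0, 0, 0, 0, 0, 0, 0, 4] : List ℤ), ([4, 0, 0, 0, 0,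 0, 0, 0, 0, 0, 0, 0, 0, 0, 0, 0, 0, 0, 0, 0, 0, 0, 0, 4] : List ℤ), ([0, 4, 4, 0, 0, 0, 0, 0, 0, 0, 0, 0, 0, 0, 0, 0, 0, 0, 0, 0, 0, 0, 0, 0] : List ℤ), ([0, -4, -4, 0, 0, 0, 0, 0, 0, 0, 0, 0, 0, 0, 0, 0, 0, 0, 0, 0, 0, 0, 0, 0] : List ℤ), ([0, 0, 0, 0, 0, 0, 0, 0, 0, 0, 0, -4, 0, 0, 0, 0, 0, 0, 0, 0, 0, 0, -4, 0] : List ℤ), ([0, 0, 0, 0, 2, 0, 0, 0, 2, 0, 0, -2, 2, 2, 0, 0, 2, 0, 2, 0, 0, 0, -2, 0] : List ℤ), ([-2, 0, 2, 0, 0, 0, -2, 0, 2, 0, 0, 2, 0, 2, 0, 0, 2, 0, 0, 0, 0, 2, 0, 0] : List ℤ), ([-2, 0, -2, 0, 0, 0, 2, 0, -2, 0, 0, -2, 0, 2, 0, 0, 2, 0, 0, 0, 0, 2, 0, 0] : List ℤ), ([-2, 0, -2, 0, 2, 0, 0, 0, 0, 2, 2, 0, 0, 0, -2, 0, 0, -2, 0, 0, 0, 0, 2, 0] : List ℤ), ([0, -2, 0, 2, 0, 2, 0, 0, 0, 0, 0, 0, 0, -2, 0,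 -2, -2, 0, 0, 0, -2, 0, 0, -2] : List ℤ), ([2, -2, 0, -2, 0, 0, 0, -2, 0, -2, 0, 0, 0, 0, 0, 0, -2, 0, 2, 0, 0, 0, 0, -2] : List ℤ), ([-3, 1, -1, -1, 1, 1, 1, -1, -1, -1, 1, -1, -1, 1, 1, 1, -1, 1, 1, 1, 1, 1, 1, 1] : List ℤ), ([-3, 1, 1, 1, 1, 1, 1, 1, 1, 1, 1, 1, 1, 1, 1, 1, 1, 1, 1, 1, 1, 1, 1, 1] : List ℤ), ([-3, 1, 1, 1, 1, 1, 1, 1, 1, 1, 1, 1, 1, 1, 1, 1, 1, 1, 1, 1, 1, 1, 1, 1] : List ℤ), ([-3, -1, 1, -1, -1, 1, -1, -1, -1, -1, 1, 1, 1, 1, 1, 1, 1, 1, 1, -1, 1, 1, 1, 1] : List ℤ), ([-3, 1, -1, 1, 1, -1, -1, -1, 1, -1, 1, -1, 1, -1, 1, 1, 1, 1, 1, -1, 1, 1, 1, 1] : List ℤ), ([-3, 1, -1, 1, -1, 1, 1, -1, 1, 1, -1, -1, 1, -1, 1, 1, -1, -1, 1, 1, 1, 1, 1, 1] : List ℤ), ([2, -2, 0, 0, 0, 0, 0, -2, 0, 0, -2, -2, 0, 0,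 0, 0, 0, -2, 0, 0, 0, 0, 2, -2] : List ℤ), ([2, 2, 0, 0, 0, 0, 0, -2, 0, 0, -2, 2, 0, 0, 0, 0, 0, -2, 0, 0, 0, 0, 2, -2] : List ℤ), ([-2, 2, 2, 0, -2, 0, 0, 0, 0, 0, 0, 0, 0, -2, 0, 0, -2, 0, 0, 0, 0, 0, 2, 2] : List ℤ), ([4, 0, 0, 0, 0, 0, 0, 0, 0, 0, 0, 0, 0, 0, 0, 0, 0, 0, 0, 0, 0, 0, 4, 0] : List ℤ), ([4, 0, 0, 0, 0, 0, 0, 0, 0, 0, 0, 0, 0, 0, 0, 0, 0, 0, 0, 0, 0, 0, 0, 4] : List ℤ), ([4, 0, 0, 0, 0, 0, 0, 0, 0, 0, 0, 0, 0, 0, 0, 0, 0, 0, 0, 0, 0, 0, 0, 4] : List ℤ), ([0, 4, 4, 0, 0, 0, 0, 0, 0, 0, 0, 0, 0, 0, 0, 0, 0, 0, 0, 0, 0, 0, 0, 0] : List ℤ), ([4, 0, 0, 0, 0, 0, 0, 0, 0, 0, 0, 0, 0, 0, 0, 0, 0, 0, 0, 0, 0, 0, 0, 4] : List ℤ), ([0, 4, 4, 0, 0, 0, 0, 0, 0, 0, 0, 0, 0, 0, 0, 0, 0, 0, 0, 0, 0, 0, 0, 0] : List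 ℤ), ([4, 0, 0, 0, 0, 0, 0, 0, 0, 0, 0, 0, 0, 0, 0, 0, 0, 0, 0, 0, 0, 0, 0, 4] : List ℤ), ([4, 0, 0, 0, 0, 0, 0, 0, 0, 0, 0, 0, 0, 0, 0, 0, 0, 0, 0, 0, 0, 0, 0, 4] : List ℤ)]]]

set_option maxRecDepth 100000 in
set_option maxHeartbeats 0 in
/-- The minimal vectors of the set with the representative words of second digits. -/
def co2cfib : List (List ℕ × List (List ℤ)) :=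
  [([], []),
   ([0, 1, 2, 3, 4, 7, 10, 12], [([-2, -2, -2, -2, -2, 0, 0, -2, 0, 0, -2, 0, -2, 0, 0, 0, 0, 0, 0, 0, 0, 0, 0, 0] : List ℤ)]),
   ([1, 2, 3, 4, 5, 8, 11, 13], []),
   ([0, 2, 3, 4, 6, 7, 8, 9, 10, 11, 13, 14], []),
   ([1, 3, 4, 5, 7, 8, 9, 10, 11, 12, 14, 15], [([1, -1, 1, -1, -1, -1, 1, -1, -1, -1, -1, -1, -1, 1, -1, -1, 1, 1, 1, 1, 1, 1, 1, -3] : List ℤ)]),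
   ([0, 2, 3, 4, 5, 6, 7, 8, 9, 11, 12, 14, 15, 16, 17, 18], []),
   ([1, 3, 4, 5, 6, 7, 8, 9, 10, 12, 13, 15, 16, 17, 18, 19], []),
   ([0, 2, 4, 5, 6, 10, 11, 23], []),
   ([1, 3, 5, 6, 7, 11, 12, 23], [([0, -2, 0, -2, 0, -2, -2, -2, 0, 0, 0, 2, 2, 0, 0, 0, 0, 0, 0, 0, 0, 0, 0, -2] : List ℤ),
     ([0, -2, 0, -2, 0, -2, -2, 2, 0, 0, 0, -2, 2, 0, 0, 0, 0, 0, 0, 0, 0, 0, 0, -2] : List ℤ),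
     ([0, -2, 0, -2, 0, -2, 2, -2, 0, 0, 0, -2, 2, 0, 0, 0, 0, 0, 0, 0, 0, 0, 0, -2] : List ℤ),
     ([0, -2, 0, -2, 0, 2, -2, -2, 0, 0, 0, -2, 2, 0, 0, 0, 0, 0, 0, 0, 0, 0, 0, -2] : List ℤ),
     ([0, -2, 0, 2, 0, -2, -2, -2, 0, 0, 0, -2, 2, 0, 0, 0, 0, 0, 0, 0, 0, 0, 0, -2] : List ℤ),
     ([0, 2, 0, -2, 0, -2, -2, -2, 0, 0, 0, -2, 2, 0, 0, 0, 0, 0, 0, 0, 0, 0, 0, -2] : List ℤ),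
     ([0, -2, 0, -2, 0, -2, -2, 2, 0, 0, 0, 2, -2, 0, 0, 0, 0, 0, 0, 0, 0, 0, 0, -2] : List ℤ),
     ([0, -2, 0, -2, 0, -2, 2, -2, 0, 0, 0, 2, -2, 0, 0, 0, 0, 0, 0, 0, 0, 0, 0, -2] : List ℤ),
     ([0, -2, 0, -2, 0, 2, -2, -2, 0, 0, 0, 2, -2, 0, 0, 0, 0, 0, 0, 0, 0, 0, 0, -2] : List ℤ),
     ([0, -2, 0, 2, 0, -2, -2, -2, 0, 0, 0, 2, -2, 0, 0, 0, 0, 0, 0, 0, 0, 0, 0, -2] : List ℤ),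
     ([0, 2, 0, -2, 0, -2, -2, -2, 0, 0, 0, 2, -2, 0, 0, 0, 0, 0, 0, 0, 0, 0, 0, -2] : List ℤ),
     ([0, -2, 0, -2, 0, -2, 2, 2, 0, 0, 0, -2, -2, 0, 0, 0, 0, 0, 0, 0, 0, 0, 0, -2] : List ℤ),
     ([0, -2, 0, -2, 0, 2, -2, 2, 0, 0, 0, -2, -2, 0, 0, 0, 0, 0, 0, 0, 0, 0, 0, -2] : List ℤ),
     ([0, -2, 0, 2, 0, -2, -2, 2, 0, 0, 0, -2, -2, 0, 0, 0, 0, 0, 0, 0, 0, 0, 0, -2] : List ℤ),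
     ([0, 2, 0, -2, 0, -2, -2, 2, 0, 0, 0, -2, -2, 0, 0, 0, 0, 0, 0, 0, 0, 0, 0, -2] : List ℤ),
     ([0, -2, 0, -2, 0, 2, 2, -2, 0, 0, 0, -2, -2, 0, 0, 0, 0, 0, 0, 0, 0, 0, 0, -2] : List ℤ),
     ([0, -2, 0, 2, 0, -2, 2, -2, 0, 0, 0, -2, -2, 0, 0, 0, 0, 0, 0, 0, 0, 0, 0, -2] : List ℤ),
     ([0, 2, 0, -2, 0, -2, 2, -2, 0, 0, 0, -2, -2, 0, 0, 0, 0, 0, 0, 0, 0, 0, 0, -2] : List ℤ),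
     ([0, -2, 0, 2, 0, 2, -2, -2, 0, 0, 0, -2, -2, 0, 0, 0, 0, 0, 0, 0, 0, 0, 0, -2] : List ℤ),
     ([0, 2, 0, -2, 0, 2, -2, -2, 0, 0, 0, -2, -2, 0, 0, 0, 0, 0, 0, 0, 0, 0, 0, -2] : List ℤ),
     ([0, 2, 0, 2, 0, -2, -2, -2, 0, 0, 0, -2, -2, 0, 0, 0, 0, 0, 0, 0, 0, 0, 0, -2] : List ℤ)]),
   ([0, 1, 2, 4, 5, 8, 9, 10, 12, 13, 14, 23], []),
   ([1, 2, 3, 5, 6, 9, 10, 11, 13, 14, 15, 23], []),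
   ([0, 1, 3, 4, 6, 8, 9, 10, 11, 12, 13, 14, 15, 16, 17, 23], [([-1, -1, -3, -1, -1, 1, -1, 1, -1, -1, -1, -1, -1, -1, -1, -1, -1, -1, 1, 1, 1, 1, 1, -1] : List ℤ),
     ([-1, -1, 1, -1, -1, -3, -1, 1, -1, -1, -1, -1, -1, -1, -1, -1, -1, -1, 1, 1, 1, 1, 1, -1] : List ℤ),
     ([-1, -1, 1, -1, -1, 1, -1, -3, -1, -1, -1, -1, -1, -1, -1, -1, -1, -1, 1, 1, 1, 1, 1, -1] : List ℤ),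
     ([-1, -1, 1, -1, -1, 1, -1, 1, -1, -1, -1, -1, -1, -1, -1, -1, -1, -1, -3, 1, 1, 1, 1, -1] : List ℤ),
     ([-1, -1, 1, -1, -1, 1, -1, 1, -1, -1, -1, -1, -1, -1, -1, -1, -1, -1, 1, -3, 1, 1, 1, -1] : List ℤ),
     ([-1, -1, 1, -1, -1, 1, -1, 1, -1, -1, -1, -1, -1, -1, -1, -1, -1, -1, 1, 1, -3, 1, 1, -1] : List ℤ),
     ([-1, -1, 1, -1, -1, 1, -1, 1, -1, -1, -1, -1, -1, -1, -1, -1, -1, -1, 1, 1, 1, -3, 1, -1] : List ℤ),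
     ([-1, -1, 1, -1, -1, 1, -1, 1, -1, -1, -1, -1, -1, -1, -1, -1, -1, -1, 1, 1, 1, 1, -3, -1] : List ℤ)]),
   ([1, 2, 4, 5, 7, 9, 10, 11, 12, 13, 14, 15, 16, 17, 18, 23], []),
   ([0, 1, 2, 3, 4, 5, 6, 7, 8, 9, 10, 11, 12, 13, 14, 15, 16, 17, 18, 19, 20, 21, 22, 23], [])]

set_option maxRecDepth 100000 in
set_option maxHeartbeats 0 in
/-- The program visiting the vectors. -/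
def co2cprog : List Ins :=
  [Ins.mark,
   Ins.push 2 [([-2, -2, 2, 2, -2, 0, 0, 2, 0, 0, -2, 0, 2, 0, 0, 0, 0, 0, 0, 0, 0, 0, 0, 0] : List ℤ), ([1, 1, -3, 1, -1, -1, -1, 1, -1, 1, -1, -1, 1, 1, -1, 1, 1, -1, -1, -1, 1, -1, 1, -1] : List ℤ), ([-3, -1, 1, 1, -1, -1, -1, -1, 1, -1, 1, -1, -1, 1, -1, 1, 1, -1, -1, -1, 1, 1, 1, 1] : List ℤ), ([2, 0, -2, 2, -2, 0, 0, 0, 2, -2, 0, 0, 0, 0, 0, 0, 0, 0, 0, 0, 0, 2, 0, -2] : List ℤ), ([-2, -2, 2, 0, 0, 0, 0, 0, 0, 2, 0, 0, 2, 0, 2, 0, -2, 0, 0, 0, 0, -2, 0, 0] : List ℤ), ([-2, 2, -2, 0, 0, 0, 0, 0, 0, 2, 0, 0, 2, 0, 2, 0, -2, 0, 0, 0, 0, -2, 0, 0] : List ℤ), ([0, 0, 0, 0, 0, 2, 2, 2, 0, 0, 0, 0, -2, -2, 2, 0, 0, 0, -2, 0, 0, 0, -2, 0] : List ℤ), ([0, 0, 0, -2, 2, 0, 0, 0, 2, 0,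 0, 2, 0, 0, 0, 0, 2, -2, 0, -2, 0, -2, 0, 0] : List ℤ), ([0, 0, 2, 0, -2, 0, -2, 0, 0, 0, 2, 0, -2, 0, 0, -2, 0, 2, 0, 0, 2, 0, 0, 0] : List ℤ), ([0, 0, -2, 0, 2, 0, -2, 0, 0, 0, 2, 0, -2, 0, 0, -2, 0, 2, 0, 0, 2, 0, 0, 0] : List ℤ), ([-1, -1, 1, -1, 1, -1, -1, 1, 1, -1, 1, 1, -1, -1, -1, -3, -1, 1, 1, 1, 1, 1, -1, -1] : List ℤ), ([-1, -1, 1, -1, 1, 1, 1, 1, -1, -1, 1, 1, -1, -1, -1, -3, 1, -1, -1, 1, 1, -1, 1, -1] : List ℤ), ([-1, 1, -1, 1, -1, -1, 1, 1, 1, -1, 1, -1, -1, 1, -1, -3, 1, -1, -1, 1, 1, -1, 1, -1] : List ℤ), ([-1, -1, -1, -1, 1, -1, -1, -1, -1, 1, 1, -1, -1, 1, -1, -3, 1, -1, -1, -1, 1, -1, 1, -1] : List ℤ), ([-1, -1, 1, -1, -1, -1, -1, 1, -1, 1, 1, -1, 1, 1, 1, -3, -1, -1, -1, -1, -1, -1, -1, -1] : List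 ℤ), ([-1, -1, -1, 1, -1, -1, -1, -1, 1, -1, 1, 1, -1, 1, 1, -3, 1, -1, -1, -1, -1, -1, -1, -1] : List ℤ), ([-1, -1, -1, 1, -1, -1, 1, 1, 1, 1, 3, 1, -1, 1, 1, -1, 1, -1, -1, 1, 1, 1, -1, -1] : List ℤ), ([-1, -1, -1, -1, 1, -1, 3, 1, 1, -1, -1, 1, -1, 1, 1, 1, 1, 1, -1, 1, 1, -1, 1, -1] : List ℤ), ([-1, -1, -1, -1, -1, -1, 1, -1, 1, -1, -1, 1, -1, -1, 1, 1, -1, 1, -1, -1, 1, -3, -1, -1] : List ℤ), ([-1, -1, -1, -1, -1, -1, -1, 1, 1, -3, 1, 1, -1, -1, 1, -1, -1, 1, -1, 1, -1, -1, -1, -1] : List ℤ), ([-1, 1, 1, -1, -1, -1, 1, -1, -1, -3, -1, -1, -1, -1, 1, 1, -1, 1, -1, 1, -1, -1, -1, -1] : List ℤ), ([-1, -1, -1, -1, -1, -1, 1, -3, -1, -1, 1, 1, -1, 1, 1, -1, -1, -1, -1, -1, -1, 1, -1, 1] : List ℤ), ([0, 0, 0, 0, 0, 0, 2,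 -2, 0, 0, 2, 2, 0, 2, 2, 0, 0, 0, 0, 0, 0, 2, 0, -2] : List ℤ), ([-2, 0, 2, 0, 0, 0, 0, 2, 0, 0, 0, 0, 2, -2, 0, 0, 2, 0, 2, 2, 0, 0, 0, 0] : List ℤ), ([-2, 0, -2, 0, 0, 0, 0, 2, 0, 0, 0, 0, 2, 2, 0, 0, 2, 0, 2, 2, 0, 0, 0, 0] : List ℤ), ([0, -2, 0, 0, -2, 0, -2, 0, -2, 0, 0, -2, 0, 0, 0, 0, 0, 0, 0, 0, 0, -2, -2, -2] : List ℤ), ([0, -2, -2, 0, 0, 0, 0, 0, 0, 0, 0, 0, 0, 0, -2, 0, -2, 0, -2, -2, -2, 0, 0, -2] : List ℤ), ([0, 2, 2, 0, 0, 0, 0, 0, 0, 0, 0, 0, 0, 0, -2, 0, -2, 0, -2, -2, -2, 0, 0, -2] : List ℤ), ([0, -2, 2, 0, 0, 0, 0, 0, 0, 0, 0, 0, 0, 0, -2, 0, -2, 0, -2, 2, -2, 0, 0, -2] : List ℤ)],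
   Ins.push 1 [([0, 0, -2, 0, -2, 0, 0, 0, 2, 0, 0, -2, 0, 0, 0, 2, -2, 0, 0, 0, -2, 0, 0, -2] : List ℤ)],
   Ins.push 0 [([0, 0, -2, 0, 0, 0, -2, 0, 0, 0, -2, 0, 0, -2, 0, 2, 2, 0, 0, -2, 0, 0, 0, -2] : List ℤ)],
   Ins.push 0 [([0, -2, 0, 0, 0, 0, -2, -2, 0, -2, 0, 0, 0, 2, 0, 2, 0, 0, 0, 0, 0, 0, -2, -2] : List ℤ)],
   Ins.push 0 [([0, -2, 0, 0, 0, -2, 0, 0, 0, 2, 0, 0, -2, 0, -2, 2, 0, 0, -2, 0, 0, 0, 0, -2] : List ℤ)],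
   Ins.push 1 [([0, 0, 0, 0, -2, 0, -2, 0, 0, 0, 0, -2, 2, 0, -2, 0, 0, 0, 2, 0, -2, 0, 0, -2] : List ℤ)],
   Ins.push 1 [([0, 0, -2, -2, 2, 0, 0, 0, 0, 0, -2, 0, 0, -2, 2, 0, 0, 0, 0, 0, -2, 0, 0, -2] : List ℤ)],
   Ins.push 0 [([0, 0, 2, -2, 0, 0, -2, -2, 0, -2, -2, 0, 0, 0, 0, 0, 0, 2, 0, 0, 0, 0, 0, -2] : List ℤ)],
   Ins.push 0 [([0, -2, 0, -2, 0, -2, 2, -2, 0, 0, 0, 2, -2, 0, 0, 0, 0, 0, 0, 0, 0, 0, 0, -2] : List ℤ)],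
   Ins.mark,
   Ins.pop,
   Ins.pop,
   Ins.pop,
   Ins.pop,
   Ins.push 0 [([0, 0, 0, 0, -2, 0, 0, 0, -2, 0, 0, 0, 2, 0, 0, 2, 0, -2, -2, 0, 0, -2, 0, -2] : List ℤ)],
   Ins.push 1 [([0, 0, 0, -2, -2, 0, 0, 0, 0, -2, 0, 0, 0, 0, 2, 0, 0, -2, 2, -2, 0, 0, 0, -2] : List ℤ)],
   Ins.push 1 [([0, 0, 0, -2, 2, 0, 0, -2, 0, -2, 0, 0, -2, 0, 0, -2, 0, 0, 0, 0, 2, 0, 0, -2] : List ℤ)],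
   Ins.push 1 [([0, 0, 2, 2, 0, 0, 0, -2, 0, 0, 0, 0, -2, 0, -2, 0, 0, 0, -2, 0, 0, -2, 0, -2] : List ℤ)],
   Ins.push 0 [([0, 0, 0, 2, -2, -2, 2, 0, -2, 0, 0, 0, 0, 0, 0, 0, 0, -2, 0, 0, -2, 0, 0, -2] : List ℤ)],
   Ins.push 1 [([0, 0, -2, -2, 0, 0, -2, 2, 0, -2, 2, 0, 0, 0, 0, 0, 0, -2, 0, 0, 0, 0, 0, -2] : List ℤ)],
   Ins.push 0 [([0, -2, 0, -2, 0, 2, -2, 2, 0, 0, 0, -2, -2, 0, 0, 0, 0, 0, 0, 0, 0, 0, 0, -2] : List ℤ)],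
   Ins.mark,
   Ins.pop,
   Ins.pop,
   Ins.pop,
   Ins.pop,
   Ins.pop,
   Ins.pop,
   Ins.pop,
   Ins.pop,
   Ins.push 1 [([0, 0, 0, 0, 0, -2, 0, 0, 0, 0, -2, -2, -2, 0, 0, 0, 0, 0, 2, 0, 0, -2, 2, -2] : List ℤ)],
   Ins.push 1 [([0, -2, 0, 0, 2, 2, -2, 0, 0, 0, 0, 0, 0, -2, -2, 0, 0, 0, 0, -2, 0, 0, 0, -2] : List ℤ)],
   Ins.push 0 [([0, -2, 2, 0, 0, 0, 0, 0, 0, -2, 0, 0, 0, 0, 0, 0, 0, -2, -2, 0, 0, 2, -2, -2] : List ℤ)],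
   Ins.push 0 [([0, 0, 0, 0, -2, 0, 2, 0, 0, 0, 0, -2, -2, 0, -2, 0, 0, 0, -2, 0, 2, 0, 0, -2] : List ℤ)],
   Ins.push 1 [([0, 0, 2, -2, -2, 0, 0, 0, 0, 0, 2, 0, 0, -2, -2, 0, 0, 0, 0, 0, -2, 0, 0, -2] : List ℤ)],
   Ins.push 0 [([0, 0, -2, -2, 0, 0, 2, 2, 0, -2, -2, 0, 0, 0, 0, 0, 0, -2, 0, 0, 0, 0, 0, -2] : List ℤ)],
   Ins.push 0 [([0, 2, 0, -2, 0, 2, -2, -2, 0, 0, 0, -2, -2, 0, 0, 0, 0, 0, 0, 0, 0, 0, 0, -2] : List ℤ)],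
   Ins.mark,
   Ins.pop,
   Ins.pop,
   Ins.pop,
   Ins.pop,
   Ins.pop,
   Ins.pop,
   Ins.pop,
   Ins.pop,
   Ins.push 1 [([0, -2, 0, 0, 0, 0, 0, 0, -2, 0, -2, 0, 0, 0, 0, -2, 2, 0, 2, 0, 0, 0, -2, -2] : List ℤ)],
   Ins.push 0 [([0, 0, 0, 0, 2, 0, 0, -2, 0, 0, 0, 0, 0, 2, -2, -2, -2, 0, -2, 0, 0, 0, 0, -2] : List ℤ)],
   Ins.push 1 [([0, 0, 0, 2, -2, 0, 0, 0, 0, 0, 0, 0, 0, 0, 0, 0, -2, 0, -2, 0, -2, -2, 2, -2] : List ℤ)],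
   Ins.push 0 [([0, 0, -2, 2, -2, 0, 0, 0, 0, 0, -2, 0, 0, -2, 2, 0, 0, 0, 0, 0, -2, 0, 0, -2] : List ℤ)],
   Ins.push 0 [([0, 0, -2, 2, 0, 0, -2, -2, 0, -2, -2, 0, 0, 0, 0, 0, 0, 2, 0, 0, 0, 0, 0, -2] : List ℤ)],
   Ins.push 0 [([0, -2, 0, 2, 0, -2, -2, -2, 0, 0, 0, 2, -2, 0, 0, 0, 0, 0, 0, 0, 0, 0, 0, -2] : List ℤ)],
   Ins.mark,
   Ins.pop,
   Ins.pop,
   Ins.pop,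
   Ins.pop,
   Ins.pop,
   Ins.push 1 [([0, -2, 0, 0, 2, -2, 0, 0, 0, 0, 0, -2, 0, 0, 0, 0, 2, -2, -2, 0, 0, 0, 0, -2] : List ℤ)],
   Ins.push 0 [([0, 0, 2, 0, -2, 0, 0, 0, 0, 0, 0, -2, 0, 2, 0, 0, 0, 0, -2, -2, 0, -2, 0, -2] : List ℤ)],
   Ins.push 1 [([0, 0, 0, -2, -2, 0, 0, 0, 2, 0, 0, 0, 0, -2, 0, -2, 0, 0, 0, -2, 0, 0, 2, -2] : List ℤ)],
   Ins.push 1 [([0, 0, 0, -2, 0, 2, 0, -2, 0, 0, 0, 0, 0, 0, 0, -2, 0, 2, -2, 0, 0, 0, -2, -2] : List ℤ)],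
   Ins.push 0 [([0, 0, 0, -2, -2, -2, 0, 0, 0, 0, 0, 2, 0, 0, -2, -2, 0, 0, 0, 0, 0, 2, 0, -2] : List ℤ)],
   Ins.push 1 [([0, 0, 0, -2, 0, 0, -2, -2, 0, 0, 0, 0, 0, 2, 0, 0, 0, 0, -2, 2, -2, 0, 0, -2] : List ℤ)],
   Ins.push 0 [([0, -2, 0, -2, -2, -2, 0, 0, 0, 2, -2, 0, 0, 0, 0, 0, 0, 0, 0, 0, 0, 0, 2, -2] : List ℤ)],
   Ins.push 1 [([0, -2, 0, -2, 0, 2, -2, -2, 0, 0, 0, -2, 2, 0, 0, 0, 0, 0, 0, 0, 0, 0, 0, -2] : List ℤ)],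
   Ins.mark,
   Ins.pop,
   Ins.pop,
   Ins.pop,
   Ins.pop,
   Ins.pop,
   Ins.pop,
   Ins.pop,
   Ins.pop,
   Ins.pop,
   Ins.pop,
   Ins.push 1 [([0, 0, -2, -2, 0, 0, 0, 0, -2, 0, 0, 0, 0, -2, 0, 0, -2, 2, 2, 0, 0, 0, 0, -2] : List ℤ)],
   Ins.push 1 [([0, 0, 0, 0, 2, 0, 0, -2, -2, 2, 0, 0, 0, 0, 0, 0, -2, -2, 0, 0, 0, 0, -2, -2] : List ℤ)],
   Ins.push 1 [([0, 0, 0, 2, 0, -2, 0, 0, 0, -2, 0, 0, 2, 0, 0, 0, -2, -2, 0, 0, 0, -2, 0, -2] : List ℤ)],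
   Ins.push 0 [([0, 0, 0, 2, 0, 0, 0, 0, 2, 0, 0, -2, -2, -2, 0, 0, 0, 0, 0, 0, -2, -2, 0, -2] : List ℤ)],
   Ins.push 1 [([0, 0, -2, 0, 0, 0, 0, 2, 0, 0, 0, 0, 0, -2, -2, 0, 0, 2, 0, -2, 0, 0, -2, -2] : List ℤ)],
   Ins.push 1 [([0, 0, 0, 0, 0, -2, 0, 0, -2, 2, 0, 0, 0, 0, 0, -2, 0, 0, 0, 0, -2, 2, -2, -2] : List ℤ)],
   Ins.push 0 [([0, 0, 0, 0, 0, 0, 0, 0, 0, 0, -2, 0, 2, 0, -2, -2, -2, 0, 0, 0, 2, -2, 0, -2] : List ℤ)],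
   Ins.push 1 [([0, -2, 2, 0, 0, 0, 0, 0, 0, 0, 0, 0, 0, 0, 2, 0, -2, 0, -2, -2, -2, 0, 0, -2] : List ℤ)],
   Ins.push 0 [([0, 0, 0, 0, -2, 0, 2, 0, 0, 0, -2, 0, 0, -2, 0, 0, 0, 2, -2, 0, 0, 0, -2, -2] : List ℤ)],
   Ins.push 1 [([0, -2, 0, -2, -2, -2, 0, 0, 0, 2, 2, 0, 0, 0, 0, 0, 0, 0, 0, 0, 0, 0, -2, -2] : List ℤ)],
   Ins.push 1 [([0, 2, 0, -2, 0, -2, -2, -2, 0, 0, 0, -2, 2, 0, 0, 0, 0, 0, 0, 0, 0, 0, 0, -2] : List ℤ)],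
   Ins.mark,
   Ins.pop,
   Ins.pop,
   Ins.pop,
   Ins.pop,
   Ins.pop,
   Ins.pop,
   Ins.pop,
   Ins.pop,
   Ins.push 1 [([0, 0, 0, 0, 0, 0, -2, 2, 0, -2, 0, 0, -2, 0, 2, 0, -2, 0, 0, -2, 0, 0, 0, -2] : List ℤ)],
   Ins.push 1 [([0, 0, 0, 0, 0, 0, 0, 0, 0, 0, -2, 0, -2, 0, -2, -2, -2, 0, 0, 0, 2, 2, 0, -2] : List ℤ)],
   Ins.push 0 [([0, 0, 0, 0, 0, 0, 0, -2, -2, 0, 2, 0, 0, -2, 0, -2, 0, -2, 0, 0, 2, 0, 0, -2] : List ℤ)],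
   Ins.push 1 [([0, 2, 2, 0, 0, 0, 0, 0, 0, -2, 0, 0, 0, 0, 0, 0, 0, -2, -2, 0, 0, -2, -2, -2] : List ℤ)],
   Ins.push 0 [([0, 0, 0, 0, -2, 0, 2, 0, 0, 0, 0, -2, -2, 0, -2, 0, 0, 0, 2, 0, -2, 0, 0, -2] : List ℤ)],
   Ins.push 1 [([0, 0, -2, -2, 2, 0, 0, 0, 0, 0, 2, 0, 0, -2, -2, 0, 0, 0, 0, 0, -2, 0, 0, -2] : List ℤ)],
   Ins.push 0 [([0, 0, 2, -2, 0, 0, -2, 2, 0, -2, -2, 0, 0, 0, 0, 0, 0, -2, 0, 0, 0, 0, 0, -2] : List ℤ)],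
   Ins.push 0 [([0, -2, 0, -2, 0, 2, 2, -2, 0, 0, 0, -2, -2, 0, 0, 0, 0, 0, 0, 0, 0, 0, 0, -2] : List ℤ)],
   Ins.mark,
   Ins.pop,
   Ins.pop,
   Ins.pop,
   Ins.pop,
   Ins.pop,
   Ins.pop,
   Ins.pop,
   Ins.pop,
   Ins.pop,
   Ins.pop,
   Ins.pop,
   Ins.pop,
   Ins.push 0 [([0, 0, 0, 0, -2, 0, 2, 0, 0, 0, -2, 0, 0, -2, 0, 0, 0, -2, -2, 0, 0, 0, 2, -2] : List ℤ)],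
   Ins.push 0 [([0, 2, -2, 0, -2, 0, 0, -2, 0, -2, 0, -2, 0, 0, 2, 0, 0, 0, 0, 0, 0, 0, 0, -2] : List ℤ)],
   Ins.push 1 [([0, 0, 0, -2, 0, 0, 0, 0, -2, 0, 0, 2, -2, -2, 0, 0, 0, 0, 0, 0, 2, -2, 0, -2] : List ℤ)],
   Ins.push 0 [([0, 0, 0, -2, 0, 0, 0, 0, -2, -2, 2, 0, 0, 0, 0, 0, -2, 0, 0, 2, -2, 0, 0, -2] : List ℤ)],
   Ins.push 1 [([0, 2, -2, 0, 0, 0, 0, -2, 0, 0, 0, 0, -2, 0, 0, 2, -2, -2, 0, 0, 0, 0, 0, -2] : List ℤ)],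
   Ins.push 0 [([0, 0, 0, 0, 0, -2, -2, 0, -2, 0, 0, -2, 0, -2, 0, 2, 0, 0, 2, 0, 0, 0, 0, -2] : List ℤ)],
   Ins.push 1 [([0, 0, 0, 0, 2, 0, -2, 0, 0, 0, -2, 0, 0, -2, 0, 0, 0, -2, 2, 0, 0, 0, -2, -2] : List ℤ)],
   Ins.push 1 [([0, -2, 0, 2, 2, -2, 0, 0, 0, -2, -2, 0, 0, 0, 0, 0, 0, 0, 0, 0, 0, 0, -2, -2] : List ℤ)],
   Ins.push 1 [([0, -2, 0, 2, 0, -2, -2, 2, 0, 0, 0, -2, -2, 0, 0, 0, 0, 0, 0, 0, 0, 0, 0, -2] : List ℤ)],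
   Ins.mark,
   Ins.pop,
   Ins.pop,
   Ins.pop,
   Ins.pop,
   Ins.pop,
   Ins.pop,
   Ins.push 1 [([0, 0, 2, 0, 0, 0, 0, -2, 0, 0, 0, 0, 0, 2, -2, 0, 0, -2, 0, -2, 0, 0, -2, -2] : List ℤ)],
   Ins.push 1 [([0, 0, 0, 0, 0, -2, 0, 0, 2, -2, 0, 0, 0, 0, 0, -2, 0, 0, 0, 0, -2, -2, 2, -2] : List ℤ)],
   Ins.push 0 [([0, 0, 0, 0, 0, 0, 0, 0, 0, 0, -2, 0, -2, 0, 2, -2, 2, 0, 0, 0, -2, -2, 0, -2] : List ℤ)],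
   Ins.push 0 [([0, 0, 0, 0, 0, 0, 0, -2, -2, 0, -2, 0, 0, 2, 0, -2, 0, 2, 0, 0, -2, 0, 0, -2] : List ℤ)],
   Ins.push 1 [([0, -2, -2, 0, 0, 0, 0, 0, 0, 2, 0, 0, 0, 0, 0, 0, 0, -2, -2, 0, 0, -2, 2, -2] : List ℤ)],
   Ins.push 0 [([0, 0, 0, 0, -2, 0, -2, 0, 0, 0, 0, -2, 2, 0, 2, 0, 0, 0, -2, 0, -2, 0, 0, -2] : List ℤ)],
   Ins.push 1 [([0, 0, -2, -2, -2, 0, 0, 0, 0, 0, -2, 0, 0, -2, 2, 0, 0, 0, 0, 0, 2, 0, 0, -2] : List ℤ)],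
   Ins.push 0 [([0, 0, -2, -2, 0, 0, -2, -2, 0, -2, 2, 0, 0, 0, 0, 0, 0, 2, 0, 0, 0, 0, 0, -2] : List ℤ)],
   Ins.push 0 [([0, -2, 0, -2, 0, -2, -2, 2, 0, 0, 0, 2, -2, 0, 0, 0, 0, 0, 0, 0, 0, 0, 0, -2] : List ℤ)],
   Ins.mark,
   Ins.pop,
   Ins.pop,
   Ins.pop,
   Ins.pop,
   Ins.pop,
   Ins.pop,
   Ins.push 1 [([0, -2, -2, 0, 0, 0, 0, 0, 0, 0, 0, 0, 0, 0, -2, 0, 2, 0, -2, -2, 2, 0, 0, -2] : List ℤ)],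
   Ins.push 0 [([0, 0, 0, 0, -2, 0, -2, 0, 0, 0, 2, 0, 0, 2, 0, 0, 0, -2, -2, 0, 0, 0, -2, -2] : List ℤ)],
   Ins.push 1 [([0, 2, 0, -2, -2, -2, 0, 0, 0, -2, -2, 0, 0, 0, 0, 0, 0, 0, 0, 0, 0, 0, 2, -2] : List ℤ)],
   Ins.push 1 [([0, -2, 0, -2, 0, 2, -2, -2, 0, 0, 0, 2, -2, 0, 0, 0, 0, 0, 0, 0, 0, 0, 0, -2] : List ℤ)],
   Ins.mark,
   Ins.pop,
   Ins.pop,
   Ins.pop,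
   Ins.pop,
   Ins.pop,
   Ins.push 1 [([0, 0, -2, 0, 0, 2, -2, 0, 0, 0, 0, 0, -2, 0, 0, 0, 0, 2, -2, -2, 0, 0, 0, -2] : List ℤ)],
   Ins.push 1 [([0, 0, 0, 0, -2, 0, 2, 0, -2, 2, -2, 0, 0, 0, -2, -2, 0, 0, 0, 0, 0, 0, 0, -2] : List ℤ)],
   Ins.push 0 [([0, 2, -2, 0, 0, 0, 0, -2, 0, 0, 0, 0, 2, 0, 0, -2, -2, -2, 0, 0, 0, 0, 0, -2] : List ℤ)],
   Ins.push 0 [([0, 0, 0, 0, 0, -2, -2, 0, 2, 0, 0, -2, 0, -2, 0, -2, 0, 0, 2, 0, 0, 0, 0, -2] : List ℤ)],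
   Ins.push 1 [([0, 0, 0, 0, 2, 0, -2, 0, 0, 0, -2, 0, 0, -2, 0, 0, 0, 2, -2, 0, 0, 0, -2, -2] : List ℤ)],
   Ins.push 1 [([0, -2, 0, 2, -2, -2, 0, 0, 0, 2, -2, 0, 0, 0, 0, 0, 0, 0, 0, 0, 0, 0, -2, -2] : List ℤ)],
   Ins.push 1 [([0, -2, 0, -2, 0, -2, -2, 2, 0, 0, 0, -2, 2, 0, 0, 0, 0, 0, 0, 0, 0, 0, 0, -2] : List ℤ)],
   Ins.mark,
   Ins.pop,
   Ins.pop,
   Ins.pop,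
   Ins.pop,
   Ins.pop,
   Ins.pop,
   Ins.pop,
   Ins.pop,
   Ins.pop,
   Ins.pop,
   Ins.push 0 [([0, 0, -2, 0, 0, -2, -2, 0, 0, 0, 0, 0, -2, 0, 0, 0, 0, 2, 2, -2, 0, 0, 0, -2] : List ℤ)],
   Ins.push 1 [([0, 0, 0, 0, 2, 0, -2, 0, -2, 2, -2, 0, 0, 0, -2, -2, 0, 0, 0, 0, 0, 0, 0, -2] : List ℤ)],
   Ins.push 0 [([0, -2, 2, 0, 0, 0, 0, -2, 0, 0, 0, 0, 2, 0, 0, -2, -2, -2, 0, 0, 0, 0, 0, -2] : List ℤ)],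
   Ins.push 0 [([0, 0, 0, 0, 0, -2, 2, 0, 2, 0, 0, -2, 0, -2, 0, -2, 0, 0, -2, 0, 0, 0, 0, -2] : List ℤ)],
   Ins.push 1 [([0, 0, 0, 0, -2, 0, -2, 0, 0, 0, 2, 0, 0, -2, 0, 0, 0, 2, -2, 0, 0, 0, -2, -2] : List ℤ)],
   Ins.push 1 [([0, 2, 0, -2, -2, -2, 0, 0, 0, 2, -2, 0, 0, 0, 0, 0, 0, 0, 0, 0, 0, 0, -2, -2] : List ℤ)],
   Ins.push 1 [([0, -2, 0, -2, 0, -2, -2, -2, 0, 0, 0, 2, 2, 0, 0, 0, 0, 0, 0, 0, 0, 0, 0, -2] : List ℤ)],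
   Ins.mark,
   Ins.pop,
   Ins.pop,
   Ins.pop,
   Ins.pop,
   Ins.pop,
   Ins.pop,
   Ins.pop,
   Ins.pop,
   Ins.push 1 [([0, -2, 0, -2, -2, 2, 0, 0, 0, -2, 2, 0, 0, 0, 0, 0, 0, 0, 0, 0, 0, 0, -2, -2] : List ℤ)],
   Ins.push 0 [([0, 0, -2, -2, 0, 0, 0, 2, 0, 0, 0, 0, -2, 0, -2, 0, 0, 0, -2, 0, 0, 2, 0, -2] : List ℤ)],
   Ins.push 1 [([0, 0, 0, 0, -2, 0, 0, -2, -2, 0, 0, 0, 0, 0, -2, 0, 0, 0, 0, 2, -2, 2, 0, -2] : List ℤ)],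
   Ins.push 1 [([0, 0, -2, -2, 0, 0, 0, 0, 0, 0, 0, 0, 0, 0, 0, 2, 0, -2, 0, 2, -2, -2, 0, -2] : List ℤ)],
   Ins.push 0 [([0, 0, 0, -2, 0, 0, -2, 0, 0, 0, -2, -2, 0, 0, 0, 2, 0, 0, 0, 0, -2, 0, 2, -2] : List ℤ)],
   Ins.push 1 [([0, -2, -2, 0, 0, 2, 0, -2, 0, 0, -2, 0, 0, -2, 0, 0, 0, 0, 2, 0, 0, 0, 0, -2] : List ℤ)],
   Ins.push 1 [([0, -2, 0, 0, 2, 0, 2, 0, -2, 0, 0, -2, 0, 0, 0, 0, 0, 0, 0, 0, 0, -2, -2, -2] : List ℤ)],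
   Ins.push 0 [([0, 2, 2, 0, 0, 0, 0, 0, 0, 0, 0, 0, 0, 0, -2, 0, -2, 0, -2, -2, -2, 0, 0, -2] : List ℤ)],
   Ins.push 0 [([0, 0, 0, 0, -2, 0, 2, 0, 0, 0, -2, 0, 0, -2, 0, 0, 0, -2, 2, 0, 0, 0, -2, -2] : List ℤ)],
   Ins.push 1 [([0, -2, 0, -2, 2, -2, 0, 0, 0, -2, 2, 0, 0, 0, 0, 0, 0, 0, 0, 0, 0, 0, -2, -2] : List ℤ)],
   Ins.push 1 [([0, 2, 0, 2, 0, -2, -2, -2, 0, 0, 0, -2, -2, 0, 0, 0, 0, 0, 0, 0, 0, 0, 0, -2] : List ℤ)],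
   Ins.mark,
   Ins.pop,
   Ins.pop,
   Ins.pop,
   Ins.pop,
   Ins.pop,
   Ins.pop,
   Ins.pop,
   Ins.push 1 [([0, 0, -2, 0, 0, 0, 0, -2, -2, -2, 0, 0, 0, 0, 0, 2, 0, 0, 2, -2, 0, 0, 0, -2] : List ℤ)],
   Ins.push 0 [([0, 0, 0, 0, 2, -2, -2, 0, 0, 0, 0, 0, -2, 0, 0, 2, -2, 0, 0, 0, 0, 0, -2, -2] : List ℤ)],
   Ins.push 1 [([0, 0, 0, 2, 0, -2, -2, 0, 0, 0, -2, 0, 0, 0, -2, 0, -2, 0, 2, 0, 0, 0, 0, -2] : List ℤ)],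
   Ins.push 1 [([0, -2, 0, 0, 2, 0, -2, 2, 0, 0, -2, 0, 0, 0, 0, 0, -2, 0, 0, 0, -2, 0, 0, -2] : List ℤ)],
   Ins.push 1 [([0, -2, -2, 2, 0, 0, 0, 0, 0, 0, -2, -2, 0, 0, 0, 0, -2, 0, 0, 0, 0, 2, 0, -2] : List ℤ)],
   Ins.push 0 [([0, 0, 0, 2, 0, 0, -2, -2, 0, 0, 0, 0, 0, -2, 0, 0, 0, 0, -2, -2, 2, 0, 0, -2] : List ℤ)],
   Ins.push 0 [([0, -2, 0, 2, -2, -2, 0, 0, 0, -2, 2, 0, 0, 0, 0, 0, 0, 0, 0, 0, 0, 0, -2, -2] : List ℤ)],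
   Ins.push 1 [([0, 2, 0, -2, 0, -2, -2, 2, 0, 0, 0, -2, -2, 0, 0, 0, 0, 0, 0, 0, 0, 0, 0, -2] : List ℤ)],
   Ins.mark,
   Ins.pop,
   Ins.pop,
   Ins.pop,
   Ins.pop,
   Ins.pop,
   Ins.pop,
   Ins.pop,
   Ins.pop,
   Ins.pop,
   Ins.push 0 [([0, 0, -2, 0, 0, -2, 0, 0, 0, 0, -2, 0, 0, 0, 0, 0, -2, -2, 0, 0, 2, 0, 2, -2] : List ℤ)],
   Ins.push 0 [([0, 0, 0, 0, 0, 0, -2, -2, 0, 0, 2, -2, 0, -2, 2, 0, 0, 0, 0, 0, 0, -2, 0, -2] : List ℤ)],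
   Ins.push 1 [([0, 2, 0, 0, 0, 0, 0, 0, 0, 0, -2, 0, 0, -2, 0, 0, 0, 0, 0, -2, 2, -2, -2, -2] : List ℤ)],
   Ins.push 1 [([0, -2, 2, 0, 0, -2, 0, 0, 0, 0, 0, 2, 0, 0, 0, -2, 0, 0, 0, -2, 0, 0, -2, -2] : List ℤ)],
   Ins.push 1 [([0, 0, 0, 0, 0, -2, -2, 0, 2, 0, 0, -2, 0, 2, 0, -2, 0, 0, -2, 0, 0, 0, 0, -2] : List ℤ)],
   Ins.push 1 [([0, 0, 0, 0, -2, 0, -2, 0, 0, 0, -2, 0, 0, -2, 0, 0, 0, 2, -2, 0, 0, 0, 2, -2] : List ℤ)],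
   Ins.push 1 [([0, -2, 0, -2, -2, 2, 0, 0, 0, 2, -2, 0, 0, 0, 0, 0, 0, 0, 0, 0, 0, 0, -2, -2] : List ℤ)],
   Ins.push 1 [([0, -2, 0, -2, 0, -2, 2, -2, 0, 0, 0, -2, 2, 0, 0, 0, 0, 0, 0, 0, 0, 0, 0, -2] : List ℤ)],
   Ins.mark,
   Ins.pop,
   Ins.pop,
   Ins.pop,
   Ins.pop,
   Ins.pop,
   Ins.pop,
   Ins.pop,
   Ins.pop,
   Ins.pop,
   Ins.push 0 [([0, 0, 0, -2, -2, 2, -2, 0, -2, 0, 0, 0, 0, 0, 0, 0, 0, -2, 0, 0, 2, 0, 0, -2] : List ℤ)],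
   Ins.push 0 [([0, -2, -2, -2, 0, 0, 0, 0, 0, 0, 2, -2, 0, 0, 0, 0, -2, 0, 0, 0, 0, 2, 0, -2] : List ℤ)],
   Ins.push 1 [([0, 2, 0, 0, 0, 0, 0, -2, -2, 0, 0, -2, 0, -2, 0, 0, -2, 0, 0, 2, 0, 0, 0, -2] : List ℤ)],
   Ins.push 1 [([0, 0, 0, 0, 0, 0, 0, 0, 0, 0, 0, 2, 0, -2, 0, 2, -2, -2, 0, 0, 0, -2, -2, -2] : List ℤ)],
   Ins.push 0 [([0, 0, 0, 0, 0, 0, 0, 0, 0, -2, 0, -2, 0, -2, -2, 2, 0, 0, 0, 2, -2, 0, 0, -2] : List ℤ)],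
   Ins.push 1 [([0, 0, -2, 0, 0, 0, 0, 0, 0, 0, 0, 0, -2, -2, 0, 2, 0, 0, 2, 0, -2, 0, -2, -2] : List ℤ)],
   Ins.push 1 [([0, 0, -2, 0, 2, -2, 0, 0, -2, 0, 0, 0, 0, 0, -2, 0, 0, 0, 2, 0, 0, 0, -2, -2] : List ℤ)],
   Ins.push 1 [([0, 0, 0, 2, 2, -2, -2, 0, -2, 0, 0, 0, 0, 0, 0, 0, 0, -2, 0, 0, -2, 0, 0, -2] : List ℤ)],
   Ins.push 1 [([0, 0, -2, 2, 0, 0, -2, 2, 0, -2, -2, 0, 0, 0, 0, 0, 0, -2, 0, 0, 0, 0, 0, -2] : List ℤ)],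
   Ins.push 0 [([0, -2, 0, 2, 0, 2, -2, -2, 0, 0, 0, -2, -2, 0, 0, 0, 0, 0, 0, 0, 0, 0, 0, -2] : List ℤ)],
   Ins.mark,
   Ins.pop,
   Ins.pop,
   Ins.pop,
   Ins.pop,
   Ins.pop,
   Ins.pop,
   Ins.pop,
   Ins.pop,
   Ins.pop,
   Ins.pop,
   Ins.pop,
   Ins.push 1 [([0, 2, 0, -2, 0, -2, 2, -2, 0, 0, 0, -2, -2, 0, 0, 0, 0, 0, 0, 0, 0, 0, 0, -2] : List ℤ)],
   Ins.mark,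
   Ins.push 0 [([0, 2, 0, -2, 0, -2, 0, 0, -2, 0, 0, 0, 0, 0, 0, 0, 0, 0, 2, -2, 0, -2, 0, -2] : List ℤ)],
   Ins.push 1 [([0, 0, 0, 0, 2, 0, -2, -2, 0, 0, 0, 2, 0, 0, 0, -2, 0, -2, 0, -2, 0, 0, 0, -2] : List ℤ)],
   Ins.push 1 [([0, 0, 0, 2, 0, 0, 0, 0, 0, -2, -2, 0, 0, 2, 0, -2, 0, 0, -2, 0, 0, -2, 0, -2] : List ℤ)],
   Ins.push 1 [([0, -2, 0, 0, -2, 0, 0, 2, 0, 0, 0, 0, -2, 0, 0, 0, 0, 0, -2, -2, 0, 0, 2, -2] : List ℤ)],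
   Ins.push 0 [([0, 0, -2, 0, -2, 2, 0, 0, -2, 0, 0, 0, 0, 0, 2, 0, 0, 0, -2, 0, 0, 0, -2, -2] : List ℤ)],
   Ins.push 1 [([0, 0, 0, -2, -2, -2, 2, 0, -2, 0, 0, 0, 0, 0, 0, 0, 0, -2, 0, 0, 2, 0, 0, -2] : List ℤ)],
   Ins.push 0 [([0, 2, -2, -2, 0, 0, 0, 0, 0, 0, 2, -2, 0, 0, 0, 0, -2, 0, 0, 0, 0, -2, 0, -2] : List ℤ)],
   Ins.push 0 [([0, 0, 0, -2, 0, 0, -2, 2, 0, 0, 0, 0, 0, -2, 0, 0, 0, 0, 2, -2, -2, 0, 0, -2] : List ℤ)],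
   Ins.push 0 [([0, -2, 0, -2, 2, 2, 0, 0, 0, -2, -2, 0, 0, 0, 0, 0, 0, 0, 0, 0, 0, 0, -2, -2] : List ℤ)],
   Ins.push 1 [([0, -2, 0, 2, 0, -2, 2, -2, 0, 0, 0, -2, -2, 0, 0, 0, 0, 0, 0, 0, 0, 0, 0, -2] : List ℤ)],
   Ins.mark,
   Ins.pop,
   Ins.pop,
   Ins.pop,
   Ins.pop,
   Ins.push 1 [([0, 0, 2, -2, 0, 0, -2, -2, 0, -2, 2, 0, 0, 0, 0, 0, 0, -2, 0, 0, 0, 0, 0, -2] : List ℤ)],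
   Ins.push 0 [([0, -2, 0, -2, 0, -2, 2, 2, 0, 0, 0, -2, -2, 0, 0, 0, 0, 0, 0, 0, 0, 0, 0, -2] : List ℤ)],
   Ins.mark,
   Ins.pop,
   Ins.pop,
   Ins.pop,
   Ins.pop,
   Ins.pop,
   Ins.push 0 [([0, 0, 0, 2, -2, 0, 0, -2, 0, 2, 0, 0, -2, 0, 0, -2, 0, 0, 0, 0, -2, 0, 0, -2] : List ℤ)],
   Ins.push 1 [([0, 0, -2, -2, 0, 0, 0, 2, 0, 0, 0, 0, 2, 0, -2, 0, 0, 0, -2, 0, 0, -2, 0, -2] : List ℤ)],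
   Ins.push 0 [([0, 0, 0, -2, -2, 2, -2, 0, 2, 0, 0, 0, 0, 0, 0, 0, 0, -2, 0, 0, -2, 0, 0, -2] : List ℤ)],
   Ins.push 1 [([0, 0, -2, -2, 0, 0, 2, -2, 0, -2, -2, 0, 0, 0, 0, 0, 0, 2, 0, 0, 0, 0, 0, -2] : List ℤ)],
   Ins.push 0 [([0, 2, 0, -2, 0, -2, -2, -2, 0, 0, 0, 2, -2, 0, 0, 0, 0, 0, 0, 0, 0, 0, 0, -2] : List ℤ)],
   Ins.mark,
   Ins.pop,
   Ins.pop,
   Ins.pop,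
   Ins.pop,
   Ins.pop,
   Ins.pop,
   Ins.push 0 [([0, -2, 2, 0, 0, -2, 0, 0, 0, 0, 0, -2, 0, 0, 0, -2, 0, 0, 0, 2, 0, 0, -2, -2] : List ℤ)],
   Ins.push 1 [([0, 0, 0, 0, 0, -2, -2, 0, 2, 0, 0, -2, 0, -2, 0, 2, 0, 0, -2, 0, 0, 0, 0, -2] : List ℤ)],
   Ins.push 1 [([0, 0, 0, 0, -2, 0, -2, 0, 0, 0, -2, 0, 0, -2, 0, 0, 0, 2, 2, 0, 0, 0, -2, -2] : List ℤ)],
   Ins.push 1 [([0, -2, 0, -2, 2, -2, 0, 0, 0, 2, -2, 0, 0, 0, 0, 0, 0, 0, 0, 0, 0, 0, -2, -2] : List ℤ)],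
   Ins.push 1 [([0, -2, 0, 2, 0, -2, -2, -2, 0, 0, 0, -2, 2, 0, 0, 0, 0, 0, 0, 0, 0, 0, 0, -2] : List ℤ)],
   Ins.mark,
   Ins.pop,
   Ins.pop,
   Ins.pop,
   Ins.pop,
   Ins.pop,
   Ins.pop,
   Ins.pop,
   Ins.pop,
   Ins.pop,
   Ins.pop,
   Ins.pop,
   Ins.push 1 [([-2, -2, 0, -2, 0, 0, 0, -2, -2, 0, 0, -2, 0, 0, -2, 0, 0, 0, 0, 0, 0, -2, 0, 0] : List ℤ)],
   Ins.push 2 [([-2, -2, 0, 2, 0, 0, 0, 2, 2, 0, 0, 2, 0, 0, -2, 0, 0, 0, 0, 0, 0, -2, 0, 0] : List ℤ), ([0, 0, -2, 2, 0, 0, 0, 2, 0, 0, 0, 0, -2, 0, -2, 0, 0, 0, -2, 0, 0, -2, 0, -2] : List ℤ), ([-2, -2, -2, 0, 0, -2, 0, -2, 0, 0, 0, -2, 0, 0, 0, 0, 2, 0, 0, 0, 2, 0, 0, 0] : List ℤ), ([-1, -1, -1, 1, -1, -1, 1, -1, 1, -1, -1, -1, 1, -1, 1, -1, 1, 1, 1, 1, 1, 1, -1,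 -3] : List ℤ), ([-1, -3, -1, 1, 1, 1, -1, 1, 1, 1, 1, 1, 1, -1, 1, 1, -1, -1, -1, -1, -1, -1, -1, -1] : List ℤ), ([-1, 3, 1, 1, 1, 1, 1, -1, -1, 1, -1, -1, 1, -1, 1, -1, -1, -1, -1, -1, -1, -1, -1, -1] : List ℤ), ([-1, 1, -1, -1, -1, 1, 3, 1, -1, -1, -1, 1, -1, 1, 1, 1, -1, 1, -1, -1, -1, -1, -1, -1] : List ℤ), ([0, -2, 0, -2, 0, 0, 2, 0, 0, 0, 0, 2, 0, 2, 0, 2, 0, 0, 0, -2, 0, -2, 0, 0] : List ℤ), ([0, 0, 2, 2, 0, 0, -2, 2, 0, 0, 0, 0, -2, 0, 0, -2, 0, 0, 0, 2, 0, 0, -2, 0] : List ℤ), ([0, 0, -2, -2, 0, 0, -2, 2, 0, 0, 0, 0, -2, 0, 0, -2, 0, 0, 0, 2, 0, 0, -2, 0] : List ℤ), ([-1, -1, 1, -1, 1, 1, -3, 1, 1, 1, 1, 1, -1, 1, 1, -1, 1, 1, 1, 1, 1, -1, -1, -1] : List ℤ), ([-1, -3, 1, -1, 1, 1, 1, 1, -1, 1, 1, 1, 1, 1, -1,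 -1, 1, 1, -1, 1, -1, 1, 1, -1] : List ℤ), ([-1, 3, -1, 1, -1, -1, 1, 1, 1, 1, 1, -1, 1, -1, -1, -1, 1, 1, -1, 1, -1, 1, 1, -1] : List ℤ), ([-1, -3, -1, -1, 1, -1, -1, -1, -1, -1, 1, -1, 1, -1, -1, -1, 1, 1, -1, -1, -1, 1, 1, -1] : List ℤ), ([-1, -1, 1, -1, -1, -1, -1, 1, 1, -1, -1, 1, -1, 1, 1, -1, -1, -1, -3, -1, 1, -1, -1, -1] : List ℤ), ([-1, -1, -1, 1, -1, -1, -1, -1, -1, 1, -1, -1, 1, 1, 1, -1, 1, -1, -3, -1, 1, -1, -1, -1] : List ℤ), ([-1, -1, -1, 1, -1, -1, 1, 1, 1, 1, -1, 1, 3, 1, 1, -1, 1, -1, -1, 1, 1, 1, -1, -1] : List ℤ), ([-1, -1, 3, -1, 1, -1, -1, 1, 1, -1, -1, 1, -1, 1, 1, 1, 1, 1, -1, 1, 1, -1, 1, -1] : List ℤ), ([1, 1, -3, -1, -1, -1, -1, 1, 1, -1, -1, 1, -1, -1, 1, 1, -1, 1, -1, 1, 1, -1, -1, 1] : List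 ℤ), ([-3, 1, 1, -1, -1, -1, -1, 1, 1, -1, -1, 1, -1, -1, 1, 1, -1, 1, -1, 1, 1, -1, -1, 1] : List ℤ), ([-3, -1, -1, -1, -1, -1, 1, -1, -1, -1, 1, -1, -1, -1, 1, -1, -1, 1, -1, 1, 1, -1, -1, 1] : List ℤ), ([1, -1, 1, -1, -1, -1, -1, -1, -1, -1, -1, 1, -1, -1, 1, -1, -1, -1, -1, -1, 1, 1, -3, 1] : List ℤ), ([0, 2, 0, 0, 2, 0, 0, 0, 0, 0, 0, 2, 0, 2, 2, 0, 2, 0, 0, 0, 2, 2, 0, 0] : List ℤ), ([0, 0, 2, 0, 0, 0, 0, 2, 2, 0, 2, 0, 2, 0, 0, 0, 0, 2, 2, 0, 0, 0, 2, 0] : List ℤ), ([0, 0, -2, 0, 0, 0, 0, 2, -2, 0, 2, 0, 2, 0, 0, 0, 0, 2, 2, 0, 0, 0, 2, 0] : List ℤ), ([-1, -1, 1, -1, -1, -1, -1, 1, -3, -1, 1, -1, 1, -1, -1, -1, -1, 1, 1, -1, -1, -1, 1, -1] : List ℤ), ([-1, -1, -1, -1, 1, 1, 1, 1, 1, -1, -1, 1, -1, -1, 1, -1, -3,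 -1, -1, -1, -1, -1, -1, -1] : List ℤ), ([-1, 1, 1, 1, -1, -1, 1, 1, -1, -1, -1, -1, -1, 1, 1, -1, -3, -1, -1, -1, -1, -1, -1, -1] : List ℤ), ([-1, -1, 1, -1, 1, -1, -1, -1, 1, 1, -1, -1, -1, 1, 1, -1, -3, -1, -1, 1, -1, -1, -1, -1] : List ℤ)],
   Ins.push 1 [([-1, -1, -1, 1, -1, -1, -1, -1, 1, -1, -1, -1, 1, -1, -1, 1, -3, 1, -1, -1, 1, -1, 1, -1] : List ℤ)],
   Ins.push 0 [([-1, -1, -1, 1, -1, -1, -1, -1, 1, -1, 1, 1, -1, -3, 1, 1, 1, -1, -1, -1, -1, -1, -1, -1] : List ℤ)],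
   Ins.push 0 [([-1, -1, -1, 1, -1, -1, -1, 1, -1, -3, -1, -1, -1, 1, -1, 1, 1, 1, -1, 1, -1, -1, -1, -1] : List ℤ)],
   Ins.push 1 [([-1, -1, -1, -1, -1, -1, -1, 1, -1, 1, -1, -1, -3, -1, -1, 1, 1, -1, 1, -1, -1, 1, 1, -1] : List ℤ)],
   Ins.push 1 [([-1, -1, -1, -1, 1, 1, -1, -1, -1, -1, -1, -1, 1, -1, -3, -1, 1, -1, 1, 1, -1, 1, -1, -1] : List ℤ)],
   Ins.push 1 [([-1, -1, -1, 1, 1, -1, 1, -1, -1, -1, -1, -1, -1, -1, 1, 1, 1, -1, -1, 1, -3, -1, -1, -1] : List ℤ)],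
   Ins.push 1 [([-1, -1, -3, 1, -1, -1, -1, 1, -1, -1, 1, -1, -1, -1, -1, 1, 1, -1, 1, -1, 1, -1, -1, -1] : List ℤ)],
   Ins.push 0 [([-1, -1, -1, 1, 1, 1, -3, 1, -1, -1, 1, -1, -1, 1, -1, 1, -1, -1, -1, -1, -1, -1, -1, -1] : List ℤ)],
   Ins.push 1 [([-1, 1, -1, 1, -1, -1, 1, 1, -1, -1, -3, -1, -1, -1, -1, -1, -1, -1, 1, -1, -1, 1, 1, -1] : List ℤ)],
   Ins.push 1 [([-1, -3, -1, -1, 1, 1, -1, 1, -1, -1, 1, 1, -1, -1, -1, -1, -1, -1, -1, 1, -1, 1, -1, -1] : List ℤ)],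
   Ins.push 0 [([-1, -1, 1, -1, -1, 1, -1, 1, -1, -1, -1, -1, -1, -1, -1, -1, -1, -1, -3, 1, 1, 1, 1, -1] : List ℤ)],
   Ins.mark,
   Ins.pop,
   Ins.pop,
   Ins.pop,
   Ins.pop,
   Ins.pop,
   Ins.pop,
   Ins.pop,
   Ins.pop,
   Ins.push 0 [([-1, -1, -1, 1, -1, 1, -1, -1, -1, 1, -1, 1, -3, 1, -1, 1, -1, -1, -1, -1, -1, -1, 1, -1] : List ℤ)],
   Ins.push 1 [([-1, -1, -1, -1, -1, 1, 1, 1, -1, -1, -1, -1, 1, 1, -3, -1, -1, -1, 1, -1, -1, -1, 1, -1] : List ℤ)],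
   Ins.push 1 [([-1, -1, -1, -1, 1, 1, 1, -1, -1, -1, 1, -1, -1, -1, 1, -1, -1, -1, -1, -1, -3, 1, 1, -1] : List ℤ)],
   Ins.push 1 [([-1, 1, -3, 1, -1, 1, 1, -1, -1, -1, 1, -1, -1, -1, -1, -1, -1, -1, -1, 1, 1, -1, -1, -1] : List ℤ)],
   Ins.push 0 [([-1, 1, -1, 1, -1, -1, -3, 1, -1, -1, 1, -1, -1, -1, -1, -1, -1, -1, 1, -1, -1, 1, 1, -1] : List ℤ)],
   Ins.push 1 [([-1, 1, -1, -1, 1, 1, -1, 1, -1, -1, -3, 1, -1, -1, -1, -1, -1, -1, -1, 1, -1, 1, -1, -1] : List ℤ)],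
   Ins.push 0 [([-1, -1, 1, -1, -1, 1, -1, -3, -1, -1, -1, -1, -1, -1, -1, -1, -1, -1, 1, 1, 1, 1, 1, -1] : List ℤ)],
   Ins.mark,
   Ins.pop,
   Ins.pop,
   Ins.pop,
   Ins.pop,
   Ins.push 0 [([-1, 1, 1, -1, -1, -1, -1, 1, -1, -1, -3, -1, -1, -1, 1, -1, -1, 1, -1, -1, 1, 1, -1, -1] : List ℤ)],
   Ins.push 0 [([-1, -1, -1, -1, -1, 1, 1, -3, -1, -1, 1, 1, -1, -1, -1, -1, -1, 1, 1, -1, 1, -1, -1, -1] : List ℤ)],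
   Ins.push 0 [([-1, 1, -1, -1, 1, -3, -1, 1, -1, -1, 1, 1, -1, -1, -1, -1, -1, -1, -1, 1, -1, 1, -1, -1] : List ℤ)],
   Ins.push 0 [([-1, -1, 1, -1, -1, 1, -1, 1, -1, -1, -1, -1, -1, -1, -1, -1, -1, -1, 1, 1, 1, -3, 1, -1] : List ℤ)],
   Ins.mark,
   Ins.pop,
   Ins.pop,
   Ins.pop,
   Ins.pop,
   Ins.pop,
   Ins.pop,
   Ins.push 0 [([-1, -1, -1, 1, -1, -1, -1, -1, -3, 1, -1, -1, 1, -1, 1, 1, -1, -1, -1, 1, -1, 1, -1, -1] : List ℤ)],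
   Ins.push 1 [([-1, -1, -1, -1, -1, -1, -1, 1, -1, -1, -1, -1, 1, -1, 1, 1, -1, -3, 1, 1, 1, -1, -1, -1] : List ℤ)],
   Ins.push 0 [([-1, -1, -1, -1, 1, 1, -1, -1, 1, -1, 1, -3, -1, -1, -1, 1, -1, 1, -1, -1, -1, -1, 1, -1] : List ℤ)],
   Ins.push 1 [([-1, 1, -1, 1, -1, 1, 1, -1, -1, 1, -1, -1, -1, -3, -1, -1, -1, 1, 1, -1, -1, -1, -1, -1] : List ℤ)],
   Ins.push 0 [([-1, 1, -1, 1, 1, -1, -1, -1, -1, -3, -1, 1, 1, -1, -1, -1, -1, -1, 1, -1, -1, 1, -1, -1] : List ℤ)],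
   Ins.push 1 [([-1, -1, -1, 1, 1, -1, -1, 1, -1, -1, -1, 1, -3, 1, 1, -1, -1, -1, -1, 1, -1, -1, -1, -1] : List ℤ)],
   Ins.push 1 [([-1, -1, -1, 1, -1, -1, -1, 1, -1, -1, -1, -1, -1, 1, -3, 1, -1, -1, -1, -1, 1, 1, 1, -1] : List ℤ)],
   Ins.push 1 [([-1, -1, 1, -1, -1, 1, -1, 1, -1, -1, -1, -1, -1, -1, -1, -1, -1, -1, 1, 1, -3, 1, 1, -1] : List ℤ)],
   Ins.mark,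
   Ins.pop,
   Ins.pop,
   Ins.pop,
   Ins.pop,
   Ins.pop,
   Ins.pop,
   Ins.pop,
   Ins.pop,
   Ins.pop,
   Ins.pop,
   Ins.push 1 [([-1, 1, -1, -1, -1, -1, -1, 1, -1, -1, -1, -1, -1, 1, -1, -1, 1, 1, 1, -1, 1, -1, -3, -1] : List ℤ)],
   Ins.push 1 [([-1, -1, 1, -1, 1, -3, -1, -1, -1, 1, -1, 1, -1, -1, -1, -1, 1, -1, -1, -1, -1, 1, 1, -1] : List ℤ)],
   Ins.push 1 [([-1, -1, -1, 1, -1, 1, -3, -1, 1, -1, -1, -1, 1, 1, -1, -1, 1, -1, -1, 1, -1, -1, -1, -1] : List ℤ)],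
   Ins.push 1 [([-1, -1, -1, -1, -1, -1, 1, 1, -1, -1, -3, -1, -1, -1, 1, 1, 1, 1, -1, -1, -1, -1, 1, -1] : List ℤ)],
   Ins.push 0 [([-1, 1, -1, -1, -1, 1, -1, -3, -1, -1, -1, 1, -1, 1, 1, 1, -1, 1, -1, -1, -1, -1, -1, -1] : List ℤ)],
   Ins.push 1 [([-1, -1, -1, -1, -1, -1, 1, -1, -1, 1, -1, 1, -1, 1, -1, -1, -1, -1, 1, -1, 1, -3, 1, -1] : List ℤ)],
   Ins.push 1 [([-1, -1, 1, -1, 1, 1, -1, -1, -1, -1, 1, -1, 1, 1, -1, -1, -1, -1, -1, -3, -1, -1, 1, -1] : List ℤ)],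
   Ins.push 1 [([-1, 1, -1, 1, -1, 1, 1, -1, 1, -1, -1, -1, -1, -1, 1, -3, -1, -1, -1, -1, -1, -1, 1, -1] : List ℤ)],
   Ins.push 1 [([-1, -1, -1, -1, -1, 1, 1, 1, -1, -1, 1, 1, -1, -1, -1, -1, -1, 1, -3, -1, 1, -1, -1, -1] : List ℤ)],
   Ins.push 0 [([-1, 1, -1, -1, -3, 1, -1, 1, -1, -1, 1, 1, -1, -1, -1, -1, -1, -1, -1, 1, -1, 1, -1, -1] : List ℤ)],
   Ins.push 0 [([-1, -1, -3, -1, -1, 1, -1, 1, -1, -1, -1, -1, -1, -1, -1, -1, -1, -1, 1, 1, 1, 1, 1, -1] : List ℤ)],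
   Ins.mark,
   Ins.pop,
   Ins.pop,
   Ins.pop,
   Ins.pop,
   Ins.pop,
   Ins.pop,
   Ins.pop,
   Ins.pop,
   Ins.pop,
   Ins.pop,
   Ins.pop,
   Ins.pop,
   Ins.pop,
   Ins.push 0 [([-1, -1, 1, -1, -1, -1, 1, -1, -1, 1, -1, -1, 1, -3, -1, -1, 1, 1, -1, -1, -1, -1, 1, -1] : List ℤ)],
   Ins.push 1 [([-1, -1, -1, -1, -1, 1, -1, -1, 1, 1, 1, -1, 1, -1, 1, -1, 1, -1, -1, -1, -1, -1, -3, -1] : List ℤ)],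
   Ins.push 1 [([-1, 1, -1, -1, -1, -3, 1, -1, -1, -1, -1, -1, 1, -1, 1, -1, 1, 1, -1, -1, 1, -1, -1, -1] : List ℤ)],
   Ins.push 0 [([-1, 1, -1, -1, -1, -1, -1, -1, 1, -1, 1, 1, -1, 1, -1, -1, -1, 1, 1, -1, -1, -3, -1, -1] : List ℤ)],
   Ins.push 0 [([-1, -1, -1, -1, 1, -1, -1, 1, -1, 1, -1, 1, -1, -1, -1, -1, 1, -1, 1, 1, -3, -1, -1, -1] : List ℤ)],
   Ins.push 0 [([-1, -1, 1, -1, 1, 1, -1, -1, -1, -1, -3, -1, 1, 1, -1, -1, -1, -1, -1, 1, -1, -1, 1, -1] : List ℤ)],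
   Ins.push 1 [([-1, -3, -1, 1, -1, 1, 1, -1, 1, -1, -1, -1, -1, -1, 1, 1, -1, -1, -1, -1, -1, -1, 1, -1] : List ℤ)],
   Ins.push 1 [([-1, -1, -1, -1, -1, 1, 1, 1, -1, -1, 1, -3, -1, -1, -1, -1, -1, 1, 1, -1, 1, -1, -1, -1] : List ℤ)],
   Ins.push 0 [([-1, 1, -1, -1, 1, 1, -1, 1, -1, -1, 1, 1, -1, -1, -1, -1, -1, -1, -1, -3, -1, 1, -1, -1] : List ℤ)],
   Ins.push 0 [([-1, -1, 1, -1, -1, 1, -1, 1, -1, -1, -1, -1, -1, -1, -1, -1, -1, -1, 1, 1, 1, 1, -3, -1] : List ℤ)],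
   Ins.mark,
   Ins.pop,
   Ins.pop,
   Ins.pop,
   Ins.pop,
   Ins.pop,
   Ins.pop,
   Ins.pop,
   Ins.pop,
   Ins.push 0 [([-1, -1, -1, -1, -1, -1, -1, 1, 1, -1, -1, -1, 1, 1, -3, -1, 1, 1, -1, -1, -1, 1, -1, -1] : List ℤ)],
   Ins.push 1 [([-1, -1, -1, -1, -1, -1, -1, -1, -1, 1, -1, -1, -1, -1, 1, -1, 1, 1, -1, 1, -3, 1, 1, -1] : List ℤ)],
   Ins.push 1 [([-1, -1, -3, -1, -1, 1, -1, -1, -1, 1, -1, -1, 1, -1, -1, 1, 1, -1, -1, 1, 1, -1, -1, -1] : List ℤ)],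
   Ins.push 1 [([-1, -1, 1, -1, -1, -1, 1, -1, -3, -1, -1, -1, 1, -1, 1, 1, 1, -1, 1, -1, -1, -1, -1, -1] : List ℤ)],
   Ins.push 0 [([-1, 1, -1, -1, 1, -1, 1, -1, 1, -1, -1, -1, -1, 1, -1, 1, -3, 1, -1, -1, -1, -1, -1, -1] : List ℤ)],
   Ins.push 1 [([-1, -1, -1, 1, -1, -1, -1, -1, -1, 1, 1, 1, -1, -1, -1, -1, -3, 1, 1, -1, -1, -1, 1, -1] : List ℤ)],
   Ins.push 0 [([-1, -1, -1, 1, 1, -1, -1, 1, -1, -1, -1, 1, 1, -3, 1, -1, -1, -1, -1, 1, -1, -1, -1, -1] : List ℤ)],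
   Ins.push 1 [([-1, -1, -1, 1, -1, -1, -1, 1, -1, -1, -1, -1, -1, 1, 1, 1, -1, -1, -1, -1, 1, 1, -3, -1] : List ℤ)],
   Ins.push 1 [([-1, -1, 1, -1, -1, -3, -1, 1, -1, -1, -1, -1, -1, -1, -1, -1, -1, -1, 1, 1, 1, 1, 1, -1] : List ℤ)],
   Ins.mark,
   Ins.pop,
   Ins.pop,
   Ins.pop,
   Ins.pop,
   Ins.pop,
   Ins.pop,
   Ins.pop,
   Ins.pop,
   Ins.pop,
   Ins.pop,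
   Ins.push 0 [([-1, 1, -1, -1, -1, -1, 1, -1, 1, -3, -1, 1, 1, 1, 1, -1, -1, -1, -1, -1, -1, -1, -1, -1] : List ℤ)],
   Ins.push 1 [([-1, -1, -1, -1, -1, -1, -1, -1, -1, -1, 1, 1, -3, 1, 1, -1, -1, 1, -1, -1, 1, -1, 1, -1] : List ℤ)],
   Ins.push 1 [([-1, 1, 1, -1, -1, 1, -1, -1, -1, 1, -1, -1, -1, 1, -3, -1, -1, -1, -1, -1, 1, -1, 1, -1] : List ℤ)],
   Ins.push 0 [([-1, -1, -1, -1, -1, -1, 1, -1, -1, 1, 1, -1, 1, -1, 1, -1, -1, -3, 1, -1, -1, 1, -1, -1] : List ℤ)],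
   Ins.push 0 [([-1, 1, -1, -1, 1, -1, -1, 1, 1, -1, -1, -3, 1, -1, -1, -1, -1, 1, -1, -1, 1, -1, -1, -1] : List ℤ)],
   Ins.push 0 [([-1, -1, 1, -1, -1, 1, -1, -1, 1, -1, 1, 1, -1, -1, -1, -1, 1, -1, 1, -3, -1, -1, -1, -1] : List ℤ)],
   Ins.push 0 [([-1, -1, -1, -1, 1, -1, 1, 1, -1, -1, -1, -1, -1, 1, -1, -1, 1, -1, -1, 1, -1, 1, -3, -1] : List ℤ)],
   Ins.push 1 [([-1, -1, -1, 1, -1, -3, -1, -1, -1, -1, 1, -1, -1, -1, -1, 1, 1, -1, -1, 1, -1, 1, 1, -1] : List ℤ)],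
   Ins.push 0 [([-1, -1, -1, 1, -1, -1, -1, 1, -1, -1, -1, -1, -1, 1, 1, 1, -1, -1, -1, -1, 1, -3, 1, -1] : List ℤ)],
   Ins.push 1 [([-1, -1, 1, -1, -1, 1, -1, 1, -1, -1, -1, -1, -1, -1, -1, -1, -1, -1, 1, -3, 1, 1, 1, -1] : List ℤ)],
   Ins.mark,
   Ins.pop,
   Ins.pop,
   Ins.pop,
   Ins.pop,
   Ins.pop,
   Ins.pop,
   Ins.pop,
   Ins.pop,
   Ins.pop,
   Ins.pop,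
   Ins.pop,
   Ins.pop,
   Ins.pop,
   Ins.push 0 [([-2, 0, -2, -2, 0, -2, -2, -2, -2, 0, 0, 0, 0, 0, 0, 0, 0, 0, -2, 0, 0, 0, 0, 0] : List ℤ)],
   Ins.push 2 [([-2, 0, 2, 2, 0, -2, -2, 2, 2, 0, 0, 0, 0, 0, 0, 0, 0, 0, -2, 0, 0, 0, 0, 0] : List ℤ), ([2, 0, -2, 2, 0, -2, -2, 2, 2, 0, 0, 0, 0, 0, 0, 0, 0, 0, -2, 0, 0, 0, 0, 0] : List ℤ), ([-2, 0, 0, 2, 0, -2, 0, 0, 0, 0, 0, 0, 0, 0, 0, 0, 2, 2, -2, -2, 2, 0, 0, 0] : List ℤ), ([1, -1, -1, 1, -1, -3, 1, 1, 1, -1, -1, 1, 1, -1, -1, -1, 1, 1, -1, -1, 1, 1, -1, -1] : List ℤ), ([-1, -1, 1, 1, 1, -1, -1, 1, -1, 1, 1, 1, 1, -1, 1, -1, -1, 1, -3, -1, 1, -1, -1, -1] : List ℤ), ([-1, 1, -1, 1, 1, -1, 1, -1, 1, 1, -1, -1, 1, -1, 1, 1, -1, 1, -3, -1, 1, -1, -1, -1] : List ℤ), ([-1,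 -1, 1, -1, 1, 1, 1, 1, -1, -3, 1, 1, -1, -1, 1, 1, -1, 1, -1, -1, -1, 1, -1, -1] : List ℤ), ([0, 0, -2, -2, 2, 0, 0, 0, 0, -2, 2, 2, 0, 0, 0, 2, 0, 0, 0, -2, 0, 0, 0, 0] : List ℤ), ([0, 0, 2, 2, 0, -2, -2, 0, 0, 0, 0, -2, 0, 0, 0, -2, 2, 2, 0, 0, 0, 0, 0, 0] : List ℤ), ([0, 0, -2, -2, 0, 2, -2, 0, 0, 0, 0, 2, 0, 0, 0, -2, 2, 2, 0, 0, 0, 0, 0, 0] : List ℤ), ([-1, -1, 1, -3, -1, 1, -1, 1, -1, 1, 1, 1, -1, -1, -1, -1, 1, 1, -1, 1, 1, 1, -1, -1] : List ℤ), ([-1, -1, -1, -3, -1, 1, 1, 1, -1, -1, 1, 1, 1, 1, -1, -1, -1, -1, -1, 1, 1, 1, 1, -1] : List ℤ), ([-1, 1, 1, 3, 1, -1, 1, 1, 1, -1, 1, -1, 1, -1, -1, -1, -1, -1, -1, 1, 1, 1, 1, -1] : List ℤ), ([-1, -1, 1, -3, -1, -1, -1, -1, -1, 1, 1, -1, 1, -1, -1, -1, -1, -1, -1, -1,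 1, 1, 1, -1] : List ℤ), ([-1, -1, -1, -3, -1, -1, 1, 1, 1, -1, 1, -1, 1, -1, 1, -1, -1, -1, -1, -1, 1, -1, -1, -1] : List ℤ), ([-1, -1, 1, 3, -1, -1, 1, -1, -1, 1, 1, 1, -1, -1, 1, -1, 1, -1, -1, -1, 1, -1, -1, -1] : List ℤ), ([0, 0, -2, 2, 0, -2, 2, 0, 0, 0, 0, 2, 0, 0, 0, -2, 2, -2, 0, 0, 0, 0, 0, 0] : List ℤ), ([-2, 0, 0, 0, 0, 0, 0, 0, 0, -2, -2, 0, 0, 0, 2, 2, 2, 0, -2, 2, 0, 0, 0, 0] : List ℤ), ([1, -1, -1, -1, -1, -1, -1, -1, 1, -1, -1, 1, 1, -1, 1, 3, 1, -1, -1, 1, 1, -1, -1, -1] : List ℤ), ([-1, -1, 1, 1, 1, -1, -1, 1, 1, -1, -1, -1, -1, -1, 1, 1, -1, 1, -1, 3, -1, -1, -1, -1] : List ℤ), ([-1, 1, -1, 1, 1, -1, 1, -1, -1, -1, 1, 1, -1, -1, 1, -1, -1, 1, -1, 3, -1, -1, -1, -1] : List ℤ), ([-1, -1, -1, -1, -1, -1,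 1, -1, 1, -1, -1, 1, -1, -1, 1, 1, -1, 1, -1, -1, 1, 1, -1, 3] : List ℤ), ([1, 1, 1, -1, 1, -1, 1, -1, 1, -1, -1, 1, -1, 1, 1, 1, 1, 1, -1, -1, 1, 1, 1, -3] : List ℤ), ([-3, 1, 1, 1, 1, -1, -1, 1, 1, -1, 1, 1, 1, -1, -1, -1, -1, 1, 1, 1, 1, -1, 1, 1] : List ℤ), ([-3, -1, -1, -1, -1, 1, -1, 1, -1, -1, 1, -1, 1, 1, -1, -1, -1, 1, 1, 1, 1, -1, 1, 1] : List ℤ), ([1, -1, -1, -1, -1, 1, -1, 1, -1, -1, 1, -1, 1, 1, -1, -1, -1, 1, 1, 1, 1, -1, 1, -3] : List ℤ), ([1, -1, -1, -1, 1, 1, -1, 1, 1, 1, 1, 1, -1, -1, 1, -1, -1, -1, -1, -1, -1, 1, 1, -3] : List ℤ), ([1, 1, 1, 1, -1, -1, -1, 1, -1, 1, 1, -1, -1, 1, 1, -1, -1, -1, -1, -1, -1, 1, 1, -3] : List ℤ), ([1, -1, 1, -1, 1, -1, 1, -1, 1, -1, 1, -1, -1, 1, 1, -1, -1, -1, -1, 1,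 -1, 1, 1, -3] : List ℤ)],
   Ins.push 0 [([1, 1, 1, -1, -1, -1, 1, 1, -1, 1, -1, -1, -1, -1, 1, -1, 1, 1, -1, -1, 1, -1, 1, -3] : List ℤ)],
   Ins.push 0 [([1, 1, -1, -1, -1, 1, 1, -1, -1, -1, 1, 1, 1, 1, 1, -1, -1, 1, 1, -1, -1, -1, -1, -3] : List ℤ)],
   Ins.push 1 [([1, 1, -1, -1, 1, -1, 1, -1, -1, 1, 1, 1, -1, 1, 1, -1, -1, -1, -1, -1, 1, -1, 1, -3] : List ℤ)],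
   Ins.push 0 [([1, 1, 1, -1, -1, -1, -1, 1, -1, 1, 1, -1, 1, -1, 1, -1, -1, 1, 1, 1, -1, -1, -1, -3] : List ℤ)],
   Ins.push 0 [([1, -1, -1, -1, 1, 1, 1, 1, 1, -1, -1, 1, 1, -1, -1, -1, -1, 1, 1, -1, -1, -1, 1, -3] : List ℤ)],
   Ins.push 0 [([1, 1, 1, -1, 1, 1, -1, -1, 1, -1, -1, 1, -1, -1, 1, -1, 1, -1, -1, 1, -1, 1, -1, -3] : List ℤ)],
   Ins.push 0 [([1, -1, 1, -1, -1, -1, 1, -1, -1, -1, -1, -1, -1, 1, -1, -1, 1, 1, 1, 1, 1, 1, 1, -3] : List ℤ)],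
   Ins.mark]

set_option maxRecDepth 100000 in
set_option maxHeartbeats 0 in
theorem co2c_chk : mainChk co2cB co2cconds co2cx0 co2cgens co2cgmids m22mt m22reps m22vis co2cfib co2cprog 7128 = true := by
  decide +kernel

/-- The stabiliser of the base vectors is transitive on the set, which has `7128` elements. -/
theorem co2c_main : (∀ x ∈ XSet co2cconds, ∃ g : Co0, FixB co2cB g ∧ ∃ h0 : vecOf co2cx0 ∈ leechLattice,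
      g • (⟨vecOf co2cx0, h0⟩ : leechLattice) = x) ∧ (XSet co2cconds).ncard = 7128 :=
  orbit_main co2cB co2cconds co2cx0 co2cgens co2cgmids m22mt m22reps m22progs m22vis co2cfib co2cprog 7128
    m22_hreps m22_hrun m22_hbm co2c_chk

end Cfsg.Agent.Lib.Helper92
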