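import Cfsg.Agent.Lib.Helper92.SimplePrim

set_option autoImplicit false

namespace Cfsg.Agent.Lib.Helper92

/-! ### Simplicity from a transitive action: further tools -/

section

variable {G Ω : Type*} [Group G] [MulAction G Ω] {X : Set Ω} {x : Ω} {c : Ω → ℤ}
  {cols : Finset ℤ} {m : ℤ → ℕ}

/-- The orbit of a normal subgroup through the point is a union of classes of length dividing
the degree. -/
theorem ColData.normal_orbit (D : ColData G X x c cols m) (N : Subgroup G) [hN : N.Normal] :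
    ∃ I : Finset ℤ, I ⊆ cols ∧ c x ∈ I ∧ (∑ d ∈ I, m d) ∣ X.ncard ∧
      ∀ y ∈ X, (∃ n ∈ N, n • x = y) ↔ c y ∈ I := by
  have hBX : {y | ∃ n ∈ N, n • x = y} ⊆ X := by
    rintro y ⟨n, -, rfl⟩
    exact D.hinv n x D.hx
  have hBinv : ∀ g : G, g • x = x → ∀ y ∈ {y | ∃ n ∈ N, n • x = y},
      g • y ∈ {y | ∃ n ∈ N, n • x = y} := by
    rintro g hg y ⟨n, hn, rfl⟩
    refine ⟨g * n * g⁻¹, hN.conj_mem n hn g, ?_⟩
    rw [mul_smul, mul_smul, inv_smul_eq_iff.mpr hg.symm]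
  obtain ⟨I, hI, hmem, -, hcard⟩ := D.ncard_inv _ hBX hBinv
  have hxB : x ∈ {y | ∃ n ∈ N, n • x = y} := ⟨1, N.one_mem, one_smul _ _⟩
  refine ⟨I, hI, (hmem x D.hx).mp hxB, ?_, hmem⟩
  rw [← hcard]
  exact normal_orbit_dvd X x (fun y => ⟨D.htrans y, by
    rintro ⟨g, rfl⟩
    exact D.hinv g x D.hx⟩) N

/-- A transitive normal subgroup is everything, when the point stabiliser is simple and the
subgroup is not regular. -/
theorem trans_normal_top (X : Set Ω) (x : Ω) (hinv : ∀ g : G, ∀ y ∈ X, g • y ∈ X) (hx : x ∈ X)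
    (N : Subgroup G) [hNn : N.Normal] (htr : ∀ y ∈ X, ∃ n ∈ N, n • x = y)
    (hH : IsSimpleGroup ↥(MulAction.stabilizer G x))
    (hreg : N ⊓ MulAction.stabilizer G x = ⊥ → False) : N = ⊤ := by
  have hn : (N.subgroupOf (MulAction.stabilizer G x)).Normal := hNn.subgroupOf _
  rcases hH.eq_bot_or_eq_top_of_normal _ hn with h | h
  · rw [Subgroup.subgroupOf_eq_bot] at h
    exact (hreg h.eq_bot).elim
  · rw [Subgroup.subgroupOf_eq_top] at h
    rw [Subgroup.eq_top_iff']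
    intro g
    obtain ⟨n, hn', e⟩ := htr (g • x) (hinv g x hx)
    have hs : n⁻¹ * g ∈ MulAction.stabilizer G x := by
      rw [MulAction.mem_stabilizer_iff, mul_smul, inv_smul_eq_iff, e]
    have := N.mul_mem hn' (h hs)
    rwa [mul_inv_cancel_left] at this

/-- In a regular normal subgroup the solutions of `n ^ k = 1` make a union of orbits of the
point stabiliser, of length divisible by `k`. -/
theorem ColData.regular_pow (D : ColData G X x c cols m) (N : Subgroup G) [hN : N.Normal]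
    (htr : ∀ y ∈ X, ∃ n ∈ N, n • x = y) (hreg : N ⊓ MulAction.stabilizer G x = ⊥)
    (k : ℕ) (hkd : k ∣ X.ncard) :
    ∃ I : Finset ℤ, I ⊆ cols.erase (c x) ∧ k ∣ 1 + ∑ d ∈ I, m d ∧
      ∀ d ∈ I, ∃ n ∈ N, n ^ k = 1 ∧ n ≠ 1 ∧ c (n • x) = d := by
  classical
  have hinj := regular_inj x N hreg
  have hTX : {y | ∃ n ∈ N, n ^ k = 1 ∧ n • x = y} ⊆ X := by
    rintro y ⟨n, -, -, rfl⟩
    exact D.hinv n x D.hx
  have hTinv : ∀ g : G, g • x = x → ∀ y ∈ {y | ∃ n ∈ N, n ^ k = 1 ∧ n • x = y},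
      g • y ∈ {y | ∃ n ∈ N, n ^ k = 1 ∧ n • x = y} := by
    rintro g hg y ⟨n, hn, hnp, rfl⟩
    refine ⟨g * n * g⁻¹, hN.conj_mem n hn g, ?_, ?_⟩
    · rw [conj_pow, hnp, mul_one, mul_inv_cancel]
    · rw [mul_smul, mul_smul, inv_smul_eq_iff.mpr hg.symm]
  obtain ⟨I, hI, hmem, hex, hcard⟩ := D.ncard_inv _ hTX hTinv
  have hxT : x ∈ {y | ∃ n ∈ N, n ^ k = 1 ∧ n • x = y} := ⟨1, N.one_mem, one_pow _, one_smul _ _⟩
  have hxI : c x ∈ I := (hmem x D.hx).mp hxT
  have hXfin : Finite ↥X := D.hfin.to_subtype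
  have hbij : Function.Bijective (fun n : N => (⟨n.1 • x, D.hinv n.1 x D.hx⟩ : ↥X)) := by
    constructor
    · intro a b hab
      exact Subtype.ext (hinj a.1 b.1 a.2 b.2 (congrArg Subtype.val hab))
    · rintro ⟨y, hy⟩
      obtain ⟨n, hn, e⟩ := htr y hy
      exact ⟨⟨n, hn⟩, Subtype.ext e⟩
  have hNfin : Finite ↥N := Finite.of_injective _ hbij.1
  have hNcard : Nat.card ↥N = X.ncard := by
    rw [← Nat.card_coe_set_eq]
    exact Nat.card_congr (Equiv.ofBijective _ hbij)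
  have hfrob : k ∣ Nat.card {g : ↥N // g ^ k = 1} :=
    Cfsg.Agent.S3993.result k (hNcard ▸ hkd)
  have hbij2 : Function.Bijective (fun g : {g : ↥N // g ^ k = 1} =>
      (⟨g.1.1 • x, g.1.1, g.1.2, by
        have := congrArg Subtype.val g.2
        simpa using this, rfl⟩ : ↥{y | ∃ n ∈ N, n ^ k = 1 ∧ n • x = y})) := by
    constructor
    · intro a b hab
      exact Subtype.ext (Subtype.ext (hinj a.1.1 b.1.1 a.1.2 b.1.2 (congrArg Subtype.val hab)))
    · rintro ⟨y, n, hn, hnp, e⟩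
      exact ⟨⟨⟨n, hn⟩, Subtype.ext (by simpa using hnp)⟩, Subtype.ext e⟩
  have hTcard : {y | ∃ n ∈ N, n ^ k = 1 ∧ n • x = y}.ncard =
      Nat.card {g : ↥N // g ^ k = 1} := by
    rw [← Nat.card_coe_set_eq]
    exact (Nat.card_congr (Equiv.ofBijective _ hbij2)).symm
  have hsum : ∑ d ∈ I, m d = 1 + ∑ d ∈ I.erase (c x), m d := by
    rw [← Finset.add_sum_erase I m hxI, D.m_self]
  refine ⟨I.erase (c x), Finset.erase_subset_erase _ hI, ?_, ?_⟩
  · rw [← hsum, ← hcard, hTcard]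
    exact hfrob
  · intro d hd
    obtain ⟨hd1, hd2⟩ := Finset.mem_erase.mp hd
    obtain ⟨y, ⟨n, hn, hnp, rfl⟩, e⟩ := hex d hd2
    refine ⟨n, hn, hnp, ?_, e⟩
    rintro rfl
    rw [one_smul] at e
    exact hd1 e.symm

/-- No normal subgroup is regular, when two coprime divisors of the degree have no disjoint
unions of orbits of the point stabiliser of the lengths that the theorem of Frobenius asks
for. -/
theorem ColData.regular_false' (D : ColData G X x c cols m) (p q : ℕ) (hpq : Nat.Coprime p q)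
    (hpd : p ∣ X.ncard) (hqd : q ∣ X.ncard)
    (hnum : ∀ I J : Finset ℤ, I ⊆ cols.erase (c x) → J ⊆ cols.erase (c x) →
      Disjoint I J → p ∣ 1 + ∑ d ∈ I, m d → q ∣ 1 + ∑ d ∈ J, m d → False)
    (N : Subgroup G) [hN : N.Normal] (htr : ∀ y ∈ X, ∃ n ∈ N, n • x = y)
    (hreg : N ⊓ MulAction.stabilizer G x = ⊥) : False := by
  obtain ⟨I, hI, hIp, hIex⟩ := D.regular_pow N htr hreg p hpd
  obtain ⟨J, hJ, hJq, hJex⟩ := D.regular_pow N htr hreg q hqd
  refine hnum I J hI hJ ?_ hIp hJq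
  rw [Finset.disjoint_left]
  intro d hdI hdJ
  obtain ⟨n, hn, hnp, -, e⟩ := hIex d hdI
  obtain ⟨n', hn', hnq, hn1, e'⟩ := hJex d hdJ
  obtain ⟨g, hg, hgn⟩ := D.hcol_tr (n • x) (D.hinv n x D.hx) (n' • x) (D.hinv n' x D.hx)
    (e.trans e'.symm)
  have h1 : g * n * g⁻¹ = n' := by
    apply regular_inj x N hreg _ _ (hN.conj_mem n hn g) hn'
    rw [mul_smul, mul_smul, inv_smul_eq_iff.mpr hg.symm]
    exact hgn
  have h2 : n' ^ p = 1 := by
    rw [← h1, conj_pow, hnp, mul_one, mul_inv_cancel]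
  have h3 : orderOf n' ∣ Nat.gcd p q :=
    Nat.dvd_gcd (orderOf_dvd_of_pow_eq_one h2) (orderOf_dvd_of_pow_eq_one hnq)
  rw [hpq, Nat.dvd_one, orderOf_eq_one_iff] at h3
  exact hn1 h3

/-- Simplicity of a group with a transitive action with a simple point stabiliser, with two
coprime divisors of the degree. -/
theorem ColData.simple' (D : ColData G X x c cols m)
    (hprim : ∀ I : Finset ℤ, I ⊆ cols → c x ∈ I → (∑ d ∈ I, m d) ∣ X.ncard →
      I = {c x} ∨ I = cols)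
    (hH : IsSimpleGroup ↥(MulAction.stabilizer G x))
    (hmove : ∃ g : G, g • x = x ∧ ∃ y ∈ X, g • y ≠ y)
    (p q : ℕ) (hpq : Nat.Coprime p q) (hpd : p ∣ X.ncard) (hqd : q ∣ X.ncard)
    (hnum : ∀ I J : Finset ℤ, I ⊆ cols.erase (c x) → J ⊆ cols.erase (c x) →
      Disjoint I J → p ∣ 1 + ∑ d ∈ I, m d → q ∣ 1 + ∑ d ∈ J, m d → False) :
    IsSimpleGroup G := by
  have hnt : Nontrivial G := by
    obtain ⟨g, -, y, -, hne⟩ := hmove
    exact ⟨⟨g, 1, fun h => hne (by rw [h, one_smul])⟩⟩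
  have hfaith := D.faith_of_simple hH hmove
  exact simple_of_trans X x D.hinv D.hx
    (fun N hN hne => by
      have := hN
      exact D.normal_trans hprim hfaith N hne) hH
    (fun N hN htr hreg => by
      have := hN
      exact D.regular_false' p q hpq hpd hqd hnum N htr hreg)

end

end Cfsg.Agent.Lib.Helper92
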