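import Cfsg.Agent.Lib.Helper92.OrbCo2a
import Cfsg.Agent.Lib.Helper92.OrbCo2b
import Cfsg.Agent.Lib.Helper92.OrbCo2c
import Cfsg.Agent.Lib.Helper92.OrbCo2d
import Cfsg.Agent.Lib.Helper92.OrbCo2e
import Cfsg.Agent.Lib.Helper92.LeechMcLSimple
import Cfsg.Agent.Lib.Helper92.SimplePrim2
import Cfsg.Agent.Lib.Helper92.LeechFuse
import Cfsg.Agent.Lib.Helper92.LeechTransCo
import Cfsg.Agent.Lib.Helper92.LeechCensus

set_option autoImplicit false

open scoped Pointwise

namespace Cfsg.Agent.Lib.Helper92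

open Cfsg Cfsg.Spor Cfsg.Agent.Lib.Helper7

/-! ### Simplicity of the stabiliser of a minimal vector -/

/-- Lengths of the classes. -/
def co2M (d : ℤ) : ℕ :=
  if d = 32 then 1 else if d = 16 then 2025 else if d = -16 then 275 else if d = 8 then 15400
  else if d = -8 then 7128 else 22275

theorem co2_prim : ∀ I ∈ ({32, 16, -16, 8, -8, 0} : Finset ℤ).powerset, (32 : ℤ) ∈ I →
    (∑ d ∈ I, co2M d) ∣ 47104 → I = {32} ∨ I = {32, 16, -16, 8, -8, 0} := by decide +kernel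

theorem co2_num : ∀ I ∈ (({32, 16, -16, 8, -8, 0} : Finset ℤ).erase 32).powerset,
    ∀ J ∈ (({32, 16, -16, 8, -8, 0} : Finset ℤ).erase 32).powerset,
    Disjoint I J → 23 ∣ 1 + ∑ d ∈ I, co2M d → 2048 ∣ 1 + ∑ d ∈ J, co2M d → False := by
  decide +kernel

/-- Counting lattice elements or vectors is the same. -/
theorem ncard_lat (P : (GolayPt → ℤ) → Prop) :
    {x : leechLattice | P (x : GolayPt → ℤ)}.ncard =
      {w : GolayPt → ℤ | w ∈ leechLattice ∧ P w}.ncard := by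
  rw [← Set.ncard_image_of_injective _ Subtype.val_injective]
  congr 1
  ext w
  constructor
  · rintro ⟨x, hx, rfl⟩
    exact ⟨x.2, hx⟩
  · rintro ⟨h1, h2⟩
    exact ⟨⟨w, h1⟩, h2, rfl⟩

theorem co2_aux {v x : leechLattice} {g₁ : Co0}
    (e1 : ((g₁ • v : leechLattice) : GolayPt → ℤ) = vecOf bNL)
    (e2 : ((g₁ • x : leechLattice) : GolayPt → ℤ) = vecOf aNL)
    {B : List (List ℤ)} {x0 : List ℤ} {N : ℕ} (d : ℤ)
    (hmain : (∀ y ∈ XSet [(bNL, -8), (aNL, d)], ∃ g : Co0, FixB B g ∧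
      ∃ h0 : vecOf x0 ∈ leechLattice, g • (⟨vecOf x0, h0⟩ : leechLattice) = y) ∧
      (XSet [(bNL, -8), (aNL, d)]).ncard = N)
    (mb : bNL ∈ B) (ma : aNL ∈ B) :
    {y : leechLattice | y ∈ {x : leechLattice | sqNorm (x : GolayPt → ℤ) = 32 ∧
        dotInt (v : GolayPt → ℤ) (x : GolayPt → ℤ) = -8} ∧
        dotInt (x : GolayPt → ℤ) (y : GolayPt → ℤ) = d}.ncard = N ∧
    ∀ y ∈ {y : leechLattice | y ∈ {x : leechLattice | sqNorm (x : GolayPt → ℤ) = 32 ∧
        dotInt (v : GolayPt → ℤ) (x : GolayPt → ℤ) = -8} ∧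
        dotInt (x : GolayPt → ℤ) (y : GolayPt → ℤ) = d},
    ∀ y' ∈ {y : leechLattice | y ∈ {x : leechLattice | sqNorm (x : GolayPt → ℤ) = 32 ∧
        dotInt (v : GolayPt → ℤ) (x : GolayPt → ℤ) = -8} ∧
        dotInt (x : GolayPt → ℤ) (y : GolayPt → ℤ) = d},
      ∃ g : Co0, g • v = v ∧ g • x = x ∧ g • y = y' := by
  have hS : ∀ y : leechLattice, y ∈ {y : leechLattice | y ∈ {x : leechLattice |
      sqNorm (x : GolayPt → ℤ) = 32 ∧ dotInt (v : GolayPt → ℤ) (x : GolayPt → ℤ) = -8} ∧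
      dotInt (x : GolayPt → ℤ) (y : GolayPt → ℤ) = d} ↔
      g₁ • y ∈ XSet [(bNL, -8), (aNL, d)] := by
    intro y
    rw [xset_two, dot_smul_of_eq e1, dot_smul_of_eq e2, co0_smul_sqNorm]
    constructor
    · rintro ⟨⟨a, b⟩, c⟩
      exact ⟨a, b, c⟩
    · rintro ⟨a, b, c⟩
      exact ⟨⟨a, b⟩, c⟩
  obtain ⟨n, t⟩ := xset_trans hmain g₁ hS
  refine ⟨n, fun y hy y' hy' => ?_⟩
  obtain ⟨k, hk, e⟩ := t y hy y' hy'
  exact ⟨g₁⁻¹ * k * g₁, fix_conj hk mb e1, fix_conj hk ma e2, e⟩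

/-- The classes of the points seen from a point: lengths and transitivity. -/
theorem co2_classes (v x : leechLattice) (hv : sqNorm (v : GolayPt → ℤ) = 32)
    (hx : x ∈ {x : leechLattice | sqNorm (x : GolayPt → ℤ) = 32 ∧
      dotInt (v : GolayPt → ℤ) (x : GolayPt → ℤ) = -8}) :
    ∀ d ∈ ({32, 16, -16, 8, -8, 0} : Finset ℤ), d ≠ 32 →
      {y : leechLattice | y ∈ {x : leechLattice | sqNorm (x : GolayPt → ℤ) = 32 ∧
        dotInt (v : GolayPt → ℤ) (x : GolayPt → ℤ) = -8} ∧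
        dotInt (x : GolayPt → ℤ) (y : GolayPt → ℤ) = d}.ncard = co2M d ∧
      ∀ y ∈ {y : leechLattice | y ∈ {x : leechLattice | sqNorm (x : GolayPt → ℤ) = 32 ∧
        dotInt (v : GolayPt → ℤ) (x : GolayPt → ℤ) = -8} ∧
        dotInt (x : GolayPt → ℤ) (y : GolayPt → ℤ) = d},
      ∀ y' ∈ {y : leechLattice | y ∈ {x : leechLattice | sqNorm (x : GolayPt → ℤ) = 32 ∧
        dotInt (v : GolayPt → ℤ) (x : GolayPt → ℤ) = -8} ∧
        dotInt (x : GolayPt → ℤ) (y : GolayPt → ℤ) = d},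
      ∃ g : Co0, g • v = v ∧ g • x = x ∧ g • y = y' := by
  obtain ⟨g₁, e1, e2⟩ := exists_to_ba v x hv hx.1 hx.2
  intro d hd hne
  simp only [Finset.mem_insert, Finset.mem_singleton] at hd
  rcases hd with rfl | rfl | rfl | rfl | rfl | rfl
  · exact absurd rfl hne
  · exact co2_aux e1 e2 16 co2b_main (B := co2bB) List.mem_cons_self
      (List.mem_cons_of_mem _ List.mem_cons_self)
  · exact co2_aux e1 e2 (-16) co2a_main (B := co2aB) List.mem_cons_self
      (List.mem_cons_of_mem _ List.mem_cons_self)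
  · exact co2_aux e1 e2 8 co2d_main (B := co2dB) List.mem_cons_self
      (List.mem_cons_of_mem _ List.mem_cons_self)
  · exact co2_aux e1 e2 (-8) co2c_main (B := co2cB) List.mem_cons_self
      (List.mem_cons_of_mem _ List.mem_cons_self)
  · exact co2_aux e1 e2 0 co2e_main (B := co2eB) List.mem_cons_self
      (List.mem_cons_of_mem _ List.mem_cons_self)

/-- The stabiliser of a minimal vector is simple of order `42305421312000`. -/
theorem co2_isCo2 (v : leechLattice) (hv : sqNorm (v : GolayPt → ℤ) = 32) :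
    IsSimpleGroup ↥(MulAction.stabilizer Co0 v) ∧
    Nat.card ↥(MulAction.stabilizer Co0 v) = 42305421312000 := by
  have hvm : (v : GolayPt → ℤ) ∈ minF := mem_minF.mpr ⟨v.2, hv⟩
  have nX : {x : leechLattice | sqNorm (x : GolayPt → ℤ) = 32 ∧
      dotInt (v : GolayPt → ℤ) (x : GolayPt → ℤ) = -8}.ncard = 47104 := by
    rw [ncard_lat (fun w => sqNorm w = 32 ∧ dotInt (v : GolayPt → ℤ) w = -8)]
    exact (ncard_nd (v : GolayPt → ℤ) (-8)).trans (census hvm).2.1
  have tX : ∀ x ∈ {x : leechLattice | sqNorm (x : GolayPt → ℤ) = 32 ∧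
      dotInt (v : GolayPt → ℤ) (x : GolayPt → ℤ) = -8},
      ∀ x' ∈ {x : leechLattice | sqNorm (x : GolayPt → ℤ) = 32 ∧
      dotInt (v : GolayPt → ℤ) (x : GolayPt → ℤ) = -8}, ∃ g : Co0, g • v = v ∧ g • x = x' :=
    fun x hx x' hx' => stab_transfer trans8 v x x' hv hx.1 hx'.1 hx.2 hx'.2
  obtain ⟨x, hx⟩ := Set.nonempty_of_ncard_ne_zero (s := {x : leechLattice |
    sqNorm (x : GolayPt → ℤ) = 32 ∧ dotInt (v : GolayPt → ℤ) (x : GolayPt → ℤ) = -8})
    (by rw [nX]; norm_num)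
  have hcl := co2_classes v x hv hx
  have hxx : dotC x x = 32 := by
    unfold dotC
    rw [dotInt_self]
    exact hx.1
  have D : ColData ↥(MulAction.stabilizer Co0 v)
      {x : leechLattice | sqNorm (x : GolayPt → ℤ) = 32 ∧
        dotInt (v : GolayPt → ℤ) (x : GolayPt → ℤ) = -8} x (dotC x) {32, 16, -16, 8, -8, 0}
      co2M := by
    apply ColData.of_card' hx (Set.finite_of_ncard_ne_zero (by rw [nX]; norm_num))
    · intro g y hy
      have h1 : g.1 • v = v := g.2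
      exact ⟨(co0_smul_sqNorm g.1 y).trans hy.1, (dot_smul_fix h1 y).trans hy.2⟩
    · intro y hy
      obtain ⟨g, h1, h2⟩ := tX x hx y hy
      exact ⟨⟨g, h1⟩, h2⟩
    · intro g hg y _
      exact dot_smul_fix (show g.1 • x = x from hg) y
    · intro d hd hne y hy y' hy' e e'
      rw [hxx] at hne
      obtain ⟨g, h1, h2, h3⟩ := (hcl d hd hne).2 y ⟨hy, e⟩ y' ⟨hy', e'⟩
      exact ⟨⟨g, h1⟩, h2, h3⟩
    · intro d hd
      by_cases h32 : d = 32
      · subst h32
        have e : {y | y ∈ {x : leechLattice | sqNorm (x : GolayPt → ℤ) = 32 ∧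
            dotInt (v : GolayPt → ℤ) (x : GolayPt → ℤ) = -8} ∧ dotC x y = 32} = {x} := by
          ext y
          constructor
          · rintro ⟨h1, h2⟩
            exact eq_of_dot_eq hx.1 h1.1 h2
          · intro h
            rw [Set.mem_singleton_iff.mp h]
            exact ⟨hx, hxx⟩
        rw [e, Set.ncard_singleton]
        rfl
      · exact (hcl d hd h32).1
    · intro y hy h
      exact eq_of_dot_eq hx.1 hy.1 (h.trans hxx)
    · rw [nX]
      rfl
  have hKx : IsSimpleGroup ↥(MulAction.stabilizer ↥(MulAction.stabilizer Co0 v) x) ∧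
      Nat.card ↥(MulAction.stabilizer ↥(MulAction.stabilizer Co0 v) x) = 898128000 := by
    have hs := mcl_isMcL v x hv hx.1 hx.2
    have e' := stabSubEquiv (MulAction.stabilizer Co0 v) x
    exact ⟨e'.isSimpleGroup_congr.mpr hs.1, by rw [Nat.card_congr e'.toEquiv, hs.2]⟩
  refine ⟨D.simple' ?_ hKx.1 (D.move (-16) (by simp) (by decide)) 23 2048 (by norm_num)
    (by rw [nX]; norm_num) (by rw [nX]; norm_num) ?_, ?_⟩
  · intro I hI h0 hdvd
    rw [nX] at hdvd
    rw [hxx] at h0 ⊢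
    exact co2_prim I (Finset.mem_powerset.mpr hI) h0 hdvd
  · intro I J hI hJ
    rw [hxx] at hI hJ
    exact co2_num I (Finset.mem_powerset.mpr hI) J (Finset.mem_powerset.mpr hJ)
  · rw [D.card, nX, hKx.2]

end Cfsg.Agent.Lib.Helper92
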