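import Cfsg.Agent.Lib.Helper92.LeechOrbMain

set_option autoImplicit false

open scoped Pointwise

namespace Cfsg.Agent.Lib.Helper92

open Cfsg Cfsg.Spor Cfsg.Agent.Lib.Helper7

/-! ### Using the orbit certificates -/

theorem xset_one (b : List ℤ) (d : ℤ) (x : leechLattice) :
    x ∈ XSet [(b, d)] ↔ sqNorm (x : GolayPt → ℤ) = 32 ∧ dotInt (vecOf b) (x : GolayPt → ℤ) = d := by
  simp [XSet]

theorem xset_two (b b' : List ℤ) (d d' : ℤ) (x : leechLattice) :
    x ∈ XSet [(b, d), (b', d')] ↔ sqNorm (x : GolayPt → ℤ) = 32 ∧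
      dotInt (vecOf b) (x : GolayPt → ℤ) = d ∧ dotInt (vecOf b') (x : GolayPt → ℤ) = d' := by
  simp [XSet]

theorem xset_three (b b' b'' : List ℤ) (d d' d'' : ℤ) (x : leechLattice) :
    x ∈ XSet [(b, d), (b', d'), (b'', d'')] ↔ sqNorm (x : GolayPt → ℤ) = 32 ∧
      dotInt (vecOf b) (x : GolayPt → ℤ) = d ∧ dotInt (vecOf b') (x : GolayPt → ℤ) = d' ∧
      dotInt (vecOf b'') (x : GolayPt → ℤ) = d'' := by
  simp [XSet]

theorem dot_smul_of_eq {g₀ : Co0} {u : leechLattice} {b : List ℤ}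
    (hu : ((g₀ • u : leechLattice) : GolayPt → ℤ) = vecOf b) (x : leechLattice) :
    dotInt (vecOf b) ((g₀ • x : leechLattice) : GolayPt → ℤ) =
      dotInt (u : GolayPt → ℤ) (x : GolayPt → ℤ) := by
  rw [← hu, co0_smul_dotInt]

theorem fix_conj {B : List (List ℤ)} {k g₀ : Co0} (hk : FixB B k) {u : leechLattice} {b : List ℤ}
    (hb : b ∈ B) (hu : ((g₀ • u : leechLattice) : GolayPt → ℤ) = vecOf b) :
    (g₀⁻¹ * k * g₀) • u = u := by
  have hmem : vecOf b ∈ leechLattice := by rw [← hu]; exact Subtype.coe_prop _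
  have e : g₀ • u = ⟨vecOf b, hmem⟩ := Subtype.ext hu
  rw [mul_smul, mul_smul, e, hk b hb hmem, ← e, inv_smul_smul]

/-- Transfer of an orbit certificate to a set carried onto the standard one. -/
theorem xset_trans {B : List (List ℤ)} {conds : List (List ℤ × ℤ)} {x0 : List ℤ} {N : ℕ}
    (hmain : (∀ x ∈ XSet conds, ∃ g : Co0, FixB B g ∧ ∃ h0 : vecOf x0 ∈ leechLattice,
      g • (⟨vecOf x0, h0⟩ : leechLattice) = x) ∧ (XSet conds).ncard = N)
    {S : Set leechLattice} (g₀ : Co0) (hS : ∀ x, x ∈ S ↔ g₀ • x ∈ XSet conds) :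
    S.ncard = N ∧ ∀ x ∈ S, ∀ x' ∈ S, ∃ k : Co0, FixB B k ∧ (g₀⁻¹ * k * g₀) • x = x' := by
  obtain ⟨htr, hN⟩ := hmain
  constructor
  · have himg : (fun x => g₀ • x) '' S = XSet conds := by
      ext y
      constructor
      · rintro ⟨x, hx, rfl⟩
        exact (hS x).mp hx
      · intro hy
        refine ⟨g₀⁻¹ • y, (hS _).mpr ?_, smul_inv_smul g₀ y⟩
        rw [smul_inv_smul]
        exact hy
    rw [← hN, ← himg, Set.ncard_image_of_injective _ (MulAction.injective g₀)]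
  · intro x hx x' hx'
    obtain ⟨k1, hk1, h0, e1⟩ := htr _ ((hS x).mp hx)
    obtain ⟨k2, hk2, h0', e2⟩ := htr _ ((hS x').mp hx')
    refine ⟨k2 * k1⁻¹, fun b hb h => ?_, ?_⟩
    · rw [mul_smul, inv_smul_eq_iff.mpr (hk1 b hb h).symm, hk2 b hb h]
    · rw [mul_smul, mul_smul, mul_smul, ← e1, inv_smul_smul, e2, inv_smul_smul]

theorem sqNorm_vecOf_dotL {l : List ℤ} (h : l.length = 24) : sqNorm (vecOf l) = dotL l l := by
  rw [← dotInt_self, dotL_vecOf h h]

/-- A set with `1 + n1 + n2` elements containing a point and two disjoint subsets with `n1` and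
`n2` elements not containing the point is the union of these. -/
theorem part_of_card {α : Type*} {X Y1 Y2 : Set α} {x : α} {n n1 n2 : ℕ}
    (hX : X.ncard = n) (h1 : Y1.ncard = n1) (h2 : Y2.ncard = n2) (hn : n = 1 + n1 + n2)
    (hs1 : Y1 ⊆ X) (hs2 : Y2 ⊆ X) (hx : x ∈ X) (hd : Disjoint Y1 Y2) (hx1 : x ∉ Y1)
    (hx2 : x ∉ Y2) : ∀ y ∈ X, y = x ∨ y ∈ Y1 ∨ y ∈ Y2 := by
  have hfin : X.Finite := Set.finite_of_ncard_ne_zero (by rw [hX]; omega)
  have hf1 : Y1.Finite := hfin.subset hs1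
  have hf2 : Y2.Finite := hfin.subset hs2
  intro y hy
  by_contra hcon
  push Not at hcon
  obtain ⟨c1, c2, c3⟩ := hcon
  have hu : (Y1 ∪ Y2).ncard = n1 + n2 := by rw [Set.ncard_union_eq hd hf1 hf2, h1, h2]
  have hxu : x ∉ Y1 ∪ Y2 := fun h => h.elim hx1 hx2
  have hi : (insert x (Y1 ∪ Y2)).ncard = n1 + n2 + 1 := by
    rw [Set.ncard_insert_of_notMem hxu (hf1.union hf2), hu]
  have hyi : y ∉ insert x (Y1 ∪ Y2) := by
    rintro (h | h | h)
    · exact c1 h
    · exact c2 h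
    · exact c3 h
  have hi2 : (insert y (insert x (Y1 ∪ Y2))).ncard = n1 + n2 + 2 := by
    rw [Set.ncard_insert_of_notMem hyi ((hf1.union hf2).insert x), hi]
  have hsub : insert y (insert x (Y1 ∪ Y2)) ⊆ X := by
    intro z hz
    rcases hz with rfl | hz | hz | hz
    · exact hy
    · rw [hz]
      exact hx
    · exact hs1 hz
    · exact hs2 hz
  have := Set.ncard_le_ncard hsub hfin
  rw [hi2, hX] at this
  omega

theorem fix_inv_mul {B : List (List ℤ)} {k g₀ : Co0} (hk : FixB B k) {u : leechLattice}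
    {b : List ℤ} (hb : b ∈ B) (hu : ((g₀ • u : leechLattice) : GolayPt → ℤ) = vecOf b) :
    (((k⁻¹ * g₀) • u : leechLattice) : GolayPt → ℤ) = vecOf b := by
  have hmem : vecOf b ∈ leechLattice := by rw [← hu]; exact Subtype.coe_prop _
  have e : g₀ • u = ⟨vecOf b, hmem⟩ := Subtype.ext hu
  rw [mul_smul, e, inv_smul_eq_iff.mpr (hk b hb hmem).symm]

/-- A point of the set can be carried to the base point, keeping the base vectors. -/
theorem to_std {B : List (List ℤ)} {conds : List (List ℤ × ℤ)} {x0 : List ℤ} {N : ℕ}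
    (hmain : (∀ x ∈ XSet conds, ∃ g : Co0, FixB B g ∧ ∃ h0 : vecOf x0 ∈ leechLattice,
      g • (⟨vecOf x0, h0⟩ : leechLattice) = x) ∧ (XSet conds).ncard = N)
    (g₀ : Co0) (x : leechLattice) (hx : g₀ • x ∈ XSet conds) :
    ∃ k : Co0, FixB B k ∧ (((k⁻¹ * g₀) • x : leechLattice) : GolayPt → ℤ) = vecOf x0 := by
  obtain ⟨k, hk, h0, ek⟩ := hmain.1 _ hx
  refine ⟨k, hk, ?_⟩
  rw [mul_smul, ← ek, inv_smul_smul]

/-- The orbit of the stabiliser of two vectors on a set on which it is transitive. -/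
theorem orbit2_eq {u x : leechLattice} {Y : Set leechLattice}
    (hinv : ∀ g : Co0, g • u = u → g • x = x → ∀ y ∈ Y, g • y ∈ Y)
    (htr : ∀ y ∈ Y, ∀ y' ∈ Y, ∃ g : Co0, g • u = u ∧ g • x = x ∧ g • y = y')
    {y : leechLattice} (hy : y ∈ Y) :
    MulAction.orbit ↥(MulAction.stabilizer ↥Co0 u ⊓ MulAction.stabilizer ↥Co0 x) y = Y := by
  ext z
  constructor
  · rintro ⟨⟨g, hg⟩, rfl⟩
    have h1 : g • u = u := MulAction.mem_stabilizer_iff.mp hg.1
    have h2 : g • x = x := MulAction.mem_stabilizer_iff.mp hg.2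
    exact hinv g h1 h2 y hy
  · intro hz
    obtain ⟨g, h1, h2, e⟩ := htr y hy z hz
    exact ⟨⟨g, ⟨MulAction.mem_stabilizer_iff.mpr h1, MulAction.mem_stabilizer_iff.mpr h2⟩⟩, e⟩

/-- The orbit of the stabiliser of three vectors on a set on which it is transitive. -/
theorem orbit3_eq {v w x : leechLattice} {Y : Set leechLattice}
    (hinv : ∀ g : Co0, g • v = v → g • w = w → g • x = x → ∀ y ∈ Y, g • y ∈ Y)
    (htr : ∀ y ∈ Y, ∀ y' ∈ Y, ∃ g : Co0, g • v = v ∧ g • w = w ∧ g • x = x ∧ g • y = y')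
    {y : leechLattice} (hy : y ∈ Y) :
    MulAction.orbit ↥(MulAction.stabilizer ↥Co0 v ⊓ MulAction.stabilizer ↥Co0 w ⊓
      MulAction.stabilizer ↥Co0 x) y = Y := by
  ext z
  constructor
  · rintro ⟨⟨g, hg⟩, rfl⟩
    have h1 : g • v = v := MulAction.mem_stabilizer_iff.mp hg.1.1
    have h2 : g • w = w := MulAction.mem_stabilizer_iff.mp hg.1.2
    have h3 : g • x = x := MulAction.mem_stabilizer_iff.mp hg.2
    exact hinv g h1 h2 h3 y hy
  · intro hz
    obtain ⟨g, h1, h2, h3, e⟩ := htr y hy z hz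
    exact ⟨⟨g, ⟨⟨MulAction.mem_stabilizer_iff.mpr h1, MulAction.mem_stabilizer_iff.mpr h2⟩,
      MulAction.mem_stabilizer_iff.mpr h3⟩⟩, e⟩

theorem ncard_union_add {α : Type*} {A B : Set α} {a b : ℕ} (hA : A.ncard = a)
    (hB : B.ncard = b) (hfA : A.Finite) (hfB : B.Finite) (hd : Disjoint A B) :
    (A ∪ B).ncard = a + b := by
  rw [Set.ncard_union_eq hd hfA hfB, hA, hB]

end Cfsg.Agent.Lib.Helper92
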