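import Cfsg.Agent.Lib.Helper92.OrbCo3a
import Cfsg.Agent.Lib.Helper92.LeechOrbUse
import Cfsg.Agent.Lib.Helper92.LeechDecomp48
import Cfsg.Agent.Lib.Helper92.LeechCensus48

set_option autoImplicit false

open scoped Pointwise

namespace Cfsg.Agent.Lib.Helper92

open Cfsg Cfsg.Spor Cfsg.Agent.Lib.Helper7

/-! ### The stabiliser of a vector of type 3 on the minimal vectors with inner product `-16` -/

/-- The list of the standard vector of type 3. -/
def u0L : List ℤ := [1, 1, 1, 1, 1, 1, 1, 1, 1, 1, 1, 1, 1, 1, 1, 1, 1, 1, 1, 1, 1, 1, 1, 5]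

theorem u0L_mem : vecOf u0L ∈ leechLattice := leechB_sound (by decide +kernel)

theorem u0L_norm : sqNorm (vecOf u0L) = 48 := by
  rw [sqNorm_vecOf_dotL (by decide)]
  decide +kernel

theorem exists_to_u0 (u : leechLattice) (hu : sqNorm (u : GolayPt → ℤ) = 48) :
    ∃ g₀ : Co0, ((g₀ • u : leechLattice) : GolayPt → ℤ) = vecOf u0L := by
  obtain ⟨g₀, hg₀⟩ := co0_trans_48 u ⟨vecOf u0L, u0L_mem⟩ hu u0L_norm
  exact ⟨g₀, congrArg Subtype.val hg₀⟩

/-- The stabiliser of a vector of type 3 is transitive on the `11178` minimal vectors with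
inner product `-16` with it. -/
theorem co3_orbit (u : leechLattice) (hu : sqNorm (u : GolayPt → ℤ) = 48) :
    {x : leechLattice | sqNorm (x : GolayPt → ℤ) = 32 ∧
        dotInt (u : GolayPt → ℤ) (x : GolayPt → ℤ) = -16}.ncard = 11178 ∧
      ∀ x ∈ {x : leechLattice | sqNorm (x : GolayPt → ℤ) = 32 ∧
        dotInt (u : GolayPt → ℤ) (x : GolayPt → ℤ) = -16},
      ∀ x' ∈ {x : leechLattice | sqNorm (x : GolayPt → ℤ) = 32 ∧
        dotInt (u : GolayPt → ℤ) (x : GolayPt → ℤ) = -16},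
      ∃ g : Co0, g • u = u ∧ g • x = x' := by
  obtain ⟨g₀, hg₀⟩ := exists_to_u0 u hu
  have hS : ∀ x : leechLattice, x ∈ {x : leechLattice | sqNorm (x : GolayPt → ℤ) = 32 ∧
      dotInt (u : GolayPt → ℤ) (x : GolayPt → ℤ) = -16} ↔ g₀ • x ∈ XSet co3aconds := by
    intro x
    rw [show co3aconds = [(u0L, -16)] from rfl, xset_one, dot_smul_of_eq hg₀, co0_smul_sqNorm]
    exact Iff.rfl
  obtain ⟨h1, h2⟩ := xset_trans co3a_main g₀ hS
  refine ⟨h1, fun x hx x' hx' => ?_⟩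
  obtain ⟨k, hk, e⟩ := h2 x hx x' hx'
  exact ⟨g₀⁻¹ * k * g₀, fix_conj hk (show u0L ∈ co3aB from List.mem_cons_self) hg₀, e⟩

theorem co0_smul_zero (g : Co0) : g • (0 : leechLattice) = 0 := by
  have h := co0_smul_add g 0 0
  rw [add_zero] at h
  exact left_eq_add.mp h

theorem co0_smul_neg (g : Co0) (v : leechLattice) : g • (-v) = -(g • v) := by
  have h := co0_smul_sub g 0 v
  rw [zero_sub, co0_smul_zero, zero_sub] at h
  exact h

/-- Transitivity on the pairs of vectors of type 3 with inner product `-32`. -/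
theorem pair48_trans (v w v' w' : leechLattice) (hv : sqNorm (v : GolayPt → ℤ) = 48)
    (hw : sqNorm (w : GolayPt → ℤ) = 48) (hv' : sqNorm (v' : GolayPt → ℤ) = 48)
    (hw' : sqNorm (w' : GolayPt → ℤ) = 48)
    (hd : dotInt (v : GolayPt → ℤ) (w : GolayPt → ℤ) = -32)
    (hd' : dotInt (v' : GolayPt → ℤ) (w' : GolayPt → ℤ) = -32) :
    ∃ g : Co0, g • v = v' ∧ g • w = w' := by
  obtain ⟨g₁, hg₁⟩ := co0_trans_48 w w' hw hw'
  obtain ⟨-, htr⟩ := co3_orbit w' hw'
  have key : ∀ a : leechLattice, sqNorm (a : GolayPt → ℤ) = 48 →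
      dotInt (a : GolayPt → ℤ) (w' : GolayPt → ℤ) = -32 →
      -(a + w') ∈ {x : leechLattice | sqNorm (x : GolayPt → ℤ) = 32 ∧
        dotInt (w' : GolayPt → ℤ) (x : GolayPt → ℤ) = -16} := by
    intro a ha hda
    constructor
    · show sqNorm (-((a : GolayPt → ℤ) + (w' : GolayPt → ℤ))) = 32
      rw [sqNorm_neg', sqNorm_add, ha, hw', hda]
      norm_num
    · show dotInt (w' : GolayPt → ℤ) (-((a : GolayPt → ℤ) + (w' : GolayPt → ℤ))) = -16
      rw [dotInt_neg_right, dotInt_add_right, dotInt_comm _ (a : GolayPt → ℤ), hda, dotInt_self,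
        hw']
      norm_num
  have h1 : sqNorm ((g₁ • v : leechLattice) : GolayPt → ℤ) = 48 := by
    rw [co0_smul_sqNorm]
    exact hv
  have h2 : dotInt ((g₁ • v : leechLattice) : GolayPt → ℤ) (w' : GolayPt → ℤ) = -32 := by
    rw [← hg₁, co0_smul_dotInt]
    exact hd
  obtain ⟨k, hkw, hk⟩ := htr _ (key _ h1 h2) _ (key _ hv' hd')
  refine ⟨k * g₁, ?_, ?_⟩
  · rw [mul_smul]
    rw [co0_smul_neg, co0_smul_add, hkw] at hk
    exact add_right_cancel (neg_injective hk)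
  · rw [mul_smul, hg₁, hkw]

end Cfsg.Agent.Lib.Helper92
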