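import Cfsg.Agent.Lib.Helper92.LeechNorm
import Cfsg.Agent.Lib.Helper6.Golay

set_option autoImplicit false

namespace Cfsg.Agent.Lib.Helper92

open Cfsg Cfsg.Agent.Lib.Helper7

theorem cast_bit (a : ℤ) : ((a : ℤ) : ZMod 2) = if a % 2 = 1 then 1 else 0 := by
  rw [← ZMod.intCast_mod a 2]
  split_ifs with h
  · have : a % ((2 : ℕ) : ℤ) = 1 := by push_cast; omega
    rw [this]; simp
  · have : a % ((2 : ℕ) : ℤ) = 0 := by push_cast; omega
    rw [this]; simp

theorem cast_half_add (a b : ℤ) : (((a + b) / 2 : ℤ) : ZMod 2) =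
    ((a / 2 : ℤ) : ZMod 2) + ((b / 2 : ℤ) : ZMod 2) + (a : ZMod 2) * (b : ZMod 2) := by
  rw [half_add]
  have h : (((a % 2) * (b % 2) : ℤ) : ZMod 2) = ((a * b : ℤ) : ZMod 2) :=
    (ZMod.intCast_eq_intCast_iff _ _ 2).mpr (Int.ModEq.mul (Int.mod_modEq a 2) (Int.mod_modEq b 2))
  rw [Int.cast_add, h]
  push_cast
  ring

/-- Second binary digit plus first binary digit. -/
def gBit (a : ℤ) : ZMod 2 := ((a / 2 : ℤ) : ZMod 2) + (a : ZMod 2)

theorem gBit_eq (a : ℤ) : gBit a = if a % 4 = 1 ∨ a % 4 = 2 then 1 else 0 := by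
  unfold gBit
  rw [cast_half, cast_bit]
  have h4 : a % 4 = 0 ∨ a % 4 = 1 ∨ a % 4 = 2 ∨ a % 4 = 3 := by omega
  rcases h4 with h | h | h | h
  · rw [if_neg (by omega), if_neg (by omega), if_neg (by omega)]; decide
  · rw [if_neg (by omega), if_pos (by omega), if_pos (by omega)]; decide
  · rw [if_pos (by omega), if_neg (by omega), if_pos (by omega)]; decide
  · rw [if_pos (by omega), if_pos (by omega), if_neg (by omega)]; decide

/-- The word `bitWord x + gBit (x ∞) • 1`; on the lattice this is additive with kernel the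
vectors whose coordinates are all `≡ 0` or all `≡ 2` modulo `4`. -/
def typeWord (x : GolayPt → ℤ) : GolayPt → ZMod 2 :=
  fun i => ((x i / 2 : ℤ) : ZMod 2) + gBit (x none)

theorem typeWord_eq (x : GolayPt → ℤ) : typeWord x = bitWord x + gBit (x none) • (1 : GolayPt → ZMod 2) := by
  funext i
  simp [typeWord, bitWord]

theorem typeWord_add {x y : GolayPt → ℤ} {m m' : ℤ} (h2 : ∀ i, x i ≡ m [ZMOD 2])
    (h2' : ∀ i, y i ≡ m' [ZMOD 2]) : typeWord (x + y) = typeWord x + typeWord y := by
  funext i
  simp only [typeWord, gBit, Pi.add_apply]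
  rw [cast_half_add, cast_half_add]
  have e1 : ((x i : ℤ) : ZMod 2) = (m : ZMod 2) := (ZMod.intCast_eq_intCast_iff _ _ 2).mpr (h2 i)
  have e2 : ((x none : ℤ) : ZMod 2) = (m : ZMod 2) := (ZMod.intCast_eq_intCast_iff _ _ 2).mpr (h2 none)
  have e3 : ((y i : ℤ) : ZMod 2) = (m' : ZMod 2) := (ZMod.intCast_eq_intCast_iff _ _ 2).mpr (h2' i)
  have e4 : ((y none : ℤ) : ZMod 2) = (m' : ZMod 2) := (ZMod.intCast_eq_intCast_iff _ _ 2).mpr (h2' none)
  rw [Int.cast_add, e1, e2, e3, e4]
  have h2z : (2 : ZMod 2) = 0 := by decide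
  linear_combination ((m : ZMod 2) * (m' : ZMod 2)) * h2z

theorem typeWord_mem {x : GolayPt → ℤ} (hx : x ∈ leechLattice) : typeWord x ∈ golayCode := by
  obtain ⟨m, h2, h8, hb⟩ := (mem_leechLattice_iff x).mp hx
  rw [typeWord_eq]
  exact Submodule.add_mem _ hb (Submodule.smul_mem _ _ one_mem_golayCode)

theorem typeWord_add_mem {x y : GolayPt → ℤ} (hx : x ∈ leechLattice) (hy : y ∈ leechLattice) :
    typeWord (x + y) = typeWord x + typeWord y := by
  obtain ⟨m, h2, -, -⟩ := (mem_leechLattice_iff x).mp hx
  obtain ⟨m', h2', -, -⟩ := (mem_leechLattice_iff y).mp hy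
  exact typeWord_add h2 h2'

/-- The kernel of `typeWord` on the lattice. -/
theorem typeWord_eq_zero {x : GolayPt → ℤ} (hx : x ∈ leechLattice) (h : typeWord x = 0) :
    (∀ i, x i % 4 = 0) ∧ (∑ i, x i) % 8 = 0 ∨ (∀ i, x i % 4 = 2) := by
  obtain ⟨m, h2, h8, hb⟩ := (mem_leechLattice_iff x).mp hx
  have hi : ∀ i, (if x i % 4 = 2 ∨ x i % 4 = 3 then (1 : ZMod 2) else 0) +
      (if x none % 4 = 1 ∨ x none % 4 = 2 then (1 : ZMod 2) else 0) = 0 := by
    intro i
    have := congrFun h i
    simpa only [typeWord, cast_half, gBit_eq, Pi.zero_apply] using this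
  have hnone : x none % 2 = 0 := by
    have := hi none
    by_contra hodd
    have h4 : x none % 4 = 1 ∨ x none % 4 = 3 := by omega
    rcases h4 with h4 | h4
    · rw [if_neg (by omega), if_pos (by omega)] at this
      exact absurd this (by decide)
    · rw [if_pos (by omega), if_neg (by omega)] at this
      exact absurd this (by decide)
  have hm : m % 2 = 0 := by
    have := h2 none
    unfold Int.ModEq at this
    omega
  have heven : ∀ i, x i % 2 = 0 := by
    intro i
    have := h2 i
    unfold Int.ModEq at this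
    omega
  have h4 : x none % 4 = 0 ∨ x none % 4 = 2 := by omega
  rcases h4 with h4 | h4
  · left
    refine ⟨fun i => ?_, ?_⟩
    · have := hi i
      have hev := heven i
      by_contra hne
      rw [if_pos (by omega), if_neg (by omega)] at this
      exact absurd this (by decide)
    · unfold Int.ModEq at h8
      omega
  · right
    intro i
    have := hi i
    have hev := heven i
    by_contra hne
    rw [if_neg (by omega), if_pos (by omega)] at this
    exact absurd this (by decide)

/-- Vectors in the kernel of `typeWord` have sum of squares divisible by `32`. -/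
theorem sqNorm_dvd_of_typeWord {x : GolayPt → ℤ} (hx : x ∈ leechLattice) (h : typeWord x = 0) :
    (32 : ℤ) ∣ sqNorm x := by
  unfold sqNorm
  rcases typeWord_eq_zero hx h with ⟨h4, h8⟩ | h4
  · have hterm : ∀ i, (32 : ℤ) ∣ x i ^ 2 - 4 * x i := by
      intro i
      have hi := h4 i
      have h8' : x i % 8 = 0 ∨ x i % 8 = 4 := by omega
      rcases h8' with h8' | h8'
      · have e : x i = 8 * (x i / 8) := by omega
        generalize x i / 8 = q at e
        exact ⟨2 * q ^ 2 - q, by rw [e]; ring⟩
      · have e : x i = 8 * (x i / 8) + 4 := by omega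
        generalize x i / 8 = q at e
        exact ⟨2 * q ^ 2 + q, by rw [e]; ring⟩
    have hs : (32 : ℤ) ∣ ∑ i, (x i ^ 2 - 4 * x i) := Finset.dvd_sum (fun i _ => hterm i)
    rw [Finset.sum_sub_distrib, ← Finset.mul_sum] at hs
    omega
  · have hterm : ∀ i, (32 : ℤ) ∣ x i ^ 2 - 4 := by
      intro i
      have hi := h4 i
      have h8' : x i % 8 = 2 ∨ x i % 8 = 6 := by omega
      rcases h8' with h8' | h8'
      · have e : x i = 8 * (x i / 8) + 2 := by omega
        generalize x i / 8 = q at e
        exact ⟨2 * q ^ 2 + q, by rw [e]; ring⟩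
      · have e : x i = 8 * (x i / 8) + 6 := by omega
        generalize x i / 8 = q at e
        exact ⟨2 * q ^ 2 + 3 * q + 1, by rw [e]; ring⟩
    have hs : (32 : ℤ) ∣ ∑ i, (x i ^ 2 - 4) := Finset.dvd_sum (fun i _ => hterm i)
    rw [Finset.sum_sub_distrib] at hs
    simp only [Finset.sum_const, Finset.card_univ, card_golayPt, nsmul_eq_mul] at hs
    push_cast at hs
    omega

/-- Twice the indicator vector of a code word lies in the lattice. -/
theorem two_ind_mem {c : GolayPt → ZMod 2} (hc : c ∈ golayCode) :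
    (fun i => if c i = 1 then (2 : ℤ) else 0) ∈ leechLattice := by
  rw [mem_leechLattice_iff]
  refine ⟨0, fun i => ?_, ?_, ?_⟩
  · by_cases h : c i = 1
    · simp only [if_pos h]; decide
    · simp only [if_neg h]; rfl
  · have hw := weight_mod c hc
    have : (∑ i, if c i = 1 then (2 : ℤ) else 0) = 2 * ((support₂ c).card : ℤ) := by
      rw [← Finset.sum_filter, Finset.sum_const, nsmul_eq_mul, mul_comm]
      congr 2
      congr 1
      ext i
      simp only [support₂, Finset.mem_filter, Finset.mem_univ, true_and]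
      rcases zmod2_cases (c i) with h | h <;> simp [h]
    rw [this]
    unfold Int.ModEq
    omega
  · have : bitWord (fun i => if c i = 1 then (2 : ℤ) else 0) = c := by
      funext i
      simp only [bitWord]
      rcases zmod2_cases (c i) with h | h
      · rw [h]; simp
      · rw [h]; simp
    rw [this]; exact hc

theorem typeWord_two_ind (c : GolayPt → ZMod 2) (h0 : c none = 0) :
    typeWord (fun i => if c i = 1 then (2 : ℤ) else 0) = c := by
  funext i
  simp only [typeWord, gBit, h0]
  rcases zmod2_cases (c i) with h | h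
  · rw [h]; simp
  · rw [h]; simp

/-- The vector `(-3, 1, …, 1)`. -/
def vecThree : GolayPt → ℤ := fun i => if i = none then -3 else 1

theorem vecThree_mem : vecThree ∈ leechLattice := by
  rw [mem_leechLattice_iff]
  refine ⟨1, by decide, by decide, ?_⟩
  have : bitWord vecThree = 0 := by
    funext i
    simp only [bitWord, vecThree, Pi.zero_apply]
    by_cases h : i = none
    · rw [if_pos h]; decide
    · rw [if_neg h]; decide
  rw [this]; exact Submodule.zero_mem _

theorem typeWord_vecThree : typeWord vecThree = 1 := by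
  funext i
  simp only [typeWord, gBit, vecThree, if_true, Pi.one_apply]
  by_cases h : i = none
  · rw [if_pos h]; decide
  · rw [if_neg h]; decide

theorem typeWord_surj {c : GolayPt → ZMod 2} (hc : c ∈ golayCode) :
    ∃ x ∈ leechLattice, typeWord x = c := by
  rcases zmod2_cases (c none) with h | h
  · exact ⟨_, two_ind_mem hc, typeWord_two_ind c h⟩
  · have hc' : c + 1 ∈ golayCode := Submodule.add_mem _ hc one_mem_golayCode
    have h0 : (c + 1) none = 0 := by
      simp only [Pi.add_apply, Pi.one_apply, h]; decide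
    refine ⟨_, leechLattice.add_mem (two_ind_mem hc') vecThree_mem, ?_⟩
    rw [typeWord_add_mem (two_ind_mem hc') vecThree_mem, typeWord_two_ind _ h0, typeWord_vecThree]
    funext i
    simp only [Pi.add_apply, Pi.one_apply]
    have h2z : (2 : ZMod 2) = 0 := by decide
    linear_combination h2z

/-- `typeWord` as an additive homomorphism on the lattice. -/
def typeHom : leechLattice →+ (GolayPt → ZMod 2) :=
  AddMonoidHom.mk' (fun x => typeWord x.1) (fun x y => typeWord_add_mem x.2 y.2)

theorem typeHom_apply (x : leechLattice) : typeHom x = typeWord x.1 := rfl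

theorem typeHom_range : (typeHom.range : Set (GolayPt → ZMod 2)) = (golayCode : Set (GolayPt → ZMod 2)) := by
  ext c
  constructor
  · rintro ⟨x, rfl⟩
    exact typeWord_mem x.2
  · intro hc
    obtain ⟨x, hx, rfl⟩ := typeWord_surj hc
    exact ⟨⟨x, hx⟩, rfl⟩

theorem typeHom_ker_index : typeHom.ker.index = 2 ^ 12 := by
  rw [AddSubgroup.index_ker]
  have : Nat.card typeHom.range = Nat.card golayCode :=
    Nat.card_congr (Equiv.setCongr typeHom_range)
  rw [this, Cfsg.Agent.Lib.Helper6.Golay.card_golayCode]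
  norm_num

end Cfsg.Agent.Lib.Helper92
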