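import Cfsg.Agent.Lib.Helper6.Golay

set_option autoImplicit false

namespace Cfsg.Agent.Lib.Helper92

open Cfsg Cfsg.Agent.Lib.Helper6.Golay

/-! ### The weight enumerator of the code -/

section Weights

set_option maxRecDepth 100000 in
theorem cnt0 : cnt (fun k => Nat.beq (pc24 (enc k)) 0) 4096 = 1 := by decide +kernel

set_option maxRecDepth 100000 in
theorem cnt16 : cnt (fun k => Nat.beq (pc24 (enc k)) 16) 4096 = 759 := by decide +kernel

set_option maxRecDepth 100000 in
theorem cnt24 : cnt (fun k => Nat.beq (pc24 (enc k)) 24) 4096 = 1 := by decide +kernel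

theorem card_filter_weight (w : ℕ) :
    ((Finset.range 4096).filter (fun k => pc24 (enc k) = w)).card =
      cnt (fun k => Nat.beq (pc24 (enc k)) w) 4096 := by
  refine Eq.trans ?_ (cnt_spec _ _).symm
  exact congrArg Finset.card (Finset.filter_congr (fun k _ =>
    ⟨fun h => by rw [h]; exact Nat.beq_refl _, fun h => Nat.eq_of_beq_eq_true h⟩))

/-- Sums over the code of a function of the weight. -/
theorem weight_enum (Φ : ℕ → ℕ) [Fintype golayCode] :
    ∑ c : golayCode, Φ (support₂ (c : GolayPt → ZMod 2)).card =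
      Φ 0 + 759 * Φ 8 + 2576 * Φ 12 + 759 * Φ 16 + Φ 24 := by
  have hb : Function.Bijective
      (fun k : Fin 4096 => (⟨ofMask (enc k.val), enc_mem k.val⟩ : golayCode)) := by
    constructor
    · intro k k' h
      have h1 : ofMask (enc k.val) = ofMask (enc k'.val) := congrArg Subtype.val h
      exact Fin.ext (enc_injOn k.2 k'.2 (ofMask_inj (enc_lt _) (enc_lt _) h1))
    · rintro ⟨w, hw⟩
      obtain ⟨k, hk, rfl⟩ := mem_golayCode_iff.1 hw
      exact ⟨⟨k, hk⟩, rfl⟩
  rw [← Function.Bijective.sum_comp hb (fun c : golayCode => Φ (support₂ (c : GolayPt → ZMod 2)).card)]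
  have h1 : ∀ k : Fin 4096, Φ (support₂ (ofMask (enc k.val))).card = Φ (pc24 (enc k.val)) := by
    intro k
    rw [support_ofMask, card_suppMask, pc24_eq]
  simp only [h1]
  rw [Fin.sum_univ_eq_sum_range (fun k => Φ (pc24 (enc k))) 4096]
  have hmaps : ∀ k ∈ Finset.range 4096, pc24 (enc k) ∈ ({0, 8, 12, 16, 24} : Finset ℕ) := by
    intro k hk
    rw [Finset.mem_range] at hk
    have := weight_cases hk
    rw [pc24_eq]
    simp only [Finset.mem_insert, Finset.mem_singleton]
    exact this
  rw [← Finset.sum_fiberwise_of_maps_to hmaps]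
  have hin : ∀ w : ℕ, ∑ k ∈ (Finset.range 4096).filter (fun k => pc24 (enc k) = w), Φ (pc24 (enc k))
      = cnt (fun k => Nat.beq (pc24 (enc k)) w) 4096 * Φ w := by
    intro w
    rw [← card_filter_weight, ← smul_eq_mul, ← Finset.sum_const]
    apply Finset.sum_congr rfl
    intro k hk
    rw [(Finset.mem_filter.mp hk).2]
  simp only [hin]
  rw [Finset.sum_insert (by decide), Finset.sum_insert (by decide), Finset.sum_insert (by decide),
    Finset.sum_insert (by decide), Finset.sum_singleton, cnt0, cnt8, cnt12, cnt16, cnt24]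
  ring

end Weights

end Cfsg.Agent.Lib.Helper92
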