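import Cfsg.Agent.Lib.Helper92.CountDP
import Cfsg.Agent.Lib.Helper92.WeightEnum
import Cfsg.Agent.Lib.Helper92.LeechMod2

set_option autoImplicit false

namespace Cfsg.Agent.Lib.Helper92

open Cfsg Cfsg.Agent.Lib.Helper7 Cfsg.Agent.Lib.Helper92.DP

/-! ### The box of coordinate values and residues -/

/-- The box of coordinate values. -/
noncomputable def boxW : Finset ℤ := Finset.Icc (-8) 8

/-- Residue modulo `8`, in a form that evaluates on numerals. -/
def res8 (v : ℤ) : ZMod 8 := (((v % 8).toNat : ℕ) : ZMod 8)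

theorem res8_eq (v : ℤ) : res8 v = (v : ZMod 8) := by
  unfold res8
  have h : ((v % 8).toNat : ℤ) = v % 8 := Int.toNat_of_nonneg (Int.emod_nonneg _ (by norm_num))
  have h2 : (((v % 8).toNat : ℕ) : ZMod 8) = (((v % 8).toNat : ℤ) : ZMod 8) := by
    rw [Int.cast_natCast]
  rw [h2, h]
  exact (ZMod.intCast_eq_intCast_iff _ _ 8).mpr (Int.mod_modEq v 8)

theorem sum_res8 (x : GolayPt → ℤ) : ∑ i, res8 (x i) = ((∑ i, x i : ℤ) : ZMod 8) := by
  simp only [res8_eq]
  rw [Int.cast_sum]

theorem cast8_eq_iff (a : ℤ) (k : ℕ) (hk : k < 8) :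
    ((a : ℤ) : ZMod 8) = ((k : ℕ) : ZMod 8) ↔ a % 8 = (k : ℤ) := by
  have h2 : ((k : ℕ) : ZMod 8) = (((k : ℤ)) : ZMod 8) := by rw [Int.cast_natCast]
  rw [h2, ZMod.intCast_eq_intCast_iff]
  unfold Int.ModEq
  constructor
  · intro h; omega
  · intro h; omega

theorem mem_boxW_of_sq {x : GolayPt → ℤ} (h : sqNorm x ≤ 64) (i : GolayPt) : x i ∈ boxW := by
  have h1 : x i ^ 2 ≤ sqNorm x :=
    Finset.single_le_sum (f := fun j => x j ^ 2) (fun j _ => sq_nonneg (x j)) (Finset.mem_univ i)
  unfold boxW
  rw [Finset.mem_Icc]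
  constructor
  · by_contra hc
    push Not at hc
    nlinarith
  · by_contra hc
    push Not at hc
    nlinarith

/-! ### The even instance -/

/-- Allowed residues modulo `4` of an even coordinate. -/
def AE (b : Bool) (v : ℤ) : Prop := v % 4 = if b then 2 else 0

instance (b : Bool) (v : ℤ) : Decidable (AE b v) := by unfold AE; infer_instance

/-- Indicator weights of the even instance. -/
def wtE (b : Bool) (v : ℤ) : ℕ := if AE b v then 1 else 0

/-- Cost of an even coordinate. -/
def qE (v : ℤ) : ℤ := v ^ 2 / 4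

/-- Options of a coordinate `≡ 2 (mod 4)`. -/
def LAe : List (ℕ × ℕ) := [(9, 2), (1, 6), (1, 2), (9, 6)]

/-- Options of a coordinate `≡ 0 (mod 4)`. -/
def LBe : List (ℕ × ℕ) := [(16, 0), (4, 4), (0, 0), (4, 4), (16, 0)]

theorem stepE_true : stepW boxW wtE qE res8 true = stepP LAe := by
  funext T r s
  unfold stepW stepP
  rw [Finset.sum_coe_sort boxW (fun v => wtE true v * T (r - qE v) (s - res8 v))]
  have hf : boxW.filter (fun v => v % 4 = 2) = {-6, -2, 2, 6} := by decide
  simp only [wtE, AE, ite_mul, one_mul, zero_mul, if_true]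
  rw [← Finset.sum_filter, hf]
  rw [Finset.sum_insert (by decide), Finset.sum_insert (by decide), Finset.sum_insert (by decide),
    Finset.sum_singleton]
  simp only [LAe, qE, res8, List.map_cons, List.map_nil, List.sum_cons, List.sum_nil]
  norm_num

theorem stepE_false : stepW boxW wtE qE res8 false = stepP LBe := by
  funext T r s
  unfold stepW stepP
  rw [Finset.sum_coe_sort boxW (fun v => wtE false v * T (r - qE v) (s - res8 v))]
  have hf : boxW.filter (fun v => v % 4 = 0) = {-8, -4, 0, 4, 8} := by decide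
  simp only [wtE, AE, ite_mul, one_mul, zero_mul, Bool.false_eq_true, if_false]
  rw [← Finset.sum_filter, hf]
  rw [Finset.sum_insert (by decide), Finset.sum_insert (by decide), Finset.sum_insert (by decide),
    Finset.sum_insert (by decide), Finset.sum_singleton]
  simp only [LBe, qE, res8, List.map_cons, List.map_nil, List.sum_cons, List.sum_nil]
  norm_num

/-! ### The odd instance -/

/-- Allowed residues modulo `4` of an odd coordinate. -/
def AO (b : Bool) (v : ℤ) : Prop := v % 4 = if b then 3 else 1

instance (b : Bool) (v : ℤ) : Decidable (AO b v) := by unfold AO; infer_instance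

/-- Indicator weights of the odd instance. -/
def wtO (b : Bool) (v : ℤ) : ℕ := if AO b v then 1 else 0

/-- Cost of an odd coordinate. -/
def qO (v : ℤ) : ℤ := (v ^ 2 - 1) / 8

/-- Options of a coordinate `≡ 3 (mod 4)`. -/
def LAo : List (ℕ × ℕ) := [(3, 3), (0, 7), (1, 3), (6, 7)]

/-- Options of a coordinate `≡ 1 (mod 4)`. -/
def LBo : List (ℕ × ℕ) := [(6, 1), (1, 5), (0, 1), (3, 5)]

theorem stepO_true : stepW boxW wtO qO res8 true = stepP LAo := by
  funext T r s
  unfold stepW stepP
  rw [Finset.sum_coe_sort boxW (fun v => wtO true v * T (r - qO v) (s - res8 v))]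
  have hf : boxW.filter (fun v => v % 4 = 3) = {-5, -1, 3, 7} := by decide
  simp only [wtO, AO, ite_mul, one_mul, zero_mul, if_true]
  rw [← Finset.sum_filter, hf]
  rw [Finset.sum_insert (by decide), Finset.sum_insert (by decide), Finset.sum_insert (by decide),
    Finset.sum_singleton]
  simp only [LAo, qO, res8, List.map_cons, List.map_nil, List.sum_cons, List.sum_nil]
  norm_num

theorem stepO_false : stepW boxW wtO qO res8 false = stepP LBo := by
  funext T r s
  unfold stepW stepP
  rw [Finset.sum_coe_sort boxW (fun v => wtO false v * T (r - qO v) (s - res8 v))]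
  have hf : boxW.filter (fun v => v % 4 = 1) = {-7, -3, 1, 5} := by decide
  simp only [wtO, AO, ite_mul, one_mul, zero_mul, Bool.false_eq_true, if_false]
  rw [← Finset.sum_filter, hf]
  rw [Finset.sum_insert (by decide), Finset.sum_insert (by decide), Finset.sum_insert (by decide),
    Finset.sum_singleton]
  simp only [LBo, qO, res8, List.map_cons, List.map_nil, List.sum_cons, List.sum_nil]
  norm_num

end Cfsg.Agent.Lib.Helper92
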