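import Cfsg.Agent.Lib.Helper92.LeechCountVals

set_option autoImplicit false

namespace Cfsg.Agent.Lib.Helper92

open Cfsg Cfsg.Agent.Lib.Helper7 Cfsg.Agent.Lib.Helper92.DP

/-! ### Counting with coordinates restricted to a list of values -/

theorem sum_map_ite (l : List ℤ) (P : ℤ → Prop) [DecidablePred P] (g : ℤ → ℕ) :
    (l.map (fun v => if P v then g v else 0)).sum =
      ((l.filter (fun v => decide (P v))).map g).sum := by
  induction l with
  | nil => rfl
  | cons a l ih =>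
    rw [List.map_cons, List.sum_cons, ih, List.filter_cons]
    by_cases h : P a
    · simp [h]
    · simp [h]

/-- The options (cost, residue) of a coordinate of kind `b` with values in the list `l`. -/
def optList (l : List ℤ) (A : Bool → ℤ → Prop) [∀ b v, Decidable (A b v)] (q : ℤ → ℤ) (b : Bool) :
    List (ℕ × ℕ) :=
  (l.filter (fun v => decide (A b v))).map (fun v => ((q v).toNat, (v % 8).toNat))

theorem optList_snd_le (l : List ℤ) (A : Bool → ℤ → Prop) [∀ b v, Decidable (A b v)] (q : ℤ → ℤ)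
    (b : Bool) : ∀ p ∈ optList l A q b, p.2 ≤ 8 := by
  intro p hp
  unfold optList at hp
  rw [List.mem_map] at hp
  obtain ⟨v, -, rfl⟩ := hp
  show (v % 8).toNat ≤ 8
  omega

theorem stepW_list (l : List ℤ) (hl : l.Nodup) (wt : Bool → ℤ → ℕ) (A : Bool → ℤ → Prop)
    [∀ b v, Decidable (A b v)] (hwt : ∀ b v, wt b v = if A b v then 1 else 0) (q : ℤ → ℤ)
    (hq : ∀ b, ∀ v ∈ l, A b v → 0 ≤ q v) (b : Bool) :
    stepW l.toFinset wt q res8 b = stepP (optList l A q b) := by
  funext T r s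
  unfold stepW stepP optList
  rw [Finset.sum_coe_sort l.toFinset (fun v => wt b v * T (r - q v) (s - res8 v)),
    List.sum_toFinset _ hl]
  have h1 : (l.map (fun v => wt b v * T (r - q v) (s - res8 v))) =
      l.map (fun v => if A b v then T (r - q v) (s - res8 v) else 0) := by
    apply List.map_congr_left
    intro v _
    rw [hwt]
    split_ifs <;> simp
  rw [h1, sum_map_ite, List.map_map]
  congr 1
  apply List.map_congr_left
  intro v hv
  obtain ⟨hvl, hA⟩ := List.mem_filter.mp hv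
  have hA' : A b v := of_decide_eq_true hA
  simp only [Function.comp]
  rw [Int.toNat_of_nonneg (hq b v hvl hA')]
  rfl

/-- All coordinates lie in the list `l`. -/
def inBox (l : List ℤ) (x : GolayPt → ℤ) : Prop := ∀ i, x i ∈ l

theorem finite_inBox (l : List ℤ) (S : Set (GolayPt → ℤ)) (h : ∀ x ∈ S, inBox l x) : S.Finite := by
  refine Set.Finite.subset (Set.Finite.pi (t := fun _ : GolayPt => ((l.toFinset : Finset ℤ) : Set ℤ))
    (fun _ => Finset.finite_toSet _)) ?_
  intro x hx i _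
  exact Finset.mem_coe.mpr (List.mem_toFinset.mpr (h x hx i))

theorem mem_SE_iff' (c : GolayPt → ZMod 2) (m : ℕ) (x : GolayPt → ℤ) :
    x ∈ SE c m ↔ (∀ i, AE (tK c i) (x i)) ∧ ∑ i, qE (x i) = (m : ℤ) ∧
      ∑ i, res8 (x i) = ((0 : ℕ) : ZMod 8) := by
  have hA : (∀ i, AE (tK c i) (x i)) ↔ (∀ i, x i % 4 = if c i = 1 then 2 else 0) := by
    simp only [AE, tK, decide_eq_true_eq]
  have hq : (∀ i, x i % 4 = if c i = 1 then 2 else 0) → sqNorm x = 4 * ∑ i, qE (x i) := by
    intro h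
    unfold sqNorm
    rw [Finset.mul_sum]
    refine Finset.sum_congr rfl (fun i _ => ?_)
    unfold qE
    have h2 : x i % 2 = 0 := by
      have := h i
      split_ifs at this <;> omega
    obtain ⟨k, hk⟩ : ∃ k, x i = 2 * k := ⟨x i / 2, by omega⟩
    rw [hk]
    have e : (2 * k) ^ 2 = 4 * k ^ 2 := by ring
    rw [e, Int.mul_ediv_cancel_left _ (by norm_num)]
  rw [sum_res8, cast8_eq_iff _ 0 (by norm_num), hA]
  constructor
  · rintro ⟨h1, h2, h3⟩
    refine ⟨h1, ?_, by simpa using h2⟩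
    have := hq h1
    omega
  · rintro ⟨h1, h2, h3⟩
    exact ⟨h1, by simpa using h3, by rw [hq h1, h2]⟩

theorem mem_SO_iff' (c : GolayPt → ZMod 2) (m : ℕ) (x : GolayPt → ℤ) :
    x ∈ SO c m ↔ (∀ i, AO (tK c i) (x i)) ∧ ∑ i, qO (x i) = (m : ℤ) ∧
      ∑ i, res8 (x i) = ((4 : ℕ) : ZMod 8) := by
  have hA : (∀ i, AO (tK c i) (x i)) ↔ (∀ i, x i % 4 = if c i = 1 then 3 else 1) := by
    simp only [AO, tK, decide_eq_true_eq]
  have hq : (∀ i, x i % 4 = if c i = 1 then 3 else 1) → sqNorm x = 8 * ∑ i, qO (x i) + 24 := by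
    intro h
    unfold sqNorm
    have h24 : (24 : ℤ) = ∑ _i : GolayPt, (1 : ℤ) := by
      rw [Finset.sum_const, Finset.card_univ, card_golayPt]
      rfl
    rw [Finset.mul_sum, h24, ← Finset.sum_add_distrib]
    refine Finset.sum_congr rfl (fun i _ => ?_)
    unfold qO
    have h2 : x i % 2 = 1 := by
      have := h i
      split_ifs at this <;> omega
    obtain ⟨k, hk⟩ : ∃ k, x i = 2 * k + 1 := ⟨x i / 2, by omega⟩
    rw [hk]
    have hkk : 2 ∣ k * (k + 1) := by
      rcases Int.emod_two_eq_zero_or_one k with h0 | h0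
      · exact Dvd.dvd.mul_right (Int.dvd_of_emod_eq_zero h0) _
      · exact Dvd.dvd.mul_left (Int.dvd_of_emod_eq_zero (by omega)) _
    obtain ⟨j, hj⟩ := hkk
    have e : (2 * k + 1) ^ 2 - 1 = 8 * j := by
      have : (2 * k + 1) ^ 2 - 1 = 4 * (k * (k + 1)) := by ring
      rw [this, hj]; ring
    rw [e, Int.mul_ediv_cancel_left _ (by norm_num)]
    have : (2 * k + 1) ^ 2 = 8 * j + 1 := by linarith
    rw [this]
  rw [sum_res8, cast8_eq_iff _ 4 (by norm_num), hA]
  constructor
  · rintro ⟨h1, h2, h3⟩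
    refine ⟨h1, ?_, by simpa using h2⟩
    have := hq h1
    omega
  · rintro ⟨h1, h2, h3⟩
    exact ⟨h1, by simpa using h3, by rw [hq h1, h2]⟩

theorem qE_nonneg (v : ℤ) : 0 ≤ qE v := Int.ediv_nonneg (sq_nonneg v) (by norm_num)

theorem qO_nonneg (b : Bool) (v : ℤ) (h : AO b v) : 0 ≤ qO v := by
  unfold AO at h
  unfold qO
  have h1 : v ≠ 0 := by
    rintro rfl
    cases b <;> simp at h
  have h2 : 1 ≤ v ^ 2 := by
    have := sq_nonneg v
    have h3 : v ^ 2 ≠ 0 := pow_ne_zero 2 h1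
    omega
  exact Int.ediv_nonneg (by omega) (by norm_num)

/-- The even count with coordinates in `l`, as an iterate. -/
def FEb (l : List ℤ) (a m : ℕ) : ℕ :=
  (stepP (optList l AE qE true))^[a] ((stepP (optList l AE qE false))^[24 - a] T0) (m : ℤ)
    ((0 : ℕ) : ZMod 8)

/-- The odd count with coordinates in `l`, as an iterate. -/
def FOb (l : List ℤ) (a m : ℕ) : ℕ :=
  (stepP (optList l AO qO true))^[a] ((stepP (optList l AO qO false))^[24 - a] T0) (m : ℤ)
    ((4 : ℕ) : ZMod 8)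

theorem ncard_SE_box (l : List ℤ) (hl : l.Nodup) (c : GolayPt → ZMod 2) (m : ℕ) :
    {x : GolayPt → ℤ | inBox l x ∧ x ∈ SE c m}.ncard = FEb l (support₂ c).card m := by
  classical
  rw [ncard_eq_wsum l.toFinset wtE AE (fun _ _ => rfl) qE res8 (tK c) (m : ℤ) ((0 : ℕ) : ZMod 8)
    {x : GolayPt → ℤ | inBox l x ∧ x ∈ SE c m} (fun x => by
      show (inBox l x ∧ x ∈ SE c m) ↔ _
      rw [mem_SE_iff']
      simp only [inBox, List.mem_toFinset]),
    wsum_eq, stepW_list l hl wtE AE (fun _ _ => rfl) qE (fun _ v _ _ => qE_nonneg v) true,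
    stepW_list l hl wtE AE (fun _ _ => rfl) qE (fun _ v _ _ => qE_nonneg v) false, cntT_tK, cntF_tK]
  rfl

theorem ncard_SO_box (l : List ℤ) (hl : l.Nodup) (c : GolayPt → ZMod 2) (m : ℕ) :
    {x : GolayPt → ℤ | inBox l x ∧ x ∈ SO c m}.ncard = FOb l (support₂ c).card m := by
  classical
  rw [ncard_eq_wsum l.toFinset wtO AO (fun _ _ => rfl) qO res8 (tK c) (m : ℤ) ((4 : ℕ) : ZMod 8)
    {x : GolayPt → ℤ | inBox l x ∧ x ∈ SO c m} (fun x => by
      show (inBox l x ∧ x ∈ SO c m) ↔ _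
      rw [mem_SO_iff']
      simp only [inBox, List.mem_toFinset]),
    wsum_eq, stepW_list l hl wtO AO (fun _ _ => rfl) qO (fun b v _ h => qO_nonneg b v h) true,
    stepW_list l hl wtO AO (fun _ _ => rfl) qO (fun b v _ h => qO_nonneg b v h) false, cntT_tK,
    cntF_tK]
  rfl

/-- The number of lattice vectors of a given length with coordinates in `l`, as a sum over
the code. -/
theorem count_decomp_box (l : List ℤ) (hl : l.Nodup) (n : ℤ) (m m' : ℕ) (hn : n = 4 * (m : ℤ))
    (hn' : n = 8 * (m' : ℤ) + 24) [Fintype golayCode] :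
    {x : GolayPt → ℤ | x ∈ leechLattice ∧ sqNorm x = n ∧ inBox l x}.ncard =
      ∑ c : golayCode, FEb l (support₂ (c : GolayPt → ZMod 2)).card m +
        ∑ c : golayCode, FOb l (support₂ (c : GolayPt → ZMod 2)).card m' := by
  classical
  have fin1 : ∀ c : golayCode, Finite {x : GolayPt → ℤ | inBox l x ∧ x ∈ SE (c : GolayPt → ZMod 2) m} :=
    fun c => (finite_inBox l _ (fun x hx => hx.1)).to_subtype
  have fin2 : ∀ c : golayCode, Finite {x : GolayPt → ℤ | inBox l x ∧ x ∈ SO (c : GolayPt → ZMod 2) m'} :=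
    fun c => (finite_inBox l _ (fun x hx => hx.1)).to_subtype
  let f : ((Σ c : golayCode, {x : GolayPt → ℤ | inBox l x ∧ x ∈ SE (c : GolayPt → ZMod 2) m}) ⊕
      (Σ c : golayCode, {x : GolayPt → ℤ | inBox l x ∧ x ∈ SO (c : GolayPt → ZMod 2) m'})) →
      {x : GolayPt → ℤ | x ∈ leechLattice ∧ sqNorm x = n ∧ inBox l x} :=
    fun p => Sum.elim
      (fun q => ⟨q.2.1, mem_lattice_of_SE q.1.2 q.2.2.2, by rw [hn]; exact q.2.2.2.2.2, q.2.2.1⟩)
      (fun q => ⟨q.2.1, mem_lattice_of_SO q.1.2 q.2.2.2, by rw [hn']; exact q.2.2.2.2.2, q.2.2.1⟩) p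
  have hf : Function.Bijective f := by
    constructor
    · rintro (⟨c, x⟩ | ⟨c, x⟩) (⟨c', x'⟩ | ⟨c', x'⟩) hxx
      · have e : x.1 = x'.1 := congrArg Subtype.val hxx
        have ec : c = c' := Subtype.ext (by
          rw [← bitWord_of_SE x.2.2, ← bitWord_of_SE x'.2.2, e])
        exact congrArg Sum.inl (Sigma.subtype_ext ec e)
      · exfalso
        have e : x.1 = x'.1 := congrArg Subtype.val hxx
        have h1 := even_of_SE x.2.2 none
        have h2 := odd_of_SO x'.2.2 none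
        rw [e] at h1
        omega
      · exfalso
        have e : x.1 = x'.1 := congrArg Subtype.val hxx
        have h1 := odd_of_SO x.2.2 none
        have h2 := even_of_SE x'.2.2 none
        rw [e] at h1
        omega
      · have e : x.1 = x'.1 := congrArg Subtype.val hxx
        have ec : c = c' := Subtype.ext (by
          rw [← bitWord_of_SO x.2.2, ← bitWord_of_SO x'.2.2, e])
        exact congrArg Sum.inr (Sigma.subtype_ext ec e)
    · rintro ⟨x, hx, hxn, hb⟩
      rcases mem_SE_or_SO hx m m' (by rw [hxn, hn]) (by rw [hxn, hn']) with h | h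
      · exact ⟨Sum.inl ⟨⟨bitWord x, bitWord_mem hx⟩, ⟨x, hb, h⟩⟩, rfl⟩
      · exact ⟨Sum.inr ⟨⟨bitWord x, bitWord_mem hx⟩, ⟨x, hb, h⟩⟩, rfl⟩
  rw [← Nat.card_coe_set_eq, ← Nat.card_congr (Equiv.ofBijective f hf), Nat.card_sum,
    Nat.card_sigma, Nat.card_sigma]
  congr 1
  · refine Finset.sum_congr rfl (fun c _ => ?_)
    rw [Nat.card_coe_set_eq, ncard_SE_box l hl]
  · refine Finset.sum_congr rfl (fun c _ => ?_)
    rw [Nat.card_coe_set_eq, ncard_SO_box l hl]

/-- The count of lattice vectors of a given length with coordinates in `l` from the values of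
the recursion. -/
theorem count_formula_box (l : List ℤ) (hl : l.Nodup) (n : ℤ) (m m' : ℕ) (hn : n = 4 * (m : ℤ))
    (hn' : n = 8 * (m' : ℤ) + 24) (e0 e8 e12 e16 e24 o0 o8 o12 o16 o24 : ℕ)
    (h1 : FEb l 0 m = e0) (h2 : FEb l 8 m = e8) (h3 : FEb l 12 m = e12) (h4 : FEb l 16 m = e16)
    (h5 : FEb l 24 m = e24) (h6 : FOb l 0 m' = o0) (h7 : FOb l 8 m' = o8) (h8 : FOb l 12 m' = o12)
    (h9 : FOb l 16 m' = o16) (h10 : FOb l 24 m' = o24) :
    {x : GolayPt → ℤ | x ∈ leechLattice ∧ sqNorm x = n ∧ inBox l x}.ncard =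
      e0 + 759 * e8 + 2576 * e12 + 759 * e16 + e24 +
        (o0 + 759 * o8 + 2576 * o12 + 759 * o16 + o24) := by
  classical
  haveI : Fintype golayCode := Fintype.ofFinite _
  have hE := weight_enum (fun a => FEb l a m)
  have hO := weight_enum (fun a => FOb l a m')
  simp only [h1, h2, h3, h4, h5] at hE
  simp only [h6, h7, h8, h9, h10] at hO
  rw [count_decomp_box l hl n m m' hn hn', hE, hO]

theorem FEb_eval (l : List ℤ) (R a m : ℕ) (hm : m ≤ R) :
    FEb l a m = look ((stepTab R (optList l AE qE true))^[a]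
      ((stepTab R (optList l AE qE false))^[24 - a] (tab0 R))) m 0 :=
  eval_tab R _ _ (optList_snd_le l AE qE true) (optList_snd_le l AE qE false) a (24 - a) m hm 0
    (by norm_num)

theorem FOb_eval (l : List ℤ) (R a m : ℕ) (hm : m ≤ R) :
    FOb l a m = look ((stepTab R (optList l AO qO true))^[a]
      ((stepTab R (optList l AO qO false))^[24 - a] (tab0 R))) m 4 :=
  eval_tab R _ _ (optList_snd_le l AO qO true) (optList_snd_le l AO qO false) a (24 - a) m hm 4
    (by norm_num)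

end Cfsg.Agent.Lib.Helper92
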