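import Cfsg.Agent.Lib.Helper92.LeechCountSets

set_option autoImplicit false

namespace Cfsg.Agent.Lib.Helper92

open Cfsg Cfsg.Agent.Lib.Helper7 Cfsg.Agent.Lib.Helper92.DP

/-! ### The lattice vectors of a given length, split by parity and word -/

theorem bitWord_of_SE {c : GolayPt → ZMod 2} {m : ℕ} {x : GolayPt → ℤ} (hx : x ∈ SE c m) :
    bitWord x = c := by
  funext i
  have h := hx.1 i
  unfold bitWord
  rw [cast_half]
  rcases zmod2_cases (c i) with h0 | h0
  · rw [h0] at h ⊢
    rw [if_neg (by decide)] at h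
    rw [if_neg (by omega)]
  · rw [h0] at h ⊢
    rw [if_pos rfl] at h
    rw [if_pos (by omega)]

theorem bitWord_of_SO {c : GolayPt → ZMod 2} {m : ℕ} {x : GolayPt → ℤ} (hx : x ∈ SO c m) :
    bitWord x = c := by
  funext i
  have h := hx.1 i
  unfold bitWord
  rw [cast_half]
  rcases zmod2_cases (c i) with h0 | h0
  · rw [h0] at h ⊢
    rw [if_neg (by decide)] at h
    rw [if_neg (by omega)]
  · rw [h0] at h ⊢
    rw [if_pos rfl] at h
    rw [if_pos (by omega)]

theorem even_of_SE {c : GolayPt → ZMod 2} {m : ℕ} {x : GolayPt → ℤ} (hx : x ∈ SE c m)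
    (i : GolayPt) : x i % 2 = 0 := by
  have h := hx.1 i
  split_ifs at h <;> omega

theorem odd_of_SO {c : GolayPt → ZMod 2} {m : ℕ} {x : GolayPt → ℤ} (hx : x ∈ SO c m)
    (i : GolayPt) : x i % 2 = 1 := by
  have h := hx.1 i
  split_ifs at h <;> omega

theorem mem_lattice_of_SE {c : GolayPt → ZMod 2} {m : ℕ} {x : GolayPt → ℤ} (hc : c ∈ golayCode)
    (hx : x ∈ SE c m) : x ∈ leechLattice := by
  rw [mem_leechLattice_iff]
  refine ⟨0, fun i => ?_, ?_, ?_⟩
  · have := even_of_SE hx i
    unfold Int.ModEq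
    omega
  · have := hx.2.1
    unfold Int.ModEq
    omega
  · rw [bitWord_of_SE hx]
    exact hc

theorem mem_lattice_of_SO {c : GolayPt → ZMod 2} {m : ℕ} {x : GolayPt → ℤ} (hc : c ∈ golayCode)
    (hx : x ∈ SO c m) : x ∈ leechLattice := by
  rw [mem_leechLattice_iff]
  refine ⟨1, fun i => ?_, ?_, ?_⟩
  · have := odd_of_SO hx i
    unfold Int.ModEq
    omega
  · have := hx.2.1
    unfold Int.ModEq
    omega
  · rw [bitWord_of_SO hx]
    exact hc

theorem bitWord_mem {x : GolayPt → ℤ} (hx : x ∈ leechLattice) : bitWord x ∈ golayCode := by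
  rw [mem_leechLattice_iff] at hx
  obtain ⟨_, _, _, h⟩ := hx
  exact h

theorem mem_SE_or_SO {x : GolayPt → ℤ} (hx : x ∈ leechLattice) (m m' : ℕ)
    (h : sqNorm x = 4 * (m : ℤ)) (h' : sqNorm x = 8 * (m' : ℤ) + 24) :
    x ∈ SE (bitWord x) m ∨ x ∈ SO (bitWord x) m' := by
  rw [mem_leechLattice_iff] at hx
  obtain ⟨k, h2, h8, -⟩ := hx
  rcases Int.emod_two_eq_zero_or_one k with hk | hk
  · left
    refine ⟨fun i => ?_, ?_, h⟩
    · have hi := h2 i
      unfold Int.ModEq at hi
      have hb : bitWord x i = if x i % 4 = 2 ∨ x i % 4 = 3 then 1 else 0 := cast_half (x i)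
      have h4 : x i % 4 = 0 ∨ x i % 4 = 2 := by omega
      rcases h4 with h4 | h4
      · have hb0 : bitWord x i = 0 := by rw [hb, if_neg (by omega)]
        rw [hb0, if_neg (by decide), h4]
      · have hb1 : bitWord x i = 1 := by rw [hb, if_pos (by omega)]
        rw [hb1, if_pos rfl, h4]
    · unfold Int.ModEq at h8
      omega
  · right
    refine ⟨fun i => ?_, ?_, h'⟩
    · have hi := h2 i
      unfold Int.ModEq at hi
      have hb : bitWord x i = if x i % 4 = 2 ∨ x i % 4 = 3 then 1 else 0 := cast_half (x i)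
      have h4 : x i % 4 = 1 ∨ x i % 4 = 3 := by omega
      rcases h4 with h4 | h4
      · have hb0 : bitWord x i = 0 := by rw [hb, if_neg (by omega)]
        rw [hb0, if_neg (by decide), h4]
      · have hb1 : bitWord x i = 1 := by rw [hb, if_pos (by omega)]
        rw [hb1, if_pos rfl, h4]
    · unfold Int.ModEq at h8
      omega

/-- The number of lattice vectors of a given length, as a sum over the code. -/
theorem count_decomp (n : ℤ) (m m' : ℕ) (hn : n = 4 * (m : ℤ)) (hn' : n = 8 * (m' : ℤ) + 24)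
    (hm : m ≤ 16) (hm' : m' ≤ 5) [Fintype golayCode] :
    {x : GolayPt → ℤ | x ∈ leechLattice ∧ sqNorm x = n}.ncard =
      ∑ c : golayCode, FE (support₂ (c : GolayPt → ZMod 2)).card m +
        ∑ c : golayCode, FO (support₂ (c : GolayPt → ZMod 2)).card m' := by
  classical
  haveI : ∀ c : golayCode, Finite (SE (c : GolayPt → ZMod 2) m) :=
    fun c => (finite_SE c.1 m hm).to_subtype
  haveI : ∀ c : golayCode, Finite (SO (c : GolayPt → ZMod 2) m') :=
    fun c => (finite_SO c.1 m' hm').to_subtype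
  let f : ((Σ c : golayCode, SE (c : GolayPt → ZMod 2) m) ⊕
      (Σ c : golayCode, SO (c : GolayPt → ZMod 2) m')) →
      {x : GolayPt → ℤ | x ∈ leechLattice ∧ sqNorm x = n} :=
    fun p => Sum.elim
      (fun q => ⟨q.2.1, mem_lattice_of_SE q.1.2 q.2.2, by rw [hn]; exact q.2.2.2.2⟩)
      (fun q => ⟨q.2.1, mem_lattice_of_SO q.1.2 q.2.2, by rw [hn']; exact q.2.2.2.2⟩) p
  have hf : Function.Bijective f := by
    constructor
    · rintro (⟨c, x⟩ | ⟨c, x⟩) (⟨c', x'⟩ | ⟨c', x'⟩) hxx
      · have e : x.1 = x'.1 := congrArg Subtype.val hxx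
        have ec : c = c' := Subtype.ext (by
          rw [← bitWord_of_SE x.2, ← bitWord_of_SE x'.2, e])
        exact congrArg Sum.inl (Sigma.subtype_ext ec e)
      · exfalso
        have e : x.1 = x'.1 := congrArg Subtype.val hxx
        have h1 := even_of_SE x.2 none
        have h2 := odd_of_SO x'.2 none
        rw [e] at h1
        omega
      · exfalso
        have e : x.1 = x'.1 := congrArg Subtype.val hxx
        have h1 := odd_of_SO x.2 none
        have h2 := even_of_SE x'.2 none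
        rw [e] at h1
        omega
      · have e : x.1 = x'.1 := congrArg Subtype.val hxx
        have ec : c = c' := Subtype.ext (by
          rw [← bitWord_of_SO x.2, ← bitWord_of_SO x'.2, e])
        exact congrArg Sum.inr (Sigma.subtype_ext ec e)
    · rintro ⟨x, hx, hxn⟩
      rcases mem_SE_or_SO hx m m' (by rw [hxn, hn]) (by rw [hxn, hn']) with h | h
      · exact ⟨Sum.inl ⟨⟨bitWord x, bitWord_mem hx⟩, ⟨x, h⟩⟩, rfl⟩
      · exact ⟨Sum.inr ⟨⟨bitWord x, bitWord_mem hx⟩, ⟨x, h⟩⟩, rfl⟩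
  rw [← Nat.card_coe_set_eq, ← Nat.card_congr (Equiv.ofBijective f hf), Nat.card_sum,
    Nat.card_sigma, Nat.card_sigma]
  congr 1
  · refine Finset.sum_congr rfl (fun c _ => ?_)
    rw [Nat.card_coe_set_eq, ncard_SE _ _ hm]
  · refine Finset.sum_congr rfl (fun c _ => ?_)
    rw [Nat.card_coe_set_eq, ncard_SO _ _ hm']

end Cfsg.Agent.Lib.Helper92
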