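import Cfsg.Agent.Lib.Helper92.LeechCount

set_option autoImplicit false

namespace Cfsg.Agent.Lib.Helper92

open Cfsg Cfsg.Agent.Lib.Helper7 Cfsg.Agent.Lib.Helper92.DP

/-! ### Even and odd vectors with a prescribed word of second digits -/

/-- Even vectors with second-digit word `c`, coordinate sum `≡ 0 (mod 8)` and `sqNorm = 4m`. -/
def SE (c : GolayPt → ZMod 2) (m : ℕ) : Set (GolayPt → ℤ) :=
  {x | (∀ i, x i % 4 = if c i = 1 then 2 else 0) ∧ (∑ i, x i) % 8 = 0 ∧ sqNorm x = 4 * (m : ℤ)}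

/-- Odd vectors with second-digit word `c`, coordinate sum `≡ 4 (mod 8)` and
`sqNorm = 8m + 24`. -/
def SO (c : GolayPt → ZMod 2) (m : ℕ) : Set (GolayPt → ℤ) :=
  {x | (∀ i, x i % 4 = if c i = 1 then 3 else 1) ∧ (∑ i, x i) % 8 = 4 ∧
    sqNorm x = 8 * (m : ℤ) + 24}

/-- The kinds of the coordinates. -/
def tK (c : GolayPt → ZMod 2) : GolayPt → Bool := fun i => decide (c i = 1)

theorem cntT_tK (c : GolayPt → ZMod 2) : cntT (tK c) = (support₂ c).card := by
  unfold cntT tK support₂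
  rw [Finset.card_filter]
  refine Finset.sum_congr rfl (fun i _ => ?_)
  rcases zmod2_cases (c i) with h | h <;> simp [h]

theorem cntF_tK (c : GolayPt → ZMod 2) : cntF (tK c) = 24 - (support₂ c).card := by
  have h : cntT (tK c) + cntF (tK c) = 24 := by
    unfold cntT cntF
    rw [← Finset.sum_add_distrib]
    have : ∀ i : GolayPt, ((if tK c i = true then 1 else 0) + (if tK c i = true then 0 else 1) : ℕ) = 1 := by
      intro i; split_ifs <;> rfl
    simp only [this]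
    rw [Finset.sum_const, Finset.card_univ, card_golayPt]
    rfl
  rw [← cntT_tK]
  omega

theorem mem_SE_iff (c : GolayPt → ZMod 2) (m : ℕ) (hm : m ≤ 16) (x : GolayPt → ℤ) :
    x ∈ SE c m ↔ (∀ i, x i ∈ boxW) ∧ (∀ i, AE (tK c i) (x i)) ∧ ∑ i, qE (x i) = (m : ℤ) ∧
      ∑ i, res8 (x i) = ((0 : ℕ) : ZMod 8) := by
  have hA : (∀ i, AE (tK c i) (x i)) ↔ (∀ i, x i % 4 = if c i = 1 then 2 else 0) := by
    simp only [AE, tK, decide_eq_true_eq]
  have hq : (∀ i, x i % 4 = if c i = 1 then 2 else 0) → sqNorm x = 4 * ∑ i, qE (x i) := by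
    intro h
    unfold sqNorm
    rw [Finset.mul_sum]
    refine Finset.sum_congr rfl (fun i _ => ?_)
    unfold qE
    have h2 : x i % 2 = 0 := by
      have := h i
      split_ifs at this <;> omega
    obtain ⟨k, hk⟩ : ∃ k, x i = 2 * k := ⟨x i / 2, by omega⟩
    rw [hk]
    have e : (2 * k) ^ 2 = 4 * k ^ 2 := by ring
    rw [e, Int.mul_ediv_cancel_left _ (by norm_num)]
  rw [sum_res8, cast8_eq_iff _ 0 (by norm_num), hA]
  constructor
  · rintro ⟨h1, h2, h3⟩
    refine ⟨fun i => mem_boxW_of_sq (by rw [h3]; omega) i, h1, ?_, by simpa using h2⟩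
    have := hq h1
    omega
  · rintro ⟨-, h1, h2, h3⟩
    exact ⟨h1, by simpa using h3, by rw [hq h1, h2]⟩

theorem mem_SO_iff (c : GolayPt → ZMod 2) (m : ℕ) (hm : m ≤ 5) (x : GolayPt → ℤ) :
    x ∈ SO c m ↔ (∀ i, x i ∈ boxW) ∧ (∀ i, AO (tK c i) (x i)) ∧ ∑ i, qO (x i) = (m : ℤ) ∧
      ∑ i, res8 (x i) = ((4 : ℕ) : ZMod 8) := by
  have hA : (∀ i, AO (tK c i) (x i)) ↔ (∀ i, x i % 4 = if c i = 1 then 3 else 1) := by
    simp only [AO, tK, decide_eq_true_eq]
  have hq : (∀ i, x i % 4 = if c i = 1 then 3 else 1) → sqNorm x = 8 * ∑ i, qO (x i) + 24 := by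
    intro h
    unfold sqNorm
    have h24 : (24 : ℤ) = ∑ _i : GolayPt, (1 : ℤ) := by
      rw [Finset.sum_const, Finset.card_univ, card_golayPt]
      rfl
    rw [Finset.mul_sum, h24, ← Finset.sum_add_distrib]
    refine Finset.sum_congr rfl (fun i _ => ?_)
    unfold qO
    have h2 : x i % 2 = 1 := by
      have := h i
      split_ifs at this <;> omega
    obtain ⟨k, hk⟩ : ∃ k, x i = 2 * k + 1 := ⟨x i / 2, by omega⟩
    rw [hk]
    have hkk : 2 ∣ k * (k + 1) := by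
      rcases Int.emod_two_eq_zero_or_one k with h0 | h0
      · exact Dvd.dvd.mul_right (Int.dvd_of_emod_eq_zero h0) _
      · exact Dvd.dvd.mul_left (Int.dvd_of_emod_eq_zero (by omega)) _
    obtain ⟨j, hj⟩ := hkk
    have e : (2 * k + 1) ^ 2 - 1 = 8 * j := by
      have : (2 * k + 1) ^ 2 - 1 = 4 * (k * (k + 1)) := by ring
      rw [this, hj]; ring
    rw [e, Int.mul_ediv_cancel_left _ (by norm_num)]
    have : (2 * k + 1) ^ 2 = 8 * j + 1 := by linarith
    rw [this]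
  rw [sum_res8, cast8_eq_iff _ 4 (by norm_num), hA]
  constructor
  · rintro ⟨h1, h2, h3⟩
    refine ⟨fun i => mem_boxW_of_sq (by rw [h3]; omega) i, h1, ?_, by simpa using h2⟩
    have := hq h1
    omega
  · rintro ⟨-, h1, h2, h3⟩
    exact ⟨h1, by simpa using h3, by rw [hq h1, h2]⟩

/-- The even count as an iterate. -/
def FE (a m : ℕ) : ℕ := (stepP LAe)^[a] ((stepP LBe)^[24 - a] T0) (m : ℤ) ((0 : ℕ) : ZMod 8)

/-- The odd count as an iterate. -/
def FO (a m : ℕ) : ℕ := (stepP LAo)^[a] ((stepP LBo)^[24 - a] T0) (m : ℤ) ((4 : ℕ) : ZMod 8)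

theorem ncard_SE (c : GolayPt → ZMod 2) (m : ℕ) (hm : m ≤ 16) :
    (SE c m).ncard = FE (support₂ c).card m := by
  classical
  rw [ncard_eq_wsum boxW wtE AE (fun _ _ => rfl) qE res8 (tK c) (m : ℤ) ((0 : ℕ) : ZMod 8)
    (SE c m) (mem_SE_iff c m hm), wsum_eq, stepE_true, stepE_false, cntT_tK, cntF_tK]
  rfl

theorem ncard_SO (c : GolayPt → ZMod 2) (m : ℕ) (hm : m ≤ 5) :
    (SO c m).ncard = FO (support₂ c).card m := by
  classical
  rw [ncard_eq_wsum boxW wtO AO (fun _ _ => rfl) qO res8 (tK c) (m : ℤ) ((4 : ℕ) : ZMod 8)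
    (SO c m) (mem_SO_iff c m hm), wsum_eq, stepO_true, stepO_false, cntT_tK, cntF_tK]
  rfl

theorem finite_box (S : Set (GolayPt → ℤ)) (h : ∀ x ∈ S, ∀ i, x i ∈ boxW) : S.Finite := by
  refine Set.Finite.subset (Set.Finite.pi (t := fun _ : GolayPt => (boxW : Set ℤ))
    (fun _ => Finset.finite_toSet boxW)) ?_
  intro x hx i _
  exact h x hx i

theorem finite_SE (c : GolayPt → ZMod 2) (m : ℕ) (hm : m ≤ 16) : (SE c m).Finite :=
  finite_box _ (fun x hx => ((mem_SE_iff c m hm x).mp hx).1)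

theorem finite_SO (c : GolayPt → ZMod 2) (m : ℕ) (hm : m ≤ 5) : (SO c m).Finite :=
  finite_box _ (fun x hx => ((mem_SO_iff c m hm x).mp hx).1)

end Cfsg.Agent.Lib.Helper92
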