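import Cfsg.Agent.Lib.Helper92.LeechCountDecomp

set_option autoImplicit false

namespace Cfsg.Agent.Lib.Helper92

open Cfsg Cfsg.Agent.Lib.Helper7 Cfsg.Agent.Lib.Helper92.DP

/-! ### Evaluation of the counting recursion -/

theorem FE_eval (R a m : ℕ) (hm : m ≤ R) :
    FE a m = look ((stepTab R LAe)^[a] ((stepTab R LBe)^[24 - a] (tab0 R))) m 0 :=
  eval_tab R LAe LBe (by decide) (by decide) a (24 - a) m hm 0 (by norm_num)

theorem FO_eval (R a m : ℕ) (hm : m ≤ R) :
    FO a m = look ((stepTab R LAo)^[a] ((stepTab R LBo)^[24 - a] (tab0 R))) m 4 :=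
  eval_tab R LAo LBo (by decide) (by decide) a (24 - a) m hm 4 (by norm_num)

/-- The count of lattice vectors of a given length from the values of the recursion. -/
theorem count_formula (n : ℤ) (m m' : ℕ) (hn : n = 4 * (m : ℤ)) (hn' : n = 8 * (m' : ℤ) + 24)
    (hm : m ≤ 16) (hm' : m' ≤ 5) (e0 e8 e12 e16 e24 o0 o8 o12 o16 o24 : ℕ)
    (h1 : FE 0 m = e0) (h2 : FE 8 m = e8) (h3 : FE 12 m = e12) (h4 : FE 16 m = e16)
    (h5 : FE 24 m = e24) (h6 : FO 0 m' = o0) (h7 : FO 8 m' = o8) (h8 : FO 12 m' = o12)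
    (h9 : FO 16 m' = o16) (h10 : FO 24 m' = o24) :
    {x : GolayPt → ℤ | x ∈ leechLattice ∧ sqNorm x = n}.ncard =
      e0 + 759 * e8 + 2576 * e12 + 759 * e16 + e24 +
        (o0 + 759 * o8 + 2576 * o12 + 759 * o16 + o24) := by
  classical
  haveI : Fintype golayCode := Fintype.ofFinite _
  have hE := weight_enum (fun a => FE a m)
  have hO := weight_enum (fun a => FO a m')
  simp only [h1, h2, h3, h4, h5] at hE
  simp only [h6, h7, h8, h9, h10] at hO
  rw [count_decomp n m m' hn hn' hm hm', hE, hO]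

set_option maxRecDepth 100000 in
theorem FE_0_8 : FE 0 8 = 1104 :=
  (FE_eval 8 0 8 le_rfl).trans (by decide +kernel)

set_option maxRecDepth 100000 in
theorem FE_8_8 : FE 8 8 = 128 :=
  (FE_eval 8 8 8 le_rfl).trans (by decide +kernel)

set_option maxRecDepth 100000 in
theorem FE_12_8 : FE 12 8 = 0 :=
  (FE_eval 8 12 8 le_rfl).trans (by decide +kernel)

set_option maxRecDepth 100000 in
theorem FE_16_8 : FE 16 8 = 0 :=
  (FE_eval 8 16 8 le_rfl).trans (by decide +kernel)

set_option maxRecDepth 100000 in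
theorem FE_24_8 : FE 24 8 = 0 :=
  (FE_eval 8 24 8 le_rfl).trans (by decide +kernel)

set_option maxRecDepth 100000 in
theorem FE_0_12 : FE 0 12 = 0 :=
  (FE_eval 12 0 12 le_rfl).trans (by decide +kernel)

set_option maxRecDepth 100000 in
theorem FE_8_12 : FE 8 12 = 4096 :=
  (FE_eval 12 8 12 le_rfl).trans (by decide +kernel)

set_option maxRecDepth 100000 in
theorem FE_12_12 : FE 12 12 = 2048 :=
  (FE_eval 12 12 12 le_rfl).trans (by decide +kernel)

set_option maxRecDepth 100000 in
theorem FE_16_12 : FE 16 12 = 0 :=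
  (FE_eval 12 16 12 le_rfl).trans (by decide +kernel)

set_option maxRecDepth 100000 in
theorem FE_24_12 : FE 24 12 = 0 :=
  (FE_eval 12 24 12 le_rfl).trans (by decide +kernel)

set_option maxRecDepth 100000 in
theorem FE_0_16 : FE 0 16 = 170064 :=
  (FE_eval 16 0 16 le_rfl).trans (by decide +kernel)

set_option maxRecDepth 100000 in
theorem FE_8_16 : FE 8 16 = 62464 :=
  (FE_eval 16 8 16 le_rfl).trans (by decide +kernel)

set_option maxRecDepth 100000 in
theorem FE_12_16 : FE 12 16 = 49152 :=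
  (FE_eval 16 12 16 le_rfl).trans (by decide +kernel)

set_option maxRecDepth 100000 in
theorem FE_16_16 : FE 16 16 = 32768 :=
  (FE_eval 16 16 16 le_rfl).trans (by decide +kernel)

set_option maxRecDepth 100000 in
theorem FE_24_16 : FE 24 16 = 0 :=
  (FE_eval 16 24 16 le_rfl).trans (by decide +kernel)

set_option maxRecDepth 100000 in
theorem FO_0_1 : FO 0 1 = 24 :=
  (FO_eval 1 0 1 le_rfl).trans (by decide +kernel)

set_option maxRecDepth 100000 in
theorem FO_8_1 : FO 8 1 = 24 :=
  (FO_eval 1 8 1 le_rfl).trans (by decide +kernel)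

set_option maxRecDepth 100000 in
theorem FO_12_1 : FO 12 1 = 24 :=
  (FO_eval 1 12 1 le_rfl).trans (by decide +kernel)

set_option maxRecDepth 100000 in
theorem FO_16_1 : FO 16 1 = 24 :=
  (FO_eval 1 16 1 le_rfl).trans (by decide +kernel)

set_option maxRecDepth 100000 in
theorem FO_24_1 : FO 24 1 = 24 :=
  (FO_eval 1 24 1 le_rfl).trans (by decide +kernel)

set_option maxRecDepth 100000 in
theorem FO_0_3 : FO 0 3 = 2048 :=
  (FO_eval 3 0 3 le_rfl).trans (by decide +kernel)

set_option maxRecDepth 100000 in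
theorem FO_8_3 : FO 8 3 = 2048 :=
  (FO_eval 3 8 3 le_rfl).trans (by decide +kernel)

set_option maxRecDepth 100000 in
theorem FO_12_3 : FO 12 3 = 2048 :=
  (FO_eval 3 12 3 le_rfl).trans (by decide +kernel)

set_option maxRecDepth 100000 in
theorem FO_16_3 : FO 16 3 = 2048 :=
  (FO_eval 3 16 3 le_rfl).trans (by decide +kernel)

set_option maxRecDepth 100000 in
theorem FO_24_3 : FO 24 3 = 2048 :=
  (FO_eval 3 24 3 le_rfl).trans (by decide +kernel)

set_option maxRecDepth 100000 in
theorem FO_0_5 : FO 0 5 = 48576 :=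
  (FO_eval 5 0 5 le_rfl).trans (by decide +kernel)

set_option maxRecDepth 100000 in
theorem FO_8_5 : FO 8 5 = 48576 :=
  (FO_eval 5 8 5 le_rfl).trans (by decide +kernel)

set_option maxRecDepth 100000 in
theorem FO_12_5 : FO 12 5 = 48576 :=
  (FO_eval 5 12 5 le_rfl).trans (by decide +kernel)

set_option maxRecDepth 100000 in
theorem FO_16_5 : FO 16 5 = 48576 :=
  (FO_eval 5 16 5 le_rfl).trans (by decide +kernel)

set_option maxRecDepth 100000 in
theorem FO_24_5 : FO 24 5 = 48576 :=
  (FO_eval 5 24 5 le_rfl).trans (by decide +kernel)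

/-- The number of lattice vectors with sum of squares `32`. -/
theorem count32 : {x : GolayPt → ℤ | x ∈ leechLattice ∧ sqNorm x = 32}.ncard = 196560 :=
  count_formula 32 8 1 (by norm_num) (by norm_num) (by norm_num) (by norm_num)
    1104 128 0 0 0 24 24 24 24 24
    FE_0_8 FE_8_8 FE_12_8 FE_16_8 FE_24_8 FO_0_1 FO_8_1 FO_12_1 FO_16_1 FO_24_1

/-- The number of lattice vectors with sum of squares `48`. -/
theorem count48 : {x : GolayPt → ℤ | x ∈ leechLattice ∧ sqNorm x = 48}.ncard = 16773120 :=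
  count_formula 48 12 3 (by norm_num) (by norm_num) (by norm_num) (by norm_num)
    0 4096 2048 0 0 2048 2048 2048 2048 2048
    FE_0_12 FE_8_12 FE_12_12 FE_16_12 FE_24_12 FO_0_3 FO_8_3 FO_12_3 FO_16_3 FO_24_3

/-- The number of lattice vectors with sum of squares `64`. -/
theorem count64 : {x : GolayPt → ℤ | x ∈ leechLattice ∧ sqNorm x = 64}.ncard = 398034000 :=
  count_formula 64 16 5 (by norm_num) (by norm_num) (by norm_num) (by norm_num)
    170064 62464 49152 32768 0 48576 48576 48576 48576 48576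
    FE_0_16 FE_8_16 FE_12_16 FE_16_16 FE_24_16 FO_0_5 FO_8_5 FO_12_5 FO_16_5 FO_24_5

end Cfsg.Agent.Lib.Helper92
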