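import Cfsg.Agent.Lib.Helper92.LeechMaskM23

set_option autoImplicit false

namespace Cfsg.Agent.Lib.Helper92

open Cfsg Cfsg.Spor Cfsg.Agent.Lib.Helper7

/-- The base vectors. -/
def crKcB : List (List ℤ) :=
  [([0, 0, 0, 0, 0, 0, 0, 0, 0, 0, 0, 0, 0, 0, 0, 0, 0, 0, 0, 0, 0, 0, 0, 8] : List ℤ)]

/-- The conditions. -/
def crKcconds : List (List ℤ × ℤ) :=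
  [(([0, 0, 0, 0, 0, 0, 0, 0, 0, 0, 0, 0, 0, 0, 0, 0, 0, 0, 0, 0, 0, 0, 0, 8] : List ℤ), 16)]

/-- The base point. -/
def crKcx0 : List ℤ := ([-2, -2, -2, -2, 0, -2, 0, 0, 0, 0, 0, 0, 0, 0, -2, 0, 0, 2, 0, 0, 0, 0, 0, 2] : List ℤ)

/-- The generators. -/
def crKcgens : List (List Prim) :=
  [[Prim.P 983478296959358443554250846857397270 [0]],
   [Prim.P 980275914351787324191492553553580224 [2]],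
   [Prim.S 5279 1],
   [Prim.S 10558 2],
   [Prim.S 18147 4],
   [Prim.S 36294 8],
   [Prim.S 69395 16],
   [Prim.S 133817 32],
   [Prim.S 262637 64],
   [Prim.S 525274 128],
   [Prim.S 1050548 256],
   [Prim.S 2101096 512],
   [Prim.S 4196943 1024]]

set_option maxRecDepth 100000 in
set_option maxHeartbeats 0 in
/-- The intermediate images of the base vectors under the generators. -/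
def crKcgmids : List (List (List (List ℤ))) :=
  [[[([0, 0, 0, 0, 0, 0, 0, 0, 0, 0, 0, 0, 0, 0, 0, 0, 0, 0, 0, 0, 0, 0, 0, 8] : List ℤ)]],
   [[([0, 0, 0, 0, 0, 0, 0, 0, 0, 0, 0, 0, 0, 0, 0, 0, 0, 0, 0, 0, 0, 0, 0, 8] : List ℤ)]],
   [[([0, 0, 0, 0, 0, 0, 0, 0, 0, 0, 0, 0, 0, 0, 0, 0, 0, 0, 0, 0, 0, 0, 0, 8] : List ℤ)]],
   [[([0, 0, 0, 0, 0, 0, 0, 0, 0, 0, 0, 0, 0, 0, 0, 0, 0, 0, 0, 0, 0, 0, 0, 8] : List ℤ)]],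
   [[([0, 0, 0, 0, 0, 0, 0, 0, 0, 0, 0, 0, 0, 0, 0, 0, 0, 0, 0, 0, 0, 0, 0, 8] : List ℤ)]],
   [[([0, 0, 0, 0, 0, 0, 0, 0, 0, 0, 0, 0, 0, 0, 0, 0, 0, 0, 0, 0, 0, 0, 0, 8] : List ℤ)]],
   [[([0, 0, 0, 0, 0, 0, 0, 0, 0, 0, 0, 0, 0, 0, 0, 0, 0, 0, 0, 0, 0, 0, 0, 8] : List ℤ)]],
   [[([0, 0, 0, 0, 0, 0, 0, 0, 0, 0, 0, 0, 0, 0, 0, 0, 0, 0, 0, 0, 0, 0, 0, 8] : List ℤ)]],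
   [[([0, 0, 0, 0, 0, 0, 0, 0, 0, 0, 0, 0, 0, 0, 0, 0, 0, 0, 0, 0, 0, 0, 0, 8] : List ℤ)]],
   [[([0, 0, 0, 0, 0, 0, 0, 0, 0, 0, 0, 0, 0, 0, 0, 0, 0, 0, 0, 0, 0, 0, 0, 8] : List ℤ)]],
   [[([0, 0, 0, 0, 0, 0, 0, 0, 0, 0, 0, 0, 0, 0, 0, 0, 0, 0, 0, 0, 0, 0, 0, 8] : List ℤ)]],
   [[([0, 0, 0, 0, 0, 0, 0, 0, 0, 0, 0, 0, 0, 0, 0, 0, 0, 0, 0, 0, 0, 0, 0, 8] : List ℤ)]],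
   [[([0, 0, 0, 0, 0, 0, 0, 0, 0, 0, 0, 0, 0, 0, 0, 0, 0, 0, 0, 0, 0, 0, 0, 8] : List ℤ)]]]

set_option maxRecDepth 100000 in
set_option maxHeartbeats 0 in
/-- The minimal vectors of the set with the representative words of second digits. -/
def crKcfib : List (List ℕ × List (List ℤ)) :=
  [([], []),
   ([0, 1, 2, 3, 4, 7, 10, 12], []),
   ([0, 2, 3, 4, 6, 7, 8, 9, 10, 11, 13, 14], []),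
   ([0, 2, 3, 4, 5, 6, 7, 8, 9, 11, 12, 14, 15, 16, 17, 18], []),
   ([0, 2, 4, 5, 6, 10, 11, 23], [([2, 0, 2, 0, 2, 2, 2, 0, 0, 0, 2, 2, 0, 0, 0, 0, 0, 0, 0, 0, 0, 0, 0, 2] : List ℤ),
     ([-2, 0, -2, 0, 2, 2, 2, 0, 0, 0, 2, 2, 0, 0, 0, 0, 0, 0, 0, 0, 0, 0, 0, 2] : List ℤ),
     ([-2, 0, 2, 0, -2, 2, 2, 0, 0, 0, 2, 2, 0, 0, 0, 0, 0, 0, 0, 0, 0, 0, 0, 2] : List ℤ),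
     ([2, 0, -2, 0, -2, 2, 2, 0, 0, 0, 2, 2, 0, 0, 0, 0, 0, 0, 0, 0, 0, 0, 0, 2] : List ℤ),
     ([-2, 0, 2, 0, 2, -2, 2, 0, 0, 0, 2, 2, 0, 0, 0, 0, 0, 0, 0, 0, 0, 0, 0, 2] : List ℤ),
     ([2, 0, -2, 0, 2, -2, 2, 0, 0, 0, 2, 2, 0, 0, 0, 0, 0, 0, 0, 0, 0, 0, 0, 2] : List ℤ),
     ([2, 0, 2, 0, -2, -2, 2, 0, 0, 0, 2, 2, 0, 0, 0, 0, 0, 0, 0, 0, 0, 0, 0, 2] : List ℤ),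
     ([-2, 0, -2, 0, -2, -2, 2, 0, 0, 0, 2, 2, 0, 0, 0, 0, 0, 0, 0, 0, 0, 0, 0, 2] : List ℤ),
     ([-2, 0, 2, 0, 2, 2, -2, 0, 0, 0, 2, 2, 0, 0, 0, 0, 0, 0, 0, 0, 0, 0, 0, 2] : List ℤ),
     ([2, 0, -2, 0, 2, 2, -2, 0, 0, 0, 2, 2, 0, 0, 0, 0, 0, 0, 0, 0, 0, 0, 0, 2] : List ℤ),
     ([2, 0, 2, 0, -2, 2, -2, 0, 0, 0, 2, 2, 0, 0, 0, 0, 0, 0, 0, 0, 0, 0, 0, 2] : List ℤ),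
     ([-2, 0, -2, 0, -2, 2, -2, 0, 0, 0, 2, 2, 0, 0, 0, 0, 0, 0, 0, 0, 0, 0, 0, 2] : List ℤ),
     ([2, 0, 2, 0, 2, -2, -2, 0, 0, 0, 2, 2, 0, 0, 0, 0, 0, 0, 0, 0, 0, 0, 0, 2] : List ℤ),
     ([-2, 0, -2, 0, 2, -2, -2, 0, 0, 0, 2, 2, 0, 0, 0, 0, 0, 0, 0, 0, 0, 0, 0, 2] : List ℤ),
     ([-2, 0, 2, 0, -2, -2, -2, 0, 0, 0, 2, 2, 0, 0, 0, 0, 0, 0, 0, 0, 0, 0, 0, 2] : List ℤ),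
     ([2, 0, -2, 0, -2, -2, -2, 0, 0, 0, 2, 2, 0, 0, 0, 0, 0, 0, 0, 0, 0, 0, 0, 2] : List ℤ),
     ([-2, 0, 2, 0, 2, 2, 2, 0, 0, 0, -2, 2, 0, 0, 0, 0, 0, 0, 0, 0, 0, 0, 0, 2] : List ℤ),
     ([2, 0, -2, 0, 2, 2, 2, 0, 0, 0, -2, 2, 0, 0, 0, 0, 0, 0, 0, 0, 0, 0, 0, 2] : List ℤ),
     ([2, 0, 2, 0, -2, 2, 2, 0, 0, 0, -2, 2, 0, 0, 0, 0, 0, 0, 0, 0, 0, 0, 0, 2] : List ℤ),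
     ([-2, 0, -2, 0, -2, 2, 2, 0, 0, 0, -2, 2, 0, 0, 0, 0, 0, 0, 0, 0, 0, 0, 0, 2] : List ℤ),
     ([2, 0, 2, 0, 2, -2, 2, 0, 0, 0, -2, 2, 0, 0, 0, 0, 0, 0, 0, 0, 0, 0, 0, 2] : List ℤ),
     ([-2, 0, -2, 0, 2, -2, 2, 0, 0, 0, -2, 2, 0, 0, 0, 0, 0, 0, 0, 0, 0, 0, 0, 2] : List ℤ),
     ([-2, 0, 2, 0, -2, -2, 2, 0, 0, 0, -2, 2, 0, 0, 0, 0, 0, 0, 0, 0, 0, 0, 0, 2] : List ℤ),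
     ([2, 0, -2, 0, -2, -2, 2, 0, 0, 0, -2, 2, 0, 0, 0, 0, 0, 0, 0, 0, 0, 0, 0, 2] : List ℤ),
     ([2, 0, 2, 0, 2, 2, -2, 0, 0, 0, -2, 2, 0, 0, 0, 0, 0, 0, 0, 0, 0, 0, 0, 2] : List ℤ),
     ([-2, 0, -2, 0, 2, 2, -2, 0, 0, 0, -2, 2, 0, 0, 0, 0, 0, 0, 0, 0, 0, 0, 0, 2] : List ℤ),
     ([-2, 0, 2, 0, -2, 2, -2, 0, 0, 0, -2, 2, 0, 0, 0, 0, 0, 0, 0, 0, 0, 0, 0, 2] : List ℤ),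
     ([2, 0, -2, 0, -2, 2, -2, 0, 0, 0, -2, 2, 0, 0, 0, 0, 0, 0, 0, 0, 0, 0, 0, 2] : List ℤ),
     ([-2, 0, 2, 0, 2, -2, -2, 0, 0, 0, -2, 2, 0, 0, 0, 0, 0, 0, 0, 0, 0, 0, 0, 2] : List ℤ),
     ([2, 0, -2, 0, 2, -2, -2, 0, 0, 0, -2, 2, 0, 0, 0, 0, 0, 0, 0, 0, 0, 0, 0, 2] : List ℤ),
     ([2, 0, 2, 0, -2, -2, -2, 0, 0, 0, -2, 2, 0, 0, 0, 0, 0, 0, 0, 0, 0, 0, 0, 2] : List ℤ),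
     ([-2, 0, -2, 0, -2, -2, -2, 0, 0, 0, -2, 2, 0, 0, 0, 0, 0, 0, 0, 0, 0, 0, 0, 2] : List ℤ),
     ([-2, 0, 2, 0, 2, 2, 2, 0, 0, 0, 2, -2, 0, 0, 0, 0, 0, 0, 0, 0, 0, 0, 0, 2] : List ℤ),
     ([2, 0, -2, 0, 2, 2, 2, 0, 0, 0, 2, -2, 0, 0, 0, 0, 0, 0, 0, 0, 0, 0, 0, 2] : List ℤ),
     ([2, 0, 2, 0, -2, 2, 2, 0, 0, 0, 2, -2, 0, 0, 0, 0, 0, 0, 0, 0, 0, 0, 0, 2] : List ℤ),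
     ([-2, 0, -2, 0, -2, 2, 2, 0, 0, 0, 2, -2, 0, 0, 0, 0, 0, 0, 0, 0, 0, 0, 0, 2] : List ℤ),
     ([2, 0, 2, 0, 2, -2, 2, 0, 0, 0, 2, -2, 0, 0, 0, 0, 0, 0, 0, 0, 0, 0, 0, 2] : List ℤ),
     ([-2, 0, -2, 0, 2, -2, 2, 0, 0, 0, 2, -2, 0, 0, 0, 0, 0, 0, 0, 0, 0, 0, 0, 2] : List ℤ),
     ([-2, 0, 2, 0, -2, -2, 2, 0, 0, 0, 2, -2, 0, 0, 0, 0, 0, 0, 0, 0, 0, 0, 0, 2] : List ℤ),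
     ([2, 0, -2, 0, -2, -2, 2, 0, 0, 0, 2, -2, 0, 0, 0, 0, 0, 0, 0, 0, 0, 0, 0, 2] : List ℤ),
     ([2, 0, 2, 0, 2, 2, -2, 0, 0, 0, 2, -2, 0, 0, 0, 0, 0, 0, 0, 0, 0, 0, 0, 2] : List ℤ),
     ([-2, 0, -2, 0, 2, 2, -2, 0, 0, 0, 2, -2, 0, 0, 0, 0, 0, 0, 0, 0, 0, 0, 0, 2] : List ℤ),
     ([-2, 0, 2, 0, -2, 2, -2, 0, 0, 0, 2, -2, 0, 0, 0, 0, 0, 0, 0, 0, 0, 0, 0, 2] : List ℤ),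
     ([2, 0, -2, 0, -2, 2, -2, 0, 0, 0, 2, -2, 0, 0, 0, 0, 0, 0, 0, 0, 0, 0, 0, 2] : List ℤ),
     ([-2, 0, 2, 0, 2, -2, -2, 0, 0, 0, 2, -2, 0, 0, 0, 0, 0, 0, 0, 0, 0, 0, 0, 2] : List ℤ),
     ([2, 0, -2, 0, 2, -2, -2, 0, 0, 0, 2, -2, 0, 0, 0, 0, 0, 0, 0, 0, 0, 0, 0, 2] : List ℤ),
     ([2, 0, 2, 0, -2, -2, -2, 0, 0, 0, 2, -2, 0, 0, 0, 0, 0, 0, 0, 0, 0, 0, 0, 2] : List ℤ),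
     ([-2, 0, -2, 0, -2, -2, -2, 0, 0, 0, 2, -2, 0, 0, 0, 0, 0, 0, 0, 0, 0, 0, 0, 2] : List ℤ),
     ([2, 0, 2, 0, 2, 2, 2, 0, 0, 0, -2, -2, 0, 0, 0, 0, 0, 0, 0, 0, 0, 0, 0, 2] : List ℤ),
     ([-2, 0, -2, 0, 2, 2, 2, 0, 0, 0, -2, -2, 0, 0, 0, 0, 0, 0, 0, 0, 0, 0, 0, 2] : List ℤ),
     ([-2, 0, 2, 0, -2, 2, 2, 0, 0, 0, -2, -2, 0, 0, 0, 0, 0, 0, 0, 0, 0, 0, 0, 2] : List ℤ),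
     ([2, 0, -2, 0, -2, 2, 2, 0, 0, 0, -2, -2, 0, 0, 0, 0, 0, 0, 0, 0, 0, 0, 0, 2] : List ℤ),
     ([-2, 0, 2, 0, 2, -2, 2, 0, 0, 0, -2, -2, 0, 0, 0, 0, 0, 0, 0, 0, 0, 0, 0, 2] : List ℤ),
     ([2, 0, -2, 0, 2, -2, 2, 0, 0, 0, -2, -2, 0, 0, 0, 0, 0, 0, 0, 0, 0, 0, 0, 2] : List ℤ),
     ([2, 0, 2, 0, -2, -2, 2, 0, 0, 0, -2, -2, 0, 0, 0, 0, 0, 0, 0, 0, 0, 0, 0, 2] : List ℤ),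
     ([-2, 0, -2, 0, -2, -2, 2, 0, 0, 0, -2, -2, 0, 0, 0, 0, 0, 0, 0, 0, 0, 0, 0, 2] : List ℤ),
     ([-2, 0, 2, 0, 2, 2, -2, 0, 0, 0, -2, -2, 0, 0, 0, 0, 0, 0, 0, 0, 0, 0, 0, 2] : List ℤ),
     ([2, 0, -2, 0, 2, 2, -2, 0, 0, 0, -2, -2, 0, 0, 0, 0, 0, 0, 0, 0, 0, 0, 0, 2] : List ℤ),
     ([2, 0, 2, 0, -2, 2, -2, 0, 0, 0, -2, -2, 0, 0, 0, 0, 0, 0, 0, 0, 0, 0, 0, 2] : List ℤ),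
     ([-2, 0, -2, 0, -2, 2, -2, 0, 0, 0, -2, -2, 0, 0, 0, 0, 0, 0, 0, 0, 0, 0, 0, 2] : List ℤ),
     ([2, 0, 2, 0, 2, -2, -2, 0, 0, 0, -2, -2, 0, 0, 0, 0, 0, 0, 0, 0, 0, 0, 0, 2] : List ℤ),
     ([-2, 0, -2, 0, 2, -2, -2, 0, 0, 0, -2, -2, 0, 0, 0, 0, 0, 0, 0, 0, 0, 0, 0, 2] : List ℤ),
     ([-2, 0, 2, 0, -2, -2, -2, 0, 0, 0, -2, -2, 0, 0, 0, 0, 0, 0, 0, 0, 0, 0, 0, 2] : List ℤ),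
     ([2, 0, -2, 0, -2, -2, -2, 0, 0, 0, -2, -2, 0, 0, 0, 0, 0, 0, 0, 0, 0, 0, 0, 2] : List ℤ)]),
   ([0, 1, 2, 4, 5, 8, 9, 10, 12, 13, 14, 23], []),
   ([0, 1, 3, 4, 6, 8, 9, 10, 11, 12, 13, 14, 15, 16, 17, 23], []),
   ([0, 1, 2, 3, 4, 5, 6, 7, 8, 9, 10, 11, 12, 13, 14, 15, 16, 17, 18, 19, 20, 21, 22, 23], [])]

set_option maxRecDepth 100000 in
set_option maxHeartbeats 0 in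
/-- The program visiting the vectors. -/
def crKcprog : List Ins :=
  [Ins.push 5 [([-2, 2, 2, -2, 0, -2, 0, 0, 0, 0, 0, 0, 0, 0, -2, 0, 0, 2, 0, 0, 0, 0, 0, 2] : List ℤ)],
   Ins.push 0 [([0, -2, 2, 2, -2, 0, -2, 0, 0, 0, 0, 0, 0, 0, 0, -2, 0, 0, 2, 0, 0, 0, 0, 2] : List ℤ)],
   Ins.push 1 [([0, -2, -2, 2, 2, 0, 2, 0, 0, 0, 0, 0, 0, 0, 0, -2, 0, 0, -2, 0, 0, 0, 0, 2] : List ℤ)],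
   Ins.push 1 [([0, 2, 2, 2, -2, 0, -2, 0, 0, 0, 0, 0, 0, 0, 0, -2, 0, 0, -2, 0, 0, 0, 0, 2] : List ℤ)],
   Ins.push 1 [([0, -2, -2, 2, -2, 0, 2, 0, 0, 0, 0, 0, 0, 0, 0, -2, 0, 0, 2, 0, 0, 0, 0, 2] : List ℤ)],
   Ins.push 1 [([0, 2, -2, 2, 2, 0, -2, 0, 0, 0, 0, 0, 0, 0, 0, -2, 0, 0, -2, 0, 0, 0, 0, 2] : List ℤ)],
   Ins.push 0 [([0, 0, 2, -2, 2, 2, 0, -2, 0, 0, 0, 0, 0, 0, 0, 0, -2, 0, 0, -2, 0, 0, 0, 2] : List ℤ)],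
   Ins.push 1 [([0, 0, 2, -2, 0, -2, 2, 0, 0, 0, 0, 0, 0, -2, 0, 0, 0, 0, 0, 0, 0, 2, -2, 2] : List ℤ)],
   Ins.push 0 [([-2, 0, 0, 2, -2, 0, -2, 2, 0, 0, 0, 0, 0, 0, -2, 0, 0, 0, 0, 0, 0, 0, 2, 2] : List ℤ)],
   Ins.push 0 [([2, -2, 0, 0, 2, -2, 0, -2, 2, 0, 0, 0, 0, 0, 0, -2, 0, 0, 0, 0, 0, 0, 0, 2] : List ℤ)],
   Ins.push 1 [([2, 0, 2, 0, 0, -2, 0, 0, 0, 0, 0, 0, 0, 0, 0, -2, 2, 0, -2, 0, 0, -2, 0, 2] : List ℤ)],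
   Ins.push 0 [([0, 2, 0, 2, 0, 0, -2, 0, 0, 0, 0, 0, 0, 0, 0, 0, -2, 2, 0, -2, 0, 0, -2, 2] : List ℤ)],
   Ins.push 0 [([-2, 0, 2, 0, 2, 0, 0, -2, 0, 0, 0, 0, 0, 0, 0, 0, 0, -2, 2, 0, -2, 0, 0, 2] : List ℤ)],
   Ins.push 1 [([-2, 0, 2, 0, 2, -2, 2, 0, 0, 0, -2, -2, 0, 0, 0, 0, 0, 0, 0, 0, 0, 0, 0, 2] : List ℤ)],
   Ins.mark,
   Ins.pop,
   Ins.pop,
   Ins.pop,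
   Ins.pop,
   Ins.pop,
   Ins.pop,
   Ins.pop,
   Ins.push 0 [([0, 0, 0, 2, -2, 2, 2, 0, -2, 0, 0, 0, 0, 0, 0, 0, 0, -2, 0, 0, -2, 0, 0, 2] : List ℤ)],
   Ins.push 1 [([0, 2, -2, 2, 0, 0, 0, 0, 0, 0, -2, -2, 0, 0, 0, 0, -2, 0, 0, 0, 0, 2, 0, 2] : List ℤ)],
   Ins.push 1 [([0, 0, 0, 2, 0, 0, -2, -2, 0, 0, 0, 0, 0, -2, 0, 0, 0, 0, 2, -2, 2, 0, 0, 2] : List ℤ)],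
   Ins.push 1 [([0, -2, 0, 2, 2, -2, 0, 0, 0, -2, 2, 0, 0, 0, 0, 0, 0, 0, 0, 0, 0, 0, -2, 2] : List ℤ)],
   Ins.push 0 [([-2, 0, -2, 0, 2, 2, -2, 0, 0, 0, -2, 2, 0, 0, 0, 0, 0, 0, 0, 0, 0, 0, 0, 2] : List ℤ)],
   Ins.mark,
   Ins.pop,
   Ins.pop,
   Ins.pop,
   Ins.pop,
   Ins.pop,
   Ins.pop,
   Ins.pop,
   Ins.push 0 [([0, 0, -2, -2, 2, -2, 0, 2, 0, 0, 0, 0, 0, 0, 0, 0, -2, 0, 0, 2, 0, 0, 0, 2] : List ℤ)],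
   Ins.push 0 [([0, 0, 0, -2, -2, 2, -2, 0, 2, 0, 0, 0, 0, 0, 0, 0, 0, -2, 0, 0, 2, 0, 0, 2] : List ℤ)],
   Ins.push 1 [([0, -2, -2, -2, 0, 0, 0, 0, 0, 0, 2, -2, 0, 0, 0, 0, 2, 0, 0, 0, 0, 2, 0, 2] : List ℤ)],
   Ins.push 0 [([0, 0, -2, -2, -2, 0, 0, 0, 0, 0, 0, 2, -2, 0, 0, 0, 0, 2, 0, 0, 0, 0, 2, 2] : List ℤ)],
   Ins.push 1 [([0, 0, -2, -2, 0, 0, -2, 0, -2, 0, 0, 2, 0, 0, 2, 0, 0, 0, 0, 2, 0, 0, 0, 2] : List ℤ)],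
   Ins.push 1 [([0, -2, 0, -2, 0, 0, -2, 0, 0, 0, 0, 0, 0, 0, 0, 0, -2, 2, 0, 2, 0, 0, 2, 2] : List ℤ)],
   Ins.push 0 [([2, 0, -2, 0, -2, 0, 0, -2, 0, 0, 0, 0, 0, 0, 0, 0, 0, -2, 2, 0, 2, 0, 0, 2] : List ℤ)],
   Ins.push 1 [([2, 0, -2, 0, 2, -2, -2, 0, 0, 0, 2, -2, 0, 0, 0, 0, 0, 0, 0, 0, 0, 0, 0, 2] : List ℤ)],
   Ins.mark,
   Ins.pop,
   Ins.pop,
   Ins.pop,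
   Ins.pop,
   Ins.pop,
   Ins.push 1 [([0, 0, 0, -2, 0, 0, -2, 2, 0, 0, 0, 0, 0, 2, 0, 0, 0, 0, -2, -2, 2, 0, 0, 2] : List ℤ)],
   Ins.push 1 [([0, -2, 0, -2, -2, 2, 0, 0, 0, 2, 2, 0, 0, 0, 0, 0, 0, 0, 0, 0, 0, 0, -2, 2] : List ℤ)],
   Ins.push 0 [([-2, 0, -2, 0, -2, -2, 2, 0, 0, 0, 2, 2, 0, 0, 0, 0, 0, 0, 0, 0, 0, 0, 0, 2] : List ℤ)],
   Ins.mark,
   Ins.pop,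
   Ins.pop,
   Ins.pop,
   Ins.pop,
   Ins.pop,
   Ins.push 1 [([0, 0, 2, -2, 0, 2, -2, 0, 0, 0, 0, 0, 0, -2, 0, 0, 0, 0, 0, 0, 0, -2, 2, 2] : List ℤ)],
   Ins.push 0 [([2, 0, 0, 2, -2, 0, 2, -2, 0, 0, 0, 0, 0, 0, -2, 0, 0, 0, 0, 0, 0, 0, -2, 2] : List ℤ)],
   Ins.push 0 [([-2, 2, 0, 0, 2, -2, 0, 2, -2, 0, 0, 0, 0, 0, 0, -2, 0, 0, 0, 0, 0, 0, 0, 2] : List ℤ)],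
   Ins.push 1 [([-2, 0, 2, 0, 0, 2, 0, 0, 0, 0, 0, 0, 0, 0, 0, -2, -2, 0, 2, 0, 0, -2, 0, 2] : List ℤ)],
   Ins.push 0 [([0, -2, 0, 2, 0, 0, 2, 0, 0, 0, 0, 0, 0, 0, 0, 0, -2, -2, 0, 2, 0, 0, -2, 2] : List ℤ)],
   Ins.push 0 [([-2, 0, -2, 0, 2, 0, 0, 2, 0, 0, 0, 0, 0, 0, 0, 0, 0, -2, -2, 0, 2, 0, 0, 2] : List ℤ)],
   Ins.push 1 [([-2, 0, 2, 0, -2, 2, -2, 0, 0, 0, 2, -2, 0, 0, 0, 0, 0, 0, 0, 0, 0, 0, 0, 2] : List ℤ)],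
   Ins.mark,
   Ins.pop,
   Ins.pop,
   Ins.pop,
   Ins.pop,
   Ins.pop,
   Ins.pop,
   Ins.pop,
   Ins.pop,
   Ins.pop,
   Ins.push 0 [([0, 0, 2, 2, 2, -2, 0, -2, 0, 0, 0, 0, 0, 0, 0, 0, -2, 0, 0, -2, 0, 0, 0, 2] : List ℤ)],
   Ins.push 0 [([0, 0, 0, 2, 2, 2, -2, 0, -2, 0, 0, 0, 0, 0, 0, 0, 0, -2, 0, 0, -2, 0, 0, 2] : List ℤ)],
   Ins.push 1 [([0, -2, 2, 2, 0, 0, 0, 0, 0, 0, -2, -2, 0, 0, 0, 0, -2, 0, 0, 0, 0, 2, 0, 2] : List ℤ)],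
   Ins.push 0 [([0, 0, -2, 2, 2, 0, 0, 0, 0, 0, 0, -2, -2, 0, 0, 0, 0, -2, 0, 0, 0, 0, 2, 2] : List ℤ)],
   Ins.push 1 [([0, 0, 2, 2, 0, 0, -2, 0, -2, 0, 0, -2, 0, 0, 2, 0, 0, 0, 0, -2, 0, 0, 0, 2] : List ℤ)],
   Ins.push 1 [([0, -2, 0, 2, 0, 0, 2, 0, 0, 0, 0, 0, 0, 0, 0, 0, -2, 2, 0, -2, 0, 0, -2, 2] : List ℤ)],
   Ins.push 0 [([-2, 0, -2, 0, 2, 0, 0, 2, 0, 0, 0, 0, 0, 0, 0, 0, 0, -2, 2, 0, -2, 0, 0, 2] : List ℤ)],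
   Ins.push 1 [([-2, 0, 2, 0, 2, 2, -2, 0, 0, 0, -2, -2, 0, 0, 0, 0, 0, 0, 0, 0, 0, 0, 0, 2] : List ℤ)],
   Ins.mark,
   Ins.pop,
   Ins.pop,
   Ins.pop,
   Ins.pop,
   Ins.pop,
   Ins.push 1 [([0, 0, 0, 2, 0, 0, 2, -2, 0, 0, 0, 0, 0, -2, 0, 0, 0, 0, -2, -2, 2, 0, 0, 2] : List ℤ)],
   Ins.push 1 [([0, 2, 0, 2, -2, -2, 0, 0, 0, -2, 2, 0, 0, 0, 0, 0, 0, 0, 0, 0, 0, 0, -2, 2] : List ℤ)],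
   Ins.push 0 [([-2, 0, 2, 0, 2, -2, -2, 0, 0, 0, -2, 2, 0, 0, 0, 0, 0, 0, 0, 0, 0, 0, 0, 2] : List ℤ)],
   Ins.mark,
   Ins.pop,
   Ins.pop,
   Ins.pop,
   Ins.pop,
   Ins.pop,
   Ins.pop,
   Ins.pop,
   Ins.push 0 [([0, 0, -2, -2, 2, 2, 0, 2, 0, 0, 0, 0, 0, 0, 0, 0, -2, 0, 0, -2, 0, 0, 0, 2] : List ℤ)],
   Ins.push 0 [([0, 0, 0, -2, -2, 2, 2, 0, 2, 0, 0, 0, 0, 0, 0, 0, 0, -2, 0, 0, -2, 0, 0, 2] : List ℤ)],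
   Ins.push 1 [([0, 2, -2, -2, 0, 0, 0, 0, 0, 0, -2, -2, 0, 0, 0, 0, 2, 0, 0, 0, 0, 2, 0, 2] : List ℤ)],
   Ins.push 0 [([0, 0, 2, -2, -2, 0, 0, 0, 0, 0, 0, -2, -2, 0, 0, 0, 0, 2, 0, 0, 0, 0, 2, 2] : List ℤ)],
   Ins.push 1 [([0, 0, -2, -2, 0, 0, 2, 0, -2, 0, 0, 2, 0, 0, 2, 0, 0, 0, 0, -2, 0, 0, 0, 2] : List ℤ)],
   Ins.push 1 [([0, 2, 0, -2, 0, 0, -2, 0, 0, 0, 0, 0, 0, 0, 0, 0, -2, 2, 0, 2, 0, 0, -2, 2] : List ℤ)],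
   Ins.push 0 [([-2, 0, 2, 0, -2, 0, 0, -2, 0, 0, 0, 0, 0, 0, 0, 0, 0, -2, 2, 0, 2, 0, 0, 2] : List ℤ)],
   Ins.push 1 [([-2, 0, -2, 0, 2, -2, 2, 0, 0, 0, 2, -2, 0, 0, 0, 0, 0, 0, 0, 0, 0, 0, 0, 2] : List ℤ)],
   Ins.mark,
   Ins.pop,
   Ins.pop,
   Ins.pop,
   Ins.pop,
   Ins.push 0 [([2, 0, 0, 2, -2, -2, 0, 0, 0, 0, 0, 0, -2, -2, 0, 0, 0, 0, 2, 0, 0, 0, 0, 2] : List ℤ)],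
   Ins.push 1 [([2, 0, -2, 2, 2, 0, 0, 0, -2, -2, 0, 0, 0, 0, 0, 0, 0, 0, 0, 0, 0, -2, 0, 2] : List ℤ)],
   Ins.push 0 [([0, 2, 0, -2, 2, 2, 0, 0, 0, -2, -2, 0, 0, 0, 0, 0, 0, 0, 0, 0, 0, 0, -2, 2] : List ℤ)],
   Ins.push 0 [([-2, 0, 2, 0, -2, 2, 2, 0, 0, 0, -2, -2, 0, 0, 0, 0, 0, 0, 0, 0, 0, 0, 0, 2] : List ℤ)],
   Ins.mark,
   Ins.pop,
   Ins.pop,
   Ins.pop,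
   Ins.pop,
   Ins.pop,
   Ins.push 1 [([0, 0, 0, -2, 0, 0, -2, -2, 0, 0, 0, 0, 0, 2, 0, 0, 0, 0, 2, -2, 2, 0, 0, 2] : List ℤ)],
   Ins.push 1 [([0, -2, 0, -2, 2, -2, 0, 0, 0, 2, 2, 0, 0, 0, 0, 0, 0, 0, 0, 0, 0, 0, -2, 2] : List ℤ)],
   Ins.push 0 [([-2, 0, -2, 0, -2, 2, -2, 0, 0, 0, 2, 2, 0, 0, 0, 0, 0, 0, 0, 0, 0, 0, 0, 2] : List ℤ)],
   Ins.mark,
   Ins.pop,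
   Ins.pop,
   Ins.pop,
   Ins.pop,
   Ins.pop,
   Ins.push 1 [([0, 0, 2, -2, 0, 2, -2, 0, 0, 0, 0, 0, 0, -2, 0, 0, 0, 0, 0, 0, 0, 2, -2, 2] : List ℤ)],
   Ins.push 0 [([-2, 0, 0, 2, -2, 0, 2, -2, 0, 0, 0, 0, 0, 0, -2, 0, 0, 0, 0, 0, 0, 0, 2, 2] : List ℤ)],
   Ins.push 1 [([-2, 2, -2, 2, 0, -2, 0, 0, 0, 0, 0, 0, 0, 0, 2, 0, 0, -2, 0, 0, 0, 0, 0, 2] : List ℤ)],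
   Ins.push 0 [([0, -2, 2, -2, 2, 0, -2, 0, 0, 0, 0, 0, 0, 0, 0, 2, 0, 0, -2, 0, 0, 0, 0, 2] : List ℤ)],
   Ins.push 0 [([0, 0, -2, 2, -2, 2, 0, -2, 0, 0, 0, 0, 0, 0, 0, 0, 2, 0, 0, -2, 0, 0, 0, 2] : List ℤ)],
   Ins.push 0 [([0, 0, 0, -2, 2, -2, 2, 0, -2, 0, 0, 0, 0, 0, 0, 0, 0, 2, 0, 0, -2, 0, 0, 2] : List ℤ)],
   Ins.push 1 [([0, 2, 2, -2, 0, 0, 0, 0, 0, 0, -2, 2, 0, 0, 0, 0, -2, 0, 0, 0, 0, -2, 0, 2] : List ℤ)],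
   Ins.push 1 [([0, 0, 0, -2, 0, 0, 2, -2, 0, 0, 0, 0, 0, -2, 0, 0, 0, 0, 2, 2, -2, 0, 0, 2] : List ℤ)],
   Ins.push 1 [([0, 2, 0, -2, 2, -2, 0, 0, 0, -2, -2, 0, 0, 0, 0, 0, 0, 0, 0, 0, 0, 0, 2, 2] : List ℤ)],
   Ins.push 0 [([2, 0, 2, 0, -2, 2, -2, 0, 0, 0, -2, -2, 0, 0, 0, 0, 0, 0, 0, 0, 0, 0, 0, 2] : List ℤ)],
   Ins.mark,
   Ins.pop,
   Ins.pop,
   Ins.pop,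
   Ins.pop,
   Ins.pop,
   Ins.pop,
   Ins.pop,
   Ins.pop,
   Ins.push 0 [([2, -2, 0, 0, 2, -2, 0, 2, -2, 0, 0, 0, 0, 0, 0, -2, 0, 0, 0, 0, 0, 0, 0, 2] : List ℤ)],
   Ins.push 1 [([2, 0, 2, 0, 0, 2, 0, 0, 0, 0, 0, 0, 0, 0, 0, -2, -2, 0, -2, 0, 0, -2, 0, 2] : List ℤ)],
   Ins.push 1 [([2, 0, 0, 0, -2, 0, 2, 0, 0, 0, 0, 0, 0, -2, 0, -2, 0, 0, 0, 0, -2, 2, 0, 2] : List ℤ)],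
   Ins.push 1 [([2, 2, -2, 0, 0, 0, 0, 0, 0, -2, -2, 0, 0, 0, 0, -2, 0, 0, 0, 0, 2, 0, 0, 2] : List ℤ)],
   Ins.push 0 [([0, 2, 2, -2, 0, 0, 0, 0, 0, 0, -2, -2, 0, 0, 0, 0, -2, 0, 0, 0, 0, 2, 0, 2] : List ℤ)],
   Ins.push 1 [([0, 0, 0, -2, 0, 0, 2, -2, 0, 0, 0, 0, 0, -2, 0, 0, 0, 0, 2, -2, 2, 0, 0, 2] : List ℤ)],
   Ins.push 1 [([0, 2, 0, -2, 2, -2, 0, 0, 0, -2, 2, 0, 0, 0, 0, 0, 0, 0, 0, 0, 0, 0, -2, 2] : List ℤ)],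
   Ins.push 0 [([-2, 0, 2, 0, -2, 2, -2, 0, 0, 0, -2, 2, 0, 0, 0, 0, 0, 0, 0, 0, 0, 0, 0, 2] : List ℤ)],
   Ins.mark,
   Ins.pop,
   Ins.pop,
   Ins.pop,
   Ins.pop,
   Ins.pop,
   Ins.pop,
   Ins.pop,
   Ins.pop,
   Ins.pop,
   Ins.pop,
   Ins.pop,
   Ins.pop,
   Ins.push 0 [([0, 0, -2, 2, 2, -2, 0, -2, 0, 0, 0, 0, 0, 0, 0, 0, -2, 0, 0, 2, 0, 0, 0, 2] : List ℤ)],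
   Ins.push 0 [([0, 0, 0, -2, 2, 2, -2, 0, -2, 0, 0, 0, 0, 0, 0, 0, 0, -2, 0, 0, 2, 0, 0, 2] : List ℤ)],
   Ins.push 0 [([0, 0, 0, 0, -2, 2, 2, -2, 0, -2, 0, 0, 0, 0, 0, 0, 0, 0, -2, 0, 0, 2, 0, 2] : List ℤ)],
   Ins.push 1 [([0, 2, -2, 0, -2, -2, 0, 0, 0, 0, 0, 0, -2, 0, 0, 0, 0, 0, 0, 0, 2, 2, 0, 2] : List ℤ)],
   Ins.push 0 [([0, 0, 2, -2, 0, -2, -2, 0, 0, 0, 0, 0, 0, -2, 0, 0, 0, 0, 0, 0, 0, 2, 2, 2] : List ℤ)],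
   Ins.push 0 [([2, 0, 0, 2, -2, 0, -2, -2, 0, 0, 0, 0, 0, 0, -2, 0, 0, 0, 0, 0, 0, 0, 2, 2] : List ℤ)],
   Ins.push 0 [([2, 2, 0, 0, 2, -2, 0, -2, -2, 0, 0, 0, 0, 0, 0, -2, 0, 0, 0, 0, 0, 0, 0, 2] : List ℤ)],
   Ins.push 1 [([2, 0, 2, 0, 0, -2, 0, 0, 0, 0, 0, 0, 0, 0, 0, -2, -2, 0, 2, 0, 0, -2, 0, 2] : List ℤ)],
   Ins.push 0 [([0, 2, 0, 2, 0, 0, -2, 0, 0, 0, 0, 0, 0, 0, 0, 0, -2, -2, 0, 2, 0, 0, -2, 2] : List ℤ)],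
   Ins.push 0 [([-2, 0, 2, 0, 2, 0, 0, -2, 0, 0, 0, 0, 0, 0, 0, 0, 0, -2, -2, 0, 2, 0, 0, 2] : List ℤ)],
   Ins.push 1 [([-2, 0, 2, 0, -2, -2, 2, 0, 0, 0, 2, -2, 0, 0, 0, 0, 0, 0, 0, 0, 0, 0, 0, 2] : List ℤ)],
   Ins.mark,
   Ins.pop,
   Ins.pop,
   Ins.pop,
   Ins.pop,
   Ins.pop,
   Ins.pop,
   Ins.pop,
   Ins.pop,
   Ins.push 0 [([0, 0, 0, 0, 0, -2, 2, 2, -2, 0, -2, 0, 0, 0, 0, 0, 0, 0, 0, -2, 0, 0, 2, 2] : List ℤ)],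
   Ins.push 1 [([0, 2, 0, 0, 0, 2, 0, -2, 0, 0, 0, 0, 0, 0, 2, 0, -2, 0, 0, 0, 0, -2, -2, 2] : List ℤ)],
   Ins.push 1 [([0, 0, 0, 0, 0, -2, 0, 0, 0, 0, 0, 0, 0, -2, -2, 0, 0, 2, 2, 0, -2, 2, 0, 2] : List ℤ)],
   Ins.push 0 [([0, 0, 0, 0, 0, 0, -2, 0, 0, 0, 0, 0, 0, 0, -2, -2, 0, 0, 2, 2, 0, -2, 2, 2] : List ℤ)],
   Ins.push 1 [([0, -2, 0, 0, 2, 0, 0, 0, 0, 0, 0, 0, 0, 0, 2, -2, 0, -2, 0, 0, -2, 0, 2, 2] : List ℤ)],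
   Ins.push 0 [([2, 0, -2, 0, 0, 2, 0, 0, 0, 0, 0, 0, 0, 0, 0, 2, -2, 0, -2, 0, 0, -2, 0, 2] : List ℤ)],
   Ins.push 0 [([0, 2, 0, -2, 0, 0, 2, 0, 0, 0, 0, 0, 0, 0, 0, 0, 2, -2, 0, -2, 0, 0, -2, 2] : List ℤ)],
   Ins.push 0 [([-2, 0, 2, 0, -2, 0, 0, 2, 0, 0, 0, 0, 0, 0, 0, 0, 0, 2, -2, 0, -2, 0, 0, 2] : List ℤ)],
   Ins.push 1 [([-2, 0, -2, 0, -2, 2, 2, 0, 0, 0, -2, 2, 0, 0, 0, 0, 0, 0, 0, 0, 0, 0, 0, 2] : List ℤ)],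
   Ins.mark,
   Ins.pop,
   Ins.pop,
   Ins.pop,
   Ins.pop,
   Ins.pop,
   Ins.pop,
   Ins.pop,
   Ins.pop,
   Ins.push 0 [([2, 0, 0, 0, 0, 0, -2, 2, 2, -2, 0, -2, 0, 0, 0, 0, 0, 0, 0, 0, -2, 0, 0, 2] : List ℤ)],
   Ins.push 1 [([2, -2, 0, 0, 0, 2, 0, 0, 0, 0, -2, 0, -2, 0, 0, 0, 2, 0, 0, -2, 0, 0, 0, 2] : List ℤ)],
   Ins.push 1 [([2, 0, 0, 0, 0, 0, 0, -2, -2, 0, 0, 0, 0, 2, 0, 0, 0, 0, -2, 0, 0, 2, -2, 2] : List ℤ)],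
   Ins.push 0 [([-2, 2, 0, 0, 0, 0, 0, 0, -2, -2, 0, 0, 0, 0, 2, 0, 0, 0, 0, -2, 0, 0, 2, 2] : List ℤ)],
   Ins.push 0 [([2, -2, 2, 0, 0, 0, 0, 0, 0, -2, -2, 0, 0, 0, 0, 2, 0, 0, 0, 0, -2, 0, 0, 2] : List ℤ)],
   Ins.push 0 [([0, 2, -2, 2, 0, 0, 0, 0, 0, 0, -2, -2, 0, 0, 0, 0, 2, 0, 0, 0, 0, -2, 0, 2] : List ℤ)],
   Ins.push 1 [([0, 0, 0, 2, 0, 0, -2, -2, 0, 0, 0, 0, 0, 2, 0, 0, 0, 0, 2, -2, -2, 0, 0, 2] : List ℤ)],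
   Ins.push 1 [([0, -2, 0, 2, 2, -2, 0, 0, 0, 2, -2, 0, 0, 0, 0, 0, 0, 0, 0, 0, 0, 0, -2, 2] : List ℤ)],
   Ins.push 0 [([-2, 0, -2, 0, 2, 2, -2, 0, 0, 0, 2, -2, 0, 0, 0, 0, 0, 0, 0, 0, 0, 0, 0, 2] : List ℤ)],
   Ins.mark,
   Ins.pop,
   Ins.pop,
   Ins.pop,
   Ins.pop,
   Ins.pop,
   Ins.pop,
   Ins.pop,
   Ins.pop,
   Ins.pop,
   Ins.pop,
   Ins.pop,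
   Ins.push 1 [([0, -2, 2, -2, 0, 0, 0, 0, 0, 0, 2, -2, 0, 0, 0, 0, -2, 0, 0, 0, 0, 2, 0, 2] : List ℤ)],
   Ins.push 0 [([0, 0, -2, 2, -2, 0, 0, 0, 0, 0, 0, 2, -2, 0, 0, 0, 0, -2, 0, 0, 0, 0, 2, 2] : List ℤ)],
   Ins.push 0 [([2, 0, 0, -2, 2, -2, 0, 0, 0, 0, 0, 0, 2, -2, 0, 0, 0, 0, -2, 0, 0, 0, 0, 2] : List ℤ)],
   Ins.push 1 [([2, 0, 2, -2, -2, 0, 0, 0, 2, -2, 0, 0, 0, 0, 0, 0, 0, 0, 0, 0, 0, -2, 0, 2] : List ℤ)],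
   Ins.push 0 [([0, 2, 0, 2, -2, -2, 0, 0, 0, 2, -2, 0, 0, 0, 0, 0, 0, 0, 0, 0, 0, 0, -2, 2] : List ℤ)],
   Ins.push 0 [([-2, 0, 2, 0, 2, -2, -2, 0, 0, 0, 2, -2, 0, 0, 0, 0, 0, 0, 0, 0, 0, 0, 0, 2] : List ℤ)],
   Ins.mark,
   Ins.pop,
   Ins.pop,
   Ins.pop,
   Ins.pop,
   Ins.push 1 [([0, 0, -2, 2, 0, 0, -2, 0, -2, 0, 0, -2, 0, 0, 2, 0, 0, 0, 0, 2, 0, 0, 0, 2] : List ℤ)],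
   Ins.push 1 [([0, -2, 0, 2, 0, 0, -2, 0, 0, 0, 0, 0, 0, 0, 0, 0, -2, 2, 0, -2, 0, 0, 2, 2] : List ℤ)],
   Ins.push 0 [([2, 0, -2, 0, 2, 0, 0, -2, 0, 0, 0, 0, 0, 0, 0, 0, 0, -2, 2, 0, -2, 0, 0, 2] : List ℤ)],
   Ins.push 1 [([2, 0, 2, 0, 2, -2, -2, 0, 0, 0, -2, -2, 0, 0, 0, 0, 0, 0, 0, 0, 0, 0, 0, 2] : List ℤ)],
   Ins.mark,
   Ins.pop,
   Ins.pop,
   Ins.pop,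
   Ins.pop,
   Ins.pop,
   Ins.push 1 [([0, 0, 0, -2, 0, 0, 2, 2, 0, 0, 0, 0, 0, -2, 0, 0, 0, 0, -2, -2, 2, 0, 0, 2] : List ℤ)],
   Ins.push 1 [([0, 2, 0, -2, -2, 2, 0, 0, 0, -2, 2, 0, 0, 0, 0, 0, 0, 0, 0, 0, 0, 0, -2, 2] : List ℤ)],
   Ins.push 0 [([-2, 0, 2, 0, -2, -2, 2, 0, 0, 0, -2, 2, 0, 0, 0, 0, 0, 0, 0, 0, 0, 0, 0, 2] : List ℤ)],
   Ins.mark,
   Ins.push 1 [([-2, 2, -2, 0, 0, 0, 2, -2, 0, 0, 0, 0, 0, 0, 0, 0, 0, 0, 0, 2, 0, -2, 0, 2] : List ℤ)],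
   Ins.push 1 [([-2, 2, 0, 0, 0, -2, -2, 0, 0, 0, 0, 0, 0, 0, 0, 0, 0, 0, 2, 0, -2, 0, 2, 2] : List ℤ)],
   Ins.push 0 [([2, -2, 2, 0, 0, 0, -2, -2, 0, 0, 0, 0, 0, 0, 0, 0, 0, 0, 0, 2, 0, -2, 0, 2] : List ℤ)],
   Ins.push 1 [([2, -2, 0, 0, 0, -2, 2, 0, 0, 0, 0, 0, 0, 0, 0, 0, 0, 0, -2, 0, -2, 0, 2, 2] : List ℤ)],
   Ins.push 1 [([2, 2, 0, 0, -2, 0, 0, 0, 0, 0, -2, 0, 0, 0, 2, 0, 0, 0, -2, 0, 0, -2, 0, 2] : List ℤ)],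
   Ins.push 1 [([2, 0, -2, 0, -2, 0, 0, -2, 0, 0, 0, 0, 0, 0, 0, 0, 0, 2, 2, 0, -2, 0, 0, 2] : List ℤ)],
   Ins.push 1 [([2, 0, -2, 0, 2, -2, -2, 0, 0, 0, -2, 2, 0, 0, 0, 0, 0, 0, 0, 0, 0, 0, 0, 2] : List ℤ)],
   Ins.mark,
   Ins.pop,
   Ins.pop,
   Ins.pop,
   Ins.pop,
   Ins.pop,
   Ins.pop,
   Ins.push 0 [([0, -2, 2, -2, 0, 0, 0, 2, -2, 0, 0, 0, 0, 0, 0, 0, 0, 0, 0, 0, 2, 0, -2, 2] : List ℤ)],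
   Ins.push 0 [([-2, 0, -2, 2, -2, 0, 0, 0, 2, -2, 0, 0, 0, 0, 0, 0, 0, 0, 0, 0, 0, 2, 0, 2] : List ℤ)],
   Ins.push 0 [([0, -2, 0, -2, 2, -2, 0, 0, 0, 2, -2, 0, 0, 0, 0, 0, 0, 0, 0, 0, 0, 0, 2, 2] : List ℤ)],
   Ins.push 0 [([2, 0, -2, 0, -2, 2, -2, 0, 0, 0, 2, -2, 0, 0, 0, 0, 0, 0, 0, 0, 0, 0, 0, 2] : List ℤ)],
   Ins.mark,
   Ins.pop,
   Ins.pop,
   Ins.pop,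
   Ins.pop,
   Ins.pop,
   Ins.pop,
   Ins.pop,
   Ins.pop,
   Ins.pop,
   Ins.pop,
   Ins.push 1 [([0, 0, 2, 2, 0, -2, -2, 0, 0, 0, 0, 0, 0, -2, 0, 0, 0, 0, 0, 0, 0, -2, 2, 2] : List ℤ)],
   Ins.push 1 [([0, -2, 0, 2, 0, 0, 2, 0, 0, -2, 0, 0, 0, 0, 2, 0, 0, 0, 0, 0, -2, -2, 0, 2] : List ℤ)],
   Ins.push 1 [([0, 2, 0, 2, 0, 0, 0, 0, 0, 0, -2, 0, -2, 0, 0, 0, 0, 2, -2, 0, -2, 0, 0, 2] : List ℤ)],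
   Ins.push 1 [([0, 0, 0, 2, -2, 0, 0, -2, -2, 0, -2, 2, 0, 0, 0, 0, 0, 0, 2, 0, 0, 0, 0, 2] : List ℤ)],
   Ins.push 0 [([0, 0, 0, 0, 2, -2, 0, 0, -2, -2, 0, -2, 2, 0, 0, 0, 0, 0, 0, 2, 0, 0, 0, 2] : List ℤ)],
   Ins.push 1 [([0, 0, 2, 0, 0, 0, 0, 0, 2, 0, 0, 0, -2, 0, 0, 0, -2, 0, 0, -2, 0, -2, 2, 2] : List ℤ)],
   Ins.push 0 [([2, 0, 0, 2, 0, 0, 0, 0, 0, 2, 0, 0, 0, -2, 0, 0, 0, -2, 0, 0, -2, 0, -2, 2] : List ℤ)],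
   Ins.push 0 [([-2, 2, 0, 0, 2, 0, 0, 0, 0, 0, 2, 0, 0, 0, -2, 0, 0, 0, -2, 0, 0, -2, 0, 2] : List ℤ)],
   Ins.push 1 [([-2, 0, 2, 0, -2, 0, 0, 2, 0, 0, 0, 0, 0, 0, 0, 0, 0, -2, 2, 0, -2, 0, 0, 2] : List ℤ)],
   Ins.push 1 [([-2, 0, -2, 0, 2, 2, 2, 0, 0, 0, -2, -2, 0, 0, 0, 0, 0, 0, 0, 0, 0, 0, 0, 2] : List ℤ)],
   Ins.mark,
   Ins.pop,
   Ins.pop,
   Ins.pop,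
   Ins.pop,
   Ins.pop,
   Ins.pop,
   Ins.pop,
   Ins.pop,
   Ins.push 0 [([0, 0, -2, 0, 2, 0, 0, 2, 0, 0, -2, 0, 0, 0, 0, 2, 0, 0, 0, 0, 0, -2, -2, 2] : List ℤ)],
   Ins.push 0 [([-2, 0, 0, -2, 0, 2, 0, 0, 2, 0, 0, -2, 0, 0, 0, 0, 2, 0, 0, 0, 0, 0, -2, 2] : List ℤ)],
   Ins.push 0 [([-2, -2, 0, 0, -2, 0, 2, 0, 0, 2, 0, 0, -2, 0, 0, 0, 0, 2, 0, 0, 0, 0, 0, 2] : List ℤ)],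
   Ins.push 0 [([0, -2, -2, 0, 0, -2, 0, 2, 0, 0, 2, 0, 0, -2, 0, 0, 0, 0, 2, 0, 0, 0, 0, 2] : List ℤ)],
   Ins.push 0 [([0, 0, -2, -2, 0, 0, -2, 0, 2, 0, 0, 2, 0, 0, -2, 0, 0, 0, 0, 2, 0, 0, 0, 2] : List ℤ)],
   Ins.push 1 [([0, -2, 0, -2, 0, 0, -2, 0, 0, 0, 0, 0, 0, 0, 0, 0, 2, -2, 0, 2, 0, 0, 2, 2] : List ℤ)],
   Ins.push 0 [([2, 0, -2, 0, -2, 0, 0, -2, 0, 0, 0, 0, 0, 0, 0, 0, 0, 2, -2, 0, 2, 0, 0, 2] : List ℤ)],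
   Ins.push 1 [([2, 0, -2, 0, -2, -2, -2, 0, 0, 0, 2, 2, 0, 0, 0, 0, 0, 0, 0, 0, 0, 0, 0, 2] : List ℤ)],
   Ins.mark,
   Ins.pop,
   Ins.pop,
   Ins.pop,
   Ins.pop,
   Ins.pop,
   Ins.pop,
   Ins.pop,
   Ins.pop,
   Ins.pop,
   Ins.push 0 [([2, 0, 0, 2, 2, 0, -2, -2, 0, 0, 0, 0, 0, 0, -2, 0, 0, 0, 0, 0, 0, 0, -2, 2] : List ℤ)],
   Ins.push 0 [([-2, 2, 0, 0, 2, 2, 0, -2, -2, 0, 0, 0, 0, 0, 0, -2, 0, 0, 0, 0, 0, 0, 0, 2] : List ℤ)],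
   Ins.push 1 [([-2, 0, 2, 0, 0, -2, 0, 0, 0, 0, 0, 0, 0, 0, 0, -2, -2, 0, 2, 0, 0, 2, 0, 2] : List ℤ)],
   Ins.push 0 [([0, -2, 0, 2, 0, 0, -2, 0, 0, 0, 0, 0, 0, 0, 0, 0, -2, -2, 0, 2, 0, 0, 2, 2] : List ℤ)],
   Ins.push 0 [([2, 0, -2, 0, 2, 0, 0, -2, 0, 0, 0, 0, 0, 0, 0, 0, 0, -2, -2, 0, 2, 0, 0, 2] : List ℤ)],
   Ins.push 1 [([2, 0, 2, 0, -2, -2, -2, 0, 0, 0, 2, -2, 0, 0, 0, 0, 0, 0, 0, 0, 0, 0, 0, 2] : List ℤ)],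
   Ins.mark,
   Ins.pop,
   Ins.pop,
   Ins.pop,
   Ins.pop,
   Ins.pop,
   Ins.pop,
   Ins.pop,
   Ins.pop,
   Ins.pop,
   Ins.push 1 [([-2, 0, 0, -2, 0, 0, 2, 0, 0, 0, 0, 2, 0, 0, 0, 0, 0, -2, 2, 0, 0, -2, 0, 2] : List ℤ)],
   Ins.push 1 [([-2, 2, 0, -2, 2, 0, 0, 0, 0, 0, 0, -2, 0, 0, 0, 0, 0, 0, 0, 2, -2, 0, 0, 2] : List ℤ)],
   Ins.push 1 [([-2, 0, 2, -2, 0, 0, 0, 0, 0, 0, -2, 0, 0, 0, 0, 0, 0, 0, 2, -2, 0, 0, 2, 2] : List ℤ)],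
   Ins.push 0 [([2, -2, 0, 2, -2, 0, 0, 0, 0, 0, 0, -2, 0, 0, 0, 0, 0, 0, 0, 2, -2, 0, 0, 2] : List ℤ)],
   Ins.push 1 [([2, 0, -2, 2, 0, 0, 0, 0, 0, 0, -2, 0, 0, 0, 0, 0, 0, 0, -2, -2, 0, 0, 2, 2] : List ℤ)],
   Ins.push 1 [([2, 0, 0, 2, -2, 0, -2, -2, 0, 0, 0, 0, 0, 0, 2, 0, 0, 0, 0, 0, 0, 0, -2, 2] : List ℤ)],
   Ins.push 0 [([-2, 2, 0, 0, 2, -2, 0, -2, -2, 0, 0, 0, 0, 0, 0, 2, 0, 0, 0, 0, 0, 0, 0, 2] : List ℤ)],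
   Ins.push 1 [([-2, 0, 2, 0, 0, -2, 0, 0, 0, 0, 0, 0, 0, 0, 0, 2, -2, 0, 2, 0, 0, -2, 0, 2] : List ℤ)],
   Ins.push 0 [([0, -2, 0, 2, 0, 0, -2, 0, 0, 0, 0, 0, 0, 0, 0, 0, 2, -2, 0, 2, 0, 0, -2, 2] : List ℤ)],
   Ins.push 0 [([-2, 0, -2, 0, 2, 0, 0, -2, 0, 0, 0, 0, 0, 0, 0, 0, 0, 2, -2, 0, 2, 0, 0, 2] : List ℤ)],
   Ins.push 1 [([-2, 0, 2, 0, -2, -2, -2, 0, 0, 0, 2, 2, 0, 0, 0, 0, 0, 0, 0, 0, 0, 0, 0, 2] : List ℤ)],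
   Ins.mark,
   Ins.pop,
   Ins.pop,
   Ins.pop,
   Ins.pop,
   Ins.pop,
   Ins.pop,
   Ins.pop,
   Ins.pop,
   Ins.push 1 [([-2, 0, 0, -2, 2, 0, 2, -2, 0, 0, 0, 0, 0, 0, 2, 0, 0, 0, 0, 0, 0, 0, -2, 2] : List ℤ)],
   Ins.push 0 [([-2, -2, 0, 0, -2, 2, 0, 2, -2, 0, 0, 0, 0, 0, 0, 2, 0, 0, 0, 0, 0, 0, 0, 2] : List ℤ)],
   Ins.push 1 [([-2, 0, -2, 0, 0, 2, 0, 0, 0, 0, 0, 0, 0, 0, 0, 2, -2, 0, -2, 0, 0, 2, 0, 2] : List ℤ)],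
   Ins.push 0 [([0, -2, 0, -2, 0, 0, 2, 0, 0, 0, 0, 0, 0, 0, 0, 0, 2, -2, 0, -2, 0, 0, 2, 2] : List ℤ)],
   Ins.push 0 [([2, 0, -2, 0, -2, 0, 0, 2, 0, 0, 0, 0, 0, 0, 0, 0, 0, 2, -2, 0, -2, 0, 0, 2] : List ℤ)],
   Ins.push 1 [([2, 0, -2, 0, -2, 2, -2, 0, 0, 0, -2, 2, 0, 0, 0, 0, 0, 0, 0, 0, 0, 0, 0, 2] : List ℤ)],
   Ins.mark,
   Ins.pop,
   Ins.pop,
   Ins.pop,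
   Ins.pop,
   Ins.pop,
   Ins.pop,
   Ins.pop,
   Ins.push 0 [([0, -2, 2, 0, -2, 2, 0, 0, 0, 0, 0, 0, -2, 0, 0, 0, 0, 0, 0, 0, 2, -2, 0, 2] : List ℤ)],
   Ins.push 0 [([0, 0, -2, 2, 0, -2, 2, 0, 0, 0, 0, 0, 0, -2, 0, 0, 0, 0, 0, 0, 0, 2, -2, 2] : List ℤ)],
   Ins.push 0 [([-2, 0, 0, -2, 2, 0, -2, 2, 0, 0, 0, 0, 0, 0, -2, 0, 0, 0, 0, 0, 0, 0, 2, 2] : List ℤ)],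
   Ins.push 0 [([2, -2, 0, 0, -2, 2, 0, -2, 2, 0, 0, 0, 0, 0, 0, -2, 0, 0, 0, 0, 0, 0, 0, 2] : List ℤ)],
   Ins.push 1 [([2, 0, -2, 0, 0, -2, 0, 0, 0, 0, 0, 0, 0, 0, 0, -2, 2, 0, -2, 0, 0, 2, 0, 2] : List ℤ)],
   Ins.push 0 [([0, 2, 0, -2, 0, 0, -2, 0, 0, 0, 0, 0, 0, 0, 0, 0, -2, 2, 0, -2, 0, 0, 2, 2] : List ℤ)],
   Ins.push 0 [([2, 0, 2, 0, -2, 0, 0, -2, 0, 0, 0, 0, 0, 0, 0, 0, 0, -2, 2, 0, -2, 0, 0, 2] : List ℤ)],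
   Ins.push 1 [([2, 0, -2, 0, 2, -2, 2, 0, 0, 0, -2, -2, 0, 0, 0, 0, 0, 0, 0, 0, 0, 0, 0, 2] : List ℤ)],
   Ins.mark,
   Ins.pop,
   Ins.pop,
   Ins.pop,
   Ins.push 1 [([2, 0, 0, 0, -2, 0, -2, 0, 0, 0, 0, 0, 0, 2, 0, -2, 0, 0, 0, 0, 2, -2, 0, 2] : List ℤ)],
   Ins.push 1 [([2, -2, -2, 0, 0, 0, 0, 0, 0, 2, 2, 0, 0, 0, 0, -2, 0, 0, 0, 0, -2, 0, 0, 2] : List ℤ)],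
   Ins.push 0 [([0, 2, -2, -2, 0, 0, 0, 0, 0, 0, 2, 2, 0, 0, 0, 0, -2, 0, 0, 0, 0, -2, 0, 2] : List ℤ)],
   Ins.push 1 [([0, 0, 0, -2, 0, 0, -2, 2, 0, 0, 0, 0, 0, -2, 0, 0, 0, 0, 2, 2, -2, 0, 0, 2] : List ℤ)],
   Ins.push 1 [([0, -2, 0, -2, 2, 2, 0, 0, 0, -2, -2, 0, 0, 0, 0, 0, 0, 0, 0, 0, 0, 0, 2, 2] : List ℤ)],
   Ins.push 0 [([2, 0, -2, 0, -2, 2, 2, 0, 0, 0, -2, -2, 0, 0, 0, 0, 0, 0, 0, 0, 0, 0, 0, 2] : List ℤ)],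
   Ins.mark,
   Ins.pop,
   Ins.pop,
   Ins.pop,
   Ins.pop,
   Ins.pop,
   Ins.pop,
   Ins.pop,
   Ins.pop,
   Ins.pop,
   Ins.pop,
   Ins.push 1 [([0, 0, -2, 0, 0, 0, 2, 0, -2, 0, 2, 0, 0, 0, 0, 0, 0, 0, -2, 0, -2, 2, 0, 2] : List ℤ)],
   Ins.push 0 [([0, 0, 0, -2, 0, 0, 0, 2, 0, -2, 0, 2, 0, 0, 0, 0, 0, 0, 0, -2, 0, -2, 2, 2] : List ℤ)],
   Ins.push 1 [([0, 0, 0, -2, 0, 2, 0, 0, 0, 0, 0, 0, -2, 0, 2, 0, 0, 0, 0, 2, -2, 0, -2, 2] : List ℤ)],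
   Ins.push 0 [([-2, 0, 0, 0, -2, 0, 2, 0, 0, 0, 0, 0, 0, -2, 0, 2, 0, 0, 0, 0, 2, -2, 0, 2] : List ℤ)],
   Ins.push 1 [([-2, 2, -2, 0, 0, 0, 0, 0, 0, -2, 2, 0, 0, 0, 0, 2, 0, 0, 0, 0, -2, 0, 0, 2] : List ℤ)],
   Ins.push 0 [([0, -2, 2, -2, 0, 0, 0, 0, 0, 0, -2, 2, 0, 0, 0, 0, 2, 0, 0, 0, 0, -2, 0, 2] : List ℤ)],
   Ins.push 0 [([0, 0, -2, 2, -2, 0, 0, 0, 0, 0, 0, -2, 2, 0, 0, 0, 0, 2, 0, 0, 0, 0, -2, 2] : List ℤ)],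
   Ins.push 0 [([-2, 0, 0, -2, 2, -2, 0, 0, 0, 0, 0, 0, -2, 2, 0, 0, 0, 0, 2, 0, 0, 0, 0, 2] : List ℤ)],
   Ins.push 1 [([-2, 0, 2, -2, 2, 0, 0, 0, -2, 2, 0, 0, 0, 0, 0, 0, 0, 0, 0, 0, 0, -2, 0, 2] : List ℤ)],
   Ins.push 0 [([0, -2, 0, 2, -2, 2, 0, 0, 0, -2, 2, 0, 0, 0, 0, 0, 0, 0, 0, 0, 0, 0, -2, 2] : List ℤ)],
   Ins.push 0 [([-2, 0, -2, 0, 2, -2, 2, 0, 0, 0, -2, 2, 0, 0, 0, 0, 0, 0, 0, 0, 0, 0, 0, 2] : List ℤ)],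
   Ins.mark,
   Ins.pop,
   Ins.pop,
   Ins.pop,
   Ins.pop,
   Ins.pop,
   Ins.pop,
   Ins.pop,
   Ins.pop,
   Ins.pop,
   Ins.pop,
   Ins.push 1 [([0, 2, 0, 0, -2, 0, -2, 2, 0, 0, -2, 0, 0, 0, 0, 0, -2, 0, 0, 0, 2, 0, 0, 2] : List ℤ)],
   Ins.push 1 [([0, -2, -2, 0, 0, 2, 0, -2, 0, 0, 2, 0, 0, -2, 0, 0, 0, 0, 2, 0, 0, 0, 0, 2] : List ℤ)],
   Ins.push 0 [([0, 0, -2, -2, 0, 0, 2, 0, -2, 0, 0, 2, 0, 0, -2, 0, 0, 0, 0, 2, 0, 0, 0, 2] : List ℤ)],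
   Ins.push 1 [([0, 2, 0, -2, 0, 0, -2, 0, 0, 0, 0, 0, 0, 0, 0, 0, -2, -2, 0, 2, 0, 0, 2, 2] : List ℤ)],
   Ins.push 0 [([2, 0, 2, 0, -2, 0, 0, -2, 0, 0, 0, 0, 0, 0, 0, 0, 0, -2, -2, 0, 2, 0, 0, 2] : List ℤ)],
   Ins.push 1 [([2, 0, -2, 0, -2, -2, 2, 0, 0, 0, 2, -2, 0, 0, 0, 0, 0, 0, 0, 0, 0, 0, 0, 2] : List ℤ)],
   Ins.mark,
   Ins.pop,
   Ins.pop,
   Ins.pop,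
   Ins.pop,
   Ins.pop,
   Ins.pop,
   Ins.pop,
   Ins.pop,
   Ins.pop,
   Ins.push 0 [([0, -2, 0, 0, -2, 0, 0, 2, 0, 0, 0, 0, 2, 0, 0, 0, 0, 0, -2, 2, 0, 0, -2, 2] : List ℤ)],
   Ins.push 1 [([0, 0, -2, 0, -2, 2, 0, 0, 2, 0, 0, 0, 0, 0, -2, 0, 0, 0, -2, 0, 0, 0, 2, 2] : List ℤ)],
   Ins.push 0 [([2, 0, 0, -2, 0, -2, 2, 0, 0, 2, 0, 0, 0, 0, 0, -2, 0, 0, 0, -2, 0, 0, 0, 2] : List ℤ)],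
   Ins.push 0 [([0, 2, 0, 0, -2, 0, -2, 2, 0, 0, 2, 0, 0, 0, 0, 0, -2, 0, 0, 0, -2, 0, 0, 2] : List ℤ)],
   Ins.push 1 [([0, -2, -2, 0, 0, 2, 0, 2, 0, 0, -2, 0, 0, -2, 0, 0, 0, 0, 2, 0, 0, 0, 0, 2] : List ℤ)],
   Ins.push 0 [([0, 0, -2, -2, 0, 0, 2, 0, 2, 0, 0, -2, 0, 0, -2, 0, 0, 0, 0, 2, 0, 0, 0, 2] : List ℤ)],
   Ins.push 1 [([0, 2, 0, -2, 0, 0, -2, 0, 0, 0, 0, 0, 0, 0, 0, 0, 2, -2, 0, -2, 0, 0, 2, 2] : List ℤ)],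
   Ins.push 0 [([2, 0, 2, 0, -2, 0, 0, -2, 0, 0, 0, 0, 0, 0, 0, 0, 0, 2, -2, 0, -2, 0, 0, 2] : List ℤ)],
   Ins.push 1 [([2, 0, -2, 0, -2, -2, 2, 0, 0, 0, -2, 2, 0, 0, 0, 0, 0, 0, 0, 0, 0, 0, 0, 2] : List ℤ)],
   Ins.mark,
   Ins.pop,
   Ins.pop,
   Ins.pop,
   Ins.pop,
   Ins.pop,
   Ins.pop,
   Ins.pop,
   Ins.push 1 [([0, 0, -2, 0, -2, 0, -2, 0, 0, 0, 0, 0, 0, 0, 2, 0, 2, -2, 0, 0, 0, 2, 0, 2] : List ℤ)],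
   Ins.push 1 [([0, -2, -2, 0, 0, 0, -2, 0, 0, 0, 0, -2, 0, 2, 0, 0, 0, 2, 0, 0, 2, 0, 0, 2] : List ℤ)],
   Ins.push 0 [([0, 0, -2, -2, 0, 0, 0, -2, 0, 0, 0, 0, -2, 0, 2, 0, 0, 0, 2, 0, 0, 2, 0, 2] : List ℤ)],
   Ins.push 1 [([0, 0, 0, -2, 2, -2, -2, 0, -2, 0, 0, 0, 0, 0, 0, 0, 0, 2, 0, 0, 2, 0, 0, 2] : List ℤ)],
   Ins.push 1 [([0, -2, 2, -2, 0, 0, 0, 0, 0, 0, 2, 2, 0, 0, 0, 0, -2, 0, 0, 0, 0, -2, 0, 2] : List ℤ)],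
   Ins.push 1 [([0, 0, 0, -2, 0, 0, 2, 2, 0, 0, 0, 0, 0, -2, 0, 0, 0, 0, -2, 2, -2, 0, 0, 2] : List ℤ)],
   Ins.push 1 [([0, 2, 0, -2, -2, 2, 0, 0, 0, -2, -2, 0, 0, 0, 0, 0, 0, 0, 0, 0, 0, 0, 2, 2] : List ℤ)],
   Ins.push 0 [([2, 0, 2, 0, -2, -2, 2, 0, 0, 0, -2, -2, 0, 0, 0, 0, 0, 0, 0, 0, 0, 0, 0, 2] : List ℤ)],
   Ins.mark,
   Ins.pop,
   Ins.pop,
   Ins.pop,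
   Ins.push 0 [([0, 0, -2, 2, -2, 0, 0, 0, 0, 0, 0, 2, 2, 0, 0, 0, 0, -2, 0, 0, 0, 0, -2, 2] : List ℤ)],
   Ins.push 0 [([-2, 0, 0, -2, 2, -2, 0, 0, 0, 0, 0, 0, 2, 2, 0, 0, 0, 0, -2, 0, 0, 0, 0, 2] : List ℤ)],
   Ins.push 1 [([-2, 0, 2, -2, -2, 0, 0, 0, 2, 2, 0, 0, 0, 0, 0, 0, 0, 0, 0, 0, 0, -2, 0, 2] : List ℤ)],
   Ins.push 0 [([0, -2, 0, 2, -2, -2, 0, 0, 0, 2, 2, 0, 0, 0, 0, 0, 0, 0, 0, 0, 0, 0, -2, 2] : List ℤ)],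
   Ins.push 0 [([-2, 0, -2, 0, 2, -2, -2, 0, 0, 0, 2, 2, 0, 0, 0, 0, 0, 0, 0, 0, 0, 0, 0, 2] : List ℤ)],
   Ins.mark,
   Ins.pop,
   Ins.pop,
   Ins.pop,
   Ins.pop,
   Ins.pop,
   Ins.pop,
   Ins.pop,
   Ins.pop,
   Ins.pop,
   Ins.pop,
   Ins.pop,
   Ins.push 0 [([-2, 0, -2, 0, 0, -2, 0, 0, 2, 0, 0, 0, 0, 2, 0, 0, 0, 0, 0, -2, 2, 0, 0, 2] : List ℤ)],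
   Ins.push 0 [([0, -2, 0, -2, 0, 0, -2, 0, 0, 2, 0, 0, 0, 0, 2, 0, 0, 0, 0, 0, -2, 2, 0, 2] : List ℤ)],
   Ins.push 0 [([0, 0, -2, 0, -2, 0, 0, -2, 0, 0, 2, 0, 0, 0, 0, 2, 0, 0, 0, 0, 0, -2, 2, 2] : List ℤ)],
   Ins.push 0 [([2, 0, 0, -2, 0, -2, 0, 0, -2, 0, 0, 2, 0, 0, 0, 0, 2, 0, 0, 0, 0, 0, -2, 2] : List ℤ)],
   Ins.push 1 [([2, 0, 0, -2, 0, 0, 0, 0, 0, 0, 0, 0, 0, 2, -2, 0, -2, 0, 0, 2, 0, -2, 0, 2] : List ℤ)],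
   Ins.push 0 [([0, 2, 0, 0, -2, 0, 0, 0, 0, 0, 0, 0, 0, 0, 2, -2, 0, -2, 0, 0, 2, 0, -2, 2] : List ℤ)],
   Ins.push 0 [([-2, 0, 2, 0, 0, -2, 0, 0, 0, 0, 0, 0, 0, 0, 0, 2, -2, 0, -2, 0, 0, 2, 0, 2] : List ℤ)],
   Ins.push 0 [([0, -2, 0, 2, 0, 0, -2, 0, 0, 0, 0, 0, 0, 0, 0, 0, 2, -2, 0, -2, 0, 0, 2, 2] : List ℤ)],
   Ins.push 0 [([2, 0, -2, 0, 2, 0, 0, -2, 0, 0, 0, 0, 0, 0, 0, 0, 0, 2, -2, 0, -2, 0, 0, 2] : List ℤ)],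
   Ins.push 1 [([2, 0, 2, 0, -2, -2, -2, 0, 0, 0, -2, 2, 0, 0, 0, 0, 0, 0, 0, 0, 0, 0, 0, 2] : List ℤ)],
   Ins.mark,
   Ins.pop,
   Ins.pop,
   Ins.pop,
   Ins.pop,
   Ins.pop,
   Ins.push 1 [([2, 0, 0, -2, 0, 0, 0, 0, 0, 2, 0, 0, 0, -2, 0, 0, 0, -2, 0, 0, -2, 0, 2, 2] : List ℤ)],
   Ins.push 0 [([2, 2, 0, 0, -2, 0, 0, 0, 0, 0, 2, 0, 0, 0, -2, 0, 0, 0, -2, 0, 0, -2, 0, 2] : List ℤ)],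
   Ins.push 1 [([2, 0, -2, 0, -2, 0, 0, 2, 0, 0, 0, 0, 0, 0, 0, 0, 0, -2, 2, 0, -2, 0, 0, 2] : List ℤ)],
   Ins.push 1 [([2, 0, -2, 0, 2, 2, -2, 0, 0, 0, -2, -2, 0, 0, 0, 0, 0, 0, 0, 0, 0, 0, 0, 2] : List ℤ)],
   Ins.mark,
   Ins.pop,
   Ins.pop,
   Ins.pop,
   Ins.pop,
   Ins.pop,
   Ins.pop,
   Ins.pop,
   Ins.pop,
   Ins.push 1 [([-2, 0, 0, 0, 0, 0, -2, 0, 0, 2, 2, 0, 0, 0, 0, 0, 2, 0, 0, 0, 0, -2, -2, 2] : List ℤ)],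
   Ins.push 0 [([-2, -2, 0, 0, 0, 0, 0, -2, 0, 0, 2, 2, 0, 0, 0, 0, 0, 2, 0, 0, 0, 0, -2, 2] : List ℤ)],
   Ins.push 1 [([-2, 0, 0, 0, 0, -2, 0, 2, 0, 0, 0, 2, 0, 0, -2, 0, 0, 0, -2, 2, 0, 0, 0, 2] : List ℤ)],
   Ins.push 1 [([-2, 0, 0, 0, -2, 2, 0, 0, 0, 0, 0, 0, 0, 0, 0, 0, 0, -2, 0, 2, 0, -2, 2, 2] : List ℤ)],
   Ins.push 0 [([2, -2, 0, 0, 0, -2, 2, 0, 0, 0, 0, 0, 0, 0, 0, 0, 0, 0, -2, 0, 2, 0, -2, 2] : List ℤ)],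
   Ins.push 0 [([-2, 2, -2, 0, 0, 0, -2, 2, 0, 0, 0, 0, 0, 0, 0, 0, 0, 0, 0, -2, 0, 2, 0, 2] : List ℤ)],
   Ins.push 1 [([-2, -2, 0, 0, 0, 2, -2, 0, 0, 0, 0, 0, 0, 0, 0, 0, 0, 0, 2, 0, 2, 0, -2, 2] : List ℤ)],
   Ins.push 1 [([-2, -2, 0, 0, 2, 0, 0, 0, 0, 0, 2, 0, 0, 0, -2, 0, 0, 0, -2, 0, 0, 2, 0, 2] : List ℤ)],
   Ins.push 1 [([-2, 0, 2, 0, -2, 0, 0, 2, 0, 0, 0, 0, 0, 0, 0, 0, 0, -2, -2, 0, 2, 0, 0, 2] : List ℤ)],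
   Ins.push 1 [([-2, 0, -2, 0, -2, 2, 2, 0, 0, 0, 2, -2, 0, 0, 0, 0, 0, 0, 0, 0, 0, 0, 0, 2] : List ℤ)],
   Ins.mark,
   Ins.pop,
   Ins.pop,
   Ins.pop,
   Ins.pop,
   Ins.pop,
   Ins.pop,
   Ins.pop,
   Ins.pop,
   Ins.pop,
   Ins.pop,
   Ins.pop,
   Ins.pop,
   Ins.pop,
   Ins.pop,
   Ins.push 1 [([-2, 0, 0, -2, 0, 0, -2, 0, 0, 0, 0, 2, 0, 0, 0, 0, 0, -2, -2, 0, 0, -2, 0, 2] : List ℤ)],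
   Ins.push 1 [([-2, -2, 0, -2, -2, 0, 0, 0, 0, 0, 0, -2, 0, 0, 0, 0, 0, 0, 0, 2, -2, 0, 0, 2] : List ℤ)],
   Ins.push 1 [([-2, 0, -2, -2, 0, 0, 0, 0, 0, 0, -2, 0, 0, 0, 0, 0, 0, 0, -2, -2, 0, 0, 2, 2] : List ℤ)],
   Ins.push 1 [([-2, 0, 0, -2, -2, 0, -2, -2, 0, 0, 0, 0, 0, 0, 2, 0, 0, 0, 0, 0, 0, 0, -2, 2] : List ℤ)],
   Ins.push 0 [([-2, -2, 0, 0, -2, -2, 0, -2, -2, 0, 0, 0, 0, 0, 0, 2, 0, 0, 0, 0, 0, 0, 0, 2] : List ℤ)],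
   Ins.push 1 [([-2, 0, -2, 0, 0, -2, 0, 0, 0, 0, 0, 0, 0, 0, 0, 2, -2, 0, -2, 0, 0, -2, 0, 2] : List ℤ)],
   Ins.push 0 [([0, -2, 0, -2, 0, 0, -2, 0, 0, 0, 0, 0, 0, 0, 0, 0, 2, -2, 0, -2, 0, 0, -2, 2] : List ℤ)],
   Ins.push 0 [([-2, 0, -2, 0, -2, 0, 0, -2, 0, 0, 0, 0, 0, 0, 0, 0, 0, 2, -2, 0, -2, 0, 0, 2] : List ℤ)],
   Ins.push 1 [([-2, 0, -2, 0, -2, -2, -2, 0, 0, 0, -2, 2, 0, 0, 0, 0, 0, 0, 0, 0, 0, 0, 0, 2] : List ℤ)],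
   Ins.mark,
   Ins.pop,
   Ins.pop,
   Ins.pop,
   Ins.pop,
   Ins.pop,
   Ins.pop,
   Ins.pop,
   Ins.pop,
   Ins.pop,
   Ins.push 2 [([2, 2, 2, 2, 0, -2, 0, 0, 0, 0, 0, 0, 0, 0, -2, 0, 0, 2, 0, 0, 0, 0, 0, 2] : List ℤ)],
   Ins.push 1 [([2, 0, 0, 2, 0, 0, 2, 0, 0, 0, 0, 2, 0, 0, 0, 0, 0, -2, 2, 0, 0, -2, 0, 2] : List ℤ)],
   Ins.push 0 [([0, 2, 0, 0, 2, 0, 0, 2, 0, 0, 0, 0, 2, 0, 0, 0, 0, 0, -2, 2, 0, 0, -2, 2] : List ℤ)],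
   Ins.push 0 [([-2, 0, 2, 0, 0, 2, 0, 0, 2, 0, 0, 0, 0, 2, 0, 0, 0, 0, 0, -2, 2, 0, 0, 2] : List ℤ)],
   Ins.push 0 [([0, -2, 0, 2, 0, 0, 2, 0, 0, 2, 0, 0, 0, 0, 2, 0, 0, 0, 0, 0, -2, 2, 0, 2] : List ℤ)],
   Ins.push 0 [([0, 0, -2, 0, 2, 0, 0, 2, 0, 0, 2, 0, 0, 0, 0, 2, 0, 0, 0, 0, 0, -2, 2, 2] : List ℤ)],
   Ins.push 0 [([2, 0, 0, -2, 0, 2, 0, 0, 2, 0, 0, 2, 0, 0, 0, 0, 2, 0, 0, 0, 0, 0, -2, 2] : List ℤ)],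
   Ins.push 0 [([-2, 2, 0, 0, -2, 0, 2, 0, 0, 2, 0, 0, 2, 0, 0, 0, 0, 2, 0, 0, 0, 0, 0, 2] : List ℤ)],
   Ins.push 0 [([0, -2, 2, 0, 0, -2, 0, 2, 0, 0, 2, 0, 0, 2, 0, 0, 0, 0, 2, 0, 0, 0, 0, 2] : List ℤ)],
   Ins.push 0 [([0, 0, -2, 2, 0, 0, -2, 0, 2, 0, 0, 2, 0, 0, 2, 0, 0, 0, 0, 2, 0, 0, 0, 2] : List ℤ)],
   Ins.push 1 [([0, -2, 0, 2, 0, 0, -2, 0, 0, 0, 0, 0, 0, 0, 0, 0, 2, 2, 0, 2, 0, 0, 2, 2] : List ℤ)],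
   Ins.push 0 [([2, 0, -2, 0, 2, 0, 0, -2, 0, 0, 0, 0, 0, 0, 0, 0, 0, 2, 2, 0, 2, 0, 0, 2] : List ℤ)],
   Ins.push 1 [([2, 0, 2, 0, 2, -2, -2, 0, 0, 0, 2, 2, 0, 0, 0, 0, 0, 0, 0, 0, 0, 0, 0, 2] : List ℤ)],
   Ins.mark,
   Ins.pop,
   Ins.pop,
   Ins.pop,
   Ins.pop,
   Ins.pop,
   Ins.pop,
   Ins.push 1 [([2, 0, 0, -2, 0, 0, 0, 0, 0, 0, 0, 0, 0, 2, -2, 0, 2, 0, 0, 2, 0, 2, 0, 2] : List ℤ)],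
   Ins.push 1 [([2, 0, 0, -2, 0, 0, 0, 0, 0, 2, 0, 0, 0, 2, 0, 0, 0, -2, 0, 0, 2, 0, 2, 2] : List ℤ)],
   Ins.push 0 [([2, 2, 0, 0, -2, 0, 0, 0, 0, 0, 2, 0, 0, 0, 2, 0, 0, 0, -2, 0, 0, 2, 0, 2] : List ℤ)],
   Ins.push 1 [([2, 0, -2, 0, -2, 0, 0, 2, 0, 0, 0, 0, 0, 0, 0, 0, 0, 2, 2, 0, 2, 0, 0, 2] : List ℤ)],
   Ins.push 1 [([2, 0, -2, 0, 2, 2, -2, 0, 0, 0, 2, 2, 0, 0, 0, 0, 0, 0, 0, 0, 0, 0, 0, 2] : List ℤ)],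
   Ins.mark,
   Ins.pop,
   Ins.pop,
   Ins.pop,
   Ins.pop,
   Ins.pop,
   Ins.pop,
   Ins.pop,
   Ins.pop,
   Ins.push 1 [([-2, 0, 0, 0, 0, 0, 2, 0, 0, 2, 2, 0, 0, 0, 0, 0, 2, 0, 0, 0, 0, 2, -2, 2] : List ℤ)],
   Ins.push 0 [([-2, -2, 0, 0, 0, 0, 0, 2, 0, 0, 2, 2, 0, 0, 0, 0, 0, 2, 0, 0, 0, 0, 2, 2] : List ℤ)],
   Ins.push 1 [([-2, 0, 0, 0, 0, 2, 0, 2, 0, 0, 0, 2, 0, 0, 2, 0, 0, 0, -2, 2, 0, 0, 0, 2] : List ℤ)],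
   Ins.push 1 [([-2, 0, 0, 0, -2, 2, 0, 0, 0, 0, 0, 0, 0, 0, 0, 0, 0, 2, 0, 2, 0, 2, 2, 2] : List ℤ)],
   Ins.push 0 [([2, -2, 0, 0, 0, -2, 2, 0, 0, 0, 0, 0, 0, 0, 0, 0, 0, 0, 2, 0, 2, 0, 2, 2] : List ℤ)],
   Ins.push 1 [([2, 2, 0, 0, 2, 0, 0, 0, 0, 0, 2, 0, 0, 0, 2, 0, 0, 0, -2, 0, 0, -2, 0, 2] : List ℤ)],
   Ins.push 1 [([2, 0, 2, 0, -2, 0, 0, 2, 0, 0, 0, 0, 0, 0, 0, 0, 0, 2, 2, 0, -2, 0, 0, 2] : List ℤ)],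
   Ins.push 1 [([2, 0, -2, 0, 2, 2, 2, 0, 0, 0, -2, 2, 0, 0, 0, 0, 0, 0, 0, 0, 0, 0, 0, 2] : List ℤ)],
   Ins.mark,
   Ins.pop,
   Ins.pop,
   Ins.pop,
   Ins.pop,
   Ins.pop,
   Ins.pop,
   Ins.pop,
   Ins.pop,
   Ins.pop,
   Ins.push 1 [([0, 0, 2, 0, -2, 2, 0, 0, 2, 0, 0, 0, 0, 0, -2, 0, 0, 0, 2, 0, 0, 0, 2, 2] : List ℤ)],
   Ins.push 1 [([0, 0, -2, 0, 2, 0, 2, 0, 0, 0, 0, 0, 0, 0, 2, 0, 2, -2, 0, 0, 0, 2, 0, 2] : List ℤ)],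
   Ins.push 0 [([0, 0, 0, -2, 0, 2, 0, 2, 0, 0, 0, 0, 0, 0, 0, 2, 0, 2, -2, 0, 0, 0, 2, 2] : List ℤ)],
   Ins.push 1 [([0, 0, 0, -2, -2, 2, 0, 0, 0, 0, 0, 2, 0, 0, 2, 2, 0, 0, 0, 0, 0, 2, 0, 2] : List ℤ)],
   Ins.push 1 [([0, 0, -2, -2, 0, 0, 0, 0, 0, 0, 0, 0, 0, 0, 0, 2, 0, 2, 0, 2, 2, 2, 0, 2] : List ℤ)],
   Ins.push 0 [([0, 0, 0, -2, -2, 0, 0, 0, 0, 0, 0, 0, 0, 0, 0, 0, 2, 0, 2, 0, 2, 2, 2, 2] : List ℤ)],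
   Ins.push 0 [([2, 0, 0, 0, -2, -2, 0, 0, 0, 0, 0, 0, 0, 0, 0, 0, 0, 2, 0, 2, 0, 2, 2, 2] : List ℤ)],
   Ins.push 0 [([2, 2, 0, 0, 0, -2, -2, 0, 0, 0, 0, 0, 0, 0, 0, 0, 0, 0, 2, 0, 2, 0, 2, 2] : List ℤ)],
   Ins.push 1 [([2, -2, 0, 0, 2, 0, 0, 0, 0, 0, 2, 0, 0, 0, 2, 0, 0, 0, 2, 0, 0, -2, 0, 2] : List ℤ)],
   Ins.push 1 [([2, 0, 2, 0, 2, 0, 0, 2, 0, 0, 0, 0, 0, 0, 0, 0, 0, 2, -2, 0, -2, 0, 0, 2] : List ℤ)],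
   Ins.push 1 [([2, 0, 2, 0, -2, 2, 2, 0, 0, 0, -2, 2, 0, 0, 0, 0, 0, 0, 0, 0, 0, 0, 0, 2] : List ℤ)],
   Ins.mark,
   Ins.pop,
   Ins.pop,
   Ins.pop,
   Ins.pop,
   Ins.pop,
   Ins.pop,
   Ins.pop,
   Ins.pop,
   Ins.pop,
   Ins.pop,
   Ins.push 0 [([2, 0, 0, 2, 0, -2, 2, 0, 0, 2, 0, 0, 0, 0, 0, -2, 0, 0, 0, 2, 0, 0, 0, 2] : List ℤ)],
   Ins.push 1 [([2, 2, 0, 2, 0, 0, 0, 0, 0, 0, 0, 0, 2, 0, 0, -2, 0, 0, 0, 0, 0, -2, 2, 2] : List ℤ)],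
   Ins.push 1 [([2, 0, 0, 2, 0, 0, 0, 0, 2, 0, 0, 0, 0, 0, 2, -2, 0, 0, 2, 0, -2, 0, 0, 2] : List ℤ)],
   Ins.push 1 [([2, 0, 0, 2, 2, 0, 0, 0, 0, 0, -2, 0, 0, 0, 0, -2, 2, 2, 0, 0, 0, 0, 0, 2] : List ℤ)],
   Ins.push 0 [([0, 2, 0, 0, 2, 2, 0, 0, 0, 0, 0, -2, 0, 0, 0, 0, -2, 2, 2, 0, 0, 0, 0, 2] : List ℤ)],
   Ins.push 0 [([0, 0, 2, 0, 0, 2, 2, 0, 0, 0, 0, 0, -2, 0, 0, 0, 0, -2, 2, 2, 0, 0, 0, 2] : List ℤ)],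
   Ins.push 0 [([0, 0, 0, 2, 0, 0, 2, 2, 0, 0, 0, 0, 0, -2, 0, 0, 0, 0, -2, 2, 2, 0, 0, 2] : List ℤ)],
   Ins.push 1 [([0, 2, 0, 2, -2, 2, 0, 0, 0, -2, 2, 0, 0, 0, 0, 0, 0, 0, 0, 0, 0, 0, 2, 2] : List ℤ)],
   Ins.push 0 [([2, 0, 2, 0, 2, -2, 2, 0, 0, 0, -2, 2, 0, 0, 0, 0, 0, 0, 0, 0, 0, 0, 0, 2] : List ℤ)],
   Ins.mark,
   Ins.pop,
   Ins.pop,
   Ins.pop,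
   Ins.pop,
   Ins.pop,
   Ins.pop,
   Ins.pop,
   Ins.pop,
   Ins.push 0 [([0, 2, 0, 0, 2, 0, -2, 2, 0, 0, 2, 0, 0, 0, 0, 0, -2, 0, 0, 0, 2, 0, 0, 2] : List ℤ)],
   Ins.push 1 [([0, -2, 2, 0, 0, 2, 0, 2, 0, 0, 2, 0, 0, -2, 0, 0, 0, 0, 2, 0, 0, 0, 0, 2] : List ℤ)],
   Ins.push 0 [([0, 0, -2, 2, 0, 0, 2, 0, 2, 0, 0, 2, 0, 0, -2, 0, 0, 0, 0, 2, 0, 0, 0, 2] : List ℤ)],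
   Ins.push 1 [([0, 2, 0, 2, 0, 0, -2, 0, 0, 0, 0, 0, 0, 0, 0, 0, 2, -2, 0, 2, 0, 0, 2, 2] : List ℤ)],
   Ins.push 0 [([2, 0, 2, 0, 2, 0, 0, -2, 0, 0, 0, 0, 0, 0, 0, 0, 0, 2, -2, 0, 2, 0, 0, 2] : List ℤ)],
   Ins.push 1 [([2, 0, 2, 0, -2, -2, 2, 0, 0, 0, 2, 2, 0, 0, 0, 0, 0, 0, 0, 0, 0, 0, 0, 2] : List ℤ)],
   Ins.mark,
   Ins.pop,
   Ins.pop,
   Ins.pop,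
   Ins.pop,
   Ins.pop,
   Ins.pop,
   Ins.pop,
   Ins.pop,
   Ins.pop,
   Ins.push 1 [([2, 2, 0, 2, 2, 0, 0, 0, 0, 0, 0, -2, 0, 0, 0, 0, 0, 0, 0, 2, -2, 0, 0, 2] : List ℤ)],
   Ins.push 1 [([2, 0, 2, 2, 0, 0, 0, 0, 0, 0, -2, 0, 0, 0, 0, 0, 0, 0, 2, -2, 0, 0, 2, 2] : List ℤ)],
   Ins.push 1 [([2, 0, 0, 2, 2, 0, 2, -2, 0, 0, 0, 0, 0, 0, 2, 0, 0, 0, 0, 0, 0, 0, -2, 2] : List ℤ)],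
   Ins.push 0 [([-2, 2, 0, 0, 2, 2, 0, 2, -2, 0, 0, 0, 0, 0, 0, 2, 0, 0, 0, 0, 0, 0, 0, 2] : List ℤ)],
   Ins.push 1 [([-2, 0, 2, 0, 0, 2, 0, 0, 0, 0, 0, 0, 0, 0, 0, 2, -2, 0, 2, 0, 0, 2, 0, 2] : List ℤ)],
   Ins.push 0 [([0, -2, 0, 2, 0, 0, 2, 0, 0, 0, 0, 0, 0, 0, 0, 0, 2, -2, 0, 2, 0, 0, 2, 2] : List ℤ)],
   Ins.push 0 [([2, 0, -2, 0, 2, 0, 0, 2, 0, 0, 0, 0, 0, 0, 0, 0, 0, 2, -2, 0, 2, 0, 0, 2] : List ℤ)],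
   Ins.push 1 [([2, 0, 2, 0, -2, 2, -2, 0, 0, 0, 2, 2, 0, 0, 0, 0, 0, 0, 0, 0, 0, 0, 0, 2] : List ℤ)],
   Ins.mark,
   Ins.pop,
   Ins.pop,
   Ins.pop,
   Ins.pop,
   Ins.pop,
   Ins.pop,
   Ins.pop,
   Ins.push 0 [([0, 2, 2, 0, 2, 2, 0, 0, 0, 0, 0, 0, -2, 0, 0, 0, 0, 0, 0, 0, 2, -2, 0, 2] : List ℤ)],
   Ins.push 1 [([0, 0, 2, 0, 0, 0, 2, 0, -2, 0, 2, 0, 0, 0, 0, 0, 0, 0, 2, 0, -2, 2, 0, 2] : List ℤ)],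
   Ins.push 0 [([0, 0, 0, 2, 0, 0, 0, 2, 0, -2, 0, 2, 0, 0, 0, 0, 0, 0, 0, 2, 0, -2, 2, 2] : List ℤ)],
   Ins.push 0 [([2, 0, 0, 0, 2, 0, 0, 0, 2, 0, -2, 0, 2, 0, 0, 0, 0, 0, 0, 0, 2, 0, -2, 2] : List ℤ)],
   Ins.push 0 [([-2, 2, 0, 0, 0, 2, 0, 0, 0, 2, 0, -2, 0, 2, 0, 0, 0, 0, 0, 0, 0, 2, 0, 2] : List ℤ)],
   Ins.push 0 [([0, -2, 2, 0, 0, 0, 2, 0, 0, 0, 2, 0, -2, 0, 2, 0, 0, 0, 0, 0, 0, 0, 2, 2] : List ℤ)],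
   Ins.push 1 [([0, 2, 0, 0, 0, 0, 2, 2, -2, 0, 0, 0, 0, 0, 2, 0, 0, 2, -2, 0, 0, 0, 0, 2] : List ℤ)],
   Ins.push 1 [([0, 2, 0, 0, -2, 2, 0, 0, 0, 0, 0, 2, 0, 0, 0, 0, -2, 2, 2, 0, 0, 0, 0, 2] : List ℤ)],
   Ins.push 0 [([0, 0, 2, 0, 0, -2, 2, 0, 0, 0, 0, 0, 2, 0, 0, 0, 0, -2, 2, 2, 0, 0, 0, 2] : List ℤ)],
   Ins.push 0 [([0, 0, 0, 2, 0, 0, -2, 2, 0, 0, 0, 0, 0, 2, 0, 0, 0, 0, -2, 2, 2, 0, 0, 2] : List ℤ)],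
   Ins.push 1 [([0, -2, 0, 2, -2, 2, 0, 0, 0, 2, 2, 0, 0, 0, 0, 0, 0, 0, 0, 0, 0, 0, 2, 2] : List ℤ)],
   Ins.push 0 [([2, 0, -2, 0, 2, -2, 2, 0, 0, 0, 2, 2, 0, 0, 0, 0, 0, 0, 0, 0, 0, 0, 0, 2] : List ℤ)],
   Ins.mark,
   Ins.pop,
   Ins.pop,
   Ins.pop,
   Ins.pop,
   Ins.pop,
   Ins.pop,
   Ins.pop,
   Ins.pop,
   Ins.pop,
   Ins.pop,
   Ins.pop,
   Ins.pop,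
   Ins.pop,
   Ins.pop,
   Ins.push 0 [([0, 2, 2, 2, 2, 0, -2, 0, 0, 0, 0, 0, 0, 0, 0, -2, 0, 0, 2, 0, 0, 0, 0, 2] : List ℤ)],
   Ins.push 1 [([0, -2, 2, 2, 2, 0, 2, 0, 0, 0, 0, 0, 0, 0, 0, -2, 0, 0, 2, 0, 0, 0, 0, 2] : List ℤ)],
   Ins.push 1 [([0, 2, 2, 2, 2, 0, 2, 0, 0, 0, 0, 0, 0, 0, 0, -2, 0, 0, -2, 0, 0, 0, 0, 2] : List ℤ)],
   Ins.push 0 [([0, 0, 2, 2, 2, 2, 0, 2, 0, 0, 0, 0, 0, 0, 0, 0, -2, 0, 0, -2, 0, 0, 0, 2] : List ℤ)],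
   Ins.push 0 [([0, 0, 0, 2, 2, 2, 2, 0, 2, 0, 0, 0, 0, 0, 0, 0, 0, -2, 0, 0, -2, 0, 0, 2] : List ℤ)],
   Ins.push 1 [([0, 2, 2, 2, 0, 0, 0, 0, 0, 0, -2, -2, 0, 0, 0, 0, 2, 0, 0, 0, 0, 2, 0, 2] : List ℤ)],
   Ins.push 1 [([0, 0, 0, 2, 0, 0, 2, -2, 0, 0, 0, 0, 0, 2, 0, 0, 0, 0, 2, -2, 2, 0, 0, 2] : List ℤ)],
   Ins.push 1 [([0, 2, 0, 2, 2, -2, 0, 0, 0, 2, 2, 0, 0, 0, 0, 0, 0, 0, 0, 0, 0, 0, -2, 2] : List ℤ)],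
   Ins.push 0 [([-2, 0, 2, 0, 2, 2, -2, 0, 0, 0, 2, 2, 0, 0, 0, 0, 0, 0, 0, 0, 0, 0, 0, 2] : List ℤ)],
   Ins.mark,
   Ins.pop,
   Ins.pop,
   Ins.pop,
   Ins.pop,
   Ins.pop,
   Ins.pop,
   Ins.push 1 [([0, 2, 2, 2, -2, 0, 2, 0, 0, 0, 0, 0, 0, 0, 0, -2, 0, 0, 2, 0, 0, 0, 0, 2] : List ℤ)],
   Ins.push 1 [([0, 2, -2, 2, 2, 0, 2, 0, 0, 0, 0, 0, 0, 0, 0, -2, 0, 0, 2, 0, 0, 0, 0, 2] : List ℤ)],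
   Ins.push 0 [([0, 0, 2, -2, 2, 2, 0, 2, 0, 0, 0, 0, 0, 0, 0, 0, -2, 0, 0, 2, 0, 0, 0, 2] : List ℤ)],
   Ins.push 0 [([0, 0, 0, 2, -2, 2, 2, 0, 2, 0, 0, 0, 0, 0, 0, 0, 0, -2, 0, 0, 2, 0, 0, 2] : List ℤ)],
   Ins.push 1 [([0, 2, -2, 2, 0, 0, 0, 0, 0, 0, 2, -2, 0, 0, 0, 0, 2, 0, 0, 0, 0, 2, 0, 2] : List ℤ)],
   Ins.push 1 [([0, 0, 0, 2, 0, 0, -2, 2, 0, 0, 0, 0, 0, 2, 0, 0, 0, 0, 2, -2, 2, 0, 0, 2] : List ℤ)],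
   Ins.push 1 [([0, -2, 0, 2, 2, 2, 0, 0, 0, 2, 2, 0, 0, 0, 0, 0, 0, 0, 0, 0, 0, 0, -2, 2] : List ℤ)],
   Ins.push 0 [([-2, 0, -2, 0, 2, 2, 2, 0, 0, 0, 2, 2, 0, 0, 0, 0, 0, 0, 0, 0, 0, 0, 0, 2] : List ℤ)],
   Ins.mark,
   Ins.pop,
   Ins.pop,
   Ins.pop,
   Ins.push 0 [([0, 0, 2, -2, 2, 0, 0, 0, 0, 0, 0, 2, -2, 0, 0, 0, 0, 2, 0, 0, 0, 0, 2, 2] : List ℤ)],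
   Ins.push 1 [([0, 0, 2, -2, 0, 0, 2, 0, -2, 0, 0, 2, 0, 0, 2, 0, 0, 0, 0, 2, 0, 0, 0, 2] : List ℤ)],
   Ins.push 1 [([0, 2, 0, -2, 0, 0, 2, 0, 0, 0, 0, 0, 0, 0, 0, 0, -2, 2, 0, 2, 0, 0, 2, 2] : List ℤ)],
   Ins.push 0 [([2, 0, 2, 0, -2, 0, 0, 2, 0, 0, 0, 0, 0, 0, 0, 0, 0, -2, 2, 0, 2, 0, 0, 2] : List ℤ)],
   Ins.push 1 [([2, 0, -2, 0, 2, 2, 2, 0, 0, 0, 2, -2, 0, 0, 0, 0, 0, 0, 0, 0, 0, 0, 0, 2] : List ℤ)],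
   Ins.mark,
   Ins.pop,
   Ins.pop,
   Ins.pop,
   Ins.pop,
   Ins.pop,
   Ins.pop,
   Ins.pop,
   Ins.pop,
   Ins.pop,
   Ins.push 0 [([0, 0, 2, 2, 2, -2, 0, 2, 0, 0, 0, 0, 0, 0, 0, 0, -2, 0, 0, 2, 0, 0, 0, 2] : List ℤ)],
   Ins.push 0 [([0, 0, 0, 2, 2, 2, -2, 0, 2, 0, 0, 0, 0, 0, 0, 0, 0, -2, 0, 0, 2, 0, 0, 2] : List ℤ)],
   Ins.push 1 [([0, -2, 2, 2, 0, 0, 0, 0, 0, 0, 2, -2, 0, 0, 0, 0, 2, 0, 0, 0, 0, 2, 0, 2] : List ℤ)],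
   Ins.push 1 [([0, 0, 0, 2, 0, 0, 2, 2, 0, 0, 0, 0, 0, 2, 0, 0, 0, 0, -2, -2, 2, 0, 0, 2] : List ℤ)],
   Ins.push 1 [([0, 2, 0, 2, -2, 2, 0, 0, 0, 2, 2, 0, 0, 0, 0, 0, 0, 0, 0, 0, 0, 0, -2, 2] : List ℤ)],
   Ins.push 0 [([-2, 0, 2, 0, 2, -2, 2, 0, 0, 0, 2, 2, 0, 0, 0, 0, 0, 0, 0, 0, 0, 0, 0, 2] : List ℤ)],
   Ins.mark,
   Ins.pop,
   Ins.pop,
   Ins.pop,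
   Ins.pop,
   Ins.pop,
   Ins.pop,
   Ins.pop,
   Ins.pop,
   Ins.push 0 [([0, 0, -2, 2, 2, 2, 0, 2, 0, 0, 0, 0, 0, 0, 0, 0, -2, 0, 0, 2, 0, 0, 0, 2] : List ℤ)],
   Ins.push 1 [([0, 0, 2, 2, 0, 2, -2, 0, 0, 0, 0, 0, 0, -2, 0, 0, 0, 0, 0, 0, 0, 2, 2, 2] : List ℤ)],
   Ins.push 0 [([2, 0, 0, 2, 2, 0, 2, -2, 0, 0, 0, 0, 0, 0, -2, 0, 0, 0, 0, 0, 0, 0, 2, 2] : List ℤ)],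
   Ins.push 0 [([2, 2, 0, 0, 2, 2, 0, 2, -2, 0, 0, 0, 0, 0, 0, -2, 0, 0, 0, 0, 0, 0, 0, 2] : List ℤ)],
   Ins.push 1 [([2, 0, 2, 0, 0, 2, 0, 0, 0, 0, 0, 0, 0, 0, 0, -2, -2, 0, 2, 0, 0, 2, 0, 2] : List ℤ)],
   Ins.push 0 [([0, 2, 0, 2, 0, 0, 2, 0, 0, 0, 0, 0, 0, 0, 0, 0, -2, -2, 0, 2, 0, 0, 2, 2] : List ℤ)],
   Ins.push 0 [([2, 0, 2, 0, 2, 0, 0, 2, 0, 0, 0, 0, 0, 0, 0, 0, 0, -2, -2, 0, 2, 0, 0, 2] : List ℤ)],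
   Ins.push 1 [([2, 0, 2, 0, -2, 2, 2, 0, 0, 0, 2, -2, 0, 0, 0, 0, 0, 0, 0, 0, 0, 0, 0, 2] : List ℤ)],
   Ins.mark,
   Ins.pop,
   Ins.pop,
   Ins.pop,
   Ins.pop,
   Ins.pop,
   Ins.pop,
   Ins.pop,
   Ins.push 0 [([0, 0, 0, -2, 2, 2, 2, 0, 2, 0, 0, 0, 0, 0, 0, 0, 0, -2, 0, 0, 2, 0, 0, 2] : List ℤ)],
   Ins.push 1 [([0, 2, 2, -2, 0, 0, 0, 0, 0, 0, 2, -2, 0, 0, 0, 0, 2, 0, 0, 0, 0, 2, 0, 2] : List ℤ)],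
   Ins.push 0 [([0, 0, 2, 2, -2, 0, 0, 0, 0, 0, 0, 2, -2, 0, 0, 0, 0, 2, 0, 0, 0, 0, 2, 2] : List ℤ)],
   Ins.push 0 [([2, 0, 0, 2, 2, -2, 0, 0, 0, 0, 0, 0, 2, -2, 0, 0, 0, 0, 2, 0, 0, 0, 0, 2] : List ℤ)],
   Ins.push 1 [([2, 0, 2, 2, 2, 0, 0, 0, 2, -2, 0, 0, 0, 0, 0, 0, 0, 0, 0, 0, 0, -2, 0, 2] : List ℤ)],
   Ins.push 0 [([0, 2, 0, 2, 2, 2, 0, 0, 0, 2, -2, 0, 0, 0, 0, 0, 0, 0, 0, 0, 0, 0, -2, 2] : List ℤ)],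
   Ins.push 0 [([-2, 0, 2, 0, 2, 2, 2, 0, 0, 0, 2, -2, 0, 0, 0, 0, 0, 0, 0, 0, 0, 0, 0, 2] : List ℤ)],
   Ins.mark,
   Ins.pop,
   Ins.pop,
   Ins.pop,
   Ins.pop,
   Ins.pop,
   Ins.push 7 [([0, 2, 2, 2, 0, 0, 0, 0, 0, 0, 2, 2, 0, 0, 0, 0, 2, 0, 0, 0, 0, 2, 0, 2] : List ℤ)],
   Ins.push 1 [([0, 0, 0, 2, 0, 0, 2, 2, 0, 0, 0, 0, 0, 2, 0, 0, 0, 0, 2, 2, 2, 0, 0, 2] : List ℤ)],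
   Ins.push 1 [([0, 2, 0, 2, 2, 2, 0, 0, 0, 2, 2, 0, 0, 0, 0, 0, 0, 0, 0, 0, 0, 0, 2, 2] : List ℤ)],
   Ins.push 0 [([2, 0, 2, 0, 2, 2, 2, 0, 0, 0, 2, 2, 0, 0, 0, 0, 0, 0, 0, 0, 0, 0, 0, 2] : List ℤ)],
   Ins.mark,
   Ins.pop,
   Ins.pop,
   Ins.pop,
   Ins.pop,
   Ins.push 1 [([0, 0, 0, -2, 0, 0, 2, 2, 0, 0, 0, 0, 0, 2, 0, 0, 0, 0, 2, -2, 2, 0, 0, 2] : List ℤ)],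
   Ins.push 1 [([0, 2, 0, -2, 2, 2, 0, 0, 0, 2, 2, 0, 0, 0, 0, 0, 0, 0, 0, 0, 0, 0, -2, 2] : List ℤ)],
   Ins.push 0 [([-2, 0, 2, 0, -2, 2, 2, 0, 0, 0, 2, 2, 0, 0, 0, 0, 0, 0, 0, 0, 0, 0, 0, 2] : List ℤ)],
   Ins.mark,
   Ins.pop,
   Ins.pop,
   Ins.pop,
   Ins.pop,
   Ins.pop,
   Ins.pop,
   Ins.pop,
   Ins.push 0 [([0, 0, 2, 2, 2, 2, 0, -2, 0, 0, 0, 0, 0, 0, 0, 0, -2, 0, 0, 2, 0, 0, 0, 2] : List ℤ)],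
   Ins.push 0 [([0, 0, 0, 2, 2, 2, 2, 0, -2, 0, 0, 0, 0, 0, 0, 0, 0, -2, 0, 0, 2, 0, 0, 2] : List ℤ)],
   Ins.push 1 [([0, 2, 2, 2, 0, 0, 0, 0, 0, 0, 2, -2, 0, 0, 0, 0, -2, 0, 0, 0, 0, 2, 0, 2] : List ℤ)],
   Ins.push 0 [([0, 0, 2, 2, 2, 0, 0, 0, 0, 0, 0, 2, -2, 0, 0, 0, 0, -2, 0, 0, 0, 0, 2, 2] : List ℤ)],
   Ins.push 1 [([0, 0, 2, 2, 0, 0, 2, 0, -2, 0, 0, -2, 0, 0, 2, 0, 0, 0, 0, 2, 0, 0, 0, 2] : List ℤ)],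
   Ins.push 1 [([0, 2, 0, 2, 0, 0, 2, 0, 0, 0, 0, 0, 0, 0, 0, 0, -2, 2, 0, -2, 0, 0, 2, 2] : List ℤ)],
   Ins.push 0 [([2, 0, 2, 0, 2, 0, 0, 2, 0, 0, 0, 0, 0, 0, 0, 0, 0, -2, 2, 0, -2, 0, 0, 2] : List ℤ)],
   Ins.push 1 [([2, 0, 2, 0, 2, 2, 2, 0, 0, 0, -2, -2, 0, 0, 0, 0, 0, 0, 0, 0, 0, 0, 0, 2] : List ℤ)],
   Ins.mark,
   Ins.pop,
   Ins.pop,
   Ins.pop,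
   Ins.pop,
   Ins.push 0 [([2, 0, 0, 2, 2, 2, 0, 0, 0, 0, 0, 0, 2, -2, 0, 0, 0, 0, -2, 0, 0, 0, 0, 2] : List ℤ)],
   Ins.push 1 [([2, 0, 2, 2, -2, 0, 0, 0, 2, -2, 0, 0, 0, 0, 0, 0, 0, 0, 0, 0, 0, 2, 0, 2] : List ℤ)],
   Ins.push 0 [([0, 2, 0, 2, 2, -2, 0, 0, 0, 2, -2, 0, 0, 0, 0, 0, 0, 0, 0, 0, 0, 0, 2, 2] : List ℤ)],
   Ins.push 0 [([2, 0, 2, 0, 2, 2, -2, 0, 0, 0, 2, -2, 0, 0, 0, 0, 0, 0, 0, 0, 0, 0, 0, 2] : List ℤ)],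
   Ins.mark,
   Ins.pop,
   Ins.pop,
   Ins.pop,
   Ins.pop,
   Ins.pop,
   Ins.push 1 [([0, 0, 0, 2, 0, 0, 2, 2, 0, 0, 0, 0, 0, -2, 0, 0, 0, 0, 2, -2, 2, 0, 0, 2] : List ℤ)],
   Ins.push 1 [([0, 2, 0, 2, 2, 2, 0, 0, 0, -2, 2, 0, 0, 0, 0, 0, 0, 0, 0, 0, 0, 0, -2, 2] : List ℤ)],
   Ins.push 0 [([-2, 0, 2, 0, 2, 2, 2, 0, 0, 0, -2, 2, 0, 0, 0, 0, 0, 0, 0, 0, 0, 0, 0, 2] : List ℤ)],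
   Ins.mark,
   Ins.pop,
   Ins.pop,
   Ins.pop,
   Ins.pop,
   Ins.push 0 [([0, 0, 0, 0, 2, 2, 2, 2, 0, -2, 0, 0, 0, 0, 0, 0, 0, 0, -2, 0, 0, 2, 0, 2] : List ℤ)],
   Ins.push 0 [([0, 0, 0, 0, 0, 2, 2, 2, 2, 0, -2, 0, 0, 0, 0, 0, 0, 0, 0, -2, 0, 0, 2, 2] : List ℤ)],
   Ins.push 1 [([0, 2, 0, 0, 0, 2, 0, -2, 0, 0, 0, 0, 0, 0, 2, 0, 2, 0, 0, 0, 0, 2, -2, 2] : List ℤ)],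
   Ins.push 0 [([-2, 0, 2, 0, 0, 0, 2, 0, -2, 0, 0, 0, 0, 0, 0, 2, 0, 2, 0, 0, 0, 0, 2, 2] : List ℤ)],
   Ins.push 0 [([2, -2, 0, 2, 0, 0, 0, 2, 0, -2, 0, 0, 0, 0, 0, 0, 2, 0, 2, 0, 0, 0, 0, 2] : List ℤ)],
   Ins.push 1 [([2, 0, 0, 2, 2, 2, 0, 0, 0, 0, 0, 0, -2, 2, 0, 0, 0, 0, -2, 0, 0, 0, 0, 2] : List ℤ)],
   Ins.push 1 [([2, 0, 2, 2, -2, 0, 0, 0, -2, 2, 0, 0, 0, 0, 0, 0, 0, 0, 0, 0, 0, 2, 0, 2] : List ℤ)],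
   Ins.push 0 [([0, 2, 0, 2, 2, -2, 0, 0, 0, -2, 2, 0, 0, 0, 0, 0, 0, 0, 0, 0, 0, 0, 2, 2] : List ℤ)],
   Ins.push 0 [([2, 0, 2, 0, 2, 2, -2, 0, 0, 0, -2, 2, 0, 0, 0, 0, 0, 0, 0, 0, 0, 0, 0, 2] : List ℤ)],
   Ins.mark,
   Ins.pop,
   Ins.pop,
   Ins.pop,
   Ins.pop,
   Ins.pop,
   Ins.pop,
   Ins.pop,
   Ins.pop,
   Ins.pop,
   Ins.pop,
   Ins.push 1 [([0, 0, 2, 2, 0, -2, 2, 0, 0, 0, 0, 0, 0, -2, 0, 0, 0, 0, 0, 0, 0, 2, 2, 2] : List ℤ)],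
   Ins.push 0 [([2, 0, 0, 2, 2, 0, -2, 2, 0, 0, 0, 0, 0, 0, -2, 0, 0, 0, 0, 0, 0, 0, 2, 2] : List ℤ)],
   Ins.push 0 [([2, 2, 0, 0, 2, 2, 0, -2, 2, 0, 0, 0, 0, 0, 0, -2, 0, 0, 0, 0, 0, 0, 0, 2] : List ℤ)],
   Ins.push 1 [([2, 0, 2, 0, 0, -2, 0, 0, 0, 0, 0, 0, 0, 0, 0, -2, 2, 0, 2, 0, 0, 2, 0, 2] : List ℤ)],
   Ins.push 0 [([0, 2, 0, 2, 0, 0, -2, 0, 0, 0, 0, 0, 0, 0, 0, 0, -2, 2, 0, 2, 0, 0, 2, 2] : List ℤ)],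
   Ins.push 0 [([2, 0, 2, 0, 2, 0, 0, -2, 0, 0, 0, 0, 0, 0, 0, 0, 0, -2, 2, 0, 2, 0, 0, 2] : List ℤ)],
   Ins.push 1 [([2, 0, 2, 0, 2, -2, 2, 0, 0, 0, 2, -2, 0, 0, 0, 0, 0, 0, 0, 0, 0, 0, 0, 2] : List ℤ)],
   Ins.mark,
   Ins.pop,
   Ins.pop,
   Ins.pop,
   Ins.pop,
   Ins.pop,
   Ins.pop,
   Ins.push 1 [([0, 2, 0, 2, 0, 0, 2, 0, 0, -2, 0, 0, 0, 0, 2, 0, 0, 0, 0, 0, 2, -2, 0, 2] : List ℤ)],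
   Ins.push 0 [([0, 0, 2, 0, 2, 0, 0, 2, 0, 0, -2, 0, 0, 0, 0, 2, 0, 0, 0, 0, 0, 2, -2, 2] : List ℤ)],
   Ins.push 0 [([-2, 0, 0, 2, 0, 2, 0, 0, 2, 0, 0, -2, 0, 0, 0, 0, 2, 0, 0, 0, 0, 0, 2, 2] : List ℤ)],
   Ins.push 0 [([2, -2, 0, 0, 2, 0, 2, 0, 0, 2, 0, 0, -2, 0, 0, 0, 0, 2, 0, 0, 0, 0, 0, 2] : List ℤ)],
   Ins.push 0 [([0, 2, -2, 0, 0, 2, 0, 2, 0, 0, 2, 0, 0, -2, 0, 0, 0, 0, 2, 0, 0, 0, 0, 2] : List ℤ)],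
   Ins.push 0 [([0, 0, 2, -2, 0, 0, 2, 0, 2, 0, 0, 2, 0, 0, -2, 0, 0, 0, 0, 2, 0, 0, 0, 2] : List ℤ)],
   Ins.push 1 [([0, 2, 0, -2, 0, 0, 2, 0, 0, 0, 0, 0, 0, 0, 0, 0, 2, -2, 0, 2, 0, 0, 2, 2] : List ℤ)],
   Ins.push 0 [([2, 0, 2, 0, -2, 0, 0, 2, 0, 0, 0, 0, 0, 0, 0, 0, 0, 2, -2, 0, 2, 0, 0, 2] : List ℤ)],
   Ins.push 1 [([2, 0, -2, 0, -2, 2, 2, 0, 0, 0, 2, 2, 0, 0, 0, 0, 0, 0, 0, 0, 0, 0, 0, 2] : List ℤ)],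
   Ins.mark,
   Ins.pop,
   Ins.pop,
   Ins.pop,
   Ins.pop,
   Ins.pop,
   Ins.pop,
   Ins.pop,
   Ins.pop,
   Ins.pop,
   Ins.pop,
   Ins.pop,
   Ins.pop,
   Ins.pop,
   Ins.push 0 [([0, -2, -2, -2, -2, 0, -2, 0, 0, 0, 0, 0, 0, 0, 0, -2, 0, 0, 2, 0, 0, 0, 0, 2] : List ℤ)],
   Ins.push 0 [([0, 0, -2, -2, -2, -2, 0, -2, 0, 0, 0, 0, 0, 0, 0, 0, -2, 0, 0, 2, 0, 0, 0, 2] : List ℤ)],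
   Ins.push 0 [([0, 0, 0, -2, -2, -2, -2, 0, -2, 0, 0, 0, 0, 0, 0, 0, 0, -2, 0, 0, 2, 0, 0, 2] : List ℤ)],
   Ins.push 1 [([0, -2, -2, -2, 0, 0, 0, 0, 0, 0, 2, -2, 0, 0, 0, 0, -2, 0, 0, 0, 0, -2, 0, 2] : List ℤ)],
   Ins.push 1 [([0, 0, 0, -2, 0, 0, -2, 2, 0, 0, 0, 0, 0, -2, 0, 0, 0, 0, -2, -2, -2, 0, 0, 2] : List ℤ)],
   Ins.push 1 [([0, -2, 0, -2, -2, 2, 0, 0, 0, -2, -2, 0, 0, 0, 0, 0, 0, 0, 0, 0, 0, 0, -2, 2] : List ℤ)],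
   Ins.push 0 [([-2, 0, -2, 0, -2, -2, 2, 0, 0, 0, -2, -2, 0, 0, 0, 0, 0, 0, 0, 0, 0, 0, 0, 2] : List ℤ)],
   Ins.mark,
   Ins.pop,
   Ins.pop,
   Ins.pop,
   Ins.push 0 [([0, 0, -2, -2, -2, 0, 0, 0, 0, 0, 0, 2, -2, 0, 0, 0, 0, -2, 0, 0, 0, 0, -2, 2] : List ℤ)],
   Ins.push 1 [([0, 0, -2, -2, 0, 0, -2, 0, -2, 0, 0, -2, 0, 0, -2, 0, 0, 0, 0, 2, 0, 0, 0, 2] : List ℤ)],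
   Ins.push 1 [([0, -2, 0, -2, 0, 0, -2, 0, 0, 0, 0, 0, 0, 0, 0, 0, -2, -2, 0, -2, 0, 0, 2, 2] : List ℤ)],
   Ins.push 0 [([2, 0, -2, 0, -2, 0, 0, -2, 0, 0, 0, 0, 0, 0, 0, 0, 0, -2, -2, 0, -2, 0, 0, 2] : List ℤ)],
   Ins.push 1 [([2, 0, -2, 0, -2, -2, -2, 0, 0, 0, -2, -2, 0, 0, 0, 0, 0, 0, 0, 0, 0, 0, 0, 2] : List ℤ)],
   Ins.mark,
   Ins.pop,
   Ins.pop,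
   Ins.pop,
   Ins.pop,
   Ins.push 0 [([-2, 0, 0, -2, -2, -2, 0, 0, 0, 0, 0, 0, 2, -2, 0, 0, 0, 0, -2, 0, 0, 0, 0, 2] : List ℤ)],
   Ins.push 1 [([-2, 0, -2, -2, -2, 0, 0, 0, 2, -2, 0, 0, 0, 0, 0, 0, 0, 0, 0, 0, 0, -2, 0, 2] : List ℤ)],
   Ins.push 0 [([0, -2, 0, -2, -2, -2, 0, 0, 0, 2, -2, 0, 0, 0, 0, 0, 0, 0, 0, 0, 0, 0, -2, 2] : List ℤ)],
   Ins.push 0 [([-2, 0, -2, 0, -2, -2, -2, 0, 0, 0, 2, -2, 0, 0, 0, 0, 0, 0, 0, 0, 0, 0, 0, 2] : List ℤ)],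
   Ins.mark,
   Ins.pop,
   Ins.pop,
   Ins.pop,
   Ins.pop,
   Ins.pop,
   Ins.pop,
   Ins.pop,
   Ins.pop,
   Ins.push 1 [([0, -2, -2, -2, 2, 0, -2, 0, 0, 0, 0, 0, 0, 0, 0, -2, 0, 0, -2, 0, 0, 0, 0, 2] : List ℤ)],
   Ins.push 1 [([0, -2, 2, -2, -2, 0, -2, 0, 0, 0, 0, 0, 0, 0, 0, -2, 0, 0, -2, 0, 0, 0, 0, 2] : List ℤ)],
   Ins.push 0 [([0, 0, -2, 2, -2, -2, 0, -2, 0, 0, 0, 0, 0, 0, 0, 0, -2, 0, 0, -2, 0, 0, 0, 2] : List ℤ)],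
   Ins.push 0 [([0, 0, 0, -2, 2, -2, -2, 0, -2, 0, 0, 0, 0, 0, 0, 0, 0, -2, 0, 0, -2, 0, 0, 2] : List ℤ)],
   Ins.push 1 [([0, -2, 2, -2, 0, 0, 0, 0, 0, 0, -2, -2, 0, 0, 0, 0, -2, 0, 0, 0, 0, -2, 0, 2] : List ℤ)],
   Ins.push 1 [([0, 0, 0, -2, 0, 0, 2, -2, 0, 0, 0, 0, 0, -2, 0, 0, 0, 0, -2, -2, -2, 0, 0, 2] : List ℤ)],
   Ins.push 1 [([0, 2, 0, -2, -2, -2, 0, 0, 0, -2, -2, 0, 0, 0, 0, 0, 0, 0, 0, 0, 0, 0, -2, 2] : List ℤ)],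
   Ins.push 0 [([-2, 0, 2, 0, -2, -2, -2, 0, 0, 0, -2, -2, 0, 0, 0, 0, 0, 0, 0, 0, 0, 0, 0, 2] : List ℤ)],
   Ins.mark,
   Ins.pop,
   Ins.pop,
   Ins.pop,
   Ins.push 0 [([0, 0, -2, 2, -2, 0, 0, 0, 0, 0, 0, -2, -2, 0, 0, 0, 0, -2, 0, 0, 0, 0, -2, 2] : List ℤ)],
   Ins.push 0 [([-2, 0, 0, -2, 2, -2, 0, 0, 0, 0, 0, 0, -2, -2, 0, 0, 0, 0, -2, 0, 0, 0, 0, 2] : List ℤ)],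
   Ins.push 1 [([-2, 0, 2, -2, -2, 0, 0, 0, -2, -2, 0, 0, 0, 0, 0, 0, 0, 0, 0, 0, 0, -2, 0, 2] : List ℤ)],
   Ins.push 0 [([0, -2, 0, 2, -2, -2, 0, 0, 0, -2, -2, 0, 0, 0, 0, 0, 0, 0, 0, 0, 0, 0, -2, 2] : List ℤ)],
   Ins.push 0 [([-2, 0, -2, 0, 2, -2, -2, 0, 0, 0, -2, -2, 0, 0, 0, 0, 0, 0, 0, 0, 0, 0, 0, 2] : List ℤ)],
   Ins.mark,
   Ins.pop,
   Ins.pop,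
   Ins.pop,
   Ins.pop,
   Ins.pop,
   Ins.pop,
   Ins.pop,
   Ins.pop,
   Ins.pop,
   Ins.push 0 [([0, 0, -2, -2, -2, 2, 0, -2, 0, 0, 0, 0, 0, 0, 0, 0, -2, 0, 0, -2, 0, 0, 0, 2] : List ℤ)],
   Ins.push 0 [([0, 0, 0, -2, -2, -2, 2, 0, -2, 0, 0, 0, 0, 0, 0, 0, 0, -2, 0, 0, -2, 0, 0, 2] : List ℤ)],
   Ins.push 1 [([0, 2, -2, -2, 0, 0, 0, 0, 0, 0, -2, -2, 0, 0, 0, 0, -2, 0, 0, 0, 0, -2, 0, 2] : List ℤ)],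
   Ins.push 1 [([0, 0, 0, -2, 0, 0, -2, -2, 0, 0, 0, 0, 0, -2, 0, 0, 0, 0, 2, -2, -2, 0, 0, 2] : List ℤ)],
   Ins.push 1 [([0, -2, 0, -2, 2, -2, 0, 0, 0, -2, -2, 0, 0, 0, 0, 0, 0, 0, 0, 0, 0, 0, -2, 2] : List ℤ)],
   Ins.push 0 [([-2, 0, -2, 0, -2, 2, -2, 0, 0, 0, -2, -2, 0, 0, 0, 0, 0, 0, 0, 0, 0, 0, 0, 2] : List ℤ)],
   Ins.mark]

set_option maxRecDepth 100000 in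
set_option maxHeartbeats 0 in
theorem crKc_chk : mainChk crKcB crKcconds crKcx0 crKcgens crKcgmids m23mt m23reps m23vis crKcfib crKcprog 16192 = true := by
  decide +kernel

/-- The stabiliser of the base vectors is transitive on the set, which has `16192` elements. -/
theorem crKc_main : (∀ x ∈ XSet crKcconds, ∃ g : Co0, FixB crKcB g ∧ ∃ h0 : vecOf crKcx0 ∈ leechLattice,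
      g • (⟨vecOf crKcx0, h0⟩ : leechLattice) = x) ∧ (XSet crKcconds).ncard = 16192 :=
  orbit_main crKcB crKcconds crKcx0 crKcgens crKcgmids m23mt m23reps m23progs m23vis crKcfib crKcprog 16192
    m23_hreps m23_hrun m23_hbm crKc_chk

end Cfsg.Agent.Lib.Helper92
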