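import Cfsg.Agent.Lib.Helper92.LeechOrbPart

set_option autoImplicit false

open scoped Pointwise

namespace Cfsg.Agent.Lib.Helper92

open Cfsg Cfsg.Spor Cfsg.Agent.Lib.Helper7

/-! ### A check of linear cost for a long list of vectors -/

/-- The number of zeros at the beginning of a list. -/
def firstNZ : List ℤ → ℕ
  | [] => 0
  | a :: l => if intEqB a 0 then firstNZ l + 1 else 0

/-- A key increasing along the list of the candidates with two entries. -/
def keyA (l : List ℤ) : ℕ :=
  (firstNZ l * 24 + (l.length - 1 - firstNZ l.reverse)) * 4 +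
    (if intEqB (l.getD (firstNZ l) 0) 4 then 0 else 2) +
    (if intEqB (l.getD (l.length - 1 - firstNZ l.reverse) 0) 4 then 0 else 1)

/-- The check that a list of numbers increases. -/
def incB : List ℕ → Bool
  | a :: b :: t => Nat.blt a b && incB (b :: t)
  | _ => true

theorem incB_head {α : Type} (key : α → ℕ) : ∀ (l : List α) (a : α),
    incB ((a :: l).map key) = true → (∀ b ∈ l, key a < key b) ∧ incB (l.map key) = true
  | [], a, _ => ⟨fun b hb => absurd hb List.not_mem_nil, rfl⟩
  | b :: t, a, h => by
    simp only [List.map_cons, incB, Bool.and_eq_true] at h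
    obtain ⟨h1, h2⟩ := h
    have h1' : key a < key b := Nat.blt_eq.mp h1
    have h3 : incB ((b :: t).map key) = true := by
      simpa only [List.map_cons] using h2
    refine ⟨fun c hc => ?_, h3⟩
    rcases List.mem_cons.mp hc with rfl | hc
    · exact h1'
    · exact lt_trans h1' ((incB_head key t b h3).1 c hc)

theorem incB_nodup {α : Type} (key : α → ℕ) : ∀ l : List α, incB (l.map key) = true → l.Nodup
  | [], _ => List.nodup_nil
  | a :: l, h => by
    obtain ⟨h1, h2⟩ := incB_head key l a h
    exact List.nodup_cons.mpr ⟨fun hm => lt_irrefl _ (h1 a hm), incB_nodup key l h2⟩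

theorem nodupB_complete : ∀ l : List (List ℤ), l.Nodup → nodupB l = true
  | [], _ => rfl
  | a :: as, h => by
    obtain ⟨h1, h2⟩ := List.nodup_cons.mp h
    simp only [nodupB, Bool.and_eq_true, Bool.not_eq_true', List.any_eq_false]
    refine ⟨fun x hx hax => ?_, nodupB_complete as h2⟩
    rw [(listEqB_iff a x).mp hax] at h1
    exact h1 hx

/-- The check that the entries of a list stand at the given places of another list. -/
def idxChk (marked : List (List ℤ)) : List (List ℤ) → List ℕ → Bool
  | [], [] => true
  | e :: es, k :: ks => listEqB (marked.getD k []) e && idxChk marked es ks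
  | _, _ => false

theorem idxChk_sound (marked : List (List ℤ)) : ∀ (es : List (List ℤ)) (ks : List ℕ),
    idxChk marked es ks = true → ∀ e ∈ es, e ≠ [] → e ∈ marked
  | [], _, _ => fun e he => absurd he List.not_mem_nil
  | e :: es, [], h => by simp [idxChk] at h
  | e :: es, k :: ks, h => by
    simp only [idxChk, Bool.and_eq_true] at h
    obtain ⟨h1, h2⟩ := h
    intro e' he' hne
    rcases List.mem_cons.mp he' with rfl | he'
    · have h3 := (listEqB_iff _ _).mp h1
      by_cases hk : k < marked.length
      · rw [List.getD_eq_getElem _ _ hk] at h3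
        rw [← h3]
        exact List.getElem_mem _
      · rw [List.getD_eq_default _ _ (by omega)] at h3
        exact absurd h3.symm hne
    · exact idxChk_sound marked es ks h2 e' he' hne

/-- The check for the vectors with word of second digits a representative, of linear cost. -/
def fibOK' (conds : List (List ℤ × ℤ)) (marked : List (List ℤ)) (r : ℕ)
    (f : List ℕ × List (List ℤ)) (idxs : List ℕ) : Bool :=
  decide (bitsOf r = f.1) && chkFib conds (cands r f.1) f.2 &&
    f.2.all (fun e => Nat.beq e.length 24 && Nat.beq (bitMaskL e) r) &&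
    idxChk marked f.2 idxs && incB (f.2.map keyA)

theorem fibOK'_sound {conds : List (List ℤ × ℤ)} {marked : List (List ℤ)} {r : ℕ}
    {f : List ℕ × List (List ℤ)} {idxs : List ℕ} (h : fibOK' conds marked r f idxs = true) :
    fibOK conds marked r f = true := by
  unfold fibOK' at h
  simp only [Bool.and_eq_true] at h
  obtain ⟨⟨⟨⟨h1, h2⟩, h3⟩, h4⟩, h5⟩ := h
  unfold fibOK
  simp only [Bool.and_eq_true]
  refine ⟨⟨⟨h1, h2⟩, ?_⟩, nodupB_complete _ (incB_nodup keyA _ h5)⟩
  rw [List.all_eq_true]
  intro e he
  have h6 := List.all_eq_true.mp h3 e he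
  rw [Bool.and_eq_true] at h6
  rw [Bool.and_eq_true, Bool.and_eq_true]
  refine ⟨⟨h6.1, h6.2⟩, ?_⟩
  have hne : e ≠ [] := by
    intro h0
    rw [h0] at h6
    simp at h6
  exact List.any_eq_true.mpr ⟨e, idxChk_sound marked f.2 idxs h4 e he hne, (listEqB_iff e e).mpr rfl⟩

/-- Cut a list into pieces of length `n`. -/
def chunkL {α : Type} (n : ℕ) : ℕ → List α → List (List α)
  | 0, _ => []
  | fuel + 1, l => if l.isEmpty then [] else l.take n :: chunkL n fuel (l.drop n)

theorem mem_of_chunkL {α : Type} (n : ℕ) : ∀ (fuel : ℕ) (l : List α), ∀ c ∈ chunkL n fuel l,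
    ∀ a ∈ c, a ∈ l
  | 0, _, c, hc, _, _ => absurd hc List.not_mem_nil
  | fuel + 1, l, c, hc, a, ha => by
    unfold chunkL at hc
    by_cases hl : l.isEmpty = true
    · rw [if_pos hl] at hc
      exact absurd hc List.not_mem_nil
    · rw [if_neg hl] at hc
      rcases List.mem_cons.mp hc with rfl | hc
      · exact List.mem_of_mem_take ha
      · exact List.mem_of_mem_drop (mem_of_chunkL n fuel (l.drop n) c hc a ha)

/-- The check that the entries of a list stand at the given places of a list cut into pieces
of length `32`. -/
def idxChk2 (ch : List (List (List ℤ))) : List (List ℤ) → List ℕ → Bool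
  | [], [] => true
  | e :: es, k :: ks => listEqB ((ch.getD (k / 32) []).getD (k % 32) []) e && idxChk2 ch es ks
  | _, _ => false

theorem idxChk2_sound (ch : List (List (List ℤ))) : ∀ (es : List (List ℤ)) (ks : List ℕ),
    idxChk2 ch es ks = true → ∀ e ∈ es, e ≠ [] → ∃ c ∈ ch, e ∈ c
  | [], _, _ => fun e he => absurd he List.not_mem_nil
  | e :: es, [], h => by simp [idxChk2] at h
  | e :: es, k :: ks, h => by
    simp only [idxChk2, Bool.and_eq_true] at h
    obtain ⟨h1, h2⟩ := h
    intro e' he' hne
    rcases List.mem_cons.mp he' with rfl | he'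
    · have h3 := (listEqB_iff _ _).mp h1
      by_cases hk : k / 32 < ch.length
      · rw [List.getD_eq_getElem _ _ hk] at h3
        refine ⟨ch[k / 32], List.getElem_mem _, ?_⟩
        by_cases hk2 : k % 32 < (ch[k / 32]).length
        · rw [List.getD_eq_getElem _ _ hk2] at h3
          rw [← h3]
          exact List.getElem_mem _
        · rw [List.getD_eq_default _ _ (by omega)] at h3
          exact absurd h3.symm hne
      · have h4 : ch.getD (k / 32) [] = [] := List.getD_eq_default _ _ (by omega)
        rw [h4] at h3
        have h5 : ([] : List (List ℤ)).getD (k % 32) [] = [] := rfl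
        rw [h5] at h3
        exact absurd h3.symm hne
    · exact idxChk2_sound ch es ks h2 e' he' hne

/-- The first part of the check: the base vectors, the generators, the coordinate
permutations. -/
def partChkA (B : List (List ℤ)) (conds : List (List ℤ × ℤ)) (x0 : List ℤ)
    (gens : List (List Prim)) (gmids : List (List (List (List ℤ)))) (mt : List (ℕ × List ℕ)) :
    Bool :=
  B.all (fun b => leechB b && Nat.beq b.length 24) &&
  conds.all (fun p => B.any (listEqB p.1)) &&
  leechB x0 && Nat.beq x0.length 24 && intEqB (dotL x0 x0) 32 && condL conds x0 &&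
  Nat.beq gmids.length gens.length && (gens.zip gmids).all (fun gm => genOK B gm.1 gm.2) &&
  mt.all (fun tw => Nat.beq (invT (evalT [tA, tB, tC] tw.2)) tw.1 &&
    B.all (fun b => listEqB (permL tw.1 b) b))

/-- The part of the check running the machine. -/
def partChkD (gens : List (List Prim)) (prog : List Ins) (x0 : List ℤ)
    (f : List ℕ × List (List ℤ)) (idxs : List ℕ) : Bool :=
  match runV gens prog [x0] [] with
  | some marked => idxChk2 (chunkL 32 marked.length marked) f.2 idxs
  | none => false

theorem partChk_of_parts {B : List (List ℤ)} {conds : List (List ℤ × ℤ)} {x0 : List ℤ}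
    {gens : List (List Prim)} {gmids : List (List (List (List ℤ)))} {mt : List (ℕ × List ℕ)}
    {rep : ℕ} {f : List ℕ × List (List ℤ)} {prog : List Ins} {idxs : List ℕ}
    (hA : partChkA B conds x0 gens gmids mt = true)
    (h1 : decide (bitsOf rep = f.1) = true)
    (h2 : chkFib conds (cands rep f.1) f.2 = true)
    (h3 : f.2.all (fun e => Nat.beq e.length 24 && Nat.beq (bitMaskL e) rep) = true)
    (h5 : incB (f.2.map keyA) = true)
    (hD : partChkD gens prog x0 f idxs = true) :
    partChk B conds x0 gens gmids mt rep f prog = true := by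
  unfold partChk
  unfold partChkA at hA
  rw [Bool.and_eq_true]
  refine ⟨hA, ?_⟩
  unfold partChkD at hD
  cases hrv : runV gens prog [x0] [] with
  | none =>
    rw [hrv] at hD
    simp at hD
  | some marked =>
    rw [hrv] at hD
    simp only at hD
    unfold fibOK
    simp only [Bool.and_eq_true]
    refine ⟨⟨⟨h1, h2⟩, ?_⟩, nodupB_complete _ (incB_nodup keyA _ h5)⟩
    rw [List.all_eq_true]
    intro e he
    have h6 := List.all_eq_true.mp h3 e he
    rw [Bool.and_eq_true] at h6
    rw [Bool.and_eq_true, Bool.and_eq_true]
    refine ⟨⟨h6.1, h6.2⟩, ?_⟩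
    have hne : e ≠ [] := by
      intro h0
      rw [h0] at h6
      simp at h6
    obtain ⟨c, hc, hec⟩ := idxChk2_sound _ f.2 idxs hD e he hne
    exact List.any_eq_true.mpr ⟨e, mem_of_chunkL 32 _ marked c hc e hec, (listEqB_iff e e).mpr rfl⟩

/-- The check for one orbit of code words, of linear cost. -/
def partChk' (B : List (List ℤ)) (conds : List (List ℤ × ℤ)) (x0 : List ℤ)
    (gens : List (List Prim)) (gmids : List (List (List (List ℤ)))) (mt : List (ℕ × List ℕ))
    (rep : ℕ) (f : List ℕ × List (List ℤ)) (prog : List Ins) (idxs : List ℕ) : Bool :=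
  B.all (fun b => leechB b && Nat.beq b.length 24) &&
  conds.all (fun p => B.any (listEqB p.1)) &&
  leechB x0 && Nat.beq x0.length 24 && intEqB (dotL x0 x0) 32 && condL conds x0 &&
  Nat.beq gmids.length gens.length && (gens.zip gmids).all (fun gm => genOK B gm.1 gm.2) &&
  mt.all (fun tw => Nat.beq (invT (evalT [tA, tB, tC] tw.2)) tw.1 &&
    B.all (fun b => listEqB (permL tw.1 b) b)) &&
  (match runV gens prog [x0] [] with
   | some marked => fibOK' conds marked rep f idxs
   | none => false)

theorem partChk'_sound {B : List (List ℤ)} {conds : List (List ℤ × ℤ)} {x0 : List ℤ}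
    {gens : List (List Prim)} {gmids : List (List (List (List ℤ)))} {mt : List (ℕ × List ℕ)}
    {rep : ℕ} {f : List ℕ × List (List ℤ)} {prog : List Ins} {idxs : List ℕ}
    (h : partChk' B conds x0 gens gmids mt rep f prog idxs = true) :
    partChk B conds x0 gens gmids mt rep f prog = true := by
  unfold partChk' at h
  unfold partChk
  rw [Bool.and_eq_true] at h ⊢
  refine ⟨h.1, ?_⟩
  have h2 := h.2
  cases hrv : runV gens prog [x0] [] with
  | none =>
    rw [hrv] at h2
    simp at h2
  | some marked =>
    rw [hrv] at h2
    exact fibOK'_sound h2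

end Cfsg.Agent.Lib.Helper92
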