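import Cfsg.Agent.Lib.Helper92.LeechOrbMain

set_option autoImplicit false

open scoped Pointwise

namespace Cfsg.Agent.Lib.Helper92

open Cfsg Cfsg.Spor Cfsg.Agent.Lib.Helper7

/-! ### Orbits on the vectors whose words of second digits lie in one orbit of code words -/

/-- The code words visited from the representative with index `r`. -/
def maskList (vis : List (ℕ × ℕ)) (r : ℕ) : List ℕ :=
  (vis.filter (fun p => Nat.beq p.2 r)).map Prod.fst

/-- The check for one orbit of code words. -/
def partChk (B : List (List ℤ)) (conds : List (List ℤ × ℤ)) (x0 : List ℤ)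
    (gens : List (List Prim)) (gmids : List (List (List (List ℤ)))) (mt : List (ℕ × List ℕ))
    (rep : ℕ) (f : List ℕ × List (List ℤ)) (prog : List Ins) : Bool :=
  B.all (fun b => leechB b && Nat.beq b.length 24) &&
  conds.all (fun p => B.any (listEqB p.1)) &&
  leechB x0 && Nat.beq x0.length 24 && intEqB (dotL x0 x0) 32 && condL conds x0 &&
  Nat.beq gmids.length gens.length && (gens.zip gmids).all (fun gm => genOK B gm.1 gm.2) &&
  mt.all (fun tw => Nat.beq (invT (evalT [tA, tB, tC] tw.2)) tw.1 &&
    B.all (fun b => listEqB (permL tw.1 b) b)) &&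
  (match runV gens prog [x0] [] with
   | some marked => fibOK conds marked rep f
   | none => false)

/-- The check implies that the stabiliser of the base vectors is transitive on the vectors of
the set whose words of second digits lie in one orbit, and gives their number. -/
theorem orbit_part (B : List (List ℤ)) (conds : List (List ℤ × ℤ)) (x0 : List ℤ)
    (gens : List (List Prim)) (gmids : List (List (List (List ℤ)))) (mt : List (ℕ × List ℕ))
    (reps : List ℕ) (progs : List (List (Option (ℕ × ℕ)))) (vis : List (ℕ × ℕ))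
    (r : ℕ) (f : List ℕ × List (List ℤ)) (prog : List Ins)
    (hreps : reps.all (fun r => isCode r && decide (r < 2 ^ 24)) = true)
    (hrun : runAll (mt.map Prod.fst) reps 0 progs [] = some vis)
    (hbm : bmAdd (vis.map (fun p => p.1 >>> 12)) 0 = some (2 ^ 4096 - 1))
    (hchk : partChk B conds x0 gens gmids mt (reps.getD r 0) f prog = true) :
    (∀ x ∈ FibU conds (maskList vis r), ∃ g : Co0, FixB B g ∧ ∃ h0 : vecOf x0 ∈ leechLattice,
      g • (⟨vecOf x0, h0⟩ : leechLattice) = x) ∧
      (FibU conds (maskList vis r)).ncard = (maskList vis r).length * f.2.length := by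
  unfold partChk at hchk
  simp only [Bool.and_eq_true] at hchk
  obtain ⟨⟨⟨⟨⟨⟨⟨⟨⟨c1, c2⟩, c3⟩, c4⟩, c5⟩, c6⟩, c7⟩, c8⟩, c9⟩, c11⟩ := hchk
  have hB : ∀ b ∈ B, vecOf b ∈ leechLattice ∧ b.length = 24 := by
    intro b hb
    have := List.all_eq_true.mp c1 b hb
    rw [Bool.and_eq_true] at this
    exact ⟨leechB_sound this.1, Nat.eq_of_beq_eq_true this.2⟩
  have hcB : ∀ p ∈ conds, p.1 ∈ B := by
    intro p hp
    have := List.all_eq_true.mp c2 p hp
    obtain ⟨b, hb, hbe⟩ := List.any_eq_true.mp this
    rw [(listEqB_iff _ _).mp hbe]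
    exact hb
  have hcl : ∀ p ∈ conds, p.1.length = 24 := fun p hp => (hB p.1 (hcB p hp)).2
  have hBL : ∀ b ∈ B, vecOf b ∈ leechLattice := fun b hb => (hB b hb).1
  have hx0L : vecOf x0 ∈ leechLattice := leechB_sound c3
  have hx0len : x0.length = 24 := Nat.eq_of_beq_eq_true c4
  have hx0X : (⟨vecOf x0, hx0L⟩ : leechLattice) ∈ XSet conds := by
    refine ⟨?_, (condL_vecOf hcl hx0len).mp c6⟩
    show sqNorm (vecOf x0) = 32
    rw [← dotInt_self, dotL_vecOf hx0len hx0len]
    exact (intEqB_iff _ _).mp c5
  have hgens : ∀ g ∈ gens, GoodFix B (opsApp (g.map Prim.fn)) := by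
    intro g hg
    obtain ⟨i, hi, rfl⟩ := List.mem_iff_getElem.mp hg
    have hlen : gmids.length = gens.length := Nat.eq_of_beq_eq_true c7
    have hmem : (gens[i], gmids[i]'(by omega)) ∈ gens.zip gmids := by
      have : (gens.zip gmids)[i]'(by rw [List.length_zip]; omega) =
          (gens[i], gmids[i]'(by omega)) := List.getElem_zip
      rw [← this]
      exact List.getElem_mem _
    exact genOK_sound (List.all_eq_true.mp c8 _ hmem)
  have hmt : ∀ t ∈ mt.map Prod.fst, MFix B t := by
    intro t ht
    obtain ⟨tw, htw, rfl⟩ := List.mem_map.mp ht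
    have := List.all_eq_true.mp c9 tw htw
    rw [Bool.and_eq_true] at this
    exact mfix_of_word tw.2 (Nat.eq_of_beq_eq_true this.1)
      (fun b hb => (listEqB_iff _ _).mp (List.all_eq_true.mp this.2 b hb))
  have hrepsP : ∀ rep ∈ reps, isCode rep = true ∧ rep < 2 ^ 24 := by
    intro rep hrep
    have := List.all_eq_true.mp hreps rep hrep
    rw [Bool.and_eq_true, decide_eq_true_eq] at this
    exact this
  have hvis := runAll_sound hmt reps (fun rep hrep => (hrepsP rep hrep).2) progs 0 [] vis hrun
    (fun p hp => absurd hp List.not_mem_nil)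
  obtain ⟨hnd, -⟩ := bmAdd_full hbm
  cases hrv : runV gens prog [x0] [] with
  | none =>
    rw [hrv] at c11
    simp at c11
  | some marked =>
    rw [hrv] at c11
    simp only at c11
    have hmarked : ∀ v ∈ marked, VRel B (vecOf x0) (vecOf v) :=
      runV_sound hgens (vecOf x0) prog [x0] [] marked hrv
        (fun v hv => by
          rw [List.mem_singleton] at hv
          rw [hv]
          exact VRel.refl B hx0L)
        (fun v hv => absurd hv List.not_mem_nil)
    -- facts for each visited mask of the orbit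
    have hp : ∀ p ∈ vis, p.2 = r → (Fib conds p.1).ncard = f.2.length ∧
        (∀ x ∈ Fib conds p.1, ∃ g : Co0, FixB B g ∧ ∃ h0 : vecOf x0 ∈ leechLattice,
          g • (⟨vecOf x0, h0⟩ : leechLattice) = x) ∧ p.1 < 2 ^ 24 := by
      intro p hpv hpr
      obtain ⟨hrel, hlt⟩ := hvis p hpv
      rw [hpr] at hrel hlt
      have hget : reps.getD r 0 = reps[r] := List.getD_eq_getElem _ _ hlt
      have hrp := hrepsP reps[r] (List.getElem_mem hlt)
      rw [hget] at hrel c11
      obtain ⟨hcard, htrans⟩ := fib_rep hBL hcB hcl hx0L hx0X hmarked hrp.2 c11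
      obtain ⟨g, hg, hfe⟩ := fib_transfer (conds := conds) hBL hcB hrel
      obtain ⟨-, -, hcw, hplt, -⟩ := hrel
      refine ⟨?_, ?_, hplt⟩
      · rw [hfe, Set.ncard_image_of_injective _ (MulAction.injective g), hcard]
      · intro y hy
        rw [hfe] at hy
        obtain ⟨x, hx, rfl⟩ := hy
        obtain ⟨g0, hg0, hx0', he⟩ := htrans x hx
        refine ⟨g * g0, fun b hb h => ?_, hx0L, ?_⟩
        · rw [mul_smul, hg0 b hb h, hg b hb h]
        · rw [mul_smul]
          congr 1
          exact Subtype.ext he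
    have hmem : ∀ m ∈ maskList vis r, ∃ p ∈ vis, p.2 = r ∧ p.1 = m := by
      intro m hm
      obtain ⟨p, hpf, rfl⟩ := List.mem_map.mp hm
      obtain ⟨hpv, hpr⟩ := List.mem_filter.mp hpf
      exact ⟨p, hpv, Nat.eq_of_beq_eq_true hpr, rfl⟩
    have hndm : (maskList vis r).Nodup := by
      have h1 : (vis.map Prod.fst).Nodup := by
        have : vis.map (fun p => p.1 >>> 12) = (vis.map Prod.fst).map (fun m => m >>> 12) := by
          rw [List.map_map]
          rfl
        rw [this] at hnd
        exact List.Nodup.of_map _ hnd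
      exact h1.sublist (List.Sublist.map _ List.filter_sublist)
    constructor
    · rintro x ⟨hx1, m, hm, hx2⟩
      obtain ⟨p, hpv, hpr, rfl⟩ := hmem m hm
      exact (hp p hpv hpr).2.1 x ⟨hx1, hx2⟩
    · rw [ncard_fibU conds _ hndm (fun m hm => by
        obtain ⟨p, hpv, hpr, rfl⟩ := hmem m hm
        exact (hp p hpv hpr).2.2)]
      have hc : ∀ m ∈ maskList vis r, (Fib conds m).ncard = f.2.length := by
        intro m hm
        obtain ⟨p, hpv, hpr, rfl⟩ := hmem m hm
        exact (hp p hpv hpr).1
      rw [List.map_congr_left hc, List.map_const', List.sum_replicate, smul_eq_mul]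

end Cfsg.Agent.Lib.Helper92
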