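import Cfsg.Agent.Lib.Helper92.LeechMaskM23
import Cfsg.Agent.Lib.Helper92.LeechOrbPart

set_option autoImplicit false

namespace Cfsg.Agent.Lib.Helper92

open Cfsg Cfsg.Spor Cfsg.Agent.Lib.Helper7

/-- The base vectors. -/
def crKfB : List (List ℤ) :=
  [([0, 0, 0, 0, 0, 0, 0, 0, 0, 0, 0, 0, 0, 0, 0, 0, 0, 0, 0, 0, 0, 0, 0, 8] : List ℤ)]

/-- The conditions. -/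
def crKfconds : List (List ℤ × ℤ) :=
  [(([0, 0, 0, 0, 0, 0, 0, 0, 0, 0, 0, 0, 0, 0, 0, 0, 0, 0, 0, 0, 0, 0, 0, 8] : List ℤ), 0)]

/-- The base point. -/
def crKfx0 : List ℤ := ([-2, -2, -2, -2, -2, 0, 0, -2, 0, 0, -2, 0, -2, 0, 0, 0, 0, 0, 0, 0, 0, 0, 0, 0] : List ℤ)

/-- The generators. -/
def crKfgens : List (List Prim) :=
  [[Prim.P 983478296959358443554250846857397270 [0]],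
   [Prim.P 980275914351787324191492553553580224 [2]],
   [Prim.S 5279 1],
   [Prim.S 10558 2],
   [Prim.S 18147 4],
   [Prim.S 36294 8],
   [Prim.S 69395 16],
   [Prim.S 133817 32],
   [Prim.S 262637 64],
   [Prim.S 525274 128],
   [Prim.S 1050548 256],
   [Prim.S 2101096 512],
   [Prim.S 4196943 1024]]

set_option maxRecDepth 100000 in
set_option maxHeartbeats 0 in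
/-- The intermediate images of the base vectors under the generators. -/
def crKfgmids : List (List (List (List ℤ))) :=
  [[[([0, 0, 0, 0, 0, 0, 0, 0, 0, 0, 0, 0, 0, 0, 0, 0, 0, 0, 0, 0, 0, 0, 0, 8] : List ℤ)]],
   [[([0, 0, 0, 0, 0, 0, 0, 0, 0, 0, 0, 0, 0, 0, 0, 0, 0, 0, 0, 0, 0, 0, 0, 8] : List ℤ)]],
   [[([0, 0, 0, 0, 0, 0, 0, 0, 0, 0, 0, 0, 0, 0, 0, 0, 0, 0, 0, 0, 0, 0, 0, 8] : List ℤ)]],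
   [[([0, 0, 0, 0, 0, 0, 0, 0, 0, 0, 0, 0, 0, 0, 0, 0, 0, 0, 0, 0, 0, 0, 0, 8] : List ℤ)]],
   [[([0, 0, 0, 0, 0, 0, 0, 0, 0, 0, 0, 0, 0, 0, 0, 0, 0, 0, 0, 0, 0, 0, 0, 8] : List ℤ)]],
   [[([0, 0, 0, 0, 0, 0, 0, 0, 0, 0, 0, 0, 0, 0, 0, 0, 0, 0, 0, 0, 0, 0, 0, 8] : List ℤ)]],
   [[([0, 0, 0, 0, 0, 0, 0, 0, 0, 0, 0, 0, 0, 0, 0, 0, 0, 0, 0, 0, 0, 0, 0, 8] : List ℤ)]],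
   [[([0, 0, 0, 0, 0, 0, 0, 0, 0, 0, 0, 0, 0, 0, 0, 0, 0, 0, 0, 0, 0, 0, 0, 8] : List ℤ)]],
   [[([0, 0, 0, 0, 0, 0, 0, 0, 0, 0, 0, 0, 0, 0, 0, 0, 0, 0, 0, 0, 0, 0, 0, 8] : List ℤ)]],
   [[([0, 0, 0, 0, 0, 0, 0, 0, 0, 0, 0, 0, 0, 0, 0, 0, 0, 0, 0, 0, 0, 0, 0, 8] : List ℤ)]],
   [[([0, 0, 0, 0, 0, 0, 0, 0, 0, 0, 0, 0, 0, 0, 0, 0, 0, 0, 0, 0, 0, 0, 0, 8] : List ℤ)]],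
   [[([0, 0, 0, 0, 0, 0, 0, 0, 0, 0, 0, 0, 0, 0, 0, 0, 0, 0, 0, 0, 0, 0, 0, 8] : List ℤ)]],
   [[([0, 0, 0, 0, 0, 0, 0, 0, 0, 0, 0, 0, 0, 0, 0, 0, 0, 0, 0, 0, 0, 0, 0, 8] : List ℤ)]]]

set_option maxRecDepth 100000 in
set_option maxHeartbeats 0 in
/-- The minimal vectors of the set with the representative word of second digits. -/
def crKff : List ℕ × List (List ℤ) :=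
  ([0, 1, 2, 3, 4, 7, 10, 12], [([2, 2, 2, 2, 2, 0, 0, 2, 0, 0, 2, 0, 2, 0, 0, 0, 0, 0, 0, 0, 0, 0, 0, 0] : List ℤ),
     ([-2, -2, 2, 2, 2, 0, 0, 2, 0, 0, 2, 0, 2, 0, 0, 0, 0, 0, 0, 0, 0, 0, 0, 0] : List ℤ),
     ([-2, 2, -2, 2, 2, 0, 0, 2, 0, 0, 2, 0, 2, 0, 0, 0, 0, 0, 0, 0, 0, 0, 0, 0] : List ℤ),
     ([2, -2, -2, 2, 2, 0, 0, 2, 0, 0, 2, 0, 2, 0, 0, 0, 0, 0, 0, 0, 0, 0, 0, 0] : List ℤ),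
     ([-2, 2, 2, -2, 2, 0, 0, 2, 0, 0, 2, 0, 2, 0, 0, 0, 0, 0, 0, 0, 0, 0, 0, 0] : List ℤ),
     ([2, -2, 2, -2, 2, 0, 0, 2, 0, 0, 2, 0, 2, 0, 0, 0, 0, 0, 0, 0, 0, 0, 0, 0] : List ℤ),
     ([2, 2, -2, -2, 2, 0, 0, 2, 0, 0, 2, 0, 2, 0, 0, 0, 0, 0, 0, 0, 0, 0, 0, 0] : List ℤ),
     ([-2, -2, -2, -2, 2, 0, 0, 2, 0, 0, 2, 0, 2, 0, 0, 0, 0, 0, 0, 0, 0, 0, 0, 0] : List ℤ),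
     ([-2, 2, 2, 2, -2, 0, 0, 2, 0, 0, 2, 0, 2, 0, 0, 0, 0, 0, 0, 0, 0, 0, 0, 0] : List ℤ),
     ([2, -2, 2, 2, -2, 0, 0, 2, 0, 0, 2, 0, 2, 0, 0, 0, 0, 0, 0, 0, 0, 0, 0, 0] : List ℤ),
     ([2, 2, -2, 2, -2, 0, 0, 2, 0, 0, 2, 0, 2, 0, 0, 0, 0, 0, 0, 0, 0, 0, 0, 0] : List ℤ),
     ([-2, -2, -2, 2, -2, 0, 0, 2, 0, 0, 2, 0, 2, 0, 0, 0, 0, 0, 0, 0, 0, 0, 0, 0] : List ℤ),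
     ([2, 2, 2, -2, -2, 0, 0, 2, 0, 0, 2, 0, 2, 0, 0, 0, 0, 0, 0, 0, 0, 0, 0, 0] : List ℤ),
     ([-2, -2, 2, -2, -2, 0, 0, 2, 0, 0, 2, 0, 2, 0, 0, 0, 0, 0, 0, 0, 0, 0, 0, 0] : List ℤ),
     ([-2, 2, -2, -2, -2, 0, 0, 2, 0, 0, 2, 0, 2, 0, 0, 0, 0, 0, 0, 0, 0, 0, 0, 0] : List ℤ),
     ([2, -2, -2, -2, -2, 0, 0, 2, 0, 0, 2, 0, 2, 0, 0, 0, 0, 0, 0, 0, 0, 0, 0, 0] : List ℤ),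
     ([-2, 2, 2, 2, 2, 0, 0, -2, 0, 0, 2, 0, 2, 0, 0, 0, 0, 0, 0, 0, 0, 0, 0, 0] : List ℤ),
     ([2, -2, 2, 2, 2, 0, 0, -2, 0, 0, 2, 0, 2, 0, 0, 0, 0, 0, 0, 0, 0, 0, 0, 0] : List ℤ),
     ([2, 2, -2, 2, 2, 0, 0, -2, 0, 0, 2, 0, 2, 0, 0, 0, 0, 0, 0, 0, 0, 0, 0, 0] : List ℤ),
     ([-2, -2, -2, 2, 2, 0, 0, -2, 0, 0, 2, 0, 2, 0, 0, 0, 0, 0, 0, 0, 0, 0, 0, 0] : List ℤ),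
     ([2, 2, 2, -2, 2, 0, 0, -2, 0, 0, 2, 0, 2, 0, 0, 0, 0, 0, 0, 0, 0, 0, 0, 0] : List ℤ),
     ([-2, -2, 2, -2, 2, 0, 0, -2, 0, 0, 2, 0, 2, 0, 0, 0, 0, 0, 0, 0, 0, 0, 0, 0] : List ℤ),
     ([-2, 2, -2, -2, 2, 0, 0, -2, 0, 0, 2, 0, 2, 0, 0, 0, 0, 0, 0, 0, 0, 0, 0, 0] : List ℤ),
     ([2, -2, -2, -2, 2, 0, 0, -2, 0, 0, 2, 0, 2, 0, 0, 0, 0, 0, 0, 0, 0, 0, 0, 0] : List ℤ),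
     ([2, 2, 2, 2, -2, 0, 0, -2, 0, 0, 2, 0, 2, 0, 0, 0, 0, 0, 0, 0, 0, 0, 0, 0] : List ℤ),
     ([-2, -2, 2, 2, -2, 0, 0, -2, 0, 0, 2, 0, 2, 0, 0, 0, 0, 0, 0, 0, 0, 0, 0, 0] : List ℤ),
     ([-2, 2, -2, 2, -2, 0, 0, -2, 0, 0, 2, 0, 2, 0, 0, 0, 0, 0, 0, 0, 0, 0, 0, 0] : List ℤ),
     ([2, -2, -2, 2, -2, 0, 0, -2, 0, 0, 2, 0, 2, 0, 0, 0, 0, 0, 0, 0, 0, 0, 0, 0] : List ℤ),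
     ([-2, 2, 2, -2, -2, 0, 0, -2, 0, 0, 2, 0, 2, 0, 0, 0, 0, 0, 0, 0, 0, 0, 0, 0] : List ℤ),
     ([2, -2, 2, -2, -2, 0, 0, -2, 0, 0, 2, 0, 2, 0, 0, 0, 0, 0, 0, 0, 0, 0, 0, 0] : List ℤ),
     ([2, 2, -2, -2, -2, 0, 0, -2, 0, 0, 2, 0, 2, 0, 0, 0, 0, 0, 0, 0, 0, 0, 0, 0] : List ℤ),
     ([-2, -2, -2, -2, -2, 0, 0, -2, 0, 0, 2, 0, 2, 0, 0, 0, 0, 0, 0, 0, 0, 0, 0, 0] : List ℤ),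
     ([-2, 2, 2, 2, 2, 0, 0, 2, 0, 0, -2, 0, 2, 0, 0, 0, 0, 0, 0, 0, 0, 0, 0, 0] : List ℤ),
     ([2, -2, 2, 2, 2, 0, 0, 2, 0, 0, -2, 0, 2, 0, 0, 0, 0, 0, 0, 0, 0, 0, 0, 0] : List ℤ),
     ([2, 2, -2, 2, 2, 0, 0, 2, 0, 0, -2, 0, 2, 0, 0, 0, 0, 0, 0, 0, 0, 0, 0, 0] : List ℤ),
     ([-2, -2, -2, 2, 2, 0, 0, 2, 0, 0, -2, 0, 2, 0, 0, 0, 0, 0, 0, 0, 0, 0, 0, 0] : List ℤ),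
     ([2, 2, 2, -2, 2, 0, 0, 2, 0, 0, -2, 0, 2, 0, 0, 0, 0, 0, 0, 0, 0, 0, 0, 0] : List ℤ),
     ([-2, -2, 2, -2, 2, 0, 0, 2, 0, 0, -2, 0, 2, 0, 0, 0, 0, 0, 0, 0, 0, 0, 0, 0] : List ℤ),
     ([-2, 2, -2, -2, 2, 0, 0, 2, 0, 0, -2, 0, 2, 0, 0, 0, 0, 0, 0, 0, 0, 0, 0, 0] : List ℤ),
     ([2, -2, -2, -2, 2, 0, 0, 2, 0, 0, -2, 0, 2, 0, 0, 0, 0, 0, 0, 0, 0, 0, 0, 0] : List ℤ),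
     ([2, 2, 2, 2, -2, 0, 0, 2, 0, 0, -2, 0, 2, 0, 0, 0, 0, 0, 0, 0, 0, 0, 0, 0] : List ℤ),
     ([-2, -2, 2, 2, -2, 0, 0, 2, 0, 0, -2, 0, 2, 0, 0, 0, 0, 0, 0, 0, 0, 0, 0, 0] : List ℤ),
     ([-2, 2, -2, 2, -2, 0, 0, 2, 0, 0, -2, 0, 2, 0, 0, 0, 0, 0, 0, 0, 0, 0, 0, 0] : List ℤ),
     ([2, -2, -2, 2, -2, 0, 0, 2, 0, 0, -2, 0, 2, 0, 0, 0, 0, 0, 0, 0, 0, 0, 0, 0] : List ℤ),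
     ([-2, 2, 2, -2, -2, 0, 0, 2, 0, 0, -2, 0, 2, 0, 0, 0, 0, 0, 0, 0, 0, 0, 0, 0] : List ℤ),
     ([2, -2, 2, -2, -2, 0, 0, 2, 0, 0, -2, 0, 2, 0, 0, 0, 0, 0, 0, 0, 0, 0, 0, 0] : List ℤ),
     ([2, 2, -2, -2, -2, 0, 0, 2, 0, 0, -2, 0, 2, 0, 0, 0, 0, 0, 0, 0, 0, 0, 0, 0] : List ℤ),
     ([-2, -2, -2, -2, -2, 0, 0, 2, 0, 0, -2, 0, 2, 0, 0, 0, 0, 0, 0, 0, 0, 0, 0, 0] : List ℤ),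
     ([2, 2, 2, 2, 2, 0, 0, -2, 0, 0, -2, 0, 2, 0, 0, 0, 0, 0, 0, 0, 0, 0, 0, 0] : List ℤ),
     ([-2, -2, 2, 2, 2, 0, 0, -2, 0, 0, -2, 0, 2, 0, 0, 0, 0, 0, 0, 0, 0, 0, 0, 0] : List ℤ),
     ([-2, 2, -2, 2, 2, 0, 0, -2, 0, 0, -2, 0, 2, 0, 0, 0, 0, 0, 0, 0, 0, 0, 0, 0] : List ℤ),
     ([2, -2, -2, 2, 2, 0, 0, -2, 0, 0, -2, 0, 2, 0, 0, 0, 0, 0, 0, 0, 0, 0, 0, 0] : List ℤ),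
     ([-2, 2, 2, -2, 2, 0, 0, -2, 0, 0, -2, 0, 2, 0, 0, 0, 0, 0, 0, 0, 0, 0, 0, 0] : List ℤ),
     ([2, -2, 2, -2, 2, 0, 0, -2, 0, 0, -2, 0, 2, 0, 0, 0, 0, 0, 0, 0, 0, 0, 0, 0] : List ℤ),
     ([2, 2, -2, -2, 2, 0, 0, -2, 0, 0, -2, 0, 2, 0, 0, 0, 0, 0, 0, 0, 0, 0, 0, 0] : List ℤ),
     ([-2, -2, -2, -2, 2, 0, 0, -2, 0, 0, -2, 0, 2, 0, 0, 0, 0, 0, 0, 0, 0, 0, 0, 0] : List ℤ),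
     ([-2, 2, 2, 2, -2, 0, 0, -2, 0, 0, -2, 0, 2, 0, 0, 0, 0, 0, 0, 0, 0, 0, 0, 0] : List ℤ),
     ([2, -2, 2, 2, -2, 0, 0, -2, 0, 0, -2, 0, 2, 0, 0, 0, 0, 0, 0, 0, 0, 0, 0, 0] : List ℤ),
     ([2, 2, -2, 2, -2, 0, 0, -2, 0, 0, -2, 0, 2, 0, 0, 0, 0, 0, 0, 0, 0, 0, 0, 0] : List ℤ),
     ([-2, -2, -2, 2, -2, 0, 0, -2, 0, 0, -2, 0, 2, 0, 0, 0, 0, 0, 0, 0, 0, 0, 0, 0] : List ℤ),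
     ([2, 2, 2, -2, -2, 0, 0, -2, 0, 0, -2, 0, 2, 0, 0, 0, 0, 0, 0, 0, 0, 0, 0, 0] : List ℤ),
     ([-2, -2, 2, -2, -2, 0, 0, -2, 0, 0, -2, 0, 2, 0, 0, 0, 0, 0, 0, 0, 0, 0, 0, 0] : List ℤ),
     ([-2, 2, -2, -2, -2, 0, 0, -2, 0, 0, -2, 0, 2, 0, 0, 0, 0, 0, 0, 0, 0, 0, 0, 0] : List ℤ),
     ([2, -2, -2, -2, -2, 0, 0, -2, 0, 0, -2, 0, 2, 0, 0, 0, 0, 0, 0, 0, 0, 0, 0, 0] : List ℤ),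
     ([-2, 2, 2, 2, 2, 0, 0, 2, 0, 0, 2, 0, -2, 0, 0, 0, 0, 0, 0, 0, 0, 0, 0, 0] : List ℤ),
     ([2, -2, 2, 2, 2, 0, 0, 2, 0, 0, 2, 0, -2, 0, 0, 0, 0, 0, 0, 0, 0, 0, 0, 0] : List ℤ),
     ([2, 2, -2, 2, 2, 0, 0, 2, 0, 0, 2, 0, -2, 0, 0, 0, 0, 0, 0, 0, 0, 0, 0, 0] : List ℤ),
     ([-2, -2, -2, 2, 2, 0, 0, 2, 0, 0, 2, 0, -2, 0, 0, 0, 0, 0, 0, 0, 0, 0, 0, 0] : List ℤ),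
     ([2, 2, 2, -2, 2, 0, 0, 2, 0, 0, 2, 0, -2, 0, 0, 0, 0, 0, 0, 0, 0, 0, 0, 0] : List ℤ),
     ([-2, -2, 2, -2, 2, 0, 0, 2, 0, 0, 2, 0, -2, 0, 0, 0, 0, 0, 0, 0, 0, 0, 0, 0] : List ℤ),
     ([-2, 2, -2, -2, 2, 0, 0, 2, 0, 0, 2, 0, -2, 0, 0, 0, 0, 0, 0, 0, 0, 0, 0, 0] : List ℤ),
     ([2, -2, -2, -2, 2, 0, 0, 2, 0, 0, 2, 0, -2, 0, 0, 0, 0, 0, 0, 0, 0, 0, 0, 0] : List ℤ),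
     ([2, 2, 2, 2, -2, 0, 0, 2, 0, 0, 2, 0, -2, 0, 0, 0, 0, 0, 0, 0, 0, 0, 0, 0] : List ℤ),
     ([-2, -2, 2, 2, -2, 0, 0, 2, 0, 0, 2, 0, -2, 0, 0, 0, 0, 0, 0, 0, 0, 0, 0, 0] : List ℤ),
     ([-2, 2, -2, 2, -2, 0, 0, 2, 0, 0, 2, 0, -2, 0, 0, 0, 0, 0, 0, 0, 0, 0, 0, 0] : List ℤ),
     ([2, -2, -2, 2, -2, 0, 0, 2, 0, 0, 2, 0, -2, 0, 0, 0, 0, 0, 0, 0, 0, 0, 0, 0] : List ℤ),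
     ([-2, 2, 2, -2, -2, 0, 0, 2, 0, 0, 2, 0, -2, 0, 0, 0, 0, 0, 0, 0, 0, 0, 0, 0] : List ℤ),
     ([2, -2, 2, -2, -2, 0, 0, 2, 0, 0, 2, 0, -2, 0, 0, 0, 0, 0, 0, 0, 0, 0, 0, 0] : List ℤ),
     ([2, 2, -2, -2, -2, 0, 0, 2, 0, 0, 2, 0, -2, 0, 0, 0, 0, 0, 0, 0, 0, 0, 0, 0] : List ℤ),
     ([-2, -2, -2, -2, -2, 0, 0, 2, 0, 0, 2, 0, -2, 0, 0, 0, 0, 0, 0, 0, 0, 0, 0, 0] : List ℤ),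
     ([2, 2, 2, 2, 2, 0, 0, -2, 0, 0, 2, 0, -2, 0, 0, 0, 0, 0, 0, 0, 0, 0, 0, 0] : List ℤ),
     ([-2, -2, 2, 2, 2, 0, 0, -2, 0, 0, 2, 0, -2, 0, 0, 0, 0, 0, 0, 0, 0, 0, 0, 0] : List ℤ),
     ([-2, 2, -2, 2, 2, 0, 0, -2, 0, 0, 2, 0, -2, 0, 0, 0, 0, 0, 0, 0, 0, 0, 0, 0] : List ℤ),
     ([2, -2, -2, 2, 2, 0, 0, -2, 0, 0, 2, 0, -2, 0, 0, 0, 0, 0, 0, 0, 0, 0, 0, 0] : List ℤ),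
     ([-2, 2, 2, -2, 2, 0, 0, -2, 0, 0, 2, 0, -2, 0, 0, 0, 0, 0, 0, 0, 0, 0, 0, 0] : List ℤ),
     ([2, -2, 2, -2, 2, 0, 0, -2, 0, 0, 2, 0, -2, 0, 0, 0, 0, 0, 0, 0, 0, 0, 0, 0] : List ℤ),
     ([2, 2, -2, -2, 2, 0, 0, -2, 0, 0, 2, 0, -2, 0, 0, 0, 0, 0, 0, 0, 0, 0, 0, 0] : List ℤ),
     ([-2, -2, -2, -2, 2, 0, 0, -2, 0, 0, 2, 0, -2, 0, 0, 0, 0, 0, 0, 0, 0, 0, 0, 0] : List ℤ),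
     ([-2, 2, 2, 2, -2, 0, 0, -2, 0, 0, 2, 0, -2, 0, 0, 0, 0, 0, 0, 0, 0, 0, 0, 0] : List ℤ),
     ([2, -2, 2, 2, -2, 0, 0, -2, 0, 0, 2, 0, -2, 0, 0, 0, 0, 0, 0, 0, 0, 0, 0, 0] : List ℤ),
     ([2, 2, -2, 2, -2, 0, 0, -2, 0, 0, 2, 0, -2, 0, 0, 0, 0, 0, 0, 0, 0, 0, 0, 0] : List ℤ),
     ([-2, -2, -2, 2, -2, 0, 0, -2, 0, 0, 2, 0, -2, 0, 0, 0, 0, 0, 0, 0, 0, 0, 0, 0] : List ℤ),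
     ([2, 2, 2, -2, -2, 0, 0, -2, 0, 0, 2, 0, -2, 0, 0, 0, 0, 0, 0, 0, 0, 0, 0, 0] : List ℤ),
     ([-2, -2, 2, -2, -2, 0, 0, -2, 0, 0, 2, 0, -2, 0, 0, 0, 0, 0, 0, 0, 0, 0, 0, 0] : List ℤ),
     ([-2, 2, -2, -2, -2, 0, 0, -2, 0, 0, 2, 0, -2, 0, 0, 0, 0, 0, 0, 0, 0, 0, 0, 0] : List ℤ),
     ([2, -2, -2, -2, -2, 0, 0, -2, 0, 0, 2, 0, -2, 0, 0, 0, 0, 0, 0, 0, 0, 0, 0, 0] : List ℤ),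
     ([2, 2, 2, 2, 2, 0, 0, 2, 0, 0, -2, 0, -2, 0, 0, 0, 0, 0, 0, 0, 0, 0, 0, 0] : List ℤ),
     ([-2, -2, 2, 2, 2, 0, 0, 2, 0, 0, -2, 0, -2, 0, 0, 0, 0, 0, 0, 0, 0, 0, 0, 0] : List ℤ),
     ([-2, 2, -2, 2, 2, 0, 0, 2, 0, 0, -2, 0, -2, 0, 0, 0, 0, 0, 0, 0, 0, 0, 0, 0] : List ℤ),
     ([2, -2, -2, 2, 2, 0, 0, 2, 0, 0, -2, 0, -2, 0, 0, 0, 0, 0, 0, 0, 0, 0, 0, 0] : List ℤ),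
     ([-2, 2, 2, -2, 2, 0, 0, 2, 0, 0, -2, 0, -2, 0, 0, 0, 0, 0, 0, 0, 0, 0, 0, 0] : List ℤ),
     ([2, -2, 2, -2, 2, 0, 0, 2, 0, 0, -2, 0, -2, 0, 0, 0, 0, 0, 0, 0, 0, 0, 0, 0] : List ℤ),
     ([2, 2, -2, -2, 2, 0, 0, 2, 0, 0, -2, 0, -2, 0, 0, 0, 0, 0, 0, 0, 0, 0, 0, 0] : List ℤ),
     ([-2, -2, -2, -2, 2, 0, 0, 2, 0, 0, -2, 0, -2, 0, 0, 0, 0, 0, 0, 0, 0, 0, 0, 0] : List ℤ),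
     ([-2, 2, 2, 2, -2, 0, 0, 2, 0, 0, -2, 0, -2, 0, 0, 0, 0, 0, 0, 0, 0, 0, 0, 0] : List ℤ),
     ([2, -2, 2, 2, -2, 0, 0, 2, 0, 0, -2, 0, -2, 0, 0, 0, 0, 0, 0, 0, 0, 0, 0, 0] : List ℤ),
     ([2, 2, -2, 2, -2, 0, 0, 2, 0, 0, -2, 0, -2, 0, 0, 0, 0, 0, 0, 0, 0, 0, 0, 0] : List ℤ),
     ([-2, -2, -2, 2, -2, 0, 0, 2, 0, 0, -2, 0, -2, 0, 0, 0, 0, 0, 0, 0, 0, 0, 0, 0] : List ℤ),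
     ([2, 2, 2, -2, -2, 0, 0, 2, 0, 0, -2, 0, -2, 0, 0, 0, 0, 0, 0, 0, 0, 0, 0, 0] : List ℤ),
     ([-2, -2, 2, -2, -2, 0, 0, 2, 0, 0, -2, 0, -2, 0, 0, 0, 0, 0, 0, 0, 0, 0, 0, 0] : List ℤ),
     ([-2, 2, -2, -2, -2, 0, 0, 2, 0, 0, -2, 0, -2, 0, 0, 0, 0, 0, 0, 0, 0, 0, 0, 0] : List ℤ),
     ([2, -2, -2, -2, -2, 0, 0, 2, 0, 0, -2, 0, -2, 0, 0, 0, 0, 0, 0, 0, 0, 0, 0, 0] : List ℤ),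
     ([-2, 2, 2, 2, 2, 0, 0, -2, 0, 0, -2, 0, -2, 0, 0, 0, 0, 0, 0, 0, 0, 0, 0, 0] : List ℤ),
     ([2, -2, 2, 2, 2, 0, 0, -2, 0, 0, -2, 0, -2, 0, 0, 0, 0, 0, 0, 0, 0, 0, 0, 0] : List ℤ),
     ([2, 2, -2, 2, 2, 0, 0, -2, 0, 0, -2, 0, -2, 0, 0, 0, 0, 0, 0, 0, 0, 0, 0, 0] : List ℤ),
     ([-2, -2, -2, 2, 2, 0, 0, -2, 0, 0, -2, 0, -2, 0, 0, 0, 0, 0, 0, 0, 0, 0, 0, 0] : List ℤ),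
     ([2, 2, 2, -2, 2, 0, 0, -2, 0, 0, -2, 0, -2, 0, 0, 0, 0, 0, 0, 0, 0, 0, 0, 0] : List ℤ),
     ([-2, -2, 2, -2, 2, 0, 0, -2, 0, 0, -2, 0, -2, 0, 0, 0, 0, 0, 0, 0, 0, 0, 0, 0] : List ℤ),
     ([-2, 2, -2, -2, 2, 0, 0, -2, 0, 0, -2, 0, -2, 0, 0, 0, 0, 0, 0, 0, 0, 0, 0, 0] : List ℤ),
     ([2, -2, -2, -2, 2, 0, 0, -2, 0, 0, -2, 0, -2, 0, 0, 0, 0, 0, 0, 0, 0, 0, 0, 0] : List ℤ),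
     ([2, 2, 2, 2, -2, 0, 0, -2, 0, 0, -2, 0, -2, 0, 0, 0, 0, 0, 0, 0, 0, 0, 0, 0] : List ℤ),
     ([-2, -2, 2, 2, -2, 0, 0, -2, 0, 0, -2, 0, -2, 0, 0, 0, 0, 0, 0, 0, 0, 0, 0, 0] : List ℤ),
     ([-2, 2, -2, 2, -2, 0, 0, -2, 0, 0, -2, 0, -2, 0, 0, 0, 0, 0, 0, 0, 0, 0, 0, 0] : List ℤ),
     ([2, -2, -2, 2, -2, 0, 0, -2, 0, 0, -2, 0, -2, 0, 0, 0, 0, 0, 0, 0, 0, 0, 0, 0] : List ℤ),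
     ([-2, 2, 2, -2, -2, 0, 0, -2, 0, 0, -2, 0, -2, 0, 0, 0, 0, 0, 0, 0, 0, 0, 0, 0] : List ℤ),
     ([2, -2, 2, -2, -2, 0, 0, -2, 0, 0, -2, 0, -2, 0, 0, 0, 0, 0, 0, 0, 0, 0, 0, 0] : List ℤ),
     ([2, 2, -2, -2, -2, 0, 0, -2, 0, 0, -2, 0, -2, 0, 0, 0, 0, 0, 0, 0, 0, 0, 0, 0] : List ℤ),
     ([-2, -2, -2, -2, -2, 0, 0, -2, 0, 0, -2, 0, -2, 0, 0, 0, 0, 0, 0, 0, 0, 0, 0, 0] : List ℤ)])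

set_option maxRecDepth 100000 in
set_option maxHeartbeats 0 in
/-- The program visiting the vectors. -/
def crKfprog : List Ins :=
  [Ins.mark,
   Ins.push 3 [([-2, 2, 2, 2, 2, 0, 0, -2, 0, 0, -2, 0, -2, 0, 0, 0, 0, 0, 0, 0, 0, 0, 0, 0] : List ℤ)],
   Ins.mark,
   Ins.push 1 [([-2, 0, 2, 2, 0, -2, 2, -2, -2, 0, 0, 0, 0, 0, 0, 0, 0, 0, 2, 0, 0, 0, 0, 0] : List ℤ)],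
   Ins.push 0 [([0, -2, 0, 2, 2, 0, -2, 2, -2, -2, 0, 0, 0, 0, 0, 0, 0, 0, 0, 2, 0, 0, 0, 0] : List ℤ)],
   Ins.push 1 [([0, -2, 2, 2, 0, 2, 0, 0, 0, 0, 0, 0, -2, 0, 0, 0, -2, 0, -2, 0, 0, 0, 2, 0] : List ℤ)],
   Ins.push 0 [([2, 0, -2, 2, 2, 0, 2, 0, 0, 0, 0, 0, 0, -2, 0, 0, 0, -2, 0, -2, 0, 0, 0, 0] : List ℤ)],
   Ins.push 0 [([0, 2, 0, -2, 2, 2, 0, 2, 0, 0, 0, 0, 0, 0, -2, 0, 0, 0, -2, 0, -2, 0, 0, 0] : List ℤ)],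
   Ins.push 1 [([0, 0, 2, -2, -2, 2, 0, 0, 0, 0, -2, 0, 0, 0, 0, 0, 0, -2, 2, 0, 0, 2, 0, 0] : List ℤ)],
   Ins.push 0 [([0, 0, 0, 2, -2, -2, 2, 0, 0, 0, 0, -2, 0, 0, 0, 0, 0, 0, -2, 2, 0, 0, 2, 0] : List ℤ)],
   Ins.push 1 [([0, 2, -2, 2, -2, 0, 0, 0, 0, 0, 0, 0, 0, 0, 2, 0, 0, 0, 0, -2, 0, -2, 2, 0] : List ℤ)],
   Ins.push 0 [([2, 0, 2, -2, 2, -2, 0, 0, 0, 0, 0, 0, 0, 0, 0, 2, 0, 0, 0, 0, -2, 0, -2, 0] : List ℤ)],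
   Ins.push 0 [([-2, 2, 0, 2, -2, 2, -2, 0, 0, 0, 0, 0, 0, 0, 0, 0, 2, 0, 0, 0, 0, -2, 0, 0] : List ℤ)],
   Ins.push 1 [([-2, -2, -2, 2, 0, 0, 0, 0, 0, 0, 0, 0, 0, 2, 0, 0, 0, 0, 2, 0, -2, 2, 0, 0] : List ℤ)],
   Ins.push 1 [([-2, 0, 0, 2, 2, 0, -2, 0, 0, 2, -2, 0, 0, 0, 0, 0, 0, 0, -2, 0, 2, 0, 0, 0] : List ℤ)],
   Ins.push 1 [([-2, -2, 2, 2, -2, 0, 0, -2, 0, 0, 2, 0, 2, 0, 0, 0, 0, 0, 0, 0, 0, 0, 0, 0] : List ℤ)],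
   Ins.mark,
   Ins.pop,
   Ins.pop,
   Ins.pop,
   Ins.pop,
   Ins.pop,
   Ins.pop,
   Ins.push 0 [([2, 0, 0, 0, 2, -2, -2, 2, 0, 0, 0, 0, -2, 0, 0, 0, 0, 0, 0, -2, 2, 0, 0, 0] : List ℤ)],
   Ins.push 1 [([2, -2, 2, 0, 0, 2, 0, 0, -2, 0, 2, 0, 0, 0, 0, 0, 0, 0, 0, 0, 0, -2, -2, 0] : List ℤ)],
   Ins.push 0 [([-2, 2, -2, 2, 0, 0, 2, 0, 0, -2, 0, 2, 0, 0, 0, 0, 0, 0, 0, 0, 0, 0, -2, 0] : List ℤ)],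
   Ins.push 0 [([-2, -2, 2, -2, 2, 0, 0, 2, 0, 0, -2, 0, 2, 0, 0, 0, 0, 0, 0, 0, 0, 0, 0, 0] : List ℤ)],
   Ins.mark,
   Ins.pop,
   Ins.pop,
   Ins.pop,
   Ins.pop,
   Ins.pop,
   Ins.push 1 [([0, 0, -2, -2, 2, 0, 2, -2, 0, 0, 0, -2, 0, 0, 0, 0, 0, 0, 0, 0, 2, 2, 0, 0] : List ℤ)],
   Ins.push 0 [([0, 0, 0, -2, -2, 2, 0, 2, -2, 0, 0, 0, -2, 0, 0, 0, 0, 0, 0, 0, 0, 2, 2, 0] : List ℤ)],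
   Ins.push 0 [([2, 0, 0, 0, -2, -2, 2, 0, 2, -2, 0, 0, 0, -2, 0, 0, 0, 0, 0, 0, 0, 0, 2, 0] : List ℤ)],
   Ins.push 1 [([2, 2, -2, 0, 0, 0, 0, 0, 0, -2, 0, 0, -2, 0, 2, 0, 2, 0, 0, 0, 0, -2, 0, 0] : List ℤ)],
   Ins.push 0 [([0, 2, 2, -2, 0, 0, 0, 0, 0, 0, -2, 0, 0, -2, 0, 2, 0, 2, 0, 0, 0, 0, -2, 0] : List ℤ)],
   Ins.push 0 [([-2, 0, 2, 2, -2, 0, 0, 0, 0, 0, 0, -2, 0, 0, -2, 0, 2, 0, 2, 0, 0, 0, 0, 0] : List ℤ)],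
   Ins.push 1 [([-2, 0, -2, 2, 2, 0, 2, 0, 0, 0, 0, 0, 0, 2, 0, 0, 0, -2, 0, -2, 0, 0, 0, 0] : List ℤ)],
   Ins.push 1 [([-2, 2, 2, 2, 0, 0, -2, 0, 0, 2, 0, -2, 0, 0, 0, 0, 0, 0, 0, 0, 0, 0, -2, 0] : List ℤ)],
   Ins.push 0 [([-2, -2, 2, 2, 2, 0, 0, -2, 0, 0, 2, 0, -2, 0, 0, 0, 0, 0, 0, 0, 0, 0, 0, 0] : List ℤ)],
   Ins.mark,
   Ins.pop,
   Ins.pop,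
   Ins.pop,
   Ins.pop,
   Ins.pop,
   Ins.pop,
   Ins.pop,
   Ins.pop,
   Ins.pop,
   Ins.pop,
   Ins.push 0 [([0, 0, 2, 0, -2, 2, 2, 0, 2, 0, 0, 0, 0, 0, 0, -2, 0, 0, 0, -2, 0, -2, 0, 0] : List ℤ)],
   Ins.push 0 [([0, 0, 0, 2, 0, -2, 2, 2, 0, 2, 0, 0, 0, 0, 0, 0, -2, 0, 0, 0, -2, 0, -2, 0] : List ℤ)],
   Ins.push 0 [([-2, 0, 0, 0, 2, 0, -2, 2, 2, 0, 2, 0, 0, 0, 0, 0, 0, -2, 0, 0, 0, -2, 0, 0] : List ℤ)],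
   Ins.push 1 [([-2, -2, 2, 0, 0, 2, 0, 2, 0, 0, 0, -2, 0, 0, 0, 0, 2, 0, 0, 0, -2, 0, 0, 0] : List ℤ)],
   Ins.push 1 [([-2, 0, 0, 0, 0, 2, 2, 0, 0, 0, -2, 0, 0, 2, 0, 0, 0, 0, -2, -2, 0, 2, 0, 0] : List ℤ)],
   Ins.push 1 [([-2, 2, 0, 0, -2, 0, 0, -2, 0, 2, 0, 0, 0, 0, 0, 0, 0, 0, 0, 0, 2, 2, -2, 0] : List ℤ)],
   Ins.push 0 [([-2, -2, 2, 0, 0, -2, 0, 0, -2, 0, 2, 0, 0, 0, 0, 0, 0, 0, 0, 0, 0, 2, 2, 0] : List ℤ)],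
   Ins.push 0 [([2, -2, -2, 2, 0, 0, -2, 0, 0, -2, 0, 2, 0, 0, 0, 0, 0, 0, 0, 0, 0, 0, 2, 0] : List ℤ)],
   Ins.push 0 [([2, 2, -2, -2, 2, 0, 0, -2, 0, 0, -2, 0, 2, 0, 0, 0, 0, 0, 0, 0, 0, 0, 0, 0] : List ℤ)],
   Ins.mark,
   Ins.pop,
   Ins.pop,
   Ins.pop,
   Ins.pop,
   Ins.pop,
   Ins.pop,
   Ins.pop,
   Ins.pop,
   Ins.pop,
   Ins.pop,
   Ins.pop,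
   Ins.push 1 [([0, 0, 0, 2, -2, 0, 2, 0, -2, 0, 0, 0, 0, -2, 2, 0, 0, 0, -2, 0, 0, 2, 0, 0] : List ℤ)],
   Ins.push 1 [([0, 2, -2, 2, -2, 0, 0, 0, 0, -2, 0, 0, 0, 0, 0, 0, -2, 2, 0, 0, 2, 0, 0, 0] : List ℤ)],
   Ins.push 1 [([0, 0, -2, 2, 0, 0, -2, 0, 0, 0, 2, 2, -2, -2, 0, 0, 0, 0, 2, 0, 0, 0, 0, 0] : List ℤ)],
   Ins.push 0 [([0, 0, 0, -2, 2, 0, 0, -2, 0, 0, 0, 2, 2, -2, -2, 0, 0, 0, 0, 2, 0, 0, 0, 0] : List ℤ)],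
   Ins.push 1 [([0, 0, 2, -2, 0, -2, 0, 0, 2, -2, 0, 0, 0, 0, 0, 0, 0, -2, 0, 2, 0, 0, 2, 0] : List ℤ)],
   Ins.push 0 [([2, 0, 0, 2, -2, 0, -2, 0, 0, 2, -2, 0, 0, 0, 0, 0, 0, 0, -2, 0, 2, 0, 0, 0] : List ℤ)],
   Ins.push 1 [([2, -2, -2, 2, -2, 0, 0, -2, 0, 0, 2, 0, 2, 0, 0, 0, 0, 0, 0, 0, 0, 0, 0, 0] : List ℤ)],
   Ins.mark,
   Ins.pop,
   Ins.pop,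
   Ins.pop,
   Ins.pop,
   Ins.pop,
   Ins.pop,
   Ins.push 0 [([0, 0, 0, 0, 2, -2, 0, 2, 0, -2, 0, 0, 0, 0, -2, 2, 0, 0, 0, -2, 0, 0, 2, 0] : List ℤ)],
   Ins.push 0 [([2, 0, 0, 0, 0, 2, -2, 0, 2, 0, -2, 0, 0, 0, 0, -2, 2, 0, 0, 0, -2, 0, 0, 0] : List ℤ)],
   Ins.push 0 [([0, 2, 0, 0, 0, 0, 2, -2, 0, 2, 0, -2, 0, 0, 0, 0, -2, 2, 0, 0, 0, -2, 0, 0] : List ℤ)],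
   Ins.push 1 [([0, 2, 0, 0, 0, -2, 0, 0, 0, 0, 0, 2, 2, -2, 0, 0, 0, 0, 2, -2, -2, 0, 0, 0] : List ℤ)],
   Ins.push 0 [([0, 0, 2, 0, 0, 0, -2, 0, 0, 0, 0, 0, 2, 2, -2, 0, 0, 0, 0, 2, -2, -2, 0, 0] : List ℤ)],
   Ins.push 1 [([0, -2, 0, 0, 0, 0, 2, 0, 2, 2, -2, 0, 0, 0, 0, 0, 0, -2, 0, 0, -2, 0, 2, 0] : List ℤ)],
   Ins.push 0 [([2, 0, -2, 0, 0, 0, 0, 2, 0, 2, 2, -2, 0, 0, 0, 0, 0, 0, -2, 0, 0, -2, 0, 0] : List ℤ)],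
   Ins.push 1 [([2, 0, 0, 0, -2, 2, -2, 2, 0, 0, 0, 0, 2, 0, 0, 0, 0, 0, 0, -2, -2, 0, 0, 0] : List ℤ)],
   Ins.push 1 [([2, -2, -2, 0, 0, 2, 0, 0, 2, 0, -2, 0, 0, 0, 0, 0, 0, 0, 0, 0, 0, 2, -2, 0] : List ℤ)],
   Ins.push 0 [([-2, 2, -2, -2, 0, 0, 2, 0, 0, 2, 0, -2, 0, 0, 0, 0, 0, 0, 0, 0, 0, 0, 2, 0] : List ℤ)],
   Ins.push 0 [([2, -2, 2, -2, -2, 0, 0, 2, 0, 0, 2, 0, -2, 0, 0, 0, 0, 0, 0, 0, 0, 0, 0, 0] : List ℤ)],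
   Ins.mark,
   Ins.pop,
   Ins.pop,
   Ins.pop,
   Ins.pop,
   Ins.pop,
   Ins.pop,
   Ins.pop,
   Ins.pop,
   Ins.push 0 [([0, 0, 2, 0, 0, 0, 0, 2, -2, 0, 2, 0, -2, 0, 0, 0, 0, -2, 2, 0, 0, 0, -2, 0] : List ℤ)],
   Ins.push 0 [([-2, 0, 0, 2, 0, 0, 0, 0, 2, -2, 0, 2, 0, -2, 0, 0, 0, 0, -2, 2, 0, 0, 0, 0] : List ℤ)],
   Ins.push 1 [([-2, 0, 0, 2, -2, 0, 0, 0, 0, -2, 0, 0, -2, 0, 0, 0, 2, 0, 0, 2, 0, 0, 2, 0] : List ℤ)],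
   Ins.push 0 [([2, -2, 0, 0, 2, -2, 0, 0, 0, 0, -2, 0, 0, -2, 0, 0, 0, 2, 0, 0, 2, 0, 0, 0] : List ℤ)],
   Ins.push 1 [([2, 0, 2, 0, 0, 0, 0, -2, 0, -2, 2, 2, 0, 0, 0, 0, 0, 0, -2, 0, 0, -2, 0, 0] : List ℤ)],
   Ins.push 1 [([2, 0, 0, 0, -2, -2, 2, 2, 0, 0, 0, 0, -2, 0, 0, 0, 0, 0, 0, 2, -2, 0, 0, 0] : List ℤ)],
   Ins.push 1 [([2, 2, -2, 0, 0, 2, 0, 0, -2, 0, -2, 0, 0, 0, 0, 0, 0, 0, 0, 0, 0, -2, 2, 0] : List ℤ)],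
   Ins.push 0 [([2, 2, 2, -2, 0, 0, 2, 0, 0, -2, 0, -2, 0, 0, 0, 0, 0, 0, 0, 0, 0, 0, -2, 0] : List ℤ)],
   Ins.push 0 [([-2, 2, 2, 2, -2, 0, 0, 2, 0, 0, -2, 0, -2, 0, 0, 0, 0, 0, 0, 0, 0, 0, 0, 0] : List ℤ)],
   Ins.mark,
   Ins.pop,
   Ins.pop,
   Ins.pop,
   Ins.pop,
   Ins.pop,
   Ins.pop,
   Ins.pop,
   Ins.pop,
   Ins.pop,
   Ins.pop,
   Ins.pop,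
   Ins.pop,
   Ins.pop,
   Ins.pop,
   Ins.push 0 [([0, 0, -2, 0, 2, 2, 0, -2, 2, -2, -2, 0, 0, 0, 0, 0, 0, 0, 0, 0, 2, 0, 0, 0] : List ℤ)],
   Ins.push 1 [([0, 0, 2, 0, 0, -2, -2, -2, 0, 0, 2, 0, -2, 0, 0, 0, 2, 0, 0, 0, 0, 2, 0, 0] : List ℤ)],
   Ins.push 0 [([0, 0, 0, 2, 0, 0, -2, -2, -2, 0, 0, 2, 0, -2, 0, 0, 0, 2, 0, 0, 0, 0, 2, 0] : List ℤ)],
   Ins.push 0 [([2, 0, 0, 0, 2, 0, 0, -2, -2, -2, 0, 0, 2, 0, -2, 0, 0, 0, 2, 0, 0, 0, 0, 0] : List ℤ)],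
   Ins.push 1 [([2, 0, 2, 0, 2, -2, 0, 0, 2, 0, 0, 0, -2, 0, 0, 0, -2, -2, 0, 0, 0, 0, 0, 0] : List ℤ)],
   Ins.push 0 [([0, 2, 0, 2, 0, 2, -2, 0, 0, 2, 0, 0, 0, -2, 0, 0, 0, -2, -2, 0, 0, 0, 0, 0] : List ℤ)],
   Ins.push 0 [([0, 0, 2, 0, 2, 0, 2, -2, 0, 0, 2, 0, 0, 0, -2, 0, 0, 0, -2, -2, 0, 0, 0, 0] : List ℤ)],
   Ins.push 1 [([0, 2, 2, 0, -2, -2, 2, 2, 0, 0, 0, 0, 0, 0, 0, 0, 0, -2, 0, 0, 0, 0, -2, 0] : List ℤ)],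
   Ins.push 0 [([-2, 0, 2, 2, 0, -2, -2, 2, 2, 0, 0, 0, 0, 0, 0, 0, 0, 0, -2, 0, 0, 0, 0, 0] : List ℤ)],
   Ins.push 1 [([-2, -2, 0, 2, -2, 2, 2, 0, 0, 0, 0, 0, 0, 0, 0, 0, 2, 0, 0, 0, 0, -2, 0, 0] : List ℤ)],
   Ins.push 1 [([-2, 2, -2, 2, 0, 0, 0, 0, 0, 0, 0, 0, 0, 2, 0, 0, 0, 0, -2, 0, -2, 2, 0, 0] : List ℤ)],
   Ins.push 1 [([-2, 0, 0, 2, -2, 0, -2, 0, 0, 2, -2, 0, 0, 0, 0, 0, 0, 0, 2, 0, 2, 0, 0, 0] : List ℤ)],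
   Ins.push 1 [([-2, -2, -2, 2, 2, 0, 0, -2, 0, 0, 2, 0, 2, 0, 0, 0, 0, 0, 0, 0, 0, 0, 0, 0] : List ℤ)],
   Ins.mark,
   Ins.pop,
   Ins.pop,
   Ins.pop,
   Ins.pop,
   Ins.pop,
   Ins.pop,
   Ins.pop,
   Ins.pop,
   Ins.pop,
   Ins.pop,
   Ins.pop,
   Ins.push 1 [([0, -2, 0, 0, 0, -2, 2, 2, -2, 0, 0, 0, 0, 2, 0, 0, 0, 0, 0, 0, 2, -2, 0, 0] : List ℤ)],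
   Ins.push 0 [([0, 0, -2, 0, 0, 0, -2, 2, 2, -2, 0, 0, 0, 0, 2, 0, 0, 0, 0, 0, 0, 2, -2, 0] : List ℤ)],
   Ins.push 0 [([-2, 0, 0, -2, 0, 0, 0, -2, 2, 2, -2, 0, 0, 0, 0, 2, 0, 0, 0, 0, 0, 0, 2, 0] : List ℤ)],
   Ins.push 0 [([2, -2, 0, 0, -2, 0, 0, 0, -2, 2, 2, -2, 0, 0, 0, 0, 2, 0, 0, 0, 0, 0, 0, 0] : List ℤ)],
   Ins.push 0 [([0, 2, -2, 0, 0, -2, 0, 0, 0, -2, 2, 2, -2, 0, 0, 0, 0, 2, 0, 0, 0, 0, 0, 0] : List ℤ)],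
   Ins.push 0 [([0, 0, 2, -2, 0, 0, -2, 0, 0, 0, -2, 2, 2, -2, 0, 0, 0, 0, 2, 0, 0, 0, 0, 0] : List ℤ)],
   Ins.push 0 [([0, 0, 0, 2, -2, 0, 0, -2, 0, 0, 0, -2, 2, 2, -2, 0, 0, 0, 0, 2, 0, 0, 0, 0] : List ℤ)],
   Ins.push 1 [([0, 0, -2, 2, 0, -2, 0, 0, 2, 2, 0, 0, 0, 0, 0, 0, 0, -2, 0, -2, 0, 0, 2, 0] : List ℤ)],
   Ins.push 0 [([2, 0, 0, -2, 2, 0, -2, 0, 0, 2, 2, 0, 0, 0, 0, 0, 0, 0, -2, 0, -2, 0, 0, 0] : List ℤ)],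
   Ins.push 1 [([2, -2, 2, -2, -2, 0, 0, 2, 0, 0, -2, 0, 2, 0, 0, 0, 0, 0, 0, 0, 0, 0, 0, 0] : List ℤ)],
   Ins.mark,
   Ins.pop,
   Ins.pop,
   Ins.pop,
   Ins.pop,
   Ins.pop,
   Ins.pop,
   Ins.pop,
   Ins.pop,
   Ins.pop,
   Ins.pop,
   Ins.pop,
   Ins.push 0 [([0, 0, 0, -2, 0, 2, 2, 0, -2, 2, -2, -2, 0, 0, 0, 0, 0, 0, 0, 0, 0, 2, 0, 0] : List ℤ)],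
   Ins.push 0 [([0, 0, 0, 0, -2, 0, 2, 2, 0, -2, 2, -2, -2, 0, 0, 0, 0, 0, 0, 0, 0, 0, 2, 0] : List ℤ)],
   Ins.push 0 [([2, 0, 0, 0, 0, -2, 0, 2, 2, 0, -2, 2, -2, -2, 0, 0, 0, 0, 0, 0, 0, 0, 0, 0] : List ℤ)],
   Ins.push 1 [([2, 0, 0, 0, 0, 2, 0, -2, -2, -2, 0, 0, 0, 0, 0, 0, 2, 0, 0, 2, 0, -2, 0, 0] : List ℤ)],
   Ins.push 0 [([0, 2, 0, 0, 0, 0, 2, 0, -2, -2, -2, 0, 0, 0, 0, 0, 0, 2, 0, 0, 2, 0, -2, 0] : List ℤ)],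
   Ins.push 0 [([-2, 0, 2, 0, 0, 0, 0, 2, 0, -2, -2, -2, 0, 0, 0, 0, 0, 0, 2, 0, 0, 2, 0, 0] : List ℤ)],
   Ins.push 1 [([-2, 0, 0, 0, 2, 2, 2, -2, 0, 0, 0, 0, -2, 0, 0, 0, 0, 0, 0, -2, 2, 0, 0, 0] : List ℤ)],
   Ins.push 1 [([-2, 2, 2, 0, 0, -2, 0, 0, -2, 0, 2, 0, 0, 0, 0, 0, 0, 0, 0, 0, 0, 2, -2, 0] : List ℤ)],
   Ins.push 0 [([-2, -2, 2, 2, 0, 0, -2, 0, 0, -2, 0, 2, 0, 0, 0, 0, 0, 0, 0, 0, 0, 0, 2, 0] : List ℤ)],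
   Ins.push 0 [([2, -2, -2, 2, 2, 0, 0, -2, 0, 0, -2, 0, 2, 0, 0, 0, 0, 0, 0, 0, 0, 0, 0, 0] : List ℤ)],
   Ins.mark,
   Ins.pop,
   Ins.pop,
   Ins.pop,
   Ins.pop,
   Ins.pop,
   Ins.pop,
   Ins.pop,
   Ins.pop,
   Ins.push 1 [([0, 2, -2, 0, 0, 2, 0, 2, -2, 0, 0, 0, -2, 0, 2, 0, 0, 0, 0, -2, 0, 0, 0, 0] : List ℤ)],
   Ins.push 1 [([0, 0, 0, 0, 0, 2, -2, 0, -2, 0, 0, 0, 0, 0, 0, 0, -2, 2, 2, 0, 0, 2, -2, 0] : List ℤ)],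
   Ins.push 0 [([-2, 0, 0, 0, 0, 0, 2, -2, 0, -2, 0, 0, 0, 0, 0, 0, 0, -2, 2, 2, 0, 0, 2, 0] : List ℤ)],
   Ins.push 0 [([2, -2, 0, 0, 0, 0, 0, 2, -2, 0, -2, 0, 0, 0, 0, 0, 0, 0, -2, 2, 2, 0, 0, 0] : List ℤ)],
   Ins.push 1 [([2, 0, 0, 0, -2, 2, 0, -2, 0, 0, 2, 0, 0, 0, 0, 0, -2, 0, -2, 0, 0, 0, 2, 0] : List ℤ)],
   Ins.push 0 [([2, 2, 0, 0, 0, -2, 2, 0, -2, 0, 0, 2, 0, 0, 0, 0, 0, -2, 0, -2, 0, 0, 0, 0] : List ℤ)],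
   Ins.push 1 [([2, 2, 0, 0, 0, 0, 0, 0, 0, 0, 0, -2, 0, 0, 0, 0, -2, 0, 2, 2, 0, -2, -2, 0] : List ℤ)],
   Ins.push 0 [([-2, 2, 2, 0, 0, 0, 0, 0, 0, 0, 0, 0, -2, 0, 0, 0, 0, -2, 0, 2, 2, 0, -2, 0] : List ℤ)],
   Ins.push 0 [([-2, -2, 2, 2, 0, 0, 0, 0, 0, 0, 0, 0, 0, -2, 0, 0, 0, 0, -2, 0, 2, 2, 0, 0] : List ℤ)],
   Ins.push 1 [([-2, 0, 0, 2, -2, 0, 2, 0, 0, -2, 2, 0, 0, 0, 0, 0, 0, 0, -2, 0, 2, 0, 0, 0] : List ℤ)],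
   Ins.push 1 [([-2, 2, -2, 2, -2, 0, 0, 2, 0, 0, 2, 0, -2, 0, 0, 0, 0, 0, 0, 0, 0, 0, 0, 0] : List ℤ)],
   Ins.mark,
   Ins.pop,
   Ins.pop,
   Ins.pop,
   Ins.pop,
   Ins.pop,
   Ins.pop,
   Ins.pop,
   Ins.pop,
   Ins.pop,
   Ins.pop,
   Ins.pop,
   Ins.pop,
   Ins.push 1 [([0, 2, 0, -2, 0, 0, 0, -2, 0, 0, 0, 0, 2, 0, 0, 0, -2, 0, 0, -2, 2, 2, 0, 0] : List ℤ)],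
   Ins.push 1 [([0, 0, 0, -2, 0, -2, 0, 0, 2, 0, 2, 0, 0, -2, 0, 0, 0, 0, 2, 0, 2, 0, -2, 0] : List ℤ)],
   Ins.push 0 [([-2, 0, 0, 0, -2, 0, -2, 0, 0, 2, 0, 2, 0, 0, -2, 0, 0, 0, 0, 2, 0, 2, 0, 0] : List ℤ)],
   Ins.push 1 [([-2, -2, -2, 0, 0, 0, 0, 0, 0, 0, 0, 0, 2, 0, 0, 0, 0, -2, 0, 2, 2, 0, 2, 0] : List ℤ)],
   Ins.push 0 [([2, -2, -2, -2, 0, 0, 0, 0, 0, 0, 0, 0, 0, 2, 0, 0, 0, 0, -2, 0, 2, 2, 0, 0] : List ℤ)],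
   Ins.push 1 [([2, 0, 0, -2, -2, 0, -2, 0, 0, 2, 2, 0, 0, 0, 0, 0, 0, 0, -2, 0, 2, 0, 0, 0] : List ℤ)],
   Ins.push 1 [([2, -2, -2, -2, -2, 0, 0, 2, 0, 0, 2, 0, 2, 0, 0, 0, 0, 0, 0, 0, 0, 0, 0, 0] : List ℤ)],
   Ins.mark,
   Ins.pop,
   Ins.pop,
   Ins.pop,
   Ins.pop,
   Ins.pop,
   Ins.pop,
   Ins.pop,
   Ins.pop,
   Ins.pop,
   Ins.pop,
   Ins.push 1 [([-2, 2, 0, 2, 2, -2, 2, 0, 0, 0, 0, 0, 0, 0, 0, 0, -2, 0, 0, 0, 0, -2, 0, 0] : List ℤ)],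
   Ins.push 1 [([-2, 2, 2, 2, 0, 0, 0, 0, 0, 0, 0, 0, 0, -2, 0, 0, 0, 0, 2, 0, -2, -2, 0, 0] : List ℤ)],
   Ins.push 0 [([0, -2, 2, 2, 2, 0, 0, 0, 0, 0, 0, 0, 0, 0, -2, 0, 0, 0, 0, 2, 0, -2, -2, 0] : List ℤ)],
   Ins.push 0 [([-2, 0, -2, 2, 2, 2, 0, 0, 0, 0, 0, 0, 0, 0, 0, -2, 0, 0, 0, 0, 2, 0, -2, 0] : List ℤ)],
   Ins.push 0 [([-2, -2, 0, -2, 2, 2, 2, 0, 0, 0, 0, 0, 0, 0, 0, 0, -2, 0, 0, 0, 0, 2, 0, 0] : List ℤ)],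
   Ins.push 0 [([0, -2, -2, 0, -2, 2, 2, 2, 0, 0, 0, 0, 0, 0, 0, 0, 0, -2, 0, 0, 0, 0, 2, 0] : List ℤ)],
   Ins.push 1 [([0, 2, -2, 0, 0, 2, -2, 0, 0, 0, 0, -2, 0, 0, 2, 0, 0, 0, -2, 0, 0, 2, 0, 0] : List ℤ)],
   Ins.push 1 [([0, -2, 0, 0, -2, 0, -2, 0, 0, 0, 0, 0, 0, 0, 0, 0, 0, 2, 2, -2, 2, 2, 0, 0] : List ℤ)],
   Ins.push 0 [([0, 0, -2, 0, 0, -2, 0, -2, 0, 0, 0, 0, 0, 0, 0, 0, 0, 0, 2, 2, -2, 2, 2, 0] : List ℤ)],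
   Ins.push 0 [([2, 0, 0, -2, 0, 0, -2, 0, -2, 0, 0, 0, 0, 0, 0, 0, 0, 0, 0, 2, 2, -2, 2, 0] : List ℤ)],
   Ins.push 1 [([2, -2, 0, -2, 0, 0, 0, 0, 0, 0, 2, 0, 0, 0, 2, 0, -2, 0, 0, 0, -2, 0, 2, 0] : List ℤ)],
   Ins.push 0 [([2, 2, -2, 0, -2, 0, 0, 0, 0, 0, 0, 2, 0, 0, 0, 2, 0, -2, 0, 0, 0, -2, 0, 0] : List ℤ)],
   Ins.push 0 [([0, 2, 2, -2, 0, -2, 0, 0, 0, 0, 0, 0, 2, 0, 0, 0, 2, 0, -2, 0, 0, 0, -2, 0] : List ℤ)],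
   Ins.push 0 [([-2, 0, 2, 2, -2, 0, -2, 0, 0, 0, 0, 0, 0, 2, 0, 0, 0, 2, 0, -2, 0, 0, 0, 0] : List ℤ)],
   Ins.push 1 [([-2, -2, -2, 2, 0, 0, 2, 0, 0, 2, 0, 2, 0, 0, 0, 0, 0, 0, 0, 0, 0, 0, -2, 0] : List ℤ)],
   Ins.push 0 [([-2, -2, -2, -2, 2, 0, 0, 2, 0, 0, 2, 0, 2, 0, 0, 0, 0, 0, 0, 0, 0, 0, 0, 0] : List ℤ)],
   Ins.mark,
   Ins.pop,
   Ins.pop,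
   Ins.pop,
   Ins.pop,
   Ins.pop,
   Ins.pop,
   Ins.pop,
   Ins.pop,
   Ins.pop,
   Ins.pop,
   Ins.push 0 [([2, 0, -2, -2, 0, -2, 2, 2, 2, 0, 0, 0, 0, 0, 0, 0, 0, 0, -2, 0, 0, 0, 0, 0] : List ℤ)],
   Ins.push 1 [([2, 2, 0, -2, -2, 2, -2, 0, 0, 0, 0, 0, 0, 0, 0, 0, 2, 0, 0, 0, 0, -2, 0, 0] : List ℤ)],
   Ins.push 0 [([0, 2, 2, 0, -2, -2, 2, -2, 0, 0, 0, 0, 0, 0, 0, 0, 0, 2, 0, 0, 0, 0, -2, 0] : List ℤ)],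
   Ins.push 0 [([-2, 0, 2, 2, 0, -2, -2, 2, -2, 0, 0, 0, 0, 0, 0, 0, 0, 0, 2, 0, 0, 0, 0, 0] : List ℤ)],
   Ins.push 1 [([-2, -2, 0, 2, 2, 2, 2, 0, 0, 0, 0, 0, 0, 0, 0, 0, -2, 0, 0, 0, 0, -2, 0, 0] : List ℤ)],
   Ins.push 1 [([-2, 2, 2, 2, 0, 0, 0, 0, 0, 0, 0, 0, 0, -2, 0, 0, 0, 0, -2, 0, -2, 2, 0, 0] : List ℤ)],
   Ins.push 1 [([-2, 0, 0, 2, -2, 0, 2, 0, 0, -2, -2, 0, 0, 0, 0, 0, 0, 0, 2, 0, 2, 0, 0, 0] : List ℤ)],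
   Ins.push 1 [([-2, 2, -2, 2, 2, 0, 0, -2, 0, 0, 2, 0, -2, 0, 0, 0, 0, 0, 0, 0, 0, 0, 0, 0] : List ℤ)],
   Ins.mark,
   Ins.pop,
   Ins.pop,
   Ins.pop,
   Ins.pop,
   Ins.pop,
   Ins.pop,
   Ins.push 1 [([2, -2, -2, -2, 0, 0, 0, 0, 0, 0, 0, 0, 0, 2, 0, 0, 0, 0, 2, 0, -2, 2, 0, 0] : List ℤ)],
   Ins.push 1 [([2, 0, 0, -2, 2, 0, -2, 0, 0, 2, -2, 0, 0, 0, 0, 0, 0, 0, -2, 0, 2, 0, 0, 0] : List ℤ)],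
   Ins.push 1 [([2, -2, 2, -2, -2, 0, 0, -2, 0, 0, 2, 0, 2, 0, 0, 0, 0, 0, 0, 0, 0, 0, 0, 0] : List ℤ)],
   Ins.mark,
   Ins.pop,
   Ins.pop,
   Ins.pop,
   Ins.pop,
   Ins.pop,
   Ins.pop,
   Ins.push 1 [([-2, 2, 2, -2, 0, 0, 0, 0, 0, 0, 0, 0, 0, -2, 0, 0, 0, 0, -2, 0, 2, 2, 0, 0] : List ℤ)],
   Ins.push 0 [([0, -2, 2, 2, -2, 0, 0, 0, 0, 0, 0, 0, 0, 0, -2, 0, 0, 0, 0, -2, 0, 2, 2, 0] : List ℤ)],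
   Ins.push 0 [([2, 0, -2, 2, 2, -2, 0, 0, 0, 0, 0, 0, 0, 0, 0, -2, 0, 0, 0, 0, -2, 0, 2, 0] : List ℤ)],
   Ins.push 1 [([2, 0, 2, 2, 0, 0, -2, 0, 0, 0, -2, 0, 0, 0, 2, -2, 0, 0, 0, 0, 0, -2, 0, 0] : List ℤ)],
   Ins.push 1 [([2, -2, 0, 2, 0, 0, 2, -2, 0, 0, 0, 0, 0, 0, 0, -2, 0, 2, 0, 0, -2, 0, 0, 0] : List ℤ)],
   Ins.push 0 [([0, 2, -2, 0, 2, 0, 0, 2, -2, 0, 0, 0, 0, 0, 0, 0, -2, 0, 2, 0, 0, -2, 0, 0] : List ℤ)],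
   Ins.push 0 [([0, 0, 2, -2, 0, 2, 0, 0, 2, -2, 0, 0, 0, 0, 0, 0, 0, -2, 0, 2, 0, 0, -2, 0] : List ℤ)],
   Ins.push 0 [([-2, 0, 0, 2, -2, 0, 2, 0, 0, 2, -2, 0, 0, 0, 0, 0, 0, 0, -2, 0, 2, 0, 0, 0] : List ℤ)],
   Ins.push 1 [([-2, 2, -2, 2, -2, 0, 0, -2, 0, 0, 2, 0, 2, 0, 0, 0, 0, 0, 0, 0, 0, 0, 0, 0] : List ℤ)],
   Ins.mark,
   Ins.pop,
   Ins.pop,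
   Ins.pop,
   Ins.pop,
   Ins.pop,
   Ins.pop,
   Ins.pop,
   Ins.pop,
   Ins.push 1 [([-2, 0, 0, -2, -2, 0, 2, 0, 0, -2, 2, 0, 0, 0, 0, 0, 0, 0, 2, 0, 2, 0, 0, 0] : List ℤ)],
   Ins.push 1 [([-2, 2, -2, -2, 2, 0, 0, 2, 0, 0, 2, 0, -2, 0, 0, 0, 0, 0, 0, 0, 0, 0, 0, 0] : List ℤ)],
   Ins.mark,
   Ins.pop,
   Ins.pop,
   Ins.pop,
   Ins.pop,
   Ins.push 1 [([-2, 0, 2, 2, 0, 0, -2, 0, 0, 0, 2, 0, 0, 0, -2, -2, 0, 0, 0, 0, 0, 2, 0, 0] : List ℤ)],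
   Ins.push 1 [([-2, -2, 0, 2, 0, 0, 2, 2, 0, 0, 0, 0, 0, 0, 0, -2, 0, -2, 0, 0, 2, 0, 0, 0] : List ℤ)],
   Ins.push 0 [([0, -2, -2, 0, 2, 0, 0, 2, 2, 0, 0, 0, 0, 0, 0, 0, -2, 0, -2, 0, 0, 2, 0, 0] : List ℤ)],
   Ins.push 0 [([0, 0, -2, -2, 0, 2, 0, 0, 2, 2, 0, 0, 0, 0, 0, 0, 0, -2, 0, -2, 0, 0, 2, 0] : List ℤ)],
   Ins.push 0 [([2, 0, 0, -2, -2, 0, 2, 0, 0, 2, 2, 0, 0, 0, 0, 0, 0, 0, -2, 0, -2, 0, 0, 0] : List ℤ)],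
   Ins.push 1 [([2, 2, -2, -2, -2, 0, 0, 2, 0, 0, -2, 0, 2, 0, 0, 0, 0, 0, 0, 0, 0, 0, 0, 0] : List ℤ)],
   Ins.mark,
   Ins.pop,
   Ins.pop,
   Ins.pop,
   Ins.pop,
   Ins.pop,
   Ins.pop,
   Ins.pop,
   Ins.push 1 [([0, 0, 2, 2, 0, 0, 2, 0, 0, 0, 0, 0, 0, 0, -2, 0, 0, -2, -2, 0, -2, 0, 2, 0] : List ℤ)],
   Ins.push 0 [([2, 0, 0, 2, 2, 0, 0, 2, 0, 0, 0, 0, 0, 0, 0, -2, 0, 0, -2, -2, 0, -2, 0, 0] : List ℤ)],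
   Ins.push 1 [([2, 0, 2, 2, -2, 2, 0, 0, 0, 0, 0, 0, 0, 0, 0, -2, 0, 0, 0, 0, -2, 0, -2, 0] : List ℤ)],
   Ins.push 1 [([2, 0, -2, 2, 0, 0, 2, 0, 0, 0, -2, 0, 0, 0, -2, -2, 0, 0, 0, 0, 0, 2, 0, 0] : List ℤ)],
   Ins.push 1 [([2, 2, 0, 2, 0, 0, -2, -2, 0, 0, 0, 0, 0, 0, 0, -2, 0, -2, 0, 0, 2, 0, 0, 0] : List ℤ)],
   Ins.push 0 [([0, 2, 2, 0, 2, 0, 0, -2, -2, 0, 0, 0, 0, 0, 0, 0, -2, 0, -2, 0, 0, 2, 0, 0] : List ℤ)],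
   Ins.push 0 [([0, 0, 2, 2, 0, 2, 0, 0, -2, -2, 0, 0, 0, 0, 0, 0, 0, -2, 0, -2, 0, 0, 2, 0] : List ℤ)],
   Ins.push 0 [([2, 0, 0, 2, 2, 0, 2, 0, 0, -2, -2, 0, 0, 0, 0, 0, 0, 0, -2, 0, -2, 0, 0, 0] : List ℤ)],
   Ins.push 1 [([2, 2, 2, 2, -2, 0, 0, -2, 0, 0, -2, 0, -2, 0, 0, 0, 0, 0, 0, 0, 0, 0, 0, 0] : List ℤ)],
   Ins.mark,
   Ins.pop,
   Ins.pop,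
   Ins.pop,
   Ins.pop,
   Ins.pop,
   Ins.pop,
   Ins.pop,
   Ins.pop,
   Ins.push 1 [([0, 2, 0, 2, -2, 0, 2, 0, 0, 0, -2, -2, 0, 0, 2, 0, 0, -2, 0, 0, 0, 0, 0, 0] : List ℤ)],
   Ins.push 0 [([0, 0, 2, 0, 2, -2, 0, 2, 0, 0, 0, -2, -2, 0, 0, 2, 0, 0, -2, 0, 0, 0, 0, 0] : List ℤ)],
   Ins.push 0 [([0, 0, 0, 2, 0, 2, -2, 0, 2, 0, 0, 0, -2, -2, 0, 0, 2, 0, 0, -2, 0, 0, 0, 0] : List ℤ)],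
   Ins.push 0 [([0, 0, 0, 0, 2, 0, 2, -2, 0, 2, 0, 0, 0, -2, -2, 0, 0, 2, 0, 0, -2, 0, 0, 0] : List ℤ)],
   Ins.push 1 [([0, 2, 2, 0, 0, -2, 0, 0, 0, -2, -2, 2, 2, 0, 0, 0, 0, -2, 0, 0, 0, 0, 0, 0] : List ℤ)],
   Ins.push 0 [([0, 0, 2, 2, 0, 0, -2, 0, 0, 0, -2, -2, 2, 2, 0, 0, 0, 0, -2, 0, 0, 0, 0, 0] : List ℤ)],
   Ins.push 0 [([0, 0, 0, 2, 2, 0, 0, -2, 0, 0, 0, -2, -2, 2, 2, 0, 0, 0, 0, -2, 0, 0, 0, 0] : List ℤ)],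
   Ins.push 1 [([0, 0, 2, 2, 0, -2, 0, 0, -2, 2, 0, 0, 0, 0, 0, 0, 0, 2, 0, -2, 0, 0, -2, 0] : List ℤ)],
   Ins.push 0 [([-2, 0, 0, 2, 2, 0, -2, 0, 0, -2, 2, 0, 0, 0, 0, 0, 0, 0, 2, 0, -2, 0, 0, 0] : List ℤ)],
   Ins.push 1 [([-2, -2, 2, 2, 2, 0, 0, 2, 0, 0, -2, 0, -2, 0, 0, 0, 0, 0, 0, 0, 0, 0, 0, 0] : List ℤ)],
   Ins.mark,
   Ins.pop,
   Ins.pop,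
   Ins.pop,
   Ins.pop,
   Ins.pop,
   Ins.pop,
   Ins.pop,
   Ins.pop,
   Ins.pop,
   Ins.push 1 [([0, 2, -2, 2, 0, 0, 0, -2, 0, 0, 0, -2, 0, 0, 0, 0, 0, 2, 2, -2, 0, 0, 0, 0] : List ℤ)],
   Ins.push 1 [([0, 0, 0, 2, 2, -2, -2, 0, 0, 0, 0, 2, 0, 0, 0, 0, 0, 0, 2, -2, 0, 0, -2, 0] : List ℤ)],
   Ins.push 0 [([-2, 0, 0, 0, 2, 2, -2, -2, 0, 0, 0, 0, 2, 0, 0, 0, 0, 0, 0, 2, -2, 0, 0, 0] : List ℤ)],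
   Ins.push 1 [([-2, -2, 2, 0, 0, -2, 0, 0, 2, 0, -2, 0, 0, 0, 0, 0, 0, 0, 0, 0, 0, 2, 2, 0] : List ℤ)],
   Ins.push 0 [([2, -2, -2, 2, 0, 0, -2, 0, 0, 2, 0, -2, 0, 0, 0, 0, 0, 0, 0, 0, 0, 0, 2, 0] : List ℤ)],
   Ins.push 0 [([2, 2, -2, -2, 2, 0, 0, -2, 0, 0, 2, 0, -2, 0, 0, 0, 0, 0, 0, 0, 0, 0, 0, 0] : List ℤ)],
   Ins.mark,
   Ins.pop,
   Ins.pop,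
   Ins.pop,
   Ins.pop,
   Ins.pop,
   Ins.pop,
   Ins.pop,
   Ins.pop,
   Ins.pop,
   Ins.push 1 [([-2, 0, 0, 2, 2, 0, 2, 0, 0, -2, -2, 0, 0, 0, 0, 0, 0, 0, 2, 0, -2, 0, 0, 0] : List ℤ)],
   Ins.push 0 [([0, -2, 0, 0, 2, 2, 0, 2, 0, 0, -2, -2, 0, 0, 0, 0, 0, 0, 0, 2, 0, -2, 0, 0] : List ℤ)],
   Ins.push 0 [([0, 0, -2, 0, 0, 2, 2, 0, 2, 0, 0, -2, -2, 0, 0, 0, 0, 0, 0, 0, 2, 0, -2, 0] : List ℤ)],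
   Ins.push 0 [([-2, 0, 0, -2, 0, 0, 2, 2, 0, 2, 0, 0, -2, -2, 0, 0, 0, 0, 0, 0, 0, 2, 0, 0] : List ℤ)],
   Ins.push 1 [([-2, 2, 0, -2, 0, 2, 0, 0, -2, -2, 0, 0, 2, 0, 0, 0, 0, 0, 0, 0, 2, 0, 0, 0] : List ℤ)],
   Ins.push 0 [([0, -2, 2, 0, -2, 0, 2, 0, 0, -2, -2, 0, 0, 2, 0, 0, 0, 0, 0, 0, 0, 2, 0, 0] : List ℤ)],
   Ins.push 1 [([0, 2, -2, 0, 0, 0, 2, -2, 0, 2, 0, 0, -2, 0, 0, 0, 0, 0, -2, 0, 2, 0, 0, 0] : List ℤ)],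
   Ins.push 1 [([0, 2, 0, 0, -2, -2, -2, 0, -2, 0, 2, 0, 2, 0, 0, 0, 0, 0, 2, 0, 0, 0, 0, 0] : List ℤ)],
   Ins.push 1 [([0, -2, -2, 0, 2, 0, 0, 2, 2, 0, 0, 0, 0, 0, 0, 0, -2, 0, 2, 0, 0, -2, 0, 0] : List ℤ)],
   Ins.push 0 [([0, 0, -2, -2, 0, 2, 0, 0, 2, 2, 0, 0, 0, 0, 0, 0, 0, -2, 0, 2, 0, 0, -2, 0] : List ℤ)],
   Ins.push 0 [([-2, 0, 0, -2, -2, 0, 2, 0, 0, 2, 2, 0, 0, 0, 0, 0, 0, 0, -2, 0, 2, 0, 0, 0] : List ℤ)],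
   Ins.push 1 [([-2, 2, -2, -2, -2, 0, 0, 2, 0, 0, 2, 0, 2, 0, 0, 0, 0, 0, 0, 0, 0, 0, 0, 0] : List ℤ)],
   Ins.mark,
   Ins.pop,
   Ins.pop,
   Ins.pop,
   Ins.pop,
   Ins.pop,
   Ins.pop,
   Ins.pop,
   Ins.pop,
   Ins.pop,
   Ins.pop,
   Ins.push 1 [([0, 0, 2, 0, 0, 2, 0, -2, 0, 0, 0, 0, 0, 0, 0, 0, 0, 0, -2, -2, -2, 2, 2, 0] : List ℤ)],
   Ins.push 0 [([2, 0, 0, 2, 0, 0, 2, 0, -2, 0, 0, 0, 0, 0, 0, 0, 0, 0, 0, -2, -2, -2, 2, 0] : List ℤ)],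
   Ins.push 0 [([2, 2, 0, 0, 2, 0, 0, 2, 0, -2, 0, 0, 0, 0, 0, 0, 0, 0, 0, 0, -2, -2, -2, 0] : List ℤ)],
   Ins.push 0 [([-2, 2, 2, 0, 0, 2, 0, 0, 2, 0, -2, 0, 0, 0, 0, 0, 0, 0, 0, 0, 0, -2, -2, 0] : List ℤ)],
   Ins.push 0 [([-2, -2, 2, 2, 0, 0, 2, 0, 0, 2, 0, -2, 0, 0, 0, 0, 0, 0, 0, 0, 0, 0, -2, 0] : List ℤ)],
   Ins.push 0 [([-2, -2, -2, 2, 2, 0, 0, 2, 0, 0, 2, 0, -2, 0, 0, 0, 0, 0, 0, 0, 0, 0, 0, 0] : List ℤ)],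
   Ins.mark,
   Ins.pop,
   Ins.pop,
   Ins.pop,
   Ins.pop,
   Ins.pop,
   Ins.pop,
   Ins.pop,
   Ins.pop,
   Ins.pop,
   Ins.push 0 [([0, -2, 2, 0, 2, 2, -2, 2, 0, 0, 0, 0, 0, 0, 0, 0, 0, -2, 0, 0, 0, 0, -2, 0] : List ℤ)],
   Ins.push 1 [([0, -2, 2, 0, 0, 2, 2, 0, 0, 0, 0, -2, 0, 0, -2, 0, 0, 0, -2, 0, 0, 2, 0, 0] : List ℤ)],
   Ins.push 1 [([0, 2, 0, 0, -2, 0, 2, 0, 0, 0, 0, 0, 0, 0, 0, 0, 0, -2, -2, -2, 2, 2, 0, 0] : List ℤ)],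
   Ins.push 0 [([0, 0, 2, 0, 0, -2, 0, 2, 0, 0, 0, 0, 0, 0, 0, 0, 0, 0, -2, -2, -2, 2, 2, 0] : List ℤ)],
   Ins.push 0 [([2, 0, 0, 2, 0, 0, -2, 0, 2, 0, 0, 0, 0, 0, 0, 0, 0, 0, 0, -2, -2, -2, 2, 0] : List ℤ)],
   Ins.push 1 [([2, -2, 0, 2, 0, 0, 0, 0, 0, 0, -2, 0, 0, 0, 2, 0, 2, 0, 0, 0, -2, 0, -2, 0] : List ℤ)],
   Ins.push 0 [([-2, 2, -2, 0, 2, 0, 0, 0, 0, 0, 0, -2, 0, 0, 0, 2, 0, 2, 0, 0, 0, -2, 0, 0] : List ℤ)],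
   Ins.push 0 [([0, -2, 2, -2, 0, 2, 0, 0, 0, 0, 0, 0, -2, 0, 0, 0, 2, 0, 2, 0, 0, 0, -2, 0] : List ℤ)],
   Ins.push 0 [([-2, 0, -2, 2, -2, 0, 2, 0, 0, 0, 0, 0, 0, -2, 0, 0, 0, 2, 0, 2, 0, 0, 0, 0] : List ℤ)],
   Ins.push 1 [([-2, 2, -2, 2, 0, 0, -2, 0, 0, -2, 0, 2, 0, 0, 0, 0, 0, 0, 0, 0, 0, 0, 2, 0] : List ℤ)],
   Ins.push 0 [([2, -2, 2, -2, 2, 0, 0, -2, 0, 0, -2, 0, 2, 0, 0, 0, 0, 0, 0, 0, 0, 0, 0, 0] : List ℤ)],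
   Ins.mark,
   Ins.pop,
   Ins.pop,
   Ins.pop,
   Ins.pop,
   Ins.pop,
   Ins.pop,
   Ins.push 0 [([2, 2, 0, 0, 2, 0, 0, -2, 0, 2, 0, 0, 0, 0, 0, 0, 0, 0, 0, 0, -2, -2, -2, 0] : List ℤ)],
   Ins.push 0 [([-2, 2, 2, 0, 0, 2, 0, 0, -2, 0, 2, 0, 0, 0, 0, 0, 0, 0, 0, 0, 0, -2, -2, 0] : List ℤ)],
   Ins.push 0 [([-2, -2, 2, 2, 0, 0, 2, 0, 0, -2, 0, 2, 0, 0, 0, 0, 0, 0, 0, 0, 0, 0, -2, 0] : List ℤ)],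
   Ins.push 0 [([-2, -2, -2, 2, 2, 0, 0, 2, 0, 0, -2, 0, 2, 0, 0, 0, 0, 0, 0, 0, 0, 0, 0, 0] : List ℤ)],
   Ins.mark,
   Ins.pop,
   Ins.pop,
   Ins.pop,
   Ins.pop,
   Ins.pop,
   Ins.pop,
   Ins.push 1 [([0, 2, -2, 0, -2, 0, 0, 0, 0, 0, 2, -2, 0, 0, 0, 0, 0, 0, 2, 0, 2, 0, -2, 0] : List ℤ)],
   Ins.push 0 [([-2, 0, 2, -2, 0, -2, 0, 0, 0, 0, 0, 2, -2, 0, 0, 0, 0, 0, 0, 2, 0, 2, 0, 0] : List ℤ)],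
   Ins.push 1 [([-2, 0, 0, -2, 0, 0, 2, 0, -2, 0, 0, 0, 0, 0, 0, 0, 0, 0, 0, 2, 2, -2, 2, 0] : List ℤ)],
   Ins.push 1 [([-2, 2, 0, -2, 0, 0, 0, 0, 0, 0, 2, 0, 0, 0, 2, 0, -2, 0, 0, 0, -2, 0, 2, 0] : List ℤ)],
   Ins.push 0 [([2, -2, 2, 0, -2, 0, 0, 0, 0, 0, 0, 2, 0, 0, 0, 2, 0, -2, 0, 0, 0, -2, 0, 0] : List ℤ)],
   Ins.push 0 [([0, 2, -2, 2, 0, -2, 0, 0, 0, 0, 0, 0, 2, 0, 0, 0, 2, 0, -2, 0, 0, 0, -2, 0] : List ℤ)],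
   Ins.push 0 [([-2, 0, 2, -2, 2, 0, -2, 0, 0, 0, 0, 0, 0, 2, 0, 0, 0, 2, 0, -2, 0, 0, 0, 0] : List ℤ)],
   Ins.push 1 [([-2, -2, 2, -2, 0, 0, 2, 0, 0, 2, 0, 2, 0, 0, 0, 0, 0, 0, 0, 0, 0, 0, -2, 0] : List ℤ)],
   Ins.push 0 [([-2, -2, -2, 2, -2, 0, 0, 2, 0, 0, 2, 0, 2, 0, 0, 0, 0, 0, 0, 0, 0, 0, 0, 0] : List ℤ)],
   Ins.mark,
   Ins.pop,
   Ins.pop,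
   Ins.pop,
   Ins.pop,
   Ins.pop,
   Ins.pop,
   Ins.push 0 [([2, -2, 0, 0, -2, 0, 0, 2, 0, -2, 0, 0, 0, 0, 0, 0, 0, 0, 0, 0, 2, 2, -2, 0] : List ℤ)],
   Ins.push 0 [([-2, 2, -2, 0, 0, -2, 0, 0, 2, 0, -2, 0, 0, 0, 0, 0, 0, 0, 0, 0, 0, 2, 2, 0] : List ℤ)],
   Ins.push 0 [([2, -2, 2, -2, 0, 0, -2, 0, 0, 2, 0, -2, 0, 0, 0, 0, 0, 0, 0, 0, 0, 0, 2, 0] : List ℤ)],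
   Ins.push 0 [([2, 2, -2, 2, -2, 0, 0, -2, 0, 0, 2, 0, -2, 0, 0, 0, 0, 0, 0, 0, 0, 0, 0, 0] : List ℤ)],
   Ins.mark,
   Ins.pop,
   Ins.pop,
   Ins.pop,
   Ins.pop,
   Ins.pop,
   Ins.pop,
   Ins.pop,
   Ins.pop,
   Ins.pop,
   Ins.push 0 [([-2, 0, -2, 2, 0, 2, 2, -2, 2, 0, 0, 0, 0, 0, 0, 0, 0, 0, -2, 0, 0, 0, 0, 0] : List ℤ)],
   Ins.push 0 [([0, -2, 0, -2, 2, 0, 2, 2, -2, 2, 0, 0, 0, 0, 0, 0, 0, 0, 0, -2, 0, 0, 0, 0] : List ℤ)],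
   Ins.push 1 [([0, 2, 2, -2, 0, 2, 0, 0, 0, 0, 0, 0, 2, 0, 0, 0, -2, 0, -2, 0, 0, 0, -2, 0] : List ℤ)],
   Ins.push 1 [([0, 0, 0, -2, -2, 0, 2, 0, 2, 0, 0, 0, 0, -2, -2, 0, 0, 0, 2, 0, 0, 2, 0, 0] : List ℤ)],
   Ins.push 1 [([0, 2, -2, -2, 2, 0, 0, 0, 0, -2, 0, 0, 0, 0, 0, 0, 2, -2, 0, 0, 2, 0, 0, 0] : List ℤ)],
   Ins.push 0 [([0, 0, 2, -2, -2, 2, 0, 0, 0, 0, -2, 0, 0, 0, 0, 0, 0, 2, -2, 0, 0, 2, 0, 0] : List ℤ)],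
   Ins.push 0 [([0, 0, 0, 2, -2, -2, 2, 0, 0, 0, 0, -2, 0, 0, 0, 0, 0, 0, 2, -2, 0, 0, 2, 0] : List ℤ)],
   Ins.push 0 [([2, 0, 0, 0, 2, -2, -2, 2, 0, 0, 0, 0, -2, 0, 0, 0, 0, 0, 0, 2, -2, 0, 0, 0] : List ℤ)],
   Ins.push 1 [([2, -2, 2, 0, 0, 2, 0, 0, -2, 0, -2, 0, 0, 0, 0, 0, 0, 0, 0, 0, 0, -2, 2, 0] : List ℤ)],
   Ins.push 0 [([2, 2, -2, 2, 0, 0, 2, 0, 0, -2, 0, -2, 0, 0, 0, 0, 0, 0, 0, 0, 0, 0, -2, 0] : List ℤ)],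
   Ins.push 0 [([-2, 2, 2, -2, 2, 0, 0, 2, 0, 0, -2, 0, -2, 0, 0, 0, 0, 0, 0, 0, 0, 0, 0, 0] : List ℤ)],
   Ins.mark,
   Ins.pop,
   Ins.pop,
   Ins.pop,
   Ins.pop,
   Ins.pop,
   Ins.pop,
   Ins.pop,
   Ins.pop,
   Ins.push 0 [([-2, 0, 2, 2, -2, 0, 2, 0, 0, 0, 0, 0, 0, 2, 0, 0, 0, -2, 0, -2, 0, 0, 0, 0] : List ℤ)],
   Ins.push 1 [([-2, 2, -2, 2, 0, 0, 2, 0, 0, 2, 0, -2, 0, 0, 0, 0, 0, 0, 0, 0, 0, 0, -2, 0] : List ℤ)],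
   Ins.push 0 [([-2, -2, 2, -2, 2, 0, 0, 2, 0, 0, 2, 0, -2, 0, 0, 0, 0, 0, 0, 0, 0, 0, 0, 0] : List ℤ)],
   Ins.mark,
   Ins.pop,
   Ins.pop,
   Ins.pop,
   Ins.pop,
   Ins.pop,
   Ins.push 1 [([-2, 2, 0, 2, -2, -2, -2, 0, 0, 0, 0, 0, 0, 0, 0, 0, 2, 0, 0, 0, 0, 2, 0, 0] : List ℤ)],
   Ins.push 0 [([0, -2, 2, 0, 2, -2, -2, -2, 0, 0, 0, 0, 0, 0, 0, 0, 0, 2, 0, 0, 0, 0, 2, 0] : List ℤ)],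
   Ins.push 0 [([2, 0, -2, 2, 0, 2, -2, -2, -2, 0, 0, 0, 0, 0, 0, 0, 0, 0, 2, 0, 0, 0, 0, 0] : List ℤ)],
   Ins.push 1 [([2, -2, 0, 2, 2, -2, -2, 0, 0, 0, 0, 0, 0, 0, 0, 0, -2, 0, 0, 0, 0, 2, 0, 0] : List ℤ)],
   Ins.push 0 [([0, 2, -2, 0, 2, 2, -2, -2, 0, 0, 0, 0, 0, 0, 0, 0, 0, -2, 0, 0, 0, 0, 2, 0] : List ℤ)],
   Ins.push 0 [([2, 0, 2, -2, 0, 2, 2, -2, -2, 0, 0, 0, 0, 0, 0, 0, 0, 0, -2, 0, 0, 0, 0, 0] : List ℤ)],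
   Ins.push 1 [([2, 2, 0, -2, -2, -2, 2, 0, 0, 0, 0, 0, 0, 0, 0, 0, -2, 0, 0, 0, 0, 2, 0, 0] : List ℤ)],
   Ins.push 1 [([2, 2, -2, -2, 0, 0, 0, 0, 0, 0, 0, 0, 0, -2, 0, 0, 0, 0, 2, 0, 2, -2, 0, 0] : List ℤ)],
   Ins.push 1 [([2, 0, 0, -2, 2, 0, -2, 0, 0, -2, 2, 0, 0, 0, 0, 0, 0, 0, 2, 0, -2, 0, 0, 0] : List ℤ)],
   Ins.push 1 [([2, -2, 2, -2, 2, 0, 0, 2, 0, 0, -2, 0, -2, 0, 0, 0, 0, 0, 0, 0, 0, 0, 0, 0] : List ℤ)],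
   Ins.mark,
   Ins.pop,
   Ins.pop,
   Ins.pop,
   Ins.pop,
   Ins.push 0 [([0, 2, 0, 2, -2, 0, 2, 2, -2, -2, 0, 0, 0, 0, 0, 0, 0, 0, 0, -2, 0, 0, 0, 0] : List ℤ)],
   Ins.push 1 [([0, 2, -2, 2, 0, 2, 0, 0, 0, 0, 0, 0, -2, 0, 0, 0, -2, 0, 2, 0, 0, 0, -2, 0] : List ℤ)],
   Ins.push 0 [([-2, 0, 2, -2, 2, 0, 2, 0, 0, 0, 0, 0, 0, -2, 0, 0, 0, -2, 0, 2, 0, 0, 0, 0] : List ℤ)],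
   Ins.push 1 [([-2, 2, 2, -2, 0, 0, 2, 0, 0, -2, 0, -2, 0, 0, 0, 0, 0, 0, 0, 0, 0, 0, 2, 0] : List ℤ)],
   Ins.push 0 [([2, -2, 2, 2, -2, 0, 0, 2, 0, 0, -2, 0, -2, 0, 0, 0, 0, 0, 0, 0, 0, 0, 0, 0] : List ℤ)],
   Ins.mark,
   Ins.pop,
   Ins.pop,
   Ins.pop,
   Ins.pop,
   Ins.pop,
   Ins.pop,
   Ins.pop,
   Ins.push 1 [([2, -2, 2, 2, 0, 0, 0, 0, 0, 0, 0, 0, 0, -2, 0, 0, 0, 0, -2, 0, 2, -2, 0, 0] : List ℤ)],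
   Ins.push 1 [([2, 0, 0, 2, -2, 0, 2, 0, 0, -2, 2, 0, 0, 0, 0, 0, 0, 0, -2, 0, -2, 0, 0, 0] : List ℤ)],
   Ins.push 1 [([2, 2, -2, 2, -2, 0, 0, 2, 0, 0, -2, 0, -2, 0, 0, 0, 0, 0, 0, 0, 0, 0, 0, 0] : List ℤ)],
   Ins.mark,
   Ins.pop,
   Ins.pop,
   Ins.pop,
   Ins.pop,
   Ins.push 0 [([0, 2, 0, -2, 2, 0, 2, -2, -2, -2, 0, 0, 0, 0, 0, 0, 0, 0, 0, 2, 0, 0, 0, 0] : List ℤ)],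
   Ins.push 1 [([0, 2, 2, -2, 0, -2, 0, 0, 0, 0, 0, 0, -2, 0, 0, 0, -2, 0, 2, 0, 0, 0, 2, 0] : List ℤ)],
   Ins.push 0 [([2, 0, 2, 2, -2, 0, -2, 0, 0, 0, 0, 0, 0, -2, 0, 0, 0, -2, 0, 2, 0, 0, 0, 0] : List ℤ)],
   Ins.push 1 [([2, -2, -2, 2, 0, 0, 2, 0, 0, -2, 0, -2, 0, 0, 0, 0, 0, 0, 0, 0, 0, 0, 2, 0] : List ℤ)],
   Ins.push 0 [([2, 2, -2, -2, 2, 0, 0, 2, 0, 0, -2, 0, -2, 0, 0, 0, 0, 0, 0, 0, 0, 0, 0, 0] : List ℤ)],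
   Ins.mark,
   Ins.pop,
   Ins.pop,
   Ins.pop,
   Ins.pop,
   Ins.pop,
   Ins.pop,
   Ins.pop,
   Ins.push 1 [([-2, -2, -2, 2, 0, 0, 0, 0, 0, 0, 0, 0, 0, 2, 0, 0, 0, 0, 2, 0, 2, -2, 0, 0] : List ℤ)],
   Ins.push 0 [([0, -2, -2, -2, 2, 0, 0, 0, 0, 0, 0, 0, 0, 0, 2, 0, 0, 0, 0, 2, 0, 2, -2, 0] : List ℤ)],
   Ins.push 0 [([-2, 0, -2, -2, -2, 2, 0, 0, 0, 0, 0, 0, 0, 0, 0, 2, 0, 0, 0, 0, 2, 0, 2, 0] : List ℤ)],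
   Ins.push 1 [([-2, 0, -2, -2, 0, 0, -2, 0, 0, 0, 2, 0, 0, 0, 2, 2, 0, 0, 0, 0, 0, 2, 0, 0] : List ℤ)],
   Ins.push 1 [([-2, -2, 0, -2, 0, 0, -2, 2, 0, 0, 0, 0, 0, 0, 0, 2, 0, 2, 0, 0, 2, 0, 0, 0] : List ℤ)],
   Ins.push 0 [([0, -2, -2, 0, -2, 0, 0, -2, 2, 0, 0, 0, 0, 0, 0, 0, 2, 0, 2, 0, 0, 2, 0, 0] : List ℤ)],
   Ins.push 0 [([0, 0, -2, -2, 0, -2, 0, 0, -2, 2, 0, 0, 0, 0, 0, 0, 0, 2, 0, 2, 0, 0, 2, 0] : List ℤ)],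
   Ins.push 0 [([2, 0, 0, -2, -2, 0, -2, 0, 0, -2, 2, 0, 0, 0, 0, 0, 0, 0, 2, 0, 2, 0, 0, 0] : List ℤ)],
   Ins.push 1 [([2, -2, -2, -2, 2, 0, 0, 2, 0, 0, 2, 0, -2, 0, 0, 0, 0, 0, 0, 0, 0, 0, 0, 0] : List ℤ)],
   Ins.mark,
   Ins.pop,
   Ins.pop,
   Ins.pop,
   Ins.pop,
   Ins.pop,
   Ins.pop,
   Ins.push 0 [([2, -2, 0, -2, -2, -2, 2, 0, 0, 0, 0, 0, 0, 0, 0, 0, 2, 0, 0, 0, 0, 2, 0, 0] : List ℤ)],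
   Ins.push 1 [([2, 2, -2, -2, 0, 0, 0, 0, 0, 0, 0, 0, 0, 2, 0, 0, 0, 0, -2, 0, 2, -2, 0, 0] : List ℤ)],
   Ins.push 1 [([2, 0, 0, -2, -2, 0, -2, 0, 0, 2, 2, 0, 0, 0, 0, 0, 0, 0, 2, 0, -2, 0, 0, 0] : List ℤ)],
   Ins.push 1 [([2, -2, -2, -2, 2, 0, 0, 2, 0, 0, -2, 0, 2, 0, 0, 0, 0, 0, 0, 0, 0, 0, 0, 0] : List ℤ)],
   Ins.mark,
   Ins.pop,
   Ins.pop,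
   Ins.pop,
   Ins.pop,
   Ins.pop,
   Ins.push 1 [([0, 0, 2, -2, 0, 0, -2, 0, 0, 0, 0, 0, 0, 0, -2, 0, 0, 2, -2, 0, 2, 0, 2, 0] : List ℤ)],
   Ins.push 0 [([2, 0, 0, 2, -2, 0, 0, -2, 0, 0, 0, 0, 0, 0, 0, -2, 0, 0, 2, -2, 0, 2, 0, 0] : List ℤ)],
   Ins.push 1 [([2, 0, -2, 2, 2, -2, 0, 0, 0, 0, 0, 0, 0, 0, 0, -2, 0, 0, 0, 0, 2, 0, -2, 0] : List ℤ)],
   Ins.push 0 [([-2, 2, 0, -2, 2, 2, -2, 0, 0, 0, 0, 0, 0, 0, 0, 0, -2, 0, 0, 0, 0, 2, 0, 0] : List ℤ)],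
   Ins.push 1 [([-2, -2, 2, -2, 0, 0, 0, 0, 0, 0, 0, 0, 0, -2, 0, 0, 0, 0, 2, 0, 2, 2, 0, 0] : List ℤ)],
   Ins.push 1 [([-2, 0, 0, -2, 2, 0, 2, 0, 0, -2, 2, 0, 0, 0, 0, 0, 0, 0, -2, 0, 2, 0, 0, 0] : List ℤ)],
   Ins.push 1 [([-2, 2, 2, -2, -2, 0, 0, 2, 0, 0, 2, 0, -2, 0, 0, 0, 0, 0, 0, 0, 0, 0, 0, 0] : List ℤ)],
   Ins.mark,
   Ins.pop,
   Ins.pop,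
   Ins.pop,
   Ins.pop,
   Ins.pop,
   Ins.pop,
   Ins.pop,
   Ins.pop,
   Ins.push 1 [([-2, 0, 0, 2, 2, 0, -2, 0, 0, 2, 2, 0, 0, 0, 0, 0, 0, 0, -2, 0, -2, 0, 0, 0] : List ℤ)],
   Ins.push 0 [([0, -2, 0, 0, 2, 2, 0, -2, 0, 0, 2, 2, 0, 0, 0, 0, 0, 0, 0, -2, 0, -2, 0, 0] : List ℤ)],
   Ins.push 1 [([0, 0, 2, 0, 0, -2, 0, 2, 0, 0, 0, 0, 0, 0, 0, 0, 0, 0, -2, 2, -2, 2, -2, 0] : List ℤ)],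
   Ins.push 0 [([-2, 0, 0, 2, 0, 0, -2, 0, 2, 0, 0, 0, 0, 0, 0, 0, 0, 0, 0, -2, 2, -2, 2, 0] : List ℤ)],
   Ins.push 0 [([2, -2, 0, 0, 2, 0, 0, -2, 0, 2, 0, 0, 0, 0, 0, 0, 0, 0, 0, 0, -2, 2, -2, 0] : List ℤ)],
   Ins.push 0 [([-2, 2, -2, 0, 0, 2, 0, 0, -2, 0, 2, 0, 0, 0, 0, 0, 0, 0, 0, 0, 0, -2, 2, 0] : List ℤ)],
   Ins.push 0 [([2, -2, 2, -2, 0, 0, 2, 0, 0, -2, 0, 2, 0, 0, 0, 0, 0, 0, 0, 0, 0, 0, -2, 0] : List ℤ)],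
   Ins.push 0 [([-2, 2, -2, 2, -2, 0, 0, 2, 0, 0, -2, 0, 2, 0, 0, 0, 0, 0, 0, 0, 0, 0, 0, 0] : List ℤ)],
   Ins.mark,
   Ins.pop,
   Ins.pop,
   Ins.pop,
   Ins.pop,
   Ins.pop,
   Ins.pop,
   Ins.pop,
   Ins.push 1 [([-2, -2, 2, 2, -2, 0, 0, 2, 0, 0, -2, 0, 2, 0, 0, 0, 0, 0, 0, 0, 0, 0, 0, 0] : List ℤ)],
   Ins.mark,
   Ins.pop,
   Ins.pop,
   Ins.pop,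
   Ins.pop,
   Ins.pop,
   Ins.pop,
   Ins.pop,
   Ins.pop,
   Ins.push 0 [([0, -2, 2, 2, 2, 2, 0, 0, -2, 0, 0, -2, 0, -2, 0, 0, 0, 0, 0, 0, 0, 0, 0, 0] : List ℤ)],
   Ins.push 0 [([0, 0, -2, 2, 2, 2, 2, 0, 0, -2, 0, 0, -2, 0, -2, 0, 0, 0, 0, 0, 0, 0, 0, 0] : List ℤ)],
   Ins.push 1 [([0, 2, 2, 2, 0, 0, -2, 0, -2, 0, 0, 0, -2, 0, 0, 0, 0, -2, 0, 0, 0, 2, 0, 0] : List ℤ)],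
   Ins.push 1 [([0, -2, 0, 2, 0, 0, 2, 0, -2, 0, 0, -2, 0, 0, 0, 0, -2, 0, 2, 0, 2, 0, 0, 0] : List ℤ)],
   Ins.push 0 [([0, 0, -2, 0, 2, 0, 0, 2, 0, -2, 0, 0, -2, 0, 0, 0, 0, -2, 0, 2, 0, 2, 0, 0] : List ℤ)],
   Ins.push 0 [([0, 0, 0, -2, 0, 2, 0, 0, 2, 0, -2, 0, 0, -2, 0, 0, 0, 0, -2, 0, 2, 0, 2, 0] : List ℤ)],
   Ins.push 1 [([0, 0, 0, -2, -2, 0, 0, -2, 0, -2, 2, 0, 0, 0, 2, 0, 2, 0, 0, 0, 0, 2, 0, 0] : List ℤ)],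
   Ins.push 1 [([0, 0, -2, -2, 0, -2, 0, 2, 0, 0, 0, 0, -2, 2, 0, 0, 0, 2, 0, 0, 2, 0, 0, 0] : List ℤ)],
   Ins.push 0 [([0, 0, 0, -2, -2, 0, -2, 0, 2, 0, 0, 0, 0, -2, 2, 0, 0, 0, 2, 0, 0, 2, 0, 0] : List ℤ)],
   Ins.push 1 [([0, -2, -2, -2, 2, 0, 0, 0, 0, -2, 0, 0, 0, 0, 0, 0, 2, 2, 0, 0, 2, 0, 0, 0] : List ℤ)],
   Ins.push 1 [([0, 0, 2, -2, 0, 0, -2, 0, 0, 0, 2, 2, -2, 2, 0, 0, 0, 0, -2, 0, 0, 0, 0, 0] : List ℤ)],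
   Ins.push 0 [([0, 0, 0, 2, -2, 0, 0, -2, 0, 0, 0, 2, 2, -2, 2, 0, 0, 0, 0, -2, 0, 0, 0, 0] : List ℤ)],
   Ins.push 1 [([0, 0, -2, 2, 0, -2, 0, 0, 2, -2, 0, 0, 0, 0, 0, 0, 0, 2, 0, 2, 0, 0, -2, 0] : List ℤ)],
   Ins.push 0 [([-2, 0, 0, -2, 2, 0, -2, 0, 0, 2, -2, 0, 0, 0, 0, 0, 0, 0, 2, 0, 2, 0, 0, 0] : List ℤ)],
   Ins.push 1 [([-2, -2, 2, -2, 2, 0, 0, -2, 0, 0, 2, 0, 2, 0, 0, 0, 0, 0, 0, 0, 0, 0, 0, 0] : List ℤ)],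
   Ins.mark,
   Ins.pop,
   Ins.pop,
   Ins.pop,
   Ins.pop,
   Ins.pop,
   Ins.pop,
   Ins.pop,
   Ins.pop,
   Ins.pop,
   Ins.push 0 [([2, 0, 0, 0, -2, 0, 2, 0, 0, 2, 0, -2, 0, 0, -2, 0, 0, 0, 0, -2, 0, 2, 0, 0] : List ℤ)],
   Ins.push 1 [([2, 2, -2, 0, 0, 0, 0, 0, 0, 0, 0, 0, 2, 0, 0, 0, 0, -2, 0, -2, 2, 0, -2, 0] : List ℤ)],
   Ins.push 0 [([-2, 2, 2, -2, 0, 0, 0, 0, 0, 0, 0, 0, 0, 2, 0, 0, 0, 0, -2, 0, -2, 2, 0, 0] : List ℤ)],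
   Ins.push 1 [([-2, 0, 0, -2, -2, 0, 2, 0, 0, 2, -2, 0, 0, 0, 0, 0, 0, 0, 2, 0, 2, 0, 0, 0] : List ℤ)],
   Ins.push 1 [([-2, 2, -2, -2, 2, 0, 0, -2, 0, 0, 2, 0, 2, 0, 0, 0, 0, 0, 0, 0, 0, 0, 0, 0] : List ℤ)],
   Ins.mark,
   Ins.pop,
   Ins.pop,
   Ins.pop,
   Ins.pop,
   Ins.pop,
   Ins.pop,
   Ins.pop,
   Ins.push 1 [([0, 2, 0, 2, 2, 0, 0, 0, 0, 0, 2, 0, 0, -2, 0, 0, -2, 0, -2, -2, 0, 0, 0, 0] : List ℤ)],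
   Ins.push 1 [([0, 0, 2, 2, -2, 0, 0, 2, 0, -2, 0, 0, 0, -2, 0, 0, 0, 0, 2, 0, 0, 0, -2, 0] : List ℤ)],
   Ins.push 0 [([-2, 0, 0, 2, 2, -2, 0, 0, 2, 0, -2, 0, 0, 0, -2, 0, 0, 0, 0, 2, 0, 0, 0, 0] : List ℤ)],
   Ins.push 1 [([-2, 0, 2, 2, 0, 0, 0, -2, 0, 0, 0, 0, 0, 0, 0, 0, 2, -2, 0, 0, 0, -2, 2, 0] : List ℤ)],
   Ins.push 0 [([2, -2, 0, 2, 2, 0, 0, 0, -2, 0, 0, 0, 0, 0, 0, 0, 0, 2, -2, 0, 0, 0, -2, 0] : List ℤ)],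
   Ins.push 1 [([2, 0, 2, 2, -2, 0, 0, 0, 0, 0, 0, 2, 0, 0, -2, 0, -2, 0, -2, 0, 0, 0, 0, 0] : List ℤ)],
   Ins.push 1 [([2, 0, -2, 2, -2, 0, 2, 0, 0, 0, 0, 0, 0, -2, 0, 0, 0, -2, 0, 2, 0, 0, 0, 0] : List ℤ)],
   Ins.push 1 [([2, 2, -2, 2, 0, 0, -2, 0, 0, -2, 0, -2, 0, 0, 0, 0, 0, 0, 0, 0, 0, 0, 2, 0] : List ℤ)],
   Ins.push 0 [([2, 2, 2, -2, 2, 0, 0, -2, 0, 0, -2, 0, -2, 0, 0, 0, 0, 0, 0, 0, 0, 0, 0, 0] : List ℤ)],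
   Ins.mark,
   Ins.pop,
   Ins.pop,
   Ins.pop,
   Ins.pop,
   Ins.pop,
   Ins.pop,
   Ins.pop,
   Ins.pop,
   Ins.push 0 [([0, 0, 2, 0, 2, 2, 0, 0, 0, 0, 0, 2, 0, 0, -2, 0, 0, -2, 0, -2, -2, 0, 0, 0] : List ℤ)],
   Ins.push 0 [([0, 0, 0, 2, 0, 2, 2, 0, 0, 0, 0, 0, 2, 0, 0, -2, 0, 0, -2, 0, -2, -2, 0, 0] : List ℤ)],
   Ins.push 0 [([0, 0, 0, 0, 2, 0, 2, 2, 0, 0, 0, 0, 0, 2, 0, 0, -2, 0, 0, -2, 0, -2, -2, 0] : List ℤ)],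
   Ins.push 1 [([0, 2, 2, 0, 0, 2, 0, 0, 0, 2, 0, 0, 0, -2, -2, 0, 0, 0, 0, 0, -2, 0, -2, 0] : List ℤ)],
   Ins.push 0 [([-2, 0, 2, 2, 0, 0, 2, 0, 0, 0, 2, 0, 0, 0, -2, -2, 0, 0, 0, 0, 0, -2, 0, 0] : List ℤ)],
   Ins.push 1 [([-2, 2, 0, 2, 0, 0, 2, 2, 0, 0, 0, 0, 0, 0, 0, -2, 0, -2, 0, 0, -2, 0, 0, 0] : List ℤ)],
   Ins.push 0 [([0, -2, 2, 0, 2, 0, 0, 2, 2, 0, 0, 0, 0, 0, 0, 0, -2, 0, -2, 0, 0, -2, 0, 0] : List ℤ)],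
   Ins.push 0 [([0, 0, -2, 2, 0, 2, 0, 0, 2, 2, 0, 0, 0, 0, 0, 0, 0, -2, 0, -2, 0, 0, -2, 0] : List ℤ)],
   Ins.push 0 [([-2, 0, 0, -2, 2, 0, 2, 0, 0, 2, 2, 0, 0, 0, 0, 0, 0, 0, -2, 0, -2, 0, 0, 0] : List ℤ)],
   Ins.push 1 [([-2, 2, 2, -2, -2, 0, 0, 2, 0, 0, -2, 0, 2, 0, 0, 0, 0, 0, 0, 0, 0, 0, 0, 0] : List ℤ)],
   Ins.mark,
   Ins.pop,
   Ins.pop,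
   Ins.pop,
   Ins.pop,
   Ins.pop,
   Ins.pop,
   Ins.pop,
   Ins.pop,
   Ins.pop,
   Ins.pop,
   Ins.pop,
   Ins.pop,
   Ins.push 0 [([0, 0, 2, 2, 2, 0, 0, -2, 0, -2, 0, 0, 0, -2, 0, 0, 0, 0, -2, 0, 0, 0, 2, 0] : List ℤ)],
   Ins.push 1 [([0, 0, 2, 2, -2, -2, 2, 0, 0, -2, 0, 0, -2, 0, 2, 0, 0, 0, 0, 0, 0, 0, 0, 0] : List ℤ)],
   Ins.push 1 [([0, 2, -2, 2, 0, 0, 2, 0, -2, 0, 0, 0, -2, 0, 0, 0, 0, 2, 0, 0, 0, -2, 0, 0] : List ℤ)],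
   Ins.push 1 [([0, 2, 0, 2, 0, 0, -2, 0, -2, 0, 0, 2, 0, 0, 0, 0, -2, 0, 2, 0, -2, 0, 0, 0] : List ℤ)],
   Ins.push 0 [([0, 0, 2, 0, 2, 0, 0, -2, 0, -2, 0, 0, 2, 0, 0, 0, 0, -2, 0, 2, 0, -2, 0, 0] : List ℤ)],
   Ins.push 0 [([0, 0, 0, 2, 0, 2, 0, 0, -2, 0, -2, 0, 0, 2, 0, 0, 0, 0, -2, 0, 2, 0, -2, 0] : List ℤ)],
   Ins.push 0 [([-2, 0, 0, 0, 2, 0, 2, 0, 0, -2, 0, -2, 0, 0, 2, 0, 0, 0, 0, -2, 0, 2, 0, 0] : List ℤ)],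
   Ins.push 1 [([-2, 2, 2, 0, 0, 0, 0, 0, 0, 0, 0, 0, -2, 0, 0, 0, 0, 2, 0, -2, 2, 0, -2, 0] : List ℤ)],
   Ins.push 0 [([-2, -2, 2, 2, 0, 0, 0, 0, 0, 0, 0, 0, 0, -2, 0, 0, 0, 0, 2, 0, -2, 2, 0, 0] : List ℤ)],
   Ins.push 1 [([-2, 0, 0, 2, 2, 0, 2, 0, 0, -2, -2, 0, 0, 0, 0, 0, 0, 0, -2, 0, 2, 0, 0, 0] : List ℤ)],
   Ins.push 1 [([-2, 2, 2, 2, -2, 0, 0, -2, 0, 0, 2, 0, -2, 0, 0, 0, 0, 0, 0, 0, 0, 0, 0, 0] : List ℤ)],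
   Ins.mark,
   Ins.pop,
   Ins.pop,
   Ins.pop,
   Ins.pop,
   Ins.pop,
   Ins.pop,
   Ins.pop,
   Ins.pop,
   Ins.push 0 [([0, 0, 2, -2, 2, 0, 0, 2, 0, -2, 0, 0, 0, -2, 0, 0, 0, 0, 2, 0, 0, 0, -2, 0] : List ℤ)],
   Ins.push 0 [([-2, 0, 0, 2, -2, 2, 0, 0, 2, 0, -2, 0, 0, 0, -2, 0, 0, 0, 0, 2, 0, 0, 0, 0] : List ℤ)],
   Ins.push 1 [([-2, 0, -2, 2, 0, 0, 0, -2, 0, 0, 0, 0, 0, 0, 0, 0, 2, -2, 0, 0, 0, 2, 2, 0] : List ℤ)],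
   Ins.push 0 [([2, -2, 0, -2, 2, 0, 0, 0, -2, 0, 0, 0, 0, 0, 0, 0, 0, 2, -2, 0, 0, 0, 2, 0] : List ℤ)],
   Ins.push 1 [([2, 0, 2, -2, -2, 0, 0, 0, 0, 0, 0, 2, 0, 0, 2, 0, -2, 0, -2, 0, 0, 0, 0, 0] : List ℤ)],
   Ins.push 1 [([2, 0, -2, -2, -2, 0, 2, 0, 0, 0, 0, 0, 0, -2, 0, 0, 0, 2, 0, 2, 0, 0, 0, 0] : List ℤ)],
   Ins.push 1 [([2, 2, -2, -2, 0, 0, -2, 0, 0, -2, 0, 2, 0, 0, 0, 0, 0, 0, 0, 0, 0, 0, 2, 0] : List ℤ)],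
   Ins.push 0 [([2, 2, 2, -2, -2, 0, 0, -2, 0, 0, -2, 0, 2, 0, 0, 0, 0, 0, 0, 0, 0, 0, 0, 0] : List ℤ)],
   Ins.mark,
   Ins.pop,
   Ins.pop,
   Ins.pop,
   Ins.pop,
   Ins.pop,
   Ins.pop,
   Ins.pop,
   Ins.pop,
   Ins.pop,
   Ins.push 0 [([0, 0, 0, 2, 2, -2, -2, 2, 0, 0, -2, 0, 0, -2, 0, 2, 0, 0, 0, 0, 0, 0, 0, 0] : List ℤ)],
   Ins.push 1 [([0, -2, 2, 2, 0, 2, 0, -2, 0, -2, 0, 0, 0, 0, 0, 2, 0, 0, 0, 0, 0, -2, 0, 0] : List ℤ)],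
   Ins.push 0 [([0, 0, -2, 2, 2, 0, 2, 0, -2, 0, -2, 0, 0, 0, 0, 0, 2, 0, 0, 0, 0, 0, -2, 0] : List ℤ)],
   Ins.push 0 [([-2, 0, 0, -2, 2, 2, 0, 2, 0, -2, 0, -2, 0, 0, 0, 0, 0, 2, 0, 0, 0, 0, 0, 0] : List ℤ)],
   Ins.push 0 [([0, -2, 0, 0, -2, 2, 2, 0, 2, 0, -2, 0, -2, 0, 0, 0, 0, 0, 2, 0, 0, 0, 0, 0] : List ℤ)],
   Ins.push 1 [([0, 2, -2, 0, 2, 0, 0, -2, -2, 0, 0, 0, 0, 0, 0, 0, 2, 0, -2, 0, 0, 2, 0, 0] : List ℤ)],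
   Ins.push 0 [([0, 0, 2, -2, 0, 2, 0, 0, -2, -2, 0, 0, 0, 0, 0, 0, 0, 2, 0, -2, 0, 0, 2, 0] : List ℤ)],
   Ins.push 0 [([2, 0, 0, 2, -2, 0, 2, 0, 0, -2, -2, 0, 0, 0, 0, 0, 0, 0, 2, 0, -2, 0, 0, 0] : List ℤ)],
   Ins.push 1 [([2, 2, -2, 2, 2, 0, 0, -2, 0, 0, -2, 0, -2, 0, 0, 0, 0, 0, 0, 0, 0, 0, 0, 0] : List ℤ)],
   Ins.mark,
   Ins.pop,
   Ins.pop,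
   Ins.pop,
   Ins.pop,
   Ins.pop,
   Ins.pop,
   Ins.pop,
   Ins.pop,
   Ins.pop,
   Ins.pop,
   Ins.push 0 [([2, 0, 0, 2, 2, 2, 0, 0, -2, 0, -2, 0, 0, 0, -2, 0, 0, 0, 0, -2, 0, 0, 0, 0] : List ℤ)],
   Ins.push 1 [([2, 0, 2, 2, 0, 0, 0, -2, 0, 0, 0, 0, 0, 0, 0, 0, -2, -2, 0, 0, 0, 2, -2, 0] : List ℤ)],
   Ins.push 1 [([2, 0, 0, 2, 0, -2, 2, 0, 0, 0, 0, -2, 0, -2, -2, 0, 0, 0, 0, 0, 2, 0, 0, 0] : List ℤ)],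
   Ins.push 1 [([2, 2, 0, 2, 0, 0, 0, 0, 0, -2, 2, 0, 0, 0, 0, 0, 0, -2, 0, -2, 0, -2, 0, 0] : List ℤ)],
   Ins.push 0 [([0, 2, 2, 0, 2, 0, 0, 0, 0, 0, -2, 2, 0, 0, 0, 0, 0, 0, -2, 0, -2, 0, -2, 0] : List ℤ)],
   Ins.push 0 [([-2, 0, 2, 2, 0, 2, 0, 0, 0, 0, 0, -2, 2, 0, 0, 0, 0, 0, 0, -2, 0, -2, 0, 0] : List ℤ)],
   Ins.push 1 [([-2, 0, 0, 2, 0, 0, 2, 0, 2, 0, 0, 0, 0, 0, 0, 0, 0, 0, 0, -2, -2, 2, -2, 0] : List ℤ)],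
   Ins.push 0 [([-2, -2, 0, 0, 2, 0, 0, 2, 0, 2, 0, 0, 0, 0, 0, 0, 0, 0, 0, 0, -2, -2, 2, 0] : List ℤ)],
   Ins.push 0 [([2, -2, -2, 0, 0, 2, 0, 0, 2, 0, 2, 0, 0, 0, 0, 0, 0, 0, 0, 0, 0, -2, -2, 0] : List ℤ)],
   Ins.push 0 [([-2, 2, -2, -2, 0, 0, 2, 0, 0, 2, 0, 2, 0, 0, 0, 0, 0, 0, 0, 0, 0, 0, -2, 0] : List ℤ)],
   Ins.push 0 [([-2, -2, 2, -2, -2, 0, 0, 2, 0, 0, 2, 0, 2, 0, 0, 0, 0, 0, 0, 0, 0, 0, 0, 0] : List ℤ)],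
   Ins.mark,
   Ins.pop,
   Ins.pop,
   Ins.pop,
   Ins.pop,
   Ins.pop,
   Ins.pop,
   Ins.pop,
   Ins.pop,
   Ins.pop,
   Ins.push 0 [([-2, 2, 0, 2, 2, 0, 0, 0, -2, 0, 0, 0, 0, 0, 0, 0, 0, -2, -2, 0, 0, 0, 2, 0] : List ℤ)],
   Ins.push 1 [([-2, 0, 2, 2, -2, 0, 0, 0, 0, 0, 0, -2, 0, 0, 2, 0, -2, 0, 2, 0, 0, 0, 0, 0] : List ℤ)],
   Ins.push 1 [([-2, 0, -2, 2, 2, 0, 2, 0, 0, 0, 0, 0, 0, -2, 0, 0, 0, 2, 0, -2, 0, 0, 0, 0] : List ℤ)],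
   Ins.push 1 [([-2, 2, 2, 2, 0, 0, -2, 0, 0, -2, 0, 2, 0, 0, 0, 0, 0, 0, 0, 0, 0, 0, -2, 0] : List ℤ)],
   Ins.push 0 [([-2, -2, 2, 2, 2, 0, 0, -2, 0, 0, -2, 0, 2, 0, 0, 0, 0, 0, 0, 0, 0, 0, 0, 0] : List ℤ)],
   Ins.mark,
   Ins.pop,
   Ins.pop,
   Ins.pop,
   Ins.push 0 [([0, -2, 0, 2, 2, -2, 0, 0, 0, 0, 0, 0, -2, 0, 0, 2, 0, -2, 0, 2, 0, 0, 0, 0] : List ℤ)],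
   Ins.push 1 [([0, 0, 2, 2, 0, 0, 0, 0, -2, 0, 0, -2, 0, 0, 0, 2, 0, 0, -2, 0, 0, -2, 2, 0] : List ℤ)],
   Ins.push 1 [([0, 0, 0, 2, -2, 0, 2, 0, 0, 0, 0, 0, 0, 0, 2, 2, -2, 0, 0, -2, -2, 0, 0, 0] : List ℤ)],
   Ins.push 1 [([0, 2, -2, 2, 0, 0, 0, 0, 0, 0, -2, 0, 0, -2, 0, 2, 0, 2, 0, 0, 0, 0, -2, 0] : List ℤ)],
   Ins.push 0 [([-2, 0, 2, -2, 2, 0, 0, 0, 0, 0, 0, -2, 0, 0, -2, 0, 2, 0, 2, 0, 0, 0, 0, 0] : List ℤ)],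
   Ins.push 1 [([-2, 0, 2, -2, 2, 0, 2, 0, 0, 0, 0, 0, 0, 2, 0, 0, 0, -2, 0, -2, 0, 0, 0, 0] : List ℤ)],
   Ins.push 1 [([-2, 2, 2, -2, 0, 0, 2, 0, 0, 2, 0, -2, 0, 0, 0, 0, 0, 0, 0, 0, 0, 0, -2, 0] : List ℤ)],
   Ins.push 0 [([-2, -2, 2, 2, -2, 0, 0, 2, 0, 0, 2, 0, -2, 0, 0, 0, 0, 0, 0, 0, 0, 0, 0, 0] : List ℤ)],
   Ins.mark,
   Ins.pop,
   Ins.pop,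
   Ins.pop,
   Ins.pop,
   Ins.pop,
   Ins.pop,
   Ins.pop,
   Ins.pop,
   Ins.pop,
   Ins.pop,
   Ins.pop,
   Ins.pop,
   Ins.pop,
   Ins.pop,
   Ins.push 0 [([0, 0, 0, -2, 2, 2, 2, 2, 0, 0, -2, 0, 0, -2, 0, -2, 0, 0, 0, 0, 0, 0, 0, 0] : List ℤ)],
   Ins.push 0 [([0, 0, 0, 0, -2, 2, 2, 2, 2, 0, 0, -2, 0, 0, -2, 0, -2, 0, 0, 0, 0, 0, 0, 0] : List ℤ)],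
   Ins.push 0 [([0, 0, 0, 0, 0, -2, 2, 2, 2, 2, 0, 0, -2, 0, 0, -2, 0, -2, 0, 0, 0, 0, 0, 0] : List ℤ)],
   Ins.push 1 [([0, 2, 0, 0, 0, 2, 0, 0, -2, 0, 0, -2, 2, 0, 0, -2, 2, 0, 0, 0, 0, -2, 0, 0] : List ℤ)],
   Ins.push 0 [([0, 0, 2, 0, 0, 0, 2, 0, 0, -2, 0, 0, -2, 2, 0, 0, -2, 2, 0, 0, 0, 0, -2, 0] : List ℤ)],
   Ins.push 0 [([-2, 0, 0, 2, 0, 0, 0, 2, 0, 0, -2, 0, 0, -2, 2, 0, 0, -2, 2, 0, 0, 0, 0, 0] : List ℤ)],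
   Ins.push 1 [([-2, 0, 0, 2, 2, 2, 0, -2, 0, -2, 0, -2, 0, 0, 0, 0, 0, 2, 0, 0, 0, 0, 0, 0] : List ℤ)],
   Ins.push 1 [([-2, 0, 2, 2, 0, -2, 0, 0, 0, 0, 0, 2, -2, 0, 0, 0, 0, 0, 0, -2, 0, 2, 0, 0] : List ℤ)],
   Ins.push 1 [([-2, 0, 0, 2, 0, 0, 2, 0, -2, 0, 0, 0, 0, 0, 0, 0, 0, 0, 0, 2, 2, -2, -2, 0] : List ℤ)],
   Ins.push 0 [([-2, -2, 0, 0, 2, 0, 0, 2, 0, -2, 0, 0, 0, 0, 0, 0, 0, 0, 0, 0, 2, 2, -2, 0] : List ℤ)],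
   Ins.push 0 [([-2, -2, -2, 0, 0, 2, 0, 0, 2, 0, -2, 0, 0, 0, 0, 0, 0, 0, 0, 0, 0, 2, 2, 0] : List ℤ)],
   Ins.push 0 [([2, -2, -2, -2, 0, 0, 2, 0, 0, 2, 0, -2, 0, 0, 0, 0, 0, 0, 0, 0, 0, 0, 2, 0] : List ℤ)],
   Ins.push 0 [([2, 2, -2, -2, -2, 0, 0, 2, 0, 0, 2, 0, -2, 0, 0, 0, 0, 0, 0, 0, 0, 0, 0, 0] : List ℤ)],
   Ins.mark,
   Ins.pop,
   Ins.pop,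
   Ins.pop,
   Ins.pop,
   Ins.pop,
   Ins.pop,
   Ins.pop,
   Ins.pop,
   Ins.pop,
   Ins.push 1 [([0, 0, 0, 0, 0, 0, 0, 0, 2, 0, 0, 0, 0, 2, 0, -2, -2, 0, 2, -2, -2, 2, 0, 0] : List ℤ)],
   Ins.push 0 [([0, 0, 0, 0, 0, 0, 0, 0, 0, 2, 0, 0, 0, 0, 2, 0, -2, -2, 0, 2, -2, -2, 2, 0] : List ℤ)],
   Ins.push 0 [([2, 0, 0, 0, 0, 0, 0, 0, 0, 0, 2, 0, 0, 0, 0, 2, 0, -2, -2, 0, 2, -2, -2, 0] : List ℤ)],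
   Ins.push 0 [([-2, 2, 0, 0, 0, 0, 0, 0, 0, 0, 0, 2, 0, 0, 0, 0, 2, 0, -2, -2, 0, 2, -2, 0] : List ℤ)],
   Ins.push 0 [([-2, -2, 2, 0, 0, 0, 0, 0, 0, 0, 0, 0, 2, 0, 0, 0, 0, 2, 0, -2, -2, 0, 2, 0] : List ℤ)],
   Ins.push 0 [([2, -2, -2, 2, 0, 0, 0, 0, 0, 0, 0, 0, 0, 2, 0, 0, 0, 0, 2, 0, -2, -2, 0, 0] : List ℤ)],
   Ins.push 1 [([2, 0, 0, 2, 2, 0, -2, 0, 0, 2, -2, 0, 0, 0, 0, 0, 0, 0, -2, 0, -2, 0, 0, 0] : List ℤ)],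
   Ins.push 1 [([2, -2, 2, 2, -2, 0, 0, -2, 0, 0, -2, 0, 2, 0, 0, 0, 0, 0, 0, 0, 0, 0, 0, 0] : List ℤ)],
   Ins.mark,
   Ins.pop,
   Ins.pop,
   Ins.pop,
   Ins.pop,
   Ins.pop,
   Ins.pop,
   Ins.pop,
   Ins.pop,
   Ins.pop,
   Ins.pop,
   Ins.push 1 [([0, 2, -2, 0, 0, 2, 0, 0, 0, 0, 0, 0, 0, -2, 0, 0, 2, -2, 0, -2, 0, 2, 0, 0] : List ℤ)],
   Ins.push 0 [([0, 0, 2, -2, 0, 0, 2, 0, 0, 0, 0, 0, 0, 0, -2, 0, 0, 2, -2, 0, -2, 0, 2, 0] : List ℤ)],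
   Ins.push 0 [([2, 0, 0, 2, -2, 0, 0, 2, 0, 0, 0, 0, 0, 0, 0, -2, 0, 0, 2, -2, 0, -2, 0, 0] : List ℤ)],
   Ins.push 0 [([0, 2, 0, 0, 2, -2, 0, 0, 2, 0, 0, 0, 0, 0, 0, 0, -2, 0, 0, 2, -2, 0, -2, 0] : List ℤ)],
   Ins.push 1 [([0, 0, 2, 0, 0, 0, 0, 0, 0, 0, -2, 0, 0, -2, -2, 0, 2, 0, 2, 0, 0, -2, 2, 0] : List ℤ)],
   Ins.push 1 [([0, 0, 0, 0, 2, 0, 2, -2, 0, -2, 0, 0, 0, 2, 2, 0, 0, -2, 0, 0, -2, 0, 0, 0] : List ℤ)],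
   Ins.push 1 [([0, 2, 2, 0, 0, -2, 0, 0, 0, 2, -2, -2, -2, 0, 0, 0, 0, 2, 0, 0, 0, 0, 0, 0] : List ℤ)],
   Ins.push 0 [([0, 0, 2, 2, 0, 0, -2, 0, 0, 0, 2, -2, -2, -2, 0, 0, 0, 0, 2, 0, 0, 0, 0, 0] : List ℤ)],
   Ins.push 0 [([0, 0, 0, 2, 2, 0, 0, -2, 0, 0, 0, 2, -2, -2, -2, 0, 0, 0, 0, 2, 0, 0, 0, 0] : List ℤ)],
   Ins.push 1 [([0, 0, 2, 2, 0, -2, 0, 0, -2, -2, 0, 0, 0, 0, 0, 0, 0, -2, 0, 2, 0, 0, 2, 0] : List ℤ)],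
   Ins.push 0 [([2, 0, 0, 2, 2, 0, -2, 0, 0, -2, -2, 0, 0, 0, 0, 0, 0, 0, -2, 0, 2, 0, 0, 0] : List ℤ)],
   Ins.push 1 [([2, -2, 2, 2, -2, 0, 0, -2, 0, 0, 2, 0, -2, 0, 0, 0, 0, 0, 0, 0, 0, 0, 0, 0] : List ℤ)],
   Ins.mark,
   Ins.pop,
   Ins.pop,
   Ins.pop,
   Ins.pop,
   Ins.pop,
   Ins.pop,
   Ins.pop,
   Ins.pop,
   Ins.pop,
   Ins.push 1 [([2, 0, -2, 2, 2, 2, 0, 0, 0, 0, 0, 0, 0, 0, 0, -2, 0, 0, 0, 0, -2, 0, -2, 0] : List ℤ)],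
   Ins.push 0 [([-2, 2, 0, -2, 2, 2, 2, 0, 0, 0, 0, 0, 0, 0, 0, 0, -2, 0, 0, 0, 0, -2, 0, 0] : List ℤ)],
   Ins.push 1 [([-2, 2, 2, -2, 0, 0, 0, 0, 0, 0, 0, 0, 0, -2, 0, 0, 0, 0, 2, 0, -2, 2, 0, 0] : List ℤ)],
   Ins.push 1 [([-2, 0, 0, -2, 2, 0, 2, 0, 0, -2, -2, 0, 0, 0, 0, 0, 0, 0, 2, 0, 2, 0, 0, 0] : List ℤ)],
   Ins.push 1 [([-2, 2, 2, -2, 2, 0, 0, -2, 0, 0, 2, 0, -2, 0, 0, 0, 0, 0, 0, 0, 0, 0, 0, 0] : List ℤ)],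
   Ins.mark,
   Ins.pop,
   Ins.pop,
   Ins.pop,
   Ins.pop,
   Ins.push 1 [([2, 0, 2, 2, 0, 0, -2, 0, 0, 0, -2, 0, 0, 0, -2, -2, 0, 0, 0, 0, 0, 2, 0, 0] : List ℤ)],
   Ins.push 1 [([2, -2, 0, 2, 0, 0, 2, -2, 0, 0, 0, 0, 0, 0, 0, -2, 0, -2, 0, 0, 2, 0, 0, 0] : List ℤ)],
   Ins.push 0 [([0, 2, -2, 0, 2, 0, 0, 2, -2, 0, 0, 0, 0, 0, 0, 0, -2, 0, -2, 0, 0, 2, 0, 0] : List ℤ)],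
   Ins.push 0 [([0, 0, 2, -2, 0, 2, 0, 0, 2, -2, 0, 0, 0, 0, 0, 0, 0, -2, 0, -2, 0, 0, 2, 0] : List ℤ)],
   Ins.push 0 [([2, 0, 0, 2, -2, 0, 2, 0, 0, 2, -2, 0, 0, 0, 0, 0, 0, 0, -2, 0, -2, 0, 0, 0] : List ℤ)],
   Ins.push 1 [([2, 2, -2, 2, -2, 0, 0, -2, 0, 0, -2, 0, 2, 0, 0, 0, 0, 0, 0, 0, 0, 0, 0, 0] : List ℤ)],
   Ins.mark,
   Ins.pop,
   Ins.pop,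
   Ins.pop,
   Ins.pop,
   Ins.pop,
   Ins.pop,
   Ins.pop,
   Ins.pop,
   Ins.push 1 [([0, 2, 0, -2, -2, 0, 2, 0, 0, 0, -2, 2, 0, 0, 2, 0, 0, -2, 0, 0, 0, 0, 0, 0] : List ℤ)],
   Ins.push 0 [([0, 0, 2, 0, -2, -2, 0, 2, 0, 0, 0, -2, 2, 0, 0, 2, 0, 0, -2, 0, 0, 0, 0, 0] : List ℤ)],
   Ins.push 0 [([0, 0, 0, 2, 0, -2, -2, 0, 2, 0, 0, 0, -2, 2, 0, 0, 2, 0, 0, -2, 0, 0, 0, 0] : List ℤ)],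
   Ins.push 0 [([0, 0, 0, 0, 2, 0, -2, -2, 0, 2, 0, 0, 0, -2, 2, 0, 0, 2, 0, 0, -2, 0, 0, 0] : List ℤ)],
   Ins.push 1 [([0, -2, 2, 0, 0, -2, 0, 0, 0, -2, -2, 2, 2, 0, 0, 0, 0, 2, 0, 0, 0, 0, 0, 0] : List ℤ)],
   Ins.push 0 [([0, 0, -2, 2, 0, 0, -2, 0, 0, 0, -2, -2, 2, 2, 0, 0, 0, 0, 2, 0, 0, 0, 0, 0] : List ℤ)],
   Ins.push 0 [([0, 0, 0, -2, 2, 0, 0, -2, 0, 0, 0, -2, -2, 2, 2, 0, 0, 0, 0, 2, 0, 0, 0, 0] : List ℤ)],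
   Ins.push 1 [([0, 0, 2, -2, 0, -2, 0, 0, -2, 2, 0, 0, 0, 0, 0, 0, 0, 2, 0, -2, 0, 0, 2, 0] : List ℤ)],
   Ins.push 0 [([2, 0, 0, 2, -2, 0, -2, 0, 0, -2, 2, 0, 0, 0, 0, 0, 0, 0, 2, 0, -2, 0, 0, 0] : List ℤ)],
   Ins.push 1 [([2, -2, -2, 2, 2, 0, 0, 2, 0, 0, -2, 0, -2, 0, 0, 0, 0, 0, 0, 0, 0, 0, 0, 0] : List ℤ)],
   Ins.mark,
   Ins.pop,
   Ins.pop,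
   Ins.pop,
   Ins.pop,
   Ins.pop,
   Ins.pop,
   Ins.pop,
   Ins.pop,
   Ins.pop,
   Ins.push 1 [([0, 2, -2, -2, 0, 0, 0, -2, 0, 0, 0, -2, 0, 0, 0, 0, 0, 2, 2, 2, 0, 0, 0, 0] : List ℤ)],
   Ins.push 1 [([0, 0, 0, -2, 2, -2, -2, 0, 0, 0, 0, 2, 0, 0, 0, 0, 0, 0, 2, -2, 0, 0, 2, 0] : List ℤ)],
   Ins.push 0 [([2, 0, 0, 0, -2, 2, -2, -2, 0, 0, 0, 0, 2, 0, 0, 0, 0, 0, 0, 2, -2, 0, 0, 0] : List ℤ)],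
   Ins.push 1 [([2, -2, -2, 0, 0, -2, 0, 0, 2, 0, -2, 0, 0, 0, 0, 0, 0, 0, 0, 0, 0, 2, 2, 0] : List ℤ)],
   Ins.push 0 [([2, 2, -2, -2, 0, 0, -2, 0, 0, 2, 0, -2, 0, 0, 0, 0, 0, 0, 0, 0, 0, 0, 2, 0] : List ℤ)],
   Ins.push 0 [([2, 2, 2, -2, -2, 0, 0, -2, 0, 0, 2, 0, -2, 0, 0, 0, 0, 0, 0, 0, 0, 0, 0, 0] : List ℤ)],
   Ins.mark,
   Ins.pop,
   Ins.pop,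
   Ins.pop,
   Ins.pop,
   Ins.push 1 [([0, -2, 2, -2, 2, 0, 0, 0, 0, 0, 0, 0, 0, 0, 2, 0, 0, 0, 0, 2, 0, -2, -2, 0] : List ℤ)],
   Ins.push 0 [([-2, 0, -2, 2, -2, 2, 0, 0, 0, 0, 0, 0, 0, 0, 0, 2, 0, 0, 0, 0, 2, 0, -2, 0] : List ℤ)],
   Ins.push 0 [([-2, -2, 0, -2, 2, -2, 2, 0, 0, 0, 0, 0, 0, 0, 0, 0, 2, 0, 0, 0, 0, 2, 0, 0] : List ℤ)],
   Ins.push 1 [([-2, 2, 2, -2, 0, 0, 0, 0, 0, 0, 0, 0, 0, 2, 0, 0, 0, 0, -2, 0, 2, -2, 0, 0] : List ℤ)],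
   Ins.push 1 [([-2, 0, 0, -2, -2, 0, 2, 0, 0, 2, 2, 0, 0, 0, 0, 0, 0, 0, 2, 0, -2, 0, 0, 0] : List ℤ)],
   Ins.push 1 [([-2, 2, -2, -2, 2, 0, 0, 2, 0, 0, -2, 0, 2, 0, 0, 0, 0, 0, 0, 0, 0, 0, 0, 0] : List ℤ)],
   Ins.mark,
   Ins.pop,
   Ins.pop,
   Ins.pop,
   Ins.pop,
   Ins.pop,
   Ins.pop,
   Ins.pop,
   Ins.pop,
   Ins.pop,
   Ins.pop,
   Ins.pop,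
   Ins.pop,
   Ins.push 1 [([0, 2, 2, -2, 0, 2, 0, -2, 0, -2, 0, 0, 0, 0, 0, -2, 0, 0, 0, 0, 0, 2, 0, 0] : List ℤ)],
   Ins.push 0 [([0, 0, 2, 2, -2, 0, 2, 0, -2, 0, -2, 0, 0, 0, 0, 0, -2, 0, 0, 0, 0, 0, 2, 0] : List ℤ)],
   Ins.push 0 [([2, 0, 0, 2, 2, -2, 0, 2, 0, -2, 0, -2, 0, 0, 0, 0, 0, -2, 0, 0, 0, 0, 0, 0] : List ℤ)],
   Ins.push 0 [([0, 2, 0, 0, 2, 2, -2, 0, 2, 0, -2, 0, -2, 0, 0, 0, 0, 0, -2, 0, 0, 0, 0, 0] : List ℤ)],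
   Ins.push 1 [([0, -2, 2, 0, -2, 0, 0, -2, -2, 0, 0, 0, 0, 0, 0, 0, 2, 0, 2, 0, 0, 2, 0, 0] : List ℤ)],
   Ins.push 0 [([0, 0, -2, 2, 0, -2, 0, 0, -2, -2, 0, 0, 0, 0, 0, 0, 0, 2, 0, 2, 0, 0, 2, 0] : List ℤ)],
   Ins.push 0 [([2, 0, 0, -2, 2, 0, -2, 0, 0, -2, -2, 0, 0, 0, 0, 0, 0, 0, 2, 0, 2, 0, 0, 0] : List ℤ)],
   Ins.push 1 [([2, -2, 2, -2, 2, 0, 0, -2, 0, 0, 2, 0, -2, 0, 0, 0, 0, 0, 0, 0, 0, 0, 0, 0] : List ℤ)],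
   Ins.mark,
   Ins.pop,
   Ins.pop,
   Ins.pop,
   Ins.pop,
   Ins.pop,
   Ins.pop,
   Ins.pop,
   Ins.push 1 [([0, 0, 0, -2, 0, -2, 2, 0, 0, 0, 0, 0, -2, 0, 0, -2, 0, 0, 2, 0, 2, 2, 0, 0] : List ℤ)],
   Ins.push 0 [([0, 0, 0, 0, -2, 0, -2, 2, 0, 0, 0, 0, 0, -2, 0, 0, -2, 0, 0, 2, 0, 2, 2, 0] : List ℤ)],
   Ins.push 1 [([0, -2, -2, 0, 0, 2, 0, 0, 0, -2, 0, 0, 0, -2, 2, 0, 0, 0, 0, 0, 2, 0, 2, 0] : List ℤ)],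
   Ins.push 0 [([2, 0, -2, -2, 0, 0, 2, 0, 0, 0, -2, 0, 0, 0, -2, 2, 0, 0, 0, 0, 0, 2, 0, 0] : List ℤ)],
   Ins.push 1 [([2, 2, 0, -2, 0, 0, -2, -2, 0, 0, 0, 0, 0, 0, 0, 2, 0, -2, 0, 0, 2, 0, 0, 0] : List ℤ)],
   Ins.push 0 [([0, 2, 2, 0, -2, 0, 0, -2, -2, 0, 0, 0, 0, 0, 0, 0, 2, 0, -2, 0, 0, 2, 0, 0] : List ℤ)],
   Ins.push 0 [([0, 0, 2, 2, 0, -2, 0, 0, -2, -2, 0, 0, 0, 0, 0, 0, 0, 2, 0, -2, 0, 0, 2, 0] : List ℤ)],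
   Ins.push 0 [([2, 0, 0, 2, 2, 0, -2, 0, 0, -2, -2, 0, 0, 0, 0, 0, 0, 0, 2, 0, -2, 0, 0, 0] : List ℤ)],
   Ins.push 1 [([2, -2, 2, 2, 2, 0, 0, -2, 0, 0, -2, 0, -2, 0, 0, 0, 0, 0, 0, 0, 0, 0, 0, 0] : List ℤ)],
   Ins.mark,
   Ins.pop,
   Ins.pop,
   Ins.pop,
   Ins.pop,
   Ins.pop,
   Ins.pop,
   Ins.pop,
   Ins.pop,
   Ins.push 1 [([0, 2, 0, -2, 2, 0, 0, 0, -2, 0, 2, 0, 0, 0, 0, -2, 0, 0, 0, 0, 2, -2, 0, 0] : List ℤ)],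
   Ins.push 1 [([0, 0, 2, -2, 0, 0, 0, 2, 0, 0, 2, 0, 0, 0, 0, -2, -2, 0, 2, 0, -2, 0, 0, 0] : List ℤ)],
   Ins.push 0 [([0, 0, 0, 2, -2, 0, 0, 0, 2, 0, 0, 2, 0, 0, 0, 0, -2, -2, 0, 2, 0, -2, 0, 0] : List ℤ)],
   Ins.push 0 [([0, 0, 0, 0, 2, -2, 0, 0, 0, 2, 0, 0, 2, 0, 0, 0, 0, -2, -2, 0, 2, 0, -2, 0] : List ℤ)],
   Ins.push 0 [([-2, 0, 0, 0, 0, 2, -2, 0, 0, 0, 2, 0, 0, 2, 0, 0, 0, 0, -2, -2, 0, 2, 0, 0] : List ℤ)],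
   Ins.push 1 [([-2, -2, 0, 0, -2, 0, 0, 2, 0, 2, 0, 0, 0, 0, 0, 0, 0, 0, 0, 0, 2, 2, -2, 0] : List ℤ)],
   Ins.push 0 [([-2, -2, -2, 0, 0, -2, 0, 0, 2, 0, 2, 0, 0, 0, 0, 0, 0, 0, 0, 0, 0, 2, 2, 0] : List ℤ)],
   Ins.push 0 [([2, -2, -2, -2, 0, 0, -2, 0, 0, 2, 0, 2, 0, 0, 0, 0, 0, 0, 0, 0, 0, 0, 2, 0] : List ℤ)],
   Ins.push 0 [([2, 2, -2, -2, -2, 0, 0, -2, 0, 0, 2, 0, 2, 0, 0, 0, 0, 0, 0, 0, 0, 0, 0, 0] : List ℤ)],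
   Ins.mark,
   Ins.pop,
   Ins.pop,
   Ins.pop,
   Ins.pop,
   Ins.pop,
   Ins.pop,
   Ins.pop,
   Ins.pop,
   Ins.push 0 [([0, 0, 2, 0, -2, 2, 0, 0, 0, -2, 0, 2, 0, 0, 0, 0, -2, 0, 0, 0, 0, 2, -2, 0] : List ℤ)],
   Ins.push 1 [([0, 0, -2, 0, 0, 0, 2, 0, 0, 0, 0, 0, -2, -2, -2, 0, 0, 0, 0, 2, 2, 2, 0, 0] : List ℤ)],
   Ins.push 1 [([0, 2, 0, 0, 0, 0, -2, 0, -2, -2, 2, 0, 0, 0, 0, 0, 0, -2, 0, 0, 2, 0, 2, 0] : List ℤ)],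
   Ins.push 0 [([2, 0, 2, 0, 0, 0, 0, -2, 0, -2, -2, 2, 0, 0, 0, 0, 0, 0, -2, 0, 0, 2, 0, 0] : List ℤ)],
   Ins.push 1 [([2, 0, 0, 0, -2, -2, 2, -2, 0, 0, 0, 0, -2, 0, 0, 0, 0, 0, 0, 2, 2, 0, 0, 0] : List ℤ)],
   Ins.push 1 [([2, 2, -2, 0, 0, -2, 0, 0, -2, 0, 2, 0, 0, 0, 0, 0, 0, 0, 0, 0, 0, -2, 2, 0] : List ℤ)],
   Ins.push 0 [([2, 2, 2, -2, 0, 0, -2, 0, 0, -2, 0, 2, 0, 0, 0, 0, 0, 0, 0, 0, 0, 0, -2, 0] : List ℤ)],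
   Ins.push 0 [([-2, 2, 2, 2, -2, 0, 0, -2, 0, 0, -2, 0, 2, 0, 0, 0, 0, 0, 0, 0, 0, 0, 0, 0] : List ℤ)],
   Ins.mark,
   Ins.pop,
   Ins.pop,
   Ins.pop,
   Ins.pop,
   Ins.pop,
   Ins.pop,
   Ins.pop,
   Ins.pop,
   Ins.pop,
   Ins.pop,
   Ins.pop,
   Ins.pop,
   Ins.pop,
   Ins.push 1 [([0, 0, 2, 2, 0, 0, 2, 0, 0, -2, 0, 0, 0, 0, 0, 0, -2, 0, -2, -2, 0, 2, 0, 0] : List ℤ)],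
   Ins.push 0 [([0, 0, 0, 2, 2, 0, 0, 2, 0, 0, -2, 0, 0, 0, 0, 0, 0, -2, 0, -2, -2, 0, 2, 0] : List ℤ)],
   Ins.push 0 [([2, 0, 0, 0, 2, 2, 0, 0, 2, 0, 0, -2, 0, 0, 0, 0, 0, 0, -2, 0, -2, -2, 0, 0] : List ℤ)],
   Ins.push 0 [([0, 2, 0, 0, 0, 2, 2, 0, 0, 2, 0, 0, -2, 0, 0, 0, 0, 0, 0, -2, 0, -2, -2, 0] : List ℤ)],
   Ins.push 1 [([0, 2, 0, 0, 0, 0, 0, 0, -2, 0, 0, 0, 2, 0, -2, 0, 0, 0, 2, 0, -2, 2, -2, 0] : List ℤ)],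
   Ins.push 0 [([-2, 0, 2, 0, 0, 0, 0, 0, 0, -2, 0, 0, 0, 2, 0, -2, 0, 0, 0, 2, 0, -2, 2, 0] : List ℤ)],
   Ins.push 0 [([2, -2, 0, 2, 0, 0, 0, 0, 0, 0, -2, 0, 0, 0, 2, 0, -2, 0, 0, 0, 2, 0, -2, 0] : List ℤ)],
   Ins.push 0 [([-2, 2, -2, 0, 2, 0, 0, 0, 0, 0, 0, -2, 0, 0, 0, 2, 0, -2, 0, 0, 0, 2, 0, 0] : List ℤ)],
   Ins.push 0 [([0, -2, 2, -2, 0, 2, 0, 0, 0, 0, 0, 0, -2, 0, 0, 0, 2, 0, -2, 0, 0, 0, 2, 0] : List ℤ)],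
   Ins.push 0 [([2, 0, -2, 2, -2, 0, 2, 0, 0, 0, 0, 0, 0, -2, 0, 0, 0, 2, 0, -2, 0, 0, 0, 0] : List ℤ)],
   Ins.push 1 [([2, 2, -2, 2, 0, 0, -2, 0, 0, -2, 0, 2, 0, 0, 0, 0, 0, 0, 0, 0, 0, 0, -2, 0] : List ℤ)],
   Ins.push 0 [([-2, 2, 2, -2, 2, 0, 0, -2, 0, 0, -2, 0, 2, 0, 0, 0, 0, 0, 0, 0, 0, 0, 0, 0] : List ℤ)],
   Ins.mark,
   Ins.pop,
   Ins.pop,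
   Ins.pop,
   Ins.pop,
   Ins.pop,
   Ins.pop,
   Ins.pop,
   Ins.pop,
   Ins.pop,
   Ins.pop,
   Ins.push 1 [([0, 0, 2, 2, 0, 2, 0, -2, 0, 0, -2, -2, 0, 0, 2, 0, 0, 0, 0, 0, 0, 0, -2, 0] : List ℤ)],
   Ins.push 0 [([-2, 0, 0, 2, 2, 0, 2, 0, -2, 0, 0, -2, -2, 0, 0, 2, 0, 0, 0, 0, 0, 0, 0, 0] : List ℤ)],
   Ins.push 1 [([-2, 2, 2, 2, 0, 0, 0, 0, -2, 0, 0, 0, 0, 0, 0, 2, -2, 0, 0, -2, 0, 0, 0, 0] : List ℤ)],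
   Ins.push 0 [([0, -2, 2, 2, 2, 0, 0, 0, 0, -2, 0, 0, 0, 0, 0, 0, 2, -2, 0, 0, -2, 0, 0, 0] : List ℤ)],
   Ins.push 1 [([0, 0, 2, 2, 0, 0, 2, 0, 0, 0, -2, -2, -2, 2, 0, 0, 0, 0, -2, 0, 0, 0, 0, 0] : List ℤ)],
   Ins.push 1 [([0, 2, 0, 2, -2, 0, 2, -2, -2, 2, 0, 0, 0, 0, 0, 0, 0, 0, 0, -2, 0, 0, 0, 0] : List ℤ)],
   Ins.push 1 [([0, 2, -2, 2, 0, -2, 0, 0, 0, 0, 0, 0, 2, 0, 0, 0, -2, 0, 2, 0, 0, 0, -2, 0] : List ℤ)],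
   Ins.push 0 [([-2, 0, 2, -2, 2, 0, -2, 0, 0, 0, 0, 0, 0, 2, 0, 0, 0, -2, 0, 2, 0, 0, 0, 0] : List ℤ)],
   Ins.push 1 [([-2, -2, 2, -2, 0, 0, 2, 0, 0, 2, 0, -2, 0, 0, 0, 0, 0, 0, 0, 0, 0, 0, 2, 0] : List ℤ)],
   Ins.push 0 [([2, -2, -2, 2, -2, 0, 0, 2, 0, 0, 2, 0, -2, 0, 0, 0, 0, 0, 0, 0, 0, 0, 0, 0] : List ℤ)],
   Ins.mark,
   Ins.pop,
   Ins.pop,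
   Ins.pop,
   Ins.pop,
   Ins.pop,
   Ins.pop,
   Ins.pop,
   Ins.push 1 [([-2, 0, 0, 2, 0, 0, 2, 0, 0, 0, 0, 0, 0, -2, 0, 2, -2, 0, 2, 0, 0, 0, -2, 0] : List ℤ)],
   Ins.push 0 [([-2, -2, 0, 0, 2, 0, 0, 2, 0, 0, 0, 0, 0, 0, -2, 0, 2, -2, 0, 2, 0, 0, 0, 0] : List ℤ)],
   Ins.push 1 [([-2, 0, 2, 0, 0, 2, 0, 0, 0, 0, 0, -2, 0, 2, 0, 0, 0, -2, -2, 0, 0, 0, 2, 0] : List ℤ)],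
   Ins.push 1 [([-2, 0, 0, 0, -2, 0, 2, 0, 0, 2, 0, -2, 0, 0, 2, 0, 0, 0, 0, -2, 0, 2, 0, 0] : List ℤ)],
   Ins.push 1 [([-2, 2, -2, 0, 0, 0, 0, 0, 0, 0, 0, 0, 2, 0, 0, 0, 0, 2, 0, -2, 2, 0, -2, 0] : List ℤ)],
   Ins.push 0 [([-2, -2, 2, -2, 0, 0, 0, 0, 0, 0, 0, 0, 0, 2, 0, 0, 0, 0, 2, 0, -2, 2, 0, 0] : List ℤ)],
   Ins.push 1 [([-2, 0, 0, -2, 2, 0, 2, 0, 0, 2, -2, 0, 0, 0, 0, 0, 0, 0, -2, 0, 2, 0, 0, 0] : List ℤ)],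
   Ins.push 1 [([-2, 2, 2, -2, -2, 0, 0, -2, 0, 0, 2, 0, 2, 0, 0, 0, 0, 0, 0, 0, 0, 0, 0, 0] : List ℤ)],
   Ins.mark,
   Ins.pop,
   Ins.pop,
   Ins.pop,
   Ins.pop,
   Ins.pop,
   Ins.pop,
   Ins.pop,
   Ins.pop,
   Ins.pop,
   Ins.pop,
   Ins.push 1 [([0, 0, 0, 2, 0, -2, 2, -2, 0, 0, 0, 0, 0, 0, -2, 0, 0, 2, 0, -2, 0, 2, 0, 0] : List ℤ)],
   Ins.push 0 [([0, 0, 0, 0, 2, 0, -2, 2, -2, 0, 0, 0, 0, 0, 0, -2, 0, 0, 2, 0, -2, 0, 2, 0] : List ℤ)],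
   Ins.push 1 [([0, -2, 2, 0, 2, 2, 0, 0, 0, 0, -2, 0, 0, 0, 2, -2, -2, 0, 0, 0, 0, 0, 0, 0] : List ℤ)],
   Ins.push 1 [([0, 0, 2, 0, 0, 0, 2, -2, 0, 0, 0, 0, 0, -2, 0, -2, 0, 2, -2, 0, 0, 2, 0, 0] : List ℤ)],
   Ins.push 0 [([0, 0, 0, 2, 0, 0, 0, 2, -2, 0, 0, 0, 0, 0, -2, 0, -2, 0, 2, -2, 0, 0, 2, 0] : List ℤ)],
   Ins.push 1 [([0, 0, 0, 2, 2, 2, 0, 0, 0, 0, 0, 0, 0, -2, 2, 0, -2, -2, 0, 0, 0, 0, -2, 0] : List ℤ)],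
   Ins.push 0 [([-2, 0, 0, 0, 2, 2, 2, 0, 0, 0, 0, 0, 0, 0, -2, 2, 0, -2, -2, 0, 0, 0, 0, 0] : List ℤ)],
   Ins.push 1 [([-2, 2, 2, 0, -2, 0, 0, 0, 0, 0, 0, -2, 0, 0, 0, 2, 0, -2, 0, 0, 0, 2, 0, 0] : List ℤ)],
   Ins.push 0 [([0, -2, 2, 2, 0, -2, 0, 0, 0, 0, 0, 0, -2, 0, 0, 0, 2, 0, -2, 0, 0, 0, 2, 0] : List ℤ)],
   Ins.push 0 [([2, 0, -2, 2, 2, 0, -2, 0, 0, 0, 0, 0, 0, -2, 0, 0, 0, 2, 0, -2, 0, 0, 0, 0] : List ℤ)],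
   Ins.push 1 [([2, -2, 2, 2, 0, 0, -2, 0, 0, -2, 0, 2, 0, 0, 0, 0, 0, 0, 0, 0, 0, 0, -2, 0] : List ℤ)],
   Ins.push 0 [([-2, 2, -2, 2, 2, 0, 0, -2, 0, 0, -2, 0, 2, 0, 0, 0, 0, 0, 0, 0, 0, 0, 0, 0] : List ℤ)],
   Ins.mark,
   Ins.pop,
   Ins.pop,
   Ins.pop,
   Ins.pop,
   Ins.pop,
   Ins.pop,
   Ins.pop,
   Ins.pop,
   Ins.pop,
   Ins.pop,
   Ins.push 0 [([2, 0, 0, 0, 0, 2, 0, -2, 2, -2, 0, 0, 0, 0, 0, 0, -2, 0, 0, 2, 0, -2, 0, 0] : List ℤ)],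
   Ins.push 0 [([0, 2, 0, 0, 0, 0, 2, 0, -2, 2, -2, 0, 0, 0, 0, 0, 0, -2, 0, 0, 2, 0, -2, 0] : List ℤ)],
   Ins.push 0 [([-2, 0, 2, 0, 0, 0, 0, 2, 0, -2, 2, -2, 0, 0, 0, 0, 0, 0, -2, 0, 0, 2, 0, 0] : List ℤ)],
   Ins.push 1 [([-2, 0, 0, 0, -2, 2, 2, 2, 0, 0, 0, 0, -2, 0, 0, 0, 0, 0, 0, -2, 2, 0, 0, 0] : List ℤ)],
   Ins.push 1 [([-2, 2, -2, 0, 0, 2, 0, 0, -2, 0, 2, 0, 0, 0, 0, 0, 0, 0, 0, 0, 0, 2, -2, 0] : List ℤ)],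
   Ins.push 0 [([-2, -2, 2, -2, 0, 0, 2, 0, 0, -2, 0, 2, 0, 0, 0, 0, 0, 0, 0, 0, 0, 0, 2, 0] : List ℤ)],
   Ins.push 0 [([2, -2, -2, 2, -2, 0, 0, 2, 0, 0, -2, 0, 2, 0, 0, 0, 0, 0, 0, 0, 0, 0, 0, 0] : List ℤ)],
   Ins.mark,
   Ins.pop,
   Ins.pop,
   Ins.pop,
   Ins.pop,
   Ins.pop,
   Ins.pop,
   Ins.pop,
   Ins.pop,
   Ins.pop,
   Ins.pop,
   Ins.pop,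
   Ins.push 1 [([0, 2, 0, 2, -2, 0, 2, 0, 0, 0, 0, 0, -2, -2, 0, 0, 0, 0, 0, 0, 2, 0, -2, 0] : List ℤ)],
   Ins.push 0 [([-2, 0, 2, 0, 2, -2, 0, 2, 0, 0, 0, 0, 0, -2, -2, 0, 0, 0, 0, 0, 0, 2, 0, 0] : List ℤ)],
   Ins.push 1 [([-2, 0, 2, 0, 0, 2, 2, 0, 0, -2, 0, 0, 0, 0, 0, 0, 0, -2, 0, 0, 2, -2, 0, 0] : List ℤ)],
   Ins.push 1 [([-2, 2, 0, 0, 0, 0, 2, 0, 0, 0, 2, -2, -2, 0, 0, 0, 0, 0, 0, 0, -2, 2, 0, 0] : List ℤ)],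
   Ins.push 1 [([-2, 2, 0, 0, 0, 0, 0, 2, -2, 0, -2, 0, 0, 0, 0, 0, 0, 0, 2, -2, 2, 0, 0, 0] : List ℤ)],
   Ins.push 1 [([-2, 0, 0, 0, 2, 2, 0, -2, 0, 0, 2, 0, 0, 0, 0, 0, -2, 0, 2, 0, 0, 0, -2, 0] : List ℤ)],
   Ins.push 0 [([-2, -2, 0, 0, 0, 2, 2, 0, -2, 0, 0, 2, 0, 0, 0, 0, 0, -2, 0, 2, 0, 0, 0, 0] : List ℤ)],
   Ins.push 1 [([-2, 2, 0, 0, 0, 0, 0, 0, 0, 0, 0, -2, 0, 0, 0, 0, -2, 0, -2, 2, 0, 2, 2, 0] : List ℤ)],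
   Ins.push 0 [([2, -2, 2, 0, 0, 0, 0, 0, 0, 0, 0, 0, -2, 0, 0, 0, 0, -2, 0, -2, 2, 0, 2, 0] : List ℤ)],
   Ins.push 0 [([2, 2, -2, 2, 0, 0, 0, 0, 0, 0, 0, 0, 0, -2, 0, 0, 0, 0, -2, 0, -2, 2, 0, 0] : List ℤ)],
   Ins.push 1 [([2, 0, 0, 2, -2, 0, -2, 0, 0, -2, -2, 0, 0, 0, 0, 0, 0, 0, 2, 0, 2, 0, 0, 0] : List ℤ)],
   Ins.push 1 [([2, -2, -2, 2, 2, 0, 0, -2, 0, 0, 2, 0, -2, 0, 0, 0, 0, 0, 0, 0, 0, 0, 0, 0] : List ℤ)],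
   Ins.mark,
   Ins.pop,
   Ins.pop,
   Ins.pop,
   Ins.pop,
   Ins.pop,
   Ins.push 0 [([0, -2, -2, 0, 0, 0, 2, 2, 0, -2, 0, 0, 2, 0, 0, 0, 0, 0, -2, 0, 2, 0, 0, 0] : List ℤ)],
   Ins.push 1 [([0, 2, 0, 0, -2, 2, -2, 0, 2, 0, 2, 0, -2, 0, 0, 0, 0, 0, -2, 0, 0, 0, 0, 0] : List ℤ)],
   Ins.push 1 [([0, -2, -2, 0, -2, 0, 0, 2, -2, 0, 0, 0, 0, 0, 0, 0, 2, 0, 2, 0, 0, 2, 0, 0] : List ℤ)],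
   Ins.push 0 [([0, 0, -2, -2, 0, -2, 0, 0, 2, -2, 0, 0, 0, 0, 0, 0, 0, 2, 0, 2, 0, 0, 2, 0] : List ℤ)],
   Ins.push 0 [([2, 0, 0, -2, -2, 0, -2, 0, 0, 2, -2, 0, 0, 0, 0, 0, 0, 0, 2, 0, 2, 0, 0, 0] : List ℤ)],
   Ins.push 1 [([2, -2, -2, -2, 2, 0, 0, -2, 0, 0, 2, 0, 2, 0, 0, 0, 0, 0, 0, 0, 0, 0, 0, 0] : List ℤ)],
   Ins.mark,
   Ins.pop,
   Ins.pop,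
   Ins.pop,
   Ins.pop,
   Ins.pop,
   Ins.pop,
   Ins.pop,
   Ins.pop,
   Ins.pop,
   Ins.pop,
   Ins.pop,
   Ins.pop,
   Ins.push 1 [([0, 2, -2, 2, 0, 0, 0, 0, -2, -2, 2, 0, 0, 0, -2, 0, 0, 0, 2, 0, 0, 0, 0, 0] : List ℤ)],
   Ins.push 0 [([0, 0, 2, -2, 2, 0, 0, 0, 0, -2, -2, 2, 0, 0, 0, -2, 0, 0, 0, 2, 0, 0, 0, 0] : List ℤ)],
   Ins.push 1 [([0, 0, 2, -2, 0, 0, 2, -2, 0, 0, 0, 0, -2, 0, 0, -2, 0, 0, 0, 2, 0, 0, 2, 0] : List ℤ)],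
   Ins.push 0 [([2, 0, 0, 2, -2, 0, 0, 2, -2, 0, 0, 0, 0, -2, 0, 0, -2, 0, 0, 0, 2, 0, 0, 0] : List ℤ)],
   Ins.push 1 [([2, 0, -2, 2, 0, 2, 0, 0, 0, -2, 2, 0, 0, -2, 0, 0, -2, 0, 0, 0, 0, 0, 0, 0] : List ℤ)],
   Ins.push 0 [([0, 2, 0, -2, 2, 0, 2, 0, 0, 0, -2, 2, 0, 0, -2, 0, 0, -2, 0, 0, 0, 0, 0, 0] : List ℤ)],
   Ins.push 1 [([0, 2, 2, -2, 0, 0, 0, -2, 0, 0, 0, -2, 0, 0, 0, 0, 0, -2, 2, 2, 0, 0, 0, 0] : List ℤ)],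
   Ins.push 1 [([0, 0, 0, -2, 2, -2, 2, 0, 0, 0, 0, -2, 0, 0, 0, 0, 0, 0, 2, -2, 0, 0, 2, 0] : List ℤ)],
   Ins.push 0 [([2, 0, 0, 0, -2, 2, -2, 2, 0, 0, 0, 0, -2, 0, 0, 0, 0, 0, 0, 2, -2, 0, 0, 0] : List ℤ)],
   Ins.push 1 [([2, -2, -2, 0, 0, 2, 0, 0, -2, 0, -2, 0, 0, 0, 0, 0, 0, 0, 0, 0, 0, 2, 2, 0] : List ℤ)],
   Ins.push 0 [([2, 2, -2, -2, 0, 0, 2, 0, 0, -2, 0, -2, 0, 0, 0, 0, 0, 0, 0, 0, 0, 0, 2, 0] : List ℤ)],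
   Ins.push 0 [([2, 2, 2, -2, -2, 0, 0, 2, 0, 0, -2, 0, -2, 0, 0, 0, 0, 0, 0, 0, 0, 0, 0, 0] : List ℤ)],
   Ins.mark,
   Ins.pop,
   Ins.pop,
   Ins.pop,
   Ins.pop,
   Ins.pop,
   Ins.pop,
   Ins.pop,
   Ins.pop,
   Ins.pop,
   Ins.pop,
   Ins.pop,
   Ins.push 1 [([0, 0, 0, 2, 2, 0, -2, 2, 0, 0, 0, 0, -2, 0, 0, 0, -2, -2, 2, 0, 0, 0, 0, 0] : List ℤ)],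
   Ins.push 0 [([0, 0, 0, 0, 2, 2, 0, -2, 2, 0, 0, 0, 0, -2, 0, 0, 0, -2, -2, 2, 0, 0, 0, 0] : List ℤ)],
   Ins.push 1 [([0, 0, 2, 0, -2, -2, 0, 0, 0, -2, 0, -2, 0, 0, 0, 0, 2, 0, 0, 0, 0, 2, 2, 0] : List ℤ)],
   Ins.push 1 [([0, 0, -2, 0, 0, 0, 2, 0, 0, 0, 0, 0, -2, 2, 2, 0, 0, 0, 0, -2, 2, -2, 0, 0] : List ℤ)],
   Ins.push 1 [([0, 2, 0, 0, 0, 0, -2, 0, -2, 2, 2, 0, 0, 0, 0, 0, 0, 2, 0, 0, -2, 0, -2, 0] : List ℤ)],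
   Ins.push 0 [([-2, 0, 2, 0, 0, 0, 0, -2, 0, -2, 2, 2, 0, 0, 0, 0, 0, 0, 2, 0, 0, -2, 0, 0] : List ℤ)],
   Ins.push 1 [([-2, 0, 0, 0, 2, -2, 2, 2, 0, 0, 0, 0, -2, 0, 0, 0, 0, 0, 0, 2, -2, 0, 0, 0] : List ℤ)],
   Ins.push 1 [([-2, 2, 2, 0, 0, 2, 0, 0, -2, 0, -2, 0, 0, 0, 0, 0, 0, 0, 0, 0, 0, -2, 2, 0] : List ℤ)],
   Ins.push 0 [([2, -2, 2, 2, 0, 0, 2, 0, 0, -2, 0, -2, 0, 0, 0, 0, 0, 0, 0, 0, 0, 0, -2, 0] : List ℤ)],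
   Ins.push 0 [([-2, 2, -2, 2, 2, 0, 0, 2, 0, 0, -2, 0, -2, 0, 0, 0, 0, 0, 0, 0, 0, 0, 0, 0] : List ℤ)],
   Ins.mark,
   Ins.pop,
   Ins.pop,
   Ins.pop,
   Ins.pop,
   Ins.pop,
   Ins.pop,
   Ins.pop,
   Ins.pop,
   Ins.pop,
   Ins.pop,
   Ins.pop,
   Ins.pop,
   Ins.pop,
   Ins.pop,
   Ins.pop,
   Ins.push 2 [([2, 2, 2, 2, 2, 0, 0, 2, 0, 0, 2, 0, 2, 0, 0, 0, 0, 0, 0, 0, 0, 0, 0, 0] : List ℤ)],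
   Ins.mark,
   Ins.push 11 [([2, 2, 2, -2, 2, 0, 0, 2, 0, 0, -2, 0, 2, 0, 0, 0, 0, 0, 0, 0, 0, 0, 0, 0] : List ℤ)],
   Ins.mark,
   Ins.push 1 [([2, 0, 2, -2, 0, 2, 2, -2, 2, 0, 0, 0, 0, 0, 0, 0, 0, 0, 2, 0, 0, 0, 0, 0] : List ℤ)],
   Ins.push 1 [([2, 2, 0, -2, 2, -2, 2, 0, 0, 0, 0, 0, 0, 0, 0, 0, 2, 0, 0, 0, 0, 2, 0, 0] : List ℤ)],
   Ins.push 1 [([2, 2, 2, -2, 0, 0, 0, 0, 0, 0, 0, 0, 0, 2, 0, 0, 0, 0, 2, 0, 2, -2, 0, 0] : List ℤ)],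
   Ins.push 1 [([2, 0, 0, -2, 2, 0, 2, 0, 0, 2, 2, 0, 0, 0, 0, 0, 0, 0, 2, 0, -2, 0, 0, 0] : List ℤ)],
   Ins.push 0 [([0, 2, 0, 0, -2, 2, 0, 2, 0, 0, 2, 2, 0, 0, 0, 0, 0, 0, 0, 2, 0, -2, 0, 0] : List ℤ)],
   Ins.push 1 [([0, 0, -2, 0, 0, 2, 0, 2, 0, 0, 0, 0, 0, 0, 0, 0, 0, 0, 2, 2, -2, 2, 2, 0] : List ℤ)],
   Ins.push 0 [([2, 0, 0, -2, 0, 0, 2, 0, 2, 0, 0, 0, 0, 0, 0, 0, 0, 0, 0, 2, 2, -2, 2, 0] : List ℤ)],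
   Ins.push 1 [([2, 2, 0, -2, 0, 0, 0, 0, 0, 0, 2, 0, 0, 0, 2, 0, 2, 0, 0, 0, -2, 0, 2, 0] : List ℤ)],
   Ins.push 0 [([2, 2, 2, 0, -2, 0, 0, 0, 0, 0, 0, 2, 0, 0, 0, 2, 0, 2, 0, 0, 0, -2, 0, 0] : List ℤ)],
   Ins.push 0 [([0, 2, 2, 2, 0, -2, 0, 0, 0, 0, 0, 0, 2, 0, 0, 0, 2, 0, 2, 0, 0, 0, -2, 0] : List ℤ)],
   Ins.push 0 [([-2, 0, 2, 2, 2, 0, -2, 0, 0, 0, 0, 0, 0, 2, 0, 0, 0, 2, 0, 2, 0, 0, 0, 0] : List ℤ)],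
   Ins.push 1 [([-2, -2, 2, 2, 0, 0, 2, 0, 0, 2, 0, 2, 0, 0, 0, 0, 0, 0, 0, 0, 0, 0, 2, 0] : List ℤ)],
   Ins.push 0 [([2, -2, -2, 2, 2, 0, 0, 2, 0, 0, 2, 0, 2, 0, 0, 0, 0, 0, 0, 0, 0, 0, 0, 0] : List ℤ)],
   Ins.mark,
   Ins.pop,
   Ins.pop,
   Ins.pop,
   Ins.pop,
   Ins.pop,
   Ins.pop,
   Ins.pop,
   Ins.pop,
   Ins.pop,
   Ins.pop,
   Ins.push 0 [([0, 2, 2, 2, -2, 0, 0, 0, 0, 0, 0, 0, 0, 0, 2, 0, 0, 0, 0, 2, 0, 2, -2, 0] : List ℤ)],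
   Ins.push 0 [([-2, 0, 2, 2, 2, -2, 0, 0, 0, 0, 0, 0, 0, 0, 0, 2, 0, 0, 0, 0, 2, 0, 2, 0] : List ℤ)],
   Ins.push 1 [([-2, 0, 2, 2, 0, 0, 2, 0, 0, 0, 2, 0, 0, 0, 2, 2, 0, 0, 0, 0, 0, -2, 0, 0] : List ℤ)],
   Ins.push 1 [([-2, 2, 0, 2, 0, 0, 2, 2, 0, 0, 0, 0, 0, 0, 0, 2, 0, 2, 0, 0, -2, 0, 0, 0] : List ℤ)],
   Ins.push 0 [([0, -2, 2, 0, 2, 0, 0, 2, 2, 0, 0, 0, 0, 0, 0, 0, 2, 0, 2, 0, 0, -2, 0, 0] : List ℤ)],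
   Ins.push 0 [([0, 0, -2, 2, 0, 2, 0, 0, 2, 2, 0, 0, 0, 0, 0, 0, 0, 2, 0, 2, 0, 0, -2, 0] : List ℤ)],
   Ins.push 0 [([-2, 0, 0, -2, 2, 0, 2, 0, 0, 2, 2, 0, 0, 0, 0, 0, 0, 0, 2, 0, 2, 0, 0, 0] : List ℤ)],
   Ins.push 1 [([-2, 2, 2, -2, 2, 0, 0, 2, 0, 0, 2, 0, 2, 0, 0, 0, 0, 0, 0, 0, 0, 0, 0, 0] : List ℤ)],
   Ins.mark,
   Ins.pop,
   Ins.pop,
   Ins.pop,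
   Ins.pop,
   Ins.pop,
   Ins.pop,
   Ins.push 0 [([2, -2, 0, 2, 2, 2, -2, 0, 0, 0, 0, 0, 0, 0, 0, 0, 2, 0, 0, 0, 0, 2, 0, 0] : List ℤ)],
   Ins.push 1 [([2, -2, 2, 2, 0, 0, 0, 0, 0, 0, 0, 0, 0, 2, 0, 0, 0, 0, -2, 0, 2, 2, 0, 0] : List ℤ)],
   Ins.push 0 [([0, 2, -2, 2, 2, 0, 0, 0, 0, 0, 0, 0, 0, 0, 2, 0, 0, 0, 0, -2, 0, 2, 2, 0] : List ℤ)],
   Ins.push 0 [([2, 0, 2, -2, 2, 2, 0, 0, 0, 0, 0, 0, 0, 0, 0, 2, 0, 0, 0, 0, -2, 0, 2, 0] : List ℤ)],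
   Ins.push 0 [([2, 2, 0, 2, -2, 2, 2, 0, 0, 0, 0, 0, 0, 0, 0, 0, 2, 0, 0, 0, 0, -2, 0, 0] : List ℤ)],
   Ins.push 1 [([2, 2, -2, 2, 0, 0, 0, 0, 0, 0, 0, 0, 0, 2, 0, 0, 0, 0, 2, 0, -2, 2, 0, 0] : List ℤ)],
   Ins.push 1 [([2, 0, 0, 2, 2, 0, -2, 0, 0, 2, -2, 0, 0, 0, 0, 0, 0, 0, 2, 0, 2, 0, 0, 0] : List ℤ)],
   Ins.push 1 [([2, -2, 2, 2, 2, 0, 0, -2, 0, 0, 2, 0, 2, 0, 0, 0, 0, 0, 0, 0, 0, 0, 0, 0] : List ℤ)],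
   Ins.mark,
   Ins.pop,
   Ins.pop,
   Ins.pop,
   Ins.pop,
   Ins.pop,
   Ins.pop,
   Ins.push 1 [([2, 0, 0, 2, -2, 0, 2, 0, 0, 2, 2, 0, 0, 0, 0, 0, 0, 0, -2, 0, 2, 0, 0, 0] : List ℤ)],
   Ins.push 1 [([2, 2, -2, 2, -2, 0, 0, 2, 0, 0, 2, 0, 2, 0, 0, 0, 0, 0, 0, 0, 0, 0, 0, 0] : List ℤ)],
   Ins.mark,
   Ins.pop,
   Ins.pop,
   Ins.pop,
   Ins.push 0 [([0, 2, -2, 0, 2, 2, 2, -2, 0, 0, 0, 0, 0, 0, 0, 0, 0, 2, 0, 0, 0, 0, 2, 0] : List ℤ)],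
   Ins.push 0 [([2, 0, 2, -2, 0, 2, 2, 2, -2, 0, 0, 0, 0, 0, 0, 0, 0, 0, 2, 0, 0, 0, 0, 0] : List ℤ)],
   Ins.push 1 [([2, 2, 0, -2, 2, 2, 2, 0, 0, 0, 0, 0, 0, 0, 0, 0, -2, 0, 0, 0, 0, 2, 0, 0] : List ℤ)],
   Ins.push 1 [([2, 2, 2, -2, 0, 0, 0, 0, 0, 0, 0, 0, 0, -2, 0, 0, 0, 0, 2, 0, 2, 2, 0, 0] : List ℤ)],
   Ins.push 1 [([2, 0, 0, -2, 2, 0, 2, 0, 0, -2, 2, 0, 0, 0, 0, 0, 0, 0, 2, 0, 2, 0, 0, 0] : List ℤ)],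
   Ins.push 1 [([2, 2, 2, -2, 2, 0, 0, 2, 0, 0, 2, 0, -2, 0, 0, 0, 0, 0, 0, 0, 0, 0, 0, 0] : List ℤ)],
   Ins.mark,
   Ins.pop,
   Ins.pop,
   Ins.pop,
   Ins.pop,
   Ins.pop,
   Ins.pop,
   Ins.pop,
   Ins.pop,
   Ins.push 1 [([0, 0, -2, 2, 0, 0, 2, 0, 0, 0, 0, 0, 0, 0, -2, 0, 0, 2, 2, 0, 2, 0, 2, 0] : List ℤ)],
   Ins.push 0 [([2, 0, 0, -2, 2, 0, 0, 2, 0, 0, 0, 0, 0, 0, 0, -2, 0, 0, 2, 2, 0, 2, 0, 0] : List ℤ)],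
   Ins.push 1 [([2, 0, 2, -2, 2, 2, 0, 0, 0, 0, 0, 0, 0, 0, 0, -2, 0, 0, 0, 0, 2, 0, 2, 0] : List ℤ)],
   Ins.push 1 [([2, 0, 2, -2, 0, 0, 2, 0, 0, 0, 2, 0, 0, 0, 2, -2, 0, 0, 0, 0, 0, 2, 0, 0] : List ℤ)],
   Ins.push 1 [([2, 2, 0, -2, 0, 0, 2, 2, 0, 0, 0, 0, 0, 0, 0, -2, 0, 2, 0, 0, 2, 0, 0, 0] : List ℤ)],
   Ins.push 0 [([0, 2, 2, 0, -2, 0, 0, 2, 2, 0, 0, 0, 0, 0, 0, 0, -2, 0, 2, 0, 0, 2, 0, 0] : List ℤ)],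
   Ins.push 0 [([0, 0, 2, 2, 0, -2, 0, 0, 2, 2, 0, 0, 0, 0, 0, 0, 0, -2, 0, 2, 0, 0, 2, 0] : List ℤ)],
   Ins.push 0 [([2, 0, 0, 2, 2, 0, -2, 0, 0, 2, 2, 0, 0, 0, 0, 0, 0, 0, -2, 0, 2, 0, 0, 0] : List ℤ)],
   Ins.push 1 [([2, -2, 2, 2, -2, 0, 0, 2, 0, 0, 2, 0, 2, 0, 0, 0, 0, 0, 0, 0, 0, 0, 0, 0] : List ℤ)],
   Ins.mark,
   Ins.pop,
   Ins.pop,
   Ins.pop,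
   Ins.pop,
   Ins.pop,
   Ins.pop,
   Ins.pop,
   Ins.pop,
   Ins.pop,
   Ins.pop,
   Ins.pop,
   Ins.push 0 [([0, 2, 2, 0, -2, 2, -2, 2, 0, 0, 0, 0, 0, 0, 0, 0, 0, 2, 0, 0, 0, 0, 2, 0] : List ℤ)],
   Ins.push 0 [([2, 0, 2, 2, 0, -2, 2, -2, 2, 0, 0, 0, 0, 0, 0, 0, 0, 0, 2, 0, 0, 0, 0, 0] : List ℤ)],
   Ins.push 1 [([2, 2, 0, 2, 2, -2, 2, 0, 0, 0, 0, 0, 0, 0, 0, 0, 2, 0, 0, 0, 0, -2, 0, 0] : List ℤ)],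
   Ins.push 0 [([0, 2, 2, 0, 2, 2, -2, 2, 0, 0, 0, 0, 0, 0, 0, 0, 0, 2, 0, 0, 0, 0, -2, 0] : List ℤ)],
   Ins.push 0 [([-2, 0, 2, 2, 0, 2, 2, -2, 2, 0, 0, 0, 0, 0, 0, 0, 0, 0, 2, 0, 0, 0, 0, 0] : List ℤ)],
   Ins.push 0 [([0, -2, 0, 2, 2, 0, 2, 2, -2, 2, 0, 0, 0, 0, 0, 0, 0, 0, 0, 2, 0, 0, 0, 0] : List ℤ)],
   Ins.push 1 [([0, 2, 2, 2, 0, 2, 0, 0, 0, 0, 0, 0, 2, 0, 0, 0, -2, 0, -2, 0, 0, 0, 2, 0] : List ℤ)],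
   Ins.push 0 [([2, 0, 2, 2, 2, 0, 2, 0, 0, 0, 0, 0, 0, 2, 0, 0, 0, -2, 0, -2, 0, 0, 0, 0] : List ℤ)],
   Ins.push 1 [([2, 2, 2, 2, 0, 0, 2, 0, 0, 2, 0, -2, 0, 0, 0, 0, 0, 0, 0, 0, 0, 0, -2, 0] : List ℤ)],
   Ins.push 0 [([-2, 2, 2, 2, 2, 0, 0, 2, 0, 0, 2, 0, -2, 0, 0, 0, 0, 0, 0, 0, 0, 0, 0, 0] : List ℤ)],
   Ins.mark,
   Ins.pop,
   Ins.pop,
   Ins.pop,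
   Ins.pop,
   Ins.pop,
   Ins.push 1 [([-2, 2, 0, 2, 2, -2, 2, 0, 0, 0, 0, 0, 0, 0, 0, 0, 2, 0, 0, 0, 0, 2, 0, 0] : List ℤ)],
   Ins.push 1 [([-2, 2, 2, 2, 0, 0, 0, 0, 0, 0, 0, 0, 0, 2, 0, 0, 0, 0, 2, 0, 2, -2, 0, 0] : List ℤ)],
   Ins.push 1 [([-2, 0, 0, 2, 2, 0, 2, 0, 0, 2, 2, 0, 0, 0, 0, 0, 0, 0, 2, 0, -2, 0, 0, 0] : List ℤ)],
   Ins.push 1 [([-2, 2, 2, 2, 2, 0, 0, 2, 0, 0, -2, 0, 2, 0, 0, 0, 0, 0, 0, 0, 0, 0, 0, 0] : List ℤ)],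
   Ins.mark,
   Ins.pop,
   Ins.pop,
   Ins.pop,
   Ins.pop,
   Ins.pop,
   Ins.pop,
   Ins.push 1 [([2, 2, 2, 2, 0, 0, 0, 0, 0, 0, 0, 0, 0, 2, 0, 0, 0, 0, 2, 0, -2, -2, 0, 0] : List ℤ)],
   Ins.push 1 [([2, 0, 0, 2, 2, 0, 2, 0, 0, 2, -2, 0, 0, 0, 0, 0, 0, 0, 2, 0, -2, 0, 0, 0] : List ℤ)],
   Ins.push 1 [([2, 2, 2, 2, 2, 0, 0, -2, 0, 0, -2, 0, 2, 0, 0, 0, 0, 0, 0, 0, 0, 0, 0, 0] : List ℤ)],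
   Ins.mark,
   Ins.pop,
   Ins.pop,
   Ins.push 0 [([0, 2, 2, 2, 2, 0, 0, 0, 0, 0, 0, 0, 0, 0, 2, 0, 0, 0, 0, 2, 0, -2, -2, 0] : List ℤ)],
   Ins.push 0 [([-2, 0, 2, 2, 2, 2, 0, 0, 0, 0, 0, 0, 0, 0, 0, 2, 0, 0, 0, 0, 2, 0, -2, 0] : List ℤ)],
   Ins.push 0 [([-2, -2, 0, 2, 2, 2, 2, 0, 0, 0, 0, 0, 0, 0, 0, 0, 2, 0, 0, 0, 0, 2, 0, 0] : List ℤ)],
   Ins.push 1 [([-2, 2, 2, 2, 0, 0, 0, 0, 0, 0, 0, 0, 0, 2, 0, 0, 0, 0, -2, 0, 2, 2, 0, 0] : List ℤ)],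
   Ins.push 1 [([-2, 0, 0, 2, -2, 0, 2, 0, 0, 2, 2, 0, 0, 0, 0, 0, 0, 0, 2, 0, 2, 0, 0, 0] : List ℤ)],
   Ins.push 1 [([-2, 2, -2, 2, 2, 0, 0, 2, 0, 0, 2, 0, 2, 0, 0, 0, 0, 0, 0, 0, 0, 0, 0, 0] : List ℤ)],
   Ins.mark,
   Ins.pop,
   Ins.pop,
   Ins.pop,
   Ins.pop,
   Ins.pop,
   Ins.pop,
   Ins.pop,
   Ins.pop,
   Ins.push 0 [([0, 2, 0, 2, 2, 0, -2, 2, -2, 2, 0, 0, 0, 0, 0, 0, 0, 0, 0, 2, 0, 0, 0, 0] : List ℤ)],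
   Ins.push 1 [([0, -2, 2, 2, 0, 2, 0, 0, 0, 0, 0, 0, 2, 0, 0, 0, -2, 0, 2, 0, 0, 0, 2, 0] : List ℤ)],
   Ins.push 0 [([2, 0, -2, 2, 2, 0, 2, 0, 0, 0, 0, 0, 0, 2, 0, 0, 0, -2, 0, 2, 0, 0, 0, 0] : List ℤ)],
   Ins.push 1 [([2, 2, 2, 2, 0, 0, -2, 0, 0, 2, 0, -2, 0, 0, 0, 0, 0, 0, 0, 0, 0, 0, 2, 0] : List ℤ)],
   Ins.push 0 [([2, 2, 2, 2, 2, 0, 0, -2, 0, 0, 2, 0, -2, 0, 0, 0, 0, 0, 0, 0, 0, 0, 0, 0] : List ℤ)],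
   Ins.mark,
   Ins.pop,
   Ins.pop,
   Ins.pop,
   Ins.pop,
   Ins.pop,
   Ins.pop,
   Ins.push 1 [([0, -2, -2, 0, 0, 2, 2, 0, 0, 0, 0, 2, 0, 0, 2, 0, 0, 0, 2, 0, 0, 2, 0, 0] : List ℤ)],
   Ins.push 1 [([0, 2, 0, 0, 2, 0, -2, 0, 0, 0, 0, 0, 0, 0, 0, 0, 0, 2, -2, 2, 2, 2, 0, 0] : List ℤ)],
   Ins.push 0 [([0, 0, 2, 0, 0, 2, 0, -2, 0, 0, 0, 0, 0, 0, 0, 0, 0, 0, 2, -2, 2, 2, 2, 0] : List ℤ)],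
   Ins.push 0 [([2, 0, 0, 2, 0, 0, 2, 0, -2, 0, 0, 0, 0, 0, 0, 0, 0, 0, 0, 2, -2, 2, 2, 0] : List ℤ)],
   Ins.push 0 [([2, 2, 0, 0, 2, 0, 0, 2, 0, -2, 0, 0, 0, 0, 0, 0, 0, 0, 0, 0, 2, -2, 2, 0] : List ℤ)],
   Ins.push 0 [([2, 2, 2, 0, 0, 2, 0, 0, 2, 0, -2, 0, 0, 0, 0, 0, 0, 0, 0, 0, 0, 2, -2, 0] : List ℤ)],
   Ins.push 0 [([-2, 2, 2, 2, 0, 0, 2, 0, 0, 2, 0, -2, 0, 0, 0, 0, 0, 0, 0, 0, 0, 0, 2, 0] : List ℤ)],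
   Ins.push 0 [([2, -2, 2, 2, 2, 0, 0, 2, 0, 0, 2, 0, -2, 0, 0, 0, 0, 0, 0, 0, 0, 0, 0, 0] : List ℤ)],
   Ins.mark,
   Ins.pop,
   Ins.pop,
   Ins.pop,
   Ins.pop,
   Ins.pop,
   Ins.pop,
   Ins.push 1 [([0, -2, 2, 0, -2, 0, 0, 0, 0, 0, 2, 2, 0, 0, 0, 0, 0, 0, 2, 0, 2, 0, 2, 0] : List ℤ)],
   Ins.push 0 [([2, 0, -2, 2, 0, -2, 0, 0, 0, 0, 0, 2, 2, 0, 0, 0, 0, 0, 0, 2, 0, 2, 0, 0] : List ℤ)],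
   Ins.push 1 [([2, 0, 0, 2, 0, 0, -2, 0, 2, 0, 0, 0, 0, 0, 0, 0, 0, 0, 0, 2, 2, -2, 2, 0] : List ℤ)],
   Ins.push 0 [([2, 2, 0, 0, 2, 0, 0, -2, 0, 2, 0, 0, 0, 0, 0, 0, 0, 0, 0, 0, 2, 2, -2, 0] : List ℤ)],
   Ins.push 0 [([-2, 2, 2, 0, 0, 2, 0, 0, -2, 0, 2, 0, 0, 0, 0, 0, 0, 0, 0, 0, 0, 2, 2, 0] : List ℤ)],
   Ins.push 0 [([2, -2, 2, 2, 0, 0, 2, 0, 0, -2, 0, 2, 0, 0, 0, 0, 0, 0, 0, 0, 0, 0, 2, 0] : List ℤ)],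
   Ins.push 0 [([2, 2, -2, 2, 2, 0, 0, 2, 0, 0, -2, 0, 2, 0, 0, 0, 0, 0, 0, 0, 0, 0, 0, 0] : List ℤ)],
   Ins.mark,
   Ins.pop,
   Ins.pop,
   Ins.pop,
   Ins.pop,
   Ins.pop,
   Ins.pop,
   Ins.pop,
   Ins.pop,
   Ins.pop,
   Ins.pop,
   Ins.pop,
   Ins.push 0 [([0, 2, 0, 2, -2, 0, 2, 2, -2, 2, 0, 0, 0, 0, 0, 0, 0, 0, 0, 2, 0, 0, 0, 0] : List ℤ)],
   Ins.push 0 [([0, 0, 2, 0, 2, -2, 0, 2, 2, -2, 2, 0, 0, 0, 0, 0, 0, 0, 0, 0, 2, 0, 0, 0] : List ℤ)],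
   Ins.push 0 [([0, 0, 0, 2, 0, 2, -2, 0, 2, 2, -2, 2, 0, 0, 0, 0, 0, 0, 0, 0, 0, 2, 0, 0] : List ℤ)],
   Ins.push 0 [([0, 0, 0, 0, 2, 0, 2, -2, 0, 2, 2, -2, 2, 0, 0, 0, 0, 0, 0, 0, 0, 0, 2, 0] : List ℤ)],
   Ins.push 0 [([2, 0, 0, 0, 0, 2, 0, 2, -2, 0, 2, 2, -2, 2, 0, 0, 0, 0, 0, 0, 0, 0, 0, 0] : List ℤ)],
   Ins.push 1 [([2, 0, 0, 0, 0, 2, 0, 2, -2, 2, 0, 0, 0, 0, 0, 0, -2, 0, 0, 2, 0, 2, 0, 0] : List ℤ)],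
   Ins.push 0 [([0, 2, 0, 0, 0, 0, 2, 0, 2, -2, 2, 0, 0, 0, 0, 0, 0, -2, 0, 0, 2, 0, 2, 0] : List ℤ)],
   Ins.push 0 [([2, 0, 2, 0, 0, 0, 0, 2, 0, 2, -2, 2, 0, 0, 0, 0, 0, 0, -2, 0, 0, 2, 0, 0] : List ℤ)],
   Ins.push 1 [([2, 0, 0, 0, -2, 2, 2, -2, 0, 0, 0, 0, 2, 0, 0, 0, 0, 0, 0, 2, 2, 0, 0, 0] : List ℤ)],
   Ins.push 1 [([2, 2, -2, 0, 0, -2, 0, 0, 2, 0, 2, 0, 0, 0, 0, 0, 0, 0, 0, 0, 0, 2, 2, 0] : List ℤ)],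
   Ins.push 0 [([2, 2, 2, -2, 0, 0, -2, 0, 0, 2, 0, 2, 0, 0, 0, 0, 0, 0, 0, 0, 0, 0, 2, 0] : List ℤ)],
   Ins.push 0 [([2, 2, 2, 2, -2, 0, 0, -2, 0, 0, 2, 0, 2, 0, 0, 0, 0, 0, 0, 0, 0, 0, 0, 0] : List ℤ)],
   Ins.mark,
   Ins.pop,
   Ins.pop,
   Ins.pop,
   Ins.pop,
   Ins.pop,
   Ins.pop,
   Ins.pop,
   Ins.pop,
   Ins.pop,
   Ins.push 1 [([0, -2, 0, 2, 0, 0, 0, -2, 0, 0, 0, 0, 2, 0, 0, 0, 2, 0, 0, 2, 2, 2, 0, 0] : List ℤ)],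
   Ins.push 1 [([0, 0, 0, 2, 0, -2, 0, 0, 2, 0, 2, 0, 0, 2, 0, 0, 0, 0, -2, 0, 2, 0, 2, 0] : List ℤ)],
   Ins.push 0 [([2, 0, 0, 0, 2, 0, -2, 0, 0, 2, 0, 2, 0, 0, 2, 0, 0, 0, 0, -2, 0, 2, 0, 0] : List ℤ)],
   Ins.push 1 [([2, -2, 2, 0, 0, 0, 0, 0, 0, 0, 0, 0, 2, 0, 0, 0, 0, 2, 0, 2, 2, 0, -2, 0] : List ℤ)],
   Ins.push 0 [([-2, 2, -2, 2, 0, 0, 0, 0, 0, 0, 0, 0, 0, 2, 0, 0, 0, 0, 2, 0, 2, 2, 0, 0] : List ℤ)],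
   Ins.push 1 [([-2, 0, 0, 2, 2, 0, -2, 0, 0, 2, 2, 0, 0, 0, 0, 0, 0, 0, 2, 0, 2, 0, 0, 0] : List ℤ)],
   Ins.push 1 [([-2, -2, 2, 2, 2, 0, 0, 2, 0, 0, 2, 0, 2, 0, 0, 0, 0, 0, 0, 0, 0, 0, 0, 0] : List ℤ)],
   Ins.mark,
   Ins.pop,
   Ins.pop,
   Ins.pop,
   Ins.pop,
   Ins.pop,
   Ins.pop,
   Ins.pop,
   Ins.pop,
   Ins.pop,
   Ins.push 1 [([0, 2, -2, 2, 0, 2, 0, 0, 0, 0, 0, 0, 2, 0, 0, 0, -2, 0, 2, 0, 0, 0, 2, 0] : List ℤ)],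
   Ins.push 0 [([2, 0, 2, -2, 2, 0, 2, 0, 0, 0, 0, 0, 0, 2, 0, 0, 0, -2, 0, 2, 0, 0, 0, 0] : List ℤ)],
   Ins.push 0 [([0, 2, 0, 2, -2, 2, 0, 2, 0, 0, 0, 0, 0, 0, 2, 0, 0, 0, -2, 0, 2, 0, 0, 0] : List ℤ)],
   Ins.push 1 [([0, 0, -2, 2, -2, 2, 0, 0, 0, 0, 2, 0, 0, 0, 0, 0, 0, 2, 2, 0, 0, 2, 0, 0] : List ℤ)],
   Ins.push 0 [([0, 0, 0, -2, 2, -2, 2, 0, 0, 0, 0, 2, 0, 0, 0, 0, 0, 0, 2, 2, 0, 0, 2, 0] : List ℤ)],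
   Ins.push 0 [([2, 0, 0, 0, -2, 2, -2, 2, 0, 0, 0, 0, 2, 0, 0, 0, 0, 0, 0, 2, 2, 0, 0, 0] : List ℤ)],
   Ins.push 1 [([2, -2, -2, 0, 0, 2, 0, 0, 2, 0, 2, 0, 0, 0, 0, 0, 0, 0, 0, 0, 0, 2, 2, 0] : List ℤ)],
   Ins.push 0 [([2, 2, -2, -2, 0, 0, 2, 0, 0, 2, 0, 2, 0, 0, 0, 0, 0, 0, 0, 0, 0, 0, 2, 0] : List ℤ)],
   Ins.push 0 [([2, 2, 2, -2, -2, 0, 0, 2, 0, 0, 2, 0, 2, 0, 0, 0, 0, 0, 0, 0, 0, 0, 0, 0] : List ℤ)],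
   Ins.mark,
   Ins.pop,
   Ins.pop,
   Ins.pop,
   Ins.pop,
   Ins.pop,
   Ins.pop,
   Ins.push 0 [([0, 0, 2, 0, 2, -2, 2, 0, 2, 0, 0, 0, 0, 0, 0, 2, 0, 0, 0, -2, 0, 2, 0, 0] : List ℤ)],
   Ins.push 1 [([0, 2, 2, 0, 0, 0, 2, 0, 0, 0, 0, 0, 0, 0, 0, 2, 2, 0, 0, 0, 2, -2, -2, 0] : List ℤ)],
   Ins.push 0 [([-2, 0, 2, 2, 0, 0, 0, 2, 0, 0, 0, 0, 0, 0, 0, 0, 2, 2, 0, 0, 0, 2, -2, 0] : List ℤ)],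
   Ins.push 0 [([-2, -2, 0, 2, 2, 0, 0, 0, 2, 0, 0, 0, 0, 0, 0, 0, 0, 2, 2, 0, 0, 0, 2, 0] : List ℤ)],
   Ins.push 1 [([-2, 0, 2, 2, 2, 0, 0, 0, 0, 0, 0, 2, 0, 0, 2, 0, 2, 0, -2, 0, 0, 0, 0, 0] : List ℤ)],
   Ins.push 1 [([-2, 0, 2, 2, -2, 0, 2, 0, 0, 0, 0, 0, 0, 2, 0, 0, 0, 2, 0, 2, 0, 0, 0, 0] : List ℤ)],
   Ins.push 1 [([-2, 2, -2, 2, 0, 0, 2, 0, 0, 2, 0, 2, 0, 0, 0, 0, 0, 0, 0, 0, 0, 0, 2, 0] : List ℤ)],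
   Ins.push 0 [([2, -2, 2, -2, 2, 0, 0, 2, 0, 0, 2, 0, 2, 0, 0, 0, 0, 0, 0, 0, 0, 0, 0, 0] : List ℤ)],
   Ins.mark,
   Ins.pop,
   Ins.pop,
   Ins.pop,
   Ins.pop,
   Ins.pop,
   Ins.pop,
   Ins.pop,
   Ins.pop,
   Ins.pop,
   Ins.push 1 [([2, 2, 2, -2, 0, 0, 2, 0, 0, 2, 0, -2, 0, 0, 0, 0, 0, 0, 0, 0, 0, 0, 2, 0] : List ℤ)],
   Ins.push 0 [([2, 2, 2, 2, -2, 0, 0, 2, 0, 0, 2, 0, -2, 0, 0, 0, 0, 0, 0, 0, 0, 0, 0, 0] : List ℤ)],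
   Ins.mark,
   Ins.pop,
   Ins.pop,
   Ins.pop,
   Ins.push 1 [([0, 0, 0, 2, 2, 0, -2, 0, 2, 0, 0, 0, 0, -2, 2, 0, 0, 0, 2, 0, 0, 2, 0, 0] : List ℤ)],
   Ins.push 1 [([0, -2, 2, 2, 2, 0, 0, 0, 0, -2, 0, 0, 0, 0, 0, 0, 2, 2, 0, 0, 2, 0, 0, 0] : List ℤ)],
   Ins.push 0 [([0, 0, -2, 2, 2, 2, 0, 0, 0, 0, -2, 0, 0, 0, 0, 0, 0, 2, 2, 0, 0, 2, 0, 0] : List ℤ)],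
   Ins.push 0 [([0, 0, 0, -2, 2, 2, 2, 0, 0, 0, 0, -2, 0, 0, 0, 0, 0, 0, 2, 2, 0, 0, 2, 0] : List ℤ)],
   Ins.push 0 [([2, 0, 0, 0, -2, 2, 2, 2, 0, 0, 0, 0, -2, 0, 0, 0, 0, 0, 0, 2, 2, 0, 0, 0] : List ℤ)],
   Ins.push 1 [([2, 2, -2, 0, 0, 2, 0, 0, -2, 0, 2, 0, 0, 0, 0, 0, 0, 0, 0, 0, 0, 2, 2, 0] : List ℤ)],
   Ins.push 0 [([2, 2, 2, -2, 0, 0, 2, 0, 0, -2, 0, 2, 0, 0, 0, 0, 0, 0, 0, 0, 0, 0, 2, 0] : List ℤ)],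
   Ins.push 0 [([2, 2, 2, 2, -2, 0, 0, 2, 0, 0, -2, 0, 2, 0, 0, 0, 0, 0, 0, 0, 0, 0, 0, 0] : List ℤ)],
   Ins.mark,
   Ins.pop,
   Ins.pop,
   Ins.pop,
   Ins.pop,
   Ins.pop,
   Ins.pop,
   Ins.push 1 [([0, 0, 2, 2, 0, 0, 2, 0, 0, 0, 2, 2, -2, 2, 0, 0, 0, 0, -2, 0, 0, 0, 0, 0] : List ℤ)],
   Ins.push 0 [([0, 0, 0, 2, 2, 0, 0, 2, 0, 0, 0, 2, 2, -2, 2, 0, 0, 0, 0, -2, 0, 0, 0, 0] : List ℤ)],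
   Ins.push 1 [([0, 0, 2, 2, 0, 2, 0, 0, 2, -2, 0, 0, 0, 0, 0, 0, 0, 2, 0, 2, 0, 0, -2, 0] : List ℤ)],
   Ins.push 0 [([-2, 0, 0, 2, 2, 0, 2, 0, 0, 2, -2, 0, 0, 0, 0, 0, 0, 0, 2, 0, 2, 0, 0, 0] : List ℤ)],
   Ins.push 1 [([-2, 2, 2, 2, 2, 0, 0, -2, 0, 0, 2, 0, 2, 0, 0, 0, 0, 0, 0, 0, 0, 0, 0, 0] : List ℤ)],
   Ins.mark,
   Ins.pop,
   Ins.pop,
   Ins.pop,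
   Ins.pop,
   Ins.pop,
   Ins.pop,
   Ins.pop,
   Ins.pop,
   Ins.pop,
   Ins.pop,
   Ins.push 0 [([0, 2, 2, 2, -2, 2, 0, 0, 2, 0, 0, -2, 0, 2, 0, 0, 0, 0, 0, 0, 0, 0, 0, 0] : List ℤ)],
   Ins.push 1 [([0, 0, -2, 2, 0, 0, 2, 0, 0, 2, 0, 0, 0, 0, 0, 0, 2, 0, 2, -2, 0, 2, 0, 0] : List ℤ)],
   Ins.push 0 [([0, 0, 0, -2, 2, 0, 0, 2, 0, 0, 2, 0, 0, 0, 0, 0, 0, 2, 0, 2, -2, 0, 2, 0] : List ℤ)],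
   Ins.push 1 [([0, 0, 2, -2, 0, 2, 0, 2, 0, 0, -2, 2, 0, 0, 2, 0, 0, 0, 0, 0, 0, 0, 2, 0] : List ℤ)],
   Ins.push 0 [([2, 0, 0, 2, -2, 0, 2, 0, 2, 0, 0, -2, 2, 0, 0, 2, 0, 0, 0, 0, 0, 0, 0, 0] : List ℤ)],
   Ins.push 1 [([2, 2, -2, 2, 0, 0, 0, 0, 2, 0, 0, 0, 0, 0, 0, 2, 2, 0, 0, -2, 0, 0, 0, 0] : List ℤ)],
   Ins.push 0 [([0, 2, 2, -2, 2, 0, 0, 0, 0, 2, 0, 0, 0, 0, 0, 0, 2, 2, 0, 0, -2, 0, 0, 0] : List ℤ)],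
   Ins.push 0 [([0, 0, 2, 2, -2, 2, 0, 0, 0, 0, 2, 0, 0, 0, 0, 0, 0, 2, 2, 0, 0, -2, 0, 0] : List ℤ)],
   Ins.push 0 [([0, 0, 0, 2, 2, -2, 2, 0, 0, 0, 0, 2, 0, 0, 0, 0, 0, 0, 2, 2, 0, 0, -2, 0] : List ℤ)],
   Ins.push 0 [([-2, 0, 0, 0, 2, 2, -2, 2, 0, 0, 0, 0, 2, 0, 0, 0, 0, 0, 0, 2, 2, 0, 0, 0] : List ℤ)],
   Ins.push 1 [([-2, -2, 2, 0, 0, 2, 0, 0, 2, 0, 2, 0, 0, 0, 0, 0, 0, 0, 0, 0, 0, 2, 2, 0] : List ℤ)],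
   Ins.push 0 [([2, -2, -2, 2, 0, 0, 2, 0, 0, 2, 0, 2, 0, 0, 0, 0, 0, 0, 0, 0, 0, 0, 2, 0] : List ℤ)],
   Ins.push 0 [([2, 2, -2, -2, 2, 0, 0, 2, 0, 0, 2, 0, 2, 0, 0, 0, 0, 0, 0, 0, 0, 0, 0, 0] : List ℤ)],
   Ins.mark,
   Ins.pop,
   Ins.pop,
   Ins.pop,
   Ins.pop,
   Ins.pop,
   Ins.pop,
   Ins.pop,
   Ins.pop,
   Ins.pop,
   Ins.pop,
   Ins.pop,
   Ins.pop,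
   Ins.push 0 [([0, 0, 2, 2, 2, -2, 2, 0, 0, 2, 0, 0, -2, 0, 2, 0, 0, 0, 0, 0, 0, 0, 0, 0] : List ℤ)],
   Ins.push 0 [([0, 0, 0, 2, 2, 2, -2, 2, 0, 0, 2, 0, 0, -2, 0, 2, 0, 0, 0, 0, 0, 0, 0, 0] : List ℤ)],
   Ins.push 1 [([0, -2, 2, 2, 0, 2, 0, 2, 0, -2, 0, 0, 0, 0, 0, 2, 0, 0, 0, 0, 0, 2, 0, 0] : List ℤ)],
   Ins.push 1 [([0, 0, 0, 2, 0, 2, 2, 0, 0, 0, 0, 0, -2, 0, 0, 2, 0, 0, -2, 0, 2, 2, 0, 0] : List ℤ)],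
   Ins.push 1 [([0, 2, 0, 2, -2, 0, 0, 0, -2, 0, 2, 0, 0, 0, 0, 2, 0, 0, 0, 0, 2, 2, 0, 0] : List ℤ)],
   Ins.push 0 [([0, 0, 2, 0, 2, -2, 0, 0, 0, -2, 0, 2, 0, 0, 0, 0, 2, 0, 0, 0, 0, 2, 2, 0] : List ℤ)],
   Ins.push 1 [([0, 0, 2, 0, 0, 0, 2, 0, 0, 0, 0, 0, -2, 2, 2, 0, 0, 0, 0, 2, 2, -2, 0, 0] : List ℤ)],
   Ins.push 1 [([0, 2, 0, 0, 0, 0, 2, 0, -2, 2, 2, 0, 0, 0, 0, 0, 0, 2, 0, 0, -2, 0, 2, 0] : List ℤ)],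
   Ins.push 0 [([2, 0, 2, 0, 0, 0, 0, 2, 0, -2, 2, 2, 0, 0, 0, 0, 0, 0, 2, 0, 0, -2, 0, 0] : List ℤ)],
   Ins.push 1 [([2, 0, 0, 0, 2, 2, 2, 2, 0, 0, 0, 0, -2, 0, 0, 0, 0, 0, 0, 2, -2, 0, 0, 0] : List ℤ)],
   Ins.push 1 [([2, 2, 2, 0, 0, 2, 0, 0, -2, 0, -2, 0, 0, 0, 0, 0, 0, 0, 0, 0, 0, 2, 2, 0] : List ℤ)],
   Ins.push 0 [([2, 2, 2, 2, 0, 0, 2, 0, 0, -2, 0, -2, 0, 0, 0, 0, 0, 0, 0, 0, 0, 0, 2, 0] : List ℤ)],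
   Ins.push 0 [([2, 2, 2, 2, 2, 0, 0, 2, 0, 0, -2, 0, -2, 0, 0, 0, 0, 0, 0, 0, 0, 0, 0, 0] : List ℤ)],
   Ins.mark,
   Ins.pop,
   Ins.pop,
   Ins.pop,
   Ins.pop,
   Ins.pop,
   Ins.pop,
   Ins.pop,
   Ins.pop,
   Ins.pop,
   Ins.pop,
   Ins.push 0 [([0, 0, -2, 2, 2, 0, 2, 0, 2, 0, -2, 0, 0, 0, 0, 0, 2, 0, 0, 0, 0, 0, 2, 0] : List ℤ)],
   Ins.push 0 [([2, 0, 0, -2, 2, 2, 0, 2, 0, 2, 0, -2, 0, 0, 0, 0, 0, 2, 0, 0, 0, 0, 0, 0] : List ℤ)],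
   Ins.push 1 [([2, 0, 2, -2, 0, 2, 0, 0, 0, 0, 0, 2, 2, 0, 0, 0, 0, 0, 0, -2, 0, 2, 0, 0] : List ℤ)],
   Ins.push 1 [([2, 0, 0, -2, 0, 0, 2, 0, 2, 0, 0, 0, 0, 0, 0, 0, 0, 0, 0, 2, 2, 2, -2, 0] : List ℤ)],
   Ins.push 0 [([-2, 2, 0, 0, -2, 0, 0, 2, 0, 2, 0, 0, 0, 0, 0, 0, 0, 0, 0, 0, 2, 2, 2, 0] : List ℤ)],
   Ins.push 0 [([2, -2, 2, 0, 0, -2, 0, 0, 2, 0, 2, 0, 0, 0, 0, 0, 0, 0, 0, 0, 0, 2, 2, 0] : List ℤ)],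
   Ins.push 0 [([2, 2, -2, 2, 0, 0, -2, 0, 0, 2, 0, 2, 0, 0, 0, 0, 0, 0, 0, 0, 0, 0, 2, 0] : List ℤ)],
   Ins.push 0 [([2, 2, 2, -2, 2, 0, 0, -2, 0, 0, 2, 0, 2, 0, 0, 0, 0, 0, 0, 0, 0, 0, 0, 0] : List ℤ)],
   Ins.mark,
   Ins.pop,
   Ins.pop,
   Ins.pop,
   Ins.pop,
   Ins.push 1 [([2, 2, 0, -2, 0, 0, 0, 0, 0, 0, 2, 0, 0, 0, -2, 0, 2, 0, 0, 0, 2, 0, 2, 0] : List ℤ)],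
   Ins.push 0 [([2, 2, 2, 0, -2, 0, 0, 0, 0, 0, 0, 2, 0, 0, 0, -2, 0, 2, 0, 0, 0, 2, 0, 0] : List ℤ)],
   Ins.push 0 [([0, 2, 2, 2, 0, -2, 0, 0, 0, 0, 0, 0, 2, 0, 0, 0, -2, 0, 2, 0, 0, 0, 2, 0] : List ℤ)],
   Ins.push 0 [([2, 0, 2, 2, 2, 0, -2, 0, 0, 0, 0, 0, 0, 2, 0, 0, 0, -2, 0, 2, 0, 0, 0, 0] : List ℤ)],
   Ins.push 1 [([2, -2, 2, 2, 0, 0, 2, 0, 0, 2, 0, -2, 0, 0, 0, 0, 0, 0, 0, 0, 0, 0, 2, 0] : List ℤ)],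
   Ins.push 0 [([2, 2, -2, 2, 2, 0, 0, 2, 0, 0, 2, 0, -2, 0, 0, 0, 0, 0, 0, 0, 0, 0, 0, 0] : List ℤ)],
   Ins.mark,
   Ins.pop,
   Ins.pop,
   Ins.pop,
   Ins.pop,
   Ins.pop,
   Ins.pop,
   Ins.pop,
   Ins.pop,
   Ins.push 0 [([0, 2, 0, 0, -2, 2, 2, 0, 2, 0, 2, 0, -2, 0, 0, 0, 0, 0, 2, 0, 0, 0, 0, 0] : List ℤ)],
   Ins.push 1 [([0, 2, -2, 0, 2, 0, 0, 2, -2, 0, 0, 0, 0, 0, 0, 0, 2, 0, 2, 0, 0, 2, 0, 0] : List ℤ)],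
   Ins.push 0 [([0, 0, 2, -2, 0, 2, 0, 0, 2, -2, 0, 0, 0, 0, 0, 0, 0, 2, 0, 2, 0, 0, 2, 0] : List ℤ)],
   Ins.push 0 [([2, 0, 0, 2, -2, 0, 2, 0, 0, 2, -2, 0, 0, 0, 0, 0, 0, 0, 2, 0, 2, 0, 0, 0] : List ℤ)],
   Ins.push 1 [([2, 2, -2, 2, 2, 0, 0, -2, 0, 0, 2, 0, 2, 0, 0, 0, 0, 0, 0, 0, 0, 0, 0, 0] : List ℤ)],
   Ins.mark,
   Ins.pop,
   Ins.pop,
   Ins.pop,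
   Ins.pop,
   Ins.pop,
   Ins.pop,
   Ins.pop,
   Ins.pop,
   Ins.pop,
   Ins.push 1 [([0, 2, 2, 2, 0, 0, 2, 0, -2, 0, 0, 0, 2, 0, 0, 0, 0, 2, 0, 0, 0, -2, 0, 0] : List ℤ)],
   Ins.push 0 [([0, 0, 2, 2, 2, 0, 0, 2, 0, -2, 0, 0, 0, 2, 0, 0, 0, 0, 2, 0, 0, 0, -2, 0] : List ℤ)],
   Ins.push 1 [([0, 0, 2, 2, 2, 2, 2, 0, 0, 2, 0, 0, -2, 0, -2, 0, 0, 0, 0, 0, 0, 0, 0, 0] : List ℤ)],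
   Ins.push 1 [([0, 2, 2, 2, 0, 0, 2, 0, -2, 0, 0, 0, 2, 0, 0, 0, 0, -2, 0, 0, 0, 2, 0, 0] : List ℤ)],
   Ins.push 0 [([0, 0, 2, 2, 2, 0, 0, 2, 0, -2, 0, 0, 0, 2, 0, 0, 0, 0, -2, 0, 0, 0, 2, 0] : List ℤ)],
   Ins.push 0 [([2, 0, 0, 2, 2, 2, 0, 0, 2, 0, -2, 0, 0, 0, 2, 0, 0, 0, 0, -2, 0, 0, 0, 0] : List ℤ)],
   Ins.push 1 [([2, 0, 2, 2, 0, 0, 0, -2, 0, 0, 0, 0, 0, 0, 0, 0, 2, 2, 0, 0, 0, 2, -2, 0] : List ℤ)],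
   Ins.push 0 [([-2, 2, 0, 2, 2, 0, 0, 0, -2, 0, 0, 0, 0, 0, 0, 0, 0, 2, 2, 0, 0, 0, 2, 0] : List ℤ)],
   Ins.push 1 [([-2, 0, 2, 2, 2, 0, 0, 0, 0, 0, 0, 2, 0, 0, 2, 0, -2, 0, 2, 0, 0, 0, 0, 0] : List ℤ)],
   Ins.push 1 [([-2, 0, 2, 2, 2, 0, 2, 0, 0, 0, 0, 0, 0, -2, 0, 0, 0, 2, 0, 2, 0, 0, 0, 0] : List ℤ)],
   Ins.push 1 [([-2, 2, 2, 2, 0, 0, 2, 0, 0, -2, 0, 2, 0, 0, 0, 0, 0, 0, 0, 0, 0, 0, 2, 0] : List ℤ)],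
   Ins.push 0 [([2, -2, 2, 2, 2, 0, 0, 2, 0, 0, -2, 0, 2, 0, 0, 0, 0, 0, 0, 0, 0, 0, 0, 0] : List ℤ)],
   Ins.mark,
   Ins.pop,
   Ins.pop,
   Ins.pop,
   Ins.pop,
   Ins.pop,
   Ins.pop,
   Ins.pop,
   Ins.pop,
   Ins.pop,
   Ins.pop,
   Ins.pop,
   Ins.push 1 [([0, 2, 0, 2, 0, 0, 2, 0, 2, 0, 0, 2, 0, 0, 0, 0, -2, 0, 2, 0, -2, 0, 0, 0] : List ℤ)],
   Ins.push 0 [([0, 0, 2, 0, 2, 0, 0, 2, 0, 2, 0, 0, 2, 0, 0, 0, 0, -2, 0, 2, 0, -2, 0, 0] : List ℤ)],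
   Ins.push 0 [([0, 0, 0, 2, 0, 2, 0, 0, 2, 0, 2, 0, 0, 2, 0, 0, 0, 0, -2, 0, 2, 0, -2, 0] : List ℤ)],
   Ins.push 0 [([-2, 0, 0, 0, 2, 0, 2, 0, 0, 2, 0, 2, 0, 0, 2, 0, 0, 0, 0, -2, 0, 2, 0, 0] : List ℤ)],
   Ins.push 1 [([-2, 2, 2, 0, 0, 0, 0, 0, 0, 0, 0, 0, 2, 0, 0, 0, 0, 2, 0, 2, 2, 0, -2, 0] : List ℤ)],
   Ins.push 0 [([-2, -2, 2, 2, 0, 0, 0, 0, 0, 0, 0, 0, 0, 2, 0, 0, 0, 0, 2, 0, 2, 2, 0, 0] : List ℤ)],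
   Ins.push 1 [([-2, 0, 0, 2, 2, 0, 2, 0, 0, 2, 2, 0, 0, 0, 0, 0, 0, 0, -2, 0, 2, 0, 0, 0] : List ℤ)],
   Ins.push 1 [([-2, 2, 2, 2, -2, 0, 0, 2, 0, 0, 2, 0, 2, 0, 0, 0, 0, 0, 0, 0, 0, 0, 0, 0] : List ℤ)],
   Ins.mark,
   Ins.pop,
   Ins.pop,
   Ins.pop,
   Ins.pop,
   Ins.pop,
   Ins.pop,
   Ins.pop,
   Ins.pop,
   Ins.pop,
   Ins.pop,
   Ins.pop,
   Ins.pop,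
   Ins.pop,
   Ins.push 11 [([-2, -2, -2, 2, -2, 0, 0, -2, 0, 0, 2, 0, -2, 0, 0, 0, 0, 0, 0, 0, 0, 0, 0, 0] : List ℤ)],
   Ins.mark,
   Ins.push 1 [([-2, 0, -2, 2, 0, -2, -2, 2, -2, 0, 0, 0, 0, 0, 0, 0, 0, 0, -2, 0, 0, 0, 0, 0] : List ℤ)],
   Ins.push 0 [([0, -2, 0, -2, 2, 0, -2, -2, 2, -2, 0, 0, 0, 0, 0, 0, 0, 0, 0, -2, 0, 0, 0, 0] : List ℤ)],
   Ins.push 1 [([0, -2, 2, -2, 0, -2, 0, 0, 0, 0, 0, 0, -2, 0, 0, 0, 2, 0, -2, 0, 0, 0, -2, 0] : List ℤ)],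
   Ins.push 1 [([0, 0, 0, -2, -2, 0, 2, 0, -2, 0, 0, 0, 0, 2, -2, 0, 0, 0, -2, 0, 0, -2, 0, 0] : List ℤ)],
   Ins.push 1 [([0, 2, -2, -2, -2, 0, 0, 0, 0, 2, 0, 0, 0, 0, 0, 0, -2, -2, 0, 0, -2, 0, 0, 0] : List ℤ)],
   Ins.push 1 [([0, 0, -2, -2, 0, 0, -2, 0, 0, 0, -2, -2, 2, -2, 0, 0, 0, 0, 2, 0, 0, 0, 0, 0] : List ℤ)],
   Ins.push 0 [([0, 0, 0, -2, -2, 0, 0, -2, 0, 0, 0, -2, -2, 2, -2, 0, 0, 0, 0, 2, 0, 0, 0, 0] : List ℤ)],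
   Ins.push 1 [([0, 0, -2, -2, 0, -2, 0, 0, -2, 2, 0, 0, 0, 0, 0, 0, 0, -2, 0, -2, 0, 0, 2, 0] : List ℤ)],
   Ins.push 0 [([2, 0, 0, -2, -2, 0, -2, 0, 0, -2, 2, 0, 0, 0, 0, 0, 0, 0, -2, 0, -2, 0, 0, 0] : List ℤ)],
   Ins.push 1 [([2, -2, -2, -2, -2, 0, 0, 2, 0, 0, -2, 0, -2, 0, 0, 0, 0, 0, 0, 0, 0, 0, 0, 0] : List ℤ)],
   Ins.mark,
   Ins.pop,
   Ins.pop,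
   Ins.pop,
   Ins.pop,
   Ins.pop,
   Ins.push 0 [([0, 0, 2, -2, -2, -2, 0, 0, 0, 0, 2, 0, 0, 0, 0, 0, 0, -2, -2, 0, 0, -2, 0, 0] : List ℤ)],
   Ins.push 0 [([0, 0, 0, 2, -2, -2, -2, 0, 0, 0, 0, 2, 0, 0, 0, 0, 0, 0, -2, -2, 0, 0, -2, 0] : List ℤ)],
   Ins.push 0 [([-2, 0, 0, 0, 2, -2, -2, -2, 0, 0, 0, 0, 2, 0, 0, 0, 0, 0, 0, -2, -2, 0, 0, 0] : List ℤ)],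
   Ins.push 1 [([-2, -2, 2, 0, 0, -2, 0, 0, 2, 0, -2, 0, 0, 0, 0, 0, 0, 0, 0, 0, 0, -2, -2, 0] : List ℤ)],
   Ins.push 0 [([-2, -2, -2, 2, 0, 0, -2, 0, 0, 2, 0, -2, 0, 0, 0, 0, 0, 0, 0, 0, 0, 0, -2, 0] : List ℤ)],
   Ins.push 0 [([-2, -2, -2, -2, 2, 0, 0, -2, 0, 0, 2, 0, -2, 0, 0, 0, 0, 0, 0, 0, 0, 0, 0, 0] : List ℤ)],
   Ins.mark,
   Ins.pop,
   Ins.pop,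
   Ins.pop,
   Ins.pop,
   Ins.pop,
   Ins.pop,
   Ins.pop,
   Ins.pop,
   Ins.push 0 [([-2, 0, -2, 2, -2, 0, -2, 0, 0, 0, 0, 0, 0, -2, 0, 0, 0, 2, 0, -2, 0, 0, 0, 0] : List ℤ)],
   Ins.push 0 [([0, -2, 0, -2, 2, -2, 0, -2, 0, 0, 0, 0, 0, 0, -2, 0, 0, 0, 2, 0, -2, 0, 0, 0] : List ℤ)],
   Ins.push 1 [([0, 0, 2, -2, 2, -2, 0, 0, 0, 0, -2, 0, 0, 0, 0, 0, 0, -2, -2, 0, 0, -2, 0, 0] : List ℤ)],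
   Ins.push 0 [([0, 0, 0, 2, -2, 2, -2, 0, 0, 0, 0, -2, 0, 0, 0, 0, 0, 0, -2, -2, 0, 0, -2, 0] : List ℤ)],
   Ins.push 0 [([-2, 0, 0, 0, 2, -2, 2, -2, 0, 0, 0, 0, -2, 0, 0, 0, 0, 0, 0, -2, -2, 0, 0, 0] : List ℤ)],
   Ins.push 1 [([-2, 2, 2, 0, 0, -2, 0, 0, -2, 0, -2, 0, 0, 0, 0, 0, 0, 0, 0, 0, 0, -2, -2, 0] : List ℤ)],
   Ins.push 0 [([-2, -2, 2, 2, 0, 0, -2, 0, 0, -2, 0, -2, 0, 0, 0, 0, 0, 0, 0, 0, 0, 0, -2, 0] : List ℤ)],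
   Ins.push 0 [([-2, -2, -2, 2, 2, 0, 0, -2, 0, 0, -2, 0, -2, 0, 0, 0, 0, 0, 0, 0, 0, 0, 0, 0] : List ℤ)],
   Ins.mark,
   Ins.pop,
   Ins.pop,
   Ins.pop,
   Ins.pop,
   Ins.pop,
   Ins.pop,
   Ins.push 0 [([0, 0, -2, 0, -2, 2, -2, 0, -2, 0, 0, 0, 0, 0, 0, -2, 0, 0, 0, 2, 0, -2, 0, 0] : List ℤ)],
   Ins.push 1 [([0, -2, -2, 0, 0, 0, -2, 0, 0, 0, 0, 0, 0, 0, 0, -2, -2, 0, 0, 0, -2, 2, 2, 0] : List ℤ)],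
   Ins.push 0 [([2, 0, -2, -2, 0, 0, 0, -2, 0, 0, 0, 0, 0, 0, 0, 0, -2, -2, 0, 0, 0, -2, 2, 0] : List ℤ)],
   Ins.push 0 [([2, 2, 0, -2, -2, 0, 0, 0, -2, 0, 0, 0, 0, 0, 0, 0, 0, -2, -2, 0, 0, 0, -2, 0] : List ℤ)],
   Ins.push 1 [([2, 0, -2, -2, -2, 0, 0, 0, 0, 0, 0, -2, 0, 0, -2, 0, -2, 0, 2, 0, 0, 0, 0, 0] : List ℤ)],
   Ins.push 1 [([2, 0, -2, -2, 2, 0, -2, 0, 0, 0, 0, 0, 0, -2, 0, 0, 0, -2, 0, -2, 0, 0, 0, 0] : List ℤ)],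
   Ins.push 1 [([2, -2, 2, -2, 0, 0, -2, 0, 0, -2, 0, -2, 0, 0, 0, 0, 0, 0, 0, 0, 0, 0, -2, 0] : List ℤ)],
   Ins.push 0 [([-2, 2, -2, 2, -2, 0, 0, -2, 0, 0, -2, 0, -2, 0, 0, 0, 0, 0, 0, 0, 0, 0, 0, 0] : List ℤ)],
   Ins.mark,
   Ins.pop,
   Ins.pop,
   Ins.pop,
   Ins.pop,
   Ins.pop,
   Ins.pop,
   Ins.pop,
   Ins.pop,
   Ins.pop,
   Ins.push 1 [([-2, -2, -2, 2, 0, 0, -2, 0, 0, -2, 0, 2, 0, 0, 0, 0, 0, 0, 0, 0, 0, 0, -2, 0] : List ℤ)],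
   Ins.push 0 [([-2, -2, -2, -2, 2, 0, 0, -2, 0, 0, -2, 0, 2, 0, 0, 0, 0, 0, 0, 0, 0, 0, 0, 0] : List ℤ)],
   Ins.mark,
   Ins.pop,
   Ins.pop,
   Ins.pop,
   Ins.pop,
   Ins.push 0 [([0, 0, -2, 0, -2, 2, 0, -2, -2, 2, -2, 0, 0, 0, 0, 0, 0, 0, 0, 0, -2, 0, 0, 0] : List ℤ)],
   Ins.push 0 [([0, 0, 0, -2, 0, -2, 2, 0, -2, -2, 2, -2, 0, 0, 0, 0, 0, 0, 0, 0, 0, -2, 0, 0] : List ℤ)],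
   Ins.push 1 [([0, 2, 0, -2, 0, 0, 0, 2, 0, 0, 0, 0, -2, 0, 0, 0, -2, 0, 0, -2, -2, -2, 0, 0] : List ℤ)],
   Ins.push 1 [([0, 0, 0, -2, 0, 2, 0, 0, -2, 0, -2, 0, 0, -2, 0, 0, 0, 0, 2, 0, -2, 0, -2, 0] : List ℤ)],
   Ins.push 0 [([-2, 0, 0, 0, -2, 0, 2, 0, 0, -2, 0, -2, 0, 0, -2, 0, 0, 0, 0, 2, 0, -2, 0, 0] : List ℤ)],
   Ins.push 1 [([-2, 2, -2, 0, 0, 0, 0, 0, 0, 0, 0, 0, -2, 0, 0, 0, 0, -2, 0, -2, -2, 0, 2, 0] : List ℤ)],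
   Ins.push 0 [([2, -2, 2, -2, 0, 0, 0, 0, 0, 0, 0, 0, 0, -2, 0, 0, 0, 0, -2, 0, -2, -2, 0, 0] : List ℤ)],
   Ins.push 1 [([2, 0, 0, -2, -2, 0, 2, 0, 0, -2, -2, 0, 0, 0, 0, 0, 0, 0, -2, 0, -2, 0, 0, 0] : List ℤ)],
   Ins.push 1 [([2, 2, -2, -2, -2, 0, 0, -2, 0, 0, -2, 0, -2, 0, 0, 0, 0, 0, 0, 0, 0, 0, 0, 0] : List ℤ)],
   Ins.mark,
   Ins.pop,
   Ins.pop,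
   Ins.pop,
   Ins.pop,
   Ins.pop,
   Ins.pop,
   Ins.pop,
   Ins.push 0 [([0, 0, 0, 0, -2, 0, -2, 2, 0, -2, -2, 2, -2, 0, 0, 0, 0, 0, 0, 0, 0, 0, -2, 0] : List ℤ)],
   Ins.push 0 [([-2, 0, 0, 0, 0, -2, 0, -2, 2, 0, -2, -2, 2, -2, 0, 0, 0, 0, 0, 0, 0, 0, 0, 0] : List ℤ)],
   Ins.push 1 [([-2, 0, 0, 0, 0, -2, 0, -2, 2, -2, 0, 0, 0, 0, 0, 0, 2, 0, 0, -2, 0, -2, 0, 0] : List ℤ)],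
   Ins.push 0 [([0, -2, 0, 0, 0, 0, -2, 0, -2, 2, -2, 0, 0, 0, 0, 0, 0, 2, 0, 0, -2, 0, -2, 0] : List ℤ)],
   Ins.push 0 [([-2, 0, -2, 0, 0, 0, 0, -2, 0, -2, 2, -2, 0, 0, 0, 0, 0, 0, 2, 0, 0, -2, 0, 0] : List ℤ)],
   Ins.push 1 [([-2, 0, 0, 0, 2, -2, -2, 2, 0, 0, 0, 0, -2, 0, 0, 0, 0, 0, 0, -2, -2, 0, 0, 0] : List ℤ)],
   Ins.push 1 [([-2, -2, 2, 0, 0, 2, 0, 0, -2, 0, -2, 0, 0, 0, 0, 0, 0, 0, 0, 0, 0, -2, -2, 0] : List ℤ)],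
   Ins.push 0 [([-2, -2, -2, 2, 0, 0, 2, 0, 0, -2, 0, -2, 0, 0, 0, 0, 0, 0, 0, 0, 0, 0, -2, 0] : List ℤ)],
   Ins.push 0 [([-2, -2, -2, -2, 2, 0, 0, 2, 0, 0, -2, 0, -2, 0, 0, 0, 0, 0, 0, 0, 0, 0, 0, 0] : List ℤ)],
   Ins.mark,
   Ins.pop,
   Ins.pop,
   Ins.pop,
   Ins.pop,
   Ins.pop,
   Ins.pop,
   Ins.pop,
   Ins.pop,
   Ins.pop,
   Ins.pop,
   Ins.pop,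
   Ins.pop,
   Ins.push 1 [([-2, -2, 0, 2, -2, 2, -2, 0, 0, 0, 0, 0, 0, 0, 0, 0, -2, 0, 0, 0, 0, -2, 0, 0] : List ℤ)],
   Ins.push 1 [([-2, -2, -2, 2, 0, 0, 0, 0, 0, 0, 0, 0, 0, -2, 0, 0, 0, 0, -2, 0, -2, 2, 0, 0] : List ℤ)],
   Ins.push 0 [([0, -2, -2, -2, 2, 0, 0, 0, 0, 0, 0, 0, 0, 0, -2, 0, 0, 0, 0, -2, 0, -2, 2, 0] : List ℤ)],
   Ins.push 0 [([2, 0, -2, -2, -2, 2, 0, 0, 0, 0, 0, 0, 0, 0, 0, -2, 0, 0, 0, 0, -2, 0, -2, 0] : List ℤ)],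
   Ins.push 0 [([-2, 2, 0, -2, -2, -2, 2, 0, 0, 0, 0, 0, 0, 0, 0, 0, -2, 0, 0, 0, 0, -2, 0, 0] : List ℤ)],
   Ins.push 0 [([0, -2, 2, 0, -2, -2, -2, 2, 0, 0, 0, 0, 0, 0, 0, 0, 0, -2, 0, 0, 0, 0, -2, 0] : List ℤ)],
   Ins.push 0 [([-2, 0, -2, 2, 0, -2, -2, -2, 2, 0, 0, 0, 0, 0, 0, 0, 0, 0, -2, 0, 0, 0, 0, 0] : List ℤ)],
   Ins.push 1 [([-2, -2, 0, 2, -2, -2, -2, 0, 0, 0, 0, 0, 0, 0, 0, 0, 2, 0, 0, 0, 0, -2, 0, 0] : List ℤ)],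
   Ins.push 1 [([-2, -2, -2, 2, 0, 0, 0, 0, 0, 0, 0, 0, 0, 2, 0, 0, 0, 0, -2, 0, -2, -2, 0, 0] : List ℤ)],
   Ins.push 1 [([-2, 0, 0, 2, -2, 0, -2, 0, 0, 2, -2, 0, 0, 0, 0, 0, 0, 0, -2, 0, -2, 0, 0, 0] : List ℤ)],
   Ins.push 1 [([-2, -2, -2, 2, -2, 0, 0, -2, 0, 0, -2, 0, 2, 0, 0, 0, 0, 0, 0, 0, 0, 0, 0, 0] : List ℤ)],
   Ins.mark,
   Ins.pop,
   Ins.pop,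
   Ins.pop,
   Ins.pop,
   Ins.pop,
   Ins.pop,
   Ins.push 1 [([-2, 2, -2, -2, 0, 0, 0, 0, 0, 0, 0, 0, 0, -2, 0, 0, 0, 0, 2, 0, -2, -2, 0, 0] : List ℤ)],
   Ins.push 0 [([0, -2, 2, -2, -2, 0, 0, 0, 0, 0, 0, 0, 0, 0, -2, 0, 0, 0, 0, 2, 0, -2, -2, 0] : List ℤ)],
   Ins.push 0 [([-2, 0, -2, 2, -2, -2, 0, 0, 0, 0, 0, 0, 0, 0, 0, -2, 0, 0, 0, 0, 2, 0, -2, 0] : List ℤ)],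
   Ins.push 0 [([-2, -2, 0, -2, 2, -2, -2, 0, 0, 0, 0, 0, 0, 0, 0, 0, -2, 0, 0, 0, 0, 2, 0, 0] : List ℤ)],
   Ins.push 1 [([-2, -2, 2, -2, 0, 0, 0, 0, 0, 0, 0, 0, 0, -2, 0, 0, 0, 0, -2, 0, 2, -2, 0, 0] : List ℤ)],
   Ins.push 1 [([-2, 0, 0, -2, -2, 0, 2, 0, 0, -2, 2, 0, 0, 0, 0, 0, 0, 0, -2, 0, -2, 0, 0, 0] : List ℤ)],
   Ins.push 1 [([-2, 2, -2, -2, -2, 0, 0, 2, 0, 0, -2, 0, -2, 0, 0, 0, 0, 0, 0, 0, 0, 0, 0, 0] : List ℤ)],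
   Ins.mark,
   Ins.pop,
   Ins.pop,
   Ins.pop,
   Ins.pop,
   Ins.pop,
   Ins.pop,
   Ins.push 1 [([-2, 0, 0, -2, 2, 0, -2, 0, 0, -2, -2, 0, 0, 0, 0, 0, 0, 0, 2, 0, -2, 0, 0, 0] : List ℤ)],
   Ins.push 1 [([-2, -2, 2, -2, 2, 0, 0, -2, 0, 0, -2, 0, -2, 0, 0, 0, 0, 0, 0, 0, 0, 0, 0, 0] : List ℤ)],
   Ins.mark,
   Ins.pop,
   Ins.pop,
   Ins.pop,
   Ins.pop,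
   Ins.push 1 [([2, 0, -2, -2, 0, 0, -2, 0, 0, 0, -2, 0, 0, 0, -2, -2, 0, 0, 0, 0, 0, 2, 0, 0] : List ℤ)],
   Ins.push 1 [([2, -2, 0, -2, 0, 0, -2, -2, 0, 0, 0, 0, 0, 0, 0, -2, 0, -2, 0, 0, 2, 0, 0, 0] : List ℤ)],
   Ins.push 0 [([0, 2, -2, 0, -2, 0, 0, -2, -2, 0, 0, 0, 0, 0, 0, 0, -2, 0, -2, 0, 0, 2, 0, 0] : List ℤ)],
   Ins.push 0 [([0, 0, 2, -2, 0, -2, 0, 0, -2, -2, 0, 0, 0, 0, 0, 0, 0, -2, 0, -2, 0, 0, 2, 0] : List ℤ)],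
   Ins.push 0 [([2, 0, 0, 2, -2, 0, -2, 0, 0, -2, -2, 0, 0, 0, 0, 0, 0, 0, -2, 0, -2, 0, 0, 0] : List ℤ)],
   Ins.push 1 [([2, -2, -2, 2, -2, 0, 0, -2, 0, 0, -2, 0, -2, 0, 0, 0, 0, 0, 0, 0, 0, 0, 0, 0] : List ℤ)],
   Ins.mark,
   Ins.pop,
   Ins.pop,
   Ins.pop,
   Ins.pop,
   Ins.pop,
   Ins.pop,
   Ins.pop,
   Ins.push 1 [([0, 0, 2, -2, 0, 0, -2, 0, 0, 0, 0, 0, 0, 0, 2, 0, 0, -2, -2, 0, -2, 0, -2, 0] : List ℤ)],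
   Ins.push 0 [([-2, 0, 0, 2, -2, 0, 0, -2, 0, 0, 0, 0, 0, 0, 0, 2, 0, 0, -2, -2, 0, -2, 0, 0] : List ℤ)],
   Ins.push 1 [([-2, 0, -2, 2, -2, -2, 0, 0, 0, 0, 0, 0, 0, 0, 0, 2, 0, 0, 0, 0, -2, 0, -2, 0] : List ℤ)],
   Ins.push 1 [([-2, 0, -2, 2, 0, 0, -2, 0, 0, 0, -2, 0, 0, 0, -2, 2, 0, 0, 0, 0, 0, -2, 0, 0] : List ℤ)],
   Ins.push 1 [([-2, -2, 0, 2, 0, 0, -2, -2, 0, 0, 0, 0, 0, 0, 0, 2, 0, -2, 0, 0, -2, 0, 0, 0] : List ℤ)],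
   Ins.push 0 [([0, -2, -2, 0, 2, 0, 0, -2, -2, 0, 0, 0, 0, 0, 0, 0, 2, 0, -2, 0, 0, -2, 0, 0] : List ℤ)],
   Ins.push 0 [([0, 0, -2, -2, 0, 2, 0, 0, -2, -2, 0, 0, 0, 0, 0, 0, 0, 2, 0, -2, 0, 0, -2, 0] : List ℤ)],
   Ins.push 0 [([-2, 0, 0, -2, -2, 0, 2, 0, 0, -2, -2, 0, 0, 0, 0, 0, 0, 0, 2, 0, -2, 0, 0, 0] : List ℤ)],
   Ins.push 1 [([-2, 2, -2, -2, 2, 0, 0, -2, 0, 0, -2, 0, -2, 0, 0, 0, 0, 0, 0, 0, 0, 0, 0, 0] : List ℤ)],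
   Ins.mark,
   Ins.pop,
   Ins.pop,
   Ins.pop,
   Ins.pop,
   Ins.pop,
   Ins.pop,
   Ins.pop,
   Ins.pop,
   Ins.pop,
   Ins.pop,
   Ins.push 1 [([-2, 0, 0, 2, -2, 0, -2, 0, 0, -2, -2, 0, 0, 0, 0, 0, 0, 0, -2, 0, 2, 0, 0, 0] : List ℤ)],
   Ins.push 0 [([0, -2, 0, 0, 2, -2, 0, -2, 0, 0, -2, -2, 0, 0, 0, 0, 0, 0, 0, -2, 0, 2, 0, 0] : List ℤ)],
   Ins.push 1 [([0, 0, 2, 0, 0, -2, 0, -2, 0, 0, 0, 0, 0, 0, 0, 0, 0, 0, -2, -2, 2, -2, -2, 0] : List ℤ)],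
   Ins.push 0 [([-2, 0, 0, 2, 0, 0, -2, 0, -2, 0, 0, 0, 0, 0, 0, 0, 0, 0, 0, -2, -2, 2, -2, 0] : List ℤ)],
   Ins.push 1 [([-2, -2, 0, 2, 0, 0, 0, 0, 0, 0, -2, 0, 0, 0, -2, 0, -2, 0, 0, 0, 2, 0, -2, 0] : List ℤ)],
   Ins.push 0 [([-2, -2, -2, 0, 2, 0, 0, 0, 0, 0, 0, -2, 0, 0, 0, -2, 0, -2, 0, 0, 0, 2, 0, 0] : List ℤ)],
   Ins.push 0 [([0, -2, -2, -2, 0, 2, 0, 0, 0, 0, 0, 0, -2, 0, 0, 0, -2, 0, -2, 0, 0, 0, 2, 0] : List ℤ)],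
   Ins.push 0 [([2, 0, -2, -2, -2, 0, 2, 0, 0, 0, 0, 0, 0, -2, 0, 0, 0, -2, 0, -2, 0, 0, 0, 0] : List ℤ)],
   Ins.push 1 [([2, 2, -2, -2, 0, 0, -2, 0, 0, -2, 0, -2, 0, 0, 0, 0, 0, 0, 0, 0, 0, 0, -2, 0] : List ℤ)],
   Ins.push 0 [([-2, 2, 2, -2, -2, 0, 0, -2, 0, 0, -2, 0, -2, 0, 0, 0, 0, 0, 0, 0, 0, 0, 0, 0] : List ℤ)],
   Ins.mark,
   Ins.pop,
   Ins.pop,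
   Ins.pop,
   Ins.pop,
   Ins.pop,
   Ins.pop,
   Ins.pop,
   Ins.pop,
   Ins.pop,
   Ins.pop,
   Ins.pop,
   Ins.push 0 [([0, -2, -2, 0, 2, -2, 2, -2, 0, 0, 0, 0, 0, 0, 0, 0, 0, -2, 0, 0, 0, 0, -2, 0] : List ℤ)],
   Ins.push 0 [([-2, 0, -2, -2, 0, 2, -2, 2, -2, 0, 0, 0, 0, 0, 0, 0, 0, 0, -2, 0, 0, 0, 0, 0] : List ℤ)],
   Ins.push 1 [([-2, -2, 0, -2, -2, 2, -2, 0, 0, 0, 0, 0, 0, 0, 0, 0, -2, 0, 0, 0, 0, 2, 0, 0] : List ℤ)],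
   Ins.push 1 [([-2, -2, -2, -2, 0, 0, 0, 0, 0, 0, 0, 0, 0, -2, 0, 0, 0, 0, -2, 0, 2, 2, 0, 0] : List ℤ)],
   Ins.push 1 [([-2, 0, 0, -2, -2, 0, -2, 0, 0, -2, 2, 0, 0, 0, 0, 0, 0, 0, -2, 0, 2, 0, 0, 0] : List ℤ)],
   Ins.push 1 [([-2, -2, -2, -2, -2, 0, 0, 2, 0, 0, 2, 0, -2, 0, 0, 0, 0, 0, 0, 0, 0, 0, 0, 0] : List ℤ)],
   Ins.mark,
   Ins.pop,
   Ins.pop,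
   Ins.push 0 [([0, -2, -2, -2, -2, 0, 0, 0, 0, 0, 0, 0, 0, 0, -2, 0, 0, 0, 0, -2, 0, 2, 2, 0] : List ℤ)],
   Ins.push 0 [([2, 0, -2, -2, -2, -2, 0, 0, 0, 0, 0, 0, 0, 0, 0, -2, 0, 0, 0, 0, -2, 0, 2, 0] : List ℤ)],
   Ins.push 0 [([2, 2, 0, -2, -2, -2, -2, 0, 0, 0, 0, 0, 0, 0, 0, 0, -2, 0, 0, 0, 0, -2, 0, 0] : List ℤ)],
   Ins.push 1 [([2, -2, -2, -2, 0, 0, 0, 0, 0, 0, 0, 0, 0, -2, 0, 0, 0, 0, 2, 0, -2, -2, 0, 0] : List ℤ)],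
   Ins.push 1 [([2, 0, 0, -2, 2, 0, -2, 0, 0, -2, -2, 0, 0, 0, 0, 0, 0, 0, -2, 0, -2, 0, 0, 0] : List ℤ)],
   Ins.push 1 [([2, -2, 2, -2, -2, 0, 0, -2, 0, 0, -2, 0, -2, 0, 0, 0, 0, 0, 0, 0, 0, 0, 0, 0] : List ℤ)],
   Ins.mark,
   Ins.pop,
   Ins.pop,
   Ins.pop,
   Ins.pop,
   Ins.pop,
   Ins.pop,
   Ins.pop,
   Ins.push 0 [([0, -2, -2, 0, -2, -2, 2, -2, 0, 0, 0, 0, 0, 0, 0, 0, 0, -2, 0, 0, 0, 0, 2, 0] : List ℤ)],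
   Ins.push 0 [([2, 0, -2, -2, 0, -2, -2, 2, -2, 0, 0, 0, 0, 0, 0, 0, 0, 0, -2, 0, 0, 0, 0, 0] : List ℤ)],
   Ins.push 1 [([2, -2, 0, -2, -2, 2, -2, 0, 0, 0, 0, 0, 0, 0, 0, 0, -2, 0, 0, 0, 0, -2, 0, 0] : List ℤ)],
   Ins.push 1 [([2, -2, -2, -2, 0, 0, 0, 0, 0, 0, 0, 0, 0, -2, 0, 0, 0, 0, -2, 0, -2, 2, 0, 0] : List ℤ)],
   Ins.push 1 [([2, 0, 0, -2, -2, 0, -2, 0, 0, -2, -2, 0, 0, 0, 0, 0, 0, 0, -2, 0, 2, 0, 0, 0] : List ℤ)],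
   Ins.push 1 [([2, -2, -2, -2, -2, 0, 0, -2, 0, 0, 2, 0, -2, 0, 0, 0, 0, 0, 0, 0, 0, 0, 0, 0] : List ℤ)],
   Ins.mark,
   Ins.pop,
   Ins.pop,
   Ins.pop,
   Ins.pop,
   Ins.push 0 [([0, 2, 0, -2, -2, 0, -2, -2, 2, -2, 0, 0, 0, 0, 0, 0, 0, 0, 0, -2, 0, 0, 0, 0] : List ℤ)],
   Ins.push 1 [([0, -2, -2, -2, 0, -2, 0, 0, 0, 0, 0, 0, -2, 0, 0, 0, 2, 0, 2, 0, 0, 0, -2, 0] : List ℤ)],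
   Ins.push 0 [([-2, 0, -2, -2, -2, 0, -2, 0, 0, 0, 0, 0, 0, -2, 0, 0, 0, 2, 0, 2, 0, 0, 0, 0] : List ℤ)],
   Ins.push 1 [([-2, -2, -2, -2, 0, 0, -2, 0, 0, -2, 0, 2, 0, 0, 0, 0, 0, 0, 0, 0, 0, 0, 2, 0] : List ℤ)],
   Ins.push 0 [([2, -2, -2, -2, -2, 0, 0, -2, 0, 0, -2, 0, 2, 0, 0, 0, 0, 0, 0, 0, 0, 0, 0, 0] : List ℤ)],
   Ins.mark,
   Ins.pop,
   Ins.pop,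
   Ins.pop,
   Ins.pop,
   Ins.pop,
   Ins.pop,
   Ins.pop,
   Ins.pop,
   Ins.push 0 [([0, -2, 0, -2, -2, 0, 2, -2, 2, -2, 0, 0, 0, 0, 0, 0, 0, 0, 0, -2, 0, 0, 0, 0] : List ℤ)],
   Ins.push 1 [([0, 2, -2, -2, 0, -2, 0, 0, 0, 0, 0, 0, -2, 0, 0, 0, 2, 0, -2, 0, 0, 0, -2, 0] : List ℤ)],
   Ins.push 0 [([-2, 0, 2, -2, -2, 0, -2, 0, 0, 0, 0, 0, 0, -2, 0, 0, 0, 2, 0, -2, 0, 0, 0, 0] : List ℤ)],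
   Ins.push 1 [([-2, -2, -2, -2, 0, 0, 2, 0, 0, -2, 0, 2, 0, 0, 0, 0, 0, 0, 0, 0, 0, 0, -2, 0] : List ℤ)],
   Ins.push 0 [([-2, -2, -2, -2, -2, 0, 0, 2, 0, 0, -2, 0, 2, 0, 0, 0, 0, 0, 0, 0, 0, 0, 0, 0] : List ℤ)],
   Ins.mark,
   Ins.pop,
   Ins.pop,
   Ins.pop,
   Ins.pop,
   Ins.pop,
   Ins.pop,
   Ins.push 1 [([0, 2, 2, 0, 0, -2, -2, 0, 0, 0, 0, -2, 0, 0, -2, 0, 0, 0, -2, 0, 0, -2, 0, 0] : List ℤ)],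
   Ins.push 1 [([0, -2, 0, 0, -2, 0, 2, 0, 0, 0, 0, 0, 0, 0, 0, 0, 0, -2, 2, -2, -2, -2, 0, 0] : List ℤ)],
   Ins.push 1 [([0, 2, -2, 0, 2, 0, 0, 0, 0, 0, -2, -2, 0, 0, 0, 0, 0, 0, -2, 0, -2, 0, -2, 0] : List ℤ)],
   Ins.push 0 [([-2, 0, 2, -2, 0, 2, 0, 0, 0, 0, 0, -2, -2, 0, 0, 0, 0, 0, 0, -2, 0, -2, 0, 0] : List ℤ)],
   Ins.push 1 [([-2, 0, 0, -2, 0, 0, 2, 0, -2, 0, 0, 0, 0, 0, 0, 0, 0, 0, 0, -2, -2, 2, -2, 0] : List ℤ)],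
   Ins.push 0 [([-2, -2, 0, 0, -2, 0, 0, 2, 0, -2, 0, 0, 0, 0, 0, 0, 0, 0, 0, 0, -2, -2, 2, 0] : List ℤ)],
   Ins.push 0 [([2, -2, -2, 0, 0, -2, 0, 0, 2, 0, -2, 0, 0, 0, 0, 0, 0, 0, 0, 0, 0, -2, -2, 0] : List ℤ)],
   Ins.push 0 [([-2, 2, -2, -2, 0, 0, -2, 0, 0, 2, 0, -2, 0, 0, 0, 0, 0, 0, 0, 0, 0, 0, -2, 0] : List ℤ)],
   Ins.push 0 [([-2, -2, 2, -2, -2, 0, 0, -2, 0, 0, 2, 0, -2, 0, 0, 0, 0, 0, 0, 0, 0, 0, 0, 0] : List ℤ)],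
   Ins.mark,
   Ins.pop,
   Ins.pop,
   Ins.pop,
   Ins.pop,
   Ins.pop,
   Ins.pop,
   Ins.pop,
   Ins.push 0 [([0, 0, -2, 0, 0, -2, 0, 2, 0, 0, 0, 0, 0, 0, 0, 0, 0, 0, -2, 2, -2, -2, -2, 0] : List ℤ)],
   Ins.push 0 [([-2, 0, 0, -2, 0, 0, -2, 0, 2, 0, 0, 0, 0, 0, 0, 0, 0, 0, 0, -2, 2, -2, -2, 0] : List ℤ)],
   Ins.push 0 [([-2, -2, 0, 0, -2, 0, 0, -2, 0, 2, 0, 0, 0, 0, 0, 0, 0, 0, 0, 0, -2, 2, -2, 0] : List ℤ)],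
   Ins.push 0 [([-2, -2, -2, 0, 0, -2, 0, 0, -2, 0, 2, 0, 0, 0, 0, 0, 0, 0, 0, 0, 0, -2, 2, 0] : List ℤ)],
   Ins.push 0 [([2, -2, -2, -2, 0, 0, -2, 0, 0, -2, 0, 2, 0, 0, 0, 0, 0, 0, 0, 0, 0, 0, -2, 0] : List ℤ)],
   Ins.push 0 [([-2, 2, -2, -2, -2, 0, 0, -2, 0, 0, -2, 0, 2, 0, 0, 0, 0, 0, 0, 0, 0, 0, 0, 0] : List ℤ)],
   Ins.mark,
   Ins.pop,
   Ins.pop,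
   Ins.pop,
   Ins.pop,
   Ins.pop,
   Ins.pop,
   Ins.pop,
   Ins.pop,
   Ins.pop,
   Ins.pop,
   Ins.pop,
   Ins.push 0 [([0, -2, -2, -2, 2, -2, 0, 0, -2, 0, 0, 2, 0, -2, 0, 0, 0, 0, 0, 0, 0, 0, 0, 0] : List ℤ)],
   Ins.push 0 [([0, 0, -2, -2, -2, 2, -2, 0, 0, -2, 0, 0, 2, 0, -2, 0, 0, 0, 0, 0, 0, 0, 0, 0] : List ℤ)],
   Ins.push 0 [([0, 0, 0, -2, -2, -2, 2, -2, 0, 0, -2, 0, 0, 2, 0, -2, 0, 0, 0, 0, 0, 0, 0, 0] : List ℤ)],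
   Ins.push 1 [([0, 2, -2, -2, 0, -2, 0, -2, 0, 2, 0, 0, 0, 0, 0, -2, 0, 0, 0, 0, 0, -2, 0, 0] : List ℤ)],
   Ins.push 0 [([0, 0, 2, -2, -2, 0, -2, 0, -2, 0, 2, 0, 0, 0, 0, 0, -2, 0, 0, 0, 0, 0, -2, 0] : List ℤ)],
   Ins.push 0 [([-2, 0, 0, 2, -2, -2, 0, -2, 0, -2, 0, 2, 0, 0, 0, 0, 0, -2, 0, 0, 0, 0, 0, 0] : List ℤ)],
   Ins.push 1 [([-2, 0, -2, 2, 0, -2, 0, 0, 0, 0, 0, -2, -2, 0, 0, 0, 0, 0, 0, 2, 0, -2, 0, 0] : List ℤ)],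
   Ins.push 1 [([-2, 0, 0, 2, 0, 0, -2, 0, -2, 0, 0, 0, 0, 0, 0, 0, 0, 0, 0, -2, -2, -2, 2, 0] : List ℤ)],
   Ins.push 1 [([-2, -2, 0, 2, 0, 0, 0, 0, 0, 0, -2, 0, 0, 0, 2, 0, -2, 0, 0, 0, -2, 0, -2, 0] : List ℤ)],
   Ins.push 0 [([-2, -2, -2, 0, 2, 0, 0, 0, 0, 0, 0, -2, 0, 0, 0, 2, 0, -2, 0, 0, 0, -2, 0, 0] : List ℤ)],
   Ins.push 0 [([0, -2, -2, -2, 0, 2, 0, 0, 0, 0, 0, 0, -2, 0, 0, 0, 2, 0, -2, 0, 0, 0, -2, 0] : List ℤ)],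
   Ins.push 0 [([-2, 0, -2, -2, -2, 0, 2, 0, 0, 0, 0, 0, 0, -2, 0, 0, 0, 2, 0, -2, 0, 0, 0, 0] : List ℤ)],
   Ins.push 1 [([-2, 2, -2, -2, 0, 0, -2, 0, 0, -2, 0, 2, 0, 0, 0, 0, 0, 0, 0, 0, 0, 0, -2, 0] : List ℤ)],
   Ins.push 0 [([-2, -2, 2, -2, -2, 0, 0, -2, 0, 0, -2, 0, 2, 0, 0, 0, 0, 0, 0, 0, 0, 0, 0, 0] : List ℤ)],
   Ins.mark,
   Ins.pop,
   Ins.pop,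
   Ins.pop,
   Ins.pop,
   Ins.pop,
   Ins.pop,
   Ins.push 0 [([2, -2, 0, 0, 2, 0, 0, -2, 0, -2, 0, 0, 0, 0, 0, 0, 0, 0, 0, 0, -2, -2, -2, 0] : List ℤ)],
   Ins.push 0 [([-2, 2, -2, 0, 0, 2, 0, 0, -2, 0, -2, 0, 0, 0, 0, 0, 0, 0, 0, 0, 0, -2, -2, 0] : List ℤ)],
   Ins.push 0 [([-2, -2, 2, -2, 0, 0, 2, 0, 0, -2, 0, -2, 0, 0, 0, 0, 0, 0, 0, 0, 0, 0, -2, 0] : List ℤ)],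
   Ins.push 0 [([-2, -2, -2, 2, -2, 0, 0, 2, 0, 0, -2, 0, -2, 0, 0, 0, 0, 0, 0, 0, 0, 0, 0, 0] : List ℤ)],
   Ins.mark,
   Ins.pop,
   Ins.pop,
   Ins.pop,
   Ins.pop,
   Ins.pop,
   Ins.pop,
   Ins.push 0 [([0, -2, 0, 0, 2, -2, -2, 0, -2, 0, -2, 0, 2, 0, 0, 0, 0, 0, -2, 0, 0, 0, 0, 0] : List ℤ)],
   Ins.push 1 [([0, -2, 2, 0, -2, 0, 0, -2, 2, 0, 0, 0, 0, 0, 0, 0, -2, 0, -2, 0, 0, -2, 0, 0] : List ℤ)],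
   Ins.push 0 [([0, 0, -2, 2, 0, -2, 0, 0, -2, 2, 0, 0, 0, 0, 0, 0, 0, -2, 0, -2, 0, 0, -2, 0] : List ℤ)],
   Ins.push 0 [([-2, 0, 0, -2, 2, 0, -2, 0, 0, -2, 2, 0, 0, 0, 0, 0, 0, 0, -2, 0, -2, 0, 0, 0] : List ℤ)],
   Ins.push 1 [([-2, -2, 2, -2, -2, 0, 0, 2, 0, 0, -2, 0, -2, 0, 0, 0, 0, 0, 0, 0, 0, 0, 0, 0] : List ℤ)],
   Ins.mark,
   Ins.pop,
   Ins.pop,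
   Ins.pop,
   Ins.pop,
   Ins.pop,
   Ins.pop,
   Ins.pop,
   Ins.push 1 [([0, 0, 0, -2, 0, -2, -2, 0, 0, 0, 0, 0, 2, 0, 0, -2, 0, 0, 2, 0, -2, -2, 0, 0] : List ℤ)],
   Ins.push 1 [([0, -2, 0, -2, 2, 0, 0, 0, 2, 0, -2, 0, 0, 0, 0, -2, 0, 0, 0, 0, -2, -2, 0, 0] : List ℤ)],
   Ins.push 0 [([0, 0, -2, 0, -2, 2, 0, 0, 0, 2, 0, -2, 0, 0, 0, 0, -2, 0, 0, 0, 0, -2, -2, 0] : List ℤ)],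
   Ins.push 1 [([0, 0, -2, 0, 0, 0, -2, 0, 0, 0, 0, 0, 2, -2, -2, 0, 0, 0, 0, -2, -2, 2, 0, 0] : List ℤ)],
   Ins.push 1 [([0, -2, 0, 0, 0, 0, -2, 0, 2, -2, -2, 0, 0, 0, 0, 0, 0, -2, 0, 0, 2, 0, -2, 0] : List ℤ)],
   Ins.push 0 [([-2, 0, -2, 0, 0, 0, 0, -2, 0, 2, -2, -2, 0, 0, 0, 0, 0, 0, -2, 0, 0, 2, 0, 0] : List ℤ)],
   Ins.push 1 [([-2, 0, 0, 0, -2, -2, -2, -2, 0, 0, 0, 0, 2, 0, 0, 0, 0, 0, 0, -2, 2, 0, 0, 0] : List ℤ)],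
   Ins.push 1 [([-2, -2, -2, 0, 0, -2, 0, 0, 2, 0, 2, 0, 0, 0, 0, 0, 0, 0, 0, 0, 0, -2, -2, 0] : List ℤ)],
   Ins.push 0 [([-2, -2, -2, -2, 0, 0, -2, 0, 0, 2, 0, 2, 0, 0, 0, 0, 0, 0, 0, 0, 0, 0, -2, 0] : List ℤ)],
   Ins.push 0 [([-2, -2, -2, -2, -2, 0, 0, -2, 0, 0, 2, 0, 2, 0, 0, 0, 0, 0, 0, 0, 0, 0, 0, 0] : List ℤ)],
   Ins.mark,
   Ins.pop,
   Ins.pop,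
   Ins.pop,
   Ins.pop,
   Ins.pop,
   Ins.pop,
   Ins.pop,
   Ins.pop,
   Ins.pop,
   Ins.pop,
   Ins.pop,
   Ins.pop,
   Ins.push 1 [([0, -2, -2, -2, 0, 0, -2, 0, 2, 0, 0, 0, -2, 0, 0, 0, 0, -2, 0, 0, 0, 2, 0, 0] : List ℤ)],
   Ins.push 0 [([0, 0, -2, -2, -2, 0, 0, -2, 0, 2, 0, 0, 0, -2, 0, 0, 0, 0, -2, 0, 0, 0, 2, 0] : List ℤ)],
   Ins.push 1 [([0, 0, -2, -2, -2, -2, -2, 0, 0, -2, 0, 0, 2, 0, 2, 0, 0, 0, 0, 0, 0, 0, 0, 0] : List ℤ)],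
   Ins.push 1 [([0, -2, -2, -2, 0, 0, -2, 0, 2, 0, 0, 0, -2, 0, 0, 0, 0, 2, 0, 0, 0, -2, 0, 0] : List ℤ)],
   Ins.push 0 [([0, 0, -2, -2, -2, 0, 0, -2, 0, 2, 0, 0, 0, -2, 0, 0, 0, 0, 2, 0, 0, 0, -2, 0] : List ℤ)],
   Ins.push 0 [([-2, 0, 0, -2, -2, -2, 0, 0, -2, 0, 2, 0, 0, 0, -2, 0, 0, 0, 0, 2, 0, 0, 0, 0] : List ℤ)],
   Ins.push 1 [([-2, 0, -2, -2, 0, 0, 0, 2, 0, 0, 0, 0, 0, 0, 0, 0, -2, -2, 0, 0, 0, -2, 2, 0] : List ℤ)],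
   Ins.push 0 [([2, -2, 0, -2, -2, 0, 0, 0, 2, 0, 0, 0, 0, 0, 0, 0, 0, -2, -2, 0, 0, 0, -2, 0] : List ℤ)],
   Ins.push 1 [([2, 0, -2, -2, -2, 0, 0, 0, 0, 0, 0, -2, 0, 0, -2, 0, 2, 0, -2, 0, 0, 0, 0, 0] : List ℤ)],
   Ins.push 1 [([2, 0, -2, -2, -2, 0, -2, 0, 0, 0, 0, 0, 0, 2, 0, 0, 0, -2, 0, -2, 0, 0, 0, 0] : List ℤ)],
   Ins.push 1 [([2, -2, -2, -2, 0, 0, -2, 0, 0, 2, 0, -2, 0, 0, 0, 0, 0, 0, 0, 0, 0, 0, -2, 0] : List ℤ)],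
   Ins.push 0 [([-2, 2, -2, -2, -2, 0, 0, -2, 0, 0, 2, 0, -2, 0, 0, 0, 0, 0, 0, 0, 0, 0, 0, 0] : List ℤ)],
   Ins.mark,
   Ins.pop,
   Ins.pop,
   Ins.pop,
   Ins.pop,
   Ins.pop,
   Ins.pop,
   Ins.pop,
   Ins.pop,
   Ins.pop,
   Ins.pop,
   Ins.pop,
   Ins.push 1 [([0, -2, 0, -2, 0, 0, -2, 0, -2, 0, 0, -2, 0, 0, 0, 0, 2, 0, -2, 0, 2, 0, 0, 0] : List ℤ)],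
   Ins.push 0 [([0, 0, -2, 0, -2, 0, 0, -2, 0, -2, 0, 0, -2, 0, 0, 0, 0, 2, 0, -2, 0, 2, 0, 0] : List ℤ)],
   Ins.push 0 [([0, 0, 0, -2, 0, -2, 0, 0, -2, 0, -2, 0, 0, -2, 0, 0, 0, 0, 2, 0, -2, 0, 2, 0] : List ℤ)],
   Ins.push 0 [([2, 0, 0, 0, -2, 0, -2, 0, 0, -2, 0, -2, 0, 0, -2, 0, 0, 0, 0, 2, 0, -2, 0, 0] : List ℤ)],
   Ins.push 1 [([2, -2, -2, 0, 0, 0, 0, 0, 0, 0, 0, 0, -2, 0, 0, 0, 0, -2, 0, -2, -2, 0, 2, 0] : List ℤ)],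
   Ins.push 0 [([2, 2, -2, -2, 0, 0, 0, 0, 0, 0, 0, 0, 0, -2, 0, 0, 0, 0, -2, 0, -2, -2, 0, 0] : List ℤ)],
   Ins.push 1 [([2, 0, 0, -2, -2, 0, -2, 0, 0, -2, -2, 0, 0, 0, 0, 0, 0, 0, 2, 0, -2, 0, 0, 0] : List ℤ)],
   Ins.push 1 [([2, -2, -2, -2, 2, 0, 0, -2, 0, 0, -2, 0, -2, 0, 0, 0, 0, 0, 0, 0, 0, 0, 0, 0] : List ℤ)],
   Ins.mark,
   Ins.pop,
   Ins.pop,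
   Ins.pop,
   Ins.pop,
   Ins.pop,
   Ins.pop,
   Ins.pop,
   Ins.pop,
   Ins.pop,
   Ins.pop,
   Ins.push 1 [([0, 0, 2, -2, 0, 0, -2, 0, 0, -2, 0, 0, 0, 0, 0, 0, -2, 0, -2, 2, 0, -2, 0, 0] : List ℤ)],
   Ins.push 0 [([0, 0, 0, 2, -2, 0, 0, -2, 0, 0, -2, 0, 0, 0, 0, 0, 0, -2, 0, -2, 2, 0, -2, 0] : List ℤ)],
   Ins.push 1 [([0, 0, -2, 2, 0, -2, 0, -2, 0, 0, 2, -2, 0, 0, -2, 0, 0, 0, 0, 0, 0, 0, -2, 0] : List ℤ)],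
   Ins.push 0 [([-2, 0, 0, -2, 2, 0, -2, 0, -2, 0, 0, 2, -2, 0, 0, -2, 0, 0, 0, 0, 0, 0, 0, 0] : List ℤ)],
   Ins.push 1 [([-2, -2, 2, -2, 0, 0, 0, 0, -2, 0, 0, 0, 0, 0, 0, -2, -2, 0, 0, 2, 0, 0, 0, 0] : List ℤ)],
   Ins.push 0 [([0, -2, -2, 2, -2, 0, 0, 0, 0, -2, 0, 0, 0, 0, 0, 0, -2, -2, 0, 0, 2, 0, 0, 0] : List ℤ)],
   Ins.push 0 [([0, 0, -2, -2, 2, -2, 0, 0, 0, 0, -2, 0, 0, 0, 0, 0, 0, -2, -2, 0, 0, 2, 0, 0] : List ℤ)],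
   Ins.push 0 [([0, 0, 0, -2, -2, 2, -2, 0, 0, 0, 0, -2, 0, 0, 0, 0, 0, 0, -2, -2, 0, 0, 2, 0] : List ℤ)],
   Ins.push 0 [([2, 0, 0, 0, -2, -2, 2, -2, 0, 0, 0, 0, -2, 0, 0, 0, 0, 0, 0, -2, -2, 0, 0, 0] : List ℤ)],
   Ins.push 1 [([2, 2, -2, 0, 0, -2, 0, 0, -2, 0, -2, 0, 0, 0, 0, 0, 0, 0, 0, 0, 0, -2, -2, 0] : List ℤ)],
   Ins.push 0 [([-2, 2, 2, -2, 0, 0, -2, 0, 0, -2, 0, -2, 0, 0, 0, 0, 0, 0, 0, 0, 0, 0, -2, 0] : List ℤ)],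
   Ins.push 0 [([-2, -2, 2, 2, -2, 0, 0, -2, 0, 0, -2, 0, -2, 0, 0, 0, 0, 0, 0, 0, 0, 0, 0, 0] : List ℤ)],
   Ins.mark]

set_option maxRecDepth 100000 in
set_option maxHeartbeats 0 in
theorem crKf_chk : partChk crKfB crKfconds crKfx0 crKfgens crKfgmids m23mt (m23reps.getD 1 0) crKff crKfprog = true := by
  decide +kernel

set_option maxRecDepth 100000 in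
theorem crKf_len : (maskList m23vis 1).length * crKff.2.length = 64768 := by
  decide +kernel

/-- The stabiliser of the base vectors is transitive on the part of the set, which has `64768` elements. -/
theorem crKf_main : (∀ x ∈ FibU crKfconds (maskList m23vis 1), ∃ g : Co0, FixB crKfB g ∧
      ∃ h0 : vecOf crKfx0 ∈ leechLattice, g • (⟨vecOf crKfx0, h0⟩ : leechLattice) = x) ∧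
      (FibU crKfconds (maskList m23vis 1)).ncard = 64768 := by
  have h := orbit_part crKfB crKfconds crKfx0 crKfgens crKfgmids m23mt m23reps m23progs m23vis 1 crKff crKfprog
    m23_hreps m23_hrun m23_hbm crKf_chk
  rw [crKf_len] at h
  exact h

end Cfsg.Agent.Lib.Helper92
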