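import Cfsg.Agent.Lib.Helper92.LeechMaskM22

set_option autoImplicit false

namespace Cfsg.Agent.Lib.Helper92

open Cfsg Cfsg.Spor Cfsg.Agent.Lib.Helper7

/-- The base vectors. -/
def crTbB : List (List ℤ) :=
  [([4, 0, 0, 0, 0, 0, 0, 0, 0, 0, 0, 0, 0, 0, 0, 0, 0, 0, 0, 0, 0, 0, 0, 4] : List ℤ),
   ([-4, 0, 0, 0, 0, 0, 0, 0, 0, 0, 0, 0, 0, 0, 0, 0, 0, 0, 0, 0, 0, 0, 0, 4] : List ℤ)]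

/-- The conditions. -/
def crTbconds : List (List ℤ × ℤ) :=
  [(([4, 0, 0, 0, 0, 0, 0, 0, 0, 0, 0, 0, 0, 0, 0, 0, 0, 0, 0, 0, 0, 0, 0, 4] : List ℤ), 0),
   (([-4, 0, 0, 0, 0, 0, 0, 0, 0, 0, 0, 0, 0, 0, 0, 0, 0, 0, 0, 0, 0, 0, 0, 4] : List ℤ), 8)]

/-- The base point. -/
def crTbx0 : List ℤ := ([-1, -3, -1, -1, -1, -1, -1, -1, -1, -1, -1, 1, 1, -1, 1, -1, -1, 1, -1, 1, -1, 1, -1, 1] : List ℤ)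

/-- The generators. -/
def crTbgens : List (List Prim) :=
  [[Prim.P 980275914351787324191492553553580224 [2]],
   [Prim.P 972560138397867987084212241321578816 [0, 0, 0, 0, 0, 2, 0]],
   [Prim.S 10558 2],
   [Prim.S 21116 5],
   [Prim.S 36294 8],
   [Prim.S 72588 17],
   [Prim.S 138790 33],
   [Prim.S 267634 65],
   [Prim.S 525274 128],
   [Prim.S 1050548 256],
   [Prim.S 2101096 512],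
   [Prim.S 4202192 1025]]

set_option maxRecDepth 100000 in
set_option maxHeartbeats 0 in
/-- The intermediate images of the base vectors under the generators. -/
def crTbgmids : List (List (List (List ℤ))) :=
  [[[([4, 0, 0, 0, 0, 0, 0, 0, 0, 0, 0, 0, 0, 0, 0, 0, 0, 0, 0, 0, 0, 0, 0, 4] : List ℤ)], [([-4, 0, 0, 0, 0, 0, 0, 0, 0, 0, 0, 0, 0, 0, 0, 0, 0, 0, 0, 0, 0, 0, 0, 4] : List ℤ)]],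
   [[([4, 0, 0, 0, 0, 0, 0, 0, 0, 0, 0, 0, 0, 0, 0, 0, 0, 0, 0, 0, 0, 0, 0, 4] : List ℤ)], [([-4, 0, 0, 0, 0, 0, 0, 0, 0, 0, 0, 0, 0, 0, 0, 0, 0, 0, 0, 0, 0, 0, 0, 4] : List ℤ)]],
   [[([4, 0, 0, 0, 0, 0, 0, 0, 0, 0, 0, 0, 0, 0, 0, 0, 0, 0, 0, 0, 0, 0, 0, 4] : List ℤ)], [([-4, 0, 0, 0, 0, 0, 0, 0, 0, 0, 0, 0, 0, 0, 0, 0, 0, 0, 0, 0, 0, 0, 0, 4] : List ℤ)]],
   [[([4, 0, 0, 0, 0, 0, 0, 0, 0, 0, 0, 0, 0, 0, 0, 0, 0, 0, 0, 0, 0, 0, 0, 4] : List ℤ)], [([-4, 0, 0, 0, 0, 0, 0, 0, 0, 0, 0, 0, 0, 0, 0, 0, 0, 0, 0, 0, 0, 0, 0, 4] : List ℤ)]],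
   [[([4, 0, 0, 0, 0, 0, 0, 0, 0, 0, 0, 0, 0, 0, 0, 0, 0, 0, 0, 0, 0, 0, 0, 4] : List ℤ)], [([-4, 0, 0, 0, 0, 0, 0, 0, 0, 0, 0, 0, 0, 0, 0, 0, 0, 0, 0, 0, 0, 0, 0, 4] : List ℤ)]],
   [[([4, 0, 0, 0, 0, 0, 0, 0, 0, 0, 0, 0, 0, 0, 0, 0, 0, 0, 0, 0, 0, 0, 0, 4] : List ℤ)], [([-4, 0, 0, 0, 0, 0, 0, 0, 0, 0, 0, 0, 0, 0, 0, 0, 0, 0, 0, 0, 0, 0, 0, 4] : List ℤ)]],
   [[([4, 0, 0, 0, 0, 0, 0, 0, 0, 0, 0, 0, 0, 0, 0, 0, 0, 0, 0, 0, 0, 0, 0, 4] : List ℤ)], [([-4, 0, 0, 0, 0, 0, 0, 0, 0, 0, 0, 0, 0, 0, 0, 0, 0, 0, 0, 0, 0, 0, 0, 4] : List ℤ)]],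
   [[([4, 0, 0, 0, 0, 0, 0, 0, 0, 0, 0, 0, 0, 0, 0, 0, 0, 0, 0, 0, 0, 0, 0, 4] : List ℤ)], [([-4, 0, 0, 0, 0, 0, 0, 0, 0, 0, 0, 0, 0, 0, 0, 0, 0, 0, 0, 0, 0, 0, 0, 4] : List ℤ)]],
   [[([4, 0, 0, 0, 0, 0, 0, 0, 0, 0, 0, 0, 0, 0, 0, 0, 0, 0, 0, 0, 0, 0, 0, 4] : List ℤ)], [([-4, 0, 0, 0, 0, 0, 0, 0, 0, 0, 0, 0, 0, 0, 0, 0, 0, 0, 0, 0, 0, 0, 0, 4] : List ℤ)]],
   [[([4, 0, 0, 0, 0, 0, 0, 0, 0, 0, 0, 0, 0, 0, 0, 0, 0, 0, 0, 0, 0, 0, 0, 4] : List ℤ)], [([-4, 0, 0, 0, 0, 0, 0, 0, 0, 0, 0, 0, 0, 0, 0, 0, 0, 0, 0, 0, 0, 0, 0, 4] : List ℤ)]],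
   [[([4, 0, 0, 0, 0, 0, 0, 0, 0, 0, 0, 0, 0, 0, 0, 0, 0, 0, 0, 0, 0, 0, 0, 4] : List ℤ)], [([-4, 0, 0, 0, 0, 0, 0, 0, 0, 0, 0, 0, 0, 0, 0, 0, 0, 0, 0, 0, 0, 0, 0, 4] : List ℤ)]],
   [[([4, 0, 0, 0, 0, 0, 0, 0, 0, 0, 0, 0, 0, 0, 0, 0, 0, 0, 0, 0, 0, 0, 0, 4] : List ℤ)], [([-4, 0, 0, 0, 0, 0, 0, 0, 0, 0, 0, 0, 0, 0, 0, 0, 0, 0, 0, 0, 0, 0, 0, 4] : List ℤ)]]]

set_option maxRecDepth 100000 in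
set_option maxHeartbeats 0 in
/-- The minimal vectors of the set with the representative words of second digits. -/
def crTbfib : List (List ℕ × List (List ℤ)) :=
  [([], []),
   ([0, 1, 2, 3, 4, 7, 10, 12], [([-1, 3, -1, -1, -1, 1, 1, -1, 1, 1, -1, 1, -1, 1, 1, 1, 1, 1, 1, 1, 1, 1, 1, 1] : List ℤ),
     ([-1, -1, 3, -1, -1, 1, 1, -1, 1, 1, -1, 1, -1, 1, 1, 1, 1, 1, 1, 1, 1, 1, 1, 1] : List ℤ),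
     ([-1, -1, -1, 3, -1, 1, 1, -1, 1, 1, -1, 1, -1, 1, 1, 1, 1, 1, 1, 1, 1, 1, 1, 1] : List ℤ),
     ([-1, -1, -1, -1, 3, 1, 1, -1, 1, 1, -1, 1, -1, 1, 1, 1, 1, 1, 1, 1, 1, 1, 1, 1] : List ℤ),
     ([-1, -1, -1, -1, -1, -3, 1, -1, 1, 1, -1, 1, -1, 1, 1, 1, 1, 1, 1, 1, 1, 1, 1, 1] : List ℤ),
     ([-1, -1, -1, -1, -1, 1, -3, -1, 1, 1, -1, 1, -1, 1, 1, 1, 1, 1, 1, 1, 1, 1, 1, 1] : List ℤ),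
     ([-1, -1, -1, -1, -1, 1, 1, 3, 1, 1, -1, 1, -1, 1, 1, 1, 1, 1, 1, 1, 1, 1, 1, 1] : List ℤ),
     ([-1, -1, -1, -1, -1, 1, 1, -1, -3, 1, -1, 1, -1, 1, 1, 1, 1, 1, 1, 1, 1, 1, 1, 1] : List ℤ),
     ([-1, -1, -1, -1, -1, 1, 1, -1, 1, -3, -1, 1, -1, 1, 1, 1, 1, 1, 1, 1, 1, 1, 1, 1] : List ℤ),
     ([-1, -1, -1, -1, -1, 1, 1, -1, 1, 1, 3, 1, -1, 1, 1, 1, 1, 1, 1, 1, 1, 1, 1, 1] : List ℤ),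
     ([-1, -1, -1, -1, -1, 1, 1, -1, 1, 1, -1, -3, -1, 1, 1, 1, 1, 1, 1, 1, 1, 1, 1, 1] : List ℤ),
     ([-1, -1, -1, -1, -1, 1, 1, -1, 1, 1, -1, 1, 3, 1, 1, 1, 1, 1, 1, 1, 1, 1, 1, 1] : List ℤ),
     ([-1, -1, -1, -1, -1, 1, 1, -1, 1, 1, -1, 1, -1, -3, 1, 1, 1, 1, 1, 1, 1, 1, 1, 1] : List ℤ),
     ([-1, -1, -1, -1, -1, 1, 1, -1, 1, 1, -1, 1, -1, 1, -3, 1, 1, 1, 1, 1, 1, 1, 1, 1] : List ℤ),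
     ([-1, -1, -1, -1, -1, 1, 1, -1, 1, 1, -1, 1, -1, 1, 1, -3, 1, 1, 1, 1, 1, 1, 1, 1] : List ℤ),
     ([-1, -1, -1, -1, -1, 1, 1, -1, 1, 1, -1, 1, -1, 1, 1, 1, -3, 1, 1, 1, 1, 1, 1, 1] : List ℤ),
     ([-1, -1, -1, -1, -1, 1, 1, -1, 1, 1, -1, 1, -1, 1, 1, 1, 1, -3, 1, 1, 1, 1, 1, 1] : List ℤ),
     ([-1, -1, -1, -1, -1, 1, 1, -1, 1, 1, -1, 1, -1, 1, 1, 1, 1, 1, -3, 1, 1, 1, 1, 1] : List ℤ),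
     ([-1, -1, -1, -1, -1, 1, 1, -1, 1, 1, -1, 1, -1, 1, 1, 1, 1, 1, 1, -3, 1, 1, 1, 1] : List ℤ),
     ([-1, -1, -1, -1, -1, 1, 1, -1, 1, 1, -1, 1, -1, 1, 1, 1, 1, 1, 1, 1, -3, 1, 1, 1] : List ℤ),
     ([-1, -1, -1, -1, -1, 1, 1, -1, 1, 1, -1, 1, -1, 1, 1, 1, 1, 1, 1, 1, 1, -3, 1, 1] : List ℤ),
     ([-1, -1, -1, -1, -1, 1, 1, -1, 1, 1, -1, 1, -1, 1, 1, 1, 1, 1, 1, 1, 1, 1, -3, 1] : List ℤ)]),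
   ([1, 2, 3, 4, 5, 8, 11, 13], []),
   ([0, 2, 3, 4, 6, 7, 8, 9, 10, 11, 13, 14], [([-1, -3, -1, -1, -1, 1, -1, -1, -1, -1, -1, -1, 1, -1, -1, 1, 1, 1, 1, 1, 1, 1, 1, 1] : List ℤ),
     ([-1, 1, 3, -1, -1, 1, -1, -1, -1, -1, -1, -1, 1, -1, -1, 1, 1, 1, 1, 1, 1, 1, 1, 1] : List ℤ),
     ([-1, 1, -1, 3, -1, 1, -1, -1, -1, -1, -1, -1, 1, -1, -1, 1, 1, 1, 1, 1, 1, 1, 1, 1] : List ℤ),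
     ([-1, 1, -1, -1, 3, 1, -1, -1, -1, -1, -1, -1, 1, -1, -1, 1, 1, 1, 1, 1, 1, 1, 1, 1] : List ℤ),
     ([-1, 1, -1, -1, -1, -3, -1, -1, -1, -1, -1, -1, 1, -1, -1, 1, 1, 1, 1, 1, 1, 1, 1, 1] : List ℤ),
     ([-1, 1, -1, -1, -1, 1, 3, -1, -1, -1, -1, -1, 1, -1, -1, 1, 1, 1, 1, 1, 1, 1, 1, 1] : List ℤ),
     ([-1, 1, -1, -1, -1, 1, -1, 3, -1, -1, -1, -1, 1, -1, -1, 1, 1, 1, 1, 1, 1, 1, 1, 1] : List ℤ),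
     ([-1, 1, -1, -1, -1, 1, -1, -1, 3, -1, -1, -1, 1, -1, -1, 1, 1, 1, 1, 1, 1, 1, 1, 1] : List ℤ),
     ([-1, 1, -1, -1, -1, 1, -1, -1, -1, 3, -1, -1, 1, -1, -1, 1, 1, 1, 1, 1, 1, 1, 1, 1] : List ℤ),
     ([-1, 1, -1, -1, -1, 1, -1, -1, -1, -1, 3, -1, 1, -1, -1, 1, 1, 1, 1, 1, 1, 1, 1, 1] : List ℤ),
     ([-1, 1, -1, -1, -1, 1, -1, -1, -1, -1, -1, 3, 1, -1, -1, 1, 1, 1, 1, 1, 1, 1, 1, 1] : List ℤ),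
     ([-1, 1, -1, -1, -1, 1, -1, -1, -1, -1, -1, -1, -3, -1, -1, 1, 1, 1, 1, 1, 1, 1, 1, 1] : List ℤ),
     ([-1, 1, -1, -1, -1, 1, -1, -1, -1, -1, -1, -1, 1, 3, -1, 1, 1, 1, 1, 1, 1, 1, 1, 1] : List ℤ),
     ([-1, 1, -1, -1, -1, 1, -1, -1, -1, -1, -1, -1, 1, -1, 3, 1, 1, 1, 1, 1, 1, 1, 1, 1] : List ℤ),
     ([-1, 1, -1, -1, -1, 1, -1, -1, -1, -1, -1, -1, 1, -1, -1, -3, 1, 1, 1, 1, 1, 1, 1, 1] : List ℤ),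
     ([-1, 1, -1, -1, -1, 1, -1, -1, -1, -1, -1, -1, 1, -1, -1, 1, -3, 1, 1, 1, 1, 1, 1, 1] : List ℤ),
     ([-1, 1, -1, -1, -1, 1, -1, -1, -1, -1, -1, -1, 1, -1, -1, 1, 1, -3, 1, 1, 1, 1, 1, 1] : List ℤ),
     ([-1, 1, -1, -1, -1, 1, -1, -1, -1, -1, -1, -1, 1, -1, -1, 1, 1, 1, -3, 1, 1, 1, 1, 1] : List ℤ),
     ([-1, 1, -1, -1, -1, 1, -1, -1, -1, -1, -1, -1, 1, -1, -1, 1, 1, 1, 1, -3, 1, 1, 1, 1] : List ℤ),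
     ([-1, 1, -1, -1, -1, 1, -1, -1, -1, -1, -1, -1, 1, -1, -1, 1, 1, 1, 1, 1, -3, 1, 1, 1] : List ℤ),
     ([-1, 1, -1, -1, -1, 1, -1, -1, -1, -1, -1, -1, 1, -1, -1, 1, 1, 1, 1, 1, 1, -3, 1, 1] : List ℤ),
     ([-1, 1, -1, -1, -1, 1, -1, -1, -1, -1, -1, -1, 1, -1, -1, 1, 1, 1, 1, 1, 1, 1, -3, 1] : List ℤ)]),
   ([1, 3, 4, 5, 7, 8, 9, 10, 11, 12, 14, 15], []),
   ([0, 2, 3, 4, 5, 6, 7, 8, 9, 11, 12, 14, 15, 16, 17, 18], [([-1, -3, -1, -1, -1, -1, -1, -1, -1, -1, 1, -1, -1, 1, -1, -1, -1, -1, -1, 1, 1, 1, 1, 1] : List ℤ),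
     ([-1, 1, 3, -1, -1, -1, -1, -1, -1, -1, 1, -1, -1, 1, -1, -1, -1, -1, -1, 1, 1, 1, 1, 1] : List ℤ),
     ([-1, 1, -1, 3, -1, -1, -1, -1, -1, -1, 1, -1, -1, 1, -1, -1, -1, -1, -1, 1, 1, 1, 1, 1] : List ℤ),
     ([-1, 1, -1, -1, 3, -1, -1, -1, -1, -1, 1, -1, -1, 1, -1, -1, -1, -1, -1, 1, 1, 1, 1, 1] : List ℤ),
     ([-1, 1, -1, -1, -1, 3, -1, -1, -1, -1, 1, -1, -1, 1, -1, -1, -1, -1, -1, 1, 1, 1, 1, 1] : List ℤ),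
     ([-1, 1, -1, -1, -1, -1, 3, -1, -1, -1, 1, -1, -1, 1, -1, -1, -1, -1, -1, 1, 1, 1, 1, 1] : List ℤ),
     ([-1, 1, -1, -1, -1, -1, -1, 3, -1, -1, 1, -1, -1, 1, -1, -1, -1, -1, -1, 1, 1, 1, 1, 1] : List ℤ),
     ([-1, 1, -1, -1, -1, -1, -1, -1, 3, -1, 1, -1, -1, 1, -1, -1, -1, -1, -1, 1, 1, 1, 1, 1] : List ℤ),
     ([-1, 1, -1, -1, -1, -1, -1, -1, -1, 3, 1, -1, -1, 1, -1, -1, -1, -1, -1, 1, 1, 1, 1, 1] : List ℤ),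
     ([-1, 1, -1, -1, -1, -1, -1, -1, -1, -1, -3, -1, -1, 1, -1, -1, -1, -1, -1, 1, 1, 1, 1, 1] : List ℤ),
     ([-1, 1, -1, -1, -1, -1, -1, -1, -1, -1, 1, 3, -1, 1, -1, -1, -1, -1, -1, 1, 1, 1, 1, 1] : List ℤ),
     ([-1, 1, -1, -1, -1, -1, -1, -1, -1, -1, 1, -1, 3, 1, -1, -1, -1, -1, -1, 1, 1, 1, 1, 1] : List ℤ),
     ([-1, 1, -1, -1, -1, -1, -1, -1, -1, -1, 1, -1, -1, -3, -1, -1, -1, -1, -1, 1, 1, 1, 1, 1] : List ℤ),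
     ([-1, 1, -1, -1, -1, -1, -1, -1, -1, -1, 1, -1, -1, 1, 3, -1, -1, -1, -1, 1, 1, 1, 1, 1] : List ℤ),
     ([-1, 1, -1, -1, -1, -1, -1, -1, -1, -1, 1, -1, -1, 1, -1, 3, -1, -1, -1, 1, 1, 1, 1, 1] : List ℤ),
     ([-1, 1, -1, -1, -1, -1, -1, -1, -1, -1, 1, -1, -1, 1, -1, -1, 3, -1, -1, 1, 1, 1, 1, 1] : List ℤ),
     ([-1, 1, -1, -1, -1, -1, -1, -1, -1, -1, 1, -1, -1, 1, -1, -1, -1, 3, -1, 1, 1, 1, 1, 1] : List ℤ),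
     ([-1, 1, -1, -1, -1, -1, -1, -1, -1, -1, 1, -1, -1, 1, -1, -1, -1, -1, 3, 1, 1, 1, 1, 1] : List ℤ),
     ([-1, 1, -1, -1, -1, -1, -1, -1, -1, -1, 1, -1, -1, 1, -1, -1, -1, -1, -1, -3, 1, 1, 1, 1] : List ℤ),
     ([-1, 1, -1, -1, -1, -1, -1, -1, -1, -1, 1, -1, -1, 1, -1, -1, -1, -1, -1, 1, -3, 1, 1, 1] : List ℤ),
     ([-1, 1, -1, -1, -1, -1, -1, -1, -1, -1, 1, -1, -1, 1, -1, -1, -1, -1, -1, 1, 1, -3, 1, 1] : List ℤ),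
     ([-1, 1, -1, -1, -1, -1, -1, -1, -1, -1, 1, -1, -1, 1, -1, -1, -1, -1, -1, 1, 1, 1, -3, 1] : List ℤ)]),
   ([1, 3, 4, 5, 6, 7, 8, 9, 10, 12, 13, 15, 16, 17, 18, 19], []),
   ([0, 2, 4, 5, 6, 10, 11, 23], []),
   ([1, 3, 5, 6, 7, 11, 12, 23], []),
   ([0, 1, 2, 4, 5, 8, 9, 10, 12, 13, 14, 23], []),
   ([1, 2, 3, 5, 6, 9, 10, 11, 13, 14, 15, 23], []),
   ([0, 1, 3, 4, 6, 8, 9, 10, 11, 12, 13, 14, 15, 16, 17, 23], []),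
   ([1, 2, 4, 5, 7, 9, 10, 11, 12, 13, 14, 15, 16, 17, 18, 23], []),
   ([0, 1, 2, 3, 4, 5, 6, 7, 8, 9, 10, 11, 12, 13, 14, 15, 16, 17, 18, 19, 20, 21, 22, 23], [])]

set_option maxRecDepth 100000 in
set_option maxHeartbeats 0 in
/-- The program visiting the vectors. -/
def crTbprog : List Ins :=
  [Ins.push 2 [([-1, 3, 1, 1, 1, 1, -1, -1, 1, -1, -1, -1, 1, 1, 1, -1, -1, 1, -1, 1, -1, 1, -1, 1] : List ℤ)],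
   Ins.push 0 [([-1, -1, 1, 1, -1, -1, 1, -1, 1, 1, -1, 1, -1, -1, -1, -1, 1, 1, 3, -1, 1, 1, 1, 1] : List ℤ)],
   Ins.push 1 [([-1, -1, 1, -1, 3, 1, -1, 1, 1, 1, 1, -1, 1, 1, -1, -1, 1, 1, -1, 1, -1, -1, -1, 1] : List ℤ)],
   Ins.push 0 [([-1, -1, 3, -1, -1, 1, 1, 1, 1, 1, -1, 1, 1, 1, -1, -1, 1, -1, -1, -1, -1, 1, 1, 1] : List ℤ)],
   Ins.push 0 [([-1, 1, -1, -1, -1, 1, 3, -1, 1, 1, -1, -1, 1, 1, 1, -1, 1, -1, -1, 1, 1, 1, -1, 1] : List ℤ)],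
   Ins.push 1 [([-1, -1, 1, -1, -1, -1, 1, -1, -1, -1, 3, 1, 1, -1, 1, 1, 1, 1, -1, 1, 1, -1, 1, 1] : List ℤ)],
   Ins.push 1 [([-1, 3, 1, -1, -1, 1, -1, -1, 1, 1, 1, -1, -1, 1, 1, 1, 1, -1, 1, -1, 1, -1, -1, 1] : List ℤ)],
   Ins.push 0 [([-1, -1, -1, -1, 1, -1, 1, 1, -1, 1, 1, -1, 1, 1, -1, 1, 1, 1, 3, -1, -1, 1, -1, 1] : List ℤ)],
   Ins.push 1 [([-1, 1, -1, 1, 3, -1, -1, -1, -1, 1, 1, -1, 1, -1, 1, -1, 1, -1, 1, 1, -1, 1, 1, 1] : List ℤ)],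
   Ins.push 0 [([-1, -1, 3, 1, 1, -1, -1, 1, 1, -1, -1, -1, 1, 1, 1, -1, -1, 1, 1, -1, 1, -1, 1, 1] : List ℤ)],
   Ins.push 0 [([-1, -1, 1, 1, 1, 1, 3, -1, 1, 1, 1, 1, -1, -1, 1, -1, 1, 1, -1, -1, -1, -1, -1, 1] : List ℤ)],
   Ins.push 0 [([-1, 3, 1, 1, -1, -1, 1, 1, -1, -1, -1, 1, 1, 1, -1, -1, 1, 1, -1, 1, -1, 1, -1, 1] : List ℤ)],
   Ins.push 1 [([-1, -1, -1, -1, -1, -1, -1, 1, 1, 1, 1, 3, -1, 1, 1, 1, 1, -1, -1, 1, -1, 1, 1, 1] : List ℤ)],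
   Ins.push 1 [([-1, 1, -1, -1, -1, 1, -1, -1, -1, -1, -1, -1, 1, 3, -1, 1, 1, 1, 1, 1, 1, 1, 1, 1] : List ℤ)],
   Ins.mark,
   Ins.pop,
   Ins.pop,
   Ins.pop,
   Ins.pop,
   Ins.pop,
   Ins.pop,
   Ins.pop,
   Ins.push 1 [([-1, 1, 1, -1, 1, -1, 1, -1, 1, -1, -1, 3, 1, -1, -1, -1, 1, 1, 1, -1, 1, -1, 1, 1] : List ℤ)],
   Ins.push 1 [([-1, -1, 1, 1, 1, 1, -1, -1, 1, 1, 1, 1, -1, 3, 1, -1, 1, 1, -1, -1, -1, -1, -1, 1] : List ℤ)],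
   Ins.push 0 [([-1, -1, 1, 1, -1, -1, 1, 1, -1, 3, -1, 1, 1, 1, -1, -1, 1, 1, -1, 1, -1, 1, -1, 1] : List ℤ)],
   Ins.push 1 [([-1, -1, -1, -1, -1, -1, -1, 1, 1, 1, 1, -1, 3, 1, 1, 1, 1, -1, -1, 1, -1, 1, 1, 1] : List ℤ)],
   Ins.push 1 [([-1, 1, -1, -1, -1, 1, -1, -1, -1, -1, -1, -1, 1, -1, 3, 1, 1, 1, 1, 1, 1, 1, 1, 1] : List ℤ)],
   Ins.mark,
   Ins.pop,
   Ins.pop,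
   Ins.pop,
   Ins.pop,
   Ins.pop,
   Ins.pop,
   Ins.pop,
   Ins.pop,
   Ins.pop,
   Ins.push 1 [([-1, 1, -1, 3, -1, -1, 1, -1, 1, 1, -1, -1, 1, -1, 1, 1, 1, 1, -1, -1, -1, 1, 1, 1] : List ℤ)],
   Ins.push 0 [([-1, 1, -1, 3, -1, -1, -1, -1, 1, -1, -1, 1, 1, 1, 1, 1, 1, 1, 1, -1, 1, -1, -1, 1] : List ℤ)],
   Ins.push 0 [([-1, -1, -1, 3, 1, -1, -1, -1, 1, 1, 1, 1, -1, 1, -1, 1, 1, 1, 1, 1, -1, -1, -1, 1] : List ℤ)],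
   Ins.push 1 [([-1, 1, -1, 1, 1, -1, -1, 3, -1, 1, -1, -1, 1, 1, -1, 1, 1, 1, 1, -1, -1, -1, 1, 1] : List ℤ)],
   Ins.push 0 [([-1, -1, 1, 1, 1, 3, -1, -1, 1, 1, -1, 1, 1, 1, 1, 1, -1, -1, 1, -1, -1, -1, -1, 1] : List ℤ)],
   Ins.push 1 [([-1, -1, -1, 1, 1, -1, 3, 1, 1, -1, -1, -1, 1, 1, 1, -1, -1, 1, 1, -1, 1, -1, 1, 1] : List ℤ)],
   Ins.push 0 [([-1, 3, 1, 1, 1, 1, -1, -1, 1, 1, 1, 1, -1, -1, 1, -1, 1, 1, -1, -1, -1, -1, -1, 1] : List ℤ)],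
   Ins.push 0 [([-1, -1, 1, 1, -1, -1, 1, 1, -1, -1, -1, 1, 1, 1, -1, -1, 1, 1, 3, 1, -1, 1, -1, 1] : List ℤ)],
   Ins.push 1 [([-1, -1, -1, -1, 3, -1, -1, 1, 1, 1, 1, -1, -1, 1, 1, 1, 1, -1, -1, 1, -1, 1, 1, 1] : List ℤ)],
   Ins.push 1 [([-1, 1, -1, 3, -1, 1, -1, -1, -1, -1, -1, -1, 1, -1, -1, 1, 1, 1, 1, 1, 1, 1, 1, 1] : List ℤ)],
   Ins.mark,
   Ins.pop,
   Ins.pop,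
   Ins.pop,
   Ins.pop,
   Ins.pop,
   Ins.pop,
   Ins.pop,
   Ins.pop,
   Ins.pop,
   Ins.pop,
   Ins.pop,
   Ins.push 0 [([-1, 1, -1, 1, 3, -1, 1, -1, -1, -1, 1, 1, 1, 1, 1, -1, 1, -1, -1, 1, 1, -1, -1, 1] : List ℤ)],
   Ins.push 1 [([-1, 1, 1, 3, -1, -1, -1, 1, -1, -1, 1, 1, -1, 1, 1, 1, 1, -1, -1, -1, 1, -1, 1, 1] : List ℤ)],
   Ins.push 0 [([-1, -1, -1, 3, -1, 1, 1, 1, -1, 1, 1, -1, -1, 1, 1, 1, -1, 1, 1, 1, -1, -1, -1, 1] : List ℤ)],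
   Ins.push 1 [([-1, 1, -1, -1, 1, -1, 1, 3, -1, 1, 1, -1, 1, -1, -1, 1, -1, -1, 1, -1, 1, 1, 1, 1] : List ℤ)],
   Ins.push 1 [([-1, 1, 1, 1, 1, 1, -1, -1, -1, -1, 1, 1, 1, -1, 1, -1, -1, -1, 1, 1, -1, 3, -1, 1] : List ℤ)],
   Ins.push 1 [([-1, 1, -1, 1, 1, -1, 1, 1, 1, -1, -1, 1, -1, 1, 1, 1, -1, -1, -1, 3, 1, -1, -1, 1] : List ℤ)],
   Ins.push 1 [([-1, -1, 1, 1, -1, -1, -1, 1, -1, -1, 1, 1, -1, 1, -1, 3, -1, 1, 1, -1, 1, 1, 1, 1] : List ℤ)],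
   Ins.push 0 [([-1, -1, -1, 1, 1, 1, 1, 1, -1, 1, 1, 1, -1, -1, 1, 3, -1, -1, -1, 1, 1, -1, -1, 1] : List ℤ)],
   Ins.push 0 [([-1, 1, 1, 1, -1, 1, -1, 1, -1, -1, 1, -1, 1, -1, -1, 3, -1, 1, -1, 1, -1, 1, 1, 1] : List ℤ)],
   Ins.push 1 [([-1, 1, -1, -1, -1, 1, 1, 1, 1, 1, -1, 1, -1, -1, 1, 1, -1, -1, 3, 1, -1, 1, -1, 1] : List ℤ)],
   Ins.push 0 [([-1, 1, -1, -1, 3, 1, -1, -1, -1, -1, -1, -1, 1, -1, -1, 1, 1, 1, 1, 1, 1, 1, 1, 1] : List ℤ)],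
   Ins.mark,
   Ins.pop,
   Ins.pop,
   Ins.pop,
   Ins.pop,
   Ins.pop,
   Ins.pop,
   Ins.pop,
   Ins.pop,
   Ins.pop,
   Ins.push 1 [([-1, 1, 1, -1, -1, 1, -1, 3, 1, -1, -1, 1, -1, 1, -1, -1, 1, -1, 1, -1, 1, 1, 1, 1] : List ℤ)],
   Ins.push 1 [([-1, -1, 1, -1, 1, 1, 1, -1, 1, -1, -1, 1, -1, 1, -1, -1, 1, 1, -1, 1, -1, 3, 1, 1] : List ℤ)],
   Ins.push 0 [([-1, 1, 1, -1, -1, -1, 1, -1, -1, 1, -1, 1, -1, 1, 1, -1, 1, -1, -1, 1, 3, 1, 1, 1] : List ℤ)],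
   Ins.push 1 [([-1, -1, 3, -1, -1, 1, -1, -1, 1, -1, 1, 1, 1, 1, -1, 1, 1, -1, -1, 1, 1, -1, 1, 1] : List ℤ)],
   Ins.push 0 [([-1, -1, -1, -1, -1, -1, 3, 1, 1, 1, 1, -1, -1, 1, 1, 1, 1, -1, -1, 1, -1, 1, 1, 1] : List ℤ)],
   Ins.push 1 [([-1, 1, -1, -1, -1, 1, -1, -1, -1, -1, 3, -1, 1, -1, -1, 1, 1, 1, 1, 1, 1, 1, 1, 1] : List ℤ)],
   Ins.mark,
   Ins.pop,
   Ins.pop,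
   Ins.pop,
   Ins.pop,
   Ins.pop,
   Ins.pop,
   Ins.pop,
   Ins.push 0 [([-1, 1, 3, 1, -1, -1, -1, 1, 1, 1, 1, -1, -1, 1, -1, -1, -1, 1, 1, 1, -1, -1, 1, 1] : List ℤ)],
   Ins.push 0 [([-1, -1, -1, 1, 1, 1, 3, 1, -1, 1, -1, 1, 1, -1, 1, -1, 1, -1, 1, -1, -1, -1, 1, 1] : List ℤ)],
   Ins.push 1 [([-1, -1, -1, 1, 1, 1, 1, 1, -1, -1, 3, -1, 1, 1, 1, -1, 1, -1, -1, -1, 1, 1, -1, 1] : List ℤ)],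
   Ins.push 0 [([-1, 1, 1, 1, -1, 1, -1, 3, 1, 1, 1, -1, -1, 1, -1, -1, -1, 1, -1, -1, 1, 1, -1, 1] : List ℤ)],
   Ins.push 1 [([-1, 1, 1, -1, -1, -1, 1, 1, 1, 1, -1, 1, 1, -1, -1, -1, -1, 1, -1, 1, -1, 3, 1, 1] : List ℤ)],
   Ins.push 1 [([-1, -1, -1, -1, -1, 1, -1, -1, 1, 1, 1, 1, 1, 1, 1, 1, -1, 1, -1, 3, -1, 1, -1, 1] : List ℤ)],
   Ins.push 0 [([-1, -1, -1, -1, -1, -1, -1, 1, 1, 1, -1, 1, 1, -1, -1, 1, 1, 1, -1, 1, 1, 1, 3, 1] : List ℤ)],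
   Ins.push 0 [([-1, -1, -1, -1, -1, 1, -1, -1, 1, -1, 1, 1, 1, 1, 3, 1, 1, -1, -1, 1, 1, -1, 1, 1] : List ℤ)],
   Ins.push 0 [([-1, -1, -1, -1, -1, -1, -1, 1, 1, 1, 1, -1, -1, 1, 1, 1, 1, 3, -1, 1, -1, 1, 1, 1] : List ℤ)],
   Ins.push 1 [([-1, 1, -1, -1, -1, 1, -1, -1, -1, 3, -1, -1, 1, -1, -1, 1, 1, 1, 1, 1, 1, 1, 1, 1] : List ℤ)],
   Ins.mark,
   Ins.pop,
   Ins.pop,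
   Ins.pop,
   Ins.pop,
   Ins.pop,
   Ins.pop,
   Ins.pop,
   Ins.pop,
   Ins.pop,
   Ins.pop,
   Ins.pop,
   Ins.pop,
   Ins.push 11 [([-1, 3, 1, 1, -1, 1, 1, 1, 1, 1, 1, 1, -1, 1, 1, -1, -1, 1, -1, 1, -1, 1, 1, 1] : List ℤ)],
   Ins.push 1 [([-1, 1, -1, -1, -1, 1, 1, 1, 1, 1, 1, 3, 1, 1, -1, 1, -1, 1, -1, 1, 1, 1, 1, 1] : List ℤ)],
   Ins.push 0 [([-1, 1, -1, -1, -1, 1, -1, 1, 1, 1, 1, 1, 1, -1, 1, 1, 1, -1, 1, 3, 1, 1, 1, 1] : List ℤ)],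
   Ins.push 0 [([-1, -1, -1, -1, 1, 1, -1, 1, 1, -1, 1, -1, 1, 1, 1, 1, 1, 1, 1, 1, 1, 1, 3, 1] : List ℤ)],
   Ins.push 0 [([-1, -1, 1, -1, 1, 1, -1, 1, 1, 1, 1, 1, -1, 1, 3, 1, 1, 1, -1, -1, 1, 1, 1, 1] : List ℤ)],
   Ins.push 1 [([-1, 1, 1, 1, -1, 1, 1, -1, 1, 1, -1, -1, 1, 1, -1, -1, 1, 1, 1, 1, 3, 1, 1, 1] : List ℤ)],
   Ins.push 1 [([-1, -1, 3, -1, 1, 1, 1, 1, 1, 1, 1, 1, 1, -1, 1, 1, 1, 1, -1, 1, -1, -1, 1, 1] : List ℤ)],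
   Ins.push 0 [([-1, 1, 1, -1, -1, 1, 3, 1, 1, -1, -1, 1, 1, 1, 1, 1, 1, 1, -1, 1, -1, 1, 1, 1] : List ℤ)],
   Ins.push 1 [([-1, -1, -1, -1, -1, 1, 1, -1, 1, 1, 3, 1, -1, 1, 1, 1, 1, 1, 1, 1, 1, 1, 1, 1] : List ℤ)],
   Ins.mark,
   Ins.pop,
   Ins.push 0 [([-1, 3, -1, -1, -1, 1, 1, -1, 1, 1, -1, 1, -1, 1, 1, 1, 1, 1, 1, 1, 1, 1, 1, 1] : List ℤ)],
   Ins.mark,
   Ins.pop,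
   Ins.pop,
   Ins.pop,
   Ins.pop,
   Ins.pop,
   Ins.pop,
   Ins.pop,
   Ins.push 1 [([-1, 1, 1, -1, -1, 1, 1, -1, -1, 1, 1, 1, 1, 3, 1, 1, -1, 1, 1, 1, -1, 1, 1, 1] : List ℤ)],
   Ins.push 1 [([-1, 1, -1, -1, 1, 1, 1, -1, 1, 1, 1, 1, 1, 1, 1, 1, -1, -1, 1, 1, 1, -1, 3, 1] : List ℤ)],
   Ins.push 0 [([-1, 1, 1, -1, 1, -1, -1, 1, 1, 1, 1, -1, 1, -1, 3, 1, 1, 1, 1, 1, -1, 1, 1, 1] : List ℤ)],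
   Ins.push 0 [([-1, -1, 1, -1, 1, 1, 1, 1, 1, -1, -1, 1, 1, 1, 1, 1, 1, 3, 1, -1, 1, -1, 1, 1] : List ℤ)],
   Ins.push 1 [([-1, -1, 1, 1, 1, 1, 1, -1, 1, 3, 1, -1, -1, 1, 1, -1, 1, 1, 1, -1, 1, 1, 1, 1] : List ℤ)],
   Ins.push 0 [([-1, 1, 1, 1, 1, -1, 1, 1, -1, 1, 1, 1, 3, 1, 1, -1, 1, 1, -1, -1, 1, 1, -1, 1] : List ℤ)],
   Ins.push 1 [([-1, 1, 1, 1, -1, -1, -1, 1, 1, 1, 1, 1, 1, 1, 3, -1, 1, -1, -1, 1, 1, 1, 1, 1] : List ℤ)],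
   Ins.push 1 [([-1, 1, 1, -1, -1, 1, -1, 1, 1, -1, -1, 1, 1, 1, 1, 1, 1, 1, -1, 1, 3, 1, 1, 1] : List ℤ)],
   Ins.push 1 [([-1, -1, 3, -1, -1, 1, 1, -1, 1, 1, -1, 1, -1, 1, 1, 1, 1, 1, 1, 1, 1, 1, 1, 1] : List ℤ)],
   Ins.mark,
   Ins.pop,
   Ins.pop,
   Ins.pop,
   Ins.pop,
   Ins.pop,
   Ins.pop,
   Ins.pop,
   Ins.pop,
   Ins.pop,
   Ins.pop,
   Ins.push 0 [([-1, 1, -1, 1, -1, 1, 1, 1, -1, 1, -1, 1, 1, -1, 1, -1, 1, 1, 3, 1, 1, 1, 1, 1] : List ℤ)],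
   Ins.push 0 [([-1, 1, -1, 1, 3, 1, -1, -1, 1, -1, 1, 1, 1, 1, 1, -1, -1, 1, 1, 1, 1, 1, 1, 1] : List ℤ)],
   Ins.push 1 [([-1, 1, 1, 3, 1, 1, 1, 1, -1, 1, -1, 1, -1, 1, 1, 1, -1, 1, -1, 1, 1, -1, 1, 1] : List ℤ)],
   Ins.push 1 [([-1, -1, 1, 1, -1, 1, 1, 3, 1, 1, 1, 1, 1, 1, -1, 1, -1, -1, 1, -1, 1, 1, 1, 1] : List ℤ)],
   Ins.push 0 [([-1, 1, -1, 1, 1, 3, 1, 1, 1, 1, 1, -1, 1, -1, 1, 1, 1, -1, -1, 1, 1, 1, -1, 1] : List ℤ)],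
   Ins.push 0 [([-1, 1, 1, 1, -1, 1, -1, 1, 1, -1, 1, -1, 1, 1, -1, 1, 1, 1, 1, -1, 1, 3, 1, 1] : List ℤ)],
   Ins.push 1 [([-1, 1, 1, -1, 1, 1, 1, 1, 1, 1, -1, 1, -1, -1, 1, -1, 1, 1, 1, 3, -1, 1, 1, 1] : List ℤ)],
   Ins.push 1 [([-1, -1, -1, 1, 1, 1, 1, -1, 1, 1, 1, 1, 1, 1, -1, 3, 1, 1, -1, 1, 1, 1, -1, 1] : List ℤ)],
   Ins.push 0 [([-1, 1, 1, 1, -1, -1, -1, 1, 1, 1, 1, 1, 1, 1, -1, 3, 1, -1, -1, 1, 1, 1, 1, 1] : List ℤ)],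
   Ins.push 1 [([-1, 1, 1, -1, -1, 1, -1, 1, 1, -1, -1, 1, 1, 1, 1, 1, 1, 1, 3, 1, -1, 1, 1, 1] : List ℤ)],
   Ins.push 0 [([-1, -1, -1, -1, 3, 1, 1, -1, 1, 1, -1, 1, -1, 1, 1, 1, 1, 1, 1, 1, 1, 1, 1, 1] : List ℤ)],
   Ins.mark,
   Ins.pop,
   Ins.pop,
   Ins.pop,
   Ins.pop,
   Ins.pop,
   Ins.pop,
   Ins.pop,
   Ins.push 1 [([-1, 1, 1, -1, 1, 1, 1, 1, 1, -1, 1, -1, 1, 1, 1, -1, -1, 1, 1, 1, -1, 3, 1, 1] : List ℤ)],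
   Ins.push 0 [([-1, 1, 1, -1, 1, 1, 1, 1, 1, 1, -1, 1, -1, -1, 1, -1, 1, 1, 1, -1, 3, 1, 1, 1] : List ℤ)],
   Ins.push 1 [([-1, -1, 3, 1, 1, 1, 1, -1, 1, 1, 1, 1, 1, 1, -1, -1, 1, 1, -1, 1, 1, 1, -1, 1] : List ℤ)],
   Ins.push 0 [([-1, 1, 1, 1, -1, -1, 3, 1, 1, 1, 1, 1, 1, 1, -1, -1, 1, -1, -1, 1, 1, 1, 1, 1] : List ℤ)],
   Ins.push 1 [([-1, 1, 1, -1, -1, 1, -1, 1, 1, -1, 3, 1, 1, 1, 1, 1, 1, 1, -1, 1, -1, 1, 1, 1] : List ℤ)],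
   Ins.push 0 [([-1, -1, -1, -1, -1, 1, 1, 3, 1, 1, -1, 1, -1, 1, 1, 1, 1, 1, 1, 1, 1, 1, 1, 1] : List ℤ)],
   Ins.mark,
   Ins.pop,
   Ins.pop,
   Ins.pop,
   Ins.pop,
   Ins.pop,
   Ins.pop,
   Ins.pop,
   Ins.pop,
   Ins.push 0 [([-1, -1, 3, 1, 1, -1, -1, 1, 1, 1, 1, 1, -1, -1, 1, -1, 1, 1, 1, 1, 1, 1, 1, 1] : List ℤ)],
   Ins.push 1 [([-1, 1, 1, 1, 1, 1, -1, 1, 3, 1, -1, -1, 1, 1, -1, 1, 1, 1, -1, 1, 1, 1, -1, 1] : List ℤ)],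
   Ins.push 0 [([-1, -1, 1, 1, -1, 1, 1, -1, 1, 1, 1, 1, 1, 1, -1, 1, 3, -1, 1, -1, 1, 1, 1, 1] : List ℤ)],
   Ins.push 0 [([-1, 1, -1, 1, 1, -1, 1, 1, 1, 1, 1, -1, 1, 3, 1, 1, 1, -1, -1, 1, 1, 1, -1, 1] : List ℤ)],
   Ins.push 0 [([-1, 1, 1, 1, -1, 1, -1, 1, 1, 3, 1, -1, 1, 1, -1, 1, 1, 1, 1, -1, 1, -1, 1, 1] : List ℤ)],
   Ins.push 1 [([-1, 1, 1, -1, 1, 1, 1, 1, 1, 1, -1, 1, 3, -1, 1, -1, 1, 1, 1, -1, -1, 1, 1, 1] : List ℤ)],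
   Ins.push 1 [([-1, -1, -1, 1, 1, 1, 1, -1, 1, 1, 1, 1, 1, 1, 3, -1, 1, 1, -1, 1, 1, 1, -1, 1] : List ℤ)],
   Ins.push 0 [([-1, 1, 1, 1, -1, -1, -1, 1, 1, 1, 1, 1, 1, 1, -1, -1, 1, 3, -1, 1, 1, 1, 1, 1] : List ℤ)],
   Ins.push 1 [([-1, 1, 1, -1, -1, 1, -1, 1, 1, 3, -1, 1, 1, 1, 1, 1, 1, 1, -1, 1, -1, 1, 1, 1] : List ℤ)],
   Ins.push 0 [([-1, -1, -1, -1, -1, 1, 1, -1, 1, 1, -1, 1, 3, 1, 1, 1, 1, 1, 1, 1, 1, 1, 1, 1] : List ℤ)],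
   Ins.mark,
   Ins.pop,
   Ins.pop,
   Ins.pop,
   Ins.pop,
   Ins.pop,
   Ins.pop,
   Ins.pop,
   Ins.pop,
   Ins.pop,
   Ins.pop,
   Ins.pop,
   Ins.push 1 [([-1, -1, 1, -1, 3, 1, 1, 1, -1, 1, 1, 1, 1, 1, 1, 1, 1, -1, -1, 1, 1, 1, -1, 1] : List ℤ)],
   Ins.push 0 [([-1, 1, 3, -1, -1, 1, 1, 1, 1, 1, 1, -1, 1, 1, -1, 1, -1, 1, -1, 1, 1, 1, 1, 1] : List ℤ)],
   Ins.push 0 [([-1, 1, -1, -1, -1, 1, 3, 1, 1, 1, 1, 1, 1, -1, 1, 1, 1, -1, 1, -1, 1, 1, 1, 1] : List ℤ)],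
   Ins.push 0 [([-1, 3, -1, -1, 1, 1, -1, 1, 1, -1, 1, -1, 1, 1, 1, 1, 1, 1, 1, 1, 1, 1, -1, 1] : List ℤ)],
   Ins.push 0 [([-1, -1, 1, -1, 1, 1, -1, 1, 1, 1, 1, 1, -1, 1, -1, 1, 1, 1, 3, -1, 1, 1, 1, 1] : List ℤ)],
   Ins.push 1 [([-1, 1, 1, 1, 3, 1, 1, -1, 1, 1, -1, -1, 1, 1, -1, -1, 1, 1, 1, 1, -1, 1, 1, 1] : List ℤ)],
   Ins.push 1 [([-1, -1, -1, 3, 1, 1, 1, 1, 1, 1, 1, 1, 1, -1, 1, 1, 1, 1, -1, 1, -1, -1, 1, 1] : List ℤ)],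
   Ins.push 0 [([-1, 1, 1, 3, -1, 1, -1, 1, 1, -1, -1, 1, 1, 1, 1, 1, 1, 1, -1, 1, -1, 1, 1, 1] : List ℤ)],
   Ins.push 0 [([-1, -1, -1, 3, -1, 1, 1, -1, 1, 1, -1, 1, -1, 1, 1, 1, 1, 1, 1, 1, 1, 1, 1, 1] : List ℤ)],
   Ins.mark,
   Ins.pop,
   Ins.pop,
   Ins.pop,
   Ins.pop,
   Ins.pop,
   Ins.pop,
   Ins.pop,
   Ins.pop,
   Ins.pop,
   Ins.pop,
   Ins.pop,
   Ins.push 1 [([-1, -1, -1, 1, -1, -1, 1, 1, 1, 1, -1, 3, -1, -1, 1, 1, -1, 1, -1, 1, 1, -1, 1, 1] : List ℤ)],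
   Ins.push 1 [([-1, -1, 1, -1, -1, 1, -1, 1, -1, 1, 1, -1, 1, 3, -1, 1, -1, 1, 1, -1, 1, 1, -1, 1] : List ℤ)],
   Ins.push 0 [([-1, -1, -1, -1, 1, 1, 1, 1, 1, 3, 1, 1, 1, -1, -1, 1, -1, -1, -1, -1, 1, 1, -1, 1] : List ℤ)],
   Ins.push 0 [([-1, 1, 1, -1, -1, 1, -1, 1, 1, -1, 1, -1, 3, -1, -1, 1, 1, -1, -1, 1, 1, 1, -1, 1] : List ℤ)],
   Ins.push 0 [([-1, -1, -1, -1, -1, 1, 1, 1, 3, -1, 1, -1, -1, 1, -1, 1, 1, -1, 1, -1, 1, 1, 1, 1] : List ℤ)],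
   Ins.push 0 [([-1, 1, -1, -1, 1, 1, -1, 1, -1, 1, 1, -1, -1, 1, 1, 1, 3, -1, -1, -1, 1, 1, -1, 1] : List ℤ)],
   Ins.push 1 [([-1, 1, 1, 1, -1, -1, 1, -1, -1, -1, -1, 1, 1, -1, -1, -1, 3, -1, 1, 1, 1, 1, 1, 1] : List ℤ)],
   Ins.push 0 [([-1, 1, -1, 1, 1, -1, 1, -1, 1, -1, 1, -1, -1, 3, 1, -1, -1, -1, 1, 1, 1, -1, 1, 1] : List ℤ)],
   Ins.push 0 [([-1, 1, 1, 1, 1, -1, -1, 1, -1, 3, 1, -1, -1, -1, 1, -1, 1, 1, 1, -1, -1, -1, 1, 1] : List ℤ)],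
   Ins.push 1 [([-1, 1, -1, 1, 1, 1, -1, 1, 1, 1, -1, 1, 3, -1, -1, -1, 1, -1, -1, -1, 1, 1, -1, 1] : List ℤ)],
   Ins.push 1 [([-1, -1, 1, 1, -1, -1, 1, 1, -1, -1, -1, 1, 1, 1, 3, -1, 1, 1, -1, 1, -1, 1, -1, 1] : List ℤ)],
   Ins.push 1 [([-1, -1, -1, -1, -1, -1, -1, 1, 1, 1, 1, -1, -1, 1, 1, 1, 1, -1, -1, 1, 3, 1, 1, 1] : List ℤ)],
   Ins.push 1 [([-1, 1, 3, -1, -1, 1, -1, -1, -1, -1, -1, -1, 1, -1, -1, 1, 1, 1, 1, 1, 1, 1, 1, 1] : List ℤ)],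
   Ins.mark,
   Ins.pop,
   Ins.pop,
   Ins.pop,
   Ins.pop,
   Ins.push 0 [([-1, -1, 1, 1, 1, 1, 1, 1, -1, -1, -1, 1, 3, 1, 1, -1, -1, 1, 1, -1, -1, -1, -1, 1] : List ℤ)],
   Ins.push 1 [([-1, -1, -1, 1, 1, -1, 1, 1, 1, 1, 1, -1, -1, 1, 3, -1, -1, -1, -1, -1, 1, 1, 1, 1] : List ℤ)],
   Ins.push 1 [([-1, 1, 1, 1, -1, 1, -1, 1, -1, -1, 1, -1, 1, -1, -1, -1, -1, 1, -1, 1, 3, 1, 1, 1] : List ℤ)],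
   Ins.push 1 [([-1, 1, 3, -1, -1, 1, 1, 1, 1, 1, -1, 1, -1, -1, 1, 1, -1, -1, -1, 1, -1, 1, -1, 1] : List ℤ)],
   Ins.push 0 [([-1, 1, -1, -1, -1, 1, 3, -1, -1, -1, -1, -1, 1, -1, -1, 1, 1, 1, 1, 1, 1, 1, 1, 1] : List ℤ)],
   Ins.mark,
   Ins.pop,
   Ins.pop,
   Ins.pop,
   Ins.pop,
   Ins.pop,
   Ins.pop,
   Ins.pop,
   Ins.pop,
   Ins.pop,
   Ins.pop,
   Ins.push 1 [([-1, 1, 1, -1, -1, -1, 1, -1, 1, -1, -1, 1, -1, -1, 3, 1, 1, 1, 1, 1, -1, 1, -1, 1] : List ℤ)],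
   Ins.push 0 [([-1, 1, -1, -1, 1, -1, 1, -1, -1, -1, -1, 1, -1, 1, -1, 1, 1, 3, 1, 1, 1, -1, 1, 1] : List ℤ)],
   Ins.push 0 [([-1, 1, 1, -1, 1, -1, -1, -1, -1, 1, 1, 3, -1, 1, 1, 1, -1, -1, 1, 1, -1, -1, 1, 1] : List ℤ)],
   Ins.push 1 [([-1, 1, -1, 1, 1, 1, -1, -1, 1, -1, -1, 1, 1, 3, -1, 1, -1, -1, 1, -1, 1, -1, 1, 1] : List ℤ)],
   Ins.push 1 [([-1, -1, 1, 1, 1, 1, 1, 1, -1, -1, -1, 1, -1, 1, 1, -1, -1, 1, 1, -1, -1, -1, 3, 1] : List ℤ)],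
   Ins.push 1 [([-1, -1, -1, 1, 1, 3, 1, 1, 1, 1, 1, -1, -1, 1, -1, -1, -1, -1, -1, -1, 1, 1, 1, 1] : List ℤ)],
   Ins.push 1 [([-1, 1, 1, 1, -1, 1, 3, 1, -1, -1, 1, -1, 1, -1, -1, -1, -1, 1, -1, 1, -1, 1, 1, 1] : List ℤ)],
   Ins.push 1 [([-1, 1, -1, -1, -1, 1, 1, 1, 1, 1, 3, 1, -1, -1, 1, 1, -1, -1, -1, 1, -1, 1, -1, 1] : List ℤ)],
   Ins.push 0 [([-1, 1, -1, -1, -1, 1, -1, 3, -1, -1, -1, -1, 1, -1, -1, 1, 1, 1, 1, 1, 1, 1, 1, 1] : List ℤ)],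
   Ins.mark,
   Ins.pop,
   Ins.pop,
   Ins.pop,
   Ins.pop,
   Ins.pop,
   Ins.pop,
   Ins.pop,
   Ins.pop,
   Ins.pop,
   Ins.pop,
   Ins.pop,
   Ins.push 1 [([-1, 1, 1, -1, 1, -1, 1, -1, 1, 1, -1, -1, 1, -1, 1, -1, -1, -1, 1, 1, -1, 1, 3, 1] : List ℤ)],
   Ins.push 0 [([-1, 1, 1, -1, 1, -1, 1, -1, 1, -1, -1, -1, 1, -1, 3, -1, 1, 1, 1, -1, 1, -1, 1, 1] : List ℤ)],
   Ins.push 1 [([-1, -1, 1, 1, 1, 1, -1, -1, 1, 1, 1, 1, -1, -1, 1, -1, 1, 1, -1, -1, 3, -1, -1, 1] : List ℤ)],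
   Ins.push 0 [([-1, -1, 1, 1, -1, -1, 1, 1, -1, -1, 3, 1, 1, 1, -1, -1, 1, 1, -1, 1, -1, 1, -1, 1] : List ℤ)],
   Ins.push 1 [([-1, 3, -1, -1, -1, -1, -1, 1, 1, 1, 1, -1, -1, 1, 1, 1, 1, -1, -1, 1, -1, 1, 1, 1] : List ℤ)],
   Ins.push 1 [([-1, 1, -1, -1, -1, 1, -1, -1, -1, -1, -1, 3, 1, -1, -1, 1, 1, 1, 1, 1, 1, 1, 1, 1] : List ℤ)],
   Ins.mark,
   Ins.pop,
   Ins.pop,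
   Ins.pop,
   Ins.pop,
   Ins.pop,
   Ins.pop,
   Ins.pop,
   Ins.push 0 [([-1, 1, -1, 1, -1, 1, -1, -1, -1, -1, 1, 1, 1, -1, 1, 1, 1, 1, -1, 3, -1, -1, 1, 1] : List ℤ)],
   Ins.push 0 [([-1, -1, -1, 1, -1, -1, -1, 1, 1, -1, -1, 1, -1, 1, 1, 1, -1, 1, 1, 1, -1, 1, 3, 1] : List ℤ)],
   Ins.push 0 [([-1, -1, -1, 1, 1, 1, -1, -1, -1, 1, -1, 1, -1, -1, 3, 1, 1, 1, -1, 1, 1, -1, 1, 1] : List ℤ)],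
   Ins.push 1 [([-1, -1, 1, 1, -1, 1, 1, 1, -1, 1, -1, -1, 1, 1, -1, 1, 1, -1, 1, -1, 3, -1, -1, 1] : List ℤ)],
   Ins.push 1 [([-1, -1, 3, -1, 1, -1, 1, 1, 1, -1, 1, -1, 1, -1, 1, -1, 1, -1, 1, -1, -1, 1, 1, 1] : List ℤ)],
   Ins.push 1 [([-1, 1, -1, 1, 1, 1, -1, -1, 3, -1, 1, -1, -1, -1, 1, -1, 1, 1, -1, 1, 1, 1, -1, 1] : List ℤ)],
   Ins.push 0 [([-1, -1, 1, 1, -1, -1, -1, 1, -1, -1, 1, 1, -1, 1, -1, -1, 3, 1, 1, -1, 1, 1, 1, 1] : List ℤ)],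
   Ins.push 0 [([-1, -1, -1, 1, 1, 1, 1, 1, -1, 1, 1, 1, -1, 3, 1, -1, -1, -1, -1, 1, 1, -1, -1, 1] : List ℤ)],
   Ins.push 0 [([-1, 1, 1, 1, -1, 1, -1, 1, -1, 3, 1, -1, 1, -1, -1, -1, -1, 1, -1, 1, -1, 1, 1, 1] : List ℤ)],
   Ins.push 1 [([-1, 1, -1, -1, -1, 1, 1, 1, 1, 1, -1, 1, 3, -1, 1, 1, -1, -1, -1, 1, -1, 1, -1, 1] : List ℤ)],
   Ins.push 0 [([-1, 1, -1, -1, -1, 1, -1, -1, 3, -1, -1, -1, 1, -1, -1, 1, 1, 1, 1, 1, 1, 1, 1, 1] : List ℤ)],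
   Ins.mark,
   Ins.pop,
   Ins.pop,
   Ins.pop,
   Ins.pop,
   Ins.pop,
   Ins.pop,
   Ins.pop,
   Ins.pop,
   Ins.pop,
   Ins.pop,
   Ins.pop,
   Ins.pop,
   Ins.pop,
   Ins.push 9 [([-1, -3, 1, -1, 1, 1, -1, 1, 1, 1, 1, 1, 1, -1, 1, -1, -1, 1, -1, 1, 1, 1, -1, 1] : List ℤ)],
   Ins.push 1 [([-1, 1, 1, 1, -1, -1, 1, -1, 1, 1, -1, -3, 1, 1, 1, 1, -1, 1, -1, 1, 1, 1, -1, 1] : List ℤ)],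
   Ins.push 1 [([-1, -1, 1, -1, -1, -1, -1, 1, 1, 1, 1, 1, 1, -3, 1, 1, -1, 1, 1, 1, 1, -1, 1, 1] : List ℤ)],
   Ins.push 0 [([-1, -1, -1, -1, 1, 1, 1, 1, 1, -3, 1, 1, 1, -1, 1, 1, 1, 1, -1, 1, -1, -1, 1, 1] : List ℤ)],
   Ins.push 0 [([-1, 1, 1, -1, -1, 1, -1, 1, 1, -1, -1, 1, -3, 1, 1, 1, 1, 1, -1, 1, -1, 1, 1, 1] : List ℤ)],
   Ins.push 1 [([-1, -1, -1, -1, -1, 1, 1, -1, 1, 1, -1, 1, -1, 1, -3, 1, 1, 1, 1, 1, 1, 1, 1, 1] : List ℤ)],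
   Ins.mark,
   Ins.push 0 [([-1, 1, -1, -1, 1, -1, -1, -1, -1, 1, 1, 1, 1, 1, 1, 1, 1, -3, -1, 1, 1, 1, 1, 1] : List ℤ)],
   Ins.push 0 [([-1, -1, 1, -1, -1, -1, -1, 1, 1, 1, 1, -3, 1, 1, 1, 1, -1, 1, 1, 1, 1, -1, 1, 1] : List ℤ)],
   Ins.push 0 [([-1, -1, -1, -1, 1, 1, 1, 1, 1, 1, 1, 1, 1, -1, 1, 1, 1, 1, -1, -3, -1, -1, 1, 1] : List ℤ)],
   Ins.push 0 [([-1, 1, 1, -1, -1, 1, -1, 1, 1, -1, -1, 1, 1, 1, 1, 1, 1, 1, -1, 1, -1, 1, -3, 1] : List ℤ)],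
   Ins.push 1 [([-1, -1, -1, -1, -1, -3, 1, -1, 1, 1, -1, 1, -1, 1, 1, 1, 1, 1, 1, 1, 1, 1, 1, 1] : List ℤ)],
   Ins.mark,
   Ins.pop,
   Ins.pop,
   Ins.pop,
   Ins.pop,
   Ins.pop,
   Ins.pop,
   Ins.push 0 [([-1, -1, -1, -1, -1, 1, 1, -1, -3, 1, -1, 1, -1, 1, 1, 1, 1, 1, 1, 1, 1, 1, 1, 1] : List ℤ)],
   Ins.mark,
   Ins.pop,
   Ins.pop,
   Ins.pop,
   Ins.push 1 [([-1, 1, 1, -1, 1, 1, -1, -1, 1, 1, -1, -1, 1, 1, 1, 1, -1, 1, 1, -1, 1, 1, -3, 1] : List ℤ)],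
   Ins.push 0 [([-1, -1, 1, -1, 1, -1, 1, -1, 1, 1, 1, 1, 1, -1, -3, 1, 1, 1, 1, -1, 1, 1, -1, 1] : List ℤ)],
   Ins.push 1 [([-1, 1, 1, 1, 1, -1, -1, -1, 1, 1, 1, -1, 1, 1, 1, -1, 1, 1, 1, 1, -3, -1, -1, 1] : List ℤ)],
   Ins.push 0 [([-1, -1, 1, 1, 1, -1, 1, 1, 1, 1, -3, 1, 1, 1, -1, -1, 1, 1, 1, -1, -1, -1, 1, 1] : List ℤ)],
   Ins.push 1 [([-1, -3, -1, 1, 1, 1, -1, 1, 1, 1, 1, -1, 1, 1, 1, -1, 1, 1, -1, -1, -1, 1, 1, 1] : List ℤ)],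
   Ins.push 0 [([-1, -1, 1, 1, -1, 1, -1, 1, 1, 1, -1, 1, 1, 1, 1, -1, 1, 1, -3, -1, 1, 1, -1, 1] : List ℤ)],
   Ins.push 0 [([-1, -1, -1, 1, -3, 1, 1, -1, 1, 1, 1, 1, 1, 1, -1, -1, 1, 1, -1, 1, 1, 1, -1, 1] : List ℤ)],
   Ins.push 0 [([-1, 1, -3, 1, -1, -1, -1, 1, 1, 1, 1, 1, 1, 1, -1, -1, 1, -1, -1, 1, 1, 1, 1, 1] : List ℤ)],
   Ins.push 1 [([-1, 1, 1, -1, -1, 1, -1, 1, -3, -1, -1, 1, 1, 1, 1, 1, 1, 1, -1, 1, -1, 1, 1, 1] : List ℤ)],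
   Ins.push 0 [([-1, -1, -1, -1, -1, 1, 1, -1, 1, 1, -1, 1, -1, 1, 1, 1, -3, 1, 1, 1, 1, 1, 1, 1] : List ℤ)],
   Ins.mark,
   Ins.pop,
   Ins.pop,
   Ins.pop,
   Ins.pop,
   Ins.pop,
   Ins.pop,
   Ins.pop,
   Ins.pop,
   Ins.pop,
   Ins.push 1 [([-1, -1, 1, 1, 1, -3, 1, -1, 1, 1, -1, 1, 1, -1, 1, -1, -1, 1, 1, 1, 1, -1, 1, 1] : List ℤ)],
   Ins.push 0 [([-1, 1, 1, 1, 1, -1, 1, -1, 1, -1, 1, 1, 1, -1, 1, -1, 1, 1, -1, 1, -1, -3, 1, 1] : List ℤ)],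
   Ins.push 0 [([-1, 1, 1, 1, -1, -1, 1, 1, 1, -1, -1, 1, -1, 1, 1, -1, 1, 1, 1, 1, -3, -1, 1, 1] : List ℤ)],
   Ins.push 1 [([-1, -1, -3, -1, 1, 1, -1, 1, 1, 1, 1, 1, -1, 1, -1, 1, 1, 1, -1, -1, 1, 1, 1, 1] : List ℤ)],
   Ins.push 1 [([-1, 1, 1, 1, -1, 1, 1, -1, -3, 1, -1, -1, 1, 1, -1, -1, 1, 1, 1, 1, -1, 1, 1, 1] : List ℤ)],
   Ins.push 1 [([-1, -1, -1, -1, 1, 1, 1, 1, 1, 1, 1, 1, 1, -1, 1, 1, 1, -3, -1, 1, -1, -1, 1, 1] : List ℤ)],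
   Ins.push 0 [([-1, 1, 1, -1, -1, 1, -1, 1, 1, -1, -1, -3, 1, 1, 1, 1, 1, 1, -1, 1, -1, 1, 1, 1] : List ℤ)],
   Ins.push 1 [([-1, -1, -1, -1, -1, 1, 1, -1, 1, 1, -1, 1, -1, -3, 1, 1, 1, 1, 1, 1, 1, 1, 1, 1] : List ℤ)],
   Ins.mark,
   Ins.pop,
   Ins.pop,
   Ins.pop,
   Ins.pop,
   Ins.pop,
   Ins.pop,
   Ins.pop,
   Ins.pop,
   Ins.pop,
   Ins.pop,
   Ins.push 0 [([-1, 1, -1, 1, -1, -1, 1, -1, 1, 1, 1, 1, 1, -1, -1, 1, 1, 1, 1, -3, 1, -1, 1, 1] : List ℤ)],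
   Ins.push 1 [([-1, 1, 1, -1, 1, 1, -1, 1, -1, 1, 1, 1, 1, 1, 1, -3, 1, 1, 1, -1, -1, -1, -1, 1] : List ℤ)],
   Ins.push 0 [([-1, -1, 1, -1, 1, 1, 1, 1, 1, 1, -1, 1, 1, 1, -1, -3, -1, 1, 1, 1, -1, 1, -1, 1] : List ℤ)],
   Ins.push 1 [([-1, -1, -1, 1, 1, -1, 1, -1, 1, 1, 1, -1, 1, 1, 1, 1, -1, 1, -3, 1, -1, 1, 1, 1] : List ℤ)],
   Ins.push 0 [([-1, 1, 1, 1, -3, -1, -1, 1, 1, 1, -1, 1, 1, -1, 1, 1, 1, 1, -1, -1, 1, -1, 1, 1] : List ℤ)],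
   Ins.push 1 [([-1, -1, 1, -3, -1, 1, -1, 1, 1, 1, -1, 1, 1, 1, 1, -1, 1, 1, 1, -1, 1, 1, -1, 1] : List ℤ)],
   Ins.push 0 [([-1, -1, -1, -3, 1, 1, 1, -1, 1, 1, 1, 1, 1, 1, -1, -1, 1, 1, -1, 1, 1, 1, -1, 1] : List ℤ)],
   Ins.push 0 [([-1, 1, 1, -3, -1, -1, -1, 1, 1, 1, 1, 1, 1, 1, -1, -1, 1, -1, -1, 1, 1, 1, 1, 1] : List ℤ)],
   Ins.push 1 [([-1, 1, 1, -1, -1, 1, -1, -3, 1, -1, -1, 1, 1, 1, 1, 1, 1, 1, -1, 1, -1, 1, 1, 1] : List ℤ)],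
   Ins.push 1 [([-1, -1, -1, -1, -1, 1, 1, -1, 1, 1, -1, 1, -1, 1, 1, 1, 1, 1, 1, 1, 1, -3, 1, 1] : List ℤ)],
   Ins.mark,
   Ins.pop,
   Ins.pop,
   Ins.pop,
   Ins.pop,
   Ins.pop,
   Ins.pop,
   Ins.pop,
   Ins.pop,
   Ins.push 1 [([-1, 1, -1, 1, 1, -1, 1, -1, 1, 1, -1, 1, 1, 1, 1, -1, 1, -1, -3, -1, 1, 1, 1, 1] : List ℤ)],
   Ins.push 0 [([-1, 1, 1, 1, -3, -1, -1, -1, 1, 1, 1, -1, 1, 1, 1, -1, 1, 1, 1, 1, 1, -1, -1, 1] : List ℤ)],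
   Ins.push 0 [([-1, -1, -3, 1, 1, -1, 1, 1, 1, 1, 1, 1, 1, 1, -1, -1, 1, 1, 1, -1, -1, -1, 1, 1] : List ℤ)],
   Ins.push 0 [([-1, 1, 1, 1, 1, 1, -3, 1, 1, 1, -1, 1, 1, 1, 1, -1, 1, -1, -1, 1, -1, -1, -1, 1] : List ℤ)],
   Ins.push 0 [([-1, -3, 1, 1, -1, 1, 1, -1, 1, 1, -1, -1, 1, 1, -1, -1, 1, 1, 1, 1, -1, 1, 1, 1] : List ℤ)],
   Ins.push 1 [([-1, -1, -1, -1, 1, 1, 1, 1, 1, 1, 1, -3, 1, -1, 1, 1, 1, 1, -1, 1, -1, -1, 1, 1] : List ℤ)],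
   Ins.push 0 [([-1, 1, 1, -1, -1, 1, -1, 1, 1, -1, -1, 1, 1, 1, 1, 1, 1, 1, -1, -3, -1, 1, 1, 1] : List ℤ)],
   Ins.push 0 [([-1, -1, -1, -1, -1, 1, 1, -1, 1, 1, -1, 1, -1, 1, 1, 1, 1, 1, 1, 1, 1, 1, -3, 1] : List ℤ)],
   Ins.mark,
   Ins.pop,
   Ins.push 1 [([-1, -1, -1, -1, -1, 1, 1, -1, 1, 1, -1, 1, -1, 1, 1, -3, 1, 1, 1, 1, 1, 1, 1, 1] : List ℤ)],
   Ins.mark,
   Ins.pop,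
   Ins.pop,
   Ins.pop,
   Ins.pop,
   Ins.pop,
   Ins.pop,
   Ins.pop,
   Ins.pop,
   Ins.pop,
   Ins.push 0 [([-1, 1, -1, 1, 1, -1, -1, 1, 1, -1, 1, 1, 1, 1, 1, 1, 1, -1, 1, 1, -1, -1, -3, 1] : List ℤ)],
   Ins.push 0 [([-1, -1, 1, 1, 1, 1, -1, 1, 1, 1, -1, -1, -1, 1, -3, 1, 1, 1, 1, 1, -1, -1, 1, 1] : List ℤ)],
   Ins.push 1 [([-1, -1, -1, 1, 1, 1, 1, 1, 1, 1, -1, -1, 1, -1, -1, 1, 1, 1, 1, -1, -3, 1, 1, 1] : List ℤ)],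
   Ins.push 0 [([-1, 1, 1, 1, 1, 1, -1, -1, 1, -1, -3, 1, 1, 1, 1, 1, 1, -1, -1, -1, 1, 1, -1, 1] : List ℤ)],
   Ins.push 1 [([-1, -3, 1, 1, -1, -1, 1, 1, 1, -1, -1, 1, -1, 1, 1, -1, 1, 1, 1, 1, 1, -1, 1, 1] : List ℤ)],
   Ins.push 1 [([-1, -1, 1, -1, 1, 1, -1, 1, 1, 1, 1, -3, -1, 1, -1, 1, 1, 1, -1, -1, 1, 1, 1, 1] : List ℤ)],
   Ins.push 1 [([-1, 1, 1, 1, -1, 1, 1, -1, 1, 1, -1, -1, 1, -3, -1, -1, 1, 1, 1, 1, -1, 1, 1, 1] : List ℤ)],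
   Ins.push 1 [([-1, -1, -1, -1, 1, 1, 1, 1, 1, 1, 1, 1, 1, -1, 1, 1, 1, 1, -1, 1, -1, -1, -3, 1] : List ℤ)],
   Ins.push 0 [([-1, 1, 1, -1, -1, 1, -1, 1, 1, -1, -1, 1, 1, 1, -3, 1, 1, 1, -1, 1, -1, 1, 1, 1] : List ℤ)],
   Ins.push 0 [([-1, -1, -1, -1, -1, 1, 1, -1, 1, 1, -1, 1, -1, 1, 1, 1, 1, -3, 1, 1, 1, 1, 1, 1] : List ℤ)],
   Ins.mark,
   Ins.pop,
   Ins.pop,
   Ins.pop,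
   Ins.pop,
   Ins.pop,
   Ins.pop,
   Ins.pop,
   Ins.pop,
   Ins.pop,
   Ins.pop,
   Ins.pop,
   Ins.pop,
   Ins.push 0 [([-1, -1, 1, -1, -1, 1, 1, 1, 1, -1, 1, 1, 1, -1, -1, -1, 1, 1, -3, 1, 1, 1, 1, 1] : List ℤ)],
   Ins.push 1 [([-1, 1, 1, -1, -3, 1, 1, -1, 1, 1, 1, -1, -1, 1, 1, 1, 1, 1, -1, 1, -1, 1, -1, 1] : List ℤ)],
   Ins.push 1 [([-1, 1, -1, -3, -1, -1, 1, -1, 1, 1, 1, 1, 1, -1, -1, 1, 1, 1, 1, 1, 1, -1, 1, 1] : List ℤ)],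
   Ins.push 1 [([-1, 1, 1, -1, 1, 1, -1, -3, -1, 1, 1, 1, 1, 1, 1, 1, 1, 1, 1, -1, -1, -1, -1, 1] : List ℤ)],
   Ins.push 0 [([-1, -1, 1, -1, 1, -3, 1, 1, 1, 1, -1, 1, 1, 1, -1, 1, -1, 1, 1, 1, -1, 1, -1, 1] : List ℤ)],
   Ins.push 1 [([-1, -1, -1, 1, 1, -1, -3, -1, 1, 1, 1, -1, 1, 1, 1, 1, -1, 1, 1, 1, -1, 1, 1, 1] : List ℤ)],
   Ins.push 0 [([-1, -3, 1, 1, 1, -1, -1, 1, 1, 1, -1, 1, 1, -1, 1, 1, 1, 1, -1, -1, 1, -1, 1, 1] : List ℤ)],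
   Ins.push 1 [([-1, -1, 1, 1, -1, 1, -1, 1, 1, 1, -1, -3, 1, 1, 1, -1, 1, 1, 1, -1, 1, 1, -1, 1] : List ℤ)],
   Ins.push 0 [([-1, -1, -1, 1, 1, 1, 1, -1, 1, 1, 1, 1, 1, 1, -1, -1, 1, 1, -1, -3, 1, 1, -1, 1] : List ℤ)],
   Ins.push 0 [([-1, 1, 1, 1, -1, -1, -1, 1, 1, 1, 1, 1, 1, 1, -1, -1, 1, -1, -1, 1, 1, 1, -3, 1] : List ℤ)],
   Ins.push 1 [([-1, 1, 1, -1, -1, -3, -1, 1, 1, -1, -1, 1, 1, 1, 1, 1, 1, 1, -1, 1, -1, 1, 1, 1] : List ℤ)],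
   Ins.push 1 [([-1, -1, -1, -1, -1, 1, -3, -1, 1, 1, -1, 1, -1, 1, 1, 1, 1, 1, 1, 1, 1, 1, 1, 1] : List ℤ)],
   Ins.mark,
   Ins.pop,
   Ins.pop,
   Ins.pop,
   Ins.pop,
   Ins.pop,
   Ins.pop,
   Ins.pop,
   Ins.pop,
   Ins.pop,
   Ins.push 0 [([-1, 1, -1, -3, 1, -1, -1, 1, 1, -1, 1, 1, 1, 1, 1, 1, 1, -1, 1, 1, -1, -1, 1, 1] : List ℤ)],
   Ins.push 0 [([-1, -1, 1, -3, 1, 1, -1, 1, 1, 1, -1, -1, -1, 1, 1, 1, 1, 1, 1, 1, -1, -1, 1, 1] : List ℤ)],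
   Ins.push 0 [([-1, -1, 1, -3, 1, 1, 1, -1, -1, 1, -1, 1, 1, 1, 1, 1, 1, 1, -1, -1, -1, 1, 1, 1] : List ℤ)],
   Ins.push 0 [([-1, 1, 1, -3, -1, -1, 1, -1, 1, 1, -1, 1, 1, 1, 1, 1, -1, 1, -1, 1, 1, 1, -1, 1] : List ℤ)],
   Ins.push 1 [([-1, -1, 1, -1, -1, -1, -1, -3, 1, 1, 1, 1, 1, 1, 1, 1, -1, 1, 1, 1, 1, -1, 1, 1] : List ℤ)],
   Ins.push 0 [([-1, -1, -1, -1, 1, -3, 1, 1, 1, 1, 1, 1, 1, -1, 1, 1, 1, 1, -1, 1, -1, -1, 1, 1] : List ℤ)],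
   Ins.push 0 [([-1, 1, 1, -1, -1, 1, -1, 1, 1, -1, -1, 1, 1, 1, 1, 1, 1, 1, -1, 1, -1, -3, 1, 1] : List ℤ)],
   Ins.push 0 [([-1, -1, -1, -1, -1, 1, 1, -1, 1, 1, -1, 1, -1, 1, 1, 1, 1, 1, 1, 1, -3, 1, 1, 1] : List ℤ)],
   Ins.mark,
   Ins.pop,
   Ins.push 1 [([-1, -1, -1, -1, -1, 1, 1, -1, 1, 1, -1, 1, -1, 1, 1, 1, 1, 1, 1, -3, 1, 1, 1, 1] : List ℤ)],
   Ins.mark,
   Ins.pop,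
   Ins.pop,
   Ins.pop,
   Ins.pop,
   Ins.pop,
   Ins.pop,
   Ins.pop,
   Ins.pop,
   Ins.pop,
   Ins.push 0 [([-1, 1, -3, -1, -1, -1, 1, 1, -1, 1, -1, 1, 1, 1, -1, 1, 1, 1, 1, -1, 1, 1, 1, 1] : List ℤ)],
   Ins.push 0 [([-1, 1, -1, -1, 1, 1, -3, -1, 1, 1, 1, 1, 1, 1, 1, 1, -1, -1, 1, 1, 1, -1, -1, 1] : List ℤ)],
   Ins.push 0 [([-1, -3, 1, -1, 1, -1, -1, 1, 1, 1, 1, -1, 1, -1, -1, 1, 1, 1, 1, 1, -1, 1, 1, 1] : List ℤ)],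
   Ins.push 0 [([-1, -1, 1, -1, 1, 1, 1, 1, 1, -1, -1, 1, 1, 1, 1, 1, 1, -1, -3, -1, 1, -1, 1, 1] : List ℤ)],
   Ins.push 1 [([-1, -1, 1, 1, -3, 1, 1, -1, 1, -1, 1, -1, -1, 1, 1, -1, 1, 1, 1, -1, 1, 1, 1, 1] : List ℤ)],
   Ins.push 0 [([-1, 1, -3, 1, 1, -1, 1, 1, -1, 1, 1, 1, -1, 1, 1, -1, 1, 1, -1, -1, 1, 1, -1, 1] : List ℤ)],
   Ins.push 1 [([-1, 1, 1, 1, -1, -1, -1, 1, -3, 1, 1, 1, 1, 1, -1, -1, 1, -1, -1, 1, 1, 1, 1, 1] : List ℤ)],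
   Ins.push 1 [([-1, 1, 1, -1, -1, 1, -1, 1, 1, -1, -1, 1, 1, 1, 1, 1, 1, -3, -1, 1, -1, 1, 1, 1] : List ℤ)],
   Ins.push 1 [([-1, -1, -1, -1, -1, 1, 1, -1, 1, -3, -1, 1, -1, 1, 1, 1, 1, 1, 1, 1, 1, 1, 1, 1] : List ℤ)],
   Ins.mark,
   Ins.pop,
   Ins.pop,
   Ins.pop,
   Ins.pop,
   Ins.pop,
   Ins.pop,
   Ins.pop,
   Ins.pop,
   Ins.pop,
   Ins.pop,
   Ins.push 0 [([-1, 1, -1, -1, -3, 1, 1, 1, 1, -1, 1, 1, -1, 1, 1, -1, 1, -1, -1, 1, 1, 1, 1, 1] : List ℤ)],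
   Ins.push 0 [([-1, 1, -3, -1, -1, 1, -1, 1, -1, 1, 1, -1, -1, 1, 1, -1, 1, 1, 1, 1, 1, 1, 1, 1] : List ℤ)],
   Ins.push 0 [([-1, -1, -1, -1, 1, 1, -3, 1, -1, 1, 1, 1, 1, 1, 1, -1, -1, 1, 1, -1, 1, 1, 1, 1] : List ℤ)],
   Ins.push 1 [([-1, 1, 1, 1, 1, 1, 1, -1, -1, 1, -3, -1, 1, 1, 1, -1, -1, -1, -1, 1, 1, 1, 1, 1] : List ℤ)],
   Ins.push 0 [([-1, 1, 1, 1, -1, -1, 1, -3, 1, 1, 1, -1, 1, -1, 1, -1, -1, 1, 1, -1, 1, 1, 1, 1] : List ℤ)],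
   Ins.push 0 [([-1, 1, -1, 1, 1, -3, 1, 1, 1, -1, 1, 1, 1, -1, 1, -1, 1, 1, 1, -1, 1, -1, -1, 1] : List ℤ)],
   Ins.push 1 [([-1, 1, 1, 1, 1, -1, -3, 1, -1, 1, 1, 1, -1, 1, 1, -1, 1, 1, -1, -1, 1, 1, -1, 1] : List ℤ)],
   Ins.push 1 [([-1, 1, 1, 1, -1, -1, -1, 1, 1, 1, -3, 1, 1, 1, -1, -1, 1, -1, -1, 1, 1, 1, 1, 1] : List ℤ)],
   Ins.push 1 [([-1, -3, 1, -1, -1, 1, -1, 1, 1, -1, -1, 1, 1, 1, 1, 1, 1, 1, -1, 1, -1, 1, 1, 1] : List ℤ)],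
   Ins.push 0 [([-1, -1, -1, -1, -1, 1, 1, -1, 1, 1, -1, 1, -1, 1, 1, 1, 1, 1, -3, 1, 1, 1, 1, 1] : List ℤ)],
   Ins.mark,
   Ins.pop,
   Ins.push 1 [([-1, -1, -1, -1, -1, 1, 1, -1, 1, 1, -1, -3, -1, 1, 1, 1, 1, 1, 1, 1, 1, 1, 1, 1] : List ℤ)],
   Ins.mark,
   Ins.pop,
   Ins.pop,
   Ins.pop,
   Ins.pop,
   Ins.pop,
   Ins.pop,
   Ins.pop,
   Ins.pop,
   Ins.pop,
   Ins.pop,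
   Ins.pop,
   Ins.pop,
   Ins.push 0 [([-1, -1, -1, -1, -1, -1, -1, -1, 1, -1, -1, 1, -1, -1, -1, -1, -1, 1, -3, 1, 1, -1, 1, 1] : List ℤ)],
   Ins.push 1 [([-1, -1, 1, -1, -3, 1, -1, -1, -1, 1, -1, -1, -1, 1, -1, 1, -1, 1, -1, -1, -1, -1, -1, 1] : List ℤ)],
   Ins.push 1 [([-1, -1, -1, -3, -1, -1, 1, -1, 1, 1, -1, -1, 1, -1, -1, -1, -1, -1, 1, -1, -1, -1, 1, 1] : List ℤ)],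
   Ins.push 1 [([-1, -1, -1, -1, 1, 1, -1, -3, -1, -1, 1, -1, 1, -1, 1, -1, -1, 1, -1, -1, -1, -1, -1, 1] : List ℤ)],
   Ins.push 1 [([-1, 1, -1, 1, -1, -1, 1, -1, -1, 1, -1, -1, -1, -1, 1, -1, -1, -1, -1, -1, 1, -3, -1, 1] : List ℤ)],
   Ins.push 1 [([-1, -1, 1, -1, -1, -1, -1, 1, -1, -1, 1, 1, 1, -1, -1, -1, -1, -1, -1, -3, 1, -1, -1, 1] : List ℤ)],
   Ins.push 0 [([-1, -1, -1, -1, -1, 1, 1, 1, 1, -1, 1, -1, -1, -1, -1, -1, -1, -1, -1, 1, -1, -1, -3, 1] : List ℤ)],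
   Ins.push 0 [([-1, 1, -1, -1, -1, 1, -1, 1, -1, -1, -1, -1, -1, -1, -3, -1, 1, -1, -1, -1, -1, 1, 1, 1] : List ℤ)],
   Ins.push 1 [([-1, -1, -1, -1, -1, 1, 1, -1, -1, -1, -1, 1, -1, -1, -1, -1, 1, -1, -1, 1, -3, 1, -1, 1] : List ℤ)],
   Ins.push 0 [([-1, 1, -1, -1, -1, -1, -1, -1, -1, -1, -3, -1, -1, 1, -1, -1, -1, -1, -1, 1, 1, 1, 1, 1] : List ℤ)],
   Ins.mark,
   Ins.pop,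
   Ins.pop,
   Ins.pop,
   Ins.pop,
   Ins.pop,
   Ins.pop,
   Ins.push 0 [([-1, -1, 1, -1, -1, -3, -1, 1, 1, -1, -1, 1, -1, -1, -1, -1, -1, 1, -1, -1, -1, 1, -1, 1] : List ℤ)],
   Ins.push 0 [([-1, -1, -1, -1, -1, 1, 1, -1, -1, -1, -1, 1, -1, -1, -1, -1, 1, -1, -1, 1, 1, -3, -1, 1] : List ℤ)],
   Ins.push 0 [([-1, 1, -1, -1, -1, -1, -1, -1, -1, -1, 1, -1, -1, 1, -1, -1, -1, -1, -1, 1, -3, 1, 1, 1] : List ℤ)],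
   Ins.mark,
   Ins.pop,
   Ins.pop,
   Ins.pop,
   Ins.pop,
   Ins.push 0 [([-1, 1, -1, -3, 1, -1, -1, -1, 1, -1, -1, -1, 1, -1, 1, -1, 1, -1, -1, -1, -1, -1, -1, 1] : List ℤ)],
   Ins.push 0 [([-1, -1, 1, -3, -1, -1, -1, -1, 1, -1, -1, -1, -1, 1, -1, -1, 1, 1, 1, -1, -1, -1, -1, 1] : List ℤ)],
   Ins.push 0 [([-1, -1, -1, -3, 1, -1, 1, -1, -1, 1, -1, 1, -1, 1, -1, -1, 1, -1, -1, -1, -1, -1, -1, 1] : List ℤ)],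
   Ins.push 1 [([-1, -1, -1, 1, -1, -1, -1, -3, -1, -1, 1, -1, 1, 1, -1, -1, 1, -1, -1, -1, -1, -1, 1, 1] : List ℤ)],
   Ins.push 1 [([-1, 1, -1, -1, -1, 1, -1, 1, -1, -1, -1, -1, -1, -1, 1, -1, 1, -1, -1, -1, -1, -3, 1, 1] : List ℤ)],
   Ins.push 1 [([-1, -1, -1, -1, -1, 1, 1, -1, -1, -1, -1, 1, -1, -1, -1, -1, 1, -1, -1, -3, 1, 1, -1, 1] : List ℤ)],
   Ins.push 0 [([-1, 1, -1, -1, -1, -1, -1, -1, -1, -1, 1, -1, -1, 1, -1, -1, -1, -1, -1, 1, 1, 1, -3, 1] : List ℤ)],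
   Ins.mark,
   Ins.pop,
   Ins.pop,
   Ins.pop,
   Ins.pop,
   Ins.pop,
   Ins.pop,
   Ins.pop,
   Ins.pop,
   Ins.pop,
   Ins.pop,
   Ins.push 3 [([-1, -3, 1, 1, 1, 1, 1, -1, -1, 1, -1, 1, -1, -1, -1, -1, -1, 1, -1, 1, -1, 1, -1, 1] : List ℤ)],
   Ins.push 0 [([-1, 1, 1, 1, -1, -1, 1, -1, -1, -1, -1, 1, 1, -1, -1, -1, -1, -1, -3, 1, 1, 1, 1, 1] : List ℤ)],
   Ins.push 0 [([-1, 1, -1, 1, -3, -1, 1, -1, 1, -1, 1, -1, -1, -1, 1, -1, -1, -1, 1, 1, 1, -1, 1, 1] : List ℤ)],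
   Ins.push 0 [([-1, 1, -3, 1, 1, -1, -1, 1, -1, -1, 1, -1, -1, -1, 1, -1, 1, 1, 1, -1, -1, -1, 1, 1] : List ℤ)],
   Ins.push 1 [([-1, 1, -1, 1, 1, 1, -1, 1, -3, 1, -1, 1, -1, -1, -1, -1, 1, -1, -1, -1, 1, 1, -1, 1] : List ℤ)],
   Ins.push 1 [([-1, -1, 1, 1, -1, -1, 1, 1, -1, -1, -1, 1, 1, 1, -1, -1, 1, -3, -1, 1, -1, 1, -1, 1] : List ℤ)],
   Ins.push 1 [([-1, -1, -1, -1, -1, -1, -1, 1, 1, -3, 1, -1, -1, 1, 1, 1, 1, -1, -1, 1, -1, 1, 1, 1] : List ℤ)],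
   Ins.push 1 [([-1, 1, -1, -1, -1, 1, -1, -1, -1, -1, -1, -1, -3, -1, -1, 1, 1, 1, 1, 1, 1, 1, 1, 1] : List ℤ)],
   Ins.mark,
   Ins.pop,
   Ins.pop,
   Ins.pop,
   Ins.push 0 [([-1, -1, 1, 1, -1, 1, -1, -1, -1, -1, 1, -1, 1, 1, -1, -1, -3, -1, 1, 1, 1, 1, -1, 1] : List ℤ)],
   Ins.push 0 [([-1, -1, -1, 1, 1, -1, 1, 1, 1, 1, 1, -1, -1, -3, -1, -1, -1, -1, -1, -1, 1, 1, 1, 1] : List ℤ)],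
   Ins.push 1 [([-1, 1, 1, 1, -1, 1, -1, 1, -1, -1, 1, -1, 1, -1, -1, -1, -1, 1, -1, 1, -1, 1, -3, 1] : List ℤ)],
   Ins.push 1 [([-1, 1, -1, -1, -1, -3, 1, 1, 1, 1, -1, 1, -1, -1, 1, 1, -1, -1, -1, 1, -1, 1, -1, 1] : List ℤ)],
   Ins.push 0 [([-1, 1, -1, -1, -1, 1, -1, -1, -1, -1, -1, -1, 1, -1, -1, 1, 1, 1, 1, 1, 1, -3, 1, 1] : List ℤ)],
   Ins.mark,
   Ins.pop,
   Ins.pop,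
   Ins.pop,
   Ins.pop,
   Ins.pop,
   Ins.pop,
   Ins.push 0 [([-1, -1, 1, 1, 1, 1, -3, 1, -1, -1, -1, 1, -1, 1, 1, -1, -1, 1, 1, -1, -1, -1, -1, 1] : List ℤ)],
   Ins.push 1 [([-1, -1, -1, 1, 1, -1, 1, 1, 1, 1, -3, -1, -1, 1, -1, -1, -1, -1, -1, -1, 1, 1, 1, 1] : List ℤ)],
   Ins.push 1 [([-1, -3, 1, 1, -1, 1, -1, 1, -1, -1, 1, -1, 1, -1, -1, -1, -1, 1, -1, 1, -1, 1, 1, 1] : List ℤ)],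
   Ins.push 1 [([-1, 1, -1, -1, -1, 1, 1, 1, 1, 1, -1, -3, -1, -1, 1, 1, -1, -1, -1, 1, -1, 1, -1, 1] : List ℤ)],
   Ins.push 0 [([-1, 1, -1, -1, -1, 1, -1, -1, -1, -1, -1, -1, 1, -1, -1, 1, 1, 1, 1, -3, 1, 1, 1, 1] : List ℤ)],
   Ins.mark,
   Ins.pop,
   Ins.pop,
   Ins.pop,
   Ins.push 0 [([-1, 1, 1, 1, -1, 1, -1, -3, -1, 1, 1, -1, 1, -1, 1, -1, 1, -1, -1, -1, 1, -1, -1, 1] : List ℤ)],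
   Ins.push 0 [([-1, -1, -1, 1, -1, -3, 1, 1, 1, -1, 1, -1, 1, 1, -1, -1, -1, 1, 1, -1, -1, 1, -1, 1] : List ℤ)],
   Ins.push 0 [([-1, 1, -1, 1, 1, 1, -1, 1, 1, 1, -1, 1, -1, -1, -1, -1, 1, -1, -1, -1, 1, -3, -1, 1] : List ℤ)],
   Ins.push 1 [([-1, -1, 1, 1, -1, -1, 1, 1, -1, -1, -1, 1, 1, 1, -1, -1, 1, 1, -1, -3, -1, 1, -1, 1] : List ℤ)],
   Ins.push 1 [([-1, -1, -1, -1, -1, -1, -1, 1, 1, 1, 1, -1, -1, 1, 1, -3, 1, -1, -1, 1, -1, 1, 1, 1] : List ℤ)],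
   Ins.push 1 [([-1, 1, -1, -1, -1, 1, -1, -1, -1, -1, -1, -1, 1, -1, -1, 1, 1, 1, -3, 1, 1, 1, 1, 1] : List ℤ)],
   Ins.mark,
   Ins.pop,
   Ins.pop,
   Ins.pop,
   Ins.pop,
   Ins.pop,
   Ins.pop,
   Ins.pop,
   Ins.pop,
   Ins.pop,
   Ins.pop,
   Ins.push 1 [([-1, -1, 1, -1, -3, 1, -1, 1, 1, -1, 1, 1, -1, 1, 1, 1, -1, -1, -1, 1, -1, -1, -1, 1] : List ℤ)],
   Ins.push 1 [([-1, 1, -1, -3, -1, -1, 1, -1, 1, -1, -1, -1, -1, 1, -1, 1, -1, 1, 1, -1, 1, 1, 1, 1] : List ℤ)],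
   Ins.push 0 [([-1, 1, -1, -3, 1, -1, -1, -1, -1, 1, 1, 1, -1, -1, 1, 1, 1, -1, 1, -1, 1, -1, -1, 1] : List ℤ)],
   Ins.push 0 [([-1, -1, 1, -3, 1, -1, -1, 1, -1, -1, 1, -1, 1, 1, -1, 1, -1, 1, 1, 1, -1, -1, -1, 1] : List ℤ)],
   Ins.push 0 [([-1, -1, 1, -3, 1, 1, 1, 1, 1, 1, -1, 1, -1, -1, -1, 1, -1, -1, -1, -1, -1, -1, 1, 1] : List ℤ)],
   Ins.push 1 [([-1, -1, -1, 1, -1, 1, 1, -3, 1, -1, 1, -1, 1, 1, -1, -1, -1, 1, 1, -1, -1, 1, -1, 1] : List ℤ)],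
   Ins.push 0 [([-1, 1, -1, 1, 1, -3, -1, 1, 1, 1, -1, 1, -1, -1, -1, -1, 1, -1, -1, -1, 1, 1, -1, 1] : List ℤ)],
   Ins.push 1 [([-1, -1, 1, 1, -1, -1, -3, 1, -1, -1, -1, 1, 1, 1, -1, -1, 1, 1, -1, 1, -1, 1, -1, 1] : List ℤ)],
   Ins.push 1 [([-1, -1, -1, -1, -1, -1, -1, 1, 1, 1, -3, -1, -1, 1, 1, 1, 1, -1, -1, 1, -1, 1, 1, 1] : List ℤ)],
   Ins.push 1 [([-1, -3, -1, -1, -1, 1, -1, -1, -1, -1, -1, -1, 1, -1, -1, 1, 1, 1, 1, 1, 1, 1, 1, 1] : List ℤ)],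
   Ins.mark,
   Ins.pop,
   Ins.pop,
   Ins.pop,
   Ins.push 0 [([-1, -1, 1, 1, -1, 1, -1, -1, -1, -1, 1, -1, 1, 1, -1, -1, 1, -1, 1, 1, 1, -3, -1, 1] : List ℤ)],
   Ins.push 0 [([-1, -1, -1, 1, 1, -1, 1, 1, 1, 1, 1, -1, -1, 1, -1, -1, -1, -1, -1, -1, -3, 1, 1, 1] : List ℤ)],
   Ins.push 1 [([-1, 1, -3, 1, -1, 1, -1, 1, -1, -1, 1, -1, 1, -1, -1, -1, -1, 1, -1, 1, -1, 1, 1, 1] : List ℤ)],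
   Ins.push 1 [([-1, 1, -1, -1, -1, 1, 1, 1, -3, 1, -1, 1, -1, -1, 1, 1, -1, -1, -1, 1, -1, 1, -1, 1] : List ℤ)],
   Ins.push 0 [([-1, 1, -1, -1, -1, 1, -1, -1, -1, -1, -1, -1, 1, -1, -1, 1, -3, 1, 1, 1, 1, 1, 1, 1] : List ℤ)],
   Ins.mark,
   Ins.pop,
   Ins.pop,
   Ins.pop,
   Ins.pop,
   Ins.pop,
   Ins.pop,
   Ins.pop,
   Ins.pop,
   Ins.pop,
   Ins.pop,
   Ins.push 1 [([-1, -1, 1, -1, 1, 1, -1, -3, -1, 1, 1, 1, -1, -1, -1, -1, -1, 1, 1, 1, -1, -1, 1, 1] : List ℤ)],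
   Ins.push 1 [([-1, 1, -1, 1, 1, 1, 1, -1, 1, 1, -1, -1, 1, 1, -1, 1, -1, -1, -1, -1, -1, -3, -1, 1] : List ℤ)],
   Ins.push 0 [([-1, 1, 1, 1, -1, -1, -1, -1, 1, 1, -1, -1, 1, -1, -1, 1, 1, -1, 1, -1, -3, 1, -1, 1] : List ℤ)],
   Ins.push 0 [([-1, -1, -1, 1, 1, -1, 1, -1, 1, -1, -3, -1, 1, 1, -1, 1, 1, -1, 1, -1, 1, -1, -1, 1] : List ℤ)],
   Ins.push 1 [([-1, -3, 1, 1, 1, -1, -1, 1, -1, -1, 1, -1, -1, -1, 1, -1, 1, 1, 1, -1, -1, -1, 1, 1] : List ℤ)],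
   Ins.push 1 [([-1, 1, -1, 1, 1, 1, -1, 1, 1, 1, -1, -3, -1, -1, -1, -1, 1, -1, -1, -1, 1, 1, -1, 1] : List ℤ)],
   Ins.push 1 [([-1, -1, 1, 1, -1, -1, 1, 1, -1, -1, -1, 1, 1, -3, -1, -1, 1, 1, -1, 1, -1, 1, -1, 1] : List ℤ)],
   Ins.push 1 [([-1, -1, -1, -1, -1, -1, -1, 1, 1, 1, 1, -1, -1, 1, 1, 1, 1, -1, -1, 1, -1, 1, -3, 1] : List ℤ)],
   Ins.push 1 [([-1, 1, -1, -1, -1, -3, -1, -1, -1, -1, -1, -1, 1, -1, -1, 1, 1, 1, 1, 1, 1, 1, 1, 1] : List ℤ)],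
   Ins.mark,
   Ins.pop,
   Ins.pop,
   Ins.pop,
   Ins.pop,
   Ins.pop,
   Ins.pop,
   Ins.pop,
   Ins.pop,
   Ins.pop,
   Ins.pop,
   Ins.pop,
   Ins.pop,
   Ins.push 1 [([-1, -1, -1, 1, -1, -1, 1, 1, 1, 1, 1, -3, 1, 1, -1, 1, -1, -1, -1, 1, -1, -1, -1, 1] : List ℤ)],
   Ins.push 0 [([-1, 1, -1, 1, -1, 1, -1, 1, 1, 1, -1, -1, 1, -1, -1, 1, 1, -1, -1, -3, -1, -1, 1, 1] : List ℤ)],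
   Ins.push 1 [([-1, -1, -1, -1, -1, 1, 1, 1, -1, -1, -1, 1, 1, -1, 1, -3, 1, 1, 1, -1, -1, 1, -1, 1] : List ℤ)],
   Ins.push 1 [([-1, -1, -1, -1, 1, -1, 1, -1, -1, 1, 1, -1, -1, 1, 1, -1, 1, -1, -3, 1, 1, 1, -1, 1] : List ℤ)],
   Ins.push 0 [([-1, 1, 1, -1, -3, -1, -1, 1, -1, 1, 1, -1, 1, 1, -1, -1, -1, 1, -1, -1, 1, -1, 1, 1] : List ℤ)],
   Ins.push 1 [([-1, 1, 1, -3, -1, 1, -1, -1, 1, 1, -1, 1, 1, -1, 1, -1, -1, -1, -1, -1, -1, 1, 1, 1] : List ℤ)],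
   Ins.push 0 [([-1, -1, -1, -3, -1, -1, 1, -1, 1, -1, -1, -1, 1, -1, 1, -1, 1, 1, 1, 1, 1, 1, -1, 1] : List ℤ)],
   Ins.push 1 [([-1, -1, 1, -1, 1, -1, -1, -3, -1, 1, 1, -1, -1, -1, 1, 1, 1, 1, -1, 1, 1, -1, -1, 1] : List ℤ)],
   Ins.push 0 [([-1, -1, 1, -1, -1, -3, 1, 1, -1, -1, 1, 1, 1, 1, -1, 1, -1, 1, -1, -1, -1, -1, 1, 1] : List ℤ)],
   Ins.push 0 [([-1, 1, -1, -1, -1, 1, 1, 1, 1, 1, -1, 1, -1, -1, 1, 1, -1, -1, -1, 1, -1, -3, -1, 1] : List ℤ)],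
   Ins.push 0 [([-1, 1, -1, -1, -1, 1, -1, -1, -1, -1, -1, -1, 1, -1, -1, 1, 1, 1, 1, 1, -3, 1, 1, 1] : List ℤ)],
   Ins.mark,
   Ins.pop,
   Ins.pop,
   Ins.pop,
   Ins.pop,
   Ins.pop,
   Ins.pop,
   Ins.pop,
   Ins.pop,
   Ins.pop,
   Ins.push 0 [([-1, -1, -1, 1, -1, 1, -1, -1, 1, -1, -1, -1, 1, 1, 1, 1, 1, -1, 1, -1, -1, 1, -3, 1] : List ℤ)],
   Ins.push 1 [([-1, -1, -1, -1, 1, -3, 1, 1, -1, -1, -1, -1, -1, -1, 1, -1, 1, 1, 1, 1, 1, -1, 1, 1] : List ℤ)],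
   Ins.push 0 [([-1, 1, 1, -1, 1, 1, -1, -1, -1, -1, 1, 1, -1, 1, 1, -1, -1, 1, -1, -1, -1, -3, 1, 1] : List ℤ)],
   Ins.push 1 [([-1, 1, -1, 1, -1, 1, 1, -1, 1, 1, -1, 1, -1, 1, -1, -1, -1, -1, -1, -3, 1, -1, 1, 1] : List ℤ)],
   Ins.push 1 [([-1, -1, 1, -1, -1, 1, 1, 1, -1, -1, 1, 1, 1, 1, -1, -3, -1, 1, -1, -1, -1, -1, 1, 1] : List ℤ)],
   Ins.push 0 [([-1, 1, -1, -1, -1, 1, 1, 1, 1, 1, -1, 1, -1, -1, 1, -3, -1, -1, -1, 1, -1, 1, -1, 1] : List ℤ)],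
   Ins.push 0 [([-1, 1, -1, -1, -1, 1, -1, -1, -1, -1, -1, -1, 1, -1, -1, -3, 1, 1, 1, 1, 1, 1, 1, 1] : List ℤ)],
   Ins.mark,
   Ins.pop,
   Ins.pop,
   Ins.pop,
   Ins.pop,
   Ins.pop,
   Ins.pop,
   Ins.push 0 [([-1, -1, -1, 1, 1, -1, -1, -1, 1, 1, -1, -1, -1, 1, -3, 1, 1, 1, -1, -1, 1, 1, -1, 1] : List ℤ)],
   Ins.push 1 [([-1, -1, 1, 1, -1, -1, -1, 1, -1, 1, -1, -1, 1, -1, -1, -1, 1, 1, 1, 1, -3, -1, 1, 1] : List ℤ)],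
   Ins.push 1 [([-1, -1, -3, -1, 1, 1, -1, 1, 1, 1, -1, -1, 1, -1, 1, 1, 1, -1, -1, -1, -1, 1, -1, 1] : List ℤ)],
   Ins.push 1 [([-1, -1, -1, 1, -1, -1, 1, -1, -3, -1, -1, -1, 1, -1, 1, -1, 1, 1, 1, 1, 1, 1, -1, 1] : List ℤ)],
   Ins.push 1 [([-1, -1, 1, -1, 1, -1, -1, 1, -1, 1, 1, -1, -1, -1, 1, 1, 1, -3, -1, 1, 1, -1, -1, 1] : List ℤ)],
   Ins.push 0 [([-1, -1, 1, -1, -1, 1, 1, 1, -1, -1, 1, -3, 1, 1, -1, 1, -1, 1, -1, -1, -1, -1, 1, 1] : List ℤ)],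
   Ins.push 0 [([-1, 1, -1, -1, -1, 1, 1, 1, 1, 1, -1, 1, -1, -1, 1, 1, -1, -1, -1, -3, -1, 1, -1, 1] : List ℤ)],
   Ins.push 0 [([-1, 1, -1, -1, -1, 1, -1, -1, -1, -1, -1, -1, 1, -1, -1, 1, 1, 1, 1, 1, 1, 1, -3, 1] : List ℤ)],
   Ins.mark,
   Ins.pop,
   Ins.pop,
   Ins.pop,
   Ins.pop,
   Ins.pop,
   Ins.pop,
   Ins.pop,
   Ins.pop,
   Ins.pop,
   Ins.pop,
   Ins.push 1 [([-1, 1, -1, -1, -1, -1, -1, 1, -1, -1, 1, -1, 1, -3, 1, 1, -1, 1, 1, -1, -1, 1, 1, 1] : List ℤ)],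
   Ins.push 0 [([-1, -1, -1, -1, 1, 1, -1, 1, 1, -3, -1, 1, -1, -1, 1, 1, -1, 1, 1, -1, 1, -1, -1, 1] : List ℤ)],
   Ins.push 0 [([-1, -1, 1, -1, 1, 1, -1, -1, -1, -1, 1, 1, -3, -1, -1, 1, 1, 1, -1, 1, -1, 1, -1, 1] : List ℤ)],
   Ins.push 0 [([-1, -1, 1, -1, -1, -1, 1, 1, -3, -1, -1, 1, -1, 1, -1, 1, -1, -1, -1, 1, 1, 1, 1, 1] : List ℤ)],
   Ins.push 1 [([-1, -1, 1, -1, -1, 1, -1, -1, 1, -1, 1, -1, -1, 1, -1, 1, -1, -3, 1, 1, -1, 1, 1, 1] : List ℤ)],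
   Ins.push 0 [([-1, -1, -1, -1, 1, -1, 1, 1, -1, 1, -1, -3, -1, -1, 1, 1, 1, -1, -1, -1, 1, 1, 1, 1] : List ℤ)],
   Ins.push 1 [([-1, -1, 1, 1, -1, 1, -1, -1, -1, -1, 1, -1, 1, -3, -1, -1, 1, -1, 1, 1, 1, 1, -1, 1] : List ℤ)],
   Ins.push 0 [([-1, -1, -1, 1, 1, -1, 1, 1, 1, -3, 1, -1, -1, 1, -1, -1, -1, -1, -1, -1, 1, 1, 1, 1] : List ℤ)],
   Ins.push 1 [([-1, 1, 1, 1, -1, 1, -1, 1, -1, -1, 1, -1, -3, -1, -1, -1, -1, 1, -1, 1, -1, 1, 1, 1] : List ℤ)],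
   Ins.push 1 [([-1, 1, -1, -1, -1, 1, 1, 1, 1, 1, -1, 1, -1, -1, -3, 1, -1, -1, -1, 1, -1, 1, -1, 1] : List ℤ)],
   Ins.push 0 [([-1, 1, -1, -1, -1, 1, -1, -1, -1, -1, -1, -1, 1, -1, -1, 1, 1, -3, 1, 1, 1, 1, 1, 1] : List ℤ)],
   Ins.mark,
   Ins.pop,
   Ins.pop,
   Ins.pop,
   Ins.pop,
   Ins.pop,
   Ins.pop,
   Ins.pop,
   Ins.pop,
   Ins.pop,
   Ins.pop,
   Ins.pop,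
   Ins.pop,
   Ins.pop,
   Ins.push 6 [([-1, 3, 1, -1, -1, 1, -1, -1, -1, 1, 1, -1, -1, -1, 1, -1, -1, -1, -1, 1, -1, 1, -1, 1] : List ℤ)],
   Ins.push 1 [([-1, 1, -1, -1, -1, -1, 1, -1, 1, -1, -1, 3, 1, -1, -1, 1, -1, -1, -1, 1, 1, -1, -1, 1] : List ℤ)],
   Ins.push 0 [([-1, 1, -1, -1, -1, -1, -1, -1, 1, -1, 1, -1, -1, -1, -1, 1, 1, -1, 1, 3, -1, -1, 1, 1] : List ℤ)],
   Ins.push 1 [([-1, 1, -1, -1, 1, 1, -1, -1, -1, -1, -1, 1, -1, -1, -1, 3, 1, 1, 1, -1, -1, -1, -1, 1] : List ℤ)],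
   Ins.push 0 [([-1, -1, 1, -1, 1, -1, -1, -1, -1, -1, -1, 1, -1, 1, -1, 3, -1, -1, 1, 1, -1, 1, -1, 1] : List ℤ)],
   Ins.push 1 [([-1, -1, -1, 1, 1, -1, -1, -1, 1, -1, -1, -1, -1, 1, -1, 1, -1, -1, 3, 1, -1, -1, 1, 1] : List ℤ)],
   Ins.push 0 [([-1, -1, 1, 1, 3, -1, -1, -1, -1, 1, -1, -1, -1, -1, 1, 1, 1, -1, -1, -1, -1, -1, 1, 1] : List ℤ)],
   Ins.push 0 [([-1, -1, 3, 1, -1, -1, 1, -1, -1, -1, -1, -1, 1, 1, 1, 1, -1, 1, -1, -1, -1, -1, -1, 1] : List ℤ)],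
   Ins.push 1 [([-1, -1, -1, -1, -1, -1, -1, 1, 3, 1, 1, -1, -1, -1, 1, -1, -1, -1, 1, -1, 1, -1, 1, 1] : List ℤ)],
   Ins.push 0 [([-1, -1, -1, -1, 1, 1, -1, 1, -1, -1, 1, -1, 1, -1, 1, -1, 3, 1, -1, -1, -1, -1, -1, 1] : List ℤ)],
   Ins.push 0 [([-1, -1, 1, -1, -1, 1, -1, 1, 1, -1, -1, 1, -1, 3, -1, -1, -1, 1, -1, -1, -1, 1, -1, 1] : List ℤ)],
   Ins.push 0 [([-1, -1, -1, -1, -1, 1, 1, -1, -1, 3, -1, 1, -1, -1, -1, -1, 1, -1, -1, 1, 1, 1, -1, 1] : List ℤ)],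
   Ins.push 0 [([-1, 1, -1, -1, -1, -1, -1, -1, -1, -1, 1, -1, 3, 1, -1, -1, -1, -1, -1, 1, 1, 1, 1, 1] : List ℤ)],
   Ins.mark,
   Ins.pop,
   Ins.pop,
   Ins.pop,
   Ins.pop,
   Ins.pop,
   Ins.pop,
   Ins.pop,
   Ins.push 1 [([-1, -1, -1, 1, 3, 1, -1, 1, -1, -1, -1, -1, -1, -1, -1, 1, -1, 1, 1, -1, -1, -1, 1, 1] : List ℤ)],
   Ins.push 0 [([-1, -1, 3, 1, 1, 1, -1, -1, -1, -1, -1, 1, -1, -1, 1, 1, -1, -1, -1, -1, -1, 1, -1, 1] : List ℤ)],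
   Ins.push 1 [([-1, -1, -1, 1, -1, -1, 1, 1, 3, -1, -1, -1, -1, 1, -1, -1, -1, -1, 1, 1, 1, -1, -1, 1] : List ℤ)],
   Ins.push 0 [([-1, 1, -1, 1, 1, 1, -1, -1, -1, 1, 1, -1, -1, -1, -1, -1, 3, -1, -1, -1, -1, -1, 1, 1] : List ℤ)],
   Ins.push 1 [([-1, 1, -1, 1, -1, 1, 1, 1, -1, -1, -1, 1, 1, -1, -1, -1, 3, -1, -1, -1, -1, -1, -1, 1] : List ℤ)],
   Ins.push 1 [([-1, -1, -1, -1, -1, -1, 1, 1, -1, -1, 1, 1, -1, 1, 1, -1, 3, -1, -1, -1, -1, 1, -1, 1] : List ℤ)],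
   Ins.push 1 [([-1, 1, -1, -1, -1, -1, -1, -1, -1, -1, 1, -1, -1, 1, -1, -1, 3, -1, -1, 1, 1, 1, 1, 1] : List ℤ)],
   Ins.mark,
   Ins.pop,
   Ins.pop,
   Ins.pop,
   Ins.pop,
   Ins.pop,
   Ins.pop,
   Ins.pop,
   Ins.pop,
   Ins.pop,
   Ins.push 1 [([-1, -1, -1, 1, 1, -1, 1, -1, -1, 1, -1, 1, -1, 1, -1, -1, 1, -1, 3, -1, -1, -1, -1, 1] : List ℤ)],
   Ins.push 1 [([-1, -1, -1, 1, 3, -1, -1, 1, -1, -1, 1, -1, 1, 1, -1, -1, 1, -1, -1, -1, -1, -1, 1, 1] : List ℤ)],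
   Ins.push 1 [([-1, 1, -1, 3, -1, 1, -1, 1, -1, -1, -1, -1, -1, -1, 1, -1, 1, -1, -1, -1, -1, 1, 1, 1] : List ℤ)],
   Ins.push 1 [([-1, -1, -1, -1, -1, 1, 1, 3, -1, -1, -1, 1, -1, -1, -1, -1, 1, -1, -1, 1, 1, 1, -1, 1] : List ℤ)],
   Ins.push 0 [([-1, 1, -1, -1, -1, 3, -1, -1, -1, -1, 1, -1, -1, 1, -1, -1, -1, -1, -1, 1, 1, 1, 1, 1] : List ℤ)],
   Ins.mark,
   Ins.pop,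
   Ins.pop,
   Ins.pop,
   Ins.pop,
   Ins.push 0 [([-1, 1, 1, 1, 3, -1, -1, -1, -1, 1, -1, -1, 1, 1, -1, -1, -1, -1, -1, 1, -1, -1, -1, 1] : List ℤ)],
   Ins.push 0 [([-1, -1, 3, 1, -1, -1, 1, -1, 1, 1, -1, -1, 1, -1, -1, -1, -1, -1, 1, -1, -1, -1, 1, 1] : List ℤ)],
   Ins.push 1 [([-1, -1, -1, -1, 1, 1, -1, 1, 3, -1, 1, -1, 1, -1, 1, -1, -1, 1, -1, -1, -1, -1, -1, 1] : List ℤ)],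
   Ins.push 0 [([-1, -1, 1, -1, -1, 1, -1, 1, 1, -1, -1, 1, -1, -1, -1, -1, 3, 1, -1, -1, -1, 1, -1, 1] : List ℤ)],
   Ins.push 0 [([-1, -1, -1, -1, -1, 1, 1, -1, -1, -1, -1, 1, -1, 3, -1, -1, 1, -1, -1, 1, 1, 1, -1, 1] : List ℤ)],
   Ins.push 0 [([-1, 1, -1, -1, -1, -1, -1, -1, -1, 3, 1, -1, -1, 1, -1, -1, -1, -1, -1, 1, 1, 1, 1, 1] : List ℤ)],
   Ins.mark,
   Ins.pop,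
   Ins.pop,
   Ins.pop,
   Ins.pop,
   Ins.pop,
   Ins.pop,
   Ins.pop,
   Ins.pop,
   Ins.push 0 [([-1, -1, -1, -1, 1, -1, -1, 1, -1, -1, -1, -1, -1, 1, 1, 1, 1, -1, 1, -1, -1, -1, 3, 1] : List ℤ)],
   Ins.push 1 [([-1, -1, -1, 1, 1, 3, -1, -1, -1, -1, -1, -1, -1, -1, -1, -1, 1, -1, 1, -1, 1, 1, 1, 1] : List ℤ)],
   Ins.push 0 [([-1, -1, 1, 1, 1, -1, -1, -1, -1, -1, 1, -1, -1, 1, 1, -1, -1, -1, -1, -1, 1, 3, -1, 1] : List ℤ)],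
   Ins.push 1 [([-1, 1, 1, 1, -1, -1, -1, 1, 1, -1, -1, -1, -1, -1, -1, -1, -1, -1, -1, 3, 1, -1, 1, 1] : List ℤ)],
   Ins.push 1 [([-1, -1, 1, -1, -1, 1, -1, 1, 1, -1, -1, 1, -1, -1, -1, 3, -1, 1, -1, -1, -1, 1, -1, 1] : List ℤ)],
   Ins.push 0 [([-1, -1, -1, -1, -1, 1, 1, -1, -1, -1, -1, 1, -1, -1, -1, 3, 1, -1, -1, 1, 1, 1, -1, 1] : List ℤ)],
   Ins.push 0 [([-1, 1, -1, -1, -1, -1, -1, -1, -1, -1, 1, -1, -1, 1, -1, 3, -1, -1, -1, 1, 1, 1, 1, 1] : List ℤ)],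
   Ins.mark,
   Ins.pop,
   Ins.pop,
   Ins.pop,
   Ins.pop,
   Ins.push 0 [([-1, -1, 1, 1, -1, -1, 1, 1, -1, 1, 1, -1, -1, -1, -1, -1, -1, 1, -1, -1, 3, -1, -1, 1] : List ℤ)],
   Ins.push 0 [([-1, 1, -1, 1, -1, 1, 1, 1, -1, -1, 3, 1, 1, -1, -1, -1, -1, -1, -1, -1, -1, -1, -1, 1] : List ℤ)],
   Ins.push 1 [([-1, 3, -1, -1, -1, -1, 1, 1, -1, -1, 1, 1, -1, 1, 1, -1, -1, -1, -1, -1, -1, 1, -1, 1] : List ℤ)],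
   Ins.push 1 [([-1, 1, -1, -1, -1, -1, -1, -1, -1, -1, 1, 3, -1, 1, -1, -1, -1, -1, -1, 1, 1, 1, 1, 1] : List ℤ)],
   Ins.mark,
   Ins.pop,
   Ins.pop,
   Ins.pop,
   Ins.pop,
   Ins.pop,
   Ins.pop,
   Ins.push 0 [([-1, -1, 1, -1, 1, 1, -1, -1, -1, 1, -1, -1, -1, 1, 3, 1, -1, 1, -1, -1, -1, -1, -1, 1] : List ℤ)],
   Ins.push 1 [([-1, -1, -1, 1, -1, -1, 1, -1, 1, 1, -1, -1, 1, -1, -1, -1, -1, -1, 1, -1, 3, -1, 1, 1] : List ℤ)],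
   Ins.push 1 [([-1, -1, 3, -1, 1, 1, -1, 1, -1, -1, 1, -1, 1, -1, 1, -1, -1, 1, -1, -1, -1, -1, -1, 1] : List ℤ)],
   Ins.push 0 [([-1, -1, 1, -1, -1, 1, 3, 1, 1, -1, -1, 1, -1, -1, -1, -1, -1, 1, -1, -1, -1, 1, -1, 1] : List ℤ)],
   Ins.push 0 [([-1, 3, -1, -1, -1, 1, 1, -1, -1, -1, -1, 1, -1, -1, -1, -1, 1, -1, -1, 1, 1, 1, -1, 1] : List ℤ)],
   Ins.push 0 [([-1, 1, -1, -1, -1, -1, -1, -1, -1, -1, 1, -1, -1, 1, -1, -1, -1, -1, 3, 1, 1, 1, 1, 1] : List ℤ)],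
   Ins.mark,
   Ins.pop,
   Ins.pop,
   Ins.pop,
   Ins.pop,
   Ins.pop,
   Ins.pop,
   Ins.pop,
   Ins.pop,
   Ins.push 1 [([-1, -1, 1, -1, -1, -1, -1, -1, -1, -1, 1, 1, -1, 3, 1, 1, -1, 1, 1, -1, -1, -1, -1, 1] : List ℤ)],
   Ins.push 0 [([-1, -1, -1, -1, 1, -1, 1, 1, -1, 3, -1, 1, -1, -1, -1, 1, -1, 1, -1, 1, -1, -1, -1, 1] : List ℤ)],
   Ins.push 1 [([-1, -1, -1, 1, -1, -1, -1, -1, -1, 1, 1, -1, 3, 1, -1, 1, -1, -1, 1, -1, -1, 1, -1, 1] : List ℤ)],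
   Ins.push 0 [([-1, -1, -1, 1, 1, -1, -1, 1, 3, 1, -1, -1, 1, -1, -1, 1, -1, -1, -1, -1, 1, -1, -1, 1] : List ℤ)],
   Ins.push 1 [([-1, -1, 1, 1, -1, -1, -1, 1, -1, -1, -1, -1, 1, -1, 1, -1, -1, 3, 1, -1, -1, 1, -1, 1] : List ℤ)],
   Ins.push 1 [([-1, -1, -1, -1, 1, -1, -1, 1, 1, 3, -1, -1, -1, -1, 1, -1, -1, -1, -1, 1, 1, 1, -1, 1] : List ℤ)],
   Ins.push 0 [([-1, -1, 1, -1, -1, 1, -1, -1, -1, -1, 1, -1, 3, -1, -1, -1, 1, 1, -1, -1, 1, -1, 1, 1] : List ℤ)],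
   Ins.push 0 [([-1, -1, -1, -1, -1, -1, 1, 1, 3, -1, 1, 1, -1, 1, 1, -1, -1, -1, -1, -1, -1, 1, -1, 1] : List ℤ)],
   Ins.push 1 [([-1, 1, -1, -1, -1, -1, -1, -1, -1, -1, 1, -1, -1, 1, -1, -1, -1, 3, -1, 1, 1, 1, 1, 1] : List ℤ)],
   Ins.mark,
   Ins.pop,
   Ins.pop,
   Ins.pop,
   Ins.pop,
   Ins.push 0 [([-1, -1, -1, 1, 1, 1, 1, -1, 1, -1, -1, 3, -1, -1, -1, -1, -1, 1, -1, -1, 1, -1, -1, 1] : List ℤ)],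
   Ins.push 1 [([-1, -1, 1, 1, -1, -1, 1, 1, -1, 1, 1, -1, -1, 3, -1, -1, -1, 1, -1, -1, -1, -1, -1, 1] : List ℤ)],
   Ins.push 0 [([-1, 1, -1, 1, -1, 1, 1, 1, -1, 3, -1, 1, 1, -1, -1, -1, -1, -1, -1, -1, -1, -1, -1, 1] : List ℤ)],
   Ins.push 1 [([-1, -1, -1, -1, -1, -1, 1, 1, -1, -1, 1, 1, 3, 1, 1, -1, -1, -1, -1, -1, -1, 1, -1, 1] : List ℤ)],
   Ins.push 1 [([-1, 1, -1, -1, -1, -1, -1, -1, -1, -1, 1, -1, -1, 1, 3, -1, -1, -1, -1, 1, 1, 1, 1, 1] : List ℤ)],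
   Ins.mark,
   Ins.pop,
   Ins.pop,
   Ins.pop,
   Ins.pop,
   Ins.pop,
   Ins.pop,
   Ins.pop,
   Ins.pop,
   Ins.pop,
   Ins.pop,
   Ins.pop,
   Ins.push 0 [([-1, -1, -1, -1, -1, -1, 1, 1, -1, -1, -1, -1, 1, -1, -1, -1, -1, 1, 3, -1, 1, 1, 1, 1] : List ℤ)],
   Ins.push 0 [([-1, 1, -1, -1, 3, 1, -1, -1, 1, -1, 1, 1, -1, -1, 1, -1, -1, -1, -1, -1, 1, -1, -1, 1] : List ℤ)],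
   Ins.push 1 [([-1, 1, 1, 3, -1, -1, 1, -1, -1, -1, -1, 1, -1, 1, -1, -1, -1, 1, -1, -1, 1, -1, -1, 1] : List ℤ)],
   Ins.push 0 [([-1, 1, -1, 3, -1, -1, 1, -1, -1, 1, 1, 1, -1, -1, -1, -1, -1, -1, 1, 1, -1, -1, -1, 1] : List ℤ)],
   Ins.push 1 [([-1, 1, -1, -1, 1, -1, -1, 3, -1, -1, 1, 1, 1, 1, -1, 1, -1, -1, -1, -1, -1, -1, -1, 1] : List ℤ)],
   Ins.push 1 [([-1, 1, -1, 1, -1, -1, -1, -1, -1, -1, -1, 1, -1, 1, 1, -1, -1, -1, 1, -1, -1, 3, 1, 1] : List ℤ)],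
   Ins.push 1 [([-1, -1, -1, -1, 1, 1, -1, 1, -1, -1, -1, 1, -1, 1, -1, -1, -1, -1, -1, 3, 1, -1, 1, 1] : List ℤ)],
   Ins.push 1 [([-1, -1, 1, 1, -1, 1, 1, -1, -1, -1, -1, -1, -1, 1, -1, 3, -1, -1, -1, -1, -1, 1, 1, 1] : List ℤ)],
   Ins.push 1 [([-1, -1, -1, -1, -1, 1, 1, 1, 1, -1, 1, -1, -1, -1, -1, -1, -1, -1, 3, 1, -1, -1, 1, 1] : List ℤ)],
   Ins.push 0 [([-1, 1, -1, -1, 3, 1, -1, 1, -1, -1, -1, -1, -1, -1, 1, -1, 1, -1, -1, -1, -1, 1, 1, 1] : List ℤ)],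
   Ins.push 1 [([-1, -1, -1, 3, -1, 1, 1, -1, -1, -1, -1, 1, -1, -1, -1, -1, 1, -1, -1, 1, 1, 1, -1, 1] : List ℤ)],
   Ins.push 0 [([-1, 1, -1, 3, -1, -1, -1, -1, -1, -1, 1, -1, -1, 1, -1, -1, -1, -1, -1, 1, 1, 1, 1, 1] : List ℤ)],
   Ins.mark,
   Ins.pop,
   Ins.pop,
   Ins.pop,
   Ins.pop,
   Ins.pop,
   Ins.pop,
   Ins.pop,
   Ins.pop,
   Ins.push 0 [([-1, 1, -1, 3, 1, -1, -1, 1, -1, -1, -1, -1, 1, -1, -1, -1, -1, -1, 1, 1, -1, -1, 1, 1] : List ℤ)],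
   Ins.push 0 [([-1, -1, 1, 3, 1, 1, -1, -1, 1, -1, -1, -1, -1, -1, 1, -1, -1, -1, 1, -1, -1, -1, 1, 1] : List ℤ)],
   Ins.push 1 [([-1, -1, -1, 1, 1, 1, 1, 3, 1, -1, -1, -1, -1, -1, -1, -1, -1, 1, -1, -1, 1, -1, -1, 1] : List ℤ)],
   Ins.push 1 [([-1, -1, 1, 1, -1, -1, 1, 1, -1, 1, 1, -1, -1, -1, -1, -1, -1, 1, -1, -1, -1, 3, -1, 1] : List ℤ)],
   Ins.push 0 [([-1, 1, -1, 1, -1, 1, 1, 1, -1, -1, -1, 1, 1, -1, -1, -1, -1, -1, -1, -1, 3, -1, -1, 1] : List ℤ)],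
   Ins.push 1 [([-1, -1, 3, -1, -1, -1, 1, 1, -1, -1, 1, 1, -1, 1, 1, -1, -1, -1, -1, -1, -1, 1, -1, 1] : List ℤ)],
   Ins.push 1 [([-1, 1, -1, -1, -1, -1, -1, -1, 3, -1, 1, -1, -1, 1, -1, -1, -1, -1, -1, 1, 1, 1, 1, 1] : List ℤ)],
   Ins.mark,
   Ins.pop,
   Ins.pop,
   Ins.pop,
   Ins.pop,
   Ins.pop,
   Ins.pop,
   Ins.pop,
   Ins.pop,
   Ins.pop,
   Ins.push 0 [([-1, -1, 3, -1, -1, -1, -1, 1, -1, -1, 1, -1, -1, -1, -1, -1, 1, 1, 1, 1, -1, 1, -1, 1] : List ℤ)],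
   Ins.push 1 [([-1, 1, -1, -1, 1, -1, -1, -1, 3, 1, -1, -1, -1, -1, -1, 1, 1, -1, -1, 1, -1, 1, -1, 1] : List ℤ)],
   Ins.push 0 [([-1, -1, 1, -1, -1, -1, -1, -1, -1, -1, -1, -1, 1, 1, -1, 1, 3, -1, 1, -1, 1, -1, 1, 1] : List ℤ)],
   Ins.push 1 [([-1, -1, 1, -1, 1, 1, -1, -1, 1, -1, -1, -1, -1, -1, 1, -1, 3, -1, 1, -1, -1, -1, 1, 1] : List ℤ)],
   Ins.push 0 [([-1, -1, 1, -1, 1, -1, 1, -1, -1, -1, -1, -1, -1, 3, 1, -1, 1, 1, -1, -1, -1, 1, -1, 1] : List ℤ)],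
   Ins.push 1 [([-1, -1, -1, 1, -1, -1, -1, -1, 1, 1, 1, -1, -1, -1, -1, -1, 1, -1, -1, 1, 1, -1, 3, 1] : List ℤ)],
   Ins.push 0 [([-1, -1, -1, 1, -1, -1, -1, 1, -1, -1, 1, -1, 1, 1, 3, -1, 1, -1, -1, -1, -1, -1, 1, 1] : List ℤ)],
   Ins.push 1 [([-1, 1, -1, -1, -1, 1, -1, 1, -1, -1, -1, -1, -1, -1, 1, -1, 1, -1, -1, -1, 3, 1, 1, 1] : List ℤ)],
   Ins.push 1 [([-1, -1, 3, -1, -1, 1, 1, -1, -1, -1, -1, 1, -1, -1, -1, -1, 1, -1, -1, 1, 1, 1, -1, 1] : List ℤ)],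
   Ins.push 0 [([-1, 1, -1, -1, -1, -1, 3, -1, -1, -1, 1, -1, -1, 1, -1, -1, -1, -1, -1, 1, 1, 1, 1, 1] : List ℤ)],
   Ins.mark,
   Ins.pop,
   Ins.pop,
   Ins.pop,
   Ins.pop,
   Ins.pop,
   Ins.pop,
   Ins.pop,
   Ins.pop,
   Ins.pop,
   Ins.push 0 [([-1, -1, -1, -1, 1, 1, 3, 1, -1, -1, -1, 1, -1, 1, -1, -1, -1, -1, -1, -1, 1, -1, 1, 1] : List ℤ)],
   Ins.push 1 [([-1, -1, 1, 1, -1, 1, 1, -1, -1, -1, 3, -1, -1, 1, -1, -1, -1, -1, -1, -1, -1, 1, 1, 1] : List ℤ)],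
   Ins.push 1 [([-1, 3, -1, -1, -1, 1, 1, 1, 1, -1, 1, -1, -1, -1, -1, -1, -1, -1, -1, 1, -1, -1, 1, 1] : List ℤ)],
   Ins.push 0 [([-1, 1, -1, -1, -1, 1, -1, 1, -1, -1, -1, -1, -1, -1, 1, -1, 1, -1, 3, -1, -1, 1, 1, 1] : List ℤ)],
   Ins.push 1 [([-1, -1, -1, -1, 3, 1, 1, -1, -1, -1, -1, 1, -1, -1, -1, -1, 1, -1, -1, 1, 1, 1, -1, 1] : List ℤ)],
   Ins.push 0 [([-1, 1, 3, -1, -1, -1, -1, -1, -1, -1, 1, -1, -1, 1, -1, -1, -1, -1, -1, 1, 1, 1, 1, 1] : List ℤ)],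
   Ins.mark,
   Ins.pop,
   Ins.pop,
   Ins.pop,
   Ins.pop,
   Ins.pop,
   Ins.pop,
   Ins.pop,
   Ins.pop,
   Ins.push 1 [([-1, -1, 1, -1, 3, 1, -1, -1, -1, 1, 1, -1, -1, -1, 1, -1, -1, -1, -1, 1, -1, 1, -1, 1] : List ℤ)],
   Ins.push 1 [([-1, 1, -1, 3, -1, -1, 1, -1, 1, -1, -1, -1, 1, -1, -1, 1, -1, -1, -1, 1, 1, -1, -1, 1] : List ℤ)],
   Ins.push 0 [([-1, 1, -1, 3, -1, -1, -1, -1, 1, -1, 1, -1, -1, -1, -1, 1, 1, -1, 1, -1, -1, -1, 1, 1] : List ℤ)],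
   Ins.push 1 [([-1, 1, -1, -1, 1, 1, -1, 3, -1, -1, -1, 1, -1, -1, -1, -1, 1, 1, 1, -1, -1, -1, -1, 1] : List ℤ)],
   Ins.push 1 [([-1, -1, -1, 1, 1, -1, 1, -1, -1, 1, -1, 1, -1, 1, -1, -1, 1, -1, -1, -1, -1, 3, -1, 1] : List ℤ)],
   Ins.push 1 [([-1, -1, -1, 1, -1, -1, -1, 1, -1, -1, 1, -1, 1, 1, -1, -1, 1, -1, -1, 3, -1, -1, 1, 1] : List ℤ)],
   Ins.push 1 [([-1, 1, -1, -1, -1, 1, -1, 1, -1, -1, -1, -1, -1, -1, 1, 3, 1, -1, -1, -1, -1, 1, 1, 1] : List ℤ)],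
   Ins.push 1 [([-1, -1, -1, -1, -1, 1, 1, -1, -1, -1, -1, 1, -1, -1, -1, -1, 1, -1, 3, 1, 1, 1, -1, 1] : List ℤ)],
   Ins.push 0 [([-1, 1, -1, -1, 3, -1, -1, -1, -1, -1, 1, -1, -1, 1, -1, -1, -1, -1, -1, 1, 1, 1, 1, 1] : List ℤ)],
   Ins.mark,
   Ins.pop,
   Ins.pop,
   Ins.pop,
   Ins.pop,
   Ins.pop,
   Ins.pop,
   Ins.push 0 [([-1, -1, -1, 3, 1, -1, -1, 1, -1, -1, -1, -1, -1, 1, 1, 1, 1, -1, 1, -1, -1, -1, -1, 1] : List ℤ)],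
   Ins.push 0 [([-1, -1, 1, 3, 1, 1, -1, -1, -1, 1, -1, -1, -1, 1, -1, 1, -1, 1, -1, -1, -1, -1, -1, 1] : List ℤ)],
   Ins.push 1 [([-1, -1, -1, 1, -1, -1, 1, 3, 1, 1, -1, -1, 1, -1, -1, -1, -1, -1, 1, -1, -1, -1, 1, 1] : List ℤ)],
   Ins.push 1 [([-1, -1, -1, -1, 1, 1, -1, 1, -1, -1, 1, -1, 1, -1, 1, -1, -1, 1, -1, -1, -1, 3, -1, 1] : List ℤ)],
   Ins.push 0 [([-1, -1, 1, -1, -1, 1, -1, 1, 1, -1, -1, 1, -1, -1, -1, -1, -1, 1, -1, -1, 3, 1, -1, 1] : List ℤ)],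
   Ins.push 0 [([-1, -1, -1, -1, -1, 1, 1, -1, -1, -1, 3, 1, -1, -1, -1, -1, 1, -1, -1, 1, 1, 1, -1, 1] : List ℤ)],
   Ins.push 0 [([-1, 1, -1, -1, -1, -1, -1, 3, -1, -1, 1, -1, -1, 1, -1, -1, -1, -1, -1, 1, 1, 1, 1, 1] : List ℤ)],
   Ins.mark,
   Ins.pop,
   Ins.pop,
   Ins.pop,
   Ins.pop,
   Ins.pop,
   Ins.pop,
   Ins.pop,
   Ins.pop,
   Ins.pop,
   Ins.pop,
   Ins.pop,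
   Ins.pop,
   Ins.push 1 [([-1, -1, -1, -1, -1, -1, -1, -1, -1, 1, -1, -3, -1, 1, 1, 1, -1, -1, -1, 1, 1, -1, -1, 1] : List ℤ)],
   Ins.push 1 [([-1, -1, 1, -1, -1, -1, -1, -1, -1, -1, -1, -1, 1, -3, -1, 1, -1, -1, 1, -1, 1, -1, 1, 1] : List ℤ)],
   Ins.push 1 [([-1, -1, 1, -1, 1, 1, -1, -1, 1, -1, -1, -1, -1, -1, 1, -1, -1, -1, 1, -1, -1, -1, -3, 1] : List ℤ)],
   Ins.push 1 [([-1, -1, -1, 1, 1, -3, 1, -1, 1, -1, -1, -1, -1, -1, -1, -1, -1, 1, -1, -1, 1, -1, -1, 1] : List ℤ)],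
   Ins.push 1 [([-1, -1, 1, 1, -1, -1, -3, 1, -1, 1, 1, -1, -1, -1, -1, -1, -1, 1, -1, -1, -1, -1, -1, 1] : List ℤ)],
   Ins.push 0 [([-1, -3, -1, 1, -1, 1, 1, 1, -1, -1, -1, 1, 1, -1, -1, -1, -1, -1, -1, -1, -1, -1, -1, 1] : List ℤ)],
   Ins.push 1 [([-1, -1, -1, -1, -1, -1, 1, 1, -1, -1, 1, -3, -1, 1, 1, -1, -1, -1, -1, -1, -1, 1, -1, 1] : List ℤ)],
   Ins.push 1 [([-1, 1, -1, -1, -1, -1, -1, -1, -1, -1, 1, -1, -1, -3, -1, -1, -1, -1, -1, 1, 1, 1, 1, 1] : List ℤ)],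
   Ins.mark,
   Ins.pop,
   Ins.pop,
   Ins.pop,
   Ins.pop,
   Ins.pop,
   Ins.push 0 [([-1, -1, 1, -1, 1, -1, 1, -1, -1, -1, -1, -1, -1, -1, -3, -1, 1, 1, -1, -1, -1, 1, -1, 1] : List ℤ)],
   Ins.push 1 [([-1, -1, -1, 1, -1, -1, -1, -1, 1, 1, 1, -1, -1, -1, -1, -1, 1, -1, -1, 1, -3, -1, -1, 1] : List ℤ)],
   Ins.push 0 [([-1, -1, -1, 1, -1, -1, -1, 1, -1, -1, -3, -1, 1, 1, -1, -1, 1, -1, -1, -1, -1, -1, 1, 1] : List ℤ)],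
   Ins.push 1 [([-1, -3, -1, -1, -1, 1, -1, 1, -1, -1, -1, -1, -1, -1, 1, -1, 1, -1, -1, -1, -1, 1, 1, 1] : List ℤ)],
   Ins.push 1 [([-1, -1, -1, -1, -1, 1, 1, -1, -1, -1, -1, -3, -1, -1, -1, -1, 1, -1, -1, 1, 1, 1, -1, 1] : List ℤ)],
   Ins.push 0 [([-1, 1, -1, -1, -1, -1, -1, -1, -1, -1, 1, -1, -1, 1, -1, -1, -1, -1, -1, -3, 1, 1, 1, 1] : List ℤ)],
   Ins.mark,
   Ins.pop,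
   Ins.pop,
   Ins.pop,
   Ins.pop,
   Ins.pop,
   Ins.pop,
   Ins.pop,
   Ins.pop,
   Ins.push 0 [([-1, -1, -1, -1, -1, -1, -1, -1, -1, 1, 1, -1, 1, -1, -1, 1, -1, 1, -1, -3, -1, -1, 1, 1] : List ℤ)],
   Ins.push 1 [([-1, 1, -1, -1, -1, 1, -1, -1, -1, 1, -1, -1, 1, -1, 1, -3, -1, -1, 1, -1, -1, -1, -1, 1] : List ℤ)],
   Ins.push 1 [([-1, -1, -1, -1, 1, -1, 1, -1, -1, -1, -1, 1, 1, -1, 1, -1, -1, -1, -3, -1, 1, -1, -1, 1] : List ℤ)],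
   Ins.push 1 [([-1, -1, 1, 1, -3, -1, -1, -1, -1, -1, 1, -1, -1, 1, 1, -1, -1, -1, -1, -1, 1, -1, -1, 1] : List ℤ)],
   Ins.push 0 [([-1, -1, -3, 1, -1, -1, 1, 1, -1, 1, 1, -1, -1, -1, -1, -1, -1, 1, -1, -1, -1, -1, -1, 1] : List ℤ)],
   Ins.push 0 [([-1, 1, -1, 1, -1, 1, -3, 1, -1, -1, -1, 1, 1, -1, -1, -1, -1, -1, -1, -1, -1, -1, -1, 1] : List ℤ)],
   Ins.push 1 [([-1, -1, -1, -1, -1, -1, 1, 1, -1, -1, -3, 1, -1, 1, 1, -1, -1, -1, -1, -1, -1, 1, -1, 1] : List ℤ)],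
   Ins.push 1 [([-1, -3, -1, -1, -1, -1, -1, -1, -1, -1, 1, -1, -1, 1, -1, -1, -1, -1, -1, 1, 1, 1, 1, 1] : List ℤ)],
   Ins.mark,
   Ins.pop,
   Ins.pop,
   Ins.pop,
   Ins.pop,
   Ins.push 1 [([-1, 1, 1, -3, -1, -1, -1, 1, 1, -1, -1, -1, -1, -1, -1, -1, -1, -1, -1, -1, 1, -1, 1, 1] : List ℤ)],
   Ins.push 1 [([-1, -1, 1, -1, -1, 1, -1, -3, 1, -1, -1, 1, -1, -1, -1, -1, -1, 1, -1, -1, -1, 1, -1, 1] : List ℤ)],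
   Ins.push 0 [([-1, -1, -1, -1, -1, -3, 1, -1, -1, -1, -1, 1, -1, -1, -1, -1, 1, -1, -1, 1, 1, 1, -1, 1] : List ℤ)],
   Ins.push 0 [([-1, 1, -1, -1, -1, -1, -1, -1, -1, -1, 1, -1, -1, 1, -1, -1, -1, -1, -1, 1, 1, -3, 1, 1] : List ℤ)],
   Ins.mark]

set_option maxRecDepth 100000 in
set_option maxHeartbeats 0 in
theorem crTb_chk : mainChk crTbB crTbconds crTbx0 crTbgens crTbgmids m22mt m22reps m22vis crTbfib crTbprog 22528 = true := by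
  decide +kernel

/-- The stabiliser of the base vectors is transitive on the set, which has `22528` elements. -/
theorem crTb_main : (∀ x ∈ XSet crTbconds, ∃ g : Co0, FixB crTbB g ∧ ∃ h0 : vecOf crTbx0 ∈ leechLattice,
      g • (⟨vecOf crTbx0, h0⟩ : leechLattice) = x) ∧ (XSet crTbconds).ncard = 22528 :=
  orbit_main crTbB crTbconds crTbx0 crTbgens crTbgmids m22mt m22reps m22progs m22vis crTbfib crTbprog 22528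
    m22_hreps m22_hrun m22_hbm crTb_chk

end Cfsg.Agent.Lib.Helper92
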