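import Cfsg.Agent.Lib.Helper92.LeechMaskM22
import Cfsg.Agent.Lib.Helper92.LeechOrbPart

set_option autoImplicit false

namespace Cfsg.Agent.Lib.Helper92

open Cfsg Cfsg.Spor Cfsg.Agent.Lib.Helper7

/-- The base vectors. -/
def crTdB : List (List ℤ) :=
  [([4, 0, 0, 0, 0, 0, 0, 0, 0, 0, 0, 0, 0, 0, 0, 0, 0, 0, 0, 0, 0, 0, 0, 4] : List ℤ),
   ([-4, 0, 0, 0, 0, 0, 0, 0, 0, 0, 0, 0, 0, 0, 0, 0, 0, 0, 0, 0, 0, 0, 0, 4] : List ℤ)]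

/-- The conditions. -/
def crTdconds : List (List ℤ × ℤ) :=
  [(([4, 0, 0, 0, 0, 0, 0, 0, 0, 0, 0, 0, 0, 0, 0, 0, 0, 0, 0, 0, 0, 0, 0, 4] : List ℤ), 0),
   (([-4, 0, 0, 0, 0, 0, 0, 0, 0, 0, 0, 0, 0, 0, 0, 0, 0, 0, 0, 0, 0, 0, 0, 4] : List ℤ), 0)]

/-- The base point. -/
def crTdx0 : List ℤ := ([0, -2, -2, -2, -2, -2, 0, 0, -2, 0, 0, -2, 0, -2, 0, 0, 0, 0, 0, 0, 0, 0, 0, 0] : List ℤ)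

/-- The generators. -/
def crTdgens : List (List Prim) :=
  [[Prim.P 980275914351787324191492553553580224 [2]],
   [Prim.P 972560138397867987084212241321578816 [0, 0, 0, 0, 0, 2, 0]],
   [Prim.S 10558 2],
   [Prim.S 21116 5],
   [Prim.S 36294 8],
   [Prim.S 72588 17],
   [Prim.S 138790 33],
   [Prim.S 267634 65],
   [Prim.S 525274 128],
   [Prim.S 1050548 256],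
   [Prim.S 2101096 512],
   [Prim.S 4202192 1025]]

set_option maxRecDepth 100000 in
set_option maxHeartbeats 0 in
/-- The intermediate images of the base vectors under the generators. -/
def crTdgmids : List (List (List (List ℤ))) :=
  [[[([4, 0, 0, 0, 0, 0, 0, 0, 0, 0, 0, 0, 0, 0, 0, 0, 0, 0, 0, 0, 0, 0, 0, 4] : List ℤ)], [([-4, 0, 0, 0, 0, 0, 0, 0, 0, 0, 0, 0, 0, 0, 0, 0, 0, 0, 0, 0, 0, 0, 0, 4] : List ℤ)]],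
   [[([4, 0, 0, 0, 0, 0, 0, 0, 0, 0, 0, 0, 0, 0, 0, 0, 0, 0, 0, 0, 0, 0, 0, 4] : List ℤ)], [([-4, 0, 0, 0, 0, 0, 0, 0, 0, 0, 0, 0, 0, 0, 0, 0, 0, 0, 0, 0, 0, 0, 0, 4] : List ℤ)]],
   [[([4, 0, 0, 0, 0, 0, 0, 0, 0, 0, 0, 0, 0, 0, 0, 0, 0, 0, 0, 0, 0, 0, 0, 4] : List ℤ)], [([-4, 0, 0, 0, 0, 0, 0, 0, 0, 0, 0, 0, 0, 0, 0, 0, 0, 0, 0, 0, 0, 0, 0, 4] : List ℤ)]],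
   [[([4, 0, 0, 0, 0, 0, 0, 0, 0, 0, 0, 0, 0, 0, 0, 0, 0, 0, 0, 0, 0, 0, 0, 4] : List ℤ)], [([-4, 0, 0, 0, 0, 0, 0, 0, 0, 0, 0, 0, 0, 0, 0, 0, 0, 0, 0, 0, 0, 0, 0, 4] : List ℤ)]],
   [[([4, 0, 0, 0, 0, 0, 0, 0, 0, 0, 0, 0, 0, 0, 0, 0, 0, 0, 0, 0, 0, 0, 0, 4] : List ℤ)], [([-4, 0, 0, 0, 0, 0, 0, 0, 0, 0, 0, 0, 0, 0, 0, 0, 0, 0, 0, 0, 0, 0, 0, 4] : List ℤ)]],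
   [[([4, 0, 0, 0, 0, 0, 0, 0, 0, 0, 0, 0, 0, 0, 0, 0, 0, 0, 0, 0, 0, 0, 0, 4] : List ℤ)], [([-4, 0, 0, 0, 0, 0, 0, 0, 0, 0, 0, 0, 0, 0, 0, 0, 0, 0, 0, 0, 0, 0, 0, 4] : List ℤ)]],
   [[([4, 0, 0, 0, 0, 0, 0, 0, 0, 0, 0, 0, 0, 0, 0, 0, 0, 0, 0, 0, 0, 0, 0, 4] : List ℤ)], [([-4, 0, 0, 0, 0, 0, 0, 0, 0, 0, 0, 0, 0, 0, 0, 0, 0, 0, 0, 0, 0, 0, 0, 4] : List ℤ)]],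
   [[([4, 0, 0, 0, 0, 0, 0, 0, 0, 0, 0, 0, 0, 0, 0, 0, 0, 0, 0, 0, 0, 0, 0, 4] : List ℤ)], [([-4, 0, 0, 0, 0, 0, 0, 0, 0, 0, 0, 0, 0, 0, 0, 0, 0, 0, 0, 0, 0, 0, 0, 4] : List ℤ)]],
   [[([4, 0, 0, 0, 0, 0, 0, 0, 0, 0, 0, 0, 0, 0, 0, 0, 0, 0, 0, 0, 0, 0, 0, 4] : List ℤ)], [([-4, 0, 0, 0, 0, 0, 0, 0, 0, 0, 0, 0, 0, 0, 0, 0, 0, 0, 0, 0, 0, 0, 0, 4] : List ℤ)]],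
   [[([4, 0, 0, 0, 0, 0, 0, 0, 0, 0, 0, 0, 0, 0, 0, 0, 0, 0, 0, 0, 0, 0, 0, 4] : List ℤ)], [([-4, 0, 0, 0, 0, 0, 0, 0, 0, 0, 0, 0, 0, 0, 0, 0, 0, 0, 0, 0, 0, 0, 0, 4] : List ℤ)]],
   [[([4, 0, 0, 0, 0, 0, 0, 0, 0, 0, 0, 0, 0, 0, 0, 0, 0, 0, 0, 0, 0, 0, 0, 4] : List ℤ)], [([-4, 0, 0, 0, 0, 0, 0, 0, 0, 0, 0, 0, 0, 0, 0, 0, 0, 0, 0, 0, 0, 0, 0, 4] : List ℤ)]],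
   [[([4, 0, 0, 0, 0, 0, 0, 0, 0, 0, 0, 0, 0, 0, 0, 0, 0, 0, 0, 0, 0, 0, 0, 4] : List ℤ)], [([-4, 0, 0, 0, 0, 0, 0, 0, 0, 0, 0, 0, 0, 0, 0, 0, 0, 0, 0, 0, 0, 0, 0, 4] : List ℤ)]]]

set_option maxRecDepth 100000 in
set_option maxHeartbeats 0 in
/-- The minimal vectors of the set with the representative word of second digits. -/
def crTdf : List ℕ × List (List ℤ) :=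
  ([1, 2, 3, 4, 5, 8, 11, 13], [([0, 2, 2, 2, 2, 2, 0, 0, 2, 0, 0, 2, 0, 2, 0, 0, 0, 0, 0, 0, 0, 0, 0, 0] : List ℤ),
     ([0, -2, -2, 2, 2, 2, 0, 0, 2, 0, 0, 2, 0, 2, 0, 0, 0, 0, 0, 0, 0, 0, 0, 0] : List ℤ),
     ([0, -2, 2, -2, 2, 2, 0, 0, 2, 0, 0, 2, 0, 2, 0, 0, 0, 0, 0, 0, 0, 0, 0, 0] : List ℤ),
     ([0, 2, -2, -2, 2, 2, 0, 0, 2, 0, 0, 2, 0, 2, 0, 0, 0, 0, 0, 0, 0, 0, 0, 0] : List ℤ),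
     ([0, -2, 2, 2, -2, 2, 0, 0, 2, 0, 0, 2, 0, 2, 0, 0, 0, 0, 0, 0, 0, 0, 0, 0] : List ℤ),
     ([0, 2, -2, 2, -2, 2, 0, 0, 2, 0, 0, 2, 0, 2, 0, 0, 0, 0, 0, 0, 0, 0, 0, 0] : List ℤ),
     ([0, 2, 2, -2, -2, 2, 0, 0, 2, 0, 0, 2, 0, 2, 0, 0, 0, 0, 0, 0, 0, 0, 0, 0] : List ℤ),
     ([0, -2, -2, -2, -2, 2, 0, 0, 2, 0, 0, 2, 0, 2, 0, 0, 0, 0, 0, 0, 0, 0, 0, 0] : List ℤ),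
     ([0, -2, 2, 2, 2, -2, 0, 0, 2, 0, 0, 2, 0, 2, 0, 0, 0, 0, 0, 0, 0, 0, 0, 0] : List ℤ),
     ([0, 2, -2, 2, 2, -2, 0, 0, 2, 0, 0, 2, 0, 2, 0, 0, 0, 0, 0, 0, 0, 0, 0, 0] : List ℤ),
     ([0, 2, 2, -2, 2, -2, 0, 0, 2, 0, 0, 2, 0, 2, 0, 0, 0, 0, 0, 0, 0, 0, 0, 0] : List ℤ),
     ([0, -2, -2, -2, 2, -2, 0, 0, 2, 0, 0, 2, 0, 2, 0, 0, 0, 0, 0, 0, 0, 0, 0, 0] : List ℤ),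
     ([0, 2, 2, 2, -2, -2, 0, 0, 2, 0, 0, 2, 0, 2, 0, 0, 0, 0, 0, 0, 0, 0, 0, 0] : List ℤ),
     ([0, -2, -2, 2, -2, -2, 0, 0, 2, 0, 0, 2, 0, 2, 0, 0, 0, 0, 0, 0, 0, 0, 0, 0] : List ℤ),
     ([0, -2, 2, -2, -2, -2, 0, 0, 2, 0, 0, 2, 0, 2, 0, 0, 0, 0, 0, 0, 0, 0, 0, 0] : List ℤ),
     ([0, 2, -2, -2, -2, -2, 0, 0, 2, 0, 0, 2, 0, 2, 0, 0, 0, 0, 0, 0, 0, 0, 0, 0] : List ℤ),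
     ([0, -2, 2, 2, 2, 2, 0, 0, -2, 0, 0, 2, 0, 2, 0, 0, 0, 0, 0, 0, 0, 0, 0, 0] : List ℤ),
     ([0, 2, -2, 2, 2, 2, 0, 0, -2, 0, 0, 2, 0, 2, 0, 0, 0, 0, 0, 0, 0, 0, 0, 0] : List ℤ),
     ([0, 2, 2, -2, 2, 2, 0, 0, -2, 0, 0, 2, 0, 2, 0, 0, 0, 0, 0, 0, 0, 0, 0, 0] : List ℤ),
     ([0, -2, -2, -2, 2, 2, 0, 0, -2, 0, 0, 2, 0, 2, 0, 0, 0, 0, 0, 0, 0, 0, 0, 0] : List ℤ),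
     ([0, 2, 2, 2, -2, 2, 0, 0, -2, 0, 0, 2, 0, 2, 0, 0, 0, 0, 0, 0, 0, 0, 0, 0] : List ℤ),
     ([0, -2, -2, 2, -2, 2, 0, 0, -2, 0, 0, 2, 0, 2, 0, 0, 0, 0, 0, 0, 0, 0, 0, 0] : List ℤ),
     ([0, -2, 2, -2, -2, 2, 0, 0, -2, 0, 0, 2, 0, 2, 0, 0, 0, 0, 0, 0, 0, 0, 0, 0] : List ℤ),
     ([0, 2, -2, -2, -2, 2, 0, 0, -2, 0, 0, 2, 0, 2, 0, 0, 0, 0, 0, 0, 0, 0, 0, 0] : List ℤ),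
     ([0, 2, 2, 2, 2, -2, 0, 0, -2, 0, 0, 2, 0, 2, 0, 0, 0, 0, 0, 0, 0, 0, 0, 0] : List ℤ),
     ([0, -2, -2, 2, 2, -2, 0, 0, -2, 0, 0, 2, 0, 2, 0, 0, 0, 0, 0, 0, 0, 0, 0, 0] : List ℤ),
     ([0, -2, 2, -2, 2, -2, 0, 0, -2, 0, 0, 2, 0, 2, 0, 0, 0, 0, 0, 0, 0, 0, 0, 0] : List ℤ),
     ([0, 2, -2, -2, 2, -2, 0, 0, -2, 0, 0, 2, 0, 2, 0, 0, 0, 0, 0, 0, 0, 0, 0, 0] : List ℤ),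
     ([0, -2, 2, 2, -2, -2, 0, 0, -2, 0, 0, 2, 0, 2, 0, 0, 0, 0, 0, 0, 0, 0, 0, 0] : List ℤ),
     ([0, 2, -2, 2, -2, -2, 0, 0, -2, 0, 0, 2, 0, 2, 0, 0, 0, 0, 0, 0, 0, 0, 0, 0] : List ℤ),
     ([0, 2, 2, -2, -2, -2, 0, 0, -2, 0, 0, 2, 0, 2, 0, 0, 0, 0, 0, 0, 0, 0, 0, 0] : List ℤ),
     ([0, -2, -2, -2, -2, -2, 0, 0, -2, 0, 0, 2, 0, 2, 0, 0, 0, 0, 0, 0, 0, 0, 0, 0] : List ℤ),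
     ([0, -2, 2, 2, 2, 2, 0, 0, 2, 0, 0, -2, 0, 2, 0, 0, 0, 0, 0, 0, 0, 0, 0, 0] : List ℤ),
     ([0, 2, -2, 2, 2, 2, 0, 0, 2, 0, 0, -2, 0, 2, 0, 0, 0, 0, 0, 0, 0, 0, 0, 0] : List ℤ),
     ([0, 2, 2, -2, 2, 2, 0, 0, 2, 0, 0, -2, 0, 2, 0, 0, 0, 0, 0, 0, 0, 0, 0, 0] : List ℤ),
     ([0, -2, -2, -2, 2, 2, 0, 0, 2, 0, 0, -2, 0, 2, 0, 0, 0, 0, 0, 0, 0, 0, 0, 0] : List ℤ),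
     ([0, 2, 2, 2, -2, 2, 0, 0, 2, 0, 0, -2, 0, 2, 0, 0, 0, 0, 0, 0, 0, 0, 0, 0] : List ℤ),
     ([0, -2, -2, 2, -2, 2, 0, 0, 2, 0, 0, -2, 0, 2, 0, 0, 0, 0, 0, 0, 0, 0, 0, 0] : List ℤ),
     ([0, -2, 2, -2, -2, 2, 0, 0, 2, 0, 0, -2, 0, 2, 0, 0, 0, 0, 0, 0, 0, 0, 0, 0] : List ℤ),
     ([0, 2, -2, -2, -2, 2, 0, 0, 2, 0, 0, -2, 0, 2, 0, 0, 0, 0, 0, 0, 0, 0, 0, 0] : List ℤ),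
     ([0, 2, 2, 2, 2, -2, 0, 0, 2, 0, 0, -2, 0, 2, 0, 0, 0, 0, 0, 0, 0, 0, 0, 0] : List ℤ),
     ([0, -2, -2, 2, 2, -2, 0, 0, 2, 0, 0, -2, 0, 2, 0, 0, 0, 0, 0, 0, 0, 0, 0, 0] : List ℤ),
     ([0, -2, 2, -2, 2, -2, 0, 0, 2, 0, 0, -2, 0, 2, 0, 0, 0, 0, 0, 0, 0, 0, 0, 0] : List ℤ),
     ([0, 2, -2, -2, 2, -2, 0, 0, 2, 0, 0, -2, 0, 2, 0, 0, 0, 0, 0, 0, 0, 0, 0, 0] : List ℤ),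
     ([0, -2, 2, 2, -2, -2, 0, 0, 2, 0, 0, -2, 0, 2, 0, 0, 0, 0, 0, 0, 0, 0, 0, 0] : List ℤ),
     ([0, 2, -2, 2, -2, -2, 0, 0, 2, 0, 0, -2, 0, 2, 0, 0, 0, 0, 0, 0, 0, 0, 0, 0] : List ℤ),
     ([0, 2, 2, -2, -2, -2, 0, 0, 2, 0, 0, -2, 0, 2, 0, 0, 0, 0, 0, 0, 0, 0, 0, 0] : List ℤ),
     ([0, -2, -2, -2, -2, -2, 0, 0, 2, 0, 0, -2, 0, 2, 0, 0, 0, 0, 0, 0, 0, 0, 0, 0] : List ℤ),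
     ([0, 2, 2, 2, 2, 2, 0, 0, -2, 0, 0, -2, 0, 2, 0, 0, 0, 0, 0, 0, 0, 0, 0, 0] : List ℤ),
     ([0, -2, -2, 2, 2, 2, 0, 0, -2, 0, 0, -2, 0, 2, 0, 0, 0, 0, 0, 0, 0, 0, 0, 0] : List ℤ),
     ([0, -2, 2, -2, 2, 2, 0, 0, -2, 0, 0, -2, 0, 2, 0, 0, 0, 0, 0, 0, 0, 0, 0, 0] : List ℤ),
     ([0, 2, -2, -2, 2, 2, 0, 0, -2, 0, 0, -2, 0, 2, 0, 0, 0, 0, 0, 0, 0, 0, 0, 0] : List ℤ),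
     ([0, -2, 2, 2, -2, 2, 0, 0, -2, 0, 0, -2, 0, 2, 0, 0, 0, 0, 0, 0, 0, 0, 0, 0] : List ℤ),
     ([0, 2, -2, 2, -2, 2, 0, 0, -2, 0, 0, -2, 0, 2, 0, 0, 0, 0, 0, 0, 0, 0, 0, 0] : List ℤ),
     ([0, 2, 2, -2, -2, 2, 0, 0, -2, 0, 0, -2, 0, 2, 0, 0, 0, 0, 0, 0, 0, 0, 0, 0] : List ℤ),
     ([0, -2, -2, -2, -2, 2, 0, 0, -2, 0, 0, -2, 0, 2, 0, 0, 0, 0, 0, 0, 0, 0, 0, 0] : List ℤ),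
     ([0, -2, 2, 2, 2, -2, 0, 0, -2, 0, 0, -2, 0, 2, 0, 0, 0, 0, 0, 0, 0, 0, 0, 0] : List ℤ),
     ([0, 2, -2, 2, 2, -2, 0, 0, -2, 0, 0, -2, 0, 2, 0, 0, 0, 0, 0, 0, 0, 0, 0, 0] : List ℤ),
     ([0, 2, 2, -2, 2, -2, 0, 0, -2, 0, 0, -2, 0, 2, 0, 0, 0, 0, 0, 0, 0, 0, 0, 0] : List ℤ),
     ([0, -2, -2, -2, 2, -2, 0, 0, -2, 0, 0, -2, 0, 2, 0, 0, 0, 0, 0, 0, 0, 0, 0, 0] : List ℤ),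
     ([0, 2, 2, 2, -2, -2, 0, 0, -2, 0, 0, -2, 0, 2, 0, 0, 0, 0, 0, 0, 0, 0, 0, 0] : List ℤ),
     ([0, -2, -2, 2, -2, -2, 0, 0, -2, 0, 0, -2, 0, 2, 0, 0, 0, 0, 0, 0, 0, 0, 0, 0] : List ℤ),
     ([0, -2, 2, -2, -2, -2, 0, 0, -2, 0, 0, -2, 0, 2, 0, 0, 0, 0, 0, 0, 0, 0, 0, 0] : List ℤ),
     ([0, 2, -2, -2, -2, -2, 0, 0, -2, 0, 0, -2, 0, 2, 0, 0, 0, 0, 0, 0, 0, 0, 0, 0] : List ℤ),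
     ([0, -2, 2, 2, 2, 2, 0, 0, 2, 0, 0, 2, 0, -2, 0, 0, 0, 0, 0, 0, 0, 0, 0, 0] : List ℤ),
     ([0, 2, -2, 2, 2, 2, 0, 0, 2, 0, 0, 2, 0, -2, 0, 0, 0, 0, 0, 0, 0, 0, 0, 0] : List ℤ),
     ([0, 2, 2, -2, 2, 2, 0, 0, 2, 0, 0, 2, 0, -2, 0, 0, 0, 0, 0, 0, 0, 0, 0, 0] : List ℤ),
     ([0, -2, -2, -2, 2, 2, 0, 0, 2, 0, 0, 2, 0, -2, 0, 0, 0, 0, 0, 0, 0, 0, 0, 0] : List ℤ),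
     ([0, 2, 2, 2, -2, 2, 0, 0, 2, 0, 0, 2, 0, -2, 0, 0, 0, 0, 0, 0, 0, 0, 0, 0] : List ℤ),
     ([0, -2, -2, 2, -2, 2, 0, 0, 2, 0, 0, 2, 0, -2, 0, 0, 0, 0, 0, 0, 0, 0, 0, 0] : List ℤ),
     ([0, -2, 2, -2, -2, 2, 0, 0, 2, 0, 0, 2, 0, -2, 0, 0, 0, 0, 0, 0, 0, 0, 0, 0] : List ℤ),
     ([0, 2, -2, -2, -2, 2, 0, 0, 2, 0, 0, 2, 0, -2, 0, 0, 0, 0, 0, 0, 0, 0, 0, 0] : List ℤ),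
     ([0, 2, 2, 2, 2, -2, 0, 0, 2, 0, 0, 2, 0, -2, 0, 0, 0, 0, 0, 0, 0, 0, 0, 0] : List ℤ),
     ([0, -2, -2, 2, 2, -2, 0, 0, 2, 0, 0, 2, 0, -2, 0, 0, 0, 0, 0, 0, 0, 0, 0, 0] : List ℤ),
     ([0, -2, 2, -2, 2, -2, 0, 0, 2, 0, 0, 2, 0, -2, 0, 0, 0, 0, 0, 0, 0, 0, 0, 0] : List ℤ),
     ([0, 2, -2, -2, 2, -2, 0, 0, 2, 0, 0, 2, 0, -2, 0, 0, 0, 0, 0, 0, 0, 0, 0, 0] : List ℤ),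
     ([0, -2, 2, 2, -2, -2, 0, 0, 2, 0, 0, 2, 0, -2, 0, 0, 0, 0, 0, 0, 0, 0, 0, 0] : List ℤ),
     ([0, 2, -2, 2, -2, -2, 0, 0, 2, 0, 0, 2, 0, -2, 0, 0, 0, 0, 0, 0, 0, 0, 0, 0] : List ℤ),
     ([0, 2, 2, -2, -2, -2, 0, 0, 2, 0, 0, 2, 0, -2, 0, 0, 0, 0, 0, 0, 0, 0, 0, 0] : List ℤ),
     ([0, -2, -2, -2, -2, -2, 0, 0, 2, 0, 0, 2, 0, -2, 0, 0, 0, 0, 0, 0, 0, 0, 0, 0] : List ℤ),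
     ([0, 2, 2, 2, 2, 2, 0, 0, -2, 0, 0, 2, 0, -2, 0, 0, 0, 0, 0, 0, 0, 0, 0, 0] : List ℤ),
     ([0, -2, -2, 2, 2, 2, 0, 0, -2, 0, 0, 2, 0, -2, 0, 0, 0, 0, 0, 0, 0, 0, 0, 0] : List ℤ),
     ([0, -2, 2, -2, 2, 2, 0, 0, -2, 0, 0, 2, 0, -2, 0, 0, 0, 0, 0, 0, 0, 0, 0, 0] : List ℤ),
     ([0, 2, -2, -2, 2, 2, 0, 0, -2, 0, 0, 2, 0, -2, 0, 0, 0, 0, 0, 0, 0, 0, 0, 0] : List ℤ),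
     ([0, -2, 2, 2, -2, 2, 0, 0, -2, 0, 0, 2, 0, -2, 0, 0, 0, 0, 0, 0, 0, 0, 0, 0] : List ℤ),
     ([0, 2, -2, 2, -2, 2, 0, 0, -2, 0, 0, 2, 0, -2, 0, 0, 0, 0, 0, 0, 0, 0, 0, 0] : List ℤ),
     ([0, 2, 2, -2, -2, 2, 0, 0, -2, 0, 0, 2, 0, -2, 0, 0, 0, 0, 0, 0, 0, 0, 0, 0] : List ℤ),
     ([0, -2, -2, -2, -2, 2, 0, 0, -2, 0, 0, 2, 0, -2, 0, 0, 0, 0, 0, 0, 0, 0, 0, 0] : List ℤ),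
     ([0, -2, 2, 2, 2, -2, 0, 0, -2, 0, 0, 2, 0, -2, 0, 0, 0, 0, 0, 0, 0, 0, 0, 0] : List ℤ),
     ([0, 2, -2, 2, 2, -2, 0, 0, -2, 0, 0, 2, 0, -2, 0, 0, 0, 0, 0, 0, 0, 0, 0, 0] : List ℤ),
     ([0, 2, 2, -2, 2, -2, 0, 0, -2, 0, 0, 2, 0, -2, 0, 0, 0, 0, 0, 0, 0, 0, 0, 0] : List ℤ),
     ([0, -2, -2, -2, 2, -2, 0, 0, -2, 0, 0, 2, 0, -2, 0, 0, 0, 0, 0, 0, 0, 0, 0, 0] : List ℤ),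
     ([0, 2, 2, 2, -2, -2, 0, 0, -2, 0, 0, 2, 0, -2, 0, 0, 0, 0, 0, 0, 0, 0, 0, 0] : List ℤ),
     ([0, -2, -2, 2, -2, -2, 0, 0, -2, 0, 0, 2, 0, -2, 0, 0, 0, 0, 0, 0, 0, 0, 0, 0] : List ℤ),
     ([0, -2, 2, -2, -2, -2, 0, 0, -2, 0, 0, 2, 0, -2, 0, 0, 0, 0, 0, 0, 0, 0, 0, 0] : List ℤ),
     ([0, 2, -2, -2, -2, -2, 0, 0, -2, 0, 0, 2, 0, -2, 0, 0, 0, 0, 0, 0, 0, 0, 0, 0] : List ℤ),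
     ([0, 2, 2, 2, 2, 2, 0, 0, 2, 0, 0, -2, 0, -2, 0, 0, 0, 0, 0, 0, 0, 0, 0, 0] : List ℤ),
     ([0, -2, -2, 2, 2, 2, 0, 0, 2, 0, 0, -2, 0, -2, 0, 0, 0, 0, 0, 0, 0, 0, 0, 0] : List ℤ),
     ([0, -2, 2, -2, 2, 2, 0, 0, 2, 0, 0, -2, 0, -2, 0, 0, 0, 0, 0, 0, 0, 0, 0, 0] : List ℤ),
     ([0, 2, -2, -2, 2, 2, 0, 0, 2, 0, 0, -2, 0, -2, 0, 0, 0, 0, 0, 0, 0, 0, 0, 0] : List ℤ),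
     ([0, -2, 2, 2, -2, 2, 0, 0, 2, 0, 0, -2, 0, -2, 0, 0, 0, 0, 0, 0, 0, 0, 0, 0] : List ℤ),
     ([0, 2, -2, 2, -2, 2, 0, 0, 2, 0, 0, -2, 0, -2, 0, 0, 0, 0, 0, 0, 0, 0, 0, 0] : List ℤ),
     ([0, 2, 2, -2, -2, 2, 0, 0, 2, 0, 0, -2, 0, -2, 0, 0, 0, 0, 0, 0, 0, 0, 0, 0] : List ℤ),
     ([0, -2, -2, -2, -2, 2, 0, 0, 2, 0, 0, -2, 0, -2, 0, 0, 0, 0, 0, 0, 0, 0, 0, 0] : List ℤ),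
     ([0, -2, 2, 2, 2, -2, 0, 0, 2, 0, 0, -2, 0, -2, 0, 0, 0, 0, 0, 0, 0, 0, 0, 0] : List ℤ),
     ([0, 2, -2, 2, 2, -2, 0, 0, 2, 0, 0, -2, 0, -2, 0, 0, 0, 0, 0, 0, 0, 0, 0, 0] : List ℤ),
     ([0, 2, 2, -2, 2, -2, 0, 0, 2, 0, 0, -2, 0, -2, 0, 0, 0, 0, 0, 0, 0, 0, 0, 0] : List ℤ),
     ([0, -2, -2, -2, 2, -2, 0, 0, 2, 0, 0, -2, 0, -2, 0, 0, 0, 0, 0, 0, 0, 0, 0, 0] : List ℤ),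
     ([0, 2, 2, 2, -2, -2, 0, 0, 2, 0, 0, -2, 0, -2, 0, 0, 0, 0, 0, 0, 0, 0, 0, 0] : List ℤ),
     ([0, -2, -2, 2, -2, -2, 0, 0, 2, 0, 0, -2, 0, -2, 0, 0, 0, 0, 0, 0, 0, 0, 0, 0] : List ℤ),
     ([0, -2, 2, -2, -2, -2, 0, 0, 2, 0, 0, -2, 0, -2, 0, 0, 0, 0, 0, 0, 0, 0, 0, 0] : List ℤ),
     ([0, 2, -2, -2, -2, -2, 0, 0, 2, 0, 0, -2, 0, -2, 0, 0, 0, 0, 0, 0, 0, 0, 0, 0] : List ℤ),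
     ([0, -2, 2, 2, 2, 2, 0, 0, -2, 0, 0, -2, 0, -2, 0, 0, 0, 0, 0, 0, 0, 0, 0, 0] : List ℤ),
     ([0, 2, -2, 2, 2, 2, 0, 0, -2, 0, 0, -2, 0, -2, 0, 0, 0, 0, 0, 0, 0, 0, 0, 0] : List ℤ),
     ([0, 2, 2, -2, 2, 2, 0, 0, -2, 0, 0, -2, 0, -2, 0, 0, 0, 0, 0, 0, 0, 0, 0, 0] : List ℤ),
     ([0, -2, -2, -2, 2, 2, 0, 0, -2, 0, 0, -2, 0, -2, 0, 0, 0, 0, 0, 0, 0, 0, 0, 0] : List ℤ),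
     ([0, 2, 2, 2, -2, 2, 0, 0, -2, 0, 0, -2, 0, -2, 0, 0, 0, 0, 0, 0, 0, 0, 0, 0] : List ℤ),
     ([0, -2, -2, 2, -2, 2, 0, 0, -2, 0, 0, -2, 0, -2, 0, 0, 0, 0, 0, 0, 0, 0, 0, 0] : List ℤ),
     ([0, -2, 2, -2, -2, 2, 0, 0, -2, 0, 0, -2, 0, -2, 0, 0, 0, 0, 0, 0, 0, 0, 0, 0] : List ℤ),
     ([0, 2, -2, -2, -2, 2, 0, 0, -2, 0, 0, -2, 0, -2, 0, 0, 0, 0, 0, 0, 0, 0, 0, 0] : List ℤ),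
     ([0, 2, 2, 2, 2, -2, 0, 0, -2, 0, 0, -2, 0, -2, 0, 0, 0, 0, 0, 0, 0, 0, 0, 0] : List ℤ),
     ([0, -2, -2, 2, 2, -2, 0, 0, -2, 0, 0, -2, 0, -2, 0, 0, 0, 0, 0, 0, 0, 0, 0, 0] : List ℤ),
     ([0, -2, 2, -2, 2, -2, 0, 0, -2, 0, 0, -2, 0, -2, 0, 0, 0, 0, 0, 0, 0, 0, 0, 0] : List ℤ),
     ([0, 2, -2, -2, 2, -2, 0, 0, -2, 0, 0, -2, 0, -2, 0, 0, 0, 0, 0, 0, 0, 0, 0, 0] : List ℤ),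
     ([0, -2, 2, 2, -2, -2, 0, 0, -2, 0, 0, -2, 0, -2, 0, 0, 0, 0, 0, 0, 0, 0, 0, 0] : List ℤ),
     ([0, 2, -2, 2, -2, -2, 0, 0, -2, 0, 0, -2, 0, -2, 0, 0, 0, 0, 0, 0, 0, 0, 0, 0] : List ℤ),
     ([0, 2, 2, -2, -2, -2, 0, 0, -2, 0, 0, -2, 0, -2, 0, 0, 0, 0, 0, 0, 0, 0, 0, 0] : List ℤ),
     ([0, -2, -2, -2, -2, -2, 0, 0, -2, 0, 0, -2, 0, -2, 0, 0, 0, 0, 0, 0, 0, 0, 0, 0] : List ℤ)])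

set_option maxRecDepth 100000 in
set_option maxHeartbeats 0 in
/-- The program visiting the vectors. -/
def crTdprog : List Ins :=
  [Ins.mark,
   Ins.push 3 [([0, -2, 2, 2, 2, 2, 0, 0, -2, 0, 0, -2, 0, -2, 0, 0, 0, 0, 0, 0, 0, 0, 0, 0] : List ℤ)],
   Ins.mark,
   Ins.push 0 [([0, 0, 2, 2, 0, 0, 2, 0, 0, -2, 0, 0, 0, 0, 0, 0, -2, 0, -2, -2, 0, 2, 0, 0] : List ℤ)],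
   Ins.push 1 [([0, 0, 0, 0, -2, 0, 0, 2, 2, 0, 2, 0, -2, 0, 0, -2, -2, 0, 0, 2, 0, 0, 0, 0] : List ℤ)],
   Ins.push 1 [([0, 2, 0, -2, 0, 0, 0, 0, 0, 0, 0, 0, 0, 0, -2, 2, -2, 2, -2, 0, 0, 2, 0, 0] : List ℤ)],
   Ins.push 0 [([0, 0, 0, -2, -2, 0, 0, 0, 0, 0, 0, 2, 0, -2, 0, 2, 0, -2, 2, 0, 2, 0, 0, 0] : List ℤ)],
   Ins.push 1 [([0, 0, 2, -2, 2, 0, 0, -2, 0, -2, 0, 0, 0, 2, 0, 0, 0, 0, 2, 0, 0, 0, -2, 0] : List ℤ)],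
   Ins.push 1 [([0, 0, 0, 2, 2, -2, 0, -2, 2, 0, 0, 0, -2, 0, 0, 0, 0, 0, 0, 0, 0, -2, 2, 0] : List ℤ)],
   Ins.push 1 [([0, 0, 0, 2, 0, 2, -2, 2, 0, 0, 0, 0, 0, 0, -2, 0, 0, 2, 0, -2, 0, -2, 0, 0] : List ℤ)],
   Ins.push 1 [([0, 0, 0, 0, 0, 0, 2, 2, 0, 2, -2, 0, 0, 0, 0, -2, 0, 0, 0, -2, -2, 2, 0, 0] : List ℤ)],
   Ins.push 0 [([0, 2, 0, 0, 0, 2, 0, -2, 0, 0, -2, 0, 2, 0, 0, -2, 0, 0, 0, 0, 2, 0, -2, 0] : List ℤ)],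
   Ins.push 1 [([0, -2, 2, 0, 0, -2, 2, 0, 0, 0, 0, 2, 0, 0, 2, 0, 0, 0, -2, 0, 0, -2, 0, 0] : List ℤ)],
   Ins.push 0 [([0, 2, 0, 0, -2, 0, 2, 0, 0, 0, 0, 0, 0, 0, 0, 0, 0, 2, -2, 2, -2, -2, 0, 0] : List ℤ)],
   Ins.push 0 [([0, 2, -2, 0, -2, 0, 0, 0, 0, 0, -2, 2, 0, 0, 0, 0, 0, 0, 2, 0, -2, 0, 2, 0] : List ℤ)],
   Ins.push 1 [([0, -2, -2, -2, 2, 2, 0, 0, -2, 0, 0, 2, 0, 2, 0, 0, 0, 0, 0, 0, 0, 0, 0, 0] : List ℤ)],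
   Ins.mark,
   Ins.pop,
   Ins.pop,
   Ins.pop,
   Ins.pop,
   Ins.pop,
   Ins.pop,
   Ins.push 0 [([0, -2, 0, 2, 0, 2, 0, 0, 0, 0, 0, 2, 0, 0, 0, 0, 0, -2, 0, 0, -2, 2, -2, 0] : List ℤ)],
   Ins.push 1 [([0, 0, -2, 0, 0, -2, 2, 2, 0, -2, 0, -2, 0, 2, 0, 0, 0, 0, 0, 2, 0, 0, 0, 0] : List ℤ)],
   Ins.push 0 [([0, 2, 0, 0, 0, 2, -2, 0, 0, 2, 0, 0, -2, 0, 0, 0, 0, 0, 0, -2, 0, -2, 2, 0] : List ℤ)],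
   Ins.push 1 [([0, 0, 0, 0, 0, 2, 2, 0, 0, 0, -2, 2, 2, 0, -2, -2, 0, 0, 0, -2, 0, 0, 0, 0] : List ℤ)],
   Ins.push 1 [([0, -2, 0, 0, 0, 0, 2, 0, 0, 0, 2, 0, 0, 2, 2, -2, 0, 0, -2, 0, -2, 0, 0, 0] : List ℤ)],
   Ins.push 1 [([0, 2, -2, 0, -2, 0, 0, 0, 0, 0, 2, -2, 0, 0, 0, 0, 0, 0, -2, 0, 2, 0, 2, 0] : List ℤ)],
   Ins.push 1 [([0, 2, 2, -2, -2, 2, 0, 0, -2, 0, 0, 2, 0, -2, 0, 0, 0, 0, 0, 0, 0, 0, 0, 0] : List ℤ)],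
   Ins.mark,
   Ins.pop,
   Ins.pop,
   Ins.pop,
   Ins.pop,
   Ins.pop,
   Ins.pop,
   Ins.pop,
   Ins.pop,
   Ins.push 0 [([0, 0, 2, 2, 0, -2, 0, 0, -2, 0, 0, 0, 0, 0, 2, 0, 2, 0, 0, 0, -2, -2, 0, 0] : List ℤ)],
   Ins.push 0 [([0, 0, 0, 2, 0, 0, 2, 0, 0, 0, -2, 0, 0, 2, 0, 0, -2, 2, 0, 0, -2, -2, 0, 0] : List ℤ)],
   Ins.push 1 [([0, -2, -2, 0, 0, 0, 0, 2, 0, 2, 2, 0, 0, 0, 0, 0, -2, 0, 0, -2, 0, 0, 2, 0] : List ℤ)],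
   Ins.push 1 [([0, 2, 0, 0, 0, 2, 0, 0, -2, 0, 0, -2, 2, 0, 0, -2, -2, 0, 0, 0, 0, 2, 0, 0] : List ℤ)],
   Ins.push 0 [([0, 0, 0, 0, 0, 0, 0, 0, 2, 0, 0, 0, 0, -2, 0, -2, -2, 0, 2, -2, 2, 2, 0, 0] : List ℤ)],
   Ins.push 1 [([0, 0, 2, 0, 2, 0, 0, 0, 0, 0, 0, 0, 0, 0, 0, -2, -2, 2, -2, 2, 0, 0, -2, 0] : List ℤ)],
   Ins.push 1 [([0, 0, 0, 2, -2, -2, 0, 0, 2, 2, 0, 0, 0, 0, 0, 2, -2, 0, -2, 0, 0, 0, 0, 0] : List ℤ)],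
   Ins.push 1 [([0, 0, 0, -2, -2, 0, -2, 2, 0, 0, 0, 0, 2, 0, 0, 0, -2, 2, 2, 0, 0, 0, 0, 0] : List ℤ)],
   Ins.push 0 [([0, -2, -2, -2, 2, 2, 0, 0, 2, 0, 0, 2, 0, -2, 0, 0, 0, 0, 0, 0, 0, 0, 0, 0] : List ℤ)],
   Ins.mark,
   Ins.pop,
   Ins.pop,
   Ins.pop,
   Ins.pop,
   Ins.pop,
   Ins.pop,
   Ins.pop,
   Ins.pop,
   Ins.pop,
   Ins.pop,
   Ins.pop,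
   Ins.push 0 [([0, 0, -2, -2, 2, 0, 0, 0, 0, -2, 2, -2, 0, 0, 0, 2, 0, 0, 0, 2, 0, 0, 0, 0] : List ℤ)],
   Ins.push 0 [([0, 0, 2, -2, 0, 0, -2, 2, 0, 0, 0, 0, -2, 0, 0, 2, 0, 0, 0, -2, 0, 0, 2, 0] : List ℤ)],
   Ins.push 1 [([0, 0, 0, 0, 0, 2, 0, -2, 2, 0, -2, 0, 0, 0, -2, -2, 0, 0, 2, 0, 0, 2, 0, 0] : List ℤ)],
   Ins.push 1 [([0, -2, 0, 0, 2, 0, 2, 0, 0, 0, 0, 0, 0, 0, 0, 0, 0, 2, -2, 2, -2, -2, 0, 0] : List ℤ)],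
   Ins.push 1 [([0, 0, -2, 2, -2, 0, 0, 0, 0, 2, 2, -2, 0, 0, 0, 2, 0, 0, 0, -2, 0, 0, 0, 0] : List ℤ)],
   Ins.push 1 [([0, 2, 0, -2, 0, 0, 0, 2, -2, 0, 0, 0, 2, -2, 0, -2, 0, 0, 2, 0, 0, 0, 0, 0] : List ℤ)],
   Ins.push 0 [([0, 0, 0, -2, 2, 2, 0, 0, 2, -2, 0, 0, 0, 0, 0, -2, -2, 0, 2, 0, 0, 0, 0, 0] : List ℤ)],
   Ins.push 1 [([0, 0, 0, 2, 2, 0, 2, -2, 0, 0, 0, 0, -2, 0, 0, 0, -2, 2, -2, 0, 0, 0, 0, 0] : List ℤ)],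
   Ins.push 0 [([0, 2, 2, 2, -2, -2, 0, 0, -2, 0, 0, 2, 0, -2, 0, 0, 0, 0, 0, 0, 0, 0, 0, 0] : List ℤ)],
   Ins.mark,
   Ins.pop,
   Ins.pop,
   Ins.pop,
   Ins.pop,
   Ins.pop,
   Ins.push 0 [([0, 2, 2, 0, -2, 0, 0, 0, 0, 0, -2, 2, 0, 0, 0, 0, 0, 0, -2, 0, -2, 0, 2, 0] : List ℤ)],
   Ins.push 1 [([0, -2, -2, -2, -2, 2, 0, 0, 2, 0, 0, 2, 0, 2, 0, 0, 0, 0, 0, 0, 0, 0, 0, 0] : List ℤ)],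
   Ins.mark,
   Ins.pop,
   Ins.pop,
   Ins.pop,
   Ins.pop,
   Ins.pop,
   Ins.push 1 [([0, 2, 0, 2, 0, 0, 0, -2, -2, 0, 0, 0, -2, -2, 0, 2, 0, 0, 2, 0, 0, 0, 0, 0] : List ℤ)],
   Ins.push 1 [([0, 0, 0, 0, 2, 0, 0, 2, 0, 0, 0, 2, 0, 0, -2, 0, 0, -2, 2, 0, 0, -2, -2, 0] : List ℤ)],
   Ins.push 1 [([0, 0, 0, 2, 2, -2, 0, 0, 0, -2, 0, 0, 0, 2, 0, 0, 0, 0, 0, -2, -2, 2, 0, 0] : List ℤ)],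
   Ins.push 1 [([0, 0, -2, 2, 0, 0, -2, 2, 0, 0, 0, 0, -2, 0, 0, -2, 0, 0, 0, 2, 0, 0, 2, 0] : List ℤ)],
   Ins.push 1 [([0, 0, 0, 0, 0, 2, 0, 2, -2, 0, -2, 0, 0, 0, -2, 2, 0, 0, -2, 0, 0, 2, 0, 0] : List ℤ)],
   Ins.push 1 [([0, -2, 0, 0, -2, 0, 2, 0, 0, 0, 0, 0, 0, 0, 0, 0, 0, -2, 2, 2, -2, 2, 0, 0] : List ℤ)],
   Ins.push 0 [([0, 2, -2, 0, 2, 0, 0, 0, 0, 0, -2, -2, 0, 0, 0, 0, 0, 0, -2, 0, 2, 0, 2, 0] : List ℤ)],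
   Ins.push 1 [([0, -2, 2, 2, -2, 2, 0, 0, -2, 0, 0, 2, 0, -2, 0, 0, 0, 0, 0, 0, 0, 0, 0, 0] : List ℤ)],
   Ins.mark,
   Ins.pop,
   Ins.pop,
   Ins.pop,
   Ins.pop,
   Ins.pop,
   Ins.pop,
   Ins.push 0 [([0, 0, 2, 0, 2, 2, 0, 0, 0, 0, 0, -2, 0, 0, -2, 0, 0, -2, 0, 2, -2, 0, 0, 0] : List ℤ)],
   Ins.push 1 [([0, 0, -2, 2, 0, 0, 2, 0, 2, -2, 0, 0, 0, -2, 0, 2, 0, 0, 0, 0, -2, 0, 0, 0] : List ℤ)],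
   Ins.push 0 [([0, 2, 0, 2, 0, 0, -2, 0, 0, -2, -2, 0, -2, 0, 0, 2, 2, 0, 0, 0, 0, 0, 0, 0] : List ℤ)],
   Ins.push 0 [([0, -2, 0, 2, 0, 0, 0, -2, -2, 0, 0, 0, -2, 2, 0, 2, 0, 0, 2, 0, 0, 0, 0, 0] : List ℤ)],
   Ins.push 0 [([0, 0, 0, 2, 2, -2, 0, 0, -2, 2, 0, 0, 0, 0, 0, 2, -2, 0, -2, 0, 0, 0, 0, 0] : List ℤ)],
   Ins.push 1 [([0, 0, 0, 2, -2, 0, -2, 2, 0, 0, 0, 0, 2, 0, 0, 0, -2, -2, 2, 0, 0, 0, 0, 0] : List ℤ)],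
   Ins.push 0 [([0, -2, -2, 2, 2, 2, 0, 0, 2, 0, 0, -2, 0, -2, 0, 0, 0, 0, 0, 0, 0, 0, 0, 0] : List ℤ)],
   Ins.mark,
   Ins.pop,
   Ins.pop,
   Ins.pop,
   Ins.pop,
   Ins.pop,
   Ins.pop,
   Ins.pop,
   Ins.pop,
   Ins.pop,
   Ins.pop,
   Ins.pop,
   Ins.push 1 [([0, 0, 0, 0, -2, 0, 0, -2, 0, 2, 0, 2, 0, 0, 0, 0, -2, 0, 2, 2, -2, 0, 0, 0] : List ℤ)],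
   Ins.push 0 [([0, 0, -2, 0, 2, -2, 0, 0, 0, 0, -2, 0, 2, -2, 0, 0, 0, 0, 0, 2, 0, 0, 2, 0] : List ℤ)],
   Ins.push 0 [([0, 0, 2, 0, 0, 0, -2, -2, 2, -2, 0, 0, 0, 0, 2, 0, 0, 0, 0, 0, 0, -2, 2, 0] : List ℤ)],
   Ins.push 1 [([0, 0, 0, 0, 0, 2, 0, 0, 2, 0, -2, 0, -2, 0, 0, 0, 0, 2, 0, -2, 2, -2, 0, 0] : List ℤ)],
   Ins.push 1 [([0, -2, 2, 0, 0, 0, 2, 0, 0, 2, 0, 0, 0, 0, -2, -2, 0, 2, 0, -2, 0, 0, 0, 0] : List ℤ)],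
   Ins.push 0 [([0, 2, 0, 0, 0, 0, 2, 0, 0, 0, 0, 2, 2, 0, 0, -2, 0, -2, -2, 0, 0, 0, -2, 0] : List ℤ)],
   Ins.push 0 [([0, 2, 0, 0, -2, 0, 0, 0, 2, 0, 0, -2, 0, 0, -2, -2, 0, 0, 2, 2, 0, 0, 0, 0] : List ℤ)],
   Ins.push 0 [([0, 0, -2, 0, 2, 0, 0, 0, 0, 0, 0, 0, 0, 0, 0, -2, 2, -2, 2, -2, 0, 0, 2, 0] : List ℤ)],
   Ins.push 1 [([0, 0, 0, 2, 2, 2, 0, 0, -2, -2, 0, 0, 0, 0, 0, -2, 2, 0, -2, 0, 0, 0, 0, 0] : List ℤ)],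
   Ins.push 1 [([0, 0, 0, 2, -2, 0, 2, 2, 0, 0, 0, 0, -2, 0, 0, 0, 2, -2, -2, 0, 0, 0, 0, 0] : List ℤ)],
   Ins.push 0 [([0, 2, -2, 2, -2, 2, 0, 0, -2, 0, 0, -2, 0, 2, 0, 0, 0, 0, 0, 0, 0, 0, 0, 0] : List ℤ)],
   Ins.mark,
   Ins.pop,
   Ins.pop,
   Ins.pop,
   Ins.pop,
   Ins.pop,
   Ins.pop,
   Ins.pop,
   Ins.push 0 [([0, 0, 0, 0, 0, 0, 0, -2, -2, 0, 2, 2, 0, 0, 0, 0, 2, 0, 0, 0, -2, 2, -2, 0] : List ℤ)],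
   Ins.push 0 [([0, 0, 0, 0, 0, -2, 0, 2, 0, 0, -2, 0, 0, 2, -2, 0, -2, 0, 0, 2, 2, 0, 0, 0] : List ℤ)],
   Ins.push 1 [([0, -2, 2, 0, 0, 0, -2, 0, 0, 0, 0, 0, 0, 0, 0, 2, -2, 0, 0, 0, -2, 2, 2, 0] : List ℤ)],
   Ins.push 0 [([0, -2, 0, 0, 0, 0, 2, 0, 0, 0, -2, 0, 0, -2, 2, 2, 0, 0, -2, 0, 2, 0, 0, 0] : List ℤ)],
   Ins.push 1 [([0, -2, 2, 0, -2, 0, 0, 0, 0, 0, 2, -2, 0, 0, 0, 0, 0, 0, 2, 0, 2, 0, -2, 0] : List ℤ)],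
   Ins.push 1 [([0, 2, 2, -2, 2, -2, 0, 0, 2, 0, 0, -2, 0, -2, 0, 0, 0, 0, 0, 0, 0, 0, 0, 0] : List ℤ)],
   Ins.mark,
   Ins.pop,
   Ins.pop,
   Ins.pop,
   Ins.pop,
   Ins.pop,
   Ins.pop,
   Ins.pop,
   Ins.pop,
   Ins.pop,
   Ins.push 1 [([0, 0, -2, -2, 2, 0, 0, 0, 0, 0, 0, 0, 2, 2, 0, 2, -2, 0, 0, 0, 0, -2, 0, 0] : List ℤ)],
   Ins.push 0 [([0, 0, 2, -2, 0, 0, -2, 0, 2, 2, 0, 0, 0, -2, 0, 2, 0, 0, 0, 0, -2, 0, 0, 0] : List ℤ)],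
   Ins.push 1 [([0, 0, -2, 0, 0, 0, 0, -2, 2, 0, -2, 0, 2, 0, 0, 0, 0, 2, 2, 0, 0, 0, -2, 0] : List ℤ)],
   Ins.push 0 [([0, 0, 0, 0, 2, -2, -2, -2, 2, 0, 0, 2, 0, 0, -2, 0, 2, 0, 0, 0, 0, 0, 0, 0] : List ℤ)],
   Ins.push 1 [([0, 0, 0, 2, 0, 0, -2, 0, 0, 0, -2, 0, 0, 2, 0, 0, 2, 2, 0, 0, -2, -2, 0, 0] : List ℤ)],
   Ins.push 1 [([0, -2, -2, 0, 0, 0, 0, 2, 0, 2, -2, 0, 0, 0, 0, 0, 2, 0, 0, -2, 0, 0, 2, 0] : List ℤ)],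
   Ins.push 1 [([0, -2, 0, 0, 0, 2, 0, 0, -2, 0, 0, -2, 2, 0, 0, -2, 2, 0, 0, 0, 0, 2, 0, 0] : List ℤ)],
   Ins.push 0 [([0, 0, 0, 0, 0, 0, 0, 0, 2, 0, 0, 0, 0, 2, 0, -2, -2, 0, -2, -2, 2, 2, 0, 0] : List ℤ)],
   Ins.push 1 [([0, 0, 2, 0, -2, 0, 0, 0, 0, 0, 0, 0, 0, 0, 0, -2, -2, 2, -2, 2, 0, 0, 2, 0] : List ℤ)],
   Ins.push 1 [([0, 0, 0, -2, -2, 2, 0, 0, 2, 2, 0, 0, 0, 0, 0, 2, -2, 0, -2, 0, 0, 0, 0, 0] : List ℤ)],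
   Ins.push 1 [([0, 0, 0, -2, -2, 0, 2, -2, 0, 0, 0, 0, 2, 0, 0, 0, -2, 2, 2, 0, 0, 0, 0, 0] : List ℤ)],
   Ins.push 0 [([0, 2, -2, -2, 2, -2, 0, 0, 2, 0, 0, 2, 0, -2, 0, 0, 0, 0, 0, 0, 0, 0, 0, 0] : List ℤ)],
   Ins.mark,
   Ins.pop,
   Ins.pop,
   Ins.pop,
   Ins.pop,
   Ins.pop,
   Ins.pop,
   Ins.pop,
   Ins.pop,
   Ins.pop,
   Ins.pop,
   Ins.push 0 [([0, -2, 0, -2, 0, 0, 2, 0, 0, -2, -2, 0, 2, 0, 0, 2, 2, 0, 0, 0, 0, 0, 0, 0] : List ℤ)],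
   Ins.push 0 [([0, 2, 0, -2, 0, 0, 0, -2, 2, 0, 0, 0, -2, 2, 0, 2, 0, 0, -2, 0, 0, 0, 0, 0] : List ℤ)],
   Ins.push 0 [([0, 0, 0, -2, -2, -2, 0, 0, -2, 2, 0, 0, 0, 0, 0, 2, 2, 0, 2, 0, 0, 0, 0, 0] : List ℤ)],
   Ins.push 1 [([0, 0, 0, -2, 2, 0, -2, -2, 0, 0, 0, 0, 2, 0, 0, 0, 2, -2, 2, 0, 0, 0, 0, 0] : List ℤ)],
   Ins.push 0 [([0, -2, 2, -2, 2, -2, 0, 0, 2, 0, 0, -2, 0, 2, 0, 0, 0, 0, 0, 0, 0, 0, 0, 0] : List ℤ)],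
   Ins.mark,
   Ins.pop,
   Ins.pop,
   Ins.pop,
   Ins.pop,
   Ins.pop,
   Ins.pop,
   Ins.push 1 [([0, 0, 0, 2, 0, 0, 0, -2, -2, 0, 0, 0, 0, 0, 2, 0, -2, 0, 2, -2, 0, 0, 2, 0] : List ℤ)],
   Ins.push 1 [([0, 0, 0, 0, 2, 2, 0, 2, 0, 0, 0, 0, 0, 0, 0, -2, -2, -2, 0, 0, 2, -2, 0, 0] : List ℤ)],
   Ins.push 0 [([0, 0, 2, 0, 0, 2, 0, 0, 0, 0, 2, -2, 0, -2, 0, -2, 0, 0, 0, 0, -2, 2, 0, 0] : List ℤ)],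
   Ins.push 0 [([0, 0, 0, 0, 0, 0, 2, 2, 0, -2, -2, 0, 0, 0, 0, -2, 0, 0, 0, -2, 2, 2, 0, 0] : List ℤ)],
   Ins.push 0 [([0, 2, 0, 0, 0, 2, 0, -2, 0, 0, 2, 0, -2, 0, 0, -2, 0, 0, 0, 0, 2, 0, -2, 0] : List ℤ)],
   Ins.push 1 [([0, 2, 2, 0, 0, -2, 2, 0, 0, 0, 0, 2, 0, 0, -2, 0, 0, 0, -2, 0, 0, -2, 0, 0] : List ℤ)],
   Ins.push 0 [([0, 2, 0, 0, -2, 0, 2, 0, 0, 0, 0, 0, 0, 0, 0, 0, 0, -2, 2, 2, -2, -2, 0, 0] : List ℤ)],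
   Ins.push 0 [([0, 2, -2, 0, 2, 0, 0, 0, 0, 0, -2, -2, 0, 0, 0, 0, 0, 0, 2, 0, -2, 0, 2, 0] : List ℤ)],
   Ins.push 1 [([0, -2, -2, 2, 2, 2, 0, 0, -2, 0, 0, 2, 0, -2, 0, 0, 0, 0, 0, 0, 0, 0, 0, 0] : List ℤ)],
   Ins.mark,
   Ins.pop,
   Ins.pop,
   Ins.pop,
   Ins.pop,
   Ins.pop,
   Ins.pop,
   Ins.pop,
   Ins.pop,
   Ins.pop,
   Ins.pop,
   Ins.pop,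
   Ins.pop,
   Ins.push 0 [([0, 0, -2, 0, 0, 2, 0, 2, -2, 0, 0, 0, 0, -2, 0, -2, 2, 0, 0, 0, 0, 0, 2, 0] : List ℤ)],
   Ins.push 1 [([0, 0, 0, 0, 0, 2, 2, 0, -2, 0, 0, 0, 0, 0, 0, 0, 2, -2, -2, 0, 0, 2, -2, 0] : List ℤ)],
   Ins.push 1 [([0, 0, 0, 0, -2, -2, 2, 0, 0, -2, 2, 0, 0, 0, 0, 0, 2, -2, 0, 2, 0, 0, 0, 0] : List ℤ)],
   Ins.push 0 [([0, 2, -2, 0, 0, 0, 0, 2, 0, 0, 0, -2, -2, 2, 0, 0, 0, 0, 0, 0, 0, -2, 2, 0] : List ℤ)],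
   Ins.push 0 [([0, 0, 0, 0, 0, 2, -2, 0, -2, 2, 0, 0, 0, 0, 2, 0, 0, 0, 2, -2, -2, 0, 0, 0] : List ℤ)],
   Ins.push 1 [([0, 0, -2, 0, 2, 0, 2, 0, 0, 0, -2, 0, 2, 0, 0, -2, 0, -2, 0, 0, 2, 0, 0, 0] : List ℤ)],
   Ins.push 1 [([0, -2, 2, 2, 0, 0, 0, 0, -2, -2, 2, 0, 0, 0, 2, 0, 0, 0, -2, 0, 0, 0, 0, 0] : List ℤ)],
   Ins.push 0 [([0, 0, 0, 2, -2, 0, 2, 2, 0, 0, 0, 0, -2, 0, 0, 0, -2, 2, -2, 0, 0, 0, 0, 0] : List ℤ)],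
   Ins.push 0 [([0, 2, -2, 2, -2, 2, 0, 0, -2, 0, 0, 2, 0, -2, 0, 0, 0, 0, 0, 0, 0, 0, 0, 0] : List ℤ)],
   Ins.mark,
   Ins.pop,
   Ins.pop,
   Ins.pop,
   Ins.pop,
   Ins.pop,
   Ins.pop,
   Ins.push 1 [([0, 2, 0, -2, 0, 0, -2, 0, 0, -2, 2, 0, -2, 0, 0, 2, 2, 0, 0, 0, 0, 0, 0, 0] : List ℤ)],
   Ins.push 0 [([0, -2, 0, -2, 0, 0, 0, 2, -2, 0, 0, 0, -2, 2, 0, 2, 0, 0, 2, 0, 0, 0, 0, 0] : List ℤ)],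
   Ins.push 0 [([0, 0, 0, -2, 2, 2, 0, 0, -2, 2, 0, 0, 0, 0, 0, 2, -2, 0, -2, 0, 0, 0, 0, 0] : List ℤ)],
   Ins.push 1 [([0, 0, 0, 2, -2, 0, 2, -2, 0, 0, 0, 0, 2, 0, 0, 0, -2, -2, 2, 0, 0, 0, 0, 0] : List ℤ)],
   Ins.push 0 [([0, 2, -2, 2, 2, -2, 0, 0, 2, 0, 0, -2, 0, -2, 0, 0, 0, 0, 0, 0, 0, 0, 0, 0] : List ℤ)],
   Ins.mark,
   Ins.pop,
   Ins.pop,
   Ins.pop,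
   Ins.pop,
   Ins.pop,
   Ins.pop,
   Ins.pop,
   Ins.push 0 [([0, 0, 0, 0, 0, 2, -2, 0, 0, -2, 0, 0, 0, 2, 2, -2, -2, 0, 0, 0, 0, 2, 0, 0] : List ℤ)],
   Ins.push 1 [([0, 0, 0, 0, 0, 0, 2, 0, 0, 0, -2, 0, -2, 0, 0, 0, -2, 0, -2, 2, 2, 0, 2, 0] : List ℤ)],
   Ins.push 0 [([0, 2, 0, 0, -2, 0, 0, -2, -2, 0, 2, 0, 0, -2, 2, 0, 0, 0, 0, 0, 0, 0, 2, 0] : List ℤ)],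
   Ins.push 1 [([0, 2, 0, -2, 0, 2, 0, 0, 0, 0, 0, 2, 0, 0, 0, 0, 0, -2, 0, 0, 2, -2, -2, 0] : List ℤ)],
   Ins.push 1 [([0, 0, 2, 0, 0, -2, 2, -2, 0, -2, 0, 2, 0, 2, 0, 0, 0, 0, 0, -2, 0, 0, 0, 0] : List ℤ)],
   Ins.push 0 [([0, 2, 0, 0, 0, -2, 2, 0, 0, 2, 0, 0, -2, 0, 0, 0, 0, 0, 0, 2, 0, -2, -2, 0] : List ℤ)],
   Ins.push 1 [([0, 0, 0, 0, 0, -2, -2, 0, 0, 0, 2, 2, 2, 0, -2, 2, 0, 0, 0, -2, 0, 0, 0, 0] : List ℤ)],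
   Ins.push 1 [([0, 2, 0, 0, 0, 0, -2, 0, 0, 0, -2, 0, 0, 2, 2, -2, 0, 0, 2, 0, -2, 0, 0, 0] : List ℤ)],
   Ins.push 1 [([0, -2, -2, 0, 2, 0, 0, 0, 0, 0, -2, 2, 0, 0, 0, 0, 0, 0, -2, 0, 2, 0, 2, 0] : List ℤ)],
   Ins.push 1 [([0, -2, 2, 2, -2, 2, 0, 0, -2, 0, 0, -2, 0, 2, 0, 0, 0, 0, 0, 0, 0, 0, 0, 0] : List ℤ)],
   Ins.mark,
   Ins.pop,
   Ins.pop,
   Ins.pop,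
   Ins.pop,
   Ins.pop,
   Ins.pop,
   Ins.pop,
   Ins.pop,
   Ins.pop,
   Ins.pop,
   Ins.pop,
   Ins.pop,
   Ins.push 0 [([0, 2, 0, 2, -2, 0, 2, 0, 0, 0, 0, 0, -2, -2, 0, 0, 0, 0, 0, 0, 2, 0, -2, 0] : List ℤ)],
   Ins.push 1 [([0, 0, 2, -2, 0, -2, 0, 2, 0, 0, 2, 2, 0, 0, -2, 0, 0, 0, 0, 0, 0, 0, -2, 0] : List ℤ)],
   Ins.push 0 [([0, 0, 0, -2, 0, 2, 2, 2, 0, 0, 0, 0, 0, 0, -2, 0, 0, -2, 0, 2, 0, -2, 0, 0] : List ℤ)],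
   Ins.push 1 [([0, 0, 0, 0, 0, 0, 2, -2, 0, -2, 2, 0, 0, 0, 0, 2, 0, 0, 0, -2, -2, 2, 0, 0] : List ℤ)],
   Ins.push 0 [([0, 2, 0, 0, 0, -2, 0, 2, 0, 0, -2, 0, -2, 0, 0, 2, 0, 0, 0, 0, 2, 0, -2, 0] : List ℤ)],
   Ins.push 1 [([0, -2, 2, 0, 0, -2, -2, 0, 0, 0, 0, 2, 0, 0, -2, 0, 0, 0, 2, 0, 0, 2, 0, 0] : List ℤ)],
   Ins.push 0 [([0, -2, 0, 0, 2, 0, 2, 0, 0, 0, 0, 0, 0, 0, 0, 0, 0, -2, -2, 2, 2, -2, 0, 0] : List ℤ)],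
   Ins.push 0 [([0, 2, 2, 0, -2, 0, 0, 0, 0, 0, 2, -2, 0, 0, 0, 0, 0, 0, -2, 0, -2, 0, 2, 0] : List ℤ)],
   Ins.push 1 [([0, 2, -2, -2, -2, 2, 0, 0, 2, 0, 0, 2, 0, -2, 0, 0, 0, 0, 0, 0, 0, 0, 0, 0] : List ℤ)],
   Ins.mark,
   Ins.pop,
   Ins.pop,
   Ins.push 1 [([0, 0, 2, 2, -2, 0, 0, 0, 0, -2, 2, -2, 0, 0, 0, 2, 0, 0, 0, -2, 0, 0, 0, 0] : List ℤ)],
   Ins.push 0 [([0, 0, -2, 2, 0, 0, 2, 2, 0, 0, 0, 0, -2, 0, 0, 2, 0, 0, 0, -2, 0, 0, -2, 0] : List ℤ)],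
   Ins.push 1 [([0, 0, 0, 0, 0, -2, 0, 2, -2, 0, 2, 0, 0, 0, -2, -2, 0, 0, 2, 0, 0, 2, 0, 0] : List ℤ)],
   Ins.push 1 [([0, 2, 0, 0, 2, 0, -2, 0, 0, 0, 0, 0, 0, 0, 0, 0, 0, -2, -2, 2, -2, 2, 0, 0] : List ℤ)],
   Ins.push 0 [([0, -2, 2, 0, -2, 0, 0, 0, 0, 0, -2, -2, 0, 0, 0, 0, 0, 0, 2, 0, 2, 0, 2, 0] : List ℤ)],
   Ins.push 1 [([0, -2, 2, -2, 2, 2, 0, 0, 2, 0, 0, -2, 0, -2, 0, 0, 0, 0, 0, 0, 0, 0, 0, 0] : List ℤ)],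
   Ins.mark,
   Ins.pop,
   Ins.pop,
   Ins.pop,
   Ins.pop,
   Ins.pop,
   Ins.push 1 [([0, 2, 0, -2, 0, 0, 0, 2, 2, 0, 0, 0, -2, -2, 0, -2, 0, 0, 2, 0, 0, 0, 0, 0] : List ℤ)],
   Ins.push 0 [([0, 0, 0, -2, 2, 2, 0, 0, -2, -2, 0, 0, 0, 0, 0, -2, 2, 0, 2, 0, 0, 0, 0, 0] : List ℤ)],
   Ins.push 1 [([0, 0, 0, 2, 2, 0, 2, -2, 0, 0, 0, 0, -2, 0, 0, 0, 2, -2, -2, 0, 0, 0, 0, 0] : List ℤ)],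
   Ins.push 0 [([0, 2, 2, 2, -2, -2, 0, 0, -2, 0, 0, -2, 0, 2, 0, 0, 0, 0, 0, 0, 0, 0, 0, 0] : List ℤ)],
   Ins.mark,
   Ins.pop,
   Ins.pop,
   Ins.pop,
   Ins.pop,
   Ins.pop,
   Ins.pop,
   Ins.push 1 [([0, 0, 0, 0, 2, 0, -2, 0, 2, 0, -2, -2, 0, 2, 0, 0, 0, 0, 0, 2, -2, 0, 0, 0] : List ℤ)],
   Ins.push 0 [([0, -2, 2, 0, 0, 0, 0, -2, 0, 2, -2, 0, 0, 0, 0, 0, 2, 0, 0, -2, 0, 0, 2, 0] : List ℤ)],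
   Ins.push 1 [([0, -2, 0, 0, 0, 2, 0, 0, 2, 0, 0, -2, 2, 0, 0, -2, 2, 0, 0, 0, 0, -2, 0, 0] : List ℤ)],
   Ins.push 0 [([0, 0, 0, 0, 0, 0, 0, 0, 2, 0, 0, 0, 0, 2, 0, -2, 2, 0, -2, -2, -2, 2, 0, 0] : List ℤ)],
   Ins.push 1 [([0, 0, -2, 0, -2, 0, 0, 0, 0, 0, 0, 0, 0, 0, 0, -2, 2, 2, -2, 2, 0, 0, 2, 0] : List ℤ)],
   Ins.push 1 [([0, 0, 0, -2, -2, 2, 0, 0, -2, 2, 0, 0, 0, 0, 0, 2, 2, 0, -2, 0, 0, 0, 0, 0] : List ℤ)],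
   Ins.push 1 [([0, 0, 0, -2, -2, 0, 2, -2, 0, 0, 0, 0, 2, 0, 0, 0, 2, -2, 2, 0, 0, 0, 0, 0] : List ℤ)],
   Ins.push 0 [([0, 2, -2, -2, 2, -2, 0, 0, 2, 0, 0, -2, 0, 2, 0, 0, 0, 0, 0, 0, 0, 0, 0, 0] : List ℤ)],
   Ins.mark,
   Ins.pop,
   Ins.pop,
   Ins.pop,
   Ins.pop,
   Ins.pop,
   Ins.pop,
   Ins.pop,
   Ins.pop,
   Ins.pop,
   Ins.push 0 [([0, 0, 0, 0, 0, 2, 0, -2, -2, 0, 2, 0, 0, 0, -2, 2, 0, 0, 2, 0, 0, -2, 0, 0] : List ℤ)],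
   Ins.push 1 [([0, 2, 0, 0, 2, 0, 2, 0, 0, 0, 0, 0, 0, 0, 0, 0, 0, -2, 2, -2, -2, -2, 0, 0] : List ℤ)],
   Ins.push 1 [([0, 0, -2, 2, 2, 0, 0, 0, 0, -2, 2, 2, 0, 0, 0, -2, 0, 0, 0, -2, 0, 0, 0, 0] : List ℤ)],
   Ins.push 1 [([0, 2, 0, 2, 0, 0, 0, 2, -2, 0, 0, 0, -2, 2, 0, -2, 0, 0, -2, 0, 0, 0, 0, 0] : List ℤ)],
   Ins.push 0 [([0, 0, 0, 2, -2, 2, 0, 0, -2, 2, 0, 0, 0, 0, 0, -2, -2, 0, 2, 0, 0, 0, 0, 0] : List ℤ)],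
   Ins.push 1 [([0, 0, 0, -2, 2, 0, 2, 2, 0, 0, 0, 0, 2, 0, 0, 0, -2, -2, -2, 0, 0, 0, 0, 0] : List ℤ)],
   Ins.push 0 [([0, 2, 2, -2, -2, 2, 0, 0, 2, 0, 0, -2, 0, -2, 0, 0, 0, 0, 0, 0, 0, 0, 0, 0] : List ℤ)],
   Ins.mark,
   Ins.pop,
   Ins.pop,
   Ins.pop,
   Ins.pop,
   Ins.pop,
   Ins.push 0 [([0, 2, 2, 0, 2, 0, 0, 0, 0, 0, -2, -2, 0, 0, 0, 0, 0, 0, 2, 0, -2, 0, -2, 0] : List ℤ)],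
   Ins.push 1 [([0, -2, -2, 2, 2, -2, 0, 0, 2, 0, 0, 2, 0, -2, 0, 0, 0, 0, 0, 0, 0, 0, 0, 0] : List ℤ)],
   Ins.mark,
   Ins.pop,
   Ins.pop,
   Ins.pop,
   Ins.pop,
   Ins.pop,
   Ins.push 1 [([0, 2, -2, 0, 0, 0, 0, 0, 0, 0, 2, 0, -2, 0, 0, -2, 0, 0, 2, 2, 0, -2, 0, 0] : List ℤ)],
   Ins.push 1 [([0, 2, 0, 0, 2, 0, 0, 0, -2, 0, 0, 2, 0, 0, -2, 2, 0, 0, -2, -2, 0, 0, 0, 0] : List ℤ)],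
   Ins.push 0 [([0, 0, 2, 0, -2, 0, 0, 0, 0, 0, 0, 0, 0, 0, 0, 2, -2, -2, 2, 2, 0, 0, -2, 0] : List ℤ)],
   Ins.push 1 [([0, 0, 0, -2, 2, -2, 0, 0, 2, -2, 0, 0, 0, 0, 0, 2, -2, 0, 2, 0, 0, 0, 0, 0] : List ℤ)],
   Ins.push 1 [([0, 0, 0, 2, 2, 0, -2, -2, 0, 0, 0, 0, -2, 0, 0, 0, -2, 2, 2, 0, 0, 0, 0, 0] : List ℤ)],
   Ins.push 0 [([0, -2, 2, 2, 2, -2, 0, 0, -2, 0, 0, 2, 0, -2, 0, 0, 0, 0, 0, 0, 0, 0, 0, 0] : List ℤ)],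
   Ins.mark,
   Ins.pop,
   Ins.pop,
   Ins.pop,
   Ins.pop,
   Ins.push 1 [([0, 0, 0, 2, -2, 0, 0, 0, 0, 0, 0, 2, 0, 2, 0, -2, 0, -2, 2, 0, -2, 0, 0, 0] : List ℤ)],
   Ins.push 0 [([0, 0, -2, 2, 2, 0, 0, 0, 0, 2, -2, -2, 0, 0, 0, -2, 0, 0, 0, 2, 0, 0, 0, 0] : List ℤ)],
   Ins.push 1 [([0, -2, 0, 2, 0, 0, 0, 2, -2, 0, 0, 0, 2, -2, 0, 2, 0, 0, -2, 0, 0, 0, 0, 0] : List ℤ)],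
   Ins.push 0 [([0, 0, 0, 2, -2, 2, 0, 0, 2, -2, 0, 0, 0, 0, 0, 2, -2, 0, -2, 0, 0, 0, 0, 0] : List ℤ)],
   Ins.push 1 [([0, 0, 0, -2, -2, 0, 2, 2, 0, 0, 0, 0, -2, 0, 0, 0, -2, 2, 2, 0, 0, 0, 0, 0] : List ℤ)],
   Ins.push 0 [([0, 2, -2, -2, 2, 2, 0, 0, -2, 0, 0, 2, 0, -2, 0, 0, 0, 0, 0, 0, 0, 0, 0, 0] : List ℤ)],
   Ins.mark,
   Ins.pop,
   Ins.pop,
   Ins.pop,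
   Ins.pop,
   Ins.push 0 [([0, 0, 2, 2, 0, 0, -2, -2, 0, 0, 0, 0, 2, 0, 0, -2, 0, 0, 0, -2, 0, 0, 2, 0] : List ℤ)],
   Ins.push 1 [([0, 0, 0, 0, 0, 2, 0, 2, 2, 0, -2, 0, 0, 0, 2, -2, 0, 0, -2, 0, 0, -2, 0, 0] : List ℤ)],
   Ins.push 1 [([0, -2, 0, 0, -2, 0, 2, 0, 0, 0, 0, 0, 0, 0, 0, 0, 0, 2, -2, -2, 2, 2, 0, 0] : List ℤ)],
   Ins.push 0 [([0, 2, -2, 0, -2, 0, 0, 0, 0, 0, 2, 2, 0, 0, 0, 0, 0, 0, -2, 0, 2, 0, -2, 0] : List ℤ)],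
   Ins.push 1 [([0, 2, 2, -2, -2, -2, 0, 0, -2, 0, 0, 2, 0, 2, 0, 0, 0, 0, 0, 0, 0, 0, 0, 0] : List ℤ)],
   Ins.mark,
   Ins.pop,
   Ins.pop,
   Ins.pop,
   Ins.pop,
   Ins.pop,
   Ins.pop,
   Ins.pop,
   Ins.pop,
   Ins.pop,
   Ins.pop,
   Ins.push 0 [([0, 2, 0, -2, 0, 2, 0, 0, 0, 0, 0, -2, 0, 0, 0, 0, 0, -2, 0, 0, -2, 2, 2, 0] : List ℤ)],
   Ins.push 1 [([0, 0, -2, 0, 0, 2, 2, -2, 0, -2, 0, 2, 0, -2, 0, 0, 0, 0, 0, 2, 0, 0, 0, 0] : List ℤ)],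
   Ins.push 1 [([0, 0, 0, 0, 0, 0, 2, 0, -2, 0, 2, 0, -2, 2, 0, 2, 0, 0, 0, 0, 0, -2, -2, 0] : List ℤ)],
   Ins.push 1 [([0, 2, 0, 0, 0, -2, 0, 0, 0, 0, 2, 0, 0, 0, -2, 0, 0, -2, 2, -2, 0, 0, 2, 0] : List ℤ)],
   Ins.push 0 [([0, 0, 0, 0, 2, 0, 0, 2, 0, 0, 0, -2, 0, 0, 2, 0, 0, -2, 2, 0, 0, -2, -2, 0] : List ℤ)],
   Ins.push 0 [([0, 0, 2, 0, 2, 2, 0, 0, 0, 0, 0, -2, 0, 0, -2, 0, 0, 2, 0, -2, -2, 0, 0, 0] : List ℤ)],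
   Ins.push 1 [([0, 0, -2, 2, 0, 0, 2, 0, 2, 2, 0, 0, 0, -2, 0, -2, 0, 0, 0, 0, -2, 0, 0, 0] : List ℤ)],
   Ins.push 0 [([0, 2, 0, 2, 0, 0, -2, 0, 0, -2, -2, 0, 2, 0, 0, -2, 2, 0, 0, 0, 0, 0, 0, 0] : List ℤ)],
   Ins.push 0 [([0, -2, 0, 2, 0, 0, 0, -2, 2, 0, 0, 0, -2, 2, 0, -2, 0, 0, 2, 0, 0, 0, 0, 0] : List ℤ)],
   Ins.push 0 [([0, 0, 0, 2, 2, -2, 0, 0, -2, 2, 0, 0, 0, 0, 0, -2, 2, 0, -2, 0, 0, 0, 0, 0] : List ℤ)],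
   Ins.push 1 [([0, 0, 0, 2, -2, 0, -2, 2, 0, 0, 0, 0, 2, 0, 0, 0, 2, -2, -2, 0, 0, 0, 0, 0] : List ℤ)],
   Ins.push 0 [([0, -2, -2, 2, -2, 2, 0, 0, 2, 0, 0, -2, 0, 2, 0, 0, 0, 0, 0, 0, 0, 0, 0, 0] : List ℤ)],
   Ins.mark,
   Ins.pop,
   Ins.pop,
   Ins.pop,
   Ins.pop,
   Ins.pop,
   Ins.pop,
   Ins.pop,
   Ins.pop,
   Ins.pop,
   Ins.pop,
   Ins.push 0 [([0, 2, 0, 0, 0, -2, -2, 0, 0, -2, 0, 0, -2, 0, 0, 0, 0, 0, 0, 2, 0, 2, 2, 0] : List ℤ)],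
   Ins.push 0 [([0, -2, 0, 0, 0, 0, 0, 0, -2, 0, 0, 0, -2, 0, 2, 0, 0, 0, 2, 0, 2, -2, 2, 0] : List ℤ)],
   Ins.push 1 [([0, 0, 2, 0, 2, 2, 0, 0, 0, 0, 0, -2, 0, 0, -2, 0, 0, -2, 0, -2, 2, 0, 0, 0] : List ℤ)],
   Ins.push 1 [([0, 0, 2, 2, 0, 0, 2, 0, 2, -2, 0, 0, 0, -2, 0, -2, 0, 0, 0, 0, -2, 0, 0, 0] : List ℤ)],
   Ins.push 0 [([0, 2, 0, 2, 0, 0, 2, 0, 0, -2, -2, 0, -2, 0, 0, -2, 2, 0, 0, 0, 0, 0, 0, 0] : List ℤ)],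
   Ins.push 0 [([0, 2, 0, 2, 0, 0, 0, -2, -2, 0, 0, 0, -2, 2, 0, -2, 0, 0, 2, 0, 0, 0, 0, 0] : List ℤ)],
   Ins.push 0 [([0, 0, 0, 2, 2, -2, 0, 0, -2, 2, 0, 0, 0, 0, 0, -2, -2, 0, 2, 0, 0, 0, 0, 0] : List ℤ)],
   Ins.push 1 [([0, 0, 0, 2, 2, 0, -2, 2, 0, 0, 0, 0, 2, 0, 0, 0, -2, -2, -2, 0, 0, 0, 0, 0] : List ℤ)],
   Ins.push 0 [([0, -2, 2, 2, -2, 2, 0, 0, 2, 0, 0, -2, 0, -2, 0, 0, 0, 0, 0, 0, 0, 0, 0, 0] : List ℤ)],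
   Ins.mark,
   Ins.pop,
   Ins.pop,
   Ins.pop,
   Ins.pop,
   Ins.pop,
   Ins.pop,
   Ins.pop,
   Ins.pop,
   Ins.push 1 [([0, 0, 0, 0, 0, 2, -2, 0, 0, 0, -2, 2, -2, 0, -2, 2, 0, 0, 0, 2, 0, 0, 0, 0] : List ℤ)],
   Ins.push 1 [([0, -2, 0, 0, 0, 0, 2, 0, 0, 0, -2, 0, 0, 2, -2, 2, 0, 0, 2, 0, -2, 0, 0, 0] : List ℤ)],
   Ins.push 1 [([0, -2, -2, 0, 2, 0, 0, 0, 0, 0, 2, -2, 0, 0, 0, 0, 0, 0, 2, 0, -2, 0, 2, 0] : List ℤ)],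
   Ins.push 1 [([0, 2, -2, 2, 2, 2, 0, 0, -2, 0, 0, -2, 0, -2, 0, 0, 0, 0, 0, 0, 0, 0, 0, 0] : List ℤ)],
   Ins.mark,
   Ins.pop,
   Ins.pop,
   Ins.pop,
   Ins.pop,
   Ins.pop,
   Ins.pop,
   Ins.pop,
   Ins.pop,
   Ins.push 1 [([0, 2, 0, 0, 0, -2, -2, -2, 2, 0, 0, 0, 0, 2, 0, 0, 0, 0, 0, 0, -2, 2, 0, 0] : List ℤ)],
   Ins.push 0 [([0, -2, 0, 0, 0, -2, 0, 0, 0, 2, -2, 0, 0, 0, 0, 0, 2, 0, 2, 0, 2, -2, 0, 0] : List ℤ)],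
   Ins.push 1 [([0, -2, 2, 0, 2, 0, -2, 0, 0, 0, 0, -2, 2, 0, 0, 0, 2, 0, 0, -2, 0, 0, 0, 0] : List ℤ)],
   Ins.push 1 [([0, 0, 0, 2, 0, 0, 0, 0, 2, 0, -2, -2, 0, -2, 2, -2, 2, 0, 0, 0, 0, 0, 0, 0] : List ℤ)],
   Ins.push 1 [([0, -2, 0, 0, 0, 0, 0, 2, 0, 0, 0, 0, 0, -2, 0, 0, 2, 2, -2, 0, 2, 0, -2, 0] : List ℤ)],
   Ins.push 0 [([0, 0, 0, 0, -2, 2, 0, 0, 0, -2, 2, 2, 0, 2, -2, 0, 0, 0, -2, 0, 0, 0, 0, 0] : List ℤ)],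
   Ins.push 1 [([0, 2, 0, -2, -2, 0, 2, 0, 0, 0, 0, 0, -2, 2, 0, 0, 0, 0, 0, 0, -2, 0, 2, 0] : List ℤ)],
   Ins.push 0 [([0, 2, -2, -2, 0, 0, 0, 0, -2, 2, -2, 0, 0, 0, 2, 0, 0, 0, 2, 0, 0, 0, 0, 0] : List ℤ)],
   Ins.push 0 [([0, 0, 0, -2, 2, 0, -2, -2, 0, 0, 0, 0, 2, 0, 0, 0, -2, 2, 2, 0, 0, 0, 0, 0] : List ℤ)],
   Ins.push 0 [([0, -2, 2, -2, 2, -2, 0, 0, 2, 0, 0, 2, 0, -2, 0, 0, 0, 0, 0, 0, 0, 0, 0, 0] : List ℤ)],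
   Ins.mark,
   Ins.pop,
   Ins.pop,
   Ins.pop,
   Ins.pop,
   Ins.pop,
   Ins.pop,
   Ins.pop,
   Ins.push 0 [([0, -2, 2, 0, 0, 0, 2, 0, 2, 0, 0, 0, 0, 2, 0, 0, 0, 0, -2, -2, 0, 0, -2, 0] : List ℤ)],
   Ins.push 1 [([0, 0, 0, 0, -2, -2, 0, 0, 2, 0, 2, -2, 0, 0, 0, -2, 0, 2, 0, 0, 0, 0, 2, 0] : List ℤ)],
   Ins.push 0 [([0, 0, -2, 0, 0, 0, 0, 2, 0, 0, 0, 2, 0, 0, 2, -2, 2, 0, 0, -2, 0, -2, 0, 0] : List ℤ)],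
   Ins.push 1 [([0, 0, 0, 0, 0, 0, 0, 0, -2, 0, 0, 0, 0, 2, 0, -2, 2, 0, -2, -2, 2, 2, 0, 0] : List ℤ)],
   Ins.push 1 [([0, 0, 2, 0, -2, 0, 0, 0, 0, 0, 0, 0, 0, 0, 0, -2, 2, -2, -2, 2, 0, 0, 2, 0] : List ℤ)],
   Ins.push 1 [([0, 0, 0, -2, -2, 2, 0, 0, 2, -2, 0, 0, 0, 0, 0, 2, 2, 0, -2, 0, 0, 0, 0, 0] : List ℤ)],
   Ins.push 1 [([0, 0, 0, -2, -2, 0, 2, -2, 0, 0, 0, 0, -2, 0, 0, 0, 2, 2, 2, 0, 0, 0, 0, 0] : List ℤ)],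
   Ins.push 0 [([0, 2, -2, -2, 2, -2, 0, 0, -2, 0, 0, 2, 0, 2, 0, 0, 0, 0, 0, 0, 0, 0, 0, 0] : List ℤ)],
   Ins.mark,
   Ins.pop,
   Ins.pop,
   Ins.pop,
   Ins.pop,
   Ins.pop,
   Ins.pop,
   Ins.pop,
   Ins.pop,
   Ins.pop,
   Ins.pop,
   Ins.push 1 [([0, 0, -2, 0, 0, 0, -2, 0, 0, 0, -2, 2, 0, 0, 0, 0, 0, 2, 0, 2, 0, -2, 2, 0] : List ℤ)],
   Ins.push 1 [([0, -2, 0, 0, 0, 2, 0, 0, -2, 2, -2, 0, 0, 2, 0, 2, 0, 0, 0, -2, 0, 0, 0, 0] : List ℤ)],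
   Ins.push 1 [([0, -2, 0, 0, 0, 0, 2, 0, 0, 0, 0, -2, 2, 0, 0, -2, 0, -2, 2, 0, 0, 0, 2, 0] : List ℤ)],
   Ins.push 0 [([0, 2, 0, 0, 2, 0, 0, 0, 2, 0, 0, -2, 0, 0, 2, -2, 0, 0, -2, -2, 0, 0, 0, 0] : List ℤ)],
   Ins.push 0 [([0, 0, 2, 0, -2, 0, 0, 0, 0, 0, 0, 0, 0, 0, 0, -2, 2, 2, 2, -2, 0, 0, -2, 0] : List ℤ)],
   Ins.push 1 [([0, 0, 0, -2, 2, -2, 0, 0, 2, 2, 0, 0, 0, 0, 0, -2, 2, 0, -2, 0, 0, 0, 0, 0] : List ℤ)],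
   Ins.push 1 [([0, 0, 0, 2, -2, 0, -2, -2, 0, 0, 0, 0, 2, 0, 0, 0, 2, 2, -2, 0, 0, 0, 0, 0] : List ℤ)],
   Ins.push 0 [([0, -2, -2, 2, -2, -2, 0, 0, 2, 0, 0, 2, 0, 2, 0, 0, 0, 0, 0, 0, 0, 0, 0, 0] : List ℤ)],
   Ins.mark,
   Ins.pop,
   Ins.pop,
   Ins.pop,
   Ins.pop,
   Ins.pop,
   Ins.pop,
   Ins.pop,
   Ins.push 0 [([0, -2, 0, 0, 0, 0, -2, -2, 0, 0, 0, 2, 0, 0, 2, 0, 0, 0, 0, 2, -2, 0, 2, 0] : List ℤ)],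
   Ins.push 1 [([0, 0, -2, 0, 0, 2, 0, 0, 0, 0, -2, -2, 0, 2, 0, 2, 0, 0, 0, 0, 2, -2, 0, 0] : List ℤ)],
   Ins.push 0 [([0, 0, 0, 0, 0, 0, -2, -2, 0, 2, 2, 0, 0, 0, 0, 2, 0, 0, 0, -2, -2, 2, 0, 0] : List ℤ)],
   Ins.push 0 [([0, -2, 0, 0, 0, -2, 0, 2, 0, 0, -2, 0, 2, 0, 0, 2, 0, 0, 0, 0, 2, 0, -2, 0] : List ℤ)],
   Ins.push 0 [([0, 0, 0, 0, 0, 2, 0, -2, 2, 0, 2, 0, 0, 0, -2, 2, 0, 0, -2, 0, 0, -2, 0, 0] : List ℤ)],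
   Ins.push 1 [([0, 2, 0, 0, -2, 0, 2, 0, 0, 0, 0, 0, 0, 0, 0, 0, 0, 2, 2, -2, -2, -2, 0, 0] : List ℤ)],
   Ins.push 0 [([0, 2, -2, 0, 2, 0, 0, 0, 0, 0, -2, 2, 0, 0, 0, 0, 0, 0, 2, 0, -2, 0, -2, 0] : List ℤ)],
   Ins.push 1 [([0, -2, -2, 2, 2, -2, 0, 0, -2, 0, 0, 2, 0, 2, 0, 0, 0, 0, 0, 0, 0, 0, 0, 0] : List ℤ)],
   Ins.mark,
   Ins.pop,
   Ins.pop,
   Ins.pop,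
   Ins.pop,
   Ins.pop,
   Ins.pop,
   Ins.pop,
   Ins.pop,
   Ins.pop,
   Ins.pop,
   Ins.pop,
   Ins.push 0 [([0, 2, -2, 2, 0, 0, 0, 0, -2, -2, 2, 0, 0, 0, -2, 0, 0, 0, 2, 0, 0, 0, 0, 0] : List ℤ)],
   Ins.push 1 [([0, 2, 0, 0, 2, 0, 0, 2, -2, 0, 0, 2, -2, 0, 0, 0, 0, -2, 0, 0, -2, 0, 0, 0] : List ℤ)],
   Ins.push 0 [([0, 0, 2, 0, 0, 2, 0, 0, -2, 0, -2, -2, 0, 0, 0, 0, -2, 0, 2, 2, 0, 0, 0, 0] : List ℤ)],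
   Ins.push 0 [([0, 0, 0, 0, 2, 0, 2, -2, 0, 0, 0, 0, 0, -2, 0, 0, -2, 0, 0, -2, 0, 2, 2, 0] : List ℤ)],
   Ins.push 0 [([0, 2, 2, 0, 0, -2, 0, 0, 0, -2, 0, 0, 0, -2, 2, 0, 0, 0, 0, 0, 2, 0, -2, 0] : List ℤ)],
   Ins.push 1 [([0, 0, 2, 0, 0, -2, -2, 0, 2, 0, 0, 2, -2, 0, 0, 0, 0, 0, 0, 0, 2, 0, -2, 0] : List ℤ)],
   Ins.push 0 [([0, -2, 0, 0, 0, 0, 2, 0, -2, 0, 2, 0, 0, 0, -2, 0, 2, 0, 0, 2, 0, -2, 0, 0] : List ℤ)],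
   Ins.push 0 [([0, 2, 0, 0, 0, 0, 0, 2, 0, 0, 0, 0, 0, 2, 0, 0, -2, -2, -2, 0, -2, 0, 2, 0] : List ℤ)],
   Ins.push 0 [([0, 0, 0, 0, -2, 2, 0, 0, 0, 2, -2, -2, 0, -2, 2, 0, 0, 0, 2, 0, 0, 0, 0, 0] : List ℤ)],
   Ins.push 1 [([0, -2, 0, -2, 2, 0, 2, 0, 0, 0, 0, 0, 2, -2, 0, 0, 0, 0, 0, 0, 2, 0, -2, 0] : List ℤ)],
   Ins.push 0 [([0, 2, 2, -2, 0, 0, 0, 0, 2, -2, 2, 0, 0, 0, -2, 0, 0, 0, -2, 0, 0, 0, 0, 0] : List ℤ)],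
   Ins.push 0 [([0, 0, 0, -2, -2, 0, 2, 2, 0, 0, 0, 0, -2, 0, 0, 0, 2, -2, 2, 0, 0, 0, 0, 0] : List ℤ)],
   Ins.push 0 [([0, 2, -2, -2, 2, 2, 0, 0, -2, 0, 0, -2, 0, 2, 0, 0, 0, 0, 0, 0, 0, 0, 0, 0] : List ℤ)],
   Ins.mark,
   Ins.pop,
   Ins.pop,
   Ins.pop,
   Ins.pop,
   Ins.pop,
   Ins.pop,
   Ins.pop,
   Ins.pop,
   Ins.pop,
   Ins.pop,
   Ins.push 1 [([0, -2, 0, 0, 2, 0, 2, 0, 2, 0, 0, 0, 0, -2, 0, 2, -2, -2, 0, 0, 0, 0, 0, 0] : List ℤ)],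
   Ins.push 1 [([0, 0, 0, 2, 0, 0, 0, 0, 0, -2, 2, -2, 0, 0, 0, 0, -2, 2, 2, 0, 0, 0, -2, 0] : List ℤ)],
   Ins.push 0 [([0, 0, 0, 2, 2, 0, 0, 2, 0, 0, 0, 2, -2, -2, -2, 0, 0, 0, 0, -2, 0, 0, 0, 0] : List ℤ)],
   Ins.push 0 [([0, 0, 2, 2, 0, 2, 0, 0, -2, -2, 0, 0, 0, 0, 0, 0, 0, -2, 0, 2, 0, 0, -2, 0] : List ℤ)],
   Ins.push 0 [([0, 0, 0, 2, 0, 0, 2, 0, 0, 0, 0, -2, -2, 0, -2, 0, -2, 0, 0, 0, 0, 2, 2, 0] : List ℤ)],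
   Ins.push 1 [([0, 0, 0, 0, 0, 2, 0, 2, 0, 0, 2, 0, 0, -2, -2, 0, -2, 0, 0, 2, -2, 0, 0, 0] : List ℤ)],
   Ins.push 1 [([0, 2, -2, 0, 0, 0, 2, 0, 0, 0, 0, 0, 0, 0, 0, 2, -2, 0, 0, 0, -2, 2, -2, 0] : List ℤ)],
   Ins.push 0 [([0, 2, 0, 0, 0, 0, -2, 0, 0, 0, -2, 0, 0, -2, -2, 2, 0, 0, 2, 0, 2, 0, 0, 0] : List ℤ)],
   Ins.push 1 [([0, -2, 2, 0, 2, 0, 0, 0, 0, 0, -2, 2, 0, 0, 0, 0, 0, 0, 2, 0, -2, 0, -2, 0] : List ℤ)],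
   Ins.push 1 [([0, -2, -2, 2, 2, -2, 0, 0, 2, 0, 0, -2, 0, 2, 0, 0, 0, 0, 0, 0, 0, 0, 0, 0] : List ℤ)],
   Ins.mark,
   Ins.pop,
   Ins.pop,
   Ins.pop,
   Ins.pop,
   Ins.pop,
   Ins.pop,
   Ins.pop,
   Ins.pop,
   Ins.pop,
   Ins.pop,
   Ins.pop,
   Ins.pop,
   Ins.push 0 [([0, 0, 0, 2, 2, 0, -2, 2, 0, 0, 0, 0, -2, 0, 0, 0, -2, -2, 2, 0, 0, 0, 0, 0] : List ℤ)],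
   Ins.push 1 [([0, 0, 0, 2, 2, 0, 0, 2, 0, -2, -2, 0, 0, 0, -2, 0, -2, 0, 0, 0, 0, 2, 0, 0] : List ℤ)],
   Ins.push 1 [([0, -2, 0, 2, 0, 0, 0, 2, 0, 0, 0, 0, -2, 0, 0, 0, -2, 0, 0, 2, -2, 2, 0, 0] : List ℤ)],
   Ins.push 0 [([0, 0, 0, 2, 0, 2, 0, 0, -2, 0, -2, 0, 0, -2, 0, 0, 0, 0, -2, 0, 2, 0, 2, 0] : List ℤ)],
   Ins.push 0 [([0, 0, 0, 2, -2, 0, 0, -2, 0, -2, 2, 0, 0, 0, 2, 0, -2, 0, 0, 0, 0, 2, 0, 0] : List ℤ)],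
   Ins.push 1 [([0, 2, 0, -2, 0, 0, 0, 2, 0, 0, 0, 0, -2, 0, 0, 0, -2, 0, 0, 2, 2, -2, 0, 0] : List ℤ)],
   Ins.push 0 [([0, 0, 0, -2, 0, 2, 0, 0, -2, 0, 2, 0, 0, -2, 0, 0, 0, 0, 2, 0, -2, 0, 2, 0] : List ℤ)],
   Ins.push 1 [([0, 2, -2, 0, 2, 2, 2, -2, 0, 0, 0, 0, 0, 0, 0, 0, 0, -2, 0, 0, 0, 0, -2, 0] : List ℤ)],
   Ins.push 0 [([0, 2, 2, 0, 0, -2, -2, 0, 0, 0, 0, -2, 0, 0, -2, 0, 0, 0, 2, 0, 0, 2, 0, 0] : List ℤ)],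
   Ins.push 0 [([0, -2, 0, 0, 2, 0, 2, 0, 0, 0, 0, 0, 0, 0, 0, 0, 0, -2, 2, -2, 2, -2, 0, 0] : List ℤ)],
   Ins.push 0 [([0, 2, 2, 0, 2, 0, 0, 0, 0, 0, 2, -2, 0, 0, 0, 0, 0, 0, -2, 0, -2, 0, -2, 0] : List ℤ)],
   Ins.push 1 [([0, 2, -2, 2, -2, -2, 0, 0, 2, 0, 0, 2, 0, -2, 0, 0, 0, 0, 0, 0, 0, 0, 0, 0] : List ℤ)],
   Ins.mark,
   Ins.pop,
   Ins.pop,
   Ins.pop,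
   Ins.pop,
   Ins.pop,
   Ins.pop,
   Ins.pop,
   Ins.pop,
   Ins.push 1 [([0, -2, 2, 0, -2, 2, 2, 2, 0, 0, 0, 0, 0, 0, 0, 0, 0, -2, 0, 0, 0, 0, -2, 0] : List ℤ)],
   Ins.push 1 [([0, 0, 0, -2, 0, -2, 2, 0, 2, -2, 2, -2, 0, 0, 0, 0, 0, 0, 0, 0, 0, 2, 0, 0] : List ℤ)],
   Ins.push 0 [([0, 2, 0, -2, 0, 0, 0, 2, 0, 0, 0, 0, -2, 0, 0, 0, 2, 0, 0, -2, 2, -2, 0, 0] : List ℤ)],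
   Ins.push 1 [([0, 0, 2, 0, 0, 0, 0, -2, 0, 0, 0, 2, 0, 0, -2, -2, 2, 0, 0, -2, 0, 2, 0, 0] : List ℤ)],
   Ins.push 1 [([0, 0, 0, 0, 0, 0, 0, 0, 2, 0, 0, 0, 0, 2, 0, -2, 2, 0, -2, 2, -2, -2, 0, 0] : List ℤ)],
   Ins.push 1 [([0, 0, -2, 0, -2, 0, 0, 0, 0, 0, 0, 0, 0, 0, 0, 2, 2, 2, -2, -2, 0, 0, 2, 0] : List ℤ)],
   Ins.push 1 [([0, 0, 0, -2, -2, 2, 0, 0, -2, 2, 0, 0, 0, 0, 0, -2, 2, 0, 2, 0, 0, 0, 0, 0] : List ℤ)],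
   Ins.push 1 [([0, 0, 0, -2, 2, 0, 2, -2, 0, 0, 0, 0, 2, 0, 0, 0, 2, -2, -2, 0, 0, 0, 0, 0] : List ℤ)],
   Ins.push 0 [([0, 2, 2, -2, -2, -2, 0, 0, 2, 0, 0, -2, 0, 2, 0, 0, 0, 0, 0, 0, 0, 0, 0, 0] : List ℤ)],
   Ins.mark,
   Ins.pop,
   Ins.pop,
   Ins.pop,
   Ins.pop,
   Ins.pop,
   Ins.pop,
   Ins.pop,
   Ins.pop,
   Ins.push 0 [([0, 2, -2, 0, 0, 2, 2, 0, 0, 0, 0, -2, 0, 0, -2, 0, 0, 0, -2, 0, 0, 2, 0, 0] : List ℤ)],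
   Ins.push 0 [([0, 2, 0, 0, -2, 0, -2, 0, 0, 0, 0, 0, 0, 0, 0, 0, 0, -2, 2, -2, 2, 2, 0, 0] : List ℤ)],
   Ins.push 0 [([0, -2, -2, 0, 2, 0, 0, 0, 0, 0, 2, -2, 0, 0, 0, 0, 0, 0, 2, 0, 2, 0, -2, 0] : List ℤ)],
   Ins.push 1 [([0, 2, 2, 2, 2, -2, 0, 0, -2, 0, 0, -2, 0, -2, 0, 0, 0, 0, 0, 0, 0, 0, 0, 0] : List ℤ)],
   Ins.mark,
   Ins.pop,
   Ins.pop,
   Ins.pop,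
   Ins.pop,
   Ins.pop,
   Ins.pop,
   Ins.pop,
   Ins.push 0 [([0, 0, 2, 2, 0, 2, 0, -2, 0, 0, 0, 0, -2, -2, 0, 0, 0, -2, 0, 0, 2, 0, 0, 0] : List ℤ)],
   Ins.push 1 [([0, 0, 2, 0, 0, 0, 2, 2, 2, -2, 0, 0, 0, 0, -2, 0, 0, 0, 0, 0, 0, -2, -2, 0] : List ℤ)],
   Ins.push 1 [([0, 0, 0, 0, 0, -2, 0, 0, 2, 0, 2, 0, -2, 0, 0, 0, 0, 2, 0, -2, -2, 2, 0, 0] : List ℤ)],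
   Ins.push 0 [([0, 0, 0, 0, 0, 0, 0, 2, -2, 0, -2, 2, 0, 0, 0, 0, 2, 0, 0, 0, 2, -2, -2, 0] : List ℤ)],
   Ins.push 0 [([0, 0, 0, 0, 0, 2, 0, -2, 0, 0, 2, 0, 0, 2, -2, 0, -2, 0, 0, 2, -2, 0, 0, 0] : List ℤ)],
   Ins.push 1 [([0, 2, -2, 0, 0, 0, 2, 0, 0, 0, 0, 0, 0, 0, 0, 2, -2, 0, 0, 0, -2, -2, 2, 0] : List ℤ)],
   Ins.push 0 [([0, 2, 0, 0, 0, 0, -2, 0, 0, 0, -2, 0, 0, -2, 2, 2, 0, 0, 2, 0, -2, 0, 0, 0] : List ℤ)],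
   Ins.push 1 [([0, -2, -2, 0, 2, 0, 0, 0, 0, 0, -2, 2, 0, 0, 0, 0, 0, 0, 2, 0, 2, 0, -2, 0] : List ℤ)],
   Ins.push 1 [([0, -2, 2, 2, 2, -2, 0, 0, -2, 0, 0, -2, 0, 2, 0, 0, 0, 0, 0, 0, 0, 0, 0, 0] : List ℤ)],
   Ins.mark,
   Ins.pop,
   Ins.pop,
   Ins.pop,
   Ins.pop,
   Ins.pop,
   Ins.pop,
   Ins.pop,
   Ins.pop,
   Ins.push 0 [([0, 0, 0, 2, 0, -2, 2, 0, -2, -2, 2, -2, 0, 0, 0, 0, 0, 0, 0, 0, 0, 2, 0, 0] : List ℤ)],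
   Ins.push 0 [([0, 2, 0, 2, 0, 0, 0, 2, 0, 0, 0, 0, -2, 0, 0, 0, -2, 0, 0, -2, 2, -2, 0, 0] : List ℤ)],
   Ins.push 0 [([0, 0, 0, 2, 0, 2, 0, 0, -2, 0, 2, 0, 0, -2, 0, 0, 0, 0, 2, 0, -2, 0, -2, 0] : List ℤ)],
   Ins.push 1 [([0, 2, -2, 0, 2, -2, 2, 2, 0, 0, 0, 0, 0, 0, 0, 0, 0, -2, 0, 0, 0, 0, -2, 0] : List ℤ)],
   Ins.push 0 [([0, 2, 2, 0, 0, 2, -2, 0, 0, 0, 0, -2, 0, 0, -2, 0, 0, 0, 2, 0, 0, -2, 0, 0] : List ℤ)],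
   Ins.push 0 [([0, -2, 0, 0, 2, 0, 2, 0, 0, 0, 0, 0, 0, 0, 0, 0, 0, -2, 2, -2, -2, 2, 0, 0] : List ℤ)],
   Ins.push 0 [([0, 2, 2, 0, 2, 0, 0, 0, 0, 0, -2, -2, 0, 0, 0, 0, 0, 0, -2, 0, 2, 0, -2, 0] : List ℤ)],
   Ins.push 1 [([0, -2, 2, 2, -2, -2, 0, 0, 2, 0, 0, 2, 0, -2, 0, 0, 0, 0, 0, 0, 0, 0, 0, 0] : List ℤ)],
   Ins.mark,
   Ins.pop,
   Ins.pop,
   Ins.pop,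
   Ins.pop,
   Ins.pop,
   Ins.pop,
   Ins.pop,
   Ins.pop,
   Ins.pop,
   Ins.pop,
   Ins.pop,
   Ins.pop,
   Ins.pop,
   Ins.pop,
   Ins.push 1 [([0, 0, 0, 2, 0, 0, 2, 2, 2, 0, 0, -2, 0, -2, 0, 0, 0, -2, 0, 0, 0, 0, -2, 0] : List ℤ)],
   Ins.push 1 [([0, 0, 0, 0, 0, -2, 0, 2, 0, -2, 2, 0, 0, -2, 0, 0, 0, 2, 0, 0, 0, 2, -2, 0] : List ℤ)],
   Ins.push 1 [([0, 2, 0, 0, 0, -2, -2, 0, 0, 2, 0, 0, -2, 0, 0, 0, 0, 0, 0, 2, 0, 2, -2, 0] : List ℤ)],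
   Ins.push 1 [([0, 0, 0, 0, 0, -2, -2, 0, 0, 0, -2, 2, 2, 0, -2, 2, 0, 0, 0, 2, 0, 0, 0, 0] : List ℤ)],
   Ins.push 0 [([0, -2, 0, 0, 0, 0, 0, -2, 2, 0, 0, 0, 0, 0, 0, 2, 0, -2, 0, 2, 0, -2, 2, 0] : List ℤ)],
   Ins.push 0 [([0, 0, 0, 0, 0, -2, 0, 0, 0, 0, 0, -2, 0, 0, 2, 2, 2, 0, -2, 0, -2, 0, 2, 0] : List ℤ)],
   Ins.push 0 [([0, 0, 0, 0, -2, 0, 0, 0, 0, 0, -2, 0, 0, 2, 2, 2, 0, 2, 0, -2, 0, -2, 0, 0] : List ℤ)],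
   Ins.push 1 [([0, -2, 0, -2, 0, 0, 0, 0, 0, 2, 0, 0, 0, 0, 0, -2, 0, 0, 2, -2, 2, 0, 2, 0] : List ℤ)],
   Ins.push 1 [([0, 0, 2, 0, 2, 2, 0, -2, 0, 0, 0, -2, 2, 0, 0, -2, 0, 0, -2, 0, 0, 0, 0, 0] : List ℤ)],
   Ins.push 0 [([0, 0, 2, 0, -2, -2, 2, 0, 2, 0, 0, 0, 0, 0, 0, -2, 0, 0, 0, -2, 0, 2, 0, 0] : List ℤ)],
   Ins.push 0 [([0, 2, -2, 0, 0, 0, 2, 0, 0, 0, 0, 0, 0, 0, 0, -2, 2, 0, 0, 0, 2, -2, -2, 0] : List ℤ)],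
   Ins.push 0 [([0, 2, 0, 0, 0, 0, -2, 0, 0, 0, 2, 0, 0, 2, -2, -2, 0, 0, 2, 0, -2, 0, 0, 0] : List ℤ)],
   Ins.push 1 [([0, 2, -2, 0, 2, 0, 0, 0, 0, 0, -2, 2, 0, 0, 0, 0, 0, 0, -2, 0, -2, 0, 2, 0] : List ℤ)],
   Ins.push 1 [([0, -2, -2, 2, -2, 2, 0, 0, -2, 0, 0, 2, 0, 2, 0, 0, 0, 0, 0, 0, 0, 0, 0, 0] : List ℤ)],
   Ins.mark,
   Ins.pop,
   Ins.pop,
   Ins.pop,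
   Ins.pop,
   Ins.pop,
   Ins.pop,
   Ins.pop,
   Ins.pop,
   Ins.pop,
   Ins.pop,
   Ins.pop,
   Ins.push 0 [([0, -2, 0, 0, 0, 0, 0, 0, -2, 0, 0, 0, 2, 0, -2, 0, 0, 0, 2, 0, 2, -2, 2, 0] : List ℤ)],
   Ins.push 1 [([0, 0, 2, 0, 2, 2, 0, 0, 0, 0, 0, -2, 0, 0, 2, 0, 0, -2, 0, -2, -2, 0, 0, 0] : List ℤ)],
   Ins.push 0 [([0, 0, 2, 0, 0, 0, 2, 0, 0, 0, -2, -2, 0, 0, 0, 0, 0, 2, 0, -2, 0, 2, -2, 0] : List ℤ)],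
   Ins.push 1 [([0, -2, 0, 0, 0, -2, 0, 0, 2, 2, 2, 0, 0, -2, 0, -2, 0, 0, 0, 2, 0, 0, 0, 0] : List ℤ)],
   Ins.push 1 [([0, 2, 0, 0, 0, 0, -2, 0, 0, 0, 0, -2, 2, 0, 0, 2, 0, 2, -2, 0, 0, 0, -2, 0] : List ℤ)],
   Ins.push 0 [([0, -2, 0, 0, -2, 0, 0, 0, 2, 0, 0, 2, 0, 0, -2, 2, 0, 0, 2, -2, 0, 0, 0, 0] : List ℤ)],
   Ins.push 0 [([0, 0, -2, 0, 2, 0, 0, 0, 0, 0, 0, 0, 0, 0, 0, 2, 2, -2, -2, 2, 0, 0, -2, 0] : List ℤ)],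
   Ins.push 1 [([0, 0, 0, 2, -2, -2, 0, 0, -2, -2, 0, 0, 0, 0, 0, 2, 2, 0, 2, 0, 0, 0, 0, 0] : List ℤ)],
   Ins.push 1 [([0, 0, 0, -2, 2, 0, -2, 2, 0, 0, 0, 0, -2, 0, 0, 0, 2, -2, 2, 0, 0, 0, 0, 0] : List ℤ)],
   Ins.push 0 [([0, -2, 2, -2, 2, 2, 0, 0, -2, 0, 0, -2, 0, 2, 0, 0, 0, 0, 0, 0, 0, 0, 0, 0] : List ℤ)],
   Ins.mark,
   Ins.pop,
   Ins.pop,
   Ins.pop,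
   Ins.pop,
   Ins.pop,
   Ins.push 1 [([0, 0, 0, 0, -2, -2, 0, 0, 0, 2, -2, 2, 0, -2, 2, 0, 0, 0, 2, 0, 0, 0, 0, 0] : List ℤ)],
   Ins.push 1 [([0, -2, 0, -2, 2, 0, -2, 0, 0, 0, 0, 0, 2, 2, 0, 0, 0, 0, 0, 0, 2, 0, -2, 0] : List ℤ)],
   Ins.push 0 [([0, -2, 2, -2, 0, 0, 0, 0, 2, 2, 2, 0, 0, 0, -2, 0, 0, 0, -2, 0, 0, 0, 0, 0] : List ℤ)],
   Ins.push 0 [([0, 0, 0, -2, -2, 0, 2, 2, 0, 0, 0, 0, 2, 0, 0, 0, 2, -2, -2, 0, 0, 0, 0, 0] : List ℤ)],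
   Ins.push 0 [([0, 2, -2, -2, -2, 2, 0, 0, 2, 0, 0, -2, 0, 2, 0, 0, 0, 0, 0, 0, 0, 0, 0, 0] : List ℤ)],
   Ins.mark,
   Ins.pop,
   Ins.pop,
   Ins.pop,
   Ins.pop,
   Ins.pop,
   Ins.pop,
   Ins.pop,
   Ins.push 0 [([0, 2, 0, 0, 0, 0, 2, -2, 0, 0, 0, 2, 0, 0, -2, 0, 0, 0, 0, -2, 2, 0, -2, 0] : List ℤ)],
   Ins.push 0 [([0, 2, 0, 0, 0, -2, 0, 0, 0, 0, 2, 0, 0, 0, -2, 0, 0, -2, 2, 2, 0, 0, -2, 0] : List ℤ)],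
   Ins.push 1 [([0, 2, 0, 0, 2, -2, -2, 0, 0, -2, 0, 2, 0, 0, 0, 2, 0, 0, 0, 0, -2, 0, 0, 0] : List ℤ)],
   Ins.push 0 [([0, -2, 2, 0, 0, 0, 0, 0, 0, 0, -2, 0, -2, 0, 0, 2, 0, 0, 2, 2, 0, -2, 0, 0] : List ℤ)],
   Ins.push 1 [([0, -2, 0, 0, 2, 0, 0, 0, 2, 0, 0, -2, 0, 0, -2, 2, 0, 0, 2, -2, 0, 0, 0, 0] : List ℤ)],
   Ins.push 0 [([0, 0, 2, 0, 2, 0, 0, 0, 0, 0, 0, 0, 0, 0, 0, 2, 2, -2, -2, -2, 0, 0, -2, 0] : List ℤ)],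
   Ins.push 1 [([0, 0, 0, 2, -2, -2, 0, 0, 2, -2, 0, 0, 0, 0, 0, -2, 2, 0, 2, 0, 0, 0, 0, 0] : List ℤ)],
   Ins.push 1 [([0, 0, 0, -2, 2, 0, -2, 2, 0, 0, 0, 0, -2, 0, 0, 0, 2, 2, -2, 0, 0, 0, 0, 0] : List ℤ)],
   Ins.push 0 [([0, -2, 2, -2, -2, 2, 0, 0, -2, 0, 0, 2, 0, 2, 0, 0, 0, 0, 0, 0, 0, 0, 0, 0] : List ℤ)],
   Ins.mark,
   Ins.pop,
   Ins.pop,
   Ins.pop,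
   Ins.pop,
   Ins.pop,
   Ins.pop,
   Ins.pop,
   Ins.pop,
   Ins.pop,
   Ins.pop,
   Ins.push 1 [([0, 0, -2, 2, 0, 0, 2, 0, 2, -2, 0, 0, 0, -2, 0, -2, 0, 0, 0, 0, 2, 0, 0, 0] : List ℤ)],
   Ins.push 0 [([0, 2, 0, 2, 0, 0, -2, 0, 0, -2, 2, 0, -2, 0, 0, -2, 2, 0, 0, 0, 0, 0, 0, 0] : List ℤ)],
   Ins.push 0 [([0, -2, 0, 2, 0, 0, 0, 2, -2, 0, 0, 0, -2, 2, 0, -2, 0, 0, 2, 0, 0, 0, 0, 0] : List ℤ)],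
   Ins.push 0 [([0, 0, 0, 2, 2, 2, 0, 0, -2, 2, 0, 0, 0, 0, 0, -2, -2, 0, -2, 0, 0, 0, 0, 0] : List ℤ)],
   Ins.push 1 [([0, 0, 0, 2, -2, 0, 2, 2, 0, 0, 0, 0, 2, 0, 0, 0, -2, -2, -2, 0, 0, 0, 0, 0] : List ℤ)],
   Ins.push 0 [([0, 2, -2, 2, -2, 2, 0, 0, 2, 0, 0, -2, 0, -2, 0, 0, 0, 0, 0, 0, 0, 0, 0, 0] : List ℤ)],
   Ins.mark,
   Ins.pop,
   Ins.pop,
   Ins.pop,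
   Ins.pop,
   Ins.pop,
   Ins.pop,
   Ins.pop,
   Ins.pop,
   Ins.pop,
   Ins.push 0 [([0, 0, 0, 0, 0, 2, 0, 2, 0, -2, 0, 2, -2, 0, -2, 0, 0, 0, 0, 0, 2, -2, 0, 0] : List ℤ)],
   Ins.push 0 [([0, 0, 0, 0, 0, 2, 0, 0, -2, 0, 2, 0, -2, 0, 0, 0, 0, -2, 0, 2, -2, 2, 0, 0] : List ℤ)],
   Ins.push 1 [([0, 2, -2, 0, 0, 0, 2, 0, 0, -2, 0, 0, 0, 0, -2, 2, 0, -2, 0, 2, 0, 0, 0, 0] : List ℤ)],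
   Ins.push 0 [([0, 2, 0, 0, 0, 0, -2, 0, 0, 0, 0, -2, -2, 0, 0, 2, 0, -2, 2, 0, 0, 0, 2, 0] : List ℤ)],
   Ins.push 0 [([0, -2, 0, 0, 2, 0, 0, 0, -2, 0, 0, -2, 0, 0, 2, 2, 0, 0, 2, -2, 0, 0, 0, 0] : List ℤ)],
   Ins.push 1 [([0, 0, 0, 2, 2, 0, 0, 0, 0, 0, 0, -2, 0, -2, 0, -2, 0, -2, 2, 0, 2, 0, 0, 0] : List ℤ)],
   Ins.push 0 [([0, 0, 2, 2, 2, 0, 0, 0, 0, -2, 2, -2, 0, 0, 0, -2, 0, 0, 0, -2, 0, 0, 0, 0] : List ℤ)],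
   Ins.push 1 [([0, 2, 0, 2, 0, 0, 0, 2, 2, 0, 0, 0, -2, -2, 0, -2, 0, 0, -2, 0, 0, 0, 0, 0] : List ℤ)],
   Ins.push 0 [([0, 0, 0, 2, -2, 2, 0, 0, -2, -2, 0, 0, 0, 0, 0, -2, 2, 0, 2, 0, 0, 0, 0, 0] : List ℤ)],
   Ins.push 1 [([0, 0, 0, -2, 2, 0, 2, 2, 0, 0, 0, 0, -2, 0, 0, 0, 2, -2, -2, 0, 0, 0, 0, 0] : List ℤ)],
   Ins.push 0 [([0, 2, 2, -2, -2, 2, 0, 0, -2, 0, 0, -2, 0, 2, 0, 0, 0, 0, 0, 0, 0, 0, 0, 0] : List ℤ)],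
   Ins.mark,
   Ins.pop,
   Ins.pop,
   Ins.pop,
   Ins.pop,
   Ins.pop,
   Ins.pop,
   Ins.push 0 [([0, 0, 2, 0, 2, 0, 0, 0, 0, 0, 0, 0, 0, 0, 0, 2, -2, 2, -2, -2, 0, 0, -2, 0] : List ℤ)],
   Ins.push 1 [([0, 0, 0, 2, -2, -2, 0, 0, 2, 2, 0, 0, 0, 0, 0, -2, -2, 0, 2, 0, 0, 0, 0, 0] : List ℤ)],
   Ins.push 1 [([0, 0, 0, -2, 2, 0, -2, 2, 0, 0, 0, 0, 2, 0, 0, 0, -2, 2, -2, 0, 0, 0, 0, 0] : List ℤ)],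
   Ins.push 0 [([0, -2, 2, -2, -2, 2, 0, 0, 2, 0, 0, 2, 0, -2, 0, 0, 0, 0, 0, 0, 0, 0, 0, 0] : List ℤ)],
   Ins.mark,
   Ins.pop,
   Ins.pop,
   Ins.pop,
   Ins.pop,
   Ins.pop,
   Ins.pop,
   Ins.pop,
   Ins.push 0 [([0, 0, 0, 0, 0, 0, 0, 2, -2, 0, -2, -2, 0, 0, 0, 0, -2, 0, 0, 0, 2, 2, 2, 0] : List ℤ)],
   Ins.push 0 [([0, 0, 0, 0, 0, 2, 0, -2, 0, 0, 2, 0, 0, -2, 2, 0, -2, 0, 0, -2, 2, 0, 0, 0] : List ℤ)],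
   Ins.push 1 [([0, 2, 2, 0, 0, 0, 2, 0, 0, 0, 0, 0, 0, 0, 0, -2, -2, 0, 0, 0, 2, -2, -2, 0] : List ℤ)],
   Ins.push 0 [([0, 2, 0, 0, 0, 0, 2, 0, 0, 0, 2, 0, 0, -2, -2, -2, 0, 0, 2, 0, -2, 0, 0, 0] : List ℤ)],
   Ins.push 1 [([0, 2, -2, 0, 2, 0, 0, 0, 0, 0, 2, 2, 0, 0, 0, 0, 0, 0, -2, 0, -2, 0, -2, 0] : List ℤ)],
   Ins.push 1 [([0, 2, -2, 2, -2, -2, 0, 0, -2, 0, 0, 2, 0, 2, 0, 0, 0, 0, 0, 0, 0, 0, 0, 0] : List ℤ)],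
   Ins.mark,
   Ins.pop,
   Ins.pop,
   Ins.pop,
   Ins.pop,
   Ins.pop,
   Ins.pop,
   Ins.pop,
   Ins.pop,
   Ins.pop,
   Ins.push 0 [([0, 2, 0, 2, 0, 2, 0, 0, 0, -2, 0, -2, 0, 0, -2, 0, 2, 0, 0, -2, 0, 0, 0, 0] : List ℤ)],
   Ins.push 0 [([0, 0, 0, 2, 0, 0, 0, 0, 0, 0, 0, 0, -2, 2, 0, 0, 0, -2, 2, -2, 0, 2, -2, 0] : List ℤ)],
   Ins.push 0 [([0, 0, 0, 2, 2, 0, 0, 0, -2, 2, 0, -2, 0, 0, -2, 0, 0, 0, 0, 0, 2, 0, -2, 0] : List ℤ)],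
   Ins.push 1 [([0, 0, 2, 2, 0, -2, 0, 2, 0, 0, 0, 0, 2, -2, 0, 0, 0, -2, 0, 0, -2, 0, 0, 0] : List ℤ)],
   Ins.push 1 [([0, 0, -2, 0, 0, 0, -2, 2, 2, -2, 0, 0, 0, 0, 2, 0, 0, 0, 0, 0, 0, 2, -2, 0] : List ℤ)],
   Ins.push 1 [([0, 0, 0, 0, 0, -2, 0, 0, -2, 0, -2, 0, -2, 0, 0, 0, 0, 2, 0, 2, 2, 2, 0, 0] : List ℤ)],
   Ins.push 1 [([0, -2, 2, 0, 0, 0, -2, 0, 0, 2, 0, 0, 0, 0, -2, 2, 0, -2, 0, 2, 0, 0, 0, 0] : List ℤ)],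
   Ins.push 0 [([0, -2, 0, 0, 0, 0, 2, 0, 0, 0, 0, -2, 2, 0, 0, 2, 0, -2, -2, 0, 0, 0, 2, 0] : List ℤ)],
   Ins.push 1 [([0, 0, 0, 0, -2, 2, 0, 0, 0, -2, 2, -2, 0, -2, 2, 0, 0, 0, 2, 0, 0, 0, 0, 0] : List ℤ)],
   Ins.push 1 [([0, 2, 0, -2, 2, 0, 2, 0, 0, 0, 0, 0, -2, -2, 0, 0, 0, 0, 0, 0, 2, 0, -2, 0] : List ℤ)],
   Ins.push 0 [([0, 2, 2, -2, 0, 0, 0, 0, -2, -2, 2, 0, 0, 0, -2, 0, 0, 0, 2, 0, 0, 0, 0, 0] : List ℤ)],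
   Ins.push 0 [([0, 0, 0, -2, 2, 0, 2, 2, 0, 0, 0, 0, -2, 0, 0, 0, -2, -2, 2, 0, 0, 0, 0, 0] : List ℤ)],
   Ins.push 0 [([0, 2, 2, -2, 2, 2, 0, 0, -2, 0, 0, -2, 0, -2, 0, 0, 0, 0, 0, 0, 0, 0, 0, 0] : List ℤ)],
   Ins.mark,
   Ins.pop,
   Ins.pop,
   Ins.pop,
   Ins.pop,
   Ins.pop,
   Ins.push 0 [([0, 2, 0, 0, -2, 0, 0, 0, 2, 0, 0, -2, 0, 0, 2, 2, 0, 0, -2, -2, 0, 0, 0, 0] : List ℤ)],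
   Ins.push 0 [([0, 0, -2, 0, -2, 0, 0, 0, 0, 0, 0, 0, 0, 0, 0, 2, 2, 2, 2, -2, 0, 0, -2, 0] : List ℤ)],
   Ins.push 1 [([0, 0, 0, -2, 2, -2, 0, 0, -2, 2, 0, 0, 0, 0, 0, -2, 2, 0, 2, 0, 0, 0, 0, 0] : List ℤ)],
   Ins.push 1 [([0, 0, 0, 2, 2, 0, -2, -2, 0, 0, 0, 0, 2, 0, 0, 0, 2, -2, -2, 0, 0, 0, 0, 0] : List ℤ)],
   Ins.push 0 [([0, -2, 2, 2, -2, -2, 0, 0, 2, 0, 0, -2, 0, 2, 0, 0, 0, 0, 0, 0, 0, 0, 0, 0] : List ℤ)],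
   Ins.mark,
   Ins.pop,
   Ins.pop,
   Ins.pop,
   Ins.pop,
   Ins.pop,
   Ins.pop,
   Ins.pop,
   Ins.pop,
   Ins.pop,
   Ins.push 0 [([0, 0, 0, 2, 0, 2, 2, 0, 2, -2, -2, -2, 0, 0, 0, 0, 0, 0, 0, 0, 0, -2, 0, 0] : List ℤ)],
   Ins.push 0 [([0, 2, 0, 2, 0, 0, 0, -2, 0, 0, 0, 0, -2, 0, 0, 0, 2, 0, 0, -2, -2, 2, 0, 0] : List ℤ)],
   Ins.push 0 [([0, 0, 0, 2, 0, -2, 0, 0, -2, 0, -2, 0, 0, 2, 0, 0, 0, 0, 2, 0, 2, 0, -2, 0] : List ℤ)],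
   Ins.push 1 [([0, -2, 2, 0, 2, -2, -2, 2, 0, 0, 0, 0, 0, 0, 0, 0, 0, -2, 0, 0, 0, 0, 2, 0] : List ℤ)],
   Ins.push 0 [([0, -2, 2, 0, 0, 2, 2, 0, 0, 0, 0, -2, 0, 0, 2, 0, 0, 0, -2, 0, 0, -2, 0, 0] : List ℤ)],
   Ins.push 0 [([0, 2, 0, 0, -2, 0, 2, 0, 0, 0, 0, 0, 0, 0, 0, 0, 0, 2, -2, -2, -2, 2, 0, 0] : List ℤ)],
   Ins.push 0 [([0, 2, -2, 0, -2, 0, 0, 0, 0, 0, -2, 2, 0, 0, 0, 0, 0, 0, 2, 0, 2, 0, -2, 0] : List ℤ)],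
   Ins.push 1 [([0, -2, 2, -2, 2, -2, 0, 0, -2, 0, 0, 2, 0, 2, 0, 0, 0, 0, 0, 0, 0, 0, 0, 0] : List ℤ)],
   Ins.mark,
   Ins.pop,
   Ins.pop,
   Ins.pop,
   Ins.pop,
   Ins.pop,
   Ins.pop,
   Ins.push 1 [([0, 0, -2, 0, 0, 0, 0, 2, 0, 0, 0, 2, 0, 0, -2, -2, 2, 0, 0, 2, 0, -2, 0, 0] : List ℤ)],
   Ins.push 1 [([0, 0, 0, 0, 0, 0, 0, 0, -2, 0, 0, 0, 0, 2, 0, 2, 2, 0, -2, -2, -2, 2, 0, 0] : List ℤ)],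
   Ins.push 1 [([0, 0, -2, 0, -2, 0, 0, 0, 0, 0, 0, 0, 0, 0, 0, -2, 2, -2, 2, 2, 0, 0, 2, 0] : List ℤ)],
   Ins.push 1 [([0, 0, 0, -2, 2, 2, 0, 0, -2, -2, 0, 0, 0, 0, 0, 2, 2, 0, -2, 0, 0, 0, 0, 0] : List ℤ)],
   Ins.push 1 [([0, 0, 0, 2, -2, 0, 2, -2, 0, 0, 0, 0, -2, 0, 0, 0, 2, -2, 2, 0, 0, 0, 0, 0] : List ℤ)],
   Ins.push 0 [([0, 2, -2, 2, 2, -2, 0, 0, -2, 0, 0, -2, 0, 2, 0, 0, 0, 0, 0, 0, 0, 0, 0, 0] : List ℤ)],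
   Ins.mark,
   Ins.pop,
   Ins.pop,
   Ins.pop,
   Ins.pop,
   Ins.pop,
   Ins.pop,
   Ins.pop,
   Ins.pop,
   Ins.pop,
   Ins.pop,
   Ins.push 1 [([0, 0, 0, 0, 2, -2, 0, 2, 0, -2, 0, 0, 0, 0, -2, -2, 0, 0, 0, 2, 0, 0, 2, 0] : List ℤ)],
   Ins.push 1 [([0, 0, 0, 2, 0, 2, -2, 0, 0, 0, 0, 0, -2, 0, 0, 2, 0, 0, -2, 0, -2, 2, 0, 0] : List ℤ)],
   Ins.push 1 [([0, 0, -2, 0, -2, 0, 2, 2, 0, 0, -2, 0, 0, 0, -2, 0, 0, 0, 2, 2, 0, 0, 0, 0] : List ℤ)],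
   Ins.push 0 [([0, 2, -2, 0, 2, 2, -2, -2, 0, 0, 0, 0, 0, 0, 0, 0, 0, -2, 0, 0, 0, 0, 2, 0] : List ℤ)],
   Ins.push 0 [([0, -2, 2, 0, 0, -2, -2, 0, 0, 0, 0, -2, 0, 0, 2, 0, 0, 0, 2, 0, 0, 2, 0, 0] : List ℤ)],
   Ins.push 0 [([0, -2, 0, 0, 2, 0, 2, 0, 0, 0, 0, 0, 0, 0, 0, 0, 0, 2, -2, -2, 2, -2, 0, 0] : List ℤ)],
   Ins.push 0 [([0, 2, 2, 0, -2, 0, 0, 0, 0, 0, 2, 2, 0, 0, 0, 0, 0, 0, -2, 0, -2, 0, -2, 0] : List ℤ)],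
   Ins.push 1 [([0, 2, -2, -2, -2, -2, 0, 0, 2, 0, 0, 2, 0, 2, 0, 0, 0, 0, 0, 0, 0, 0, 0, 0] : List ℤ)],
   Ins.mark,
   Ins.pop,
   Ins.pop,
   Ins.pop,
   Ins.pop,
   Ins.pop,
   Ins.pop,
   Ins.pop,
   Ins.push 0 [([0, 0, 2, 0, 0, 2, 0, 0, 0, 0, 0, 0, -2, 0, 2, -2, 0, -2, 0, 0, 0, -2, 2, 0] : List ℤ)],
   Ins.push 1 [([0, 0, 0, 0, 0, 2, 2, 0, 2, -2, 0, 0, 0, 0, -2, 0, 0, 0, -2, -2, 2, 0, 0, 0] : List ℤ)],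
   Ins.push 1 [([0, 0, 2, 0, -2, 0, 2, 0, 0, 0, 2, 0, -2, 0, 0, -2, 0, 2, 0, 0, -2, 0, 0, 0] : List ℤ)],
   Ins.push 1 [([0, 2, -2, -2, 0, 0, 0, 0, 2, 2, 2, 0, 0, 0, -2, 0, 0, 0, -2, 0, 0, 0, 0, 0] : List ℤ)],
   Ins.push 0 [([0, 0, 0, -2, -2, 0, -2, 2, 0, 0, 0, 0, 2, 0, 0, 0, 2, -2, 2, 0, 0, 0, 0, 0] : List ℤ)],
   Ins.push 0 [([0, -2, -2, -2, 2, 2, 0, 0, 2, 0, 0, -2, 0, 2, 0, 0, 0, 0, 0, 0, 0, 0, 0, 0] : List ℤ)],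
   Ins.mark,
   Ins.pop,
   Ins.pop,
   Ins.pop,
   Ins.pop,
   Ins.pop,
   Ins.pop,
   Ins.pop,
   Ins.pop,
   Ins.push 1 [([0, 0, 0, 0, 0, 0, 2, 2, 0, 0, 0, 2, -2, -2, 0, -2, 2, 0, 0, 0, -2, 0, 0, 0] : List ℤ)],
   Ins.push 0 [([0, 2, 0, 0, 0, 2, 0, 0, -2, -2, -2, 0, 0, 2, 0, -2, 0, 0, 0, 2, 0, 0, 0, 0] : List ℤ)],
   Ins.push 1 [([0, -2, 0, 0, 0, 0, 2, 0, 0, 0, 0, 2, -2, 0, 0, 2, 0, -2, -2, 0, 0, 0, 2, 0] : List ℤ)],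
   Ins.push 0 [([0, 2, 0, 0, -2, 0, 0, 0, -2, 0, 0, -2, 0, 0, 2, 2, 0, 0, -2, 2, 0, 0, 0, 0] : List ℤ)],
   Ins.push 0 [([0, 0, -2, 0, -2, 0, 0, 0, 0, 0, 0, 0, 0, 0, 0, 2, -2, 2, 2, -2, 0, 0, 2, 0] : List ℤ)],
   Ins.push 1 [([0, 0, 0, -2, 2, 2, 0, 0, -2, 2, 0, 0, 0, 0, 0, -2, -2, 0, 2, 0, 0, 0, 0, 0] : List ℤ)],
   Ins.push 1 [([0, 0, 0, 2, 2, 0, 2, -2, 0, 0, 0, 0, 2, 0, 0, 0, -2, -2, -2, 0, 0, 0, 0, 0] : List ℤ)],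
   Ins.push 0 [([0, 2, 2, 2, -2, -2, 0, 0, 2, 0, 0, -2, 0, -2, 0, 0, 0, 0, 0, 0, 0, 0, 0, 0] : List ℤ)],
   Ins.mark,
   Ins.pop,
   Ins.pop,
   Ins.pop,
   Ins.pop,
   Ins.pop,
   Ins.push 1 [([0, 0, 0, 0, -2, 2, 0, 0, 0, -2, 2, -2, 0, 2, -2, 0, 0, 0, 2, 0, 0, 0, 0, 0] : List ℤ)],
   Ins.push 1 [([0, 2, 0, -2, 2, 0, 2, 0, 0, 0, 0, 0, -2, -2, 0, 0, 0, 0, 0, 0, -2, 0, 2, 0] : List ℤ)],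
   Ins.push 0 [([0, 2, 2, -2, 0, 0, 0, 0, -2, -2, -2, 0, 0, 0, 2, 0, 0, 0, 2, 0, 0, 0, 0, 0] : List ℤ)],
   Ins.push 0 [([0, 0, 0, -2, 2, 0, 2, -2, 0, 0, 0, 0, -2, 0, 0, 0, -2, 2, 2, 0, 0, 0, 0, 0] : List ℤ)],
   Ins.push 0 [([0, 2, 2, -2, 2, -2, 0, 0, -2, 0, 0, 2, 0, -2, 0, 0, 0, 0, 0, 0, 0, 0, 0, 0] : List ℤ)],
   Ins.mark,
   Ins.pop,
   Ins.pop,
   Ins.pop,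
   Ins.pop,
   Ins.pop,
   Ins.pop,
   Ins.pop,
   Ins.push 1 [([0, 0, -2, 0, 0, 0, 0, 0, 0, 0, 2, 0, 0, 2, -2, 0, 2, 0, -2, 0, 0, 2, -2, 0] : List ℤ)],
   Ins.push 1 [([0, 2, 0, 0, -2, -2, 0, 0, -2, 0, 0, 0, 0, 0, 0, 0, 2, 0, 0, 2, -2, 0, 2, 0] : List ℤ)],
   Ins.push 1 [([0, 0, -2, -2, 0, 2, -2, 0, 0, 0, 0, 2, 0, 0, 0, 2, 2, -2, 0, 0, 0, 0, 0, 0] : List ℤ)],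
   Ins.push 1 [([0, 0, 0, 0, 0, 0, 2, -2, -2, -2, -2, 0, 0, 2, 0, 0, 2, 0, 2, 0, 0, 0, 0, 0] : List ℤ)],
   Ins.push 0 [([0, 2, 0, 0, 2, -2, 0, -2, 0, 2, 0, 0, -2, 2, 0, 0, -2, 0, 0, 0, 0, 0, 0, 0] : List ℤ)],
   Ins.push 1 [([0, 0, 0, 2, 0, 0, -2, 0, 0, 0, 0, 2, 2, 0, -2, 0, -2, 0, 0, 0, 0, -2, 2, 0] : List ℤ)],
   Ins.push 1 [([0, 0, 0, 0, 0, 2, 0, 2, 0, 0, -2, 0, 0, 2, 2, 0, -2, 0, 0, -2, -2, 0, 0, 0] : List ℤ)],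
   Ins.push 1 [([0, -2, -2, 0, 0, 0, 2, 0, 0, 0, 0, 0, 0, 0, 0, -2, -2, 0, 0, 0, 2, 2, 2, 0] : List ℤ)],
   Ins.push 0 [([0, 2, 0, 0, 0, 0, -2, 0, 0, 0, 2, 0, 0, -2, 2, -2, 0, 0, -2, 0, 2, 0, 0, 0] : List ℤ)],
   Ins.push 1 [([0, 2, 2, 0, -2, 0, 0, 0, 0, 0, -2, 2, 0, 0, 0, 0, 0, 0, -2, 0, 2, 0, -2, 0] : List ℤ)],
   Ins.push 1 [([0, -2, 2, -2, -2, -2, 0, 0, 2, 0, 0, 2, 0, 2, 0, 0, 0, 0, 0, 0, 0, 0, 0, 0] : List ℤ)],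
   Ins.mark,
   Ins.pop,
   Ins.pop,
   Ins.pop,
   Ins.pop,
   Ins.pop,
   Ins.pop,
   Ins.pop,
   Ins.pop,
   Ins.pop,
   Ins.pop,
   Ins.pop,
   Ins.pop,
   Ins.pop,
   Ins.pop,
   Ins.pop,
   Ins.push 11 [([0, -2, -2, -2, 2, -2, 0, 0, -2, 0, 0, 2, 0, -2, 0, 0, 0, 0, 0, 0, 0, 0, 0, 0] : List ℤ)],
   Ins.mark,
   Ins.push 0 [([0, 0, 2, -2, 0, 0, -2, 0, 0, -2, 0, 0, 0, 0, 0, 0, -2, 0, -2, 2, 0, -2, 0, 0] : List ℤ)],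
   Ins.push 1 [([0, 0, 0, 0, -2, 0, 0, -2, 2, 0, -2, 0, -2, 0, 0, 2, -2, 0, 0, -2, 0, 0, 0, 0] : List ℤ)],
   Ins.push 1 [([0, -2, 0, -2, 0, 0, 0, 0, 0, 0, 0, 0, 0, 0, -2, -2, -2, 2, 2, 0, 0, -2, 0, 0] : List ℤ)],
   Ins.push 0 [([0, 0, 0, -2, 2, 0, 0, 0, 0, 0, 0, 2, 0, -2, 0, -2, 0, -2, -2, 0, -2, 0, 0, 0] : List ℤ)],
   Ins.push 0 [([0, 0, 2, -2, -2, 0, 0, 0, 0, -2, -2, -2, 0, 0, 0, -2, 0, 0, 0, 2, 0, 0, 0, 0] : List ℤ)],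
   Ins.push 1 [([0, -2, 0, -2, 0, 0, 0, -2, 2, 0, 0, 0, -2, -2, 0, 2, 0, 0, -2, 0, 0, 0, 0, 0] : List ℤ)],
   Ins.push 0 [([0, 0, 0, -2, -2, -2, 0, 0, -2, -2, 0, 0, 0, 0, 0, 2, 2, 0, -2, 0, 0, 0, 0, 0] : List ℤ)],
   Ins.push 1 [([0, 0, 0, -2, -2, 0, -2, -2, 0, 0, 0, 0, -2, 0, 0, 0, 2, -2, 2, 0, 0, 0, 0, 0] : List ℤ)],
   Ins.push 0 [([0, -2, -2, -2, 2, -2, 0, 0, -2, 0, 0, -2, 0, 2, 0, 0, 0, 0, 0, 0, 0, 0, 0, 0] : List ℤ)],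
   Ins.mark,
   Ins.pop,
   Ins.pop,
   Ins.pop,
   Ins.push 1 [([0, 0, 0, 0, -2, 0, 0, -2, 0, 0, 0, -2, 0, 0, -2, 0, 0, 2, 2, 0, 0, -2, -2, 0] : List ℤ)],
   Ins.push 1 [([0, 0, 0, -2, 2, -2, 0, 0, 0, 2, 0, 0, 0, -2, 0, 0, 0, 0, 0, -2, -2, -2, 0, 0] : List ℤ)],
   Ins.push 1 [([0, 0, -2, 2, 0, 0, -2, -2, 0, 0, 0, 0, 2, 0, 0, -2, 0, 0, 0, -2, 0, 0, -2, 0] : List ℤ)],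
   Ins.push 1 [([0, 0, 0, 0, 0, -2, 0, 2, -2, 0, -2, 0, 0, 0, 2, -2, 0, 0, -2, 0, 0, -2, 0, 0] : List ℤ)],
   Ins.push 1 [([0, -2, 0, 0, -2, 0, -2, 0, 0, 0, 0, 0, 0, 0, 0, 0, 0, -2, -2, -2, 2, 2, 0, 0] : List ℤ)],
   Ins.push 0 [([0, -2, -2, 0, -2, 0, 0, 0, 0, 0, 2, -2, 0, 0, 0, 0, 0, 0, -2, 0, 2, 0, -2, 0] : List ℤ)],
   Ins.push 1 [([0, 2, 2, -2, -2, -2, 0, 0, -2, 0, 0, -2, 0, -2, 0, 0, 0, 0, 0, 0, 0, 0, 0, 0] : List ℤ)],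
   Ins.mark,
   Ins.pop,
   Ins.pop,
   Ins.pop,
   Ins.pop,
   Ins.pop,
   Ins.pop,
   Ins.pop,
   Ins.pop,
   Ins.push 0 [([0, 0, -2, -2, 0, 0, 2, -2, 0, 0, 0, 0, -2, 0, 0, -2, 0, 0, 0, -2, 0, 0, 2, 0] : List ℤ)],
   Ins.push 1 [([0, 0, 0, 0, 0, 2, 0, -2, -2, 0, 2, 0, 0, 0, -2, -2, 0, 0, -2, 0, 0, -2, 0, 0] : List ℤ)],
   Ins.push 1 [([0, 2, 0, 0, -2, 0, 2, 0, 0, 0, 0, 0, 0, 0, 0, 0, 0, -2, -2, -2, -2, -2, 0, 0] : List ℤ)],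
   Ins.push 1 [([0, 0, -2, -2, -2, 0, 0, 0, 0, -2, 2, 2, 0, 0, 0, -2, 0, 0, 0, -2, 0, 0, 0, 0] : List ℤ)],
   Ins.push 1 [([0, 2, 0, -2, 0, 0, 0, -2, -2, 0, 0, 0, -2, 2, 0, -2, 0, 0, -2, 0, 0, 0, 0, 0] : List ℤ)],
   Ins.push 0 [([0, 0, 0, -2, -2, -2, 0, 0, -2, 2, 0, 0, 0, 0, 0, -2, -2, 0, 2, 0, 0, 0, 0, 0] : List ℤ)],
   Ins.push 1 [([0, 0, 0, -2, 2, 0, -2, -2, 0, 0, 0, 0, 2, 0, 0, 0, -2, -2, -2, 0, 0, 0, 0, 0] : List ℤ)],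
   Ins.push 0 [([0, -2, 2, -2, -2, -2, 0, 0, 2, 0, 0, -2, 0, -2, 0, 0, 0, 0, 0, 0, 0, 0, 0, 0] : List ℤ)],
   Ins.mark,
   Ins.pop,
   Ins.pop,
   Ins.pop,
   Ins.pop,
   Ins.pop,
   Ins.pop,
   Ins.push 0 [([0, 0, 0, 0, -2, -2, 0, 2, 0, 0, 0, 0, 0, 0, 0, -2, -2, -2, 0, 0, -2, 2, 0, 0] : List ℤ)],
   Ins.push 1 [([0, 0, -2, -2, 0, 0, -2, 0, 0, -2, 0, 0, 0, 0, 0, 0, -2, 0, -2, 2, 0, 2, 0, 0] : List ℤ)],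
   Ins.push 0 [([0, -2, 0, -2, -2, 0, -2, 0, 0, 0, 0, 0, -2, -2, 0, 0, 0, 0, 0, 0, 2, 0, 2, 0] : List ℤ)],
   Ins.push 0 [([0, -2, -2, -2, 0, 0, 0, 0, -2, -2, 2, 0, 0, 0, 2, 0, 0, 0, -2, 0, 0, 0, 0, 0] : List ℤ)],
   Ins.push 0 [([0, 0, 0, -2, -2, 0, -2, 2, 0, 0, 0, 0, -2, 0, 0, 0, -2, 2, -2, 0, 0, 0, 0, 0] : List ℤ)],
   Ins.push 0 [([0, -2, -2, -2, -2, 2, 0, 0, -2, 0, 0, 2, 0, -2, 0, 0, 0, 0, 0, 0, 0, 0, 0, 0] : List ℤ)],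
   Ins.mark,
   Ins.pop,
   Ins.pop,
   Ins.pop,
   Ins.pop,
   Ins.pop,
   Ins.pop,
   Ins.pop,
   Ins.pop,
   Ins.pop,
   Ins.pop,
   Ins.pop,
   Ins.push 0 [([0, 0, -2, 0, 0, -2, 0, -2, -2, 0, 0, 0, 0, -2, 0, 2, 2, 0, 0, 0, 0, 0, -2, 0] : List ℤ)],
   Ins.push 1 [([0, 0, 0, 0, 0, -2, -2, 0, -2, 0, 0, 0, 0, 0, 0, 0, 2, -2, 2, 0, 0, -2, -2, 0] : List ℤ)],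
   Ins.push 0 [([0, -2, 0, 0, 2, 0, 0, 0, 0, 0, 0, -2, 0, 2, -2, 0, -2, 0, 0, 0, -2, -2, 0, 0] : List ℤ)],
   Ins.push 1 [([0, 0, -2, 2, 0, 0, 0, 0, 0, 0, 0, -2, 0, -2, 0, 0, -2, 0, 0, -2, -2, 0, 2, 0] : List ℤ)],
   Ins.push 1 [([0, 0, -2, 0, 0, 2, 0, 2, -2, 0, 0, 0, 0, -2, 0, -2, -2, 0, 0, 0, 0, 0, -2, 0] : List ℤ)],
   Ins.push 1 [([0, 0, 0, 0, 0, -2, 2, 0, -2, 0, 0, 0, 0, 0, 0, 0, -2, -2, -2, 0, 0, 2, -2, 0] : List ℤ)],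
   Ins.push 1 [([0, 0, 0, 0, -2, -2, -2, 0, 0, -2, 2, 0, 0, 0, 0, 0, -2, -2, 0, 2, 0, 0, 0, 0] : List ℤ)],
   Ins.push 0 [([0, -2, -2, 0, 0, 0, 0, 2, 0, 0, 0, -2, -2, -2, 0, 0, 0, 0, 0, 0, 0, -2, 2, 0] : List ℤ)],
   Ins.push 0 [([0, 0, 0, 0, 0, 2, -2, 0, -2, -2, 0, 0, 0, 0, 2, 0, 0, 0, -2, -2, -2, 0, 0, 0] : List ℤ)],
   Ins.push 1 [([0, 0, -2, 0, -2, 0, 2, 0, 0, 0, -2, 0, -2, 0, 0, -2, 0, -2, 0, 0, 2, 0, 0, 0] : List ℤ)],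
   Ins.push 1 [([0, -2, 2, -2, 0, 0, 0, 0, -2, -2, 2, 0, 0, 0, -2, 0, 0, 0, -2, 0, 0, 0, 0, 0] : List ℤ)],
   Ins.push 0 [([0, 0, 0, -2, -2, 0, 2, 2, 0, 0, 0, 0, -2, 0, 0, 0, -2, -2, -2, 0, 0, 0, 0, 0] : List ℤ)],
   Ins.push 0 [([0, 2, -2, -2, -2, 2, 0, 0, -2, 0, 0, -2, 0, -2, 0, 0, 0, 0, 0, 0, 0, 0, 0, 0] : List ℤ)],
   Ins.mark,
   Ins.pop,
   Ins.pop,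
   Ins.pop,
   Ins.pop,
   Ins.pop,
   Ins.pop,
   Ins.pop,
   Ins.pop,
   Ins.pop,
   Ins.push 0 [([0, 0, 0, 2, 0, 0, -2, 0, 0, -2, -2, 0, 0, -2, 2, 0, 0, 0, 0, -2, 0, 0, -2, 0] : List ℤ)],
   Ins.push 1 [([0, -2, 0, 0, 0, -2, 0, 2, 0, 0, -2, 0, -2, 0, 0, -2, 0, 0, 0, 0, 2, 0, -2, 0] : List ℤ)],
   Ins.push 1 [([0, -2, 2, 0, 0, -2, -2, 0, 0, 0, 0, -2, 0, 0, -2, 0, 0, 0, -2, 0, 0, 2, 0, 0] : List ℤ)],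
   Ins.push 0 [([0, -2, 0, 0, -2, 0, 2, 0, 0, 0, 0, 0, 0, 0, 0, 0, 0, -2, -2, -2, 2, -2, 0, 0] : List ℤ)],
   Ins.push 0 [([0, 2, -2, 0, -2, 0, 0, 0, 0, 0, 2, -2, 0, 0, 0, 0, 0, 0, -2, 0, -2, 0, -2, 0] : List ℤ)],
   Ins.push 1 [([0, 2, -2, -2, -2, -2, 0, 0, -2, 0, 0, 2, 0, -2, 0, 0, 0, 0, 0, 0, 0, 0, 0, 0] : List ℤ)],
   Ins.mark,
   Ins.pop,
   Ins.pop,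
   Ins.pop,
   Ins.pop,
   Ins.pop,
   Ins.pop,
   Ins.pop,
   Ins.pop,
   Ins.push 1 [([0, 0, 0, 0, 2, -2, -2, 0, 0, -2, -2, 0, 0, 0, 0, 0, 2, -2, 0, -2, 0, 0, 0, 0] : List ℤ)],
   Ins.push 1 [([0, -2, 0, 2, 0, 0, -2, 0, 0, -2, -2, 0, -2, 0, 0, -2, 2, 0, 0, 0, 0, 0, 0, 0] : List ℤ)],
   Ins.push 0 [([0, -2, 0, 2, 0, 0, 0, -2, -2, 0, 0, 0, -2, 2, 0, -2, 0, 0, -2, 0, 0, 0, 0, 0] : List ℤ)],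
   Ins.push 0 [([0, 0, 0, 2, -2, -2, 0, 0, -2, 2, 0, 0, 0, 0, 0, -2, -2, 0, -2, 0, 0, 0, 0, 0] : List ℤ)],
   Ins.push 1 [([0, 0, 0, -2, -2, 0, -2, 2, 0, 0, 0, 0, 2, 0, 0, 0, -2, -2, -2, 0, 0, 0, 0, 0] : List ℤ)],
   Ins.push 0 [([0, -2, -2, -2, -2, 2, 0, 0, 2, 0, 0, -2, 0, -2, 0, 0, 0, 0, 0, 0, 0, 0, 0, 0] : List ℤ)],
   Ins.mark,
   Ins.pop,
   Ins.pop,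
   Ins.pop,
   Ins.pop,
   Ins.pop,
   Ins.pop,
   Ins.pop,
   Ins.push 0 [([0, 0, 0, 0, 0, -2, -2, 0, 0, -2, 0, 0, 0, 2, -2, 2, -2, 0, 0, 0, 0, -2, 0, 0] : List ℤ)],
   Ins.push 1 [([0, 0, 0, 0, 0, 0, -2, 0, 0, 0, -2, 0, -2, 0, 0, 0, -2, 0, 2, -2, -2, 0, 2, 0] : List ℤ)],
   Ins.push 0 [([0, -2, 0, 0, 2, 0, 0, -2, -2, 0, -2, 0, 0, -2, 2, 0, 0, 0, 0, 0, 0, 0, -2, 0] : List ℤ)],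
   Ins.push 1 [([0, -2, 0, 2, 0, -2, 0, 0, 0, 0, 0, -2, 0, 0, 0, 0, 0, -2, 0, 0, 2, -2, -2, 0] : List ℤ)],
   Ins.push 1 [([0, 0, 2, 0, 0, -2, -2, 2, 0, -2, 0, -2, 0, -2, 0, 0, 0, 0, 0, -2, 0, 0, 0, 0] : List ℤ)],
   Ins.push 0 [([0, -2, 0, 0, 0, 2, 2, 0, 0, -2, 0, 0, -2, 0, 0, 0, 0, 0, 0, -2, 0, -2, -2, 0] : List ℤ)],
   Ins.push 1 [([0, 0, 0, 0, 0, -2, 2, 0, 0, 0, 2, -2, -2, 0, -2, -2, 0, 0, 0, -2, 0, 0, 0, 0] : List ℤ)],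
   Ins.push 1 [([0, 2, 0, 0, 0, 0, -2, 0, 0, 0, 2, 0, 0, -2, -2, -2, 0, 0, -2, 0, -2, 0, 0, 0] : List ℤ)],
   Ins.push 1 [([0, 2, -2, 0, -2, 0, 0, 0, 0, 0, -2, 2, 0, 0, 0, 0, 0, 0, -2, 0, -2, 0, -2, 0] : List ℤ)],
   Ins.push 1 [([0, -2, -2, -2, -2, -2, 0, 0, -2, 0, 0, 2, 0, 2, 0, 0, 0, 0, 0, 0, 0, 0, 0, 0] : List ℤ)],
   Ins.mark,
   Ins.pop,
   Ins.pop,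
   Ins.pop,
   Ins.pop,
   Ins.pop,
   Ins.pop,
   Ins.pop,
   Ins.pop,
   Ins.pop,
   Ins.pop,
   Ins.pop,
   Ins.pop,
   Ins.push 0 [([0, -2, 0, -2, -2, 0, 2, 0, 0, 0, 0, 0, -2, -2, 0, 0, 0, 0, 0, 0, -2, 0, 2, 0] : List ℤ)],
   Ins.push 1 [([0, 0, -2, -2, 0, 2, 0, -2, 0, 0, 2, -2, 0, 0, -2, 0, 0, 0, 0, 0, 0, 0, -2, 0] : List ℤ)],
   Ins.push 0 [([0, 0, 0, -2, 0, -2, -2, 2, 0, 0, 0, 0, 0, 0, -2, 0, 0, -2, 0, -2, 0, 2, 0, 0] : List ℤ)],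
   Ins.push 1 [([0, 0, 0, 0, 0, 0, -2, -2, 0, -2, -2, 0, 0, 0, 0, -2, 0, 0, 0, 2, -2, 2, 0, 0] : List ℤ)],
   Ins.push 0 [([0, -2, 0, 0, 0, -2, 0, -2, 0, 0, -2, 0, -2, 0, 0, -2, 0, 0, 0, 0, 2, 0, 2, 0] : List ℤ)],
   Ins.push 1 [([0, -2, 2, 0, 0, 2, -2, 0, 0, 0, 0, -2, 0, 0, -2, 0, 0, 0, -2, 0, 0, -2, 0, 0] : List ℤ)],
   Ins.push 0 [([0, -2, 0, 0, -2, 0, 2, 0, 0, 0, 0, 0, 0, 0, 0, 0, 0, -2, -2, -2, -2, 2, 0, 0] : List ℤ)],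
   Ins.push 1 [([0, 0, -2, -2, -2, 0, 0, 0, 0, -2, 2, -2, 0, 0, 0, -2, 0, 0, 0, 2, 0, 0, 0, 0] : List ℤ)],
   Ins.push 1 [([0, 2, 0, -2, 0, 0, 0, -2, -2, 0, 0, 0, -2, -2, 0, 2, 0, 0, -2, 0, 0, 0, 0, 0] : List ℤ)],
   Ins.push 0 [([0, 0, 0, -2, -2, -2, 0, 0, -2, -2, 0, 0, 0, 0, 0, 2, -2, 0, 2, 0, 0, 0, 0, 0] : List ℤ)],
   Ins.push 1 [([0, 0, 0, -2, 2, 0, -2, -2, 0, 0, 0, 0, -2, 0, 0, 0, -2, -2, 2, 0, 0, 0, 0, 0] : List ℤ)],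
   Ins.push 0 [([0, -2, 2, -2, 2, -2, 0, 0, -2, 0, 0, -2, 0, -2, 0, 0, 0, 0, 0, 0, 0, 0, 0, 0] : List ℤ)],
   Ins.mark,
   Ins.pop,
   Ins.pop,
   Ins.pop,
   Ins.pop,
   Ins.pop,
   Ins.push 0 [([0, 2, -2, 0, -2, 0, 0, 0, 0, 0, -2, -2, 0, 0, 0, 0, 0, 0, -2, 0, 2, 0, -2, 0] : List ℤ)],
   Ins.push 1 [([0, -2, 2, -2, -2, -2, 0, 0, -2, 0, 0, 2, 0, -2, 0, 0, 0, 0, 0, 0, 0, 0, 0, 0] : List ℤ)],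
   Ins.mark,
   Ins.pop,
   Ins.pop,
   Ins.pop,
   Ins.pop,
   Ins.push 0 [([0, 0, 0, 0, 0, -2, 0, -2, -2, 0, 2, 0, 0, 0, 2, -2, 0, 0, -2, 0, 0, -2, 0, 0] : List ℤ)],
   Ins.push 1 [([0, 2, 0, 0, -2, 0, -2, 0, 0, 0, 0, 0, 0, 0, 0, 0, 0, -2, -2, -2, 2, -2, 0, 0] : List ℤ)],
   Ins.push 0 [([0, -2, -2, 0, -2, 0, 0, 0, 0, 0, 2, -2, 0, 0, 0, 0, 0, 0, 2, 0, -2, 0, -2, 0] : List ℤ)],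
   Ins.push 1 [([0, 2, -2, -2, 2, -2, 0, 0, -2, 0, 0, -2, 0, -2, 0, 0, 0, 0, 0, 0, 0, 0, 0, 0] : List ℤ)],
   Ins.mark,
   Ins.pop,
   Ins.pop,
   Ins.pop,
   Ins.pop,
   Ins.pop,
   Ins.push 1 [([0, -2, -2, 0, 0, 0, 0, 0, 0, 0, -2, 0, -2, 0, 0, 2, 0, 0, -2, 2, 0, -2, 0, 0] : List ℤ)],
   Ins.push 1 [([0, -2, 0, 0, -2, 0, 0, 0, -2, 0, 0, -2, 0, 0, -2, 2, 0, 0, 2, -2, 0, 0, 0, 0] : List ℤ)],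
   Ins.push 0 [([0, 0, -2, 0, 2, 0, 0, 0, 0, 0, 0, 0, 0, 0, 0, 2, -2, -2, -2, -2, 0, 0, -2, 0] : List ℤ)],
   Ins.push 1 [([0, 0, 0, 2, -2, -2, 0, 0, -2, -2, 0, 0, 0, 0, 0, -2, -2, 0, 2, 0, 0, 0, 0, 0] : List ℤ)],
   Ins.push 1 [([0, 0, 0, -2, 2, 0, -2, 2, 0, 0, 0, 0, -2, 0, 0, 0, -2, -2, -2, 0, 0, 0, 0, 0] : List ℤ)],
   Ins.push 0 [([0, -2, 2, -2, -2, 2, 0, 0, -2, 0, 0, -2, 0, -2, 0, 0, 0, 0, 0, 0, 0, 0, 0, 0] : List ℤ)],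
   Ins.mark,
   Ins.pop,
   Ins.pop,
   Ins.pop,
   Ins.pop,
   Ins.pop,
   Ins.pop,
   Ins.pop,
   Ins.push 0 [([0, -2, 0, -2, 0, 2, 0, 0, 0, 0, 0, -2, 0, 0, 0, 0, 0, -2, 0, 0, 2, -2, -2, 0] : List ℤ)],
   Ins.push 1 [([0, 0, 2, 0, 0, -2, 2, -2, 0, -2, 0, -2, 0, -2, 0, 0, 0, 0, 0, -2, 0, 0, 0, 0] : List ℤ)],
   Ins.push 0 [([0, 2, 0, 0, 0, -2, 2, 0, 0, -2, 0, 0, -2, 0, 0, 0, 0, 0, 0, -2, 0, -2, -2, 0] : List ℤ)],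
   Ins.push 1 [([0, 0, 0, 0, 0, -2, -2, 0, 0, 0, 2, 2, -2, 0, -2, -2, 0, 0, 0, -2, 0, 0, 0, 0] : List ℤ)],
   Ins.push 1 [([0, 2, 0, 0, 0, 0, -2, 0, 0, 0, -2, 0, 0, 2, -2, -2, 0, 0, -2, 0, -2, 0, 0, 0] : List ℤ)],
   Ins.push 1 [([0, -2, -2, 0, -2, 0, 0, 0, 0, 0, -2, 2, 0, 0, 0, 0, 0, 0, -2, 0, -2, 0, 2, 0] : List ℤ)],
   Ins.push 1 [([0, -2, -2, -2, -2, 2, 0, 0, -2, 0, 0, -2, 0, 2, 0, 0, 0, 0, 0, 0, 0, 0, 0, 0] : List ℤ)],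
   Ins.mark,
   Ins.pop,
   Ins.pop,
   Ins.pop,
   Ins.pop,
   Ins.pop,
   Ins.pop,
   Ins.pop,
   Ins.pop,
   Ins.push 1 [([0, 2, 0, 0, 0, -2, 2, -2, -2, 0, 0, 0, 0, -2, 0, 0, 0, 0, 0, 0, -2, -2, 0, 0] : List ℤ)],
   Ins.push 1 [([0, 0, -2, 0, 0, 0, -2, 0, 0, 0, 2, 2, 0, 0, 0, 0, 0, -2, 0, -2, 0, -2, -2, 0] : List ℤ)],
   Ins.push 0 [([0, -2, 0, 0, 0, 0, -2, 2, 0, 0, 0, -2, 0, 0, -2, 0, 0, 0, 0, 2, -2, 0, -2, 0] : List ℤ)],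
   Ins.push 1 [([0, 0, -2, 0, 0, -2, 0, 0, 0, 0, -2, -2, 0, -2, 0, 2, 0, 0, 0, 0, -2, 2, 0, 0] : List ℤ)],
   Ins.push 0 [([0, 0, 0, 0, 0, 0, -2, -2, 0, -2, -2, 0, 0, 0, 0, 2, 0, 0, 0, -2, 2, -2, 0, 0] : List ℤ)],
   Ins.push 0 [([0, -2, 0, 0, 0, -2, 0, -2, 0, 0, 2, 0, -2, 0, 0, 2, 0, 0, 0, 0, -2, 0, -2, 0] : List ℤ)],
   Ins.push 1 [([0, 2, -2, 0, 0, -2, -2, 0, 0, 0, 0, -2, 0, 0, -2, 0, 0, 0, 2, 0, 0, -2, 0, 0] : List ℤ)],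
   Ins.push 0 [([0, -2, 0, 0, 2, 0, -2, 0, 0, 0, 0, 0, 0, 0, 0, 0, 0, -2, 2, -2, -2, -2, 0, 0] : List ℤ)],
   Ins.push 0 [([0, -2, 2, 0, 2, 0, 0, 0, 0, 0, -2, -2, 0, 0, 0, 0, 0, 0, -2, 0, -2, 0, -2, 0] : List ℤ)],
   Ins.push 1 [([0, -2, -2, 2, -2, -2, 0, 0, 2, 0, 0, -2, 0, -2, 0, 0, 0, 0, 0, 0, 0, 0, 0, 0] : List ℤ)],
   Ins.mark,
   Ins.pop,
   Ins.pop,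
   Ins.pop,
   Ins.pop,
   Ins.push 0 [([0, 0, 0, 0, 0, -2, 0, 2, -2, 0, -2, 0, 0, 0, -2, 2, 0, 0, -2, 0, 0, -2, 0, 0] : List ℤ)],
   Ins.push 1 [([0, -2, 0, 0, -2, 0, -2, 0, 0, 0, 0, 0, 0, 0, 0, 0, 0, -2, 2, -2, -2, 2, 0, 0] : List ℤ)],
   Ins.push 0 [([0, -2, -2, 0, 2, 0, 0, 0, 0, 0, -2, -2, 0, 0, 0, 0, 0, 0, -2, 0, 2, 0, -2, 0] : List ℤ)],
   Ins.push 1 [([0, -2, 2, 2, -2, -2, 0, 0, -2, 0, 0, -2, 0, -2, 0, 0, 0, 0, 0, 0, 0, 0, 0, 0] : List ℤ)],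
   Ins.mark,
   Ins.pop,
   Ins.pop,
   Ins.pop,
   Ins.pop,
   Ins.pop,
   Ins.pop,
   Ins.pop,
   Ins.pop,
   Ins.push 1 [([0, 2, 0, 0, 0, -2, 0, 0, -2, -2, -2, 0, 0, 2, 0, -2, 0, 0, 0, -2, 0, 0, 0, 0] : List ℤ)],
   Ins.push 1 [([0, -2, 0, 0, 0, 0, -2, 0, 0, 0, 0, 2, -2, 0, 0, -2, 0, -2, -2, 0, 0, 0, 2, 0] : List ℤ)],
   Ins.push 0 [([0, -2, 0, 0, -2, 0, 0, 0, -2, 0, 0, -2, 0, 0, 2, -2, 0, 0, -2, 2, 0, 0, 0, 0] : List ℤ)],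
   Ins.push 0 [([0, 0, -2, 0, -2, 0, 0, 0, 0, 0, 0, 0, 0, 0, 0, -2, -2, 2, -2, -2, 0, 0, 2, 0] : List ℤ)],
   Ins.push 1 [([0, 0, 0, -2, -2, 2, 0, 0, -2, 2, 0, 0, 0, 0, 0, -2, -2, 0, -2, 0, 0, 0, 0, 0] : List ℤ)],
   Ins.push 1 [([0, 0, 0, -2, -2, 0, 2, -2, 0, 0, 0, 0, 2, 0, 0, 0, -2, -2, -2, 0, 0, 0, 0, 0] : List ℤ)],
   Ins.push 0 [([0, 2, -2, -2, -2, -2, 0, 0, 2, 0, 0, -2, 0, -2, 0, 0, 0, 0, 0, 0, 0, 0, 0, 0] : List ℤ)],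
   Ins.mark,
   Ins.pop,
   Ins.pop,
   Ins.pop,
   Ins.pop,
   Ins.pop,
   Ins.pop,
   Ins.pop,
   Ins.pop,
   Ins.pop,
   Ins.pop,
   Ins.push 0 [([0, 2, -2, -2, 0, 0, 0, 0, -2, -2, -2, 0, 0, 0, 2, 0, 0, 0, -2, 0, 0, 0, 0, 0] : List ℤ)],
   Ins.push 0 [([0, 0, 0, -2, -2, 0, -2, -2, 0, 0, 0, 0, -2, 0, 0, 0, -2, 2, 2, 0, 0, 0, 0, 0] : List ℤ)],
   Ins.push 1 [([0, 0, 0, -2, 2, 0, 0, -2, 0, 2, -2, 0, 0, 0, -2, 0, -2, 0, 0, 0, 0, -2, 0, 0] : List ℤ)],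
   Ins.push 0 [([0, 0, 2, -2, 0, -2, 0, -2, 0, 0, 0, 0, 2, -2, 0, 0, 0, -2, 0, 0, -2, 0, 0, 0] : List ℤ)],
   Ins.push 0 [([0, 0, 0, -2, 0, -2, 2, 0, 2, -2, -2, -2, 0, 0, 0, 0, 0, 0, 0, 0, 0, -2, 0, 0] : List ℤ)],
   Ins.push 0 [([0, 2, 0, -2, 0, 0, 0, -2, 0, 0, 0, 0, -2, 0, 0, 0, 2, 0, 0, -2, -2, -2, 0, 0] : List ℤ)],
   Ins.push 1 [([0, 0, -2, 0, 0, 0, 0, -2, 0, 0, 0, 2, 0, 0, -2, -2, 2, 0, 0, -2, 0, -2, 0, 0] : List ℤ)],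
   Ins.push 1 [([0, 0, 0, 0, 0, 0, 0, 0, -2, 0, 0, 0, 0, 2, 0, -2, 2, 0, -2, -2, -2, -2, 0, 0] : List ℤ)],
   Ins.push 1 [([0, 0, -2, 0, -2, 0, 0, 0, 0, 0, 0, 0, 0, 0, 0, -2, 2, -2, -2, -2, 0, 0, 2, 0] : List ℤ)],
   Ins.push 1 [([0, 0, 0, -2, -2, 2, 0, 0, -2, -2, 0, 0, 0, 0, 0, -2, 2, 0, -2, 0, 0, 0, 0, 0] : List ℤ)],
   Ins.push 1 [([0, 0, 0, -2, -2, 0, 2, -2, 0, 0, 0, 0, -2, 0, 0, 0, 2, -2, -2, 0, 0, 0, 0, 0] : List ℤ)],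
   Ins.push 0 [([0, 2, -2, -2, -2, -2, 0, 0, -2, 0, 0, -2, 0, 2, 0, 0, 0, 0, 0, 0, 0, 0, 0, 0] : List ℤ)],
   Ins.mark,
   Ins.pop,
   Ins.pop,
   Ins.pop,
   Ins.pop,
   Ins.pop,
   Ins.pop,
   Ins.pop,
   Ins.pop,
   Ins.pop,
   Ins.pop,
   Ins.pop,
   Ins.pop,
   Ins.pop,
   Ins.pop,
   Ins.push 1 [([0, 0, 0, 2, 0, 0, -2, -2, -2, 0, 0, -2, 0, 2, 0, 0, 0, -2, 0, 0, 0, 0, -2, 0] : List ℤ)],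
   Ins.push 0 [([0, -2, 0, 2, 0, -2, 0, 0, 0, 2, 0, -2, 0, 0, -2, 0, -2, 0, 0, -2, 0, 0, 0, 0] : List ℤ)],
   Ins.push 1 [([0, 0, 0, 0, 0, 0, -2, 2, 0, 0, 0, -2, 2, -2, 0, -2, -2, 0, 0, 0, -2, 0, 0, 0] : List ℤ)],
   Ins.push 0 [([0, -2, 0, 0, 0, 2, 0, 0, 2, -2, -2, 0, 0, -2, 0, -2, 0, 0, 0, -2, 0, 0, 0, 0] : List ℤ)],
   Ins.push 1 [([0, -2, 0, 0, 0, 0, 2, 0, 0, 0, 0, -2, -2, 0, 0, -2, 0, 2, -2, 0, 0, 0, -2, 0] : List ℤ)],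
   Ins.push 1 [([0, 0, 0, 0, -2, -2, 0, 0, 0, 2, 2, -2, 0, -2, -2, 0, 0, 0, -2, 0, 0, 0, 0, 0] : List ℤ)],
   Ins.push 1 [([0, 2, 0, -2, -2, 0, -2, 0, 0, 0, 0, 0, 2, -2, 0, 0, 0, 0, 0, 0, -2, 0, -2, 0] : List ℤ)],
   Ins.push 0 [([0, -2, -2, -2, 0, 0, 0, 0, 2, -2, -2, 0, 0, 0, -2, 0, 0, 0, 2, 0, 0, 0, 0, 0] : List ℤ)],
   Ins.push 0 [([0, 0, 0, -2, 2, 0, -2, -2, 0, 0, 0, 0, -2, 0, 0, 0, 2, -2, -2, 0, 0, 0, 0, 0] : List ℤ)],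
   Ins.push 0 [([0, -2, 2, -2, -2, -2, 0, 0, -2, 0, 0, -2, 0, 2, 0, 0, 0, 0, 0, 0, 0, 0, 0, 0] : List ℤ)],
   Ins.mark,
   Ins.pop,
   Ins.pop,
   Ins.pop,
   Ins.pop,
   Ins.pop,
   Ins.push 0 [([0, 2, 0, 0, -2, 0, 0, 0, -2, 0, 0, 2, 0, 0, -2, -2, 0, 0, -2, -2, 0, 0, 0, 0] : List ℤ)],
   Ins.push 0 [([0, 0, -2, 0, -2, 0, 0, 0, 0, 0, 0, 0, 0, 0, 0, -2, -2, -2, 2, 2, 0, 0, -2, 0] : List ℤ)],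
   Ins.push 1 [([0, 0, 0, -2, 2, -2, 0, 0, -2, -2, 0, 0, 0, 0, 0, 2, -2, 0, -2, 0, 0, 0, 0, 0] : List ℤ)],
   Ins.push 1 [([0, 0, 0, 2, -2, 0, -2, -2, 0, 0, 0, 0, -2, 0, 0, 0, -2, -2, 2, 0, 0, 0, 0, 0] : List ℤ)],
   Ins.push 0 [([0, -2, -2, 2, 2, -2, 0, 0, -2, 0, 0, -2, 0, -2, 0, 0, 0, 0, 0, 0, 0, 0, 0, 0] : List ℤ)],
   Ins.mark,
   Ins.pop,
   Ins.pop,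
   Ins.pop,
   Ins.pop,
   Ins.pop,
   Ins.pop,
   Ins.pop,
   Ins.push 1 [([0, 0, -2, 0, 0, 0, 0, 0, 0, 0, -2, 0, 0, -2, 2, 0, -2, 0, -2, 0, 0, 2, -2, 0] : List ℤ)],
   Ins.push 0 [([0, 0, 0, 0, -2, 0, -2, -2, 0, -2, 0, 0, 0, -2, -2, 0, 0, 2, 0, 0, 2, 0, 0, 0] : List ℤ)],
   Ins.push 1 [([0, 0, 2, -2, 0, 0, 0, 0, 0, 2, -2, 0, -2, 0, 0, 0, 0, 0, 0, 0, -2, -2, -2, 0] : List ℤ)],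
   Ins.push 1 [([0, -2, -2, 0, 0, -2, 0, -2, 2, 0, 0, 0, 2, 0, -2, 0, 0, 0, 0, -2, 0, 0, 0, 0] : List ℤ)],
   Ins.push 0 [([0, 0, 0, 0, 0, -2, -2, 0, 2, 0, 0, 0, 0, 0, 0, 0, 2, -2, -2, 0, 0, -2, -2, 0] : List ℤ)],
   Ins.push 1 [([0, 0, 0, 0, -2, -2, -2, 0, 0, -2, -2, 0, 0, 0, 0, 0, 2, 2, 0, -2, 0, 0, 0, 0] : List ℤ)],
   Ins.push 1 [([0, -2, 0, -2, 0, 0, -2, 0, 0, 2, -2, 0, -2, 0, 0, -2, 2, 0, 0, 0, 0, 0, 0, 0] : List ℤ)],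
   Ins.push 0 [([0, -2, 0, -2, 0, 0, 0, -2, -2, 0, 0, 0, 2, 2, 0, -2, 0, 0, -2, 0, 0, 0, 0, 0] : List ℤ)],
   Ins.push 0 [([0, 0, 0, -2, -2, -2, 0, 0, 2, 2, 0, 0, 0, 0, 0, -2, -2, 0, -2, 0, 0, 0, 0, 0] : List ℤ)],
   Ins.push 1 [([0, 0, 0, -2, -2, 0, -2, -2, 0, 0, 0, 0, 2, 0, 0, 0, -2, 2, -2, 0, 0, 0, 0, 0] : List ℤ)],
   Ins.push 0 [([0, -2, -2, -2, -2, -2, 0, 0, 2, 0, 0, 2, 0, -2, 0, 0, 0, 0, 0, 0, 0, 0, 0, 0] : List ℤ)],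
   Ins.mark,
   Ins.pop,
   Ins.pop,
   Ins.pop,
   Ins.pop,
   Ins.pop,
   Ins.pop,
   Ins.pop,
   Ins.pop,
   Ins.pop,
   Ins.pop,
   Ins.pop,
   Ins.pop,
   Ins.push 0 [([0, 0, 0, 2, 0, 0, 0, 0, 0, 0, 0, 0, 2, -2, 0, 0, 0, -2, -2, -2, 0, -2, -2, 0] : List ℤ)],
   Ins.push 1 [([0, 0, 0, 0, -2, -2, 0, 2, 0, -2, 0, 0, 0, 0, 2, -2, 0, 0, 0, -2, 0, 0, -2, 0] : List ℤ)],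
   Ins.push 0 [([0, 0, -2, 0, 0, 2, 0, 0, 0, 0, 0, 0, -2, 0, -2, -2, 0, 2, 0, 0, 0, -2, -2, 0] : List ℤ)],
   Ins.push 0 [([0, 0, 0, 0, 0, 0, -2, 0, -2, 0, 0, 2, 0, 0, -2, -2, 0, -2, 0, 0, -2, 2, 0, 0] : List ℤ)],
   Ins.push 0 [([0, -2, 0, 0, 0, 0, 0, 0, 0, 0, -2, -2, 0, 0, 0, -2, -2, -2, 0, 2, 2, 0, 0, 0] : List ℤ)],
   Ins.push 0 [([0, 0, 0, 0, 0, 0, 0, -2, 0, 0, 2, -2, 0, -2, 0, -2, 0, 0, -2, -2, 0, 0, 2, 0] : List ℤ)],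
   Ins.push 1 [([0, 2, 0, 0, -2, 2, 0, 0, 0, 0, 0, 0, 0, -2, 0, -2, 0, 0, -2, 0, 0, -2, -2, 0] : List ℤ)],
   Ins.push 0 [([0, 0, -2, 0, -2, 0, 0, 0, 0, -2, 0, 0, 0, 0, -2, -2, 0, 0, 2, 0, -2, 2, 0, 0] : List ℤ)],
   Ins.push 0 [([0, 0, -2, 0, 2, 0, -2, 0, 0, 0, -2, 0, -2, 0, 0, -2, 0, -2, 0, 0, 2, 0, 0, 0] : List ℤ)],
   Ins.push 1 [([0, -2, 2, 2, 0, 0, 0, 0, -2, -2, -2, 0, 0, 0, -2, 0, 0, 0, -2, 0, 0, 0, 0, 0] : List ℤ)],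
   Ins.push 0 [([0, 0, 0, 2, -2, 0, 2, -2, 0, 0, 0, 0, -2, 0, 0, 0, -2, -2, -2, 0, 0, 0, 0, 0] : List ℤ)],
   Ins.push 0 [([0, 2, -2, 2, -2, -2, 0, 0, -2, 0, 0, -2, 0, -2, 0, 0, 0, 0, 0, 0, 0, 0, 0, 0] : List ℤ)],
   Ins.mark,
   Ins.pop,
   Ins.pop,
   Ins.pop,
   Ins.pop,
   Ins.pop,
   Ins.pop,
   Ins.pop,
   Ins.pop,
   Ins.pop,
   Ins.pop,
   Ins.push 1 [([0, 0, 0, -2, 0, -2, -2, 0, 0, 0, 0, 0, -2, 0, 0, -2, 0, 0, -2, 0, 2, 2, 0, 0] : List ℤ)],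
   Ins.push 1 [([0, 0, 2, 0, -2, 0, -2, -2, 0, 0, -2, 0, 0, 0, -2, 0, 0, 0, -2, 2, 0, 0, 0, 0] : List ℤ)],
   Ins.push 0 [([0, -2, -2, 0, -2, -2, 2, -2, 0, 0, 0, 0, 0, 0, 0, 0, 0, -2, 0, 0, 0, 0, 2, 0] : List ℤ)],
   Ins.push 0 [([0, 2, -2, 0, 0, -2, -2, 0, 0, 0, 0, -2, 0, 0, 2, 0, 0, 0, -2, 0, 0, -2, 0, 0] : List ℤ)],
   Ins.push 0 [([0, -2, 0, 0, -2, 0, -2, 0, 0, 0, 0, 0, 0, 0, 0, 0, 0, 2, 2, -2, -2, -2, 0, 0] : List ℤ)],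
   Ins.push 0 [([0, -2, -2, 0, 2, 0, 0, 0, 0, 0, -2, 2, 0, 0, 0, 0, 0, 0, -2, 0, -2, 0, -2, 0] : List ℤ)],
   Ins.push 1 [([0, -2, -2, 2, -2, -2, 0, 0, -2, 0, 0, -2, 0, 2, 0, 0, 0, 0, 0, 0, 0, 0, 0, 0] : List ℤ)],
   Ins.mark,
   Ins.pop,
   Ins.pop,
   Ins.pop,
   Ins.pop,
   Ins.pop,
   Ins.pop,
   Ins.pop,
   Ins.pop,
   Ins.push 0 [([0, 0, 0, 2, -2, 0, 0, 0, 2, -2, 0, -2, 0, 0, -2, 0, 0, 0, 0, 0, -2, 0, -2, 0] : List ℤ)],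
   Ins.push 1 [([0, 0, -2, -2, 0, -2, 0, 2, 0, 0, 0, 0, -2, -2, 0, 0, 0, 2, 0, 0, -2, 0, 0, 0] : List ℤ)],
   Ins.push 0 [([0, 0, 0, -2, 0, 2, -2, 0, -2, -2, -2, 2, 0, 0, 0, 0, 0, 0, 0, 0, 0, -2, 0, 0] : List ℤ)],
   Ins.push 0 [([0, -2, 0, -2, 0, 0, 0, -2, 0, 0, 0, 0, -2, 0, 0, 0, -2, 0, 0, 2, -2, 2, 0, 0] : List ℤ)],
   Ins.push 1 [([0, 0, -2, 0, 0, 0, 0, -2, 0, 0, 0, -2, 0, 0, -2, 2, -2, 0, 0, 2, 0, -2, 0, 0] : List ℤ)],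
   Ins.push 1 [([0, 0, 0, 0, 0, 0, 0, 0, -2, 0, 0, 0, 0, -2, 0, 2, -2, 0, 2, -2, -2, -2, 0, 0] : List ℤ)],
   Ins.push 1 [([0, 0, -2, 0, 2, 0, 0, 0, 0, 0, 0, 0, 0, 0, 0, -2, -2, -2, 2, -2, 0, 0, -2, 0] : List ℤ)],
   Ins.push 1 [([0, 0, 0, 2, 2, -2, 0, 0, -2, -2, 0, 0, 0, 0, 0, -2, -2, 0, -2, 0, 0, 0, 0, 0] : List ℤ)],
   Ins.push 1 [([0, 0, 0, 2, -2, 0, -2, 2, 0, 0, 0, 0, -2, 0, 0, 0, -2, -2, -2, 0, 0, 0, 0, 0] : List ℤ)],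
   Ins.push 0 [([0, -2, -2, 2, -2, 2, 0, 0, -2, 0, 0, -2, 0, -2, 0, 0, 0, 0, 0, 0, 0, 0, 0, 0] : List ℤ)],
   Ins.mark,
   Ins.pop,
   Ins.pop,
   Ins.pop,
   Ins.pop,
   Ins.pop,
   Ins.pop,
   Ins.pop,
   Ins.pop,
   Ins.pop,
   Ins.pop,
   Ins.pop,
   Ins.pop,
   Ins.push 1 [([0, 0, 0, 0, 0, -2, 0, 2, 0, -2, -2, 0, 0, -2, 0, 0, 0, -2, 0, 0, 0, -2, 2, 0] : List ℤ)],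
   Ins.push 0 [([0, 0, 0, 0, 0, 2, 0, -2, 0, -2, 0, -2, -2, 0, 2, 0, 0, 0, 0, 0, -2, -2, 0, 0] : List ℤ)],
   Ins.push 0 [([0, 0, 0, 0, 0, -2, 0, 0, -2, 0, -2, 0, -2, 0, 0, 0, 0, 2, 0, -2, -2, 2, 0, 0] : List ℤ)],
   Ins.push 1 [([0, -2, -2, 0, 0, 0, -2, 0, 0, 2, 0, 0, 0, 0, -2, -2, 0, -2, 0, 2, 0, 0, 0, 0] : List ℤ)],
   Ins.push 0 [([0, -2, 0, 0, 0, 0, -2, 0, 0, 0, 0, -2, 2, 0, 0, -2, 0, -2, -2, 0, 0, 0, 2, 0] : List ℤ)],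
   Ins.push 0 [([0, -2, 0, 0, -2, 0, 0, 0, 2, 0, 0, -2, 0, 0, 2, -2, 0, 0, -2, -2, 0, 0, 0, 0] : List ℤ)],
   Ins.push 0 [([0, 0, -2, 0, -2, 0, 0, 0, 0, 0, 0, 0, 0, 0, 0, -2, 2, 2, -2, -2, 0, 0, -2, 0] : List ℤ)],
   Ins.push 1 [([0, 0, 0, -2, -2, -2, 0, 0, -2, 2, 0, 0, 0, 0, 0, -2, 2, 0, -2, 0, 0, 0, 0, 0] : List ℤ)],
   Ins.push 1 [([0, 0, 0, -2, -2, 0, -2, -2, 0, 0, 0, 0, 2, 0, 0, 0, 2, -2, -2, 0, 0, 0, 0, 0] : List ℤ)],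
   Ins.push 0 [([0, -2, -2, -2, -2, -2, 0, 0, 2, 0, 0, -2, 0, 2, 0, 0, 0, 0, 0, 0, 0, 0, 0, 0] : List ℤ)],
   Ins.mark,
   Ins.pop,
   Ins.pop,
   Ins.pop,
   Ins.pop,
   Ins.pop,
   Ins.push 1 [([0, 0, 0, 0, -2, 2, 0, 0, 0, -2, -2, -2, 0, -2, 2, 0, 0, 0, -2, 0, 0, 0, 0, 0] : List ℤ)],
   Ins.push 1 [([0, -2, 0, -2, -2, 0, 2, 0, 0, 0, 0, 0, -2, -2, 0, 0, 0, 0, 0, 0, 2, 0, -2, 0] : List ℤ)],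
   Ins.push 0 [([0, 2, -2, -2, 0, 0, 0, 0, -2, -2, 2, 0, 0, 0, -2, 0, 0, 0, -2, 0, 0, 0, 0, 0] : List ℤ)],
   Ins.push 0 [([0, 0, 0, -2, -2, 0, -2, 2, 0, 0, 0, 0, -2, 0, 0, 0, -2, -2, 2, 0, 0, 0, 0, 0] : List ℤ)],
   Ins.push 0 [([0, -2, -2, -2, 2, 2, 0, 0, -2, 0, 0, -2, 0, -2, 0, 0, 0, 0, 0, 0, 0, 0, 0, 0] : List ℤ)],
   Ins.mark,
   Ins.pop,
   Ins.pop,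
   Ins.pop,
   Ins.pop,
   Ins.pop,
   Ins.pop,
   Ins.pop,
   Ins.pop,
   Ins.push 1 [([0, 0, -2, 0, 0, 0, 2, 0, 0, 0, 0, 0, -2, -2, -2, 0, 0, 0, 0, -2, 2, -2, 0, 0] : List ℤ)],
   Ins.push 0 [([0, 2, 0, 0, 0, 0, -2, 0, -2, -2, 2, 0, 0, 0, 0, 0, 0, -2, 0, 0, -2, 0, -2, 0] : List ℤ)],
   Ins.push 1 [([0, 2, -2, 0, 0, -2, 0, 0, 0, -2, -2, 2, -2, 0, 0, 0, 0, -2, 0, 0, 0, 0, 0, 0] : List ℤ)],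
   Ins.push 0 [([0, 0, 0, 0, 0, 0, -2, -2, -2, 0, 0, -2, -2, 0, 0, 0, 0, 0, 2, 2, 0, -2, 0, 0] : List ℤ)],
   Ins.push 1 [([0, 0, 0, 0, 2, 0, 0, 0, 0, 0, -2, 0, 0, -2, -2, 2, 0, -2, 0, -2, 0, -2, 0, 0] : List ℤ)],
   Ins.push 0 [([0, 0, 2, 0, 0, 0, 0, -2, 0, -2, 0, -2, 0, 0, 0, 2, 0, -2, 0, 0, -2, 0, -2, 0] : List ℤ)],
   Ins.push 0 [([0, 0, 0, 0, 0, -2, 2, 0, 0, 0, -2, -2, -2, 0, -2, 2, 0, 0, 0, -2, 0, 0, 0, 0] : List ℤ)],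
   Ins.push 1 [([0, -2, 0, 0, 0, 0, -2, 0, 0, 0, 2, 0, 0, -2, -2, -2, 0, 0, 2, 0, -2, 0, 0, 0] : List ℤ)],
   Ins.push 1 [([0, 2, -2, 0, 2, 0, 0, 0, 0, 0, -2, -2, 0, 0, 0, 0, 0, 0, -2, 0, -2, 0, -2, 0] : List ℤ)],
   Ins.push 1 [([0, -2, -2, 2, -2, -2, 0, 0, -2, 0, 0, 2, 0, -2, 0, 0, 0, 0, 0, 0, 0, 0, 0, 0] : List ℤ)],
   Ins.mark,
   Ins.pop,
   Ins.pop,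
   Ins.pop,
   Ins.pop,
   Ins.pop,
   Ins.pop,
   Ins.pop,
   Ins.pop,
   Ins.pop,
   Ins.pop,
   Ins.pop,
   Ins.push 1 [([0, -2, 0, 0, 0, 2, -2, 0, 0, -2, 0, 0, -2, 0, 0, 0, 0, 0, 0, -2, 0, 2, -2, 0] : List ℤ)],
   Ins.push 0 [([0, -2, 0, 0, 0, 0, 0, 0, -2, 0, 0, 0, -2, 0, -2, 0, 0, 0, -2, 0, 2, 2, -2, 0] : List ℤ)],
   Ins.push 1 [([0, 0, 2, 0, -2, -2, 0, 0, 0, 0, 0, -2, 0, 0, -2, 0, 0, -2, 0, 2, -2, 0, 0, 0] : List ℤ)],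
   Ins.push 1 [([0, 0, -2, -2, 0, 0, -2, 0, 2, -2, 0, 0, 0, -2, 0, 2, 0, 0, 0, 0, -2, 0, 0, 0] : List ℤ)],
   Ins.push 0 [([0, -2, 0, -2, 0, 0, -2, 0, 0, -2, -2, 0, -2, 0, 0, 2, 2, 0, 0, 0, 0, 0, 0, 0] : List ℤ)],
   Ins.push 0 [([0, -2, 0, -2, 0, 0, 0, -2, -2, 0, 0, 0, -2, 2, 0, 2, 0, 0, -2, 0, 0, 0, 0, 0] : List ℤ)],
   Ins.push 0 [([0, 0, 0, -2, -2, -2, 0, 0, -2, 2, 0, 0, 0, 0, 0, 2, -2, 0, -2, 0, 0, 0, 0, 0] : List ℤ)],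
   Ins.push 1 [([0, 0, 0, -2, -2, 0, -2, -2, 0, 0, 0, 0, 2, 0, 0, 0, -2, -2, 2, 0, 0, 0, 0, 0] : List ℤ)],
   Ins.push 0 [([0, -2, -2, -2, 2, -2, 0, 0, 2, 0, 0, -2, 0, -2, 0, 0, 0, 0, 0, 0, 0, 0, 0, 0] : List ℤ)],
   Ins.mark,
   Ins.pop,
   Ins.pop,
   Ins.pop,
   Ins.pop,
   Ins.pop,
   Ins.pop,
   Ins.pop,
   Ins.pop,
   Ins.pop,
   Ins.pop,
   Ins.pop,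
   Ins.pop,
   Ins.push 2 [([0, 2, 2, 2, 2, 2, 0, 0, 2, 0, 0, 2, 0, 2, 0, 0, 0, 0, 0, 0, 0, 0, 0, 0] : List ℤ)],
   Ins.mark,
   Ins.push 11 [([0, 2, 2, 2, -2, 2, 0, 0, 2, 0, 0, -2, 0, 2, 0, 0, 0, 0, 0, 0, 0, 0, 0, 0] : List ℤ)],
   Ins.mark,
   Ins.push 0 [([0, 0, -2, 2, 0, 0, 2, 0, 0, 2, 0, 0, 0, 0, 0, 0, 2, 0, 2, -2, 0, 2, 0, 0] : List ℤ)],
   Ins.push 0 [([0, 2, 0, 2, 2, 0, -2, 0, 0, 0, 0, 0, 2, 2, 0, 0, 0, 0, 0, 0, 2, 0, -2, 0] : List ℤ)],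
   Ins.push 1 [([0, 0, 2, 2, 0, -2, 0, 2, 0, 0, -2, 2, 0, 0, 2, 0, 0, 0, 0, 0, 0, 0, 2, 0] : List ℤ)],
   Ins.push 1 [([0, -2, 0, 0, 0, 2, -2, 2, 2, 0, 0, 0, 0, 2, 0, 0, 0, 0, 0, 0, 2, 2, 0, 0] : List ℤ)],
   Ins.push 1 [([0, 0, 2, 0, 0, 0, 2, 0, 0, 0, -2, -2, 0, 0, 0, 0, 0, 2, 0, 2, 0, 2, 2, 0] : List ℤ)],
   Ins.push 0 [([0, 2, 0, 0, 0, 0, 2, -2, 0, 0, 0, 2, 0, 0, 2, 0, 0, 0, 0, -2, 2, 0, 2, 0] : List ℤ)],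
   Ins.push 1 [([0, 0, 2, 0, 0, 2, 0, 0, 0, 0, 2, 2, 0, 2, 0, -2, 0, 0, 0, 0, 2, -2, 0, 0] : List ℤ)],
   Ins.push 0 [([0, 0, 0, 0, 0, 0, 2, 2, 0, 2, 2, 0, 0, 0, 0, -2, 0, 0, 0, 2, -2, 2, 0, 0] : List ℤ)],
   Ins.push 0 [([0, 2, 0, 0, 0, 2, 0, 2, 0, 0, -2, 0, 2, 0, 0, -2, 0, 0, 0, 0, 2, 0, 2, 0] : List ℤ)],
   Ins.push 0 [([0, 0, 0, 0, 0, 2, 0, -2, 2, 0, 2, 0, 0, 0, 2, -2, 0, 0, 2, 0, 0, 2, 0, 0] : List ℤ)],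
   Ins.push 1 [([0, 2, 0, 0, 2, 0, 2, 0, 0, 0, 0, 0, 0, 0, 0, 0, 0, 2, -2, 2, 2, -2, 0, 0] : List ℤ)],
   Ins.push 0 [([0, 2, 2, 0, -2, 0, 0, 0, 0, 0, 2, 2, 0, 0, 0, 0, 0, 0, 2, 0, -2, 0, 2, 0] : List ℤ)],
   Ins.push 1 [([0, 2, -2, -2, 2, 2, 0, 0, 2, 0, 0, 2, 0, 2, 0, 0, 0, 0, 0, 0, 0, 0, 0, 0] : List ℤ)],
   Ins.mark,
   Ins.pop,
   Ins.pop,
   Ins.pop,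
   Ins.pop,
   Ins.push 1 [([0, -2, 2, 0, 0, 2, 2, 0, 0, 0, 0, 2, 0, 0, 2, 0, 0, 0, -2, 0, 0, 2, 0, 0] : List ℤ)],
   Ins.push 0 [([0, 2, 0, 0, -2, 0, 2, 0, 0, 0, 0, 0, 0, 0, 0, 0, 0, 2, -2, 2, 2, 2, 0, 0] : List ℤ)],
   Ins.push 0 [([0, 2, -2, 0, -2, 0, 0, 0, 0, 0, 2, 2, 0, 0, 0, 0, 0, 0, 2, 0, 2, 0, 2, 0] : List ℤ)],
   Ins.push 1 [([0, 2, 2, -2, 2, 2, 0, 0, -2, 0, 0, 2, 0, 2, 0, 0, 0, 0, 0, 0, 0, 0, 0, 0] : List ℤ)],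
   Ins.mark,
   Ins.pop,
   Ins.pop,
   Ins.pop,
   Ins.pop,
   Ins.pop,
   Ins.pop,
   Ins.pop,
   Ins.pop,
   Ins.push 1 [([0, -2, 0, 0, 0, 2, 0, 0, 2, 2, 2, 0, 0, -2, 0, 2, 0, 0, 0, 2, 0, 0, 0, 0] : List ℤ)],
   Ins.push 1 [([0, 2, 0, 0, 0, 0, 2, 0, 0, 0, 0, -2, 2, 0, 0, 2, 0, 2, 2, 0, 0, 0, -2, 0] : List ℤ)],
   Ins.push 0 [([0, 2, 0, 0, 2, 0, 0, 0, 2, 0, 0, 2, 0, 0, -2, 2, 0, 0, 2, -2, 0, 0, 0, 0] : List ℤ)],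
   Ins.push 0 [([0, 0, 2, 0, 2, 0, 0, 0, 0, 0, 0, 0, 0, 0, 0, 2, 2, -2, 2, 2, 0, 0, -2, 0] : List ℤ)],
   Ins.push 1 [([0, 0, 0, 2, 2, -2, 0, 0, 2, -2, 0, 0, 0, 0, 0, 2, 2, 0, 2, 0, 0, 0, 0, 0] : List ℤ)],
   Ins.push 1 [([0, 0, 0, 2, 2, 0, -2, 2, 0, 0, 0, 0, -2, 0, 0, 0, 2, 2, 2, 0, 0, 0, 0, 0] : List ℤ)],
   Ins.push 0 [([0, -2, 2, 2, 2, 2, 0, 0, -2, 0, 0, 2, 0, 2, 0, 0, 0, 0, 0, 0, 0, 0, 0, 0] : List ℤ)],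
   Ins.mark,
   Ins.pop,
   Ins.pop,
   Ins.pop,
   Ins.pop,
   Ins.pop,
   Ins.pop,
   Ins.pop,
   Ins.pop,
   Ins.pop,
   Ins.push 0 [([0, 0, 0, 2, 0, 2, 2, -2, 0, 0, 0, 0, 0, 0, 2, 0, 0, 2, 0, 2, 0, -2, 0, 0] : List ℤ)],
   Ins.push 1 [([0, 0, 0, 0, 0, 0, 2, 2, 0, 2, 2, 0, 0, 0, 0, 2, 0, 0, 0, -2, 2, -2, 0, 0] : List ℤ)],
   Ins.push 0 [([0, 2, 0, 0, 0, 2, 0, 2, 0, 0, 2, 0, 2, 0, 0, 2, 0, 0, 0, 0, -2, 0, -2, 0] : List ℤ)],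
   Ins.push 1 [([0, 2, -2, 0, 0, -2, 2, 0, 0, 0, 0, 2, 0, 0, 2, 0, 0, 0, 2, 0, 0, 2, 0, 0] : List ℤ)],
   Ins.push 0 [([0, 2, 0, 0, 2, 0, -2, 0, 0, 0, 0, 0, 0, 0, 0, 0, 0, 2, 2, 2, 2, -2, 0, 0] : List ℤ)],
   Ins.push 1 [([0, 0, 2, 2, 2, 0, 0, 0, 0, 2, -2, 2, 0, 0, 0, 2, 0, 0, 0, -2, 0, 0, 0, 0] : List ℤ)],
   Ins.push 1 [([0, -2, 0, 2, 0, 0, 0, 2, 2, 0, 0, 0, 2, 2, 0, -2, 0, 0, 2, 0, 0, 0, 0, 0] : List ℤ)],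
   Ins.push 0 [([0, 0, 0, 2, 2, 2, 0, 0, 2, 2, 0, 0, 0, 0, 0, -2, 2, 0, -2, 0, 0, 0, 0, 0] : List ℤ)],
   Ins.push 1 [([0, 0, 0, 2, -2, 0, 2, 2, 0, 0, 0, 0, 2, 0, 0, 0, 2, 2, -2, 0, 0, 0, 0, 0] : List ℤ)],
   Ins.push 0 [([0, 2, -2, 2, -2, 2, 0, 0, 2, 0, 0, 2, 0, 2, 0, 0, 0, 0, 0, 0, 0, 0, 0, 0] : List ℤ)],
   Ins.mark,
   Ins.pop,
   Ins.pop,
   Ins.pop,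
   Ins.pop,
   Ins.pop,
   Ins.push 0 [([0, -2, 2, 0, 2, 0, 0, 0, 0, 0, 2, 2, 0, 0, 0, 0, 0, 0, 2, 0, -2, 0, 2, 0] : List ℤ)],
   Ins.push 1 [([0, 2, -2, 2, 2, 2, 0, 0, 2, 0, 0, -2, 0, 2, 0, 0, 0, 0, 0, 0, 0, 0, 0, 0] : List ℤ)],
   Ins.mark,
   Ins.pop,
   Ins.pop,
   Ins.pop,
   Ins.pop,
   Ins.push 0 [([0, 0, 0, 0, 0, 2, 0, 2, 2, 0, -2, 0, 0, 0, -2, 2, 0, 0, 2, 0, 0, 2, 0, 0] : List ℤ)],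
   Ins.push 1 [([0, -2, 0, 0, 2, 0, 2, 0, 0, 0, 0, 0, 0, 0, 0, 0, 0, 2, 2, 2, -2, 2, 0, 0] : List ℤ)],
   Ins.push 0 [([0, 2, 2, 0, 2, 0, 0, 0, 0, 0, -2, 2, 0, 0, 0, 0, 0, 0, -2, 0, 2, 0, 2, 0] : List ℤ)],
   Ins.push 1 [([0, -2, 2, 2, -2, 2, 0, 0, 2, 0, 0, 2, 0, 2, 0, 0, 0, 0, 0, 0, 0, 0, 0, 0] : List ℤ)],
   Ins.mark,
   Ins.pop,
   Ins.pop,
   Ins.pop,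
   Ins.pop,
   Ins.pop,
   Ins.push 1 [([0, 2, 2, 0, 0, 0, 0, 0, 0, 0, 2, 0, 2, 0, 0, -2, 0, 0, 2, -2, 0, 2, 0, 0] : List ℤ)],
   Ins.push 1 [([0, 2, 0, 0, 2, 0, 0, 0, 2, 0, 0, 2, 0, 0, 2, -2, 0, 0, -2, 2, 0, 0, 0, 0] : List ℤ)],
   Ins.push 0 [([0, 0, 2, 0, -2, 0, 0, 0, 0, 0, 0, 0, 0, 0, 0, -2, 2, 2, 2, 2, 0, 0, 2, 0] : List ℤ)],
   Ins.push 1 [([0, 0, 0, -2, 2, 2, 0, 0, 2, 2, 0, 0, 0, 0, 0, 2, 2, 0, -2, 0, 0, 0, 0, 0] : List ℤ)],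
   Ins.push 1 [([0, 0, 0, 2, -2, 0, 2, -2, 0, 0, 0, 0, 2, 0, 0, 0, 2, 2, 2, 0, 0, 0, 0, 0] : List ℤ)],
   Ins.push 0 [([0, 2, -2, 2, 2, -2, 0, 0, 2, 0, 0, 2, 0, 2, 0, 0, 0, 0, 0, 0, 0, 0, 0, 0] : List ℤ)],
   Ins.mark,
   Ins.pop,
   Ins.pop,
   Ins.pop,
   Ins.pop,
   Ins.pop,
   Ins.pop,
   Ins.pop,
   Ins.push 0 [([0, 2, 0, 2, 0, -2, 0, 0, 0, 0, 0, 2, 0, 0, 0, 0, 0, 2, 0, 0, -2, 2, 2, 0] : List ℤ)],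
   Ins.push 1 [([0, 0, -2, 0, 0, 2, -2, 2, 0, 2, 0, 2, 0, 2, 0, 0, 0, 0, 0, 2, 0, 0, 0, 0] : List ℤ)],
   Ins.push 0 [([0, -2, 0, 0, 0, 2, -2, 0, 0, 2, 0, 0, 2, 0, 0, 0, 0, 0, 0, 2, 0, 2, 2, 0] : List ℤ)],
   Ins.push 1 [([0, 0, 0, 0, 0, 2, 2, 0, 0, 0, -2, -2, 2, 0, 2, 2, 0, 0, 0, 2, 0, 0, 0, 0] : List ℤ)],
   Ins.push 1 [([0, -2, 0, 0, 0, 0, 2, 0, 0, 0, 2, 0, 0, -2, 2, 2, 0, 0, 2, 0, 2, 0, 0, 0] : List ℤ)],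
   Ins.push 1 [([0, 2, 2, 0, 2, 0, 0, 0, 0, 0, 2, -2, 0, 0, 0, 0, 0, 0, 2, 0, 2, 0, -2, 0] : List ℤ)],
   Ins.push 1 [([0, 2, 2, 2, 2, -2, 0, 0, 2, 0, 0, 2, 0, -2, 0, 0, 0, 0, 0, 0, 0, 0, 0, 0] : List ℤ)],
   Ins.mark,
   Ins.pop,
   Ins.pop,
   Ins.pop,
   Ins.pop,
   Ins.pop,
   Ins.pop,
   Ins.pop,
   Ins.pop,
   Ins.pop,
   Ins.push 0 [([0, -2, 2, 2, 0, 0, 0, 0, 2, 2, 2, 0, 0, 0, -2, 0, 0, 0, 2, 0, 0, 0, 0, 0] : List ℤ)],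
   Ins.push 0 [([0, 0, 0, 2, 2, 0, 2, 2, 0, 0, 0, 0, 2, 0, 0, 0, 2, -2, -2, 0, 0, 0, 0, 0] : List ℤ)],
   Ins.push 1 [([0, 0, 0, 2, -2, 0, 0, 2, 0, -2, 2, 0, 0, 0, 2, 0, 2, 0, 0, 0, 0, 2, 0, 0] : List ℤ)],
   Ins.push 0 [([0, 0, -2, 2, 0, 2, 0, 2, 0, 0, 0, 0, -2, 2, 0, 0, 0, 2, 0, 0, 2, 0, 0, 0] : List ℤ)],
   Ins.push 0 [([0, 0, 0, 2, 0, 2, -2, 0, -2, 2, 2, 2, 0, 0, 0, 0, 0, 0, 0, 0, 0, 2, 0, 0] : List ℤ)],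
   Ins.push 0 [([0, -2, 0, 2, 0, 0, 0, 2, 0, 0, 0, 0, 2, 0, 0, 0, -2, 0, 0, 2, 2, 2, 0, 0] : List ℤ)],
   Ins.push 1 [([0, 0, 2, 0, 0, 0, 0, 2, 0, 0, 0, -2, 0, 0, 2, 2, -2, 0, 0, 2, 0, 2, 0, 0] : List ℤ)],
   Ins.push 1 [([0, 0, 0, 0, 0, 0, 0, 0, 2, 0, 0, 0, 0, -2, 0, 2, -2, 0, 2, 2, 2, 2, 0, 0] : List ℤ)],
   Ins.push 1 [([0, 0, 2, 0, 2, 0, 0, 0, 0, 0, 0, 0, 0, 0, 0, 2, -2, 2, 2, 2, 0, 0, -2, 0] : List ℤ)],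
   Ins.push 1 [([0, 0, 0, 2, 2, -2, 0, 0, 2, 2, 0, 0, 0, 0, 0, 2, -2, 0, 2, 0, 0, 0, 0, 0] : List ℤ)],
   Ins.push 1 [([0, 0, 0, 2, 2, 0, -2, 2, 0, 0, 0, 0, 2, 0, 0, 0, -2, 2, 2, 0, 0, 0, 0, 0] : List ℤ)],
   Ins.push 0 [([0, -2, 2, 2, 2, 2, 0, 0, 2, 0, 0, 2, 0, -2, 0, 0, 0, 0, 0, 0, 0, 0, 0, 0] : List ℤ)],
   Ins.mark,
   Ins.pop,
   Ins.pop,
   Ins.pop,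
   Ins.pop,
   Ins.pop,
   Ins.pop,
   Ins.pop,
   Ins.pop,
   Ins.pop,
   Ins.pop,
   Ins.pop,
   Ins.pop,
   Ins.pop,
   Ins.push 1 [([0, 0, 0, 0, 2, 0, 0, 2, -2, 0, 2, 0, 2, 0, 0, -2, 2, 0, 0, 2, 0, 0, 0, 0] : List ℤ)],
   Ins.push 1 [([0, 2, 0, 2, 0, 0, 0, 0, 0, 0, 0, 0, 0, 0, 2, 2, 2, -2, -2, 0, 0, 2, 0, 0] : List ℤ)],
   Ins.push 0 [([0, 0, 0, 2, -2, 0, 0, 0, 0, 0, 0, -2, 0, 2, 0, 2, 0, 2, 2, 0, 2, 0, 0, 0] : List ℤ)],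
   Ins.push 0 [([0, 0, -2, 2, 2, 0, 0, 0, 0, 2, 2, 2, 0, 0, 0, 2, 0, 0, 0, -2, 0, 0, 0, 0] : List ℤ)],
   Ins.push 1 [([0, 2, 0, 2, 0, 0, 0, 2, -2, 0, 0, 0, 2, 2, 0, -2, 0, 0, 2, 0, 0, 0, 0, 0] : List ℤ)],
   Ins.push 0 [([0, 0, 0, 2, 2, 2, 0, 0, 2, 2, 0, 0, 0, 0, 0, -2, -2, 0, 2, 0, 0, 0, 0, 0] : List ℤ)],
   Ins.push 1 [([0, 0, 0, 2, 2, 0, 2, 2, 0, 0, 0, 0, 2, 0, 0, 0, -2, 2, -2, 0, 0, 0, 0, 0] : List ℤ)],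
   Ins.push 0 [([0, 2, 2, 2, -2, 2, 0, 0, 2, 0, 0, 2, 0, -2, 0, 0, 0, 0, 0, 0, 0, 0, 0, 0] : List ℤ)],
   Ins.mark,
   Ins.pop,
   Ins.pop,
   Ins.pop,
   Ins.push 1 [([0, 0, 0, 0, 2, 0, 0, 2, 0, 0, 0, 2, 0, 0, 2, 0, 0, -2, -2, 0, 0, 2, 2, 0] : List ℤ)],
   Ins.push 1 [([0, 0, 0, 2, -2, 2, 0, 0, 0, -2, 0, 0, 0, 2, 0, 0, 0, 0, 0, 2, 2, 2, 0, 0] : List ℤ)],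
   Ins.push 1 [([0, 0, 2, -2, 0, 0, 2, 2, 0, 0, 0, 0, -2, 0, 0, 2, 0, 0, 0, 2, 0, 0, 2, 0] : List ℤ)],
   Ins.push 1 [([0, 0, 0, 0, 0, 2, 0, -2, 2, 0, 2, 0, 0, 0, -2, 2, 0, 0, 2, 0, 0, 2, 0, 0] : List ℤ)],
   Ins.push 1 [([0, 2, 0, 0, 2, 0, 2, 0, 0, 0, 0, 0, 0, 0, 0, 0, 0, 2, 2, 2, -2, -2, 0, 0] : List ℤ)],
   Ins.push 0 [([0, 2, 2, 0, 2, 0, 0, 0, 0, 0, -2, 2, 0, 0, 0, 0, 0, 0, 2, 0, -2, 0, 2, 0] : List ℤ)],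
   Ins.push 1 [([0, -2, -2, 2, 2, 2, 0, 0, 2, 0, 0, 2, 0, 2, 0, 0, 0, 0, 0, 0, 0, 0, 0, 0] : List ℤ)],
   Ins.mark,
   Ins.pop,
   Ins.pop,
   Ins.pop,
   Ins.pop,
   Ins.pop,
   Ins.pop,
   Ins.pop,
   Ins.pop,
   Ins.push 0 [([0, 0, 2, 2, 0, 0, -2, 2, 0, 0, 0, 0, 2, 0, 0, 2, 0, 0, 0, 2, 0, 0, -2, 0] : List ℤ)],
   Ins.push 1 [([0, 0, 0, 0, 0, -2, 0, 2, 2, 0, -2, 0, 0, 0, 2, 2, 0, 0, 2, 0, 0, 2, 0, 0] : List ℤ)],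
   Ins.push 0 [([0, 0, 0, 0, 2, 2, 0, -2, 0, 0, 0, 0, 0, 0, 0, 2, 2, 2, 0, 0, 2, -2, 0, 0] : List ℤ)],
   Ins.push 1 [([0, 0, 2, 2, 0, 0, 2, 0, 0, 2, 0, 0, 0, 0, 0, 0, 2, 0, 2, -2, 0, -2, 0, 0] : List ℤ)],
   Ins.push 0 [([0, 2, 0, 2, 2, 0, 2, 0, 0, 0, 0, 0, 2, 2, 0, 0, 0, 0, 0, 0, -2, 0, -2, 0] : List ℤ)],
   Ins.push 0 [([0, 2, 2, 2, 0, 0, 0, 0, 2, 2, -2, 0, 0, 0, -2, 0, 0, 0, 2, 0, 0, 0, 0, 0] : List ℤ)],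
   Ins.push 0 [([0, 0, 0, 2, 2, 0, 2, -2, 0, 0, 0, 0, 2, 0, 0, 0, 2, -2, 2, 0, 0, 0, 0, 0] : List ℤ)],
   Ins.push 0 [([0, 2, 2, 2, 2, -2, 0, 0, 2, 0, 0, -2, 0, 2, 0, 0, 0, 0, 0, 0, 0, 0, 0, 0] : List ℤ)],
   Ins.mark,
   Ins.pop,
   Ins.pop,
   Ins.pop,
   Ins.pop,
   Ins.pop,
   Ins.pop,
   Ins.push 1 [([0, -2, 0, 0, 2, 0, -2, 0, 0, 0, 0, 0, 0, 0, 0, 0, 0, 2, 2, 2, 2, 2, 0, 0] : List ℤ)],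
   Ins.push 1 [([0, 0, 2, 2, 2, 0, 0, 0, 0, 2, -2, -2, 0, 0, 0, 2, 0, 0, 0, 2, 0, 0, 0, 0] : List ℤ)],
   Ins.push 1 [([0, -2, 0, 2, 0, 0, 0, 2, 2, 0, 0, 0, 2, -2, 0, 2, 0, 0, 2, 0, 0, 0, 0, 0] : List ℤ)],
   Ins.push 0 [([0, 0, 0, 2, 2, 2, 0, 0, 2, -2, 0, 0, 0, 0, 0, 2, 2, 0, -2, 0, 0, 0, 0, 0] : List ℤ)],
   Ins.push 1 [([0, 0, 0, 2, -2, 0, 2, 2, 0, 0, 0, 0, -2, 0, 0, 0, 2, 2, 2, 0, 0, 0, 0, 0] : List ℤ)],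
   Ins.push 0 [([0, 2, -2, 2, 2, 2, 0, 0, -2, 0, 0, 2, 0, 2, 0, 0, 0, 0, 0, 0, 0, 0, 0, 0] : List ℤ)],
   Ins.mark,
   Ins.pop,
   Ins.pop,
   Ins.pop,
   Ins.pop,
   Ins.pop,
   Ins.pop,
   Ins.pop,
   Ins.pop,
   Ins.pop,
   Ins.pop,
   Ins.pop,
   Ins.push 0 [([0, 0, 2, 0, 0, 2, 0, 2, 2, 0, 0, 0, 0, 2, 0, -2, -2, 0, 0, 0, 0, 0, 2, 0] : List ℤ)],
   Ins.push 1 [([0, 0, 0, 0, 0, 2, 2, 0, 2, 0, 0, 0, 0, 0, 0, 0, -2, 2, -2, 0, 0, 2, 2, 0] : List ℤ)],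
   Ins.push 0 [([0, 2, 0, 0, -2, 0, 0, 0, 0, 0, 0, 2, 0, -2, 2, 0, 2, 0, 0, 0, 2, 2, 0, 0] : List ℤ)],
   Ins.push 1 [([0, 0, 2, -2, 0, 0, 0, 0, 0, 0, 0, 2, 0, 2, 0, 0, 2, 0, 0, 2, 2, 0, -2, 0] : List ℤ)],
   Ins.push 1 [([0, 0, 2, 0, 0, -2, 0, -2, 2, 0, 0, 0, 0, 2, 0, 2, 2, 0, 0, 0, 0, 0, 2, 0] : List ℤ)],
   Ins.push 1 [([0, 0, 0, 0, 0, 2, -2, 0, 2, 0, 0, 0, 0, 0, 0, 0, 2, 2, 2, 0, 0, -2, 2, 0] : List ℤ)],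
   Ins.push 1 [([0, 0, 0, 0, 2, 2, 2, 0, 0, 2, -2, 0, 0, 0, 0, 0, 2, 2, 0, -2, 0, 0, 0, 0] : List ℤ)],
   Ins.push 0 [([0, 2, 2, 0, 0, 0, 0, -2, 0, 0, 0, 2, 2, 2, 0, 0, 0, 0, 0, 0, 0, 2, -2, 0] : List ℤ)],
   Ins.push 0 [([0, 0, 0, 0, 0, -2, 2, 0, 2, 2, 0, 0, 0, 0, -2, 0, 0, 0, 2, 2, 2, 0, 0, 0] : List ℤ)],
   Ins.push 1 [([0, 0, 2, 0, 2, 0, -2, 0, 0, 0, 2, 0, 2, 0, 0, 2, 0, 2, 0, 0, -2, 0, 0, 0] : List ℤ)],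
   Ins.push 1 [([0, 2, -2, 2, 0, 0, 0, 0, 2, 2, -2, 0, 0, 0, 2, 0, 0, 0, 2, 0, 0, 0, 0, 0] : List ℤ)],
   Ins.push 0 [([0, 0, 0, 2, 2, 0, -2, -2, 0, 0, 0, 0, 2, 0, 0, 0, 2, 2, 2, 0, 0, 0, 0, 0] : List ℤ)],
   Ins.push 0 [([0, -2, 2, 2, 2, -2, 0, 0, 2, 0, 0, 2, 0, 2, 0, 0, 0, 0, 0, 0, 0, 0, 0, 0] : List ℤ)],
   Ins.mark,
   Ins.pop,
   Ins.pop,
   Ins.pop,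
   Ins.pop,
   Ins.pop,
   Ins.pop,
   Ins.pop,
   Ins.pop,
   Ins.pop,
   Ins.push 0 [([0, 0, 0, -2, 0, 0, 2, 0, 0, 2, 2, 0, 0, 2, -2, 0, 0, 0, 0, 2, 0, 0, 2, 0] : List ℤ)],
   Ins.push 1 [([0, 2, 0, 0, 0, 2, 0, -2, 0, 0, 2, 0, 2, 0, 0, 2, 0, 0, 0, 0, -2, 0, 2, 0] : List ℤ)],
   Ins.push 1 [([0, 2, -2, 0, 0, 2, 2, 0, 0, 0, 0, 2, 0, 0, 2, 0, 0, 0, 2, 0, 0, -2, 0, 0] : List ℤ)],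
   Ins.push 0 [([0, 2, 0, 0, 2, 0, -2, 0, 0, 0, 0, 0, 0, 0, 0, 0, 0, 2, 2, 2, -2, 2, 0, 0] : List ℤ)],
   Ins.push 0 [([0, -2, 2, 0, 2, 0, 0, 0, 0, 0, -2, 2, 0, 0, 0, 0, 0, 0, 2, 0, 2, 0, 2, 0] : List ℤ)],
   Ins.push 1 [([0, -2, 2, 2, 2, 2, 0, 0, 2, 0, 0, -2, 0, 2, 0, 0, 0, 0, 0, 0, 0, 0, 0, 0] : List ℤ)],
   Ins.mark,
   Ins.pop,
   Ins.pop,
   Ins.pop,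
   Ins.pop,
   Ins.pop,
   Ins.pop,
   Ins.pop,
   Ins.pop,
   Ins.push 1 [([0, 0, 0, 0, -2, 2, 2, 0, 0, 2, 2, 0, 0, 0, 0, 0, -2, 2, 0, 2, 0, 0, 0, 0] : List ℤ)],
   Ins.push 1 [([0, 2, 0, -2, 0, 0, 2, 0, 0, 2, 2, 0, 2, 0, 0, 2, -2, 0, 0, 0, 0, 0, 0, 0] : List ℤ)],
   Ins.push 0 [([0, 2, 0, -2, 0, 0, 0, 2, 2, 0, 0, 0, 2, -2, 0, 2, 0, 0, 2, 0, 0, 0, 0, 0] : List ℤ)],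
   Ins.push 0 [([0, 0, 0, -2, 2, 2, 0, 0, 2, -2, 0, 0, 0, 0, 0, 2, 2, 0, 2, 0, 0, 0, 0, 0] : List ℤ)],
   Ins.push 1 [([0, 0, 0, 2, 2, 0, 2, -2, 0, 0, 0, 0, -2, 0, 0, 0, 2, 2, 2, 0, 0, 0, 0, 0] : List ℤ)],
   Ins.push 0 [([0, 2, 2, 2, 2, -2, 0, 0, -2, 0, 0, 2, 0, 2, 0, 0, 0, 0, 0, 0, 0, 0, 0, 0] : List ℤ)],
   Ins.mark,
   Ins.pop,
   Ins.pop,
   Ins.pop,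
   Ins.pop,
   Ins.pop,
   Ins.pop,
   Ins.pop,
   Ins.push 0 [([0, 0, 0, 0, 0, 2, 2, 0, 0, 2, 0, 0, 0, -2, 2, -2, 2, 0, 0, 0, 0, 2, 0, 0] : List ℤ)],
   Ins.push 1 [([0, 0, 0, 0, 0, 0, 2, 0, 0, 0, 2, 0, 2, 0, 0, 0, 2, 0, -2, 2, 2, 0, -2, 0] : List ℤ)],
   Ins.push 0 [([0, 2, 0, 0, -2, 0, 0, 2, 2, 0, 2, 0, 0, 2, -2, 0, 0, 0, 0, 0, 0, 0, 2, 0] : List ℤ)],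
   Ins.push 1 [([0, 2, 0, -2, 0, 2, 0, 0, 0, 0, 0, 2, 0, 0, 0, 0, 0, 2, 0, 0, -2, 2, 2, 0] : List ℤ)],
   Ins.push 1 [([0, 0, -2, 0, 0, 2, 2, -2, 0, 2, 0, 2, 0, 2, 0, 0, 0, 0, 0, 2, 0, 0, 0, 0] : List ℤ)],
   Ins.push 0 [([0, 2, 0, 0, 0, -2, -2, 0, 0, 2, 0, 0, 2, 0, 0, 0, 0, 0, 0, 2, 0, 2, 2, 0] : List ℤ)],
   Ins.push 1 [([0, 0, 0, 0, 0, 2, -2, 0, 0, 0, -2, 2, 2, 0, 2, 2, 0, 0, 0, 2, 0, 0, 0, 0] : List ℤ)],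
   Ins.push 1 [([0, -2, 0, 0, 0, 0, 2, 0, 0, 0, -2, 0, 0, 2, 2, 2, 0, 0, 2, 0, 2, 0, 0, 0] : List ℤ)],
   Ins.push 1 [([0, -2, 2, 0, 2, 0, 0, 0, 0, 0, 2, -2, 0, 0, 0, 0, 0, 0, 2, 0, 2, 0, 2, 0] : List ℤ)],
   Ins.push 1 [([0, 2, 2, 2, 2, 2, 0, 0, 2, 0, 0, -2, 0, -2, 0, 0, 0, 0, 0, 0, 0, 0, 0, 0] : List ℤ)],
   Ins.mark,
   Ins.pop,
   Ins.pop,
   Ins.pop,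
   Ins.pop,
   Ins.pop,
   Ins.pop,
   Ins.pop,
   Ins.pop,
   Ins.pop,
   Ins.pop,
   Ins.pop,
   Ins.pop,
   Ins.pop,
   Ins.push 1 [([0, 0, 0, -2, 0, 0, 2, 2, 2, 0, 0, 2, 0, -2, 0, 0, 0, 2, 0, 0, 0, 0, 2, 0] : List ℤ)],
   Ins.push 1 [([0, 0, 0, 0, 0, 2, 0, -2, 0, 2, 2, 0, 0, 2, 0, 0, 0, 2, 0, 0, 0, 2, -2, 0] : List ℤ)],
   Ins.push 1 [([0, 2, 0, 0, 0, -2, 2, 0, 0, 2, 0, 0, 2, 0, 0, 0, 0, 0, 0, 2, 0, -2, 2, 0] : List ℤ)],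
   Ins.push 0 [([0, 2, 0, 0, 0, 0, 0, 0, 2, 0, 0, 0, 2, 0, 2, 0, 0, 0, 2, 0, -2, -2, 2, 0] : List ℤ)],
   Ins.push 1 [([0, 0, -2, 0, 2, 2, 0, 0, 0, 0, 0, 2, 0, 0, 2, 0, 0, 2, 0, -2, 2, 0, 0, 0] : List ℤ)],
   Ins.push 1 [([0, 0, 2, 2, 0, 0, 2, 0, -2, 2, 0, 0, 0, 2, 0, -2, 0, 0, 0, 0, 2, 0, 0, 0] : List ℤ)],
   Ins.push 0 [([0, 2, 0, 2, 0, 0, 2, 0, 0, 2, 2, 0, 2, 0, 0, -2, -2, 0, 0, 0, 0, 0, 0, 0] : List ℤ)],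
   Ins.push 0 [([0, 2, 0, 2, 0, 0, 0, 2, 2, 0, 0, 0, 2, -2, 0, -2, 0, 0, 2, 0, 0, 0, 0, 0] : List ℤ)],
   Ins.push 0 [([0, 0, 0, 2, 2, 2, 0, 0, 2, -2, 0, 0, 0, 0, 0, -2, 2, 0, 2, 0, 0, 0, 0, 0] : List ℤ)],
   Ins.push 1 [([0, 0, 0, 2, 2, 0, 2, 2, 0, 0, 0, 0, -2, 0, 0, 0, 2, 2, -2, 0, 0, 0, 0, 0] : List ℤ)],
   Ins.push 0 [([0, 2, 2, 2, -2, 2, 0, 0, -2, 0, 0, 2, 0, 2, 0, 0, 0, 0, 0, 0, 0, 0, 0, 0] : List ℤ)],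
   Ins.mark,
   Ins.pop,
   Ins.pop,
   Ins.pop,
   Ins.pop,
   Ins.pop,
   Ins.pop,
   Ins.pop,
   Ins.pop,
   Ins.pop,
   Ins.push 0 [([0, 0, 0, 0, 0, -2, 0, 2, 0, 2, 0, 2, 2, 0, -2, 0, 0, 0, 0, 0, 2, 2, 0, 0] : List ℤ)],
   Ins.push 0 [([0, 0, 0, 0, 0, 2, 0, 0, 2, 0, 2, 0, 2, 0, 0, 0, 0, -2, 0, 2, 2, -2, 0, 0] : List ℤ)],
   Ins.push 1 [([0, 2, 2, 0, 0, 0, 2, 0, 0, -2, 0, 0, 0, 0, 2, 2, 0, 2, 0, -2, 0, 0, 0, 0] : List ℤ)],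
   Ins.push 0 [([0, 2, 0, 0, 0, 0, 2, 0, 0, 0, 0, 2, -2, 0, 0, 2, 0, 2, 2, 0, 0, 0, -2, 0] : List ℤ)],
   Ins.push 0 [([0, 2, 0, 0, 2, 0, 0, 0, -2, 0, 0, 2, 0, 0, -2, 2, 0, 0, 2, 2, 0, 0, 0, 0] : List ℤ)],
   Ins.push 0 [([0, 0, 2, 0, 2, 0, 0, 0, 0, 0, 0, 0, 0, 0, 0, 2, -2, -2, 2, 2, 0, 0, 2, 0] : List ℤ)],
   Ins.push 1 [([0, 0, 0, 2, 2, 2, 0, 0, 2, -2, 0, 0, 0, 0, 0, 2, -2, 0, 2, 0, 0, 0, 0, 0] : List ℤ)],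
   Ins.push 1 [([0, 0, 0, 2, 2, 0, 2, 2, 0, 0, 0, 0, -2, 0, 0, 0, -2, 2, 2, 0, 0, 0, 0, 0] : List ℤ)],
   Ins.push 0 [([0, 2, 2, 2, 2, 2, 0, 0, -2, 0, 0, 2, 0, -2, 0, 0, 0, 0, 0, 0, 0, 0, 0, 0] : List ℤ)],
   Ins.mark,
   Ins.pop,
   Ins.pop,
   Ins.pop,
   Ins.pop,
   Ins.pop,
   Ins.push 1 [([0, 0, 0, 0, 2, -2, 0, 0, 0, 2, 2, 2, 0, 2, -2, 0, 0, 0, 2, 0, 0, 0, 0, 0] : List ℤ)],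
   Ins.push 1 [([0, 2, 0, 2, 2, 0, -2, 0, 0, 0, 0, 0, 2, 2, 0, 0, 0, 0, 0, 0, -2, 0, 2, 0] : List ℤ)],
   Ins.push 0 [([0, -2, 2, 2, 0, 0, 0, 0, 2, 2, -2, 0, 0, 0, 2, 0, 0, 0, 2, 0, 0, 0, 0, 0] : List ℤ)],
   Ins.push 0 [([0, 0, 0, 2, 2, 0, 2, -2, 0, 0, 0, 0, 2, 0, 0, 0, 2, 2, -2, 0, 0, 0, 0, 0] : List ℤ)],
   Ins.push 0 [([0, 2, 2, 2, -2, -2, 0, 0, 2, 0, 0, 2, 0, 2, 0, 0, 0, 0, 0, 0, 0, 0, 0, 0] : List ℤ)],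
   Ins.mark,
   Ins.pop,
   Ins.pop,
   Ins.pop,
   Ins.pop,
   Ins.pop,
   Ins.pop,
   Ins.pop,
   Ins.pop,
   Ins.push 1 [([0, 0, 2, 0, 0, 0, -2, 0, 0, 0, 0, 0, 2, 2, 2, 0, 0, 0, 0, 2, -2, 2, 0, 0] : List ℤ)],
   Ins.push 0 [([0, -2, 0, 0, 0, 0, 2, 0, 2, 2, -2, 0, 0, 0, 0, 0, 0, 2, 0, 0, 2, 0, 2, 0] : List ℤ)],
   Ins.push 1 [([0, -2, 2, 0, 0, 2, 0, 0, 0, 2, 2, -2, 2, 0, 0, 0, 0, 2, 0, 0, 0, 0, 0, 0] : List ℤ)],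
   Ins.push 0 [([0, 0, 0, 0, 0, 0, 2, 2, 2, 0, 0, 2, 2, 0, 0, 0, 0, 0, -2, -2, 0, 2, 0, 0] : List ℤ)],
   Ins.push 1 [([0, 0, 0, 0, -2, 0, 0, 0, 0, 0, 2, 0, 0, 2, 2, -2, 0, 2, 0, 2, 0, 2, 0, 0] : List ℤ)],
   Ins.push 0 [([0, 0, -2, 0, 0, 0, 0, 2, 0, 2, 0, 2, 0, 0, 0, -2, 0, 2, 0, 0, 2, 0, 2, 0] : List ℤ)],
   Ins.push 0 [([0, 0, 0, 0, 0, 2, -2, 0, 0, 0, 2, 2, 2, 0, 2, -2, 0, 0, 0, 2, 0, 0, 0, 0] : List ℤ)],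
   Ins.push 1 [([0, 2, 0, 0, 0, 0, 2, 0, 0, 0, -2, 0, 0, 2, 2, 2, 0, 0, -2, 0, 2, 0, 0, 0] : List ℤ)],
   Ins.push 1 [([0, -2, 2, 0, -2, 0, 0, 0, 0, 0, 2, 2, 0, 0, 0, 0, 0, 0, 2, 0, 2, 0, 2, 0] : List ℤ)],
   Ins.push 1 [([0, 2, 2, -2, 2, 2, 0, 0, 2, 0, 0, -2, 0, 2, 0, 0, 0, 0, 0, 0, 0, 0, 0, 0] : List ℤ)],
   Ins.mark,
   Ins.pop,
   Ins.pop,
   Ins.pop,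
   Ins.pop,
   Ins.pop,
   Ins.pop,
   Ins.pop,
   Ins.pop,
   Ins.pop,
   Ins.pop,
   Ins.pop,
   Ins.pop,
   Ins.push 0 [([0, 2, 0, -2, 0, 2, 0, 0, 0, -2, 0, 2, 0, 0, 2, 0, 2, 0, 0, 2, 0, 0, 0, 0] : List ℤ)],
   Ins.push 1 [([0, 0, 0, 0, 0, 0, 2, -2, 0, 0, 0, 2, -2, 2, 0, 2, 2, 0, 0, 0, 2, 0, 0, 0] : List ℤ)],
   Ins.push 1 [([0, 0, 2, 0, 0, 0, 0, 0, 0, 0, 2, 0, 0, 2, -2, 0, 2, 0, 2, 0, 0, -2, 2, 0] : List ℤ)],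
   Ins.push 0 [([0, 0, 0, 0, 2, 0, 2, 2, 0, 2, 0, 0, 0, 2, 2, 0, 0, -2, 0, 0, -2, 0, 0, 0] : List ℤ)],
   Ins.push 1 [([0, 0, -2, 2, 0, 0, 0, 0, 0, -2, 2, 0, 2, 0, 0, 0, 0, 0, 0, 0, 2, 2, 2, 0] : List ℤ)],
   Ins.push 1 [([0, 2, 2, 0, 0, 2, 0, 2, -2, 0, 0, 0, -2, 0, 2, 0, 0, 0, 0, 2, 0, 0, 0, 0] : List ℤ)],
   Ins.push 0 [([0, 0, 0, 0, 0, 2, 2, 0, -2, 0, 0, 0, 0, 0, 0, 0, -2, 2, 2, 0, 0, 2, 2, 0] : List ℤ)],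
   Ins.push 1 [([0, 0, 0, 0, 2, 2, 2, 0, 0, 2, 2, 0, 0, 0, 0, 0, -2, -2, 0, 2, 0, 0, 0, 0] : List ℤ)],
   Ins.push 1 [([0, 2, 0, 2, 0, 0, 2, 0, 0, -2, 2, 0, 2, 0, 0, 2, -2, 0, 0, 0, 0, 0, 0, 0] : List ℤ)],
   Ins.push 0 [([0, 2, 0, 2, 0, 0, 0, 2, 2, 0, 0, 0, -2, -2, 0, 2, 0, 0, 2, 0, 0, 0, 0, 0] : List ℤ)],
   Ins.push 0 [([0, 0, 0, 2, 2, 2, 0, 0, -2, -2, 0, 0, 0, 0, 0, 2, 2, 0, 2, 0, 0, 0, 0, 0] : List ℤ)],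
   Ins.push 1 [([0, 0, 0, 2, 2, 0, 2, 2, 0, 0, 0, 0, -2, 0, 0, 0, 2, -2, 2, 0, 0, 0, 0, 0] : List ℤ)],
   Ins.push 0 [([0, 2, 2, 2, 2, 2, 0, 0, -2, 0, 0, -2, 0, 2, 0, 0, 0, 0, 0, 0, 0, 0, 0, 0] : List ℤ)],
   Ins.mark,
   Ins.pop,
   Ins.pop,
   Ins.pop,
   Ins.pop,
   Ins.pop,
   Ins.pop,
   Ins.pop,
   Ins.pop,
   Ins.pop,
   Ins.pop,
   Ins.pop,
   Ins.push 0 [([0, 2, 0, 0, 0, -2, 0, 0, -2, 2, 2, 0, 0, 2, 0, 2, 0, 0, 0, 2, 0, 0, 0, 0] : List ℤ)],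
   Ins.push 1 [([0, 2, 0, 0, 0, 0, -2, 0, 0, 0, 0, 2, 2, 0, 0, 2, 0, -2, 2, 0, 0, 0, 2, 0] : List ℤ)],
   Ins.push 0 [([0, -2, 0, 0, 2, 0, 0, 0, 2, 0, 0, -2, 0, 0, 2, 2, 0, 0, 2, 2, 0, 0, 0, 0] : List ℤ)],
   Ins.push 0 [([0, 0, 2, 0, 2, 0, 0, 0, 0, 0, 0, 0, 0, 0, 0, 2, 2, 2, -2, -2, 0, 0, 2, 0] : List ℤ)],
   Ins.push 1 [([0, 0, 0, 2, -2, 2, 0, 0, 2, 2, 0, 0, 0, 0, 0, -2, 2, 0, 2, 0, 0, 0, 0, 0] : List ℤ)],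
   Ins.push 1 [([0, 0, 0, -2, 2, 0, 2, 2, 0, 0, 0, 0, 2, 0, 0, 0, 2, 2, -2, 0, 0, 0, 0, 0] : List ℤ)],
   Ins.push 0 [([0, 2, 2, -2, -2, 2, 0, 0, 2, 0, 0, 2, 0, 2, 0, 0, 0, 0, 0, 0, 0, 0, 0, 0] : List ℤ)],
   Ins.mark,
   Ins.pop,
   Ins.pop,
   Ins.pop,
   Ins.pop,
   Ins.pop,
   Ins.push 1 [([0, 0, 0, 0, 2, 2, 0, 0, 0, -2, -2, 2, 0, 2, 2, 0, 0, 0, 2, 0, 0, 0, 0, 0] : List ℤ)],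
   Ins.push 1 [([0, -2, 0, 2, 2, 0, 2, 0, 0, 0, 0, 0, -2, 2, 0, 0, 0, 0, 0, 0, 2, 0, 2, 0] : List ℤ)],
   Ins.push 0 [([0, 2, 2, 2, 0, 0, 0, 0, -2, 2, 2, 0, 0, 0, 2, 0, 0, 0, -2, 0, 0, 0, 0, 0] : List ℤ)],
   Ins.push 0 [([0, 0, 0, 2, -2, 0, 2, 2, 0, 0, 0, 0, 2, 0, 0, 0, -2, 2, 2, 0, 0, 0, 0, 0] : List ℤ)],
   Ins.push 0 [([0, 2, -2, 2, 2, 2, 0, 0, 2, 0, 0, 2, 0, -2, 0, 0, 0, 0, 0, 0, 0, 0, 0, 0] : List ℤ)],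
   Ins.mark,
   Ins.pop,
   Ins.pop,
   Ins.pop,
   Ins.pop,
   Ins.pop,
   Ins.pop,
   Ins.pop,
   Ins.pop,
   Ins.push 0 [([0, 0, 0, -2, 0, 0, 0, 0, 0, 0, 0, 0, -2, 2, 0, 0, 0, 2, 2, 2, 0, 2, 2, 0] : List ℤ)],
   Ins.push 1 [([0, 0, 0, 0, 2, 2, 0, -2, 0, 2, 0, 0, 0, 0, -2, 2, 0, 0, 0, 2, 0, 0, 2, 0] : List ℤ)],
   Ins.push 1 [([0, 0, 0, 2, 0, 2, 2, 0, 0, 0, 0, 0, 2, 0, 0, 2, 0, 0, 2, 0, -2, -2, 0, 0] : List ℤ)],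
   Ins.push 1 [([0, 0, -2, 0, 2, 0, 2, 2, 0, 0, 2, 0, 0, 0, 2, 0, 0, 0, 2, -2, 0, 0, 0, 0] : List ℤ)],
   Ins.push 0 [([0, 2, 2, 0, 2, 2, -2, 2, 0, 0, 0, 0, 0, 0, 0, 0, 0, 2, 0, 0, 0, 0, -2, 0] : List ℤ)],
   Ins.push 0 [([0, -2, 2, 0, 0, 2, 2, 0, 0, 0, 0, 2, 0, 0, -2, 0, 0, 0, 2, 0, 0, 2, 0, 0] : List ℤ)],
   Ins.push 0 [([0, 2, 0, 0, 2, 0, 2, 0, 0, 0, 0, 0, 0, 0, 0, 0, 0, -2, -2, 2, 2, 2, 0, 0] : List ℤ)],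
   Ins.push 0 [([0, 2, 2, 0, -2, 0, 0, 0, 0, 0, 2, -2, 0, 0, 0, 0, 0, 0, 2, 0, 2, 0, 2, 0] : List ℤ)],
   Ins.push 1 [([0, 2, 2, -2, 2, 2, 0, 0, 2, 0, 0, 2, 0, -2, 0, 0, 0, 0, 0, 0, 0, 0, 0, 0] : List ℤ)],
   Ins.mark,
   Ins.pop,
   Ins.pop,
   Ins.pop,
   Ins.pop,
   Ins.pop,
   Ins.pop,
   Ins.pop,
   Ins.push 0 [([0, 0, 2, 0, 0, -2, 0, 0, 0, 0, 0, 0, 2, 0, 2, 2, 0, -2, 0, 0, 0, 2, 2, 0] : List ℤ)],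
   Ins.push 0 [([0, 0, 0, 0, 0, 0, 2, 0, 2, 0, 0, -2, 0, 0, 2, 2, 0, 2, 0, 0, 2, -2, 0, 0] : List ℤ)],
   Ins.push 0 [([0, 2, 0, 0, 0, 0, 0, 0, 0, 0, 2, 2, 0, 0, 0, 2, 2, 2, 0, -2, -2, 0, 0, 0] : List ℤ)],
   Ins.push 0 [([0, 0, 0, 0, 0, 0, 0, 2, 0, 0, -2, 2, 0, 2, 0, 2, 0, 0, 2, 2, 0, 0, -2, 0] : List ℤ)],
   Ins.push 1 [([0, -2, 0, 0, 2, -2, 0, 0, 0, 0, 0, 0, 0, 2, 0, 2, 0, 0, 2, 0, 0, 2, 2, 0] : List ℤ)],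
   Ins.push 0 [([0, 0, 2, 0, 2, 0, 0, 0, 0, 2, 0, 0, 0, 0, 2, 2, 0, 0, -2, 0, 2, -2, 0, 0] : List ℤ)],
   Ins.push 0 [([0, 0, 2, 0, -2, 0, 2, 0, 0, 0, 2, 0, 2, 0, 0, 2, 0, 2, 0, 0, -2, 0, 0, 0] : List ℤ)],
   Ins.push 1 [([0, 2, -2, -2, 0, 0, 0, 0, 2, 2, 2, 0, 0, 0, 2, 0, 0, 0, 2, 0, 0, 0, 0, 0] : List ℤ)],
   Ins.push 0 [([0, 0, 0, -2, 2, 0, -2, 2, 0, 0, 0, 0, 2, 0, 0, 0, 2, 2, 2, 0, 0, 0, 0, 0] : List ℤ)],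
   Ins.push 0 [([0, -2, 2, -2, 2, 2, 0, 0, 2, 0, 0, 2, 0, 2, 0, 0, 0, 0, 0, 0, 0, 0, 0, 0] : List ℤ)],
   Ins.mark,
   Ins.pop,
   Ins.pop,
   Ins.pop,
   Ins.pop,
   Ins.pop,
   Ins.pop,
   Ins.pop,
   Ins.pop,
   Ins.pop,
   Ins.pop,
   Ins.pop,
   Ins.push 0 [([0, 0, 0, -2, 2, 0, 0, 0, -2, 2, 0, 2, 0, 0, 2, 0, 0, 0, 0, 0, 2, 0, 2, 0] : List ℤ)],
   Ins.push 1 [([0, 0, 2, 2, 0, 2, 0, -2, 0, 0, 0, 0, 2, 2, 0, 0, 0, -2, 0, 0, 2, 0, 0, 0] : List ℤ)],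
   Ins.push 0 [([0, 0, 0, 2, 0, -2, 2, 0, 2, 2, 2, -2, 0, 0, 0, 0, 0, 0, 0, 0, 0, 2, 0, 0] : List ℤ)],
   Ins.push 0 [([0, 2, 0, 2, 0, 0, 0, 2, 0, 0, 0, 0, 2, 0, 0, 0, 2, 0, 0, -2, 2, -2, 0, 0] : List ℤ)],
   Ins.push 1 [([0, 0, 2, 0, 0, 0, 0, 2, 0, 0, 0, 2, 0, 0, 2, -2, 2, 0, 0, -2, 0, 2, 0, 0] : List ℤ)],
   Ins.push 1 [([0, 0, 0, 0, 0, 0, 0, 0, 2, 0, 0, 0, 0, 2, 0, -2, 2, 0, -2, 2, 2, 2, 0, 0] : List ℤ)],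
   Ins.push 1 [([0, 0, 2, 0, -2, 0, 0, 0, 0, 0, 0, 0, 0, 0, 0, 2, 2, 2, -2, 2, 0, 0, 2, 0] : List ℤ)],
   Ins.push 1 [([0, 0, 0, -2, -2, 2, 0, 0, 2, 2, 0, 0, 0, 0, 0, 2, 2, 0, 2, 0, 0, 0, 0, 0] : List ℤ)],
   Ins.push 1 [([0, 0, 0, -2, 2, 0, 2, -2, 0, 0, 0, 0, 2, 0, 0, 0, 2, 2, 2, 0, 0, 0, 0, 0] : List ℤ)],
   Ins.push 0 [([0, 2, 2, -2, 2, -2, 0, 0, 2, 0, 0, 2, 0, 2, 0, 0, 0, 0, 0, 0, 0, 0, 0, 0] : List ℤ)],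
   Ins.mark,
   Ins.pop,
   Ins.pop,
   Ins.pop,
   Ins.pop,
   Ins.pop,
   Ins.pop,
   Ins.pop,
   Ins.pop,
   Ins.pop,
   Ins.pop,
   Ins.pop,
   Ins.pop,
   Ins.pop,
   Ins.pop,
   Ins.pop,
   Ins.push 4 [([0, 2, 2, -2, -2, -2, 0, 0, 2, 0, 0, 2, 0, -2, 0, 0, 0, 0, 0, 0, 0, 0, 0, 0] : List ℤ)],
   Ins.mark,
   Ins.push 1 [([0, 0, 0, -2, 0, 0, -2, -2, 2, 0, 0, 2, 0, 2, 0, 0, 0, 2, 0, 0, 0, 0, -2, 0] : List ℤ)],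
   Ins.push 0 [([0, -2, 0, -2, 0, -2, 0, 0, 0, 2, 0, 2, 0, 0, -2, 0, 2, 0, 0, 2, 0, 0, 0, 0] : List ℤ)],
   Ins.push 1 [([0, 0, 0, 0, 0, 0, -2, -2, 0, 0, 0, -2, 2, 2, 0, 2, 2, 0, 0, 0, -2, 0, 0, 0] : List ℤ)],
   Ins.push 0 [([0, -2, 0, 0, 0, -2, 0, 0, 2, 2, -2, 0, 0, 2, 0, 2, 0, 0, 0, -2, 0, 0, 0, 0] : List ℤ)],
   Ins.push 1 [([0, -2, 0, 0, 0, 0, -2, 0, 0, 0, 0, -2, 2, 0, 0, -2, 0, 2, 2, 0, 0, 0, 2, 0] : List ℤ)],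
   Ins.push 1 [([0, 0, 0, 0, 2, 2, 0, 0, 0, 2, -2, -2, 0, -2, 2, 0, 0, 0, -2, 0, 0, 0, 0, 0] : List ℤ)],
   Ins.push 1 [([0, -2, 0, 2, -2, 0, 2, 0, 0, 0, 0, 0, 2, -2, 0, 0, 0, 0, 0, 0, 2, 0, -2, 0] : List ℤ)],
   Ins.push 0 [([0, 2, -2, 2, 0, 0, 0, 0, 2, -2, 2, 0, 0, 0, -2, 0, 0, 0, -2, 0, 0, 0, 0, 0] : List ℤ)],
   Ins.push 0 [([0, 0, 0, 2, -2, 0, -2, 2, 0, 0, 0, 0, -2, 0, 0, 0, 2, -2, 2, 0, 0, 0, 0, 0] : List ℤ)],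
   Ins.push 0 [([0, -2, -2, 2, 2, 2, 0, 0, -2, 0, 0, -2, 0, 2, 0, 0, 0, 0, 0, 0, 0, 0, 0, 0] : List ℤ)],
   Ins.mark,
   Ins.pop,
   Ins.pop,
   Ins.pop,
   Ins.pop,
   Ins.pop,
   Ins.push 0 [([0, -2, 0, 0, 2, 0, 0, 0, 2, 0, 0, 2, 0, 0, 2, -2, 0, 0, -2, -2, 0, 0, 0, 0] : List ℤ)],
   Ins.push 0 [([0, 0, 2, 0, -2, 0, 0, 0, 0, 0, 0, 0, 0, 0, 0, -2, 2, 2, -2, 2, 0, 0, -2, 0] : List ℤ)],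
   Ins.push 1 [([0, 0, 0, -2, -2, -2, 0, 0, 2, 2, 0, 0, 0, 0, 0, 2, 2, 0, -2, 0, 0, 0, 0, 0] : List ℤ)],
   Ins.push 1 [([0, 0, 0, -2, -2, 0, -2, -2, 0, 0, 0, 0, 2, 0, 0, 0, 2, 2, 2, 0, 0, 0, 0, 0] : List ℤ)],
   Ins.push 0 [([0, -2, -2, -2, 2, -2, 0, 0, 2, 0, 0, 2, 0, 2, 0, 0, 0, 0, 0, 0, 0, 0, 0, 0] : List ℤ)],
   Ins.mark,
   Ins.pop,
   Ins.pop,
   Ins.pop,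
   Ins.pop,
   Ins.pop,
   Ins.pop,
   Ins.pop,
   Ins.pop,
   Ins.push 0 [([0, 0, 0, -2, 0, 0, 0, 0, 0, 0, 0, 0, 2, 2, 0, 0, 0, -2, -2, 2, 0, -2, 2, 0] : List ℤ)],
   Ins.push 1 [([0, 0, 0, 0, -2, 2, 0, -2, 0, -2, 0, 0, 0, 0, 2, 2, 0, 0, 0, -2, 0, 0, 2, 0] : List ℤ)],
   Ins.push 0 [([0, 0, -2, 0, 0, -2, 0, 0, 0, 0, 0, 0, -2, 0, 2, 2, 0, 2, 0, 0, 0, 2, -2, 0] : List ℤ)],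
   Ins.push 1 [([0, 0, 0, 0, 0, -2, -2, 0, -2, 2, 0, 0, 0, 0, -2, 0, 0, 0, 2, 2, 2, 0, 0, 0] : List ℤ)],
   Ins.push 1 [([0, 0, 2, 0, 2, 0, -2, 0, 0, 0, -2, 0, 2, 0, 0, 2, 0, -2, 0, 0, -2, 0, 0, 0] : List ℤ)],
   Ins.push 1 [([0, -2, -2, 2, 0, 0, 0, 0, 2, -2, -2, 0, 0, 0, 2, 0, 0, 0, 2, 0, 0, 0, 0, 0] : List ℤ)],
   Ins.push 0 [([0, 0, 0, 2, 2, 0, -2, -2, 0, 0, 0, 0, -2, 0, 0, 0, 2, 2, -2, 0, 0, 0, 0, 0] : List ℤ)],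
   Ins.push 0 [([0, -2, 2, 2, -2, -2, 0, 0, -2, 0, 0, 2, 0, 2, 0, 0, 0, 0, 0, 0, 0, 0, 0, 0] : List ℤ)],
   Ins.mark,
   Ins.pop,
   Ins.pop,
   Ins.pop,
   Ins.pop,
   Ins.pop,
   Ins.pop,
   Ins.pop,
   Ins.pop,
   Ins.pop,
   Ins.pop,
   Ins.push 0 [([0, 0, -2, -2, 0, 0, 2, 0, 0, -2, 0, 0, 0, 0, 0, 0, 2, 0, 2, 2, 0, -2, 0, 0] : List ℤ)],
   Ins.push 0 [([0, 2, 0, -2, 2, 0, -2, 0, 0, 0, 0, 0, -2, 2, 0, 0, 0, 0, 0, 0, -2, 0, 2, 0] : List ℤ)],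
   Ins.push 1 [([0, 0, -2, 2, 0, 2, 0, -2, 0, 0, -2, 2, 0, 0, -2, 0, 0, 0, 0, 0, 0, 0, 2, 0] : List ℤ)],
   Ins.push 0 [([0, 0, 0, 2, 0, -2, -2, -2, 0, 0, 0, 0, 0, 0, 2, 0, 0, -2, 0, 2, 0, 2, 0, 0] : List ℤ)],
   Ins.push 1 [([0, 0, 0, 0, 0, 0, -2, 2, 0, -2, -2, 0, 0, 0, 0, 2, 0, 0, 0, 2, 2, -2, 0, 0] : List ℤ)],
   Ins.push 1 [([0, -2, 2, 0, 0, 0, 0, 0, 0, 0, -2, 0, -2, 0, 0, 2, 0, 0, 2, -2, 0, 2, 0, 0] : List ℤ)],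
   Ins.push 1 [([0, -2, 0, 0, 2, 0, 0, 0, 2, 0, 0, -2, 0, 0, -2, -2, 0, 0, 2, 2, 0, 0, 0, 0] : List ℤ)],
   Ins.push 1 [([0, 0, 0, 2, 2, 0, 0, 0, 0, 0, 0, -2, 0, -2, 0, 2, 0, 2, -2, 0, -2, 0, 0, 0] : List ℤ)],
   Ins.push 0 [([0, 0, 2, 2, -2, 0, 0, 0, 0, -2, -2, 2, 0, 0, 0, 2, 0, 0, 0, -2, 0, 0, 0, 0] : List ℤ)],
   Ins.push 1 [([0, -2, 0, -2, 0, 0, 0, 2, 2, 0, 0, 0, -2, 2, 0, -2, 0, 0, 2, 0, 0, 0, 0, 0] : List ℤ)],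
   Ins.push 0 [([0, 0, 0, -2, 2, 2, 0, 0, -2, 2, 0, 0, 0, 0, 0, -2, 2, 0, -2, 0, 0, 0, 0, 0] : List ℤ)],
   Ins.push 1 [([0, 0, 0, 2, -2, 0, 2, -2, 0, 0, 0, 0, 2, 0, 0, 0, 2, -2, -2, 0, 0, 0, 0, 0] : List ℤ)],
   Ins.push 0 [([0, 2, -2, 2, -2, -2, 0, 0, 2, 0, 0, -2, 0, 2, 0, 0, 0, 0, 0, 0, 0, 0, 0, 0] : List ℤ)],
   Ins.mark,
   Ins.pop,
   Ins.pop,
   Ins.pop,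
   Ins.pop,
   Ins.pop,
   Ins.pop,
   Ins.pop,
   Ins.pop,
   Ins.push 0 [([0, -2, 0, 0, 0, 2, 0, -2, 0, 0, 2, 0, -2, 0, 0, 2, 0, 0, 0, 0, -2, 0, 2, 0] : List ℤ)],
   Ins.push 1 [([0, 2, -2, 0, 0, 2, 2, 0, 0, 0, 0, -2, 0, 0, -2, 0, 0, 0, 2, 0, 0, -2, 0, 0] : List ℤ)],
   Ins.push 0 [([0, 2, 0, 0, 2, 0, -2, 0, 0, 0, 0, 0, 0, 0, 0, 0, 0, -2, 2, -2, -2, 2, 0, 0] : List ℤ)],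
   Ins.push 1 [([0, 0, -2, 2, 2, 0, 0, 0, 0, -2, -2, 2, 0, 0, 0, -2, 0, 0, 0, 2, 0, 0, 0, 0] : List ℤ)],
   Ins.push 1 [([0, -2, 0, 2, 0, 0, 0, 2, -2, 0, 0, 0, -2, 2, 0, 2, 0, 0, -2, 0, 0, 0, 0, 0] : List ℤ)],
   Ins.push 0 [([0, 0, 0, 2, -2, 2, 0, 0, -2, 2, 0, 0, 0, 0, 0, 2, -2, 0, -2, 0, 0, 0, 0, 0] : List ℤ)],
   Ins.push 1 [([0, 0, 0, -2, -2, 0, 2, 2, 0, 0, 0, 0, 2, 0, 0, 0, -2, -2, 2, 0, 0, 0, 0, 0] : List ℤ)],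
   Ins.push 0 [([0, 2, -2, -2, 2, 2, 0, 0, 2, 0, 0, -2, 0, -2, 0, 0, 0, 0, 0, 0, 0, 0, 0, 0] : List ℤ)],
   Ins.mark,
   Ins.pop,
   Ins.pop,
   Ins.pop,
   Ins.pop,
   Ins.pop,
   Ins.push 0 [([0, -2, 2, 0, 2, 0, 0, 0, 0, 0, -2, -2, 0, 0, 0, 0, 0, 0, 2, 0, 2, 0, -2, 0] : List ℤ)],
   Ins.push 1 [([0, -2, 2, 2, 2, -2, 0, 0, 2, 0, 0, -2, 0, -2, 0, 0, 0, 0, 0, 0, 0, 0, 0, 0] : List ℤ)],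
   Ins.mark,
   Ins.pop,
   Ins.pop,
   Ins.pop,
   Ins.pop,
   Ins.push 0 [([0, 0, 0, 0, 0, -2, 0, 2, -2, 0, -2, 0, 0, 0, 2, 2, 0, 0, -2, 0, 0, 2, 0, 0] : List ℤ)],
   Ins.push 1 [([0, -2, 0, 0, -2, 0, -2, 0, 0, 0, 0, 0, 0, 0, 0, 0, 0, -2, 2, 2, 2, 2, 0, 0] : List ℤ)],
   Ins.push 0 [([0, -2, -2, 0, 2, 0, 0, 0, 0, 0, 2, -2, 0, 0, 0, 0, 0, 0, -2, 0, 2, 0, 2, 0] : List ℤ)],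
   Ins.push 1 [([0, 2, 2, 2, -2, 2, 0, 0, -2, 0, 0, -2, 0, -2, 0, 0, 0, 0, 0, 0, 0, 0, 0, 0] : List ℤ)],
   Ins.mark,
   Ins.pop,
   Ins.pop,
   Ins.pop,
   Ins.pop,
   Ins.pop,
   Ins.pop,
   Ins.pop,
   Ins.pop,
   Ins.push 0 [([0, -2, 2, -2, 0, 0, 0, 0, -2, 2, -2, 0, 0, 0, 2, 0, 0, 0, 2, 0, 0, 0, 0, 0] : List ℤ)],
   Ins.push 0 [([0, 0, 0, -2, 2, 0, 2, -2, 0, 0, 0, 0, 2, 0, 0, 0, -2, 2, -2, 0, 0, 0, 0, 0] : List ℤ)],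
   Ins.push 1 [([0, 0, 0, 2, -2, 0, 0, -2, 0, 2, 2, 0, 0, 0, 2, 0, -2, 0, 0, 0, 0, -2, 0, 0] : List ℤ)],
   Ins.push 1 [([0, 2, 0, -2, 0, 0, 0, 2, 0, 0, 0, 0, 2, 0, 0, 0, -2, 0, 0, -2, 2, -2, 0, 0] : List ℤ)],
   Ins.push 0 [([0, 0, 0, -2, 0, 2, 0, 0, 2, 0, 2, 0, 0, -2, 0, 0, 0, 0, 2, 0, -2, 0, -2, 0] : List ℤ)],
   Ins.push 1 [([0, 2, -2, 0, 2, -2, 2, -2, 0, 0, 0, 0, 0, 0, 0, 0, 0, 2, 0, 0, 0, 0, -2, 0] : List ℤ)],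
   Ins.push 0 [([0, 2, 2, 0, 0, -2, -2, 0, 0, 0, 0, 2, 0, 0, -2, 0, 0, 0, 2, 0, 0, -2, 0, 0] : List ℤ)],
   Ins.push 0 [([0, -2, 0, 0, 2, 0, 2, 0, 0, 0, 0, 0, 0, 0, 0, 0, 0, -2, 2, 2, -2, -2, 0, 0] : List ℤ)],
   Ins.push 0 [([0, 2, 2, 0, 2, 0, 0, 0, 0, 0, -2, -2, 0, 0, 0, 0, 0, 0, -2, 0, -2, 0, 2, 0] : List ℤ)],
   Ins.push 1 [([0, -2, -2, 2, -2, 2, 0, 0, 2, 0, 0, 2, 0, -2, 0, 0, 0, 0, 0, 0, 0, 0, 0, 0] : List ℤ)],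
   Ins.mark,
   Ins.pop,
   Ins.pop,
   Ins.pop,
   Ins.pop,
   Ins.pop,
   Ins.pop,
   Ins.pop,
   Ins.pop,
   Ins.pop,
   Ins.pop,
   Ins.pop,
   Ins.push 1 [([0, 0, 0, 0, 2, 0, 0, -2, -2, 0, 2, 0, -2, 0, 0, 2, 2, 0, 0, -2, 0, 0, 0, 0] : List ℤ)],
   Ins.push 1 [([0, 2, 0, 2, 0, 0, 0, 0, 0, 0, 0, 0, 0, 0, -2, -2, 2, -2, 2, 0, 0, -2, 0, 0] : List ℤ)],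
   Ins.push 0 [([0, 0, 0, 2, 2, 0, 0, 0, 0, 0, 0, -2, 0, 2, 0, -2, 0, -2, 2, 0, -2, 0, 0, 0] : List ℤ)],
   Ins.push 0 [([0, 0, 2, 2, 2, 0, 0, 0, 0, 2, -2, -2, 0, 0, 0, -2, 0, 0, 0, -2, 0, 0, 0, 0] : List ℤ)],
   Ins.push 0 [([0, 0, 2, 2, 0, 0, 2, -2, 0, 0, 0, 0, 2, 0, 0, -2, 0, 0, 0, -2, 0, 0, -2, 0] : List ℤ)],
   Ins.push 1 [([0, 0, 0, 0, 0, -2, 0, 2, 2, 0, 2, 0, 0, 0, 2, -2, 0, 0, -2, 0, 0, -2, 0, 0] : List ℤ)],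
   Ins.push 1 [([0, 2, 0, 0, -2, 0, -2, 0, 0, 0, 0, 0, 0, 0, 0, 0, 0, 2, -2, -2, 2, 2, 0, 0] : List ℤ)],
   Ins.push 0 [([0, -2, -2, 0, -2, 0, 0, 0, 0, 0, 2, 2, 0, 0, 0, 0, 0, 0, 2, 0, 2, 0, -2, 0] : List ℤ)],
   Ins.push 1 [([0, 2, 2, -2, 2, -2, 0, 0, -2, 0, 0, -2, 0, 2, 0, 0, 0, 0, 0, 0, 0, 0, 0, 0] : List ℤ)],
   Ins.mark,
   Ins.pop,
   Ins.pop,
   Ins.pop,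
   Ins.push 0 [([0, 0, 0, 0, -2, 2, 0, 2, 0, 0, 0, 0, 0, 0, 0, -2, 2, 2, 0, 0, -2, -2, 0, 0] : List ℤ)],
   Ins.push 1 [([0, 0, -2, -2, 0, 0, 2, 0, 0, 2, 0, 0, 0, 0, 0, 0, 2, 0, -2, -2, 0, 2, 0, 0] : List ℤ)],
   Ins.push 0 [([0, 2, 0, -2, -2, 0, -2, 0, 0, 0, 0, 0, 2, 2, 0, 0, 0, 0, 0, 0, 2, 0, -2, 0] : List ℤ)],
   Ins.push 0 [([0, -2, -2, -2, 0, 0, 0, 0, 2, 2, 2, 0, 0, 0, -2, 0, 0, 0, 2, 0, 0, 0, 0, 0] : List ℤ)],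
   Ins.push 0 [([0, 0, 0, -2, 2, 0, -2, 2, 0, 0, 0, 0, 2, 0, 0, 0, 2, -2, -2, 0, 0, 0, 0, 0] : List ℤ)],
   Ins.push 0 [([0, -2, 2, -2, -2, 2, 0, 0, 2, 0, 0, -2, 0, 2, 0, 0, 0, 0, 0, 0, 0, 0, 0, 0] : List ℤ)],
   Ins.mark,
   Ins.pop,
   Ins.pop,
   Ins.pop,
   Ins.pop,
   Ins.pop,
   Ins.pop,
   Ins.pop,
   Ins.pop,
   Ins.push 1 [([0, -2, 0, 2, 0, 0, 0, 2, 2, 0, 0, 0, 2, -2, 0, -2, 0, 0, -2, 0, 0, 0, 0, 0] : List ℤ)],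
   Ins.push 0 [([0, 0, 0, 2, -2, 2, 0, 0, 2, -2, 0, 0, 0, 0, 0, -2, 2, 0, -2, 0, 0, 0, 0, 0] : List ℤ)],
   Ins.push 1 [([0, 0, 0, -2, -2, 0, 2, 2, 0, 0, 0, 0, -2, 0, 0, 0, 2, 2, -2, 0, 0, 0, 0, 0] : List ℤ)],
   Ins.push 0 [([0, 2, -2, -2, -2, 2, 0, 0, -2, 0, 0, 2, 0, 2, 0, 0, 0, 0, 0, 0, 0, 0, 0, 0] : List ℤ)],
   Ins.mark,
   Ins.pop,
   Ins.pop,
   Ins.pop,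
   Ins.pop,
   Ins.pop,
   Ins.push 1 [([0, 0, -2, 2, 2, 0, 0, 2, 0, -2, 0, 0, 0, -2, 0, 0, 0, 0, -2, 0, 0, 0, 2, 0] : List ℤ)],
   Ins.push 1 [([0, 0, 0, 2, -2, 2, 0, 2, -2, 0, 0, 0, -2, 0, 0, 0, 0, 0, 0, 0, 0, 2, -2, 0] : List ℤ)],
   Ins.push 1 [([0, 0, 0, -2, 0, -2, 2, 2, 0, 0, 0, 0, 0, 0, -2, 0, 0, -2, 0, 2, 0, 2, 0, 0] : List ℤ)],
   Ins.push 1 [([0, 0, 0, 0, 0, 0, -2, -2, 0, -2, 2, 0, 0, 0, 0, 2, 0, 0, 0, 2, -2, 2, 0, 0] : List ℤ)],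
   Ins.push 0 [([0, -2, 0, 0, 0, -2, 0, 2, 0, 0, -2, 0, -2, 0, 0, 2, 0, 0, 0, 0, 2, 0, 2, 0] : List ℤ)],
   Ins.push 0 [([0, 0, 0, 0, 0, 2, 0, -2, -2, 0, 2, 0, 0, 0, 2, 2, 0, 0, -2, 0, 0, -2, 0, 0] : List ℤ)],
   Ins.push 1 [([0, 2, 0, 0, -2, 0, 2, 0, 0, 0, 0, 0, 0, 0, 0, 0, 0, -2, 2, -2, 2, -2, 0, 0] : List ℤ)],
   Ins.push 0 [([0, 2, -2, 0, 2, 0, 0, 0, 0, 0, 2, -2, 0, 0, 0, 0, 0, 0, 2, 0, -2, 0, -2, 0] : List ℤ)],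
   Ins.push 1 [([0, 2, -2, 2, 2, -2, 0, 0, -2, 0, 0, 2, 0, -2, 0, 0, 0, 0, 0, 0, 0, 0, 0, 0] : List ℤ)],
   Ins.mark,
   Ins.pop,
   Ins.pop,
   Ins.pop,
   Ins.pop,
   Ins.pop,
   Ins.pop,
   Ins.pop,
   Ins.pop,
   Ins.pop,
   Ins.pop,
   Ins.pop,
   Ins.push 0 [([0, 0, 2, 0, 0, -2, 0, 2, -2, 0, 0, 0, 0, 2, 0, 2, -2, 0, 0, 0, 0, 0, -2, 0] : List ℤ)],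
   Ins.push 1 [([0, 0, 0, 0, 0, -2, -2, 0, 2, 0, 0, 0, 0, 0, 0, 0, -2, -2, 2, 0, 0, 2, 2, 0] : List ℤ)],
   Ins.push 1 [([0, 0, 0, 0, 2, 2, -2, 0, 0, -2, -2, 0, 0, 0, 0, 0, -2, 2, 0, 2, 0, 0, 0, 0] : List ℤ)],
   Ins.push 1 [([0, -2, 0, 2, 0, 0, 2, 0, 0, 2, -2, 0, -2, 0, 0, 2, -2, 0, 0, 0, 0, 0, 0, 0] : List ℤ)],
   Ins.push 0 [([0, 2, 0, 2, 0, 0, 0, -2, -2, 0, 0, 0, 2, -2, 0, 2, 0, 0, -2, 0, 0, 0, 0, 0] : List ℤ)],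
   Ins.push 0 [([0, 0, 0, 2, -2, -2, 0, 0, 2, -2, 0, 0, 0, 0, 0, 2, -2, 0, 2, 0, 0, 0, 0, 0] : List ℤ)],
   Ins.push 1 [([0, 0, 0, -2, 2, 0, -2, 2, 0, 0, 0, 0, -2, 0, 0, 0, -2, 2, 2, 0, 0, 0, 0, 0] : List ℤ)],
   Ins.push 0 [([0, -2, 2, -2, 2, 2, 0, 0, -2, 0, 0, 2, 0, -2, 0, 0, 0, 0, 0, 0, 0, 0, 0, 0] : List ℤ)],
   Ins.mark]

set_option maxRecDepth 100000 in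
set_option maxHeartbeats 0 in
theorem crTd_chk : partChk crTdB crTdconds crTdx0 crTdgens crTdgmids m22mt (m22reps.getD 2 0) crTdf crTdprog = true := by
  decide +kernel

set_option maxRecDepth 100000 in
theorem crTd_len : (maskList m22vis 2).length * crTdf.2.length = 42240 := by
  decide +kernel

/-- The stabiliser of the base vectors is transitive on the part of the set, which has `42240` elements. -/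
theorem crTd_main : (∀ x ∈ FibU crTdconds (maskList m22vis 2), ∃ g : Co0, FixB crTdB g ∧
      ∃ h0 : vecOf crTdx0 ∈ leechLattice, g • (⟨vecOf crTdx0, h0⟩ : leechLattice) = x) ∧
      (FibU crTdconds (maskList m22vis 2)).ncard = 42240 := by
  have h := orbit_part crTdB crTdconds crTdx0 crTdgens crTdgmids m22mt m22reps m22progs m22vis 2 crTdf crTdprog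
    m22_hreps m22_hrun m22_hbm crTd_chk
  rw [crTd_len] at h
  exact h

end Cfsg.Agent.Lib.Helper92
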