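import Cfsg.Agent.Lib.Helper92.LeechCo1Simple
import Cfsg.Agent.Lib.Helper92.OrbCrTa
import Cfsg.Agent.Lib.Helper92.OrbCrTb
import Cfsg.Agent.Lib.Helper92.OrbCrTc
import Cfsg.Agent.Lib.Helper92.OrbCrTd
import Cfsg.Agent.Lib.Helper92.OrbCrKa
import Cfsg.Agent.Lib.Helper92.OrbCrKb
import Cfsg.Agent.Lib.Helper92.OrbCrKc
import Cfsg.Agent.Lib.Helper92.OrbCrKd
import Cfsg.Agent.Lib.Helper92.OrbCrKe
import Cfsg.Agent.Lib.Helper92.OrbCrKf

set_option autoImplicit false

open scoped Pointwise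

namespace Cfsg.Agent.Lib.Helper92

open Cfsg Cfsg.Spor Cfsg.Agent.Lib.Helper7

/-! ### Maximality of the stabiliser of the standard cross -/

section

variable {G Ω : Type*} [Group G] [MulAction G Ω]

/-- Orbit and stabiliser, for a subgroup and a description of the orbit. -/
theorem card_sub_orbit (S : Subgroup G) (y₀ : Ω) (Y : Set Ω)
    (hY : ∀ y, y ∈ Y ↔ ∃ g ∈ S, g • y₀ = y) :
    Nat.card ↥S = Y.ncard * Nat.card ↥(S ⊓ MulAction.stabilizer G y₀) := by
  have h1 : MulAction.orbit ↥S y₀ = Y := by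
    ext y
    rw [hY]
    constructor
    · rintro ⟨g, rfl⟩
      exact ⟨g.1, g.2, rfl⟩
    · rintro ⟨g, hg, rfl⟩
      exact ⟨⟨g, hg⟩, rfl⟩
  rw [← h1, ← MulAction.index_stabilizer, ← Nat.card_congr (stabSubEquiv S y₀).toEquiv, mul_comm]
  exact (Subgroup.card_mul_index _).symm

theorem ncard_cols_of {X : Set Ω} {c : Ω → ℤ} {cols : Finset ℤ} {m : ℤ → ℕ} (hfin : X.Finite)
    (hm : ∀ d ∈ cols, {y | y ∈ X ∧ c y = d}.ncard = m d) :
    ∀ I : Finset ℤ, I ⊆ cols → {y | y ∈ X ∧ c y ∈ I}.ncard = ∑ d ∈ I, m d := by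
  classical
  intro I
  induction I using Finset.induction_on with
  | empty =>
    intro _
    simp
  | insert d I hd ih =>
    intro hI
    have hsub : I ⊆ cols := fun a ha => hI (Finset.mem_insert_of_mem ha)
    have hdc : d ∈ cols := hI (Finset.mem_insert_self d I)
    have e : {y | y ∈ X ∧ c y ∈ insert d I} =
        {y | y ∈ X ∧ c y = d} ∪ {y | y ∈ X ∧ c y ∈ I} := by
      ext y
      simp only [Set.mem_ofPred_eq, Finset.mem_insert, Set.mem_union]
      tauto
    have hdisj : Disjoint {y | y ∈ X ∧ c y = d} {y | y ∈ X ∧ c y ∈ I} := by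
      rw [Set.disjoint_left]
      rintro y ⟨-, h1⟩ ⟨-, h2⟩
      exact hd (h1 ▸ h2)
    rw [e, Set.ncard_union_eq hdisj (hfin.subset (fun y hy => hy.1))
      (hfin.subset (fun y hy => hy.1)), hm d hdc, ih hsub, Finset.sum_insert hd]

/-- A subset which contains each class that it meets is a union of classes. -/
theorem pieces_union {X : Set Ω} {c : Ω → ℤ} {cols : Finset ℤ} {m : ℤ → ℕ} (hfin : X.Finite)
    (hm : ∀ d ∈ cols, {y | y ∈ X ∧ c y = d}.ncard = m d) (hsum : ∑ d ∈ cols, m d = X.ncard)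
    (S : Set Ω) (hS : S ⊆ X) (hsat : ∀ y ∈ S, ∀ y' ∈ X, c y' = c y → y' ∈ S) :
    ∃ I : Finset ℤ, I ⊆ cols ∧ (∀ y ∈ X, y ∈ S ↔ c y ∈ I) ∧ (∀ d ∈ I, ∃ y ∈ S, c y = d) ∧
      S.ncard = ∑ d ∈ I, m d := by
  classical
  have hcols := cover_of_card hfin hm hsum
  have hmem : ∀ y ∈ X, y ∈ S ↔ c y ∈ cols.filter (fun d => ∃ y ∈ S, c y = d) := by
    intro y hy
    rw [Finset.mem_filter]
    constructor
    · intro h
      exact ⟨hcols y hy, y, h, rfl⟩
    · rintro ⟨-, y₀, hy₀, e⟩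
      exact hsat y₀ hy₀ y hy e.symm
  refine ⟨cols.filter (fun d => ∃ y ∈ S, c y = d), Finset.filter_subset _ _, hmem, ?_, ?_⟩
  · intro d hd
    exact (Finset.mem_filter.mp hd).2
  · have e : S = {y | y ∈ X ∧ c y ∈ cols.filter (fun d => ∃ y ∈ S, c y = d)} := by
      ext y
      constructor
      · intro h
        exact ⟨hS h, (hmem y (hS h)).mp h⟩
      · rintro ⟨h1, h2⟩
        exact (hmem y h1).mpr h2
    exact (congrArg Set.ncard e).trans (ncard_cols_of hfin hm _ (Finset.filter_subset _ _))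

end

/-- A colouring by a value, refined on the zero class by two sets. -/
noncomputable def col2 (δ : leechLattice → ℤ) (P Q : Set leechLattice) (y : leechLattice) : ℤ :=
  open Classical in
  if δ y = 0 then (if y ∈ Q then 1 else if y ∈ P then 0 else 2) else δ y

theorem col2_eq_of_ne {δ : leechLattice → ℤ} {P Q : Set leechLattice} (y : leechLattice) {d : ℤ}
    (h0 : d ≠ 0) (h1 : d ≠ 1) (h2 : d ≠ 2) : col2 δ P Q y = d ↔ δ y = d := by
  classical
  unfold col2
  by_cases h : δ y = 0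
  · rw [if_pos h]
    split_ifs <;> constructor <;> intro h' <;> omega
  · rw [if_neg h]

theorem col2_eq_one {δ : leechLattice → ℤ} {P Q : Set leechLattice} (y : leechLattice)
    (hδ : δ y ≠ 1) (hQ : y ∈ Q → δ y = 0) : col2 δ P Q y = 1 ↔ y ∈ Q := by
  classical
  unfold col2
  by_cases h : δ y = 0
  · rw [if_pos h]
    by_cases hq : y ∈ Q
    · rw [if_pos hq]
      exact ⟨fun _ => hq, fun _ => rfl⟩
    · rw [if_neg hq]
      split_ifs <;> constructor <;> intro h' <;> first | omega | exact absurd h' hq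
  · rw [if_neg h]
    exact ⟨fun h' => absurd h' hδ, fun h' => absurd (hQ h') h⟩

theorem col2_eq_zero {δ : leechLattice → ℤ} {P Q : Set leechLattice} (y : leechLattice)
    (hP : y ∈ P → δ y = 0) (hPQ : y ∈ P → y ∉ Q) : col2 δ P Q y = 0 ↔ y ∈ P := by
  classical
  unfold col2
  by_cases h : δ y = 0
  · rw [if_pos h]
    by_cases hq : y ∈ Q
    · rw [if_pos hq]
      exact ⟨fun h' => by omega, fun h' => absurd hq (hPQ h')⟩
    · rw [if_neg hq]
      by_cases hp : y ∈ P
      · rw [if_pos hp]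
        exact ⟨fun _ => hp, fun _ => rfl⟩
      · rw [if_neg hp]
        exact ⟨fun h' => by omega, fun h' => absurd h' hp⟩
  · rw [if_neg h]
    exact ⟨fun h' => absurd h' h, fun h' => absurd (hP h') h⟩

/-- Two sets of vectors with words of second digits in disjoint lists are disjoint. -/
theorem fibU_disjoint {conds conds' : List (List ℤ × ℤ)} {L L' : List ℕ}
    (hL : ∀ m ∈ L, m < 2 ^ 24 ∧ m ∉ L') (hL' : ∀ m ∈ L', m < 2 ^ 24) (y : leechLattice)
    (h : y ∈ FibU conds L) : y ∉ FibU conds' L' := by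
  rintro ⟨-, m', hm', e'⟩
  obtain ⟨-, m, hm, e⟩ := h
  have := wordOf_inj (hL m hm).1 (hL' m' hm') (e.symm.trans e')
  rw [this] at hm
  exact (hL m' hm).2 hm'

/-- Transitivity from a certificate. -/
theorem cert_trans {B : List (List ℤ)} {x0 : List ℤ} {Y : Set leechLattice}
    (h : ∀ x ∈ Y, ∃ g : Co0, FixB B g ∧ ∃ h0 : vecOf x0 ∈ leechLattice,
      g • (⟨vecOf x0, h0⟩ : leechLattice) = x) :
    ∀ y ∈ Y, ∀ y' ∈ Y, ∃ k : Co0, FixB B k ∧ k • y = y' := by
  intro y hy y' hy'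
  obtain ⟨k1, hk1, h0, e1⟩ := h y hy
  obtain ⟨k2, hk2, h0', e2⟩ := h y' hy'
  refine ⟨k2 * k1⁻¹, fun b hb hm => ?_, ?_⟩
  · rw [mul_smul, inv_smul_eq_iff.mpr (hk1 b hb hm).symm, hk2 b hb hm]
  · rw [mul_smul, ← e1, inv_smul_smul, e2]

theorem fixB_neg {k : Co0} {y y' : leechLattice} (h : k • (-y) = -y') :
    k • y = y' := by
  rw [co0_smul_neg] at h
  exact neg_injective h

/-- The vector `8 e_∞`. -/
def e8L : List ℤ := [0, 0, 0, 0, 0, 0, 0, 0, 0, 0, 0, 0, 0, 0, 0, 0, 0, 0, 0, 0, 0, 0, 0, 8]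

theorem e8L_mem : vecOf e8L ∈ leechLattice := leechB_sound (by decide +kernel)

/-- The vectors `4 e_0 + 4 e_∞`, `-4 e_0 + 4 e_∞` and `8 e_∞` of the lattice. -/
abbrev crx : leechLattice := ⟨vecOf a0L, a0L_mem⟩

abbrev crz : leechLattice := ⟨vecOf nxL, nxL_mem⟩

abbrev cre : leechLattice := ⟨vecOf e8L, e8L_mem⟩

theorem e8L_eq : vecOf e8L = vecEight none :=
  vecOf_eq_of_forall (by unfold vecEight; decide +kernel)

theorem cre_eq : cre = latEight none := Subtype.ext e8L_eq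

theorem crx_add : crx + crz = latEight none := by
  apply Subtype.ext
  show vecOf a0L + vecOf nxL = vecEight none
  rw [← e8L_eq]
  funext p
  rw [← pt_idx p, Pi.add_apply, vecOf_pt _ (idx_lt p), vecOf_pt _ (idx_lt p),
    vecOf_pt _ (idx_lt p)]
  have key : ∀ j < 24, a0L.getD j 0 + nxL.getD j 0 = e8L.getD j 0 := by decide +kernel
  exact key _ (idx_lt p)

theorem crx_norm : sqNorm (crx : GolayPt → ℤ) = 32 := (sqNorm_vecOf _).trans (by decide +kernel)

theorem crz_norm : sqNorm (crz : GolayPt → ℤ) = 32 := (sqNorm_vecOf _).trans (by decide +kernel)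

theorem crx_crz : dotInt (vecOf a0L) (vecOf nxL) = 0 := (dotInt_vecOf _ _).trans (by decide +kernel)

theorem cre_crx : dotInt (vecOf e8L) (vecOf a0L) = 32 :=
  (dotInt_vecOf _ _).trans (by decide +kernel)

theorem dot_e8 (y : GolayPt → ℤ) : dotInt (vecOf e8L) y = 8 * y none := by
  rw [e8L_eq, dotInt_comm, dotInt_vecEight]

theorem neg_mem_xset_two (b b' : List ℤ) (d : ℤ) (y : leechLattice) :
    -y ∈ XSet [(b, 0), (b', d)] ↔ y ∈ XSet [(b, 0), (b', -d)] := by
  rw [xset_two, xset_two]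
  have h1 : sqNorm ((-y : leechLattice) : GolayPt → ℤ) = sqNorm (y : GolayPt → ℤ) :=
    sqNorm_neg' _
  have h2 : dotInt (vecOf b) ((-y : leechLattice) : GolayPt → ℤ) =
      -dotInt (vecOf b) (y : GolayPt → ℤ) := dotInt_neg_right _ _
  have h3 : dotInt (vecOf b') ((-y : leechLattice) : GolayPt → ℤ) =
      -dotInt (vecOf b') (y : GolayPt → ℤ) := dotInt_neg_right _ _
  rw [h1, h2, h3]
  constructor
  · rintro ⟨a, b, c⟩
    exact ⟨a, by omega, by omega⟩
  · rintro ⟨a, b, c⟩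
    exact ⟨a, by omega, by omega⟩

theorem neg_mem_xset_one (b : List ℤ) (d : ℤ) (y : leechLattice) :
    -y ∈ XSet [(b, d)] ↔ y ∈ XSet [(b, -d)] := by
  rw [xset_one, xset_one]
  have h1 : sqNorm ((-y : leechLattice) : GolayPt → ℤ) = sqNorm (y : GolayPt → ℤ) :=
    sqNorm_neg' _
  have h2 : dotInt (vecOf b) ((-y : leechLattice) : GolayPt → ℤ) =
      -dotInt (vecOf b) (y : GolayPt → ℤ) := dotInt_neg_right _ _
  rw [h1, h2]
  constructor
  · rintro ⟨a, b⟩
    exact ⟨a, by omega⟩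
  · rintro ⟨a, b⟩
    exact ⟨a, by omega⟩

theorem ncard_neg_of {A A' : Set leechLattice} (h : ∀ y, y ∈ A' ↔ -y ∈ A) :
    A'.ncard = A.ncard := by
  have e : A' = (fun y : leechLattice => -y) '' A := by
    ext y
    rw [h]
    constructor
    · intro hy
      exact ⟨-y, hy, neg_neg y⟩
    · rintro ⟨w, hw, rfl⟩
      rw [neg_neg]
      exact hw
  rw [e, Set.ncard_image_of_injective _ neg_injective]

/-- The minimal vectors orthogonal to the first base vector. -/
def crZ : Set leechLattice :=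
  {y | y ∈ {y : leechLattice | sqNorm (y : GolayPt → ℤ) = 32} ∧ dotC crx y = 0}

theorem crX_finite : {y : leechLattice | sqNorm (y : GolayPt → ℤ) = 32}.Finite :=
  Set.finite_of_ncard_ne_zero (by rw [ncard_min]; norm_num)

theorem crZ_finite : crZ.Finite := crX_finite.subset (fun _ hy => hy.1)

theorem crZ_ncard : crZ.ncard = 93150 :=
  ((co1_data crx crx_norm).hm 0 (by decide)).trans co1M_vals.2.2.2.2.2.2

theorem crT_xset (d : ℤ) (y : leechLattice) : y ∈ XSet [(a0L, 0), (nxL, d)] ↔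
    (y ∈ crZ ∧ dotInt (vecOf nxL) (y : GolayPt → ℤ) = d) := by
  rw [xset_two]
  exact (and_assoc).symm

/-- The classes of the second colouring: the vectors with zeros and fours, and those with
zeros and twos. -/
def crPT : Set leechLattice := FibU crTcconds (maskList m22vis 0)

def crQT : Set leechLattice := FibU crTdconds (maskList m22vis 2)

/-- The colouring of the minimal vectors orthogonal to the first base vector. -/
noncomputable def crCT : leechLattice → ℤ :=
  col2 (fun y => dotInt (vecOf nxL) (y : GolayPt → ℤ)) crPT crQT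

/-- Lengths of the classes. -/
def crMT (d : ℤ) : ℕ :=
  if d = 32 then 1 else if d = -32 then 1 else if d = 16 then 2464 else if d = -16 then 2464
  else if d = 8 then 22528 else if d = -8 then 22528 else if d = 0 then 924 else 42240

theorem crMT_vals : crMT 32 = 1 ∧ crMT (-32) = 1 ∧ crMT 16 = 2464 ∧ crMT (-16) = 2464 ∧
    crMT 8 = 22528 ∧ crMT (-8) = 22528 ∧ crMT 0 = 924 ∧ crMT 1 = 42240 := by decide

set_option maxRecDepth 100000 in
theorem crT_masks : (maskList m22vis 0).all (fun m => decide (m < 2 ^ 24) &&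
    !(maskList m22vis 2).contains m) = true ∧
    (maskList m22vis 2).all (fun m => decide (m < 2 ^ 24)) = true := by decide +kernel

theorem crPT_sub (y : leechLattice) (h : y ∈ crPT) :
    y ∈ crZ ∧ dotInt (vecOf nxL) (y : GolayPt → ℤ) = 0 := (crT_xset 0 y).mp h.1

theorem crQT_sub (y : leechLattice) (h : y ∈ crQT) :
    y ∈ crZ ∧ dotInt (vecOf nxL) (y : GolayPt → ℤ) = 0 := (crT_xset 0 y).mp h.1

theorem crPT_not (y : leechLattice) (h : y ∈ crPT) : y ∉ crQT := by
  refine fibU_disjoint (fun m hm => ?_) (fun m hm => ?_) y h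
  · have := List.all_eq_true.mp crT_masks.1 m hm
    rw [Bool.and_eq_true, decide_eq_true_eq, Bool.not_eq_true', List.contains_eq_mem,
      decide_eq_false_iff_not] at this
    exact this
  · have := List.all_eq_true.mp crT_masks.2 m hm
    rw [decide_eq_true_eq] at this
    exact this

theorem fixT_of {k : Co0} (hk : FixB [a0L, nxL] k) : k • crx = crx ∧ k • crz = crz :=
  ⟨hk a0L List.mem_cons_self a0L_mem, hk nxL (List.mem_cons_of_mem _ List.mem_cons_self) nxL_mem⟩

theorem crz_mem : crz ∈ crZ ∧ dotInt (vecOf nxL) (crz : GolayPt → ℤ) = 32 :=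
  ⟨⟨crz_norm, crx_crz⟩, (dotInt_self _).trans crz_norm⟩

theorem crT_ne_one (y : leechLattice) (hy : y ∈ crZ) :
    dotInt (vecOf nxL) (y : GolayPt → ℤ) ≠ 1 := by
  have h := (co1_data crz crz_norm).hcols y hy.1
  simp only [Finset.mem_insert, Finset.mem_singleton] at h
  have e : dotC crz y = dotInt (vecOf nxL) (y : GolayPt → ℤ) := rfl
  rw [e] at h
  omega

/-- The classes of a value which is not `0`. -/
theorem crT_class_eq (d : ℤ) (h0 : d ≠ 0) (h1 : d ≠ 1) (h2 : d ≠ 2) :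
    {y | y ∈ crZ ∧ crCT y = d} = XSet [(a0L, 0), (nxL, d)] := by
  ext y
  rw [crT_xset]
  exact and_congr_right (fun _ => col2_eq_of_ne y h0 h1 h2)

theorem crT_class_zero : {y | y ∈ crZ ∧ crCT y = 0} = crPT := by
  ext y
  constructor
  · rintro ⟨-, hc⟩
    exact (col2_eq_zero y (fun h => (crPT_sub y h).2) (crPT_not y)).mp hc
  · intro h
    exact ⟨(crPT_sub y h).1, (col2_eq_zero y (fun h => (crPT_sub y h).2) (crPT_not y)).mpr h⟩

theorem crT_class_one : {y | y ∈ crZ ∧ crCT y = 1} = crQT := by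
  ext y
  constructor
  · rintro ⟨hz, hc⟩
    exact (col2_eq_one y (crT_ne_one y hz) (fun h => (crQT_sub y h).2)).mp hc
  · intro h
    exact ⟨(crQT_sub y h).1,
      (col2_eq_one y (crT_ne_one y (crQT_sub y h).1) (fun h => (crQT_sub y h).2)).mpr h⟩

/-- The classes of the vectors orthogonal to the first base vector: lengths and
transitivity of the stabiliser of the two base vectors. -/
theorem crT_classes : ∀ d ∈ ({32, -32, 16, -16, 8, -8, 0, 1} : Finset ℤ),
    {y | y ∈ crZ ∧ crCT y = d}.ncard = crMT d ∧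
    ∀ y ∈ {y | y ∈ crZ ∧ crCT y = d}, ∀ y' ∈ {y | y ∈ crZ ∧ crCT y = d},
      ∃ k : Co0, (k • crx = crx ∧ k • crz = crz) ∧ k • y = y' := by
  intro d hd
  simp only [Finset.mem_insert, Finset.mem_singleton] at hd
  have hpos : ∀ (e : ℤ) (N : ℕ) (B : List (List ℤ)) (x0 : List ℤ), B = [a0L, nxL] →
      ((∀ x ∈ XSet [(a0L, 0), (nxL, e)], ∃ g : Co0, FixB B g ∧ ∃ h0 : vecOf x0 ∈ leechLattice,
        g • (⟨vecOf x0, h0⟩ : leechLattice) = x) ∧ (XSet [(a0L, 0), (nxL, e)]).ncard = N) →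
      e ≠ 0 → e ≠ 1 → e ≠ 2 →
      {y | y ∈ crZ ∧ crCT y = e}.ncard = N ∧
      ∀ y ∈ {y | y ∈ crZ ∧ crCT y = e}, ∀ y' ∈ {y | y ∈ crZ ∧ crCT y = e},
        ∃ k : Co0, (k • crx = crx ∧ k • crz = crz) ∧ k • y = y' := by
    intro e N B x0 hB hmain h0 h1 h2
    subst hB
    rw [crT_class_eq e h0 h1 h2]
    refine ⟨hmain.2, fun y hy y' hy' => ?_⟩
    obtain ⟨k, hk, e1⟩ := cert_trans hmain.1 y hy y' hy'
    exact ⟨k, fixT_of hk, e1⟩
  have hneg : ∀ (e : ℤ) (N : ℕ) (B : List (List ℤ)) (x0 : List ℤ), B = [a0L, nxL] →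
      ((∀ x ∈ XSet [(a0L, 0), (nxL, e)], ∃ g : Co0, FixB B g ∧ ∃ h0 : vecOf x0 ∈ leechLattice,
        g • (⟨vecOf x0, h0⟩ : leechLattice) = x) ∧ (XSet [(a0L, 0), (nxL, e)]).ncard = N) →
      -e ≠ 0 → -e ≠ 1 → -e ≠ 2 →
      {y | y ∈ crZ ∧ crCT y = -e}.ncard = N ∧
      ∀ y ∈ {y | y ∈ crZ ∧ crCT y = -e}, ∀ y' ∈ {y | y ∈ crZ ∧ crCT y = -e},
        ∃ k : Co0, (k • crx = crx ∧ k • crz = crz) ∧ k • y = y' := by
    intro e N B x0 hB hmain h0 h1 h2
    subst hB
    rw [crT_class_eq (-e) h0 h1 h2]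
    refine ⟨(ncard_neg_of (fun y => (neg_mem_xset_two a0L nxL e y).symm)).trans hmain.2,
      fun y hy y' hy' => ?_⟩
    obtain ⟨k, hk, e1⟩ := cert_trans hmain.1 (-y) ((neg_mem_xset_two a0L nxL e y).mpr hy) (-y')
      ((neg_mem_xset_two a0L nxL e y').mpr hy')
    exact ⟨k, fixT_of hk, fixB_neg e1⟩
  obtain ⟨m1, m2, m3, m4, m5, m6, m7, m8⟩ := crMT_vals
  rcases hd with rfl | rfl | rfl | rfl | rfl | rfl | rfl | rfl
  · -- the second base vector
    have e : {y | y ∈ crZ ∧ crCT y = 32} = {crz} := by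
      rw [crT_class_eq 32 (by norm_num) (by norm_num) (by norm_num)]
      ext y
      rw [crT_xset, Set.mem_singleton_iff]
      constructor
      · rintro ⟨hz, hc⟩
        exact eq_of_dot_eq crz_norm hz.1 hc
      · rintro rfl
        exact crz_mem
    rw [e, m1]
    refine ⟨Set.ncard_singleton _, fun y hy y' hy' => ⟨1, ⟨one_smul _ _, one_smul _ _⟩, ?_⟩⟩
    rw [Set.mem_singleton_iff] at hy hy'
    rw [one_smul, hy, hy']
  · -- its opposite
    have e : {y | y ∈ crZ ∧ crCT y = -32} = {-crz} := by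
      rw [crT_class_eq (-32) (by norm_num) (by norm_num) (by norm_num)]
      ext y
      rw [crT_xset, Set.mem_singleton_iff]
      constructor
      · rintro ⟨hz, hc⟩
        exact eq_neg_of_dot crz_norm hz.1 hc
      · rintro rfl
        refine ⟨⟨(sqNorm_neg' _).trans crz_norm, ?_⟩, ?_⟩
        · exact (dotInt_neg_right _ _).trans (by rw [crx_crz]; rfl)
        · exact (dotInt_neg_right _ _).trans (by rw [crz_mem.2])
    rw [e, m2]
    refine ⟨Set.ncard_singleton _, fun y hy y' hy' => ⟨1, ⟨one_smul _ _, one_smul _ _⟩, ?_⟩⟩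
    rw [Set.mem_singleton_iff] at hy hy'
    rw [one_smul, hy, hy']
  · rw [m3]
    exact hpos 16 2464 crTaB crTax0 rfl crTa_main (by norm_num) (by norm_num) (by norm_num)
  · rw [m4]
    exact hneg 16 2464 crTaB crTax0 rfl crTa_main (by norm_num) (by norm_num) (by norm_num)
  · rw [m5]
    exact hpos 8 22528 crTbB crTbx0 rfl crTb_main (by norm_num) (by norm_num) (by norm_num)
  · rw [m6]
    exact hneg 8 22528 crTbB crTbx0 rfl crTb_main (by norm_num) (by norm_num) (by norm_num)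
  · rw [crT_class_zero, m7]
    refine ⟨crTc_main.2, fun y hy y' hy' => ?_⟩
    obtain ⟨k, hk, e1⟩ := cert_trans crTc_main.1 y hy y' hy'
    exact ⟨k, fixT_of hk, e1⟩
  · rw [crT_class_one, m8]
    refine ⟨crTd_main.2, fun y hy y' hy' => ?_⟩
    obtain ⟨k, hk, e1⟩ := cert_trans crTd_main.1 y hy y' hy'
    exact ⟨k, fixT_of hk, e1⟩

/-! #### The stabiliser of `8 e_∞` on the minimal vectors -/

def crPK : Set leechLattice := FibU crKeconds (maskList m23vis 0)

def crQK : Set leechLattice := FibU crKfconds (maskList m23vis 1)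

/-- The colouring of the minimal vectors. -/
noncomputable def crCK : leechLattice → ℤ :=
  col2 (fun y => dotInt (vecOf e8L) (y : GolayPt → ℤ)) crPK crQK

/-- Lengths of the classes. -/
def crMK (d : ℤ) : ℕ :=
  if d = 32 then 46 else if d = -32 then 46 else if d = 24 then 2048 else if d = -24 then 2048
  else if d = 16 then 16192 else if d = -16 then 16192 else if d = 8 then 47104
  else if d = -8 then 47104 else if d = 0 then 1012 else 64768

theorem crMK_vals : crMK 32 = 46 ∧ crMK (-32) = 46 ∧ crMK 24 = 2048 ∧ crMK (-24) = 2048 ∧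
    crMK 16 = 16192 ∧ crMK (-16) = 16192 ∧ crMK 8 = 47104 ∧ crMK (-8) = 47104 ∧
    crMK 0 = 1012 ∧ crMK 1 = 64768 := by decide

set_option maxRecDepth 100000 in
theorem crK_masks : (maskList m23vis 0).all (fun m => decide (m < 2 ^ 24) &&
    !(maskList m23vis 1).contains m) = true ∧
    (maskList m23vis 1).all (fun m => decide (m < 2 ^ 24)) = true := by decide +kernel

theorem crK_xset (d : ℤ) (y : leechLattice) : y ∈ XSet [(e8L, d)] ↔
    (y ∈ {y : leechLattice | sqNorm (y : GolayPt → ℤ) = 32} ∧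
      dotInt (vecOf e8L) (y : GolayPt → ℤ) = d) := xset_one e8L d y

theorem crPK_sub (y : leechLattice) (h : y ∈ crPK) :
    y ∈ {y : leechLattice | sqNorm (y : GolayPt → ℤ) = 32} ∧
      dotInt (vecOf e8L) (y : GolayPt → ℤ) = 0 := (crK_xset 0 y).mp h.1

theorem crQK_sub (y : leechLattice) (h : y ∈ crQK) :
    y ∈ {y : leechLattice | sqNorm (y : GolayPt → ℤ) = 32} ∧
      dotInt (vecOf e8L) (y : GolayPt → ℤ) = 0 := (crK_xset 0 y).mp h.1

theorem crPK_not (y : leechLattice) (h : y ∈ crPK) : y ∉ crQK := by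
  refine fibU_disjoint (fun m hm => ?_) (fun m hm => ?_) y h
  · have := List.all_eq_true.mp crK_masks.1 m hm
    rw [Bool.and_eq_true, decide_eq_true_eq, Bool.not_eq_true', List.contains_eq_mem,
      decide_eq_false_iff_not] at this
    exact this
  · have := List.all_eq_true.mp crK_masks.2 m hm
    rw [decide_eq_true_eq] at this
    exact this

theorem fixK_of {k : Co0} (hk : FixB [e8L] k) : k • cre = cre :=
  hk e8L List.mem_cons_self e8L_mem

theorem crK_ne_one (y : leechLattice) : dotInt (vecOf e8L) (y : GolayPt → ℤ) ≠ 1 := by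
  rw [dot_e8]
  omega

theorem crK_class_eq (d : ℤ) (h0 : d ≠ 0) (h1 : d ≠ 1) (h2 : d ≠ 2) :
    {y | y ∈ {y : leechLattice | sqNorm (y : GolayPt → ℤ) = 32} ∧ crCK y = d} =
      XSet [(e8L, d)] := by
  ext y
  rw [crK_xset]
  exact and_congr_right (fun _ => col2_eq_of_ne y h0 h1 h2)

theorem crK_class_zero :
    {y | y ∈ {y : leechLattice | sqNorm (y : GolayPt → ℤ) = 32} ∧ crCK y = 0} = crPK := by
  ext y
  constructor
  · rintro ⟨-, hc⟩
    exact (col2_eq_zero y (fun h => (crPK_sub y h).2) (crPK_not y)).mp hc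
  · intro h
    exact ⟨(crPK_sub y h).1, (col2_eq_zero y (fun h => (crPK_sub y h).2) (crPK_not y)).mpr h⟩

theorem crK_class_one :
    {y | y ∈ {y : leechLattice | sqNorm (y : GolayPt → ℤ) = 32} ∧ crCK y = 1} = crQK := by
  ext y
  constructor
  · rintro ⟨-, hc⟩
    exact (col2_eq_one y (crK_ne_one y) (fun h => (crQK_sub y h).2)).mp hc
  · intro h
    exact ⟨(crQK_sub y h).1,
      (col2_eq_one y (crK_ne_one y) (fun h => (crQK_sub y h).2)).mpr h⟩

/-- The classes of the minimal vectors: lengths and transitivity of the stabiliser of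
`8 e_∞`. -/
theorem crK_classes : ∀ d ∈ ({32, -32, 24, -24, 16, -16, 8, -8, 0, 1} : Finset ℤ),
    {y | y ∈ {y : leechLattice | sqNorm (y : GolayPt → ℤ) = 32} ∧ crCK y = d}.ncard = crMK d ∧
    ∀ y ∈ {y | y ∈ {y : leechLattice | sqNorm (y : GolayPt → ℤ) = 32} ∧ crCK y = d},
    ∀ y' ∈ {y | y ∈ {y : leechLattice | sqNorm (y : GolayPt → ℤ) = 32} ∧ crCK y = d},
      ∃ k : Co0, k • cre = cre ∧ k • y = y' := by
  intro d hd
  simp only [Finset.mem_insert, Finset.mem_singleton] at hd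
  have hpos : ∀ (e : ℤ) (N : ℕ) (B : List (List ℤ)) (x0 : List ℤ), B = [e8L] →
      ((∀ x ∈ XSet [(e8L, e)], ∃ g : Co0, FixB B g ∧ ∃ h0 : vecOf x0 ∈ leechLattice,
        g • (⟨vecOf x0, h0⟩ : leechLattice) = x) ∧ (XSet [(e8L, e)]).ncard = N) →
      e ≠ 0 → e ≠ 1 → e ≠ 2 →
      {y | y ∈ {y : leechLattice | sqNorm (y : GolayPt → ℤ) = 32} ∧ crCK y = e}.ncard = N ∧
      ∀ y ∈ {y | y ∈ {y : leechLattice | sqNorm (y : GolayPt → ℤ) = 32} ∧ crCK y = e},
      ∀ y' ∈ {y | y ∈ {y : leechLattice | sqNorm (y : GolayPt → ℤ) = 32} ∧ crCK y = e},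
        ∃ k : Co0, k • cre = cre ∧ k • y = y' := by
    intro e N B x0 hB hmain h0 h1 h2
    subst hB
    rw [crK_class_eq e h0 h1 h2]
    refine ⟨hmain.2, fun y hy y' hy' => ?_⟩
    obtain ⟨k, hk, e1⟩ := cert_trans hmain.1 y hy y' hy'
    exact ⟨k, fixK_of hk, e1⟩
  have hneg : ∀ (e : ℤ) (N : ℕ) (B : List (List ℤ)) (x0 : List ℤ), B = [e8L] →
      ((∀ x ∈ XSet [(e8L, e)], ∃ g : Co0, FixB B g ∧ ∃ h0 : vecOf x0 ∈ leechLattice,
        g • (⟨vecOf x0, h0⟩ : leechLattice) = x) ∧ (XSet [(e8L, e)]).ncard = N) →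
      -e ≠ 0 → -e ≠ 1 → -e ≠ 2 →
      {y | y ∈ {y : leechLattice | sqNorm (y : GolayPt → ℤ) = 32} ∧ crCK y = -e}.ncard = N ∧
      ∀ y ∈ {y | y ∈ {y : leechLattice | sqNorm (y : GolayPt → ℤ) = 32} ∧ crCK y = -e},
      ∀ y' ∈ {y | y ∈ {y : leechLattice | sqNorm (y : GolayPt → ℤ) = 32} ∧ crCK y = -e},
        ∃ k : Co0, k • cre = cre ∧ k • y = y' := by
    intro e N B x0 hB hmain h0 h1 h2
    subst hB
    rw [crK_class_eq (-e) h0 h1 h2]
    refine ⟨(ncard_neg_of (fun y => (neg_mem_xset_one e8L e y).symm)).trans hmain.2,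
      fun y hy y' hy' => ?_⟩
    obtain ⟨k, hk, e1⟩ := cert_trans hmain.1 (-y) ((neg_mem_xset_one e8L e y).mpr hy) (-y')
      ((neg_mem_xset_one e8L e y').mpr hy')
    exact ⟨k, fixK_of hk, fixB_neg e1⟩
  obtain ⟨m1, m2, m3, m4, m5, m6, m7, m8, m9, m10⟩ := crMK_vals
  rcases hd with rfl | rfl | rfl | rfl | rfl | rfl | rfl | rfl | rfl | rfl
  · rw [m1]
    exact hpos 32 46 crKaB crKax0 rfl crKa_main (by norm_num) (by norm_num) (by norm_num)
  · rw [m2]
    exact hneg 32 46 crKaB crKax0 rfl crKa_main (by norm_num) (by norm_num) (by norm_num)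
  · rw [m3]
    exact hpos 24 2048 crKbB crKbx0 rfl crKb_main (by norm_num) (by norm_num) (by norm_num)
  · rw [m4]
    exact hneg 24 2048 crKbB crKbx0 rfl crKb_main (by norm_num) (by norm_num) (by norm_num)
  · rw [m5]
    exact hpos 16 16192 crKcB crKcx0 rfl crKc_main (by norm_num) (by norm_num) (by norm_num)
  · rw [m6]
    exact hneg 16 16192 crKcB crKcx0 rfl crKc_main (by norm_num) (by norm_num) (by norm_num)
  · rw [m7]
    exact hpos 8 47104 crKdB crKdx0 rfl crKd_main (by norm_num) (by norm_num) (by norm_num)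
  · rw [m8]
    exact hneg 8 47104 crKdB crKdx0 rfl crKd_main (by norm_num) (by norm_num) (by norm_num)
  · rw [crK_class_zero, m9]
    refine ⟨crKe_main.2, fun y hy y' hy' => ?_⟩
    obtain ⟨k, hk, e1⟩ := cert_trans crKe_main.1 y hy y' hy'
    exact ⟨k, fixK_of hk, e1⟩
  · rw [crK_class_one, m10]
    refine ⟨crKf_main.2, fun y hy y' hy' => ?_⟩
    obtain ⟨k, hk, e1⟩ := cert_trans crKf_main.1 y hy y' hy'
    exact ⟨k, fixK_of hk, e1⟩

/-! #### The numbers -/

theorem crT_num : ∀ I ∈ ({32, -32, 16, -16, 8, -8, 0, 1} : Finset ℤ).powerset, (32 : ℤ) ∈ I →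
    (∑ d ∈ I, crMT d) ∣ 93150 →
    (∑ d ∈ I, crMT d) = 1 ∨ (∑ d ∈ I, crMT d) = 2 ∨ (∑ d ∈ I, crMT d) = 93150 := by
  decide +kernel

theorem crK_num : ∀ I ∈ ({32, -32, 24, -24, 16, -16, 8, -8, 0, 1} : Finset ℤ).powerset,
    (32 : ℤ) ∈ I →
    (∀ d ∈ ({32, -32, 24, -24, 16, -16, 8, -8} : Finset ℤ), d ∈ I → -d ∈ I) →
    ∀ b ∈ ({1, 2, 93150} : Finset ℕ), 2208 ∣ (∑ d ∈ I, crMK d) * b →
    (∑ d ∈ I, crMK d) * b ∣ 196560 * 93150 →
    ((∑ d ∈ I, crMK d) = 1104 ∧ b = 2) ∨ ((∑ d ∈ I, crMK d) = 196560 ∧ b = 93150) := by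
  decide +kernel

/-! #### The main theorem -/

/-- The orbit of a point under a subgroup. -/
def orbOf (M : Subgroup Co0) (x : leechLattice) : Set leechLattice := {y | ∃ g ∈ M, g • x = y}

/-- The stabiliser of the standard cross is a maximal subgroup. -/
theorem cross_coatom (H : Subgroup Co0) (hH : ∀ g, g ∈ H ↔ StabCross g) : IsCoatom H := by
  classical
  have : Finite Co0 := Nat.finite_of_card_ne_zero (by rw [card_co0]; norm_num)
  have D := co1_data crx crx_norm
  have hT : ∀ g : Co0, g • crx = crx → g • crz = crz → g ∈ H := by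
    intro g h1 h2
    rw [hH]
    apply stab_imp_stabCross
    rw [← crx_add, co0_smul_add, h1, h2]
  have hK : ∀ g : Co0, g • cre = cre → g ∈ H := by
    intro g h
    rw [hH]
    apply stab_imp_stabCross
    rw [← cre_eq]
    exact h
  have hneg : negElt ∈ H := by
    rw [hH]
    intro v hv
    show -(v : GolayPt → ℤ) ∈ stdCross
    rw [mem_stdCross_iff] at hv ⊢
    obtain ⟨i, h | h⟩ := hv
    · exact ⟨i, Or.inr (by rw [h])⟩
    · exact ⟨i, Or.inl (by rw [h, neg_neg])⟩
  -- the orders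
  have c1 : Nat.card Co0 = 196560 * Nat.card ↥(MulAction.stabilizer Co0 crx) := by
    rw [D.card, ncard_min]
  have hZorb : ∀ y, y ∈ crZ ↔ ∃ g ∈ MulAction.stabilizer Co0 crx, g • crz = y := by
    intro y
    constructor
    · intro hy
      obtain ⟨g, hg, e⟩ := D.hcol_tr crz crz_norm y hy.1 (crz_mem.1.2.trans hy.2.symm)
      exact ⟨g, MulAction.mem_stabilizer_iff.mpr hg, e⟩
    · rintro ⟨g, hg, rfl⟩
      have hg' : g • crx = crx := MulAction.mem_stabilizer_iff.mp hg
      exact ⟨(co0_smul_sqNorm g crz).trans crz_norm, (dot_smul_fix hg' crz).trans crz_mem.1.2⟩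
  have c2 : Nat.card ↥(MulAction.stabilizer Co0 crx) = 93150 *
      Nat.card ↥(MulAction.stabilizer Co0 crx ⊓ MulAction.stabilizer Co0 crz) := by
    rw [card_sub_orbit (MulAction.stabilizer Co0 crx) crz crZ hZorb, crZ_ncard]
  have cT : Nat.card ↥(MulAction.stabilizer Co0 crx ⊓ MulAction.stabilizer Co0 crz) =
      454164480 := by
    have := card_co0
    rw [c1, c2] at this
    omega
  have cH : Nat.card ↥H = 2208 *
      Nat.card ↥(MulAction.stabilizer Co0 crx ⊓ MulAction.stabilizer Co0 crz) := by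
    have h1 : Nat.card ↥H = Nat.card {g : Co0 // StabCross g} :=
      Nat.card_congr (Equiv.subtypeEquivRight hH)
    rw [h1, card_stab_cross, cT]
  refine ⟨?_, fun M hM => ?_⟩
  · intro htop
    have h1 : Nat.card ↥H = Nat.card Co0 := by
      rw [htop]
      exact Subgroup.card_top
    rw [cH, cT, card_co0] at h1
    norm_num at h1
  · have hHM : H ≤ M := le_of_lt hM
    have cM1 := card_sub_orbit M crx (orbOf M crx) (fun y => Iff.rfl)
    have cM2 := card_sub_orbit (M ⊓ MulAction.stabilizer Co0 crx) crz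
      (orbOf (M ⊓ MulAction.stabilizer Co0 crx) crz) (fun y => Iff.rfl)
    have eT : M ⊓ MulAction.stabilizer Co0 crx ⊓ MulAction.stabilizer Co0 crz =
        MulAction.stabilizer Co0 crx ⊓ MulAction.stabilizer Co0 crz := by
      rw [inf_assoc]
      refine inf_eq_right.mpr (fun g hg => hHM (hT g ?_ ?_))
      · exact MulAction.mem_stabilizer_iff.mp (Subgroup.mem_inf.mp hg).1
      · exact MulAction.mem_stabilizer_iff.mp (Subgroup.mem_inf.mp hg).2
    rw [eT] at cM2
    have hpos : 0 < Nat.card ↥(MulAction.stabilizer Co0 crx ⊓ MulAction.stabilizer Co0 crz) := by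
      rw [cT]
      norm_num
    have d1 : (orbOf (M ⊓ MulAction.stabilizer Co0 crx) crz).ncard ∣ 93150 := by
      have h := Subgroup.card_dvd_of_le
        (inf_le_right : M ⊓ MulAction.stabilizer Co0 crx ≤ MulAction.stabilizer Co0 crx)
      rw [cM2, c2] at h
      exact Nat.dvd_of_mul_dvd_mul_right hpos h
    have d2 : 2208 ∣ (orbOf M crx).ncard *
        (orbOf (M ⊓ MulAction.stabilizer Co0 crx) crz).ncard := by
      have h := Subgroup.card_dvd_of_le hHM
      rw [cH, cM1, cM2, ← mul_assoc] at h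
      exact Nat.dvd_of_mul_dvd_mul_right hpos h
    have d3 : (orbOf M crx).ncard * (orbOf (M ⊓ MulAction.stabilizer Co0 crx) crz).ncard ∣
        196560 * 93150 := by
      have h := Subgroup.card_subgroup_dvd_card M
      rw [cM1, cM2, c1, c2, ← mul_assoc, ← mul_assoc] at h
      exact Nat.dvd_of_mul_dvd_mul_right hpos h
    -- the orbit of the second base vector
    have hBsZ : orbOf (M ⊓ MulAction.stabilizer Co0 crx) crz ⊆ crZ := by
      rintro y ⟨g, hg, rfl⟩
      exact (hZorb _).mpr ⟨g, (Subgroup.mem_inf.mp hg).2, rfl⟩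
    have hsumT : ∑ d ∈ ({32, -32, 16, -16, 8, -8, 0, 1} : Finset ℤ), crMT d = crZ.ncard := by
      rw [crZ_ncard]
      decide
    have hmT := fun d hd => (crT_classes d hd).1
    obtain ⟨IT, hIT, hITmem, -, hITcard⟩ := pieces_union crZ_finite hmT hsumT
      (orbOf (M ⊓ MulAction.stabilizer Co0 crx) crz) hBsZ (by
        intro y hy y' hy' hc
        have hyc := cover_of_card crZ_finite hmT hsumT y (hBsZ hy)
        obtain ⟨k, ⟨k1, k2⟩, e⟩ := (crT_classes _ hyc).2 y ⟨hBsZ hy, rfl⟩ y' ⟨hy', hc⟩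
        obtain ⟨g, hg, rfl⟩ := hy
        refine ⟨k * g, Subgroup.mul_mem _ ?_ hg, by rw [mul_smul, e]⟩
        exact Subgroup.mem_inf.mpr ⟨hHM (hT k k1 k2), MulAction.mem_stabilizer_iff.mpr k1⟩)
    have h32 : (32 : ℤ) ∈ IT := by
      have h1 : crz ∈ orbOf (M ⊓ MulAction.stabilizer Co0 crx) crz :=
        ⟨1, Subgroup.one_mem _, one_smul _ _⟩
      have h2 := (hITmem crz crz_mem.1).mp h1
      have h3 : crCT crz = 32 :=
        (col2_eq_of_ne crz (by norm_num) (by norm_num) (by norm_num)).mpr crz_mem.2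
      rw [h3] at h2
      exact h2
    have hb := crT_num IT (Finset.mem_powerset.mpr hIT) h32 (by rw [← hITcard]; exact d1)
    rw [← hITcard] at hb
    -- the orbit of the first base vector
    have hOX : orbOf M crx ⊆ {y : leechLattice | sqNorm (y : GolayPt → ℤ) = 32} := by
      rintro y ⟨g, -, rfl⟩
      exact (co0_smul_sqNorm g crx).trans crx_norm
    have hsumK : ∑ d ∈ ({32, -32, 24, -24, 16, -16, 8, -8, 0, 1} : Finset ℤ), crMK d =
        {y : leechLattice | sqNorm (y : GolayPt → ℤ) = 32}.ncard := by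
      rw [ncard_min]
      decide
    have hmK := fun d hd => (crK_classes d hd).1
    obtain ⟨IK, hIK, hIKmem, hIKex, hIKcard⟩ := pieces_union crX_finite hmK hsumK
      (orbOf M crx) hOX (by
        intro y hy y' hy' hc
        have hyc := cover_of_card crX_finite hmK hsumK y (hOX hy)
        obtain ⟨k, k1, e⟩ := (crK_classes _ hyc).2 y ⟨hOX hy, rfl⟩ y' ⟨hy', hc⟩
        obtain ⟨g, hg, rfl⟩ := hy
        exact ⟨k * g, Subgroup.mul_mem _ (hHM (hK k k1)) hg, by rw [mul_smul, e]⟩)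
    have h32K : (32 : ℤ) ∈ IK := by
      have h1 : crx ∈ orbOf M crx := ⟨1, Subgroup.one_mem _, one_smul _ _⟩
      have h2 := (hIKmem crx crx_norm).mp h1
      have h3 : crCK crx = 32 :=
        (col2_eq_of_ne crx (by norm_num) (by norm_num) (by norm_num)).mpr cre_crx
      rw [h3] at h2
      exact h2
    have hsym : ∀ d ∈ ({32, -32, 24, -24, 16, -16, 8, -8} : Finset ℤ), d ∈ IK → -d ∈ IK := by
      intro d hd hdI
      obtain ⟨y, hyO, hyc⟩ := hIKex d hdI
      have hd0 : d ≠ 0 ∧ d ≠ 1 ∧ d ≠ 2 ∧ -d ≠ 0 ∧ -d ≠ 1 ∧ -d ≠ 2 := by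
        simp only [Finset.mem_insert, Finset.mem_singleton] at hd
        rcases hd with rfl | rfl | rfl | rfl | rfl | rfl | rfl | rfl <;> norm_num
      have hy1 : dotInt (vecOf e8L) (y : GolayPt → ℤ) = d :=
        (col2_eq_of_ne y hd0.1 hd0.2.1 hd0.2.2.1).mp hyc
      have hnO : -y ∈ orbOf M crx := by
        obtain ⟨g, hg, rfl⟩ := hyO
        refine ⟨negElt * g, Subgroup.mul_mem _ (hHM hneg) hg, ?_⟩
        rw [mul_smul]
        rfl
      have h2 := (hIKmem (-y) (hOX hnO)).mp hnO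
      have h3 : crCK (-y) = -d :=
        (col2_eq_of_ne (-y) hd0.2.2.2.1 hd0.2.2.2.2.1 hd0.2.2.2.2.2).mpr
          ((dotInt_neg_right _ _).trans (by rw [hy1]))
      rw [h3] at h2
      exact h2
    have hb' : (orbOf (M ⊓ MulAction.stabilizer Co0 crx) crz).ncard ∈
        ({1, 2, 93150} : Finset ℕ) := by
      simp only [Finset.mem_insert, Finset.mem_singleton]
      exact hb
    have hfin := crK_num IK (Finset.mem_powerset.mpr hIK) h32K hsym _ hb'
      (by rw [← hIKcard]; exact d2) (by rw [← hIKcard]; exact d3)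
    rw [← hIKcard] at hfin
    rcases hfin with ⟨ha, hb2⟩ | ⟨ha, hb2⟩
    · exfalso
      have hcard : Nat.card ↥M = Nat.card ↥H := by
        rw [cM1, cM2, ha, hb2, cH]
        omega
      exact (ne_of_lt hM) (Subgroup.eq_of_le_of_card_ge hHM (le_of_eq hcard))
    · apply Subgroup.eq_top_of_card_eq
      rw [cM1, cM2, ha, hb2, c1, c2]

end Cfsg.Agent.Lib.Helper92
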