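import Cfsg.Agent.Lib.Helper92.LeechQuad

set_option autoImplicit false

open scoped Pointwise

namespace Cfsg.Agent.Lib.Helper92

open Cfsg Cfsg.Spor Cfsg.Agent.Lib.Helper7

/-! ### The finite set of minimal vectors and its second moments -/

/-- The finite set of minimal vectors. -/
noncomputable def minF : Finset (GolayPt → ℤ) := shortF.filter (fun y => sqNorm y = 32)

theorem mem_minF {y : GolayPt → ℤ} : y ∈ minF ↔ y ∈ leechLattice ∧ sqNorm y = 32 := by
  unfold minF
  rw [Finset.mem_filter, mem_shortF]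
  constructor
  · rintro ⟨⟨h1, -⟩, h2⟩
    exact ⟨h1, h2⟩
  · rintro ⟨h1, h2⟩
    exact ⟨⟨h1, by omega⟩, h2⟩

theorem card_minF : minF.card = 196560 := (card_filter_short 32 (by norm_num)).trans count32

theorem moment_off {i j : GolayPt} (hij : i ≠ j) : ∑ w ∈ minF, w i * w j = 0 := by
  obtain ⟨c, hc, hci, hcj⟩ := exists_sep i j hij
  have hmaps : ∀ w ∈ minF, signVec c w ∈ minF := by
    intro w hw
    rw [mem_minF] at hw ⊢
    exact ⟨signVec_mem hc hw.1, by rw [sqNorm_signVec]; exact hw.2⟩
  have h : ∑ w ∈ minF, signVec c w i * signVec c w j = ∑ w ∈ minF, w i * w j :=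
    Finset.sum_nbij' (fun w => signVec c w) (fun w => signVec c w) hmaps hmaps
      (fun w _ => signVec_signVec c w) (fun w _ => signVec_signVec c w) (fun w _ => rfl)
  have h2 : ∀ w : GolayPt → ℤ, signVec c w i * signVec c w j = -(w i * w j) := by
    intro w
    unfold signVec sgn
    rw [hci, hcj]
    simp
  rw [Finset.sum_congr rfl (fun w _ => h2 w), Finset.sum_neg_distrib] at h
  omega

theorem moment_diag (i j : GolayPt) : ∑ w ∈ minF, w i ^ 2 = ∑ w ∈ minF, w j ^ 2 := by
  obtain ⟨π, hπ, hmap⟩ := Cfsg.Agent.Lib.Helper26.M24_lists_map (L := [i]) (L' := [j])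
    (by simp) (by simp) rfl (by simp)
  simp only [List.map_cons, List.map_nil, List.cons.injEq, and_true] at hmap
  have hπ' : π.symm ∈ M24 := M24.inv_mem hπ
  have h : ∑ w ∈ minF, (permVec π w) j ^ 2 = ∑ w ∈ minF, w j ^ 2 :=
    Finset.sum_nbij' (fun w => permVec π w) (fun w => permVec π.symm w)
      (fun w hw => by
        rw [mem_minF] at hw ⊢
        exact ⟨permVec_mem hπ hw.1, by rw [sqNorm_permVec]; exact hw.2⟩)
      (fun w hw => by
        rw [mem_minF] at hw ⊢
        exact ⟨permVec_mem hπ' hw.1, by rw [sqNorm_permVec]; exact hw.2⟩)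
      (fun w _ => permVec_symm_permVec π w) (fun w _ => permVec_permVec_symm π w)
      (fun w _ => rfl)
  rw [← h]
  refine Finset.sum_congr rfl (fun w _ => ?_)
  unfold permVec
  have : π.symm j = i := by rw [Equiv.symm_apply_eq, hmap]
  rw [this]

theorem moment_val (i : GolayPt) : ∑ w ∈ minF, w i ^ 2 = 262080 := by
  have h1 : ∑ k : GolayPt, ∑ w ∈ minF, w k ^ 2 = ∑ w ∈ minF, sqNorm w := Finset.sum_comm
  have h2 : ∑ w ∈ minF, sqNorm w = 196560 * 32 := by
    rw [Finset.sum_congr rfl (fun w hw => (mem_minF.mp hw).2), Finset.sum_const, card_minF]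
    norm_num
  have h3 : ∑ k : GolayPt, ∑ w ∈ minF, w k ^ 2 = 24 * ∑ w ∈ minF, w i ^ 2 := by
    rw [Finset.sum_congr rfl (fun k _ => moment_diag k i), Finset.sum_const, Finset.card_univ,
      card_golayPt]
    simp
  omega

/-- The minimal vectors form a 2-design. -/
theorem design2 (v : GolayPt → ℤ) : ∑ w ∈ minF, dotInt v w ^ 2 = 262080 * sqNorm v := by
  have h0 : ∀ w : GolayPt → ℤ, dotInt v w ^ 2 = ∑ i, ∑ j, v i * v j * (w i * w j) := by
    intro w
    unfold dotInt
    rw [sq, Finset.sum_mul_sum]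
    exact Finset.sum_congr rfl (fun i _ => Finset.sum_congr rfl (fun j _ => by ring))
  rw [Finset.sum_congr rfl (fun w _ => h0 w), Finset.sum_comm]
  unfold sqNorm
  rw [Finset.mul_sum]
  refine Finset.sum_congr rfl (fun i _ => ?_)
  rw [Finset.sum_comm, Finset.sum_eq_single i]
  · rw [← Finset.mul_sum]
    have h := moment_val i
    have e : ∑ w ∈ minF, w i * w i = 262080 := by
      rw [← h]
      exact Finset.sum_congr rfl (fun w _ => (sq (w i)).symm)
    rw [e]
    ring
  · intro j _ hji
    rw [← Finset.mul_sum, moment_off (Ne.symm hji), mul_zero]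
  · intro h
    exact absurd (Finset.mem_univ i) h

end Cfsg.Agent.Lib.Helper92
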