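import Cfsg.Agent.Lib.Helper92.LeechOps

set_option autoImplicit false

open scoped Pointwise

namespace Cfsg.Agent.Lib.Helper92

open Cfsg Cfsg.Spor Cfsg.Agent.Lib.Helper7

/-! ### Enumeration of the minimal vectors with a given word of second binary digits -/

/-- A bit of a number, computed by shifting. -/
def bitB (m n : ℕ) : Bool := Nat.beq ((m >>> n) % 2) 1

theorem bitB_eq (m n : ℕ) : bitB m n = m.testBit n := by
  unfold bitB
  rw [Nat.testBit_eq_decide_div_mod_eq, Nat.shiftRight_eq_div_pow]
  by_cases h : m / 2 ^ n % 2 = 1
  · rw [h]; rfl
  · have h0 : m / 2 ^ n % 2 = 0 := by omega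
    rw [h0]; rfl

/-- A vector with two nonzero entries. -/
def mkA (i j : ℕ) (s t : ℤ) : List ℤ :=
  (List.range 24).map (fun n => if n = i then s else if n = j then t else 0)

/-- The vectors with two entries `±4`. -/
def candA : List (List ℤ) :=
  (List.range 24).flatMap (fun i => (List.range 24).flatMap (fun j =>
    if i < j then [mkA i j 4 4, mkA i j 4 (-4), mkA i j (-4) 4, mkA i j (-4) (-4)] else []))

/-- The positions of the bits of a mask. -/
def bitsOf (r : ℕ) : List ℕ := (List.range 24).filter (fun n => bitB r n)

/-- A vector with entries `±2` at the bits of `r`, the signs given by the bits of `t`. -/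
def mkB (r : ℕ) (pos : List ℕ) (t : ℕ) : List ℤ :=
  (List.range 24).map (fun n => if bitB r n then (if bitB t (pos.idxOf n) then -2 else 2) else 0)

/-- An odd vector with entries `±1` and one entry `±3`, the residues given by the bits of `r`. -/
def mkC (r j : ℕ) : List ℤ :=
  (List.range 24).map (fun n => if n = j then (if bitB r n then 3 else -3)
    else (if bitB r n then -1 else 1))

/-- The candidates for the minimal vectors with word of second digits `r`. -/
def cands (r : ℕ) (pos : List ℕ) : List (List ℤ) :=
  (List.range 24).map (mkC r) ++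
    (if r = 0 then candA else if pos.length = 8 then (List.range 256).map (mkB r pos) else [])

theorem length_filter_range (p : ℕ → Bool) (n : ℕ) :
    ((List.range n).filter p).length = ∑ i ∈ Finset.range n, (if p i = true then 1 else 0) := by
  induction n with
  | zero => simp
  | succ n ih =>
    rw [List.range_succ, List.filter_append, List.length_append, ih, Finset.sum_range_succ]
    congr 1
    by_cases h : p n = true <;> simp [h]

theorem length_bitsOf (r : ℕ) : (bitsOf r).length = popc r := by
  unfold bitsOf
  rw [length_filter_range, popc_eq_sum]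
  refine Finset.sum_congr rfl (fun i _ => ?_)
  rw [bitB_eq]

theorem bitWord_pt {x : GolayPt → ℤ} {r : ℕ} (hb : bitWord x = wordOf r) {n : ℕ} (hn : n < 24) :
    (x (pt n) % 4 = 2 ∨ x (pt n) % 4 = 3) ↔ bitB r n = true := by
  have h := congrFun hb (pt n)
  simp only [bitWord, cast_half, wordOf, idx_pt hn] at h
  rw [bitB_eq]
  by_cases h1 : x (pt n) % 4 = 2 ∨ x (pt n) % 4 = 3
  · rw [if_pos h1] at h
    by_cases h2 : r.testBit n = true
    · exact ⟨fun _ => h2, fun _ => h1⟩
    · rw [if_neg h2] at h
      exact absurd h one_ne_zero
  · rw [if_neg h1] at h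
    by_cases h2 : r.testBit n = true
    · rw [if_pos h2] at h
      exact absurd h.symm one_ne_zero
    · exact ⟨fun h3 => absurd h3 h1, fun h3 => absurd h3 h2⟩

theorem toL_eq_map (x : GolayPt → ℤ) (F : ℕ → ℤ) (h : ∀ n < 24, x (pt n) = F n) :
    toL x = (List.range 24).map F := by
  unfold toL
  exact List.map_congr_left (fun n hn => h n (List.mem_range.mp hn))

theorem popc_zero : popc 0 = 0 := by decide

/-- Every minimal vector is among the candidates for its word of second binary digits. -/
theorem fiber_enum {x : GolayPt → ℤ} (hx : x ∈ leechLattice) (hn : sqNorm x = 32) {r : ℕ}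
    (hr : r < 2 ^ 24) (hb : bitWord x = wordOf r) : toL x ∈ cands r (bitsOf r) := by
  unfold cands
  by_cases ho : x none % 2 = 1
  · obtain ⟨j, hj, hrest⟩ := min_odd hx hn ho
    apply List.mem_append_left
    rw [List.mem_map]
    refine ⟨idx j, List.mem_range.mpr (idx_lt j), ?_⟩
    unfold mkC
    refine (toL_eq_map x _ (fun n hn' => ?_)).symm
    have hbit := bitWord_pt hb hn'
    by_cases hnj : n = idx j
    · subst hnj
      rw [pt_idx] at hbit ⊢
      rw [if_pos rfl]
      rcases hj with h | h
      · rw [h] at hbit ⊢
        rw [if_pos (hbit.mp (by norm_num))]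
      · rw [h] at hbit ⊢
        have : ¬ bitB r (idx j) = true := fun hc => by
          have := hbit.mpr hc
          omega
        rw [if_neg this]
    · rw [if_neg hnj]
      have hne : pt n ≠ j := fun hc => hnj (by rw [← hc, idx_pt hn'])
      rcases hrest (pt n) hne with h | h
      · rw [h] at hbit ⊢
        have : ¬ bitB r n = true := fun hc => by
          have := hbit.mpr hc
          omega
        rw [if_neg this]
      · rw [h] at hbit ⊢
        rw [if_pos (hbit.mp (by norm_num))]
  · have he : x none % 2 = 0 := by omega
    apply List.mem_append_right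
    by_cases h4 : ∀ i, x i % 4 = 0
    · have hr0 : r = 0 := by
        apply wordOf_inj hr (by norm_num)
        rw [← hb, wordOf_zero]
        funext i
        simp only [bitWord, cast_half, Pi.zero_apply]
        have := h4 i
        rw [if_neg (by omega)]
      rw [if_pos hr0]
      obtain ⟨i, j, hij, hi, hj, hz⟩ := min_A hn h4
      have key : ∀ i j : GolayPt, i ≠ j → (x i = 4 ∨ x i = -4) → (x j = 4 ∨ x j = -4) →
          (∀ k, k ≠ i → k ≠ j → x k = 0) → idx i < idx j → toL x ∈ candA := by
        intro i j hij hi hj hz hlt
        unfold candA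
        rw [List.mem_flatMap]
        refine ⟨idx i, List.mem_range.mpr (idx_lt i), ?_⟩
        rw [List.mem_flatMap]
        refine ⟨idx j, List.mem_range.mpr (idx_lt j), ?_⟩
        rw [if_pos hlt]
        have e : toL x = mkA (idx i) (idx j) (x i) (x j) := by
          unfold mkA
          refine toL_eq_map x _ (fun n hn' => ?_)
          by_cases h1 : n = idx i
          · rw [if_pos h1, h1, pt_idx]
          · rw [if_neg h1]
            by_cases h2 : n = idx j
            · rw [if_pos h2, h2, pt_idx]
            · rw [if_neg h2]
              apply hz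
              · intro hc; exact h1 (by rw [← hc, idx_pt hn'])
              · intro hc; exact h2 (by rw [← hc, idx_pt hn'])
        rw [e]
        rcases hi with hi | hi <;> rcases hj with hj | hj <;> rw [hi, hj] <;> simp
      have hne : idx i ≠ idx j := fun hc => hij (idx_injective hc)
      rcases Nat.lt_or_gt_of_ne hne with hlt | hlt
      · exact key i j hij hi hj hz hlt
      · exact key j i (Ne.symm hij) hj hi (fun k h1 h2 => hz k h2 h1) hlt
    · obtain ⟨hoct, hval⟩ := min_B hx hn he h4
      have hcard : (support₂ (bitWord x)).card = 8 := hoct.2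
      rw [hb, card_support₂_wordOf] at hcard
      have hr0 : r ≠ 0 := by
        rintro rfl
        rw [popc_zero] at hcard
        omega
      rw [if_neg hr0]
      have hlen : (bitsOf r).length = 8 := by rw [length_bitsOf, hcard]
      rw [if_pos hlen, List.mem_map]
      refine ⟨ofBits (fun q => decide (x (pt ((bitsOf r).getD q 0)) = -2)) 8,
        List.mem_range.mpr (by have := ofBits_lt (fun q => decide (x (pt ((bitsOf r).getD q 0)) = -2)) 8; omega), ?_⟩
      unfold mkB
      refine (toL_eq_map x _ (fun n hn' => ?_)).symm
      have hsup : pt n ∈ support₂ (bitWord x) ↔ bitB r n = true := by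
        rw [hb, support₂_wordOf, mem_setOf, idx_pt hn', bitB_eq]
      by_cases hbn : bitB r n = true
      · rw [if_pos hbn]
        have hmem : n ∈ bitsOf r := by
          unfold bitsOf
          rw [List.mem_filter]
          exact ⟨List.mem_range.mpr hn', hbn⟩
        have hq : (bitsOf r).idxOf n < 8 := by
          rw [← hlen]
          exact List.idxOf_lt_length_of_mem hmem
        have hget : (bitsOf r).getD ((bitsOf r).idxOf n) 0 = n := by
          rw [List.getD_eq_getElem _ _ (by rw [hlen]; exact hq)]
          exact List.getElem_idxOf _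
        rw [bitB_eq, testBit_ofBits, hget]
        rcases (hval (pt n)).1 (hsup.mpr hbn) with h | h
        · rw [h]; simp [hq]
        · rw [h]; simp [hq]
      · rw [if_neg hbn]
        exact (hval (pt n)).2 (fun hc => hbn (hsup.mp hc))

end Cfsg.Agent.Lib.Helper92
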