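import Cfsg.Agent.Lib.Helper92.LeechMono
import Cfsg.Agent.Lib.Helper92.LeechMod2

set_option autoImplicit false

namespace Cfsg.Agent.Lib.Helper92

open Cfsg Cfsg.Agent.Lib.Helper7

/-! ### A finite generating set of the lattice -/

/-- Twice the indicator vector of a word. -/
def twoInd (c : GolayPt → ZMod 2) : GolayPt → ℤ := fun i => if c i = 1 then 2 else 0

/-- The vector with `4` at a residue and `-4` at the extra point. -/
def vecFourDiff (a : ZMod 23) : GolayPt → ℤ :=
  fun i => if i = some a then 4 else if i = none then -4 else 0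

theorem typeWord_zero : typeWord (0 : GolayPt → ℤ) = 0 := by
  funext i
  simp [typeWord, gBit]

/-- Induction over a finite generating set of the lattice. -/
theorem gen_induction (P : (GolayPt → ℤ) → Prop) (h0 : P 0)
    (hadd : ∀ x y, P x → P y → P (x + y)) (hneg : ∀ x, P x → P (-x)) (h1 : P vecThree)
    (h2 : ∀ t, P (twoInd (qrWord t))) (h3 : P (twoInd 1)) (h4 : ∀ a : ZMod 23, P (vecFourDiff a))
    (h5 : P (vecEight none)) : ∀ x ∈ leechLattice, P x := by
  classical
  have hsub : ∀ x y, P x → P y → P (x - y) := fun x y hx hy => by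
    rw [sub_eq_add_neg]; exact hadd _ _ hx (hneg _ hy)
  have hnsmul : ∀ (n : ℕ) x, P x → P (n • x) := by
    intro n x hx
    induction n with
    | zero => rw [zero_smul]; exact h0
    | succ n ih => rw [succ_nsmul]; exact hadd _ _ ih hx
  have hzsmul : ∀ (n : ℤ) x, P x → P (n • x) := by
    intro n x hx
    obtain ⟨k, rfl | rfl⟩ := Int.eq_nat_or_neg n
    · rw [natCast_zsmul]; exact hnsmul k x hx
    · rw [neg_zsmul, natCast_zsmul]; exact hneg _ (hnsmul k x hx)
  have hsum : ∀ (s : Finset (ZMod 23)) (f : ZMod 23 → (GolayPt → ℤ)), (∀ a, P (f a)) →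
      P (∑ a ∈ s, f a) := by
    intro s f hf
    induction s using Finset.induction_on with
    | empty => rw [Finset.sum_empty]; exact h0
    | insert a s ha ih => rw [Finset.sum_insert ha]; exact hadd _ _ (hf a) ih
  -- Step A: realise every code word as the type of a good vector
  have hA : ∀ c ∈ golayCode, ∃ g, P g ∧ g ∈ leechLattice ∧ typeWord g = c := by
    intro c hc
    unfold golayCode at hc
    induction hc using Submodule.span_induction with
    | mem c hc =>
      rcases hc with ⟨t, rfl⟩ | hc
      · exact ⟨twoInd (qrWord t), h2 t, two_ind_mem (qrWord_mem t), typeWord_two_ind _ rfl⟩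
      · rw [Set.mem_singleton_iff] at hc
        subst hc
        exact ⟨vecThree, h1, vecThree_mem, typeWord_vecThree⟩
    | zero => exact ⟨0, h0, leechLattice.zero_mem, typeWord_zero⟩
    | add c c' _ _ ih ih' =>
      obtain ⟨g, hg1, hg2, hg3⟩ := ih
      obtain ⟨g', hg1', hg2', hg3'⟩ := ih'
      exact ⟨g + g', hadd _ _ hg1 hg1', leechLattice.add_mem hg2 hg2', by
        rw [typeWord_add_mem hg2 hg2', hg3, hg3']⟩
    | smul a c _ ih =>
      rcases zmod2_cases a with rfl | rfl
      · rw [zero_smul]
        exact ⟨0, h0, leechLattice.zero_mem, typeWord_zero⟩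
      · rw [one_smul]
        exact ih
  -- Step D: vectors with all coordinates divisible by 4 and sum divisible by 8
  have hD : ∀ z : GolayPt → ℤ, (∀ i, z i % 4 = 0) → (∑ i, z i) % 8 = 0 → P z := by
    intro z hz4 hz8
    have hz : z = ∑ a : ZMod 23, (z (some a) / 4) • vecFourDiff a +
        ((∑ i, z i) / 8) • vecEight none := by
      funext i
      rw [Pi.add_apply, Finset.sum_apply]
      cases i with
      | none =>
        have e1 : ∀ a : ZMod 23, ((z (some a) / 4) • vecFourDiff a) none = -z (some a) := by
          intro a
          have := hz4 (some a)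
          simp only [Pi.smul_apply, vecFourDiff, smul_eq_mul]
          rw [if_neg (by simp)]
          simp only [if_true]
          omega
        simp only [e1]
        rw [Finset.sum_neg_distrib]
        simp only [Pi.smul_apply, vecEight, smul_eq_mul, if_true]
        rw [Fintype.sum_option] at hz8 ⊢
        omega
      | some b =>
        have e1 : ∀ a : ZMod 23, ((z (some a) / 4) • vecFourDiff a) (some b) =
            if a = b then z (some b) else 0 := by
          intro a
          simp only [Pi.smul_apply, vecFourDiff, smul_eq_mul]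
          by_cases hab : a = b
          · subst hab
            have := hz4 (some a)
            rw [if_pos rfl, if_pos rfl]
            omega
          · rw [if_neg (by simpa using Ne.symm hab), if_neg (by simp), if_neg hab, mul_zero]
        simp only [e1]
        rw [Finset.sum_ite_eq' Finset.univ b, if_pos (Finset.mem_univ b)]
        simp [vecEight]
    rw [hz]
    exact hadd _ _ (hsum _ _ (fun a => hzsmul _ _ (h4 a))) (hzsmul _ _ h5)
  intro x hx
  obtain ⟨g, hg1, hg2, hg3⟩ := hA _ (typeWord_mem hx)
  have hx' : x - g ∈ leechLattice := leechLattice.sub_mem hx hg2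
  have ht : typeWord (x - g) = 0 := by
    have h := map_sub typeHom ⟨x, hx⟩ ⟨g, hg2⟩
    have e1 : typeHom ⟨x, hx⟩ = typeWord x := rfl
    have e2 : typeHom ⟨g, hg2⟩ = typeWord g := rfl
    have e3 : typeHom (⟨x, hx⟩ - ⟨g, hg2⟩) = typeWord (x - g) := rfl
    rw [e1, e2, e3, hg3, sub_self] at h
    exact h
  have hP' : P (x - g) := by
    rcases typeWord_eq_zero hx' ht with ⟨h4', h8'⟩ | h2'
    · exact hD _ h4' h8'
    · have e : x - g = (x - g - twoInd 1) + twoInd 1 := by abel
      rw [e]
      refine hadd _ _ (hD _ (fun i => ?_) ?_) h3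
      · have := h2' i
        simp only [Pi.sub_apply, twoInd, Pi.one_apply, if_true] at this ⊢
        omega
      · obtain ⟨m, hm2, hm8, -⟩ := (mem_leechLattice_iff _).mp hx'
        have hm : m % 2 = 0 := by
          have h := hm2 none
          have h' := h2' none
          unfold Int.ModEq at h
          omega
        unfold Int.ModEq at hm8
        have hs : ∑ i, (x - g - twoInd 1) i = ∑ i, (x - g) i - 48 := by
          simp only [Pi.sub_apply, twoInd, Pi.one_apply, if_true]
          rw [Finset.sum_sub_distrib, Finset.sum_const, Finset.card_univ, card_golayPt]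
          simp
        rw [hs]
        omega
  have e : x = (x - g) + g := by abel
  rw [e]
  exact hadd _ _ hP' hg1

end Cfsg.Agent.Lib.Helper92
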