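import Cfsg.Agent.Lib.Helper92.LeechCo3
import Cfsg.Agent.Lib.Helper92.OrbHSa
import Cfsg.Agent.Lib.Helper92.OrbHSb
import Cfsg.Agent.Lib.Helper92.OrbHSc

set_option autoImplicit false

open scoped Pointwise

namespace Cfsg.Agent.Lib.Helper92

open Cfsg Cfsg.Spor Cfsg.Agent.Lib.Helper7

/-! ### The stabiliser of two vectors of type 3 with inner product `-32` -/

/-- The first standard vector. -/
def v0L : List ℤ := [5, 1, 1, 1, 1, 1, 1, 1, 1, 1, 1, 1, 1, 1, 1, 1, 1, 1, 1, 1, 1, 1, 1, 1]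

/-- The second standard vector. -/
def w0L : List ℤ :=
  [-1, -1, -1, -1, -1, -1, -1, -1, -1, -1, -1, -1, -1, -1, -1, -1, -1, -1, -1, -1, -1, -1, -1, -5]

/-- The standard point. -/
def a0L : List ℤ := [4, 0, 0, 0, 0, 0, 0, 0, 0, 0, 0, 0, 0, 0, 0, 0, 0, 0, 0, 0, 0, 0, 0, 4]

theorem v0L_mem : vecOf v0L ∈ leechLattice := leechB_sound (by decide +kernel)

theorem w0L_mem : vecOf w0L ∈ leechLattice := leechB_sound (by decide +kernel)

theorem exists_to_vw (v w : leechLattice) (hv : sqNorm (v : GolayPt → ℤ) = 48)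
    (hw : sqNorm (w : GolayPt → ℤ) = 48)
    (hvw : dotInt (v : GolayPt → ℤ) (w : GolayPt → ℤ) = -32) :
    ∃ g₀ : Co0, ((g₀ • v : leechLattice) : GolayPt → ℤ) = vecOf v0L ∧
      ((g₀ • w : leechLattice) : GolayPt → ℤ) = vecOf w0L := by
  have h1 : sqNorm (vecOf v0L) = 48 := by
    rw [sqNorm_vecOf_dotL (by decide)]
    decide +kernel
  have h2 : sqNorm (vecOf w0L) = 48 := by
    rw [sqNorm_vecOf_dotL (by decide)]
    decide +kernel
  have h3 : dotInt (vecOf v0L) (vecOf w0L) = -32 := by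
    rw [dotL_vecOf (by decide) (by decide)]
    decide +kernel
  obtain ⟨g₀, e1, e2⟩ := pair48_trans v w ⟨vecOf v0L, v0L_mem⟩ ⟨vecOf w0L, w0L_mem⟩ hv hw h1 h2
    hvw h3
  exact ⟨g₀, congrArg Subtype.val e1, congrArg Subtype.val e2⟩

/-- The stabiliser of two vectors of type 3 with inner product `-32` is transitive on the
`100` minimal vectors with inner products `24` and `-24` with them. -/
theorem hs_orbit (v w : leechLattice) (hv : sqNorm (v : GolayPt → ℤ) = 48)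
    (hw : sqNorm (w : GolayPt → ℤ) = 48)
    (hvw : dotInt (v : GolayPt → ℤ) (w : GolayPt → ℤ) = -32) :
    {x : leechLattice | sqNorm (x : GolayPt → ℤ) = 32 ∧
        dotInt (v : GolayPt → ℤ) (x : GolayPt → ℤ) = 24 ∧
        dotInt (w : GolayPt → ℤ) (x : GolayPt → ℤ) = -24}.ncard = 100 ∧
      ∀ x ∈ {x : leechLattice | sqNorm (x : GolayPt → ℤ) = 32 ∧
        dotInt (v : GolayPt → ℤ) (x : GolayPt → ℤ) = 24 ∧
        dotInt (w : GolayPt → ℤ) (x : GolayPt → ℤ) = -24},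
      ∀ x' ∈ {x : leechLattice | sqNorm (x : GolayPt → ℤ) = 32 ∧
        dotInt (v : GolayPt → ℤ) (x : GolayPt → ℤ) = 24 ∧
        dotInt (w : GolayPt → ℤ) (x : GolayPt → ℤ) = -24},
      ∃ g : Co0, g • v = v ∧ g • w = w ∧ g • x = x' := by
  obtain ⟨g₀, hg1, hg2⟩ := exists_to_vw v w hv hw hvw
  have hS : ∀ x : leechLattice, x ∈ {x : leechLattice | sqNorm (x : GolayPt → ℤ) = 32 ∧
      dotInt (v : GolayPt → ℤ) (x : GolayPt → ℤ) = 24 ∧
      dotInt (w : GolayPt → ℤ) (x : GolayPt → ℤ) = -24} ↔ g₀ • x ∈ XSet hsaconds := by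
    intro x
    rw [show hsaconds = [(v0L, 24), (w0L, -24)] from rfl, xset_two, dot_smul_of_eq hg1,
      dot_smul_of_eq hg2, co0_smul_sqNorm]
    exact Iff.rfl
  obtain ⟨h1, h2⟩ := xset_trans hsa_main g₀ hS
  refine ⟨h1, fun x hx x' hx' => ?_⟩
  obtain ⟨k, hk, e⟩ := h2 x hx x' hx'
  exact ⟨g₀⁻¹ * k * g₀, fix_conj hk (show v0L ∈ hsaB from List.mem_cons_self) hg1,
    fix_conj hk (show w0L ∈ hsaB from List.mem_cons_of_mem _ List.mem_cons_self) hg2, e⟩

/-- A triple `(v, w, x)` can be carried to the standard one. -/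
theorem exists_to_vwx (v w x : leechLattice) (hv : sqNorm (v : GolayPt → ℤ) = 48)
    (hw : sqNorm (w : GolayPt → ℤ) = 48)
    (hvw : dotInt (v : GolayPt → ℤ) (w : GolayPt → ℤ) = -32)
    (hx : sqNorm (x : GolayPt → ℤ) = 32 ∧ dotInt (v : GolayPt → ℤ) (x : GolayPt → ℤ) = 24 ∧
        dotInt (w : GolayPt → ℤ) (x : GolayPt → ℤ) = -24) :
    ∃ g₁ : Co0, ((g₁ • v : leechLattice) : GolayPt → ℤ) = vecOf v0L ∧
      ((g₁ • w : leechLattice) : GolayPt → ℤ) = vecOf w0L ∧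
      ((g₁ • x : leechLattice) : GolayPt → ℤ) = vecOf a0L := by
  obtain ⟨g₀, hg1, hg2⟩ := exists_to_vw v w hv hw hvw
  have hx0 : g₀ • x ∈ XSet hsaconds := by
    rw [show hsaconds = [(v0L, 24), (w0L, -24)] from rfl, xset_two, dot_smul_of_eq hg1,
      dot_smul_of_eq hg2, co0_smul_sqNorm]
    exact hx
  obtain ⟨k, hk, h0, ek⟩ := hsa_main.1 _ hx0
  have e1 : g₀ • v = ⟨vecOf v0L, v0L_mem⟩ := Subtype.ext hg1
  have e2 : g₀ • w = ⟨vecOf w0L, w0L_mem⟩ := Subtype.ext hg2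
  refine ⟨k⁻¹ * g₀, ?_, ?_, ?_⟩
  · rw [mul_smul, e1, inv_smul_eq_iff.mpr
      (hk v0L (show v0L ∈ hsaB from List.mem_cons_self) v0L_mem).symm]
  · rw [mul_smul, e2, inv_smul_eq_iff.mpr
      (hk w0L (show w0L ∈ hsaB from List.mem_cons_of_mem _ List.mem_cons_self) w0L_mem).symm]
  · rw [mul_smul, ← ek, inv_smul_smul]
    rfl

/-- The stabiliser of a point: the orbits on the other points. -/
theorem hs_sub (v w x : leechLattice) (hv : sqNorm (v : GolayPt → ℤ) = 48)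
    (hw : sqNorm (w : GolayPt → ℤ) = 48)
    (hvw : dotInt (v : GolayPt → ℤ) (w : GolayPt → ℤ) = -32)
    (hx : x ∈ {x : leechLattice | sqNorm (x : GolayPt → ℤ) = 32 ∧
        dotInt (v : GolayPt → ℤ) (x : GolayPt → ℤ) = 24 ∧
        dotInt (w : GolayPt → ℤ) (x : GolayPt → ℤ) = -24}) :
    {y : leechLattice | y ∈ {x : leechLattice | sqNorm (x : GolayPt → ℤ) = 32 ∧
        dotInt (v : GolayPt → ℤ) (x : GolayPt → ℤ) = 24 ∧
        dotInt (w : GolayPt → ℤ) (x : GolayPt → ℤ) = -24} ∧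
        dotInt (x : GolayPt → ℤ) (y : GolayPt → ℤ) = 8}.ncard = 22 ∧
    {y : leechLattice | y ∈ {x : leechLattice | sqNorm (x : GolayPt → ℤ) = 32 ∧
        dotInt (v : GolayPt → ℤ) (x : GolayPt → ℤ) = 24 ∧
        dotInt (w : GolayPt → ℤ) (x : GolayPt → ℤ) = -24} ∧ y ≠ x ∧
        dotInt (x : GolayPt → ℤ) (y : GolayPt → ℤ) ≠ 8}.ncard = 77 ∧
    ∀ y ∈ {x : leechLattice | sqNorm (x : GolayPt → ℤ) = 32 ∧
        dotInt (v : GolayPt → ℤ) (x : GolayPt → ℤ) = 24 ∧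
        dotInt (w : GolayPt → ℤ) (x : GolayPt → ℤ) = -24},
    ∀ y' ∈ {x : leechLattice | sqNorm (x : GolayPt → ℤ) = 32 ∧
        dotInt (v : GolayPt → ℤ) (x : GolayPt → ℤ) = 24 ∧
        dotInt (w : GolayPt → ℤ) (x : GolayPt → ℤ) = -24},
    y ≠ x → y' ≠ x → (dotInt (x : GolayPt → ℤ) (y : GolayPt → ℤ) = 8 ↔
      dotInt (x : GolayPt → ℤ) (y' : GolayPt → ℤ) = 8) →
    ∃ g : Co0, g • v = v ∧ g • w = w ∧ g • x = x ∧ g • y = y' := by
  obtain ⟨g₁, e1, e2, e3⟩ := exists_to_vwx v w x hv hw hvw hx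
  have hS8 : ∀ y : leechLattice, y ∈ {y : leechLattice | y ∈ {x : leechLattice |
      sqNorm (x : GolayPt → ℤ) = 32 ∧ dotInt (v : GolayPt → ℤ) (x : GolayPt → ℤ) = 24 ∧
      dotInt (w : GolayPt → ℤ) (x : GolayPt → ℤ) = -24} ∧
      dotInt (x : GolayPt → ℤ) (y : GolayPt → ℤ) = 8} ↔ g₁ • y ∈ XSet hsbconds := by
    intro y
    rw [show hsbconds = [(v0L, 24), (w0L, -24), (a0L, 8)] from rfl, xset_three,
      dot_smul_of_eq e1, dot_smul_of_eq e2, dot_smul_of_eq e3, co0_smul_sqNorm]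
    constructor
    · rintro ⟨⟨a, b, c⟩, d⟩
      exact ⟨a, b, c, d⟩
    · rintro ⟨a, b, c, d⟩
      exact ⟨⟨a, b, c⟩, d⟩
  have hS16 : ∀ y : leechLattice, y ∈ {y : leechLattice | y ∈ {x : leechLattice |
      sqNorm (x : GolayPt → ℤ) = 32 ∧ dotInt (v : GolayPt → ℤ) (x : GolayPt → ℤ) = 24 ∧
      dotInt (w : GolayPt → ℤ) (x : GolayPt → ℤ) = -24} ∧
      dotInt (x : GolayPt → ℤ) (y : GolayPt → ℤ) = 16} ↔ g₁ • y ∈ XSet hscconds := by
    intro y
    rw [show hscconds = [(v0L, 24), (w0L, -24), (a0L, 16)] from rfl, xset_three,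
      dot_smul_of_eq e1, dot_smul_of_eq e2, dot_smul_of_eq e3, co0_smul_sqNorm]
    constructor
    · rintro ⟨⟨a, b, c⟩, d⟩
      exact ⟨a, b, c, d⟩
    · rintro ⟨a, b, c, d⟩
      exact ⟨⟨a, b, c⟩, d⟩
  obtain ⟨n8, t8⟩ := xset_trans hsb_main g₁ hS8
  obtain ⟨n16, t16⟩ := xset_trans hsc_main g₁ hS16
  obtain ⟨nX, -⟩ := hs_orbit v w hv hw hvw
  have hxx : dotInt (x : GolayPt → ℤ) (x : GolayPt → ℤ) = 32 := by
    rw [dotInt_self]
    exact hx.1
  have hpart := part_of_card nX n8 n16 (by norm_num) (fun y hy => hy.1) (fun y hy => hy.1) hx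
    (Set.disjoint_left.mpr (fun y h1 h2 => by
      have a := h1.2
      have b := h2.2
      omega))
    (fun h => by
      have a := h.2
      omega)
    (fun h => by
      have a := h.2
      omega)
  have hset : {y : leechLattice | y ∈ {x : leechLattice | sqNorm (x : GolayPt → ℤ) = 32 ∧
        dotInt (v : GolayPt → ℤ) (x : GolayPt → ℤ) = 24 ∧
        dotInt (w : GolayPt → ℤ) (x : GolayPt → ℤ) = -24} ∧ y ≠ x ∧
        dotInt (x : GolayPt → ℤ) (y : GolayPt → ℤ) ≠ 8} =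
      {y : leechLattice | y ∈ {x : leechLattice | sqNorm (x : GolayPt → ℤ) = 32 ∧
        dotInt (v : GolayPt → ℤ) (x : GolayPt → ℤ) = 24 ∧
        dotInt (w : GolayPt → ℤ) (x : GolayPt → ℤ) = -24} ∧
        dotInt (x : GolayPt → ℤ) (y : GolayPt → ℤ) = 16} := by
    ext y
    constructor
    · rintro ⟨hy, hne, hd⟩
      rcases hpart y hy with h | h | h
      · exact absurd h hne
      · exact absurd h.2 hd
      · exact h
    · rintro ⟨hy, hd⟩
      refine ⟨hy, fun h => ?_, fun h => ?_⟩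
      · rw [h] at hd
        omega
      · omega
  refine ⟨n8, hset ▸ n16, fun y hy y' hy' hne hne' hiff => ?_⟩
  have mv : v0L ∈ hsbB := List.mem_cons_self
  have mw : w0L ∈ hsbB := List.mem_cons_of_mem _ List.mem_cons_self
  have ma : a0L ∈ hsbB := List.mem_cons_of_mem _ (List.mem_cons_of_mem _ List.mem_cons_self)
  rcases hpart y hy with h | h | h
  · exact absurd h hne
  · have h' : y' ∈ {y : leechLattice | y ∈ {x : leechLattice |
        sqNorm (x : GolayPt → ℤ) = 32 ∧ dotInt (v : GolayPt → ℤ) (x : GolayPt → ℤ) = 24 ∧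
        dotInt (w : GolayPt → ℤ) (x : GolayPt → ℤ) = -24} ∧
        dotInt (x : GolayPt → ℤ) (y : GolayPt → ℤ) = 8} := ⟨hy', hiff.mp h.2⟩
    obtain ⟨k, hk, e⟩ := t8 y h y' h'
    exact ⟨g₁⁻¹ * k * g₁, fix_conj hk mv e1, fix_conj hk mw e2, fix_conj hk ma e3, e⟩
  · have h' : y' ∈ {y : leechLattice | y ∈ {x : leechLattice |
        sqNorm (x : GolayPt → ℤ) = 32 ∧ dotInt (v : GolayPt → ℤ) (x : GolayPt → ℤ) = 24 ∧
        dotInt (w : GolayPt → ℤ) (x : GolayPt → ℤ) = -24} ∧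
        dotInt (x : GolayPt → ℤ) (y : GolayPt → ℤ) = 16} := by
      rcases hpart y' hy' with h2 | h2 | h2
      · exact absurd h2 hne'
      · have a := hiff.mpr h2.2
        have b := h.2
        omega
      · exact h2
    obtain ⟨k, hk, e⟩ := t16 y h y' h'
    exact ⟨g₁⁻¹ * k * g₁, fix_conj hk mv e1, fix_conj hk mw e2, fix_conj hk ma e3, e⟩

end Cfsg.Agent.Lib.Helper92
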