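import Cfsg.Agent.Lib.Helper92.LeechGen
import Cfsg.Agent.Lib.Helper7.GolayTab

set_option autoImplicit false

namespace Cfsg.Agent.Lib.Helper92

open Cfsg Cfsg.Agent.Lib.Helper7

/-! ### Integer vectors given by lists of 24 entries -/

/-- The vector with the entries of a list (indexed by `idx`). -/
def vecOf (l : List ℤ) : GolayPt → ℤ := fun p => l.getD (idx p) 0

theorem vecOf_pt (l : List ℤ) {j : ℕ} (hj : j < 24) : vecOf l (pt j) = l.getD j 0 := by
  unfold vecOf
  rw [idx_pt hj]

/-- The list of entries of a vector. -/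
def toL (x : GolayPt → ℤ) : List ℤ := (List.range 24).map (fun j => x (pt j))

theorem getD_map_range24 (F : ℕ → ℤ) {j : ℕ} (hj : j < 24) :
    ((List.range 24).map F).getD j 0 = F j := by
  rw [List.getD_eq_getElem?_getD, List.getElem?_map, List.getElem?_range hj]
  rfl

theorem vecOf_map (F : ℕ → ℤ) (p : GolayPt) : vecOf ((List.range 24).map F) p = F (idx p) := by
  unfold vecOf
  exact getD_map_range24 F (idx_lt p)

theorem vecOf_toL (x : GolayPt → ℤ) : vecOf (toL x) = x := by
  funext p
  unfold toL
  rw [vecOf_map, pt_idx]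

theorem sum_range_list (n : ℕ) (f : ℕ → ℤ) :
    ∑ i ∈ Finset.range n, f i = ((List.range n).map f).sum := by
  induction n with
  | zero => simp
  | succ n ih =>
    rw [Finset.sum_range_succ, List.range_succ, List.map_append, List.sum_append, ih]
    simp

theorem sum_pt (F : GolayPt → ℤ) : ∑ p, F p = ((List.range 24).map (fun j => F (pt j))).sum := by
  rw [sum_golayPt, sum_range_list]

theorem sum_vecOf (l : List ℤ) (f : ℤ → ℤ) :
    ∑ p, f (vecOf l p) = ((List.range 24).map (fun j => f (l.getD j 0))).sum := by
  rw [sum_pt]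
  exact congrArg List.sum (List.map_congr_left (fun j hj => by
    rw [vecOf_pt l (List.mem_range.mp hj)]))

theorem sqNorm_vecOf (l : List ℤ) :
    sqNorm (vecOf l) = ((List.range 24).map (fun j => l.getD j 0 ^ 2)).sum :=
  sum_vecOf l (fun a => a ^ 2)

theorem dotInt_vecOf (l l' : List ℤ) :
    dotInt (vecOf l) (vecOf l') = ((List.range 24).map (fun j => l.getD j 0 * l'.getD j 0)).sum := by
  unfold dotInt
  rw [sum_pt]
  exact congrArg List.sum (List.map_congr_left (fun j hj => by
    rw [vecOf_pt l (List.mem_range.mp hj), vecOf_pt l' (List.mem_range.mp hj)]))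

/-! ### Deciding membership in the lattice -/

/-- The bitmask of second binary digits. -/
def bitMaskL (l : List ℤ) : ℕ := ofBits (fun j => decide (l.getD j 0 / 2 % 2 = 1)) 24

/-- Decision procedure for membership of `vecOf l` in the lattice. -/
def leechB (l : List ℤ) : Bool :=
  (List.range 24).all (fun j => decide (l.getD j 0 % 2 = l.getD 0 0 % 2)) &&
    decide ((((List.range 24).map (fun j => l.getD j 0)).sum - 4 * (l.getD 0 0 % 2)) % 8 = 0) &&
    isCode (bitMaskL l)

theorem bitWord_vecOf (l : List ℤ) : bitWord (vecOf l) = wordOf (bitMaskL l) := by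
  funext p
  unfold bitWord vecOf wordOf bitMaskL
  rw [testBit_ofBits, cast_bit]
  simp only [idx_lt p, decide_true, Bool.true_and, decide_eq_true_eq]

theorem leechB_sound {l : List ℤ} (h : leechB l = true) : vecOf l ∈ leechLattice := by
  unfold leechB at h
  rw [Bool.and_eq_true, Bool.and_eq_true] at h
  obtain ⟨⟨h1, h2⟩, h3⟩ := h
  rw [mem_leechLattice_iff]
  refine ⟨l.getD 0 0 % 2, fun i => ?_, ?_, ?_⟩
  · have := all_range h1 (idx i) (idx_lt i)
    rw [decide_eq_true_eq] at this
    unfold Int.ModEq vecOf
    omega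
  · rw [decide_eq_true_eq] at h2
    have hs := sum_vecOf l id
    simp only [id] at hs
    rw [hs]
    unfold Int.ModEq
    omega
  · rw [bitWord_vecOf]
    exact (wordOf_mem_golayCode_iff (ofBits_lt _ _)).mpr h3

/-! ### Sign changes and coordinate permutations on lists -/

/-- Sign change at the bits of a mask. -/
def signL (m : ℕ) (l : List ℤ) : List ℤ :=
  (List.range 24).map (fun j => if m.testBit j then -l.getD j 0 else l.getD j 0)

theorem signVec_vecOf (m : ℕ) (l : List ℤ) : signVec (wordOf m) (vecOf l) = vecOf (signL m l) := by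
  funext p
  unfold signL
  rw [vecOf_map]
  unfold signVec sgn wordOf vecOf
  by_cases h : m.testBit (idx p) = true
  · simp [h]
  · simp [h]

/-- Coordinate permutation, from the packed table of the inverse. -/
def permL (tinv : ℕ) (l : List ℤ) : List ℤ :=
  (List.range 24).map (fun j => l.getD (nlane tinv j) 0)

theorem permVec_vecOf {π : Equiv.Perm GolayPt} {tinv : ℕ} (h : RepT π⁻¹ tinv) (l : List ℤ) :
    permVec π (vecOf l) = vecOf (permL tinv l) := by
  funext p
  unfold permL
  rw [vecOf_map]
  unfold permVec vecOf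
  have e : π.symm p = pt (nlane tinv (idx p)) := h p
  rw [e, idx_pt (nlane_lt _ _)]

end Cfsg.Agent.Lib.Helper92
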