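import Cfsg.Agent.Lib.Helper92.LeechOrbMain

set_option autoImplicit false

namespace Cfsg.Agent.Lib.Helper92

open Cfsg Cfsg.Spor Cfsg.Agent.Lib.Helper7

/-- Coordinate permutations: packed tables of the inverses, with words in the generators. -/
def m22mt : List (ℕ × List ℕ) :=
  [(980275914351787324191492553553580224, [2]),
   (972560138397867987084212241321578816, [0, 0, 0, 0, 0, 2, 0])]

/-- Representatives of the orbits on the code words. -/
def m22reps : List ℕ :=
  [0, 5279, 10558, 28637, 57274, 515069, 1030138, 8391797, 8394986, 8419127, 8449646, 8650587, 8912566, 16777215]

set_option maxRecDepth 100000 in
/-- The programs visiting the orbits. -/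
def m22progs : List (List (Option (ℕ × ℕ))) :=
  [[],
   [some (0, 262637), some (0, 2162811), some (0, 3416079), some (0, 1312345), none, some (1, 4721045), some (0, 4800613), some (0, 6447171),
    none, some (1, 1148257), some (1, 459847), some (1, 69395), some (1, 210955), none, none, none,
    none, none, some (1, 2269481), some (0, 3246601), some (0, 1618953), some (0, 4229001), some (0, 118953), none,
    none, none, some (1, 864389), none, none, some (1, 5112513), some (0, 4216883), none,
    none, none, none, none, some (1, 593097), some (0, 4726955), some (0, 6570537), some (0, 3297305),
    some (0, 1182989), some (1, 140167), none, none, none, some (1, 1577201), some (0, 6292775), some (0, 3489985),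
    none, some (1, 657763), none, none, some (1, 2147405), some (1, 1836419), none, none,
    none, none, some (1, 6326497), none, none, some (1, 2204803), some (0, 1352353), some (0, 2135601),
    some (1, 806987), some (0, 4587803), some (1, 133817), none, none, none, none, some (1, 6557781),
    none, none, some (1, 7145475), some (0, 6053905), some (0, 4343317), some (0, 153797), none, some (1, 1053483),
    none, none, some (1, 5275709), none, none, some (1, 632881), some (1, 4563017), some (1, 4523185),
    none, none, none, none, none, none, none, some (1, 2229713),
    some (0, 1116327), some (0, 2892897), some (0, 7340691), some (1, 2627629), some (1, 582081), none, none, none,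
    some (1, 4752467), some (0, 4505735), some (1, 3410225), some (0, 3736597), some (1, 622863), none, none, some (1, 663645),
    none, none, none, some (1, 298027), some (0, 2916505), none, some (1, 272595), none,
    none, none, none, some (1, 2173253), some (0, 1647171), some (0, 4470275), some (0, 283537), some (0, 201013),
    some (1, 213833), none, none, none, none, some (1, 4299781), some (1, 352547), none,
    none, none, some (1, 4924673), some (0, 4287105), some (0, 684577), some (0, 6429441), some (0, 1661185), none,
    none, none, some (1, 7417889), some (0, 3172097), some (0, 1250945), none, none, none,
    none, some (1, 4424227), some (1, 334433), some (0, 2634003), some (1, 4900873), none, none, some (1, 95313),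
    none, none, none, none, none, none, some (1, 2754059), some (0, 5511305),
    some (0, 542009), some (0, 6488205), some (0, 1075305), some (1, 5252293), none, none, some (1, 2687905), some (1, 2854977),
    some (0, 5286147), none, some (1, 902657), none, none, none, none, some (1, 1212619),
    some (1, 2363013), none, none, none, some (1, 2121909), some (0, 3277413), some (0, 3152963), some (1, 551943),
    none, none, some (1, 530245), none, none, some (1, 7864649), some (0, 5325835), some (0, 418953),
    none, none, some (1, 689317), none, none, none, none, some (1, 563843),
    some (1, 2422785), some (0, 1737489), some (1, 430605), some (0, 39257), none, none, none, none,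
    none, none, none, none, some (1, 2115979), some (0, 2031657), some (0, 6302745), some (0, 1589901),
    some (0, 4330601), some (1, 18147), some (0, 2494627), none, none, none, some (1, 3182981), some (1, 3031301),
    some (0, 5441617), none, none, none, none, none, some (1, 99029), some (0, 45159),
    some (0, 2392899), some (0, 1413139), some (0, 304405), none, some (1, 346141), none, none, some (1, 924689),
    some (1, 57883), none, none, none, some (1, 4476225), some (1, 1188915), some (1, 4196943), some (1, 15777),
    none, none, none, none, none, some (1, 2430217), some (0, 1122713), some (0, 75309),
    some (0, 2110153), none, some (1, 4264387), none, none, none, some (1, 737427), some (0, 4597797),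
    some (0, 2640465), some (0, 5902343), some (1, 52005), none, none, none, some (1, 4203377), some (0, 2183687),
    some (0, 1454401), none, none, none, none, none, none, none,
    none, some (1, 3811457), some (0, 5770785), some (0, 6837377), some (0, 5390753), some (0, 2313249), none, none,
    some (1, 3719203), some (0, 7767041), some (0, 1100945), none, some (1, 786999), none, none, some (1, 1869893),
    none, none, none, none, some (1, 6857221), some (0, 5296705), some (0, 185603), some (0, 493953),
    some (1, 2564625), some (1, 4788761), none, none, none, some (1, 1460739), some (1, 1063445), some (1, 4223245),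
    none, none, none, none, some (1, 1332261), some (1, 1065303), none, none,
    none, some (1, 5017889), some (0, 6406417), some (0, 1302533), some (0, 175681), none, some (1, 5571333), none,
    none, none, some (1, 442481), some (0, 2263063), some (1, 797449), some (1, 4370577)],
   [some (0, 2949708), some (0, 5255258), some (0, 280334), some (0, 463064), some (1, 2180760), some (1, 3739786), some (0, 5514536), none,
    some (1, 2738308), some (0, 5939296), none, some (1, 4038912), some (0, 5350928), none, none, none,
    none, none, none, some (1, 1186194), some (0, 855332), some (0, 6889680), some (0, 5268006), some (0, 2512448),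
    none, some (1, 5249380), some (0, 2704706), none, some (1, 157028), none, none, none,
    some (1, 6915112), some (0, 7397512), some (1, 8126628), some (0, 7357552), none, none, none, some (1, 884962),
    some (0, 6594610), some (0, 3457556), none, none, none, none, none, some (1, 237906),
    some (0, 371206), some (1, 4536592), none, none, some (1, 4656648), some (0, 555160), none, some (1, 78514),
    some (0, 2372388), none, some (1, 6379592), some (0, 1728778), none, none, none, none,
    none, none, some (1, 2255372), some (0, 1710664), some (0, 4726026), none, some (1, 63108), some (0, 168928),
    some (0, 2201890), none, none, none, none, some (1, 5780352), some (0, 4282144), some (0, 2322816),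
    some (0, 1256224), some (0, 2702848), none, none, none, none, none, none,
    none, none, some (1, 4213932), some (0, 2769128), some (0, 7473194), some (0, 3951624), some (0, 5899416), some (1, 2130606),
    none, none, some (1, 1613974), some (0, 4490852), some (0, 2150610), none, some (1, 267634), none,
    none, some (1, 6588684), none, none, none, some (1, 535268), some (1, 6337856), none,
    none, none, some (1, 3704512), some (0, 5280930), some (0, 2409888), some (1, 4063314), none, none,
    some (1, 2377830), some (1, 1584464), some (0, 4785798), some (0, 4485344), none, none, none, none,
    none, some (1, 2921478), some (0, 5538256), some (1, 2491452), some (0, 3147996), some (0, 1573998), none, some (1, 2631052),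
    none, none, none, none, none, none, none, some (1, 3154402),
    some (0, 3474978), some (0, 3421328), some (0, 1050548), some (0, 2168036), none, none, some (1, 6832158), some (1, 1608104),
    none, none, none, some (1, 596054), some (0, 4989254), some (0, 4538962), some (1, 1121336), none,
    none, some (1, 4361520), some (1, 402026), none, none, none, some (1, 126216), some (0, 762504),
    some (0, 4241960), none, none, some (1, 5709954), none, none, none, none,
    some (1, 6949956), some (0, 5785794), some (0, 5129250), some (1, 1084018), none, none, some (1, 3189796), none,
    none, none, none, none, none, some (1, 628112), some (0, 4301220), some (0, 2220640),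
    some (0, 3322370), some (0, 1351424), some (1, 421910), none, none, some (1, 5003780), some (0, 4870480), some (0, 4409606),
    some (0, 1009728), none, none, some (1, 1230376), some (0, 2268296), some (1, 2908802), none, none,
    some (1, 1315526), some (1, 2120980), none, none, none, none, none, none,
    some (1, 6100032), some (0, 4220306), some (0, 475812), some (0, 2242672), some (0, 3672838), some (1, 702724), none, none,
    none, some (1, 3216208), some (0, 1127686), none, none, none, none, some (1, 115766),
    some (0, 2531524), some (1, 7079696), some (0, 5329044), none, some (1, 692282), none, none, none,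
    some (1, 1378634), some (0, 861210), some (1, 4294810), none, none, none, none, none,
    none, some (1, 6750560), some (0, 3237906), some (0, 1975812), some (0, 4202192), some (1, 2126890), some (0, 3539848), none,
    none, none, some (1, 4231958), some (0, 381252), none, some (1, 416040), some (0, 2820376), none,
    none, none, none, some (1, 5842956), some (0, 4744776), some (0, 4346506), none, none,
    none, none, some (1, 722544), some (0, 6305926), some (1, 6842656), some (0, 8077824), some (1, 1675812), none,
    none, none, none, some (1, 104010), none, none, none, none,
    some (1, 2605066), some (0, 1484824), some (0, 560668), some (0, 4755660), none, some (1, 307594), some (0, 361272), none,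
    some (1, 6703248), some (1, 3678776), none, none, none, none, some (1, 4465308), some (0, 21116),
    some (0, 2232654), some (1, 675712), none, none, some (1, 1070536), some (0, 198058), some (0, 2435240), none,
    some (1, 2296514), none, none, some (1, 3294342), none, none, none, some (1, 6295992),
    some (0, 3227948), some (0, 3351624), some (0, 1060490), none, none, some (1, 1769924), some (0, 4271202), none,
    none, none, none, none, none, some (1, 1903248), some (0, 4731956), some (0, 6308804),
    some (0, 1265762), some (0, 2501890), some (1, 4860434), none, none, some (1, 1134148), none, none,
    none, some (1, 4243818), some (1, 1445088), some (0, 2624690), none, some (1, 2106966), none, none,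
    none, none, some (1, 2207772), some (0, 1090380), some (1, 4593028), some (0, 84464), none, some (1, 2245426),
    none, none, none, some (1, 5063048), some (0, 4415544), some (1, 5309160), none, none,
    some (1, 3375280), none, none, none, none, none, none, none,
    some (1, 4336072), some (0, 608810), some (0, 7221256), some (0, 5262104), some (0, 742412), some (1, 1164162), some (0, 504864), some (0, 2141072),
    none, none, some (1, 3610628), some (1, 615188), some (0, 4403780), none, some (1, 5476616), none,
    none, none, none, none, some (1, 1192108), some (0, 2101096), some (1, 668866), some (0, 4459426),
    none, some (1, 6344194), some (0, 2019456), none, some (1, 1849378), none, none, none,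
    none, none, none, some (1, 4768432), some (0, 6475812), some (0, 3328320), some (0, 1805314), some (0, 5024896),
    none, none, none, some (1, 1852256), some (0, 6493202), some (0, 1337732), none, none,
    some (1, 1217620), some (0, 36294), none, none, none, none, some (1, 3444840), some (0, 3179802),
    some (0, 1410188), some (0, 42232), some (1, 6554826), none, none, some (1, 2425238), none, none,
    some (1, 919694), some (0, 4982904), none, none, none, some (1, 804052), some (0, 4325622), none,
    none, none, none, none, some (1, 1161408), some (0, 567074), some (0, 6656640), some (0, 1110320),
    some (0, 2328324), some (1, 987906), some (1, 252432), none, none, none, some (1, 5652556), some (0, 150618),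
    none, none, none, some (1, 2969648), some (0, 7479572), some (1, 4850476), none, none,
    some (1, 1687640), some (0, 4367374), some (0, 314056), none, none, none, none, none,
    some (1, 4626498), some (0, 837906), some (0, 5210132), some (0, 4253780), none, none, none, some (1, 290352),
    some (0, 2757268), some (1, 2675464), none, none, none, none, none, some (1, 6644740),
    some (0, 1204944), some (0, 138790), some (0, 2890176), none, some (1, 31554), some (1, 5405696), none, none,
    none, some (1, 7345676), some (1, 545190), none, none, none, some (1, 5833010), some (1, 231532),
    some (0, 2664522), some (0, 6062602), none, none, some (1, 337856), none, none, none,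
    none, none, none, some (1, 6432416), some (0, 3168928), some (0, 3806496), some (0, 7409024), some (0, 1664160),
    some (1, 7438406), none, none, some (1, 2826278), some (0, 7612992), some (0, 1594898), some (1, 1103886), none,
    none, none, some (1, 4819776), some (0, 4845570), some (0, 4645632), some (1, 5640752), none, none,
    none, none, none, none, some (1, 705094), none, none, some (1, 3698756),
    some (0, 5375810), some (0, 351362), some (0, 926128), some (0, 6359604), none, some (1, 6455896), some (1, 792232), none,
    none, none, none, none, some (1, 5817604), some (0, 4441280), some (0, 190626), none,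
    none, some (1, 1474854), some (0, 2460752), none, some (1, 396116), some (1, 145176), none, none,
    none, none, none, none, some (1, 6820450), some (0, 7622914), some (0, 1525008), some (0, 208020),
    some (1, 6365962), some (0, 1405448), none, some (1, 4921504), none, none, none, some (1, 1245726),
    some (0, 277580), some (0, 525274), some (0, 4526126), none, none, none, some (1, 72588), some (0, 602472),
    none, none, none, none, some (1, 1722420), none, none, some (1, 580704),
    some (0, 6979970), some (0, 5621792), some (0, 2810896), some (0, 5409412), none, none, some (1, 1384564), some (1, 4261212),
    some (0, 90318), none, none, none, none, some (1, 3050016), some (0, 7903248), some (1, 843820),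
    none, none, some (1, 832080), some (1, 4510744), some (0, 180636), none, some (1, 1327290), none,
    none, none, none, none, some (1, 1369154), some (0, 427666), some (0, 301236), some (0, 2654580),
    some (1, 951624), none, none, some (1, 2384216), none, none, some (1, 2365978), some (0, 1839388),
    none, none, none, some (1, 5508118)],
   [some (0, 725743), some (0, 6568299), some (0, 4014875), some (0, 5714973), some (1, 4277183), some (0, 2584685), some (0, 3287899), some (0, 1908239),
    some (0, 4994521), some (1, 6472891), some (1, 3934955), some (1, 2669781), some (1, 7136523), none, none, none,
    none, none, some (1, 129431), some (0, 1024869), some (0, 6404691), some (1, 5078057), none, none,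
    some (1, 4691793), none, none, none, none, some (1, 4865677), some (1, 6353827), some (0, 3658529),
    none, none, none, none, some (1, 5851089), some (0, 4420775), some (0, 2517985), some (0, 3873331),
    none, none, none, some (1, 3380271), some (0, 3452361), some (0, 1672891), some (0, 6599853), none,
    none, some (1, 7218327), none, none, none, none, none, some (1, 3348969),
    some (0, 3747115), some (0, 8201865), some (0, 5273273), some (0, 2250669), none, some (1, 7360751), some (0, 3556715), none,
    some (1, 3689957), none, none, none, some (1, 6918327), some (0, 7659877), some (0, 3393107), none,
    none, none, none, some (1, 4958407), some (0, 5040739), some (0, 7262739), some (0, 5691669), none,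
    none, none, none, none, some (1, 2844357), none, none, none,
    none, some (1, 1808541), some (0, 4762989), some (1, 4629987), some (0, 2476723), some (0, 4108341), some (0, 7376725), some (1, 931119),
    none, none, some (1, 5030749), none, none, some (1, 4012121), none, none,
    some (1, 6688371), some (1, 540283), some (0, 7082895), some (0, 5591417), some (0, 2319647), none, some (1, 1262845), none,
    none, some (1, 2808241), some (1, 4121161), some (0, 5414427), none, some (1, 6067861), none, none,
    none, none, some (1, 4259019), some (0, 967595), some (0, 6789177), none, some (1, 3578577), none,
    none, some (1, 7629987), some (0, 4081329), none, none, none, none, none,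
    none, none, some (1, 2483085), some (0, 1290873), some (0, 2146063), some (0, 1938377), some (0, 4306235), none,
    none, some (1, 5142915), some (0, 5196593), some (0, 7043093), some (0, 5925701), none, none, none,
    some (1, 7531057), some (0, 3857925), some (0, 5938625), none, some (1, 1897223), none, none, none,
    none, none, some (1, 4544205), some (0, 160251), some (0, 2558767), some (1, 736209), some (0, 4799271), none,
    some (1, 6551049), none, none, none, some (1, 7491273), some (0, 1727659), none, some (1, 3684007),
    some (1, 6871367), none, none, none, none, some (1, 3233203), some (0, 3614117), some (0, 3223281),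
    none, some (1, 7013207), some (0, 5601351), some (0, 943955), none, none, some (1, 761641), none,
    none, none, none, none, none, some (1, 8327569), some (0, 5336373), some (1, 5448047),
    some (0, 2453067), some (1, 5848211), some (1, 6416431), none, none, none, none, none,
    some (1, 2867773), some (0, 7518285), some (1, 5007269), some (0, 6509297), some (0, 3307815), none, none, some (1, 7508339),
    none, none, none, none, none, none, none, none,
    some (1, 4877553), some (1, 7382635), some (0, 3462795), some (0, 1480121), some (0, 2198973), some (0, 3776749), some (1, 7177669), some (0, 5366003),
    some (0, 2549287), none, some (1, 7670893), some (1, 599543), none, none, none, none,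
    none, some (1, 3088843), some (0, 5581371), some (0, 2913821), some (0, 5379037), none, none, some (1, 4274429),
    some (0, 2646895), none, none, none, some (1, 7048849), some (0, 5830821), none, some (1, 2994731),
    some (0, 7648025), none, none, none, none, none, some (1, 2507487), none,
    none, some (1, 3954839), some (0, 6161781), some (0, 6376663), some (0, 1990887), none, none, some (1, 165759),
    some (0, 2463951), some (0, 1876347), none, some (1, 2977169), none, none, some (1, 401355), some (0, 858555),
    none, some (1, 2260627), some (1, 7895563), none, none, none, none, none,
    some (1, 3729693), some (0, 5998157), some (1, 366503), some (0, 2470385), some (1, 7291993), none, none, none,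
    none, none, none, none, some (1, 4988135), some (0, 7094771), some (1, 3837049), some (0, 7900303),
    some (0, 6079721), some (1, 3441911), none, none, some (1, 2927015), some (0, 8225393), some (0, 7402519), none,
    some (1, 889981), none, none, none, none, some (1, 829135), none, none,
    none, some (1, 2157939), some (0, 4162183), some (0, 5553265), some (0, 2672535), some (0, 5738725), none, some (1, 4102411),
    some (1, 977557), none, none, none, some (1, 4482175), some (1, 5246459), some (0, 2966703), some (1, 3770835),
    none, none, some (1, 2239727), none, none, none, none, some (1, 2988821),
    some (0, 5878101), none, some (1, 1044761), some (1, 5751449), none, none, none, none,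
    some (1, 6171723), some (0, 5000859), some (0, 5132477), some (1, 3195897), some (1, 4068557), none, none, none,
    some (1, 3193019), some (0, 3966765), none, some (1, 7104717), none, none, none, some (1, 4239031),
    some (0, 2937573), some (1, 3986769), some (0, 5473687), some (0, 388325), none, none, none, none,
    none, none, none, none, none, none, none, some (1, 2219969),
    some (0, 1814947), some (0, 6663969), some (0, 3797649), some (0, 5420837), some (1, 4608871), some (0, 2578771), some (1, 1797657), none,
    none, some (1, 1204081), some (0, 2825607), some (0, 6105569), some (0, 6907443), some (1, 5871723), none, none,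
    none, some (1, 2878211), some (0, 6273537), none, none, none, some (1, 1209935), some (1, 5267335),
    some (0, 1005025), none, none, none, none, none, none, some (1, 8245261),
    some (0, 5432665), some (0, 249487), some (0, 964841), some (0, 6851387), none, some (1, 6612689), some (0, 1233591), some (0, 2530661),
    none, none, some (1, 8131643), none, none, none, some (1, 3488643), none,
    none, some (1, 5637807), some (0, 2383097), some (0, 3801535), some (1, 2788301), none, none, some (1, 3695835),
    none, none, some (1, 2104311), some (1, 2784585), some (0, 5966731), none, some (1, 5957251), some (1, 7641639),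
    none, none, none, none, none, none, some (1, 1950133), some (0, 6530165),
    some (0, 3205831), some (1, 8142085), none, none, some (1, 5048171), some (1, 236787), none, none,
    none, some (1, 3637597), some (0, 1158239), none, some (1, 984989), none, none, none,
    none, none, some (1, 5189747), some (0, 6581015), some (0, 2052693), some (1, 1169181), some (1, 1528207), some (0, 470393),
    some (1, 4400859), some (0, 293551), none, none, none, none, none, none,
    some (1, 5912889), some (1, 4383469), some (0, 2284139), some (1, 1867457), none, none, some (1, 7608289), none,
    none, none, none, some (1, 4312697), some (0, 2814095), some (0, 5671785), some (1, 407285), some (1, 6313819),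
    none, none, none, some (1, 8178561), some (0, 6018097), some (0, 6483333), none, some (1, 1426031),
    some (1, 1383893), none, none, none, none, none, some (1, 1389803), some (0, 2369467),
    some (0, 3478205), none, some (1, 6953179), some (0, 6048047), none, some (1, 2682537), some (0, 8032937), none,
    none, none, none, none, none, none, none, some (1, 6801989),
    some (0, 1767507), some (0, 5148423), some (0, 5101777), some (0, 4907319), none, some (1, 3531833), some (0, 3319453), none,
    none, none, some (1, 441139), some (1, 4618841), some (0, 678687), some (1, 1244041), some (1, 7762565), none,
    none, none, none, none, none, some (1, 5565965), some (0, 710361), some (0, 4364719),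
    some (0, 3000681), some (0, 8101915), none, none, none, none, none, none,
    some (1, 1914673), some (0, 6371221), some (0, 1143781), some (0, 2307939), some (1, 4939331), some (1, 1179171), some (0, 3061633), none,
    none, none, none, some (1, 7558469), some (0, 1273283), some (0, 994979), none, some (1, 7548423),
    none, none, some (1, 1787687), some (0, 6765761), none, some (1, 1284935), none, none,
    none, none, some (1, 7033131), some (0, 7825673), some (1, 5972661), some (1, 6394733), none, none,
    none, some (1, 1821409), some (0, 6994979), none, none, none, none, some (1, 4444255),
    some (0, 452943), some (0, 1018459), some (0, 5027871), none, none, none, none, none,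
    none, none, some (1, 4158467), some (0, 5648273), some (0, 614069), some (1, 3273035), some (0, 1550091), some (0, 376473),
    some (0, 570301), some (1, 6738377), none, none, some (1, 6647963), some (0, 1467197), none, some (1, 7948473),
    some (0, 8021037), some (1, 5800935), none, none, none, none, none, some (1, 4659863),
    some (0, 817525), none, some (1, 2194233), none, none, none, none, none,
    some (1, 6435391), some (0, 3431245), some (0, 1774939), some (0, 4533647), some (0, 877305), some (1, 7443673), some (0, 1107375), none,
    none, none, some (1, 6498739), some (1, 7023209), none, none, none, none,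
    some (1, 1734037), some (0, 4394981), some (0, 2717923), some (0, 8266531), some (1, 4889205), none, none, some (1, 7990337),
    some (1, 6136871), none, none, none, none, some (1, 7521039), some (1, 1973157), some (0, 6888817),
    some (1, 779371), none, none, some (1, 2290517), some (1, 6182665), some (0, 4414873), none, none,
    none, none, none, none, none, some (1, 4742121), some (1, 3339489), some (0, 3313571),
    none, some (1, 8144455), some (0, 5657811), some (1, 3165759), some (1, 1587663), none, none, none,
    some (1, 1613111), none, none, none, none, none, none, some (1, 5884439),
    some (1, 1423661), some (0, 2729817), some (0, 5354127), some (0, 325481), some (0, 2331547), none, none, some (1, 6642085),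
    some (0, 3891569), none, none, none, some (1, 5215371), some (0, 4516281), some (1, 7741689), none,
    none, none, none, some (1, 4678101), some (0, 223863), some (0, 3029575), some (0, 6036307), some (1, 195645),
    none, none, some (1, 4783889), some (0, 4969349), some (0, 4454753), none, none, none,
    none, some (1, 5324617), some (0, 620427), some (0, 4666281), none, none, none, none,
    some (1, 7538489), some (0, 3243149), some (1, 7954823), some (0, 5727841), none, some (1, 8096037), none, none,
    none, none, none, none, none, none, none, none,
    some (1, 7484811), some (0, 1396649), some (0, 2831545), some (0, 7351213), some (0, 3757673), some (1, 1692871), some (1, 3525895), some (0, 2073809),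
    some (1, 6653471), some (0, 1372381), some (1, 7619997), none, none, none, none, some (1, 2042135),
    some (0, 5058133), none, some (1, 4434717), some (0, 653901), none, none, none, none,
    none, none, some (1, 6959589), some (0, 7424867), some (1, 1784933), some (0, 6827971), some (0, 6116003), none,
    none, some (1, 4319047), some (0, 520899), some (1, 7691793), none, none, some (1, 5709091), none,
    none, none, none, some (1, 6997857), some (0, 7592067), some (0, 2026785), none, some (1, 4024869),
    some (0, 8009297), some (1, 4773423), none, none, none, none, some (1, 2004579), some (0, 6593939),
    some (1, 3041339), some (0, 8260125), some (0, 5790813), none, none, some (1, 5810905), none, none,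
    none, some (1, 319063), some (0, 954839), some (0, 4557175), none, none, none, none,
    none, none, none, some (1, 6931147), some (0, 5697579), some (0, 2543385), some (1, 1979035), some (0, 4464445),
    some (0, 2707933), none, none, some (1, 6347421), some (0, 1757549), some (0, 6524235), none, some (1, 1492933),
    some (1, 3544855), none, none, none, some (1, 3961257), some (1, 8044757), none, none,
    none, none, none, some (1, 5524213), some (0, 2774135), some (0, 7735751), some (0, 1920115), none,
    some (1, 2764597), some (0, 7936709), none, some (1, 4895563), some (1, 4644513), none, none, none,
    none, some (1, 1625931), some (1, 1490055), none, none, none, some (1, 3159421), some (0, 3213263),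
    none, some (1, 4867535), some (0, 4671723), none, none, none, none, none,
    some (1, 4037793), some (0, 7906737), some (1, 7241839), some (0, 7653467), some (0, 2016287), some (0, 4623581), some (0, 575743), none,
    none, some (1, 1346463), some (1, 2505117), some (1, 6972313), none, none, none, none,
    none, some (1, 823281), some (1, 2536539), none, none, none, none, some (1, 3006551),
    some (0, 5677655), none, some (1, 6130969), some (0, 4842653), some (1, 7700907), none, none, none,
    none, none, none, none, some (1, 3354839), some (0, 1322855), some (0, 2954963), some (0, 5517751),
    some (0, 2443125), none, some (1, 6441341), some (0, 3885135), none, some (1, 1714153), some (0, 6364843), none,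
    none, none, none, some (1, 2743323), some (0, 6201741), some (1, 6718389), some (0, 3266677), some (0, 3843399),
    some (0, 5607107), none, none, some (1, 1926477), none, none, some (1, 3019641), some (0, 7411999),
    some (1, 747949), none, none, none, none, none, some (1, 1960075), some (1, 7710869),
    some (1, 7151933), some (0, 7430749), none, some (1, 4948473), some (1, 2590441), none, none, none,
    none, none, none, none, some (1, 4341079), some (0, 871367), some (1, 3390737), some (0, 1683333),
    some (0, 4830945), some (1, 6673507), some (0, 3596691), some (0, 1543733), some (1, 340831), none, none, none,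
    none, none, none, some (1, 5202447), some (1, 5348273), some (0, 2749733), some (0, 7578561), none,
    some (1, 6275395), none, none, none, none, none, none, some (1, 4353835),
    some (0, 3103369), none, some (1, 5389027), some (1, 6323813), some (0, 3822531), none, some (1, 5797219), some (1, 5426279),
    some (0, 3067075), some (0, 6195379), none, none, none, none, none, none,
    none, none, none, some (1, 6901517), some (0, 5992649), some (1, 7456421), some (1, 4002151), some (0, 7677267),
    some (0, 1402519), none, some (1, 4918335), none, none, some (1, 773461), none, none,
    none, none, none, none, none, some (1, 6965927), some (0, 8280161), some (0, 8015123),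
    some (0, 6245509), some (1, 3253047), some (0, 3520069), some (0, 1095635), some (1, 6708239), some (0, 1984985), none, some (1, 1600435),
    some (0, 7280165), some (0, 7371217), none, none, none, none, none, some (1, 5068055),
    some (1, 1296699), some (0, 3124237), none, some (1, 1518285), none, none, none, none,
    some (1, 5183821), some (0, 4811099), some (1, 5483689), some (1, 6628071), some (0, 3437171), none, none, none,
    none, none, none, none, some (1, 1747503), some (0, 7118409), some (0, 5820827), some (0, 4703533),
    some (0, 2353369), none, some (1, 1508339), some (0, 2440247), none, some (1, 2301533), none, none,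
    none, some (1, 3590317), some (1, 3941333), some (0, 5314167), some (1, 89455), none, none, some (1, 6984989),
    none, none, none, none, some (1, 849075), none, none, some (1, 4504517),
    some (0, 643955), some (0, 6795527), none, some (1, 1563721), none, none, some (1, 6714673), some (0, 3361685),
    some (1, 3879693), none, none, some (1, 5915259), some (1, 1089261), some (0, 2659819), none, some (1, 2389447),
    none, none, none, none, none, none, none, some (1, 1631861),
    some (0, 6461127), some (0, 1366499), some (0, 3114291), none, some (1, 3566677), some (0, 1707735), none, some (1, 5777183),
    none, none, none, some (1, 2907939), none, none, some (1, 5543247), some (0, 378331),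
    some (0, 499903), some (0, 2402941), some (0, 3707487), some (1, 843149), none, none, none, some (1, 6622169),
    some (0, 1667135), some (1, 5360077), none, none, none, none, some (1, 3607707), some (0, 1846461),
    some (0, 6817533), none, some (1, 6332895), some (1, 7212457), some (1, 2794227), none, none, none,
    none, some (1, 2697887), some (0, 6042221), some (1, 4249077), none, none, some (1, 6928777), some (0, 5890857),
    none, some (1, 7332001), none, none, none, none, none, some (1, 413111),
    some (0, 3082485), some (0, 7874679), none, none, none, none, none, none,
    some (1, 3717985), some (0, 7968515), some (0, 5633409), some (0, 255921), some (0, 2341541), some (1, 7172929), some (0, 5468947), some (0, 491269),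
    none, some (1, 5462573), none, none, none, none, some (1, 7803467), some (0, 1342747),
    some (1, 5400735), some (0, 937581), none, none, none, none, none, some (1, 7815223),
    some (1, 1641341), some (0, 6894671), some (0, 5530571), some (0, 480827), none, some (1, 7478453), none, none,
    some (1, 4836771), some (1, 3647587), some (0, 3976723), none, none, none, none, some (1, 243149),
    some (0, 109547), none, some (1, 6768515), none, none, none, none, none,
    some (1, 1038375), some (0, 7252305), some (1, 5154361), some (1, 4494075), some (0, 2412863), none, none, none,
    none, some (1, 1436497), some (0, 767511), some (1, 4578059), some (1, 1538225), none, none, none,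
    none, none, none, some (1, 5174341), some (0, 4377555), some (1, 3554857), some (0, 3678105), some (0, 5838253),
    some (0, 6383081), some (0, 3367595), none, some (1, 8062179), none, none, some (1, 2343399), some (1, 4132673),
    none, none, none, none, some (1, 4747991), some (1, 7396649), some (0, 3917193), none,
    none, none, none, none, some (1, 5556019), some (0, 2610325), some (0, 1223157), some (0, 2723431),
    some (0, 8171715), some (1, 7130165), none, none, some (1, 900419), some (0, 5088147), some (0, 4583989), none,
    none, some (1, 4713491), none, none, none, some (1, 6694733), some (0, 1137371), none,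
    some (1, 4855731), none, none, none, none, some (1, 1448063), some (0, 2887007), some (0, 6095071),
    none, some (1, 699803), some (0, 5081773), some (0, 6877305), none, none, some (1, 6728331), some (0, 1890873),
    none, some (1, 7092913), some (0, 7885621)],
   [some (0, 3117484), some (0, 7448952), some (0, 3794446), some (0, 5682888), some (1, 6575798), some (0, 3559924), some (0, 3345782), some (1, 733006),
    some (1, 4439938), some (0, 916384), none, none, none, none, some (1, 3819356), some (0, 5446862),
    some (0, 814570), some (0, 7275194), none, some (1, 7515346), none, none, none, none,
    none, some (1, 3692922), some (0, 8324366), some (0, 5598424), some (1, 7414974), none, none, none,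
    some (1, 1764556), some (0, 4886250), some (1, 2408162), some (1, 7109714), none, none, none, some (1, 7645062),
    some (0, 1431280), some (1, 3495006), some (0, 1451486), none, none, none, some (1, 7215414), none,
    none, none, none, none, none, some (1, 6134150), some (0, 5105008), some (0, 6546070),
    some (0, 1505892), some (1, 5535572), some (0, 219094), none, some (1, 5395774), none, none, none,
    some (1, 8198952), some (0, 7959832), some (0, 5465996), some (0, 229096), none, some (1, 7541670), none, none,
    some (1, 6013102), some (1, 3509220), none, none, none, none, none, some (1, 5735546),
    some (0, 2419870), some (0, 1999612), some (0, 6331518), some (0, 3981774), none, none, some (1, 2398172), some (1, 3036570),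
    none, none, none, none, some (1, 331518), some (0, 2896126), some (0, 7603070), none,
    some (1, 6868440), none, none, some (1, 2178522), some (0, 1909678), some (0, 6633080), none, some (1, 6527444),
    none, none, some (1, 7040138), some (0, 6187688), none, some (1, 7973538), none, none,
    none, none, none, none, some (1, 2615604), some (0, 3910228), some (1, 5093132), some (0, 4322264),
    some (0, 258862), some (1, 5725120), none, none, none, some (1, 4706738), none, none,
    none, some (1, 6234968), some (0, 4292126), some (0, 947148), some (0, 4397946), none, some (1, 7526288), some (0, 1301924),
    none, none, none, some (1, 5339562), some (0, 3106600), some (0, 7551640), none, none,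
    some (1, 7563492), none, none, none, some (1, 4429500), some (0, 2161132), some (0, 3900266), none,
    none, some (1, 2446314), none, none, none, none, none, none,
    some (1, 5186796), some (0, 6318842), some (0, 4084270), some (0, 7740760), some (0, 1658270), some (1, 3385742), some (1, 7285636), some (1, 7058224),
    some (0, 7469828), none, none, none, none, none, some (1, 681662), some (0, 6691564),
    some (1, 2652144), none, none, some (1, 7379914), some (0, 1955114), some (0, 6792600), none, none,
    some (1, 3046564), none, none, none, none, some (1, 1629140), some (0, 4953446), some (0, 6678978),
    some (0, 2089522), some (1, 5610076), none, none, none, some (1, 511842), some (0, 3127442), some (1, 7203352),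
    none, none, some (1, 1523282), some (0, 802710), none, none, none, none,
    some (1, 3601676), some (0, 1282008), some (0, 638126), none, some (1, 2569870), some (1, 6904722), some (0, 6254884), none,
    none, none, none, some (1, 6177686), some (0, 4676724), some (1, 1140602), none, none,
    some (1, 3316540), none, none, none, none, none, some (1, 7879912), some (0, 7882666),
    some (0, 7820456), some (0, 3304888), some (0, 3870380), some (1, 2732998), some (1, 7331072), none, none, none,
    some (1, 8004302), some (0, 5529194), none, some (1, 6856612), none, none, none, none,
    some (1, 3840230), none, none, some (1, 6874342), some (0, 7783138), some (0, 3595314), some (0, 4099476), some (0, 5868788),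
    none, none, none, some (1, 3939956), some (0, 7869910), none, some (1, 587102), none,
    none, none, some (1, 8162658), some (0, 8242322), some (0, 5694644), some (0, 2281204), none, none,
    some (1, 4032574), some (0, 8168540), none, some (1, 895452), none, none, none, some (1, 961654),
    none, none, none, none, none, some (1, 6391794), some (0, 3535014), some (1, 8210772),
    some (0, 5989462), some (0, 4615878), some (0, 940786), none, none, some (1, 5345070), some (1, 473574), some (0, 2960242),
    some (0, 8204822), none, none, some (1, 6516560), none, none, none, none,
    none, none, some (1, 3087466), some (0, 8137114), some (0, 6112828), some (0, 6452444), some (0, 1199086), some (1, 3293124),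
    none, none, none, some (1, 1151486), some (0, 2467182), none, some (1, 2575820), some (1, 3876754),
    none, none, none, none, some (1, 6990012), some (1, 7119848), some (0, 7459386), none,
    some (1, 7247088), none, none, none, none, some (1, 650962), some (0, 5157542), some (0, 6609776),
    none, none, some (1, 7715850), some (0, 1894296), some (1, 7770270), some (0, 1363324), none, some (1, 2902972),
    none, none, none, none, none, none, none, none,
    none, some (1, 3130320), some (0, 5486646), some (0, 2944836), some (0, 6001362), some (0, 4521254), some (1, 5663090), none,
    none, some (1, 2481708), some (0, 3846616), none, some (1, 1929682), some (0, 4663094), some (0, 2456276), none,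
    none, some (1, 7588892), none, none, none, none, some (1, 6206738), some (0, 4575124),
    some (0, 782580), some (0, 6466406), some (0, 4053570), some (1, 1965076), none, none, some (1, 5128032), some (1, 4388466),
    none, none, none, none, some (1, 3617082), some (0, 3485468), none, some (1, 4934364),
    some (0, 4880494), some (0, 7228234), some (1, 1752752), none, none, none, some (1, 3258280), none,
    none, none, none, some (1, 4639294), some (0, 3070044), some (0, 5933406), some (0, 5098574), some (0, 5169370),
    none, none, none, none, some (1, 1326072), some (0, 2692926), some (0, 7680460), none,
    some (1, 776650), some (1, 3665536), none, none, none, none, none, none,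
    none, some (1, 4549484), some (0, 2847322), some (0, 5651214), some (0, 876376), some (0, 4927902), none, none,
    some (1, 4357044), some (0, 2841444), some (1, 1832768), none, none, some (1, 7500648), some (0, 3366666), some (1, 1800838),
    none, none, none, none, none, some (1, 5889672), some (0, 4912552), some (0, 6540200),
    some (0, 3930152), some (0, 8040200), none, none, none, none, none, none,
    some (1, 5453296), some (0, 2191270), some (0, 4141792), some (0, 7356210), none, some (1, 6936148), some (0, 5435846), none,
    none, none, some (1, 8075586), some (0, 6123266), none, some (1, 4976164), some (0, 7011008), some (0, 5954338),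
    none, some (1, 8189472), none, none, some (1, 5616482), none, none, none,
    none, none, none, none, some (1, 4167192), some (0, 5291420), some (0, 641004), some (0, 6533354),
    some (0, 3468074), none, some (1, 7163616), some (1, 3781746), none, none, none, none,
    some (1, 6709678), some (0, 3623544), some (0, 3816478), some (0, 6033356), some (0, 4805882), none, some (1, 2274742), none,
    none, some (1, 4778894), some (0, 5231208), some (0, 6486298), none, none, some (1, 7780768), some (0, 3788592),
    none, none, none, none, some (1, 1652444), some (0, 4208622), none, some (1, 6411662),
    some (0, 1565160), none, none, none, none, some (1, 7998448), some (0, 7953446), some (0, 8283584),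
    some (0, 5459634), none, some (1, 8029750), none, none, some (1, 1698150), some (0, 7317058), none,
    some (1, 5745988), none, none, none, some (1, 2799212), none, none, none,
    none, some (1, 905886), some (0, 4632956), some (0, 2214750), some (0, 2076750), some (0, 4501338), some (1, 4603066), none,
    none, none, some (1, 2047368), some (0, 4796344), some (0, 6910636), some (1, 7983584), some (0, 7595298), none,
    none, none, none, none, none, some (1, 4605944), some (0, 2316478), some (0, 4073836),
    some (0, 7933530), none, some (1, 4892628), none, none, none, some (1, 3282682), some (0, 3415470),
    some (0, 3999224), some (1, 2852062), none, none, some (1, 2779606), some (0, 6228582), none, none,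
    none, some (1, 2645710), some (0, 6164970), none, some (1, 3734914), none, none, none,
    none, none, some (1, 3529112), some (0, 1811772), some (0, 6401740), some (0, 1635050), some (0, 6723370), none,
    some (1, 7658692), none, none, none, some (1, 4686798), some (0, 391290), some (0, 3056414), none,
    none, some (1, 2564016), none, none, none, some (1, 4153500), some (0, 5385852), none,
    some (1, 7963548), some (0, 5370988), some (0, 2287562), some (0, 1546922), none, none, some (1, 5588454), none,
    none, none, none, none, none, none, none, none,
    some (1, 3569866), some (0, 1969978), some (0, 7150748), some (0, 5792252), some (0, 6506094), some (1, 1646562), some (0, 7157154), some (0, 7693232),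
    some (0, 3372596), some (1, 5854030), some (0, 4683082), none, none, none, some (1, 8065148), some (0, 7368014),
    none, none, none, none, some (1, 2358342), some (0, 2010050), some (0, 5086770), none,
    some (1, 6733332), none, none, none, none, none, some (1, 7505388), some (0, 3263722),
    some (0, 4105386), some (0, 7638712), some (0, 3724476), none, none, some (1, 7113430), some (0, 6082678), none,
    some (1, 2932024), none, none, none, some (1, 4009158), some (0, 6039282), none, some (1, 6925590),
    some (0, 6152900), none, some (1, 5220650), some (1, 4696816), none, none, none, none,
    none, some (1, 3016678), some (0, 7674098), some (0, 3958070), some (0, 7800532), some (0, 1080566), none, none,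
    none, some (1, 2714748), some (1, 5875146), some (0, 4581034), none, some (1, 6786214), none, none,
    none, none, some (1, 2793298), some (1, 982538), some (0, 5151640), some (0, 4839740), none, some (1, 2552504),
    some (1, 8147672), none, none, none, some (1, 5569170), some (1, 7632956), none, none,
    none, none, none, none, none, some (1, 2744762), some (0, 7840300), some (0, 3210840),
    some (0, 1742734), some (0, 4562408), some (1, 2581746), none, none, some (1, 2546566), some (0, 2070896), none,
    some (1, 4094736), some (1, 5960220), none, none, none, none, some (1, 6059150), some (1, 7391670),
    some (0, 4179044), some (1, 1935190), none, none, none, none, none, some (1, 5051380),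
    some (0, 6386038), some (0, 3629894), some (1, 5971732), some (0, 4816324), none, none, none, some (1, 5983592),
    some (1, 1287910), none, none, none, some (1, 2348408), some (1, 2049738), none, none,
    none, none, some (1, 8358088), some (0, 5827642), some (0, 7259788), some (0, 5429496), some (0, 2805038), none,
    some (1, 3434220), none, none, some (1, 3969970), some (0, 7705908), some (0, 3270100), none, none,
    none, none, some (1, 5548270), some (0, 2934394), some (1, 1875162), some (0, 5014974), none, none,
    none, none, none, some (1, 2991796), some (0, 7385844), some (1, 7099756), some (0, 7553498), some (0, 1535022),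
    some (0, 3026648), none, none, none, some (1, 1754610), none, none, none,
    none, none, none, none, some (1, 178910), some (0, 826222), some (0, 7180634), some (0, 5628190),
    some (0, 517724), some (1, 5576602), some (0, 357820), none, none, none, some (1, 5704124), some (1, 2302972),
    some (0, 3226222), some (0, 3946314), none, none, some (1, 7018440), some (1, 2872994), none, none,
    none, none, none, some (1, 1035448), some (1, 3515098), some (0, 1357374), none, none,
    none, none, some (1, 458192), some (0, 756662), some (0, 7190628), some (0, 7922514), some (0, 5756422), none,
    some (1, 6200364), none, none, none, some (1, 2603848), some (1, 5207696), none, none,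
    none, some (1, 7759386), some (0, 1466012), some (0, 663036), some (0, 6883822), some (0, 8216682), none, some (1, 2862560),
    none, none, none, some (1, 3175326), some (0, 1513324), none, some (1, 8018316), some (1, 3859364),
    none, none, none, none, some (1, 5774014), none, none, none,
    none, some (1, 6586248), some (0, 1790904), some (0, 6503724), some (0, 3763144), some (0, 5977642), some (1, 4315878), some (0, 3076450),
    none, some (1, 3505504), none, none, none, some (1, 8107140), some (0, 5304288), none,
    some (1, 7193382), some (0, 7860304), none, none, none, none, some (1, 4940770), some (0, 6781474),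
    some (1, 5864048), some (0, 6977286), none, none, none, some (1, 7577184), some (1, 882278), none,
    none, none, none, some (1, 3396300), some (0, 1228138), some (0, 2985866), some (0, 6140088), some (1, 6668540),
    none, none, none, none, some (1, 4020100), some (1, 3920150), some (1, 2083596), some (0, 4963416),
    none, none, none, none, none, none, some (1, 8024242), some (0, 7753508),
    some (0, 3890384), some (0, 5909926), none, none, some (1, 1717110), some (0, 6627142), some (1, 752946), none,
    none, some (1, 4382540), some (1, 1472418), none, none, none, none, some (1, 7916140),
    some (0, 8049738), some (0, 5688714), some (1, 3549878), some (1, 6830940), none, none, none, some (1, 1887910),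
    some (1, 3455318), some (1, 5139740), none, none, none, none, some (1, 1881572), some (1, 6735190),
    some (0, 1558742), none, none, none, none, none, none, none,
    none, some (1, 7892628), some (0, 5920484), some (0, 6446562), some (0, 4147618), some (0, 8334384), some (1, 4825726), some (0, 6615630),
    some (0, 1495898), some (0, 498974), some (1, 486298), none, none, none, none, none,
    none, none, some (1, 3829346), some (0, 8265346), some (0, 6053296), some (0, 7030196), none, some (1, 3334270),
    some (0, 3575374), none, none, none, some (1, 2685494), some (0, 8295236), some (0, 5365074), none,
    some (1, 972596), none, none, some (1, 6093128), some (0, 4966170), none, none, none,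
    none, some (1, 5815878), some (0, 5035970), none, none, none, none, some (1, 3200870),
    some (0, 3642818), some (0, 1420722), some (1, 6760542), some (0, 1862238), none, none, none, some (1, 3100182),
    some (0, 6174932), some (0, 4738934), some (0, 7295174), none, none, some (1, 6350652), none, none,
    some (1, 1686298), some (1, 4716684), some (0, 715640), some (0, 7051790), none, none, none, none,
    none, none, some (1, 1989958), some (0, 5180882), some (0, 5073078), some (0, 7234164), some (0, 7494230), some (1, 1605420),
    none, none, some (1, 5805944), none, none, none, some (1, 2338362), some (0, 3979916),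
    some (1, 7139732), some (0, 5489524), none, none, none, some (1, 5061322), some (0, 5010234), some (0, 6771484),
    none, none, some (1, 6421680), none, none, none, none, some (1, 1240854),
    some (0, 1023684), some (0, 4766194), some (1, 6745192), some (0, 3852954), none, none, none, some (1, 2488082),
    some (0, 1553300), some (0, 114548), none, none, some (1, 6248474), some (1, 1174204), none, none,
    none, none, none, none, none, none, some (1, 7909678), some (0, 7718728),
    some (0, 1307802), some (0, 438188), some (0, 2726648), some (1, 3011784), some (0, 5415866), none, none, none,
    some (1, 6697938), some (0, 1399606), some (0, 3093844), some (0, 5319638), none, none, some (1, 1276252), none,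
    none, some (1, 6970936), none, none, none, some (1, 7686798), some (0, 1995896), some (0, 6426526),
    some (0, 1923308), none, some (1, 2767786), none, none, some (1, 5293790), some (0, 447726), some (0, 2525690),
    none, none, none, none, some (1, 3750324), some (0, 7939940), some (0, 7435970), none,
    none, some (1, 7070028), some (0, 5499466), some (1, 5586596), none, none, some (1, 6260640), none,
    none, none, none, none, some (1, 2036918), some (0, 6565364), some (0, 3752694), some (0, 7746662),
    some (0, 3428306), none, none, some (1, 3775820), some (1, 1041798), some (1, 7834386), some (1, 997948), none,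
    none, none, none, none, some (1, 6956410), none, none, none,
    none, some (1, 5163492), some (0, 7063666), some (0, 8316934), some (0, 6213200), some (0, 4906134), none, none,
    some (1, 6073140), none, none, some (1, 1945192), some (0, 6862490), some (0, 5559212), none, some (1, 7133354),
    some (0, 8307000), none, some (1, 3991792), none, none, none, some (1, 4568278), some (0, 320502),
    some (0, 2593398), none, none, some (1, 6638906), some (1, 1779962), some (0, 7089710), none, none,
    none, none, none, none, some (1, 3581808), some (0, 3251862), some (1, 2980110), some (1, 6023568),
    none, none, none, some (1, 5117534), some (0, 4479454), some (0, 999806)],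
   [some (0, 2865535), some (0, 8235855), some (0, 6157915), some (0, 4650911), some (1, 7756731), some (0, 4152637), some (1, 1827807), none,
    none, some (1, 3832573), some (1, 7927757), some (0, 5494763), none, some (1, 8312231), some (0, 7851505), none,
    none, none, none, none, none, some (1, 5627071), some (0, 3073533), some (0, 7572223),
    some (0, 3996783), some (1, 6090199), some (1, 7777599), none, none, none, none, some (1, 8292315),
    some (1, 3055295), some (0, 8165885), none, none, none, none, some (1, 3500543), some (0, 4138623),
    some (0, 7618271), none, some (1, 4825055), some (0, 5108207), none, some (1, 2620843), some (0, 4172729), none,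
    none, none, none, some (1, 8072669), some (0, 5861103), some (0, 7239403), none, none,
    none, none, none, none, some (1, 5225909), some (0, 6941685), some (0, 8122983), some (0, 7798595),
    some (0, 2088851), none, some (1, 6192695), some (0, 7233493), none, some (1, 5307263), none, none,
    none, some (1, 6152037), some (1, 1570167), some (0, 2600919), none, none, none, none,
    none, some (1, 6808443), some (0, 3668511), some (0, 2015069), none, some (1, 6126493), some (0, 4945789), none,
    some (1, 7598525), none, none, none, some (1, 6233849), some (0, 6847935), some (0, 8340461), some (0, 7568507),
    none, none, none, some (1, 2225919), some (0, 3585007), none, none, none,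
    none, none, none, some (1, 5238729), some (0, 4979387), some (0, 7273261), some (0, 8117081), some (0, 6028559),
    none, some (1, 2094765), some (0, 6471673), none, some (1, 7721943), none, none, none,
    some (1, 6222833), some (0, 6545207), none, some (1, 7788157), some (0, 3333599), some (1, 4091791), none, none,
    some (1, 1857535), some (0, 6755839), none, none, none, none, none, some (1, 7731945),
    some (0, 3864379), some (0, 7839629), some (1, 3109815), none, none, some (1, 6216399), some (0, 5168507), some (0, 7326111),
    none, none, none, none, some (1, 8221941), some (1, 7980415), some (1, 2067951), some (0, 7187707),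
    none, none, none, none, none, none, some (1, 7845555), some (0, 3473333),
    some (0, 3905525), some (0, 7454183), some (1, 7302503), some (0, 8350419), some (1, 7978557), none, none, none,
    none, some (1, 3135311), some (0, 5749211), some (0, 913215), some (0, 7320285), none, none, some (1, 6778557),
    none, none, none, none, some (1, 8286559), some (0, 5721951), some (0, 1015007), some (0, 5123071),
    none, none, none, some (1, 5951421), none, none, none, some (1, 7166591),
    some (1, 1703417), some (0, 7055279), some (1, 7314403), none, none, some (1, 7857359), some (0, 1502971), none,
    some (1, 8196023), none, none, none, none, none, none, none,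
    some (1, 3635161), some (0, 1261503), some (0, 2965485), some (0, 7943163), some (0, 7698223), some (1, 5986807), some (1, 3403629), none,
    none, none, some (1, 7068909), some (0, 8055275), some (1, 8302309), some (0, 7921395), none, none,
    none, some (1, 4057059), some (1, 8363095), none, none, none, none, some (1, 7075283),
    some (0, 5761959), some (0, 3145329), some (0, 8043415), none, none, some (1, 7814005), none, none,
    some (1, 8375851), some (0, 8322201), some (1, 8184511), none, none, some (1, 1948407), some (0, 7124855), none,
    some (1, 6683997), none, none, none, none, none, some (1, 6519759), some (0, 2063211),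
    some (0, 7290651), none, some (1, 5504725), some (0, 720871), none, none, none, some (1, 8093601),
    none, none, none, some (1, 8083103), some (0, 5668333), some (0, 2838523), some (0, 8337583), some (0, 8155001),
    some (1, 5944575), some (0, 6606831), none, none, none, none, some (1, 3915467), some (0, 6078379),
    some (0, 7198649), some (1, 4182267), some (1, 4050653), none, none, none, none, some (1, 7208583),
    some (1, 8255795), some (1, 6285437), none, none, none, none, none, some (1, 7497719),
    some (0, 3628775), some (0, 4079091), some (1, 7007839), none, none, some (1, 3768151), some (0, 6240199), none,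
    none, none, some (1, 8003439), some (0, 8216011), some (0, 6251963), none, some (1, 3927223), none,
    none, none, none, none, some (1, 3791791), some (0, 8369513), some (0, 7466907), none,
    some (1, 5228279), some (0, 6748407), some (0, 4115319), none, none, some (1, 3514235), some (0, 4044191), some (0, 5613565),
    none, none, none, none, none, some (1, 4192709), some (0, 6008691), some (1, 4701807),
    some (0, 2948059), none, some (1, 4554739), none, none, none, some (1, 8382229), some (1, 6263615)],
   [some (0, 6667198), some (0, 4060028), some (0, 7583582), some (0, 1441742), some (1, 7830934), some (0, 2060276), none, none,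
    none, some (1, 5201838), some (1, 3406834), some (0, 4177702), some (1, 5241686), none, none, none,
    none, none, some (1, 6280668), some (0, 4451838), some (0, 3140334), some (0, 8305274), some (0, 8183582), none,
    some (1, 5046012), none, none, some (1, 8241104), some (1, 7337022), none, none, none,
    some (1, 7811050), some (1, 7028470), none, none, none, some (1, 3655614), some (0, 3652860), some (0, 3715070),
    none, some (1, 7170014), some (0, 5731070), none, none, none, some (1, 4135902), some (0, 6110590),
    none, some (1, 2883484), none, none, none, none, none, some (1, 7305720),
    some (0, 8088382), some (0, 8355404), some (0, 5930970), none, some (1, 5896118), none, none, some (1, 6011884),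
    some (0, 6946666), some (0, 8385418), some (0, 5766968), none, some (1, 8379060), none, none, some (1, 6290658),
    none, none, some (1, 6813668), some (1, 8345458), none, none, none, none,
    some (1, 8120056), some (0, 7536302), some (0, 4120552), some (0, 8101306), none, some (1, 4126422), none, none,
    some (1, 8158182), some (1, 8060276), none, none, none, some (1, 8230638), some (0, 7665146), some (1, 8277246),
    none, none, some (1, 3005942), some (1, 4189530), some (0, 6270622), none, none, none,
    none, none, none, none, some (1, 6807258), some (0, 2030014), some (0, 7311228), none,
    some (1, 7793628), some (0, 1826430), some (0, 7257550), some (0, 6147066), none, some (1, 7270322), none, none,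
    none, none, none, some (1, 4030138), some (0, 8271804), some (0, 7430140), some (0, 3896814), some (1, 8114118),
    none, none, none, some (1, 7001086), some (0, 7854446), none, none, none,
    some (1, 7993566), some (0, 6219630), some (1, 5677046), some (1, 2523006), none, none, none, some (1, 8252844),
    some (1, 8364534), some (0, 7728758)],
   [some (0, 11010247), some (0, 13893731), some (0, 10765331), some (0, 9830549), none, some (1, 9963547), some (0, 13370381), some (1, 8421811),
    none, none, some (1, 8431757), some (1, 14950785), some (0, 9519665), none, none, none,
    none, none, none, some (1, 11046145), some (0, 14254209), some (0, 12641313), some (0, 10666625), some (0, 9607201),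
    some (1, 8675909), none, none, none, none, some (1, 10846245), some (1, 9240913), some (0, 12656663),
    none, some (1, 8619033), none, none, none, none, some (1, 9347075), some (0, 12880401),
    some (0, 8966165), some (1, 9748745), none, none, none, none, none, none,
    some (1, 8398155), some (0, 8716939), some (0, 8663097), some (0, 10486557), some (0, 9506893), some (1, 8471941), some (0, 8593633), none,
    some (1, 11731203), some (1, 9112069), some (1, 8499969), none, none, none, none, none,
    some (1, 9048457), some (0, 12650793), none, none, none, some (1, 12599513), some (0, 8536111), some (0, 10881097),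
    some (1, 8922769), none, none, some (1, 9440193), some (1, 10630149), none, none, none,
    some (1, 11535529), none, none, none, some (1, 10557585), some (0, 9969957), some (0, 14747201), some (0, 9465987),
    none, some (1, 8983587), none, none, some (1, 12747077), some (0, 8505411), some (1, 9776129), none,
    none, some (1, 8783649), some (1, 8524371), none, none, none, none, some (1, 11100169),
    some (0, 13771273), some (0, 8412681), none, some (1, 12587685), some (0, 10506593), none, none, none,
    none, none, none, some (1, 12717187), some (0, 9193633), some (0, 15335473), some (0, 15747077), some (0, 10110017),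
    none, none, some (1, 8946281), some (0, 14716939), none, some (1, 8688833), none, none,
    none, some (1, 11575377), some (0, 9471495), some (1, 8657159), some (1, 8546577), none, none, none,
    none, none, some (1, 10496547), some (0, 12325377), some (0, 13636881), none, none, some (1, 13121601),
    some (0, 13124355), some (0, 13062145)],
   [some (0, 11272490), some (0, 16056344), some (0, 9462812), some (0, 8521420), some (1, 10491778), some (0, 9769376), some (0, 10560816), some (0, 11608708),
    some (0, 9451104), none, none, none, none, some (1, 11163650), some (0, 14551296), some (0, 13192208),
    none, none, some (1, 10021376), none, none, none, none, some (1, 13631886),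
    some (0, 8733800), some (0, 10625178), some (1, 15207048), some (0, 14176296), none, some (1, 11055264), some (0, 15762208), none,
    none, none, none, some (1, 9503954), some (1, 10554382), some (1, 8989058), some (0, 13443616), none,
    some (1, 14919680), none, none, none, none, none, some (1, 10619300), some (0, 12126304),
    some (1, 9020484), some (0, 12624578), none, none, none, some (1, 11150144), some (0, 13703682), none,
    some (1, 13276672), some (0, 12638592), none, some (1, 8704546), none, none, none, none,
    none, none, some (1, 8978620), some (0, 14688364), some (0, 11551306), some (0, 9835530), some (0, 8654232), none,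
    none, some (1, 9968772), some (1, 10543366), some (0, 9929280), none, none, none, none,
    some (1, 13108704), some (0, 14762146), some (0, 11952160), some (1, 14156372), some (0, 12604486), none, none, none,
    none, some (1, 10650722), some (0, 11831426), none, some (1, 9178690), some (1, 8436754), none, none,
    none, none, none, some (1, 10584520), some (0, 9543722), some (1, 12912836), none, none,
    some (1, 11469952), some (0, 13641904), some (0, 11028004), some (0, 15864000), some (0, 9456930), none, none, none,
    none, none, none, none, none, some (1, 9078992), some (0, 13142054), some (0, 15515712),
    some (0, 13811730), some (1, 9701932), some (0, 11015256), none, some (1, 8401364), some (1, 14828808), some (0, 9652360), none,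
    none, none, none, none, some (1, 10257456), some (0, 14714004), some (0, 9486564), none,
    none, some (1, 8683614), none, none, none, some (1, 8694112), some (0, 11108882), some (0, 13938692),
    some (0, 8439632), some (0, 8622214), some (1, 10832640), some (0, 10170384), none, none, none, none,
    none, some (1, 9279496), some (0, 13148440), some (0, 12698124), none, none, none, none,
    some (1, 12985424), some (0, 8407702), some (0, 9310308), none, some (1, 11548936), some (1, 13262980), some (0, 12733024), none,
    none, none, none, some (1, 12584506), none, none, none, none,
    some (1, 10790408), some (0, 9474712), some (0, 8426796), some (1, 8798658), some (1, 11669008), some (1, 8925710), none, none,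
    none, none, some (1, 10768524), some (0, 9568632), none, none, none, some (1, 13373586),
    some (0, 12861748), some (0, 10698836), some (0, 9578566), some (1, 12594948), none, none, some (1, 10028808), some (0, 12661896),
    none, none, none, none, some (1, 10537016), some (1, 10232008), none, none,
    none, none, none, none, some (1, 10513600), some (0, 10093218), some (0, 14949408), some (0, 12075408),
    some (0, 13829156), some (1, 8455014), some (0, 10825794), none, some (1, 8592704), some (1, 8611330), none, none,
    none, none, some (1, 12222476), some (1, 9208708), some (0, 12685424), none, some (1, 10916112), some (0, 9537812),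
    some (1, 8855820), none, none, some (1, 9323032), none, none, none, none,
    none, some (1, 8937586), some (0, 15073798), some (0, 9721936), none, some (1, 8919856), some (0, 15274244), some (1, 9158944),
    none, none, some (1, 8581192), none, none, none, some (1, 13667400), some (0, 8963210),
    some (0, 13009064), none, none, some (1, 8660134), some (0, 10748656), none, some (1, 14682450), some (0, 10305542),
    none, some (1, 9055272), none, none, none, none, none, none,
    some (1, 10525252), some (0, 9998658), some (0, 12944642), some (0, 8773776), some (0, 8561204), some (1, 12849992), none, none,
    none, some (1, 8849458), some (0, 11282452), none, some (1, 8464984), none, none, none,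
    some (1, 8834052), some (1, 9708306), some (0, 8721940), some (1, 8474906), none, none, some (1, 12720156), some (1, 8414120),
    none, none, none, none, none, some (1, 9204992), some (0, 12780432), some (0, 8484900),
    some (1, 13721920), none, none, some (1, 10687016), some (1, 8999616), some (0, 12726562), none, some (1, 11654144),
    none, none, none, none, none, none, none, some (1, 16262146),
    some (0, 13911680), some (0, 8541360), none, some (1, 11538486), some (0, 11797828), some (1, 9045270), some (1, 8555274), some (1, 8796800),
    some (1, 14709264), some (0, 9589508), none, none, none, none, none, none,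
    some (1, 8931660), some (0, 13303882), some (0, 12871690), none, some (1, 8490656), none, none, some (1, 9610624)],
   [some (0, 10949573), some (0, 9517427), some (0, 11347719), some (0, 13972177), some (1, 14767165), some (0, 11690445), some (0, 9637483), some (0, 11287691),
    some (0, 14418873), some (1, 10653949), some (1, 11290569), none, none, none, some (1, 15263891), none,
    none, none, some (1, 16385925), some (0, 13720801), some (0, 11167139), some (0, 16190113), some (0, 12090417), none,
    none, none, some (1, 11625575), none, none, none, none, some (1, 10043883),
    some (0, 15148075), some (0, 11823769), some (1, 16265373), some (1, 15253933), some (1, 12485089), none, none, none,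
    none, none, some (1, 11766981), some (0, 10005731), some (0, 15500963), some (1, 11311219), some (0, 16548119), none,
    some (1, 9235545), none, none, none, none, none, none, none,
    none, some (1, 13342995), some (0, 13494533), some (0, 13361745), some (0, 12777991), some (0, 9362241), some (1, 9893393), some (1, 13914655),
    some (1, 9460157), none, none, none, none, none, some (1, 13997609), some (0, 10548633),
    some (1, 16662667), some (1, 12094133), some (0, 16290917), none, none, none, none, some (1, 8737015),
    some (0, 10887543), some (0, 11864663), none, none, some (1, 11619673), some (0, 10167439), none, none,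
    none, none, none, some (1, 14131505), some (0, 10612245), some (0, 10138309), some (0, 12623715), some (1, 8813667),
    some (0, 11406227), none, none, none, some (1, 14997253), some (0, 9687505), none, some (1, 10375475),
    none, none, none, some (1, 14496011), none, none, some (1, 13042301), some (0, 10516575),
    some (1, 14183817), none, none, some (1, 8460281), some (0, 10564015), none, some (1, 10704075), some (0, 9841067),
    none, some (1, 12144259), none, none, none, none, none, none,
    some (1, 8907305), some (0, 11188761), some (0, 14195469), some (0, 13227337), some (0, 12837259), none, some (1, 9946275), some (0, 10923185),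
    some (1, 15475291), none, none, none, none, some (1, 8843685), some (0, 10718065), some (0, 12171271),
    none, none, none, none, some (1, 13431433), some (0, 12768057), some (0, 10737933), some (0, 10201417),
    none, none, some (1, 9851625), some (0, 10624315), some (0, 12388749), none, none, some (1, 11556565),
    none, none, none, some (1, 16044209), some (1, 12337277), some (0, 15860831), none, none,
    none, none, none, none, none, none, some (1, 12807245), some (0, 9071307),
    some (0, 13507115), some (0, 15489305), some (1, 10150073), some (0, 14847533), some (0, 12114121), some (0, 14320939), none, some (1, 12379269),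
    none, none, none, some (1, 16024269), some (0, 9491579), some (0, 10913167), some (0, 9799929), none,
    none, some (1, 9718991), some (0, 9307387), none, none, none, none, none,
    none, some (1, 8452849), some (0, 11178791), some (0, 16095553), some (0, 10085651), some (0, 13084293), none, some (1, 14125071),
    none, none, some (1, 9397301), some (0, 14822101), none, some (1, 13730651), none, none,
    none, none, some (1, 16020553), some (0, 9586587), some (0, 8854701), some (0, 11020793), none, none,
    some (1, 11672207), some (0, 10231145), some (0, 15271323), none, none, none, none, some (1, 14173367),
    some (1, 11569519), none, none, none, none, none, some (1, 15777409), some (0, 10016673),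
    some (0, 14914977), some (0, 11659681), some (1, 16719941), some (0, 13659731), some (1, 13646895), none, none, none,
    none, some (1, 11485795), some (1, 10067537), some (1, 8778767), none, none, none, none,
    some (1, 11980871), some (0, 9866579), none, some (1, 10243861), some (0, 13309141), some (0, 12610023), some (1, 15871329), none,
    none, none, some (1, 9613599), some (1, 12995469), none, none, none, none,
    none, some (1, 15495207), some (0, 16139089), some (1, 10098237), some (1, 8442831), none, none, none,
    some (1, 14207345), some (0, 15451143), some (0, 14084289), some (0, 9096755), some (1, 9747019), none, none, some (1, 16000565),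
    none, none, none, some (1, 9872493), some (0, 10522331), none, some (1, 12847063), none,
    none, none, none, none, none, some (1, 13707171), some (0, 10843809), some (0, 11678641),
    some (0, 11607845), some (0, 12137921), none, some (1, 9138503), some (0, 13052739), none, none, none,
    none, some (1, 16339027), some (0, 14050567), some (0, 8867537), some (0, 9058487), none, some (1, 11613723), some (0, 9713549),
    none, none, none, some (1, 13765431), some (0, 11361349), some (0, 14295507), none, none,
    some (1, 8534893), some (0, 11082571), none, none, none, none, some (1, 10079277), some (0, 15377609),
    some (0, 13683371), some (1, 11811045), some (1, 15230293), none, none, none, none, some (1, 9806279),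
    some (0, 8758899), none, some (1, 15142165), none, none, none, none, none,
    some (1, 14882919), some (0, 12347715), some (0, 14616083), some (0, 12876949), some (0, 9061365), none, none, some (1, 8493631),
    some (0, 11317581), none, none, none, some (1, 14330901), some (0, 13160133), some (0, 13291747), some (0, 15124771),
    none, none, some (1, 11842851), some (0, 11896721), none, some (1, 13518935), none, none,
    none, some (1, 12886831), none, none, none, none, none, none,
    none, some (1, 11228945), some (0, 13842821), some (0, 9006945), some (0, 15413891), some (0, 13925153), some (1, 13791349), some (0, 10637127),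
    none, some (1, 13649773), some (1, 9573863), some (0, 10816995), none, none, none, none,
    none, some (1, 15325729), some (0, 16445697), some (0, 13881089), some (0, 9174145), some (0, 13282209), some (1, 15118945), none,
    none, some (1, 16114179), some (1, 14489653), none, none, none, some (1, 9908775), some (0, 10764113),
    none, none, none, some (1, 14598693), some (0, 14867537), some (1, 10249771), none, none,
    some (1, 9737077), some (1, 8803677), none, none, none, none, some (1, 10350689), some (1, 14009429),
    some (0, 8578263), some (0, 8817383), none, some (1, 15994635), none, none, some (1, 9766207), some (0, 10822877),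
    none, some (1, 8587743), some (0, 9250927), none, some (1, 10694537), none, none, none,
    none, none, none, none, some (1, 13874243), some (0, 8712067), some (0, 9409201), some (0, 14727477),
    some (0, 12174149), none, some (1, 13525353), some (1, 13797105), none, none, none, some (1, 10867289),
    some (1, 10310809), some (1, 11649183), none, none, none, none, some (1, 16136211), none,
    none, some (1, 12930599), some (0, 11432145), some (1, 16303641), some (1, 10260655), some (0, 14976377), none, none,
    none, none, none, none, none, some (1, 14902053), some (0, 11762241), some (0, 10108675),
    some (0, 13442945), some (1, 10743859), some (0, 11971333), none, some (1, 14502473), some (0, 13267995), none, some (1, 9548981),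
    none, none, none, none, none, some (1, 14251525), some (0, 12744641), some (1, 15881763),
    some (0, 11951489), some (0, 10161585), some (0, 15281317), none, some (1, 10723919), none, none, some (1, 12214807),
    none, none, some (1, 9984615), none, none, none, none, none,
    some (1, 14357345), some (0, 14777603), some (0, 10445697), some (0, 12795441), some (0, 11041669), none, some (1, 12677739), some (0, 10908427),
    none, none, none, some (1, 15962645), some (0, 9502021), some (0, 9144259), none, none,
    some (1, 9261869), none, none, none, none, some (1, 8640101), some (0, 10664387), some (0, 10324771),
    some (0, 15578129), some (1, 13484091), none, none, none, none, none, none,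
    none, none, some (1, 10211851), some (0, 13024521), some (0, 9030553), some (0, 13348909), some (0, 14740297), some (1, 14562465),
    some (0, 14700465), some (0, 12275877), none, some (1, 12202091), none, none, some (1, 14729847), none,
    none, none, some (1, 12960737), some (1, 11998321), some (0, 11546007), some (1, 15345935), none, none,
    none, none, none, some (1, 12038281), some (0, 9482041), some (0, 11114125), some (1, 11391363), some (1, 12568593),
    none, none, none, some (1, 12988623), none, none, some (1, 15549077), some (1, 12161337),
    some (0, 15836429), some (0, 9561801), none, none, some (1, 9421005), none, none, none,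
    none, none, some (1, 13001395), some (0, 10902069), some (0, 12196181), some (0, 14224711), some (0, 13460675), some (1, 15830067),
    none, none, some (1, 8629543), none, none, some (1, 9103117), some (0, 12819145), some (0, 8976683),
    none, none, none, none, none, some (1, 15735417), some (0, 12080399), some (0, 14091721),
    some (0, 8481979), some (1, 15804619), none, none, some (1, 10684087), none, none, some (1, 10144135),
    some (0, 13601889), none, none, none, some (1, 8942829), some (0, 14812139), none, some (1, 15779267),
    none, none, none, none, none, some (1, 9820805), some (0, 9090417), some (0, 14781319),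
    some (1, 11483425), some (0, 16329489), none, none, none, some (1, 13026891), some (0, 8837275), some (0, 9341245),
    some (0, 15304797), some (0, 14213199), none, none, some (1, 8823769), some (1, 15079065), some (1, 11031227), none,
    none, none, none, none, some (1, 9707187), some (0, 11277749), some (0, 15794677), some (1, 11208045),
    none, none, some (1, 11190619), none, none, none, none, none,
    some (1, 11890965), some (0, 9643861), some (0, 8470215), some (0, 9188323), some (0, 15012659), some (1, 9132153), none, none,
    none, none, none, some (1, 14369053), some (1, 9667501), some (0, 10599529), none, none,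
    none, none, none, none, none, none, some (1, 13785419), some (0, 9391371),
    some (0, 13576345), some (0, 13134397), some (0, 15356493), none, some (1, 13677033), some (0, 10602283), some (1, 10426563), some (0, 13380915),
    some (1, 12757115), some (0, 11323919), some (0, 14585945), none, none, some (1, 12857065), none, none,
    none, none, none, some (1, 15090917), some (0, 11684083), some (0, 12454951), some (0, 16518353), some (1, 11052095),
    none, none, none, some (1, 12070477), some (0, 14161611), some (0, 12866987), none, some (1, 10542247),
    none, none, some (1, 13153671), none, none, none, some (1, 12060531), some (0, 16061575),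
    some (0, 9725425), none, some (1, 11094327), none, none, some (1, 9083983), some (0, 13404619), none,
    none, none, none, none, none, some (1, 14787257), some (0, 11596333), some (0, 11704137),
    some (0, 9543051), some (0, 9282985), some (1, 15171795), some (1, 11341369), none, none, none, some (1, 10971271),
    some (0, 10365553), some (1, 12629597), none, none, none, none, some (1, 9328263), some (0, 12982769),
    some (1, 10643065), none, none, some (1, 11590419), some (0, 10458373), some (0, 12692945), some (0, 9036455), none,
    none, none, none, none, none, some (1, 14438853), some (0, 12797299), none,
    some (1, 11715893), some (1, 10355535), some (0, 12917851), none, some (1, 8560533), none, none, none,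
    none, none, some (1, 15536361), some (0, 15753531), some (0, 12011021), some (0, 9583833), some (0, 8916911), none,
    some (1, 14706319), none, none, some (1, 10032023), none, none, some (1, 14289133), some (0, 15223915),
    none, some (1, 10528741), some (0, 11637475), none, some (1, 15603011), some (0, 13978003), some (1, 11741245), none,
    none, none, none, none, none, some (1, 11126001), some (0, 15900839), some (0, 11849313),
    some (0, 12227731), some (0, 13929893), none, none, some (1, 10237015), some (1, 12635423), none, none,
    none, some (1, 15469413), none, none, some (1, 12420171), some (0, 13935771), some (0, 8701629), none,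
    some (1, 14944447), none, none, some (1, 9276567), some (0, 13410549), none, some (1, 10856731), some (0, 10330653),
    none, none, none, none, none, none, none, none,
    some (1, 9677459), some (0, 9223717), some (0, 15242193), some (0, 13750567), some (0, 11003201), none, some (1, 9914725), some (0, 11218003),
    some (1, 13217291), some (1, 12957859), none, none, none, none, none, some (1, 11457577),
    some (0, 15894937), some (1, 11412141), none, none, some (1, 10273491), some (1, 11836445), some (0, 9995741), some (0, 12682479),
    none, none, some (1, 9200031), none, none, none, none, none,
    some (1, 12906835), some (0, 8897303), some (0, 8894549), some (0, 8956759), none, some (1, 12936985), some (1, 13832379), none,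
    none, none, some (1, 9902873), some (0, 8994077), some (0, 13181901), none, none, some (1, 8614557),
    some (1, 15815561), some (0, 9663785), some (1, 13845191), none, none, none, none, none,
    none, some (1, 14044217), some (0, 11160733), some (1, 12100491), some (1, 15636613), some (1, 11330353), none, none,
    none, none, some (1, 9446143), some (0, 10753647), some (0, 11801051), none, none, some (1, 14687693),
    none, none, none, none, none, some (1, 15022605), some (0, 9991001), some (0, 12785423),
    some (0, 8747465), some (0, 9118523), none, none, some (1, 8608675), none, none, some (1, 13816973),
    some (0, 8572393), some (0, 11241643), some (0, 16558121), none, some (1, 11381441), none, none, some (1, 11937475),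
    some (1, 15212055), none, none, none, some (1, 11813799), none, none, none,
    some (1, 13201841), some (1, 15974505), some (0, 11725835), some (0, 10391177), some (0, 13147321), some (1, 10805483), none, none,
    some (1, 10793623), none, none, some (1, 14428807), some (0, 13391473), some (0, 14832023), none, none,
    none, none, some (1, 10290917), some (0, 14693619), none, some (1, 10589527), none, none,
    none, none, none, none, none, some (1, 9596581), some (0, 11149025), some (0, 16259491),
    some (0, 16598305), some (0, 15950993), some (1, 16319023), some (1, 9017829), some (0, 15311203), none, none, none,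
    none, some (1, 10190967), some (0, 14986311), none, some (1, 8752973), some (0, 9023707), some (1, 15060105), some (1, 12394675),
    none, none, none, none, none, none, some (1, 11200613), some (0, 16419395),
    none, some (1, 14460737), some (0, 12703379), some (1, 11884587), some (0, 12461337), some (1, 13271711), none, none,
    some (1, 10053845), some (0, 13248103), none, none, none, none, some (1, 13014071), some (0, 10799573),
    none, some (1, 8670075), some (0, 11472927), none, none, none, none, none,
    none, some (1, 11073091), some (0, 14062467), some (0, 8772913), some (0, 11248021), some (1, 15696649), none, none,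
    some (1, 9920603), some (0, 8793631), none, some (1, 13700765), none, none, none, none,
    some (1, 14474243), some (0, 13550993), some (0, 12830901), some (1, 11871081), none, none, some (1, 11960891), some (1, 9181917),
    some (0, 13111679), some (0, 15024463), none, none, none, none, none, some (1, 9758775),
    some (0, 11437653), some (0, 13670615), some (0, 9225575), none, some (1, 10775853), some (0, 12255961), none, none,
    none, some (1, 9213723), some (0, 12947869), some (0, 8511869), none, some (1, 10961337), none, none,
    none, none, some (1, 13904221), some (0, 8996447), none, some (1, 12723645), some (0, 10570477), none,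
    none, none, none, none, none, none, some (1, 15741767), some (0, 9787203),
    some (0, 8861075), some (0, 8727477), some (0, 11088501), none, some (1, 14889305), some (1, 13321897), some (0, 14842025), some (0, 12208937),
    none, some (1, 16278241), none, none, none, none, none, some (1, 14895643),
    some (0, 10385421), some (0, 13242201), some (0, 13195407), none, some (1, 8566443), some (0, 10787753), none, some (1, 14965443),
    none, none, none, some (1, 13689749), some (1, 16126253), none, none, none,
    some (1, 10042025), some (0, 15218473), none, some (1, 14807237), none, none, none, none,
    some (1, 9657367), some (0, 9317829), some (0, 13175539), none, some (1, 14853907), none, none, some (1, 9530127),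
    some (0, 9385545), some (0, 12598171), none, none, none, none, none, some (1, 13262117),
    some (0, 15419841), some (0, 14379043), some (0, 15625729), some (0, 14310033), none, some (1, 14201395), some (1, 12900461), none,
    none, none, some (1, 13740645), some (1, 12924261), some (0, 10576851), some (1, 16456713), none, none,
    none, none, none, some (1, 12297761), some (1, 13472327), none, none, none,
    some (1, 9626467), some (0, 10984963), some (0, 10271121), some (0, 13207349), some (1, 8884587), none, none, some (1, 15130653),
    some (0, 9620061), none, none, none, some (1, 9271827), some (0, 13513493), some (0, 12671829), none,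
    none, some (1, 13760537), some (1, 13983917), none, none, none, none, some (1, 14032453),
    some (0, 8936915), some (0, 13566375), some (0, 15034481), some (1, 14230649)],
   [some (0, 11440842), some (0, 13932858), some (0, 11388188), some (0, 13869276), some (1, 15009708), some (0, 11628792), some (0, 11675438), some (0, 11869896),
    some (0, 9975226), none, some (1, 11105430), some (1, 16369930), some (0, 14672904), none, none, none,
    none, some (1, 13245382), some (0, 13457762), some (0, 15687954), some (1, 14387768), none, none, some (1, 9694320),
    none, none, some (1, 10682144), some (0, 12295040), none, none, none, none,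
    some (1, 16336076), some (0, 13788394), some (0, 10899114), some (0, 12458168), some (0, 16256316), none, none, some (1, 12073682),
    some (1, 15268876), none, none, none, none, some (1, 12158374), some (0, 16098528), some (0, 11593394),
    some (0, 11966116), none, none, none, some (1, 11503942), some (0, 14526546), none, none,
    none, none, none, some (1, 11211250), some (0, 16066854), some (0, 12412496), some (1, 14259230), some (1, 8767918),
    none, none, none, some (1, 13314420), some (1, 12822376), none, none, none,
    some (1, 11259464), some (0, 14334090), some (1, 15002276), some (0, 12243568), none, some (1, 16527728), some (0, 15812374), some (0, 9925828),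
    none, none, none, none, none, some (1, 10335874), none, none,
    none, none, none, some (1, 10453402), some (0, 12954684), some (0, 11068124), some (0, 13800046), some (0, 10804554),
    none, some (1, 8675300), some (1, 11695442), some (0, 9899910), some (1, 10697494), some (1, 13335304), none, none,
    none, none, none, none, some (1, 16553352), some (0, 13747640), some (0, 10740908), some (0, 11709160),
    none, some (1, 16581570), none, none, some (1, 11993326), some (0, 11807866), some (1, 13118686), none,
    none, none, none, some (1, 11452598), some (0, 16156788), some (1, 9185148), some (1, 12752346), none,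
    none, none, some (1, 12356440), none, none, none, none, some (1, 12919290),
    some (0, 10838590), some (1, 14227928), some (0, 13198638), some (0, 15164104), some (0, 9599546), none, none, none,
    none, none, some (1, 14879992), some (0, 12085422), some (0, 16647784), some (0, 15752346), none, none,
    none, some (1, 11085546), some (0, 16003754), none, some (1, 15310018), some (0, 14475682), none, some (1, 11398178),
    some (0, 16687760), none, none, none, none, none, none, none,
    some (1, 10979996), some (0, 10008700), some (0, 15238990), some (0, 14012618), some (0, 8840506), none, some (1, 11881652), none,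
    none, some (1, 9346466), some (0, 15567280), some (0, 16375860), none, some (1, 11509880), none, none,
    some (1, 10938962), some (0, 10394134), some (0, 13409620), none, none, none, none, none,
    some (1, 12903884), some (0, 8635130), none, some (1, 16123314), none, none, none, some (1, 11350936),
    some (0, 13710140), some (0, 10581836), some (1, 14374274), some (0, 13069728), none, some (1, 11782694), some (1, 10304324), none,
    none, none, none, some (1, 12800492), some (1, 11749344), none, none, none,
    some (1, 15454360), some (0, 13822252), some (1, 14033892), some (0, 10575474), some (1, 10058826), none, none, none,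
    none, none, none, none, none, none, some (1, 8808700), some (0, 11143806),
    some (0, 16521294), some (0, 14435674), some (0, 13059230), none, some (1, 9604286), some (0, 11308268), some (0, 16285946), none,
    some (1, 11314642), some (0, 13992630), some (0, 10810484), none, none, none, none, some (1, 10759118),
    some (0, 10293882), none, some (1, 15351184), none, none, none, none, some (1, 8973748),
    some (0, 15434468), some (0, 15792226), some (0, 12502786), none, none, some (1, 11376480), some (1, 9426002), none,
    none, none, some (1, 16163146), some (0, 9817626), some (0, 9352348), some (1, 14992282), some (0, 9949244), none,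
    none, none, some (1, 9779358), none, none, some (1, 13504180), some (0, 15227124), some (0, 16400742),
    none, none, some (1, 10531706), none, none, none, none, none,
    some (1, 8961992), some (0, 13210538), some (0, 15069480), some (0, 11789080), some (1, 14619276), none, none, none,
    some (1, 11000032), none, none, some (1, 15135874), some (1, 16534066), some (0, 16667668), some (0, 13782484), none,
    some (1, 10011454), none, none, none, none, none, none, some (1, 15738840),
    some (0, 9524910), some (0, 10892776), some (0, 11602874), some (0, 12399660), some (1, 13222358), some (0, 13099110), some (1, 13963120), none,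
    none, none, none, none, some (1, 15353554), some (0, 14047398), some (0, 11423088), none,
    none, some (1, 12099114), none, none, none, some (1, 11622854), some (1, 12283140), some (0, 14364352),
    some (0, 13139618), some (0, 15618976), none, none, none, some (1, 14394118), some (0, 12975680), some (0, 9106322),
    none, some (1, 13988914), none, none, some (1, 13081380), some (0, 11139408), none, some (1, 8876912),
    none, none, none, none, none, none, some (1, 15340718), some (0, 16009704),
    some (0, 12272698), some (0, 16133260), some (0, 9981688), none, some (1, 15213494), some (0, 16077412), none, some (1, 15374696),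
    none, none, none, some (1, 10062542), some (0, 13415530), some (1, 12897522), none, none,
    some (1, 10861956), none, none, none, some (1, 12199156), some (0, 15732454), some (1, 11025766), some (1, 13299010),
    none, none, none, none, none, none, none, none,
    none, some (1, 11329168), some (0, 14324148), some (0, 14798180), some (0, 12312770), some (0, 14069282), some (1, 12860022), some (0, 11293526),
    some (1, 10149144), some (1, 9888398), none, none, none, some (1, 12615032), some (0, 11223950), none,
    none, none, none, some (1, 16616964), some (0, 14218448), some (1, 16041006), some (0, 11977944), some (1, 12322462),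
    some (0, 13899004), some (0, 10503678), none, none, none, none, none, none,
    some (1, 9285942), some (0, 15049556), some (0, 9564758), some (0, 8828742), none, some (1, 13982988), some (1, 9658806), none,
    none, none, none, none, none, none, some (1, 10429794), some (0, 15019666),
    some (0, 10252980), some (0, 14817140), some (1, 9066346), none, none, some (1, 15782236), some (0, 9684302), none,
    some (1, 10372524), some (1, 11699158), some (1, 11411212), none, none, none, none, none,
    some (1, 15284282), some (0, 16540428), some (0, 13850200), none, none, some (1, 13232360), some (0, 15393322), some (0, 16177672),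
    none, some (1, 14457568), none, none, none, none, none, some (1, 12815958),
    some (0, 9238726), none, some (1, 8732458), some (1, 12810450), some (0, 9333542), some (1, 13810512), none, none,
    some (1, 15822376), none, none, none, none, none, none, some (1, 10929004),
    some (1, 10360784), some (0, 12656054), some (0, 11362788), some (0, 15934066), some (0, 11828742), none, some (1, 13180524), none,
    none, some (1, 16483664), some (0, 13757574), some (0, 9365216), some (0, 14850738), none, some (1, 16029266), none,
    none, none, some (1, 9405998), some (0, 14989528), none, some (1, 8756178), some (1, 10976280), none,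
    none, none, none, none, some (1, 10709354), some (0, 12528138), some (0, 14433816), none,
    some (1, 13220500), some (0, 13169508), some (0, 14930754), none, none, none, none, none,
    none, some (1, 10671646), some (0, 9869772), some (0, 9014650), some (0, 15573134), some (0, 13951608), none, none,
    some (1, 8891594), none, none, some (1, 10905492), some (0, 9640692), none, some (1, 16388890), some (1, 9099948),
    none, none, none, none, some (1, 10247050), some (0, 13571384), some (0, 14772636), some (0, 10183276),
    some (0, 14827082), none, none, some (1, 16458152), none, none, none, some (1, 11729044),
    some (0, 10129252), none, none, none, none, none, none, none,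
    some (1, 12382234), some (0, 14059292), some (0, 8510684), some (0, 9085422), some (0, 15043178), some (1, 9256176), some (1, 14804058), none,
    none, none, some (1, 15110080), some (1, 11417138), some (0, 15997844), some (0, 10048884), none, some (1, 11170108),
    some (0, 15928140), none, some (1, 14336968), some (0, 12835882), none, none, none, none,
    none, none, none, some (1, 11888010), some (0, 9905848), some (0, 10501820), some (1, 15233482), some (0, 14107434),
    none, some (1, 16436384), some (1, 12362342), none, none, none, none, some (1, 14750430),
    some (0, 9728366), some (0, 10946394), none, none, some (1, 11099560), none, none, none,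
    some (1, 16451734), some (0, 14445668), some (1, 13673846), some (1, 12979566), some (1, 8531954), none, none, none,
    none, some (1, 11119404), some (0, 16364104), none, none, none, none, none,
    some (1, 8786878), some (0, 10819964), some (0, 12132702), some (0, 13968974), some (0, 8681178), none, none, some (1, 13340044),
    none, none, some (1, 9135576), some (0, 12790446), some (0, 11303528), none, some (1, 14760928), none,
    none, some (1, 15959690), some (0, 9764008), some (1, 16015574), none, none, some (1, 11344550), none,
    none, none, none, some (1, 10640344), some (0, 10164526), some (0, 15543624), some (0, 14246554), some (0, 13006380),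
    none, none, some (1, 13345970), none, none, some (1, 8645572), some (0, 9157218), some (0, 15514370),
    some (1, 13563952), none, none, none, some (1, 16201472), some (0, 9535376), some (0, 9123748), none,
    none, some (1, 13324854), some (1, 9558888), none, none, none, none, none,
    some (1, 12220040), some (0, 13770664), some (1, 10646246), some (1, 16277312), none, none, none, some (1, 16306822),
    some (0, 14079328), some (1, 9848438), none, none, some (1, 12376356), none, none, none,
    none, none, none, some (1, 14469276), some (0, 13288572), some (0, 14862542), some (0, 10405994), some (0, 15633434),
    some (1, 9218746), some (0, 15503932), none, none, none, some (1, 9744084), some (0, 8951542), none,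
    some (1, 14955806), some (0, 9782236), some (0, 8598654), none, none, some (1, 13257146), none, none,
    none, none, some (1, 12332960), some (0, 16324272), some (0, 15758756), none, some (1, 11128942), some (1, 10341824),
    none, none, none, none, none, some (1, 9734122), some (1, 10886358), some (0, 10226166),
    some (0, 15533174), none, some (1, 10661212), some (1, 13510538), none, none, none, some (1, 11038490),
    none, none, none, none, some (1, 11837884), some (0, 11634300), some (0, 11580622), none,
    some (1, 9246158), some (1, 10734994), some (0, 10463396), none, none, none, none, some (1, 15598044),
    some (0, 13715582), some (0, 11428942), some (0, 14027482), some (0, 9198654), none, none, none, some (1, 9514476),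
    some (1, 14886342), some (0, 9792226), some (1, 15809620), none, none, none, none, none,
    some (1, 11175864), some (0, 15833260), some (0, 12117352), none, none, none, none, none,
    none, none, none, none, some (1, 13909442), some (0, 9258930), some (0, 15151284), some (0, 11561844),
    some (0, 12260934), some (1, 9035526), some (0, 13611456), some (0, 12708658), some (0, 11530756), some (1, 14537488), some (0, 12842260), none,
    none, none, some (1, 14104680), none, none, some (1, 15189552), none, none,
    some (1, 9959682), some (0, 9416464), some (1, 13087258), some (0, 8715036), some (0, 9147228), none, none, some (1, 12933816),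
    none, none, none, some (1, 14117396), none, none, none, none,
    some (1, 14300492), some (0, 12668874), some (0, 9400490), none, some (1, 11746466), some (1, 15297094), some (0, 14578242), some (0, 13000466),
    none, some (1, 13688372), none, none, some (1, 14269728), none, none, none,
    none, some (1, 12765094), some (1, 11934562), some (1, 9076308), some (1, 13694730), some (0, 8902536), some (0, 8632760), none,
    none, none, none, none, none, none, none, some (1, 15287160),
    some (0, 15953934), some (0, 9858888), some (0, 9117338), some (0, 13384108), some (1, 14868976), none, none, some (1, 10615434),
    some (0, 10400552), some (0, 14786328), none, none, some (1, 16611456), some (0, 14313264), none, none,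
    none, none, some (1, 13776534), none, none, some (1, 14240676), some (0, 15430752), some (0, 15887234),
    some (0, 10444320), none, some (1, 16398884), none, none, some (1, 14272098), some (1, 9804902), none,
    none, none, some (1, 11776356), some (0, 11644738), none, some (1, 13584196), some (1, 9672498), none,
    none, none, none, none, some (1, 10196200), some (0, 14724522), some (0, 12436136), some (0, 15905848),
    some (0, 11587468), some (1, 12464518), some (1, 15387412), none, none, none, some (1, 13386478), some (1, 11574768),
    none, none, none, some (1, 12423380), none, none, some (1, 15608034), some (1, 15249008),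
    none, none, none, some (1, 10864326), some (0, 9875698), some (0, 10784566), some (1, 9320794), some (0, 13437726),
    none, some (1, 12775064), none, none, none, some (1, 14962268), some (0, 10113246), none,
    none, none, some (1, 12393746), none, none, none, none, none,
    some (1, 11769946), some (0, 10267918), some (0, 13469400), some (0, 12644542), none, some (1, 10851514), some (1, 11356378), some (0, 14557246),
    some (1, 12618748), none, none, some (1, 12168344), none, none, none, none,
    some (1, 13019542), some (0, 9292404), some (0, 15380566), some (0, 13945670), none, some (1, 13422376), none, none,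
    some (1, 9811288), some (0, 8497054), some (0, 8762092), some (1, 15029712), none, none, some (1, 15145354), some (1, 11233968),
    none, none, none, none, none, some (1, 15084344), some (0, 12147228), some (1, 10088844),
    some (1, 16236932), some (1, 12518196), none, none, none, none, none, none,
    none, some (1, 9268876), some (0, 13251320), some (0, 14703406), some (0, 12538184), some (0, 13839642), none, some (1, 10208916),
    some (1, 11899662), some (1, 9394580), none, none, none, none, some (1, 10123744), some (0, 15404834),
    none, some (1, 15918660), some (0, 9625282), none, some (1, 14423846), none, none, none,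
    none, some (1, 14735080), some (0, 11719082), some (0, 12029224), some (1, 9380566), none, none, none,
    some (1, 12342498), some (1, 12110934), some (0, 14582982), none, none, none, none, none,
    some (1, 15839634), some (0, 9824036), some (0, 10729168), some (0, 9485222), some (1, 15104324), none, none, none,
    some (1, 14094678), some (0, 8744278), none, none, none, some (1, 15681580), some (0, 16410712), some (0, 14306830),
    some (0, 13524168), none, none, some (1, 14198444), some (1, 14979558), none, none, none,
    some (1, 10068976), some (0, 14792230), some (0, 11858880), none, none, some (1, 15176780), some (0, 9497050), none,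
    none, none, none, none, none, none, none, some (1, 14838838),
    some (0, 12470980), some (0, 14294130), some (0, 15486342), some (0, 14631152), none, some (1, 12233010), some (1, 13544012), some (0, 13163098),
    none, some (1, 12892080), some (0, 10605492), none, some (1, 15093882), some (0, 11946270), some (1, 10103708), none,
    none, none, none, none, none, none, none, some (1, 12105492),
    some (0, 13735876), some (0, 8517090), some (0, 10986402), some (0, 11909680), some (1, 13463644), none, none, some (1, 15669840),
    some (0, 14186774), none, some (1, 9041464), some (0, 14857100), none, none, none, none,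
    some (1, 16206914), some (0, 10382482), some (1, 15772190), some (0, 10278476), some (1, 9754006), none, none, none,
    none, some (1, 10038838), some (0, 15480516), some (0, 13652978), none, some (1, 15258930), none, none,
    some (1, 12695886), none, none, none, none, some (1, 10966310), some (0, 12003792), some (1, 15410716),
    some (0, 13662924), none, none, none, some (1, 10177362), some (0, 13581318), some (0, 13396944), none,
    none, some (1, 9682444), some (1, 12940166), some (1, 15948080), none, none, none, none,
    none, none, some (1, 13553934), some (0, 13093208), some (0, 9168926), some (1, 14003080), none, none,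
    none, some (1, 9882544), some (0, 11246644), some (0, 16296388), none, some (1, 9298762), some (1, 14130320), none,
    none, none, some (1, 11940444), some (0, 9445214), some (1, 8551822), none, none, some (1, 13129628),
    none, none, none, none, none, none, some (1, 14166890), some (0, 15554058),
    some (0, 14053784), some (0, 8605500), some (0, 11221196), some (1, 15329152), some (0, 13890208), none, none, none,
    some (1, 9647050), some (1, 14900868), some (1, 12153634), some (1, 14407748), none, none, none, none,
    none, some (1, 15876796), some (0, 11689068), some (0, 12193226), some (0, 14486698), some (0, 15492280), none, some (1, 10594550),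
    none, none, some (1, 11185798), none, none, some (1, 9988038), some (0, 13047522), none,
    some (1, 15899910), none, none, none, some (1, 12063724), some (0, 15799658), some (1, 9129190), none,
    none, some (1, 11195844), some (0, 13863394), some (1, 10956388), some (1, 13186898), none, none, none,
    none, none, none, none, some (1, 10082482), some (0, 15639844), some (0, 15846096), some (0, 10155046),
    none, none, some (1, 13534066), some (0, 15063062), some (0, 10412372), none, some (1, 10316088), none,
    none, some (1, 8822392), some (0, 11049374), some (0, 14516588), some (1, 8881652), none, none, some (1, 11463048),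
    none, none, none, none, none, some (1, 11921484), some (0, 10135130), some (0, 12885646),
    some (0, 9228792), none, some (1, 10779058), none, none, none, some (1, 14493076), some (0, 12674804),
    none, some (1, 14909758), some (1, 9374696), none, none, none, none, none,
    none, some (1, 12762340), some (0, 11062242), some (0, 16748578), some (0, 16051472), none, none, some (1, 12500032),
    some (0, 14192530), some (0, 13489316), some (1, 11911538), some (0, 12035094), none, some (1, 10423388), none, none,
    none, some (1, 10926126), none, none, some (1, 13428246), some (0, 13030100), some (0, 8575350), none,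
    some (1, 11818808), some (0, 11736476), none, none, none, none, none, none,
    some (1, 14968674), some (0, 12014226), some (0, 9846068), some (0, 11079636), some (0, 14233830), none, some (1, 11253002), some (1, 13617794),
    none, none, none, some (1, 12739422), some (0, 8870478)],
   [some (0, 9419663), some (0, 13482873), some (0, 15332127), some (0, 14152525), some (1, 14112693), some (0, 10714613), some (0, 12266471), none,
    none, some (1, 11752319), some (0, 12008783), some (0, 10301403), some (1, 14924959), none, none, some (1, 13332375),
    none, none, none, none, none, some (1, 14670249), some (0, 15461689), some (0, 16509581),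
    some (0, 14351977), some (0, 15392651), none, some (1, 13956839), some (0, 10934259), none, some (1, 16014711), some (1, 10120575),
    none, none, none, none, some (1, 16626597), some (1, 15716725), some (1, 10471289), some (1, 9934559),
    none, none, none, none, none, some (1, 14656235), some (0, 15007291), some (0, 12506013),
    none, some (1, 14448891), some (1, 15789309), none, none, none, some (1, 15048437), some (1, 11367803),
    some (0, 16196511), none, none, none, none, none, some (1, 12051189), some (0, 11714167),
    some (0, 12361671), some (0, 14521843), some (0, 15066551), some (1, 16714107), none, none, some (1, 10996863), none,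
    none, none, some (1, 13401935), some (0, 13587419), some (0, 13072703), none, some (1, 11787961), none,
    none, none, none, some (1, 16586589), some (0, 13727199), some (0, 8873967), some (0, 10959611), none,
    none, none, some (1, 9164223), none, none, none, none, none,
    some (1, 13104377), some (0, 10677183), some (0, 12556909), some (0, 16301403), some (0, 14534543), some (1, 12032439), some (0, 12430709), none,
    some (1, 11496285), none, none, none, some (1, 13561007), some (0, 15649529), none, some (1, 16034803),
    some (1, 15613053), none, none, none, none, some (1, 9304021), some (0, 12825591), none,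
    some (1, 16241947), some (0, 9956765), some (0, 9154301), some (1, 15054795), none, none, none, some (1, 10439359),
    some (1, 11647965), some (0, 10073967), none, none, none, none, none, none,
    some (1, 16661449), some (0, 14245691), some (0, 15693197), some (0, 13855737), some (1, 15939309), some (0, 11567083), none, none,
    none, none, some (1, 9697519), some (0, 11448171), none, some (1, 16084933), some (1, 16463159), some (1, 13355887),
    none, none, none, none, none, some (1, 15398581), some (1, 16569195), some (1, 10411253),
    some (1, 11855711), none, none, none, none, none, none, some (1, 16074491),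
    some (0, 11957439), some (0, 11931645), some (1, 11155423), some (0, 13966319), none, none, none, some (1, 16272351),
    some (0, 14636143), some (0, 15101403), none, some (1, 9555959), some (0, 11515111), some (1, 15585107), none, none,
    none, none, some (1, 12238253), some (0, 16355305), some (0, 16381099), some (0, 16181161), none, none,
    none, some (1, 15655879), none, none, none, none, some (1, 12131583), some (0, 16524783),
    some (1, 15371767), some (0, 16632039), none, none, none, some (1, 11136463), some (1, 16756099), some (0, 14544561),
    some (1, 16101503), some (1, 13454845), none, none, none, none, none, none,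
    none, none, none, some (1, 15203217), some (0, 10222389), some (0, 15449925), some (0, 14285763), some (1, 16251941),
    some (0, 12251089), some (1, 16692751), some (0, 13950937), none, some (1, 13425591), none, none, none,
    some (1, 14508919), some (0, 15169111), none, some (1, 13868413), none, none, none, none,
    some (1, 13629219), some (1, 14146163), some (0, 11468055), some (0, 14650325), some (1, 10991421), none, none, some (1, 14609179),
    none, none, some (1, 9797245), none, none, none, none, none,
    some (1, 16740921), some (0, 15892253), some (0, 10182605), some (0, 13319659), some (0, 15559595), some (1, 16496881), some (0, 16314151), some (1, 14596455),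
    none, none, none, none, none, some (1, 11794311), some (0, 9945057), some (0, 11124659),
    some (1, 15726667), none, none, none, some (1, 16734983), none, none, none,
    some (1, 14316463), some (0, 15163241), some (0, 12286363), none, some (1, 10188531), some (0, 15089575), some (0, 12409841), none,
    none, some (1, 15851087), some (0, 10417611), none, none, none, none, some (1, 15916005),
    some (0, 12311907), none, none, none, none, some (1, 14275325), some (0, 14873967), some (0, 12045259),
    some (0, 10468411), some (0, 15511453), some (1, 15643067), none, none, some (1, 12970719), some (1, 16072121), some (0, 12150717),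
    none, some (1, 15425791), none, none, none, none, some (1, 12533397), some (0, 14172149),
    some (0, 15292391), none, none, none, none, some (1, 14569443), some (0, 15686835), some (0, 16673205),
    some (0, 16469621), some (0, 16415943), none, none, some (1, 16425853), none, none, some (1, 12184187),
    none, none, none, none, some (1, 11916781), some (0, 11773435), some (0, 11906735), some (0, 12367609),
    some (0, 15767487), some (1, 11426287), none, none, some (1, 15520991), none, none, none,
    some (1, 15666895), none, none, some (1, 12535255), some (0, 14101751), some (0, 11300599), some (0, 16650999), none,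
    none, some (1, 14757759), some (0, 12415695), none, none, none, some (1, 12291871), some (0, 14531789),
    some (0, 13166587), none, none, none, none, none, none, none,
    none, none, some (1, 14122635), some (0, 9338809), some (0, 15408061), some (1, 11269097), some (0, 15973163), some (0, 12451593),
    some (0, 14399385), some (0, 12713901), some (1, 16216547), none, none, some (1, 15192751), some (0, 11991417), none,
    none, none, some (1, 14676119), some (0, 13037429), some (0, 11262679), none, some (1, 14038907), some (0, 10837919),
    none, none, none, some (1, 16108349), some (0, 12317789), some (0, 13807567), none, none,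
    some (1, 10433021), none, none, none, none, some (1, 13597413), some (0, 15367027), none,
    some (1, 15857521), none, none, none, some (1, 16766657), some (0, 13827507), some (0, 11521957), none,
    some (1, 16149103), some (0, 12475995), some (0, 14556575), none, none, none, none, some (1, 12441143),
    some (0, 16168405), some (1, 15615807), some (0, 16210141), none, some (1, 10132475), none, none, none,
    some (1, 10344799), some (0, 13608287), some (1, 13078459), none, none, none, none, none,
    none, none, some (1, 15921883), some (0, 9887535), some (0, 11509209), some (0, 14264767), some (0, 15591021), none,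
    some (1, 15182317), none, none, some (1, 11527835), some (0, 14072509), some (0, 11067261), some (0, 16486863), none,
    none, some (1, 14971901), none, none, some (1, 16620187), some (0, 14480701), some (0, 14927837), some (1, 12523435),
    none, none, some (1, 14074367), none, none, some (1, 11401405), some (1, 16638425), none,
    none, none, none, none, some (1, 9862103), some (0, 9379703), some (0, 15546839), none,
    none, none, none, some (1, 16539309), some (0, 16406009), some (0, 15945135), some (0, 12545257), some (0, 16395963),
    some (1, 15252207), none, none, some (1, 16361175), some (1, 15572271), none, none, none,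
    none, some (1, 12240623), some (0, 16162027), some (0, 12373435), some (0, 16745661), some (1, 11371519), none, none,
    some (1, 12495071), none, none, none, none, none, some (1, 12120567), some (1, 16698701),
    some (0, 14404827), none, some (1, 10397623), some (1, 15113055), none, none, none, none,
    none, none, none, some (1, 15825591), some (0, 12482405), some (0, 15933395), some (0, 10321319), some (0, 15673329),
    some (1, 15439483), some (0, 16054671), none, some (1, 9297643), none, none, none, some (1, 15984983),
    some (0, 10481223), some (0, 13549267), none, some (1, 14008087), none, none, some (1, 14626605), some (0, 15302361),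
    none, none, none, none, some (1, 11238959), none, none, some (1, 14341975),
    some (0, 13098439), some (0, 9431539), some (0, 15706679), none, some (1, 16232025), some (0, 10026655), some (0, 13539309), none,
    none, some (1, 13448895), some (1, 14801403), none, none, none, none, some (1, 12021555),
    some (1, 14367327), none, none, none, none, none, some (1, 16349549), some (0, 16475979),
    some (1, 14392999), some (0, 15531489), some (0, 16499635), none, some (1, 16704627), some (0, 16174743), some (1, 12335935), none,
    none, some (1, 14454399), some (1, 8699391), none, none, none, none, some (1, 10877799),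
    some (0, 12563283), some (1, 13622813), some (0, 13302237), none, some (1, 9827259), none, none, none,
    some (1, 14646609), some (1, 13887039), some (0, 10944205), none, none, none, none, none,
    none, some (1, 14411237), some (0, 14937827), some (0, 12516003), some (0, 16686897), some (0, 16375189), some (1, 12575023), none,
    none, some (1, 9368191), none, none, some (1, 16579157), none, none, some (1, 16596579),
    some (0, 16545683), some (1, 16439359), some (1, 10284013), none, none, none, some (1, 13237367), some (1, 14019947),
    none, none, none, none, some (1, 16222055), some (0, 11926739), some (1, 16608287), some (0, 14575325),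
    some (0, 12738303)],
   [some (0, 11451380), some (0, 16358262), some (0, 16643398), some (0, 14149586), some (1, 16195134), none, none, some (1, 14667062),
    some (0, 15723732), some (0, 14346998), some (1, 16039788), some (0, 12179418), none, none, none, some (1, 16623418),
    some (0, 16119452), some (0, 9631740), some (1, 16144334), none, none, some (1, 16601534), none, none,
    some (1, 13605118), some (0, 15526270), some (1, 14593528), some (0, 15322814), none, none, none, some (1, 10874872),
    some (1, 16725210), none, none, none, none, none, some (1, 9939838), some (0, 11386462),
    some (0, 14463966), some (0, 12965758), some (1, 9919994), none, none, none, some (1, 13499802), some (0, 13624252),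
    some (0, 14940796), none, none, some (1, 16246970), none, none, none, none,
    none, none, some (1, 9436524), some (0, 15444954), some (0, 14547502), some (1, 14023156), some (1, 16213372), some (0, 11759326),
    none, none, none, none, some (1, 15711912), some (0, 16317368), some (1, 16707820), some (1, 16566260),
    none, none, none, some (1, 15594226), some (0, 16184118), some (0, 12050260), some (0, 10206678), none,
    none, none, some (1, 16637048), none, none, none, none, none,
    none, some (1, 15660888), some (0, 13884318), some (1, 12024748), some (0, 12271480), some (0, 16334734), some (0, 14514152), some (1, 15979766),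
    some (1, 12406638), none, none, none, some (1, 15464870), some (0, 16771936), some (1, 14661236), none,
    none, none, none, some (1, 13366990), some (0, 13040618), some (0, 11524922), some (0, 16759068), none,
    some (1, 10484440), none, none, none, none, none, some (1, 16479188), some (0, 13860710),
    some (0, 11501506), some (0, 14629810), none, some (1, 16514578), some (0, 14614404), none, none, none,
    none, some (1, 16504620), some (1, 10474470), some (0, 15187314), some (0, 12446614), none, none, none,
    none, none, none, none, some (1, 14603962), some (0, 15130044), some (0, 12306940), some (0, 16493678),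
    some (0, 16576202), some (1, 16563382), none, none, some (1, 13479910), none, none, some (1, 12560332),
    some (0, 13745914), none, some (1, 15701910), none, none, none, some (1, 12477434), some (1, 16424668),
    some (0, 14212590), some (0, 15713770), some (1, 12553970), none, none, some (1, 11988454), none, none,
    some (1, 11335598), some (0, 16225272), some (1, 11491068), none, none, none, none, none,
    none, some (1, 11852542), some (0, 12490110), some (0, 16092638), some (0, 10347774), some (0, 15116030), some (1, 15474682), none,
    none, none, some (1, 11480510), some (0, 16591612), none, none, none, some (1, 9359326),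
    none, none, some (1, 12352988), some (0, 14354430), some (0, 15039726), none, some (1, 10723310), some (0, 12433898),
    none, none, none, some (1, 16442782), some (0, 14143212), some (0, 11205882), none, some (1, 11876342),
    none, none, some (1, 16681902), none, none, none, none, none,
    none, none, some (1, 16087898), some (0, 10450718), some (0, 13058012), some (0, 9010174), some (0, 15676270), some (1, 13361136),
    none, none, some (1, 15990216), some (0, 10219434), none, some (1, 16737958), some (0, 16154352), some (0, 12214198),
    some (1, 12254030), none, none, some (1, 16283262), none, none, none, none,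
    none, some (1, 14907322), none, none, none, some (1, 14384316), some (0, 15364076), some (0, 16472810),
    some (0, 16678186), some (0, 16732056), some (1, 12300990), some (1, 15588300), none, none, none, none,
    some (1, 12189412), none, none, some (1, 16431074), some (0, 16113570), some (0, 12580272), some (0, 15970228), none,
    some (1, 16761438), none, none, some (1, 12548214), some (0, 16658262), some (1, 13287230), none, none,
    some (1, 14282588), some (1, 14136750), none, none, none, none, some (1, 15654502), some (0, 16701906),
    some (1, 12512828), none, none, some (1, 10289010), some (1, 14089310), some (1, 13922238), some (1, 15874558), none,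
    none, none, none, none, none, none, some (1, 15852526), some (0, 12056170),
    some (0, 11976602), some (0, 10330044), some (0, 15316476), none, some (1, 11006430), none, none, some (1, 15628958),
    some (0, 14572412), some (0, 15424862), none, none, none, none, some (1, 14507734), some (0, 13530614),
    some (0, 15158262), none, some (1, 15912826), some (0, 12573838), none, some (1, 10370798), some (1, 14745558), none,
    none, none, none, some (1, 11664702), some (1, 14641614), some (0, 13594234), none, none,
    none, none, none, some (1, 16719332), some (0, 16346610), none, some (1, 11265910), some (0, 16235206),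
    some (1, 15564596), some (1, 14414202), some (0, 15200014), none, none, none, none, some (1, 14655306)],
   []]

set_option maxRecDepth 100000 in
/-- The code words visited, with the index of the representative. -/
def m22vis : List (ℕ × ℕ) :=
  [(16777215, 13), (14655306, 12), (15200014, 12), (14414202, 12), (15564596, 12), (16235206, 12), (11265910, 12), (16346610, 12),
   (16719332, 12), (13594234, 12), (14641614, 12), (11664702, 12), (14745558, 12), (10370798, 12), (12573838, 12), (15912826, 12),
   (15158262, 12), (13530614, 12), (14507734, 12), (15424862, 12), (14572412, 12), (15628958, 12), (11006430, 12), (15316476, 12),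
   (10330044, 12), (11976602, 12), (12056170, 12), (15852526, 12), (15874558, 12), (13922238, 12), (14089310, 12), (10289010, 12),
   (12512828, 12), (16701906, 12), (15654502, 12), (14136750, 12), (14282588, 12), (13287230, 12), (16658262, 12), (12548214, 12),
   (16761438, 12), (15970228, 12), (12580272, 12), (16113570, 12), (16431074, 12), (12189412, 12), (15588300, 12), (12300990, 12),
   (16732056, 12), (16678186, 12), (16472810, 12), (15364076, 12), (14384316, 12), (14907322, 12), (16283262, 12), (12254030, 12),
   (12214198, 12), (16154352, 12), (16737958, 12), (10219434, 12), (15990216, 12), (13361136, 12), (15676270, 12), (9010174, 12),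
   (13058012, 12), (10450718, 12), (16087898, 12), (16681902, 12), (11876342, 12), (11205882, 12), (14143212, 12), (16442782, 12),
   (12433898, 12), (10723310, 12), (15039726, 12), (14354430, 12), (12352988, 12), (9359326, 12), (16591612, 12), (11480510, 12),
   (15474682, 12), (15116030, 12), (10347774, 12), (16092638, 12), (12490110, 12), (11852542, 12), (11491068, 12), (16225272, 12),
   (11335598, 12), (11988454, 12), (12553970, 12), (15713770, 12), (14212590, 12), (16424668, 12), (12477434, 12), (15701910, 12),
   (13745914, 12), (12560332, 12), (13479910, 12), (16563382, 12), (16576202, 12), (16493678, 12), (12306940, 12), (15130044, 12),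
   (14603962, 12), (12446614, 12), (15187314, 12), (10474470, 12), (16504620, 12), (14614404, 12), (16514578, 12), (14629810, 12),
   (11501506, 12), (13860710, 12), (16479188, 12), (10484440, 12), (16759068, 12), (11524922, 12), (13040618, 12), (13366990, 12),
   (14661236, 12), (16771936, 12), (15464870, 12), (12406638, 12), (15979766, 12), (14514152, 12), (16334734, 12), (12271480, 12),
   (12024748, 12), (13884318, 12), (15660888, 12), (16637048, 12), (10206678, 12), (12050260, 12), (16184118, 12), (15594226, 12),
   (16566260, 12), (16707820, 12), (16317368, 12), (15711912, 12), (11759326, 12), (16213372, 12), (14023156, 12), (14547502, 12),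
   (15444954, 12), (9436524, 12), (16246970, 12), (14940796, 12), (13624252, 12), (13499802, 12), (9919994, 12), (12965758, 12),
   (14463966, 12), (11386462, 12), (9939838, 12), (16725210, 12), (10874872, 12), (15322814, 12), (14593528, 12), (15526270, 12),
   (13605118, 12), (16601534, 12), (16144334, 12), (9631740, 12), (16119452, 12), (16623418, 12), (12179418, 12), (16039788, 12),
   (14346998, 12), (15723732, 12), (14667062, 12), (16195134, 12), (14149586, 12), (16643398, 12), (16358262, 12), (11451380, 12),
   (8912566, 12), (12738303, 11), (14575325, 11), (16608287, 11), (11926739, 11), (16222055, 11), (14019947, 11), (13237367, 11),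
   (10284013, 11), (16439359, 11), (16545683, 11), (16596579, 11), (16579157, 11), (9368191, 11), (12575023, 11), (16375189, 11),
   (16686897, 11), (12516003, 11), (14937827, 11), (14411237, 11), (10944205, 11), (13887039, 11), (14646609, 11), (9827259, 11),
   (13302237, 11), (13622813, 11), (12563283, 11), (10877799, 11), (8699391, 11), (14454399, 11), (12335935, 11), (16174743, 11),
   (16704627, 11), (16499635, 11), (15531489, 11), (14392999, 11), (16475979, 11), (16349549, 11), (14367327, 11), (12021555, 11),
   (14801403, 11), (13448895, 11), (13539309, 11), (10026655, 11), (16232025, 11), (15706679, 11), (9431539, 11), (13098439, 11),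
   (14341975, 11), (11238959, 11), (15302361, 11), (14626605, 11), (14008087, 11), (13549267, 11), (10481223, 11), (15984983, 11),
   (9297643, 11), (16054671, 11), (15439483, 11), (15673329, 11), (10321319, 11), (15933395, 11), (12482405, 11), (15825591, 11),
   (15113055, 11), (10397623, 11), (14404827, 11), (16698701, 11), (12120567, 11), (12495071, 11), (11371519, 11), (16745661, 11),
   (12373435, 11), (16162027, 11), (12240623, 11), (15572271, 11), (16361175, 11), (15252207, 11), (16395963, 11), (12545257, 11),
   (15945135, 11), (16406009, 11), (16539309, 11), (15546839, 11), (9379703, 11), (9862103, 11), (16638425, 11), (11401405, 11),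
   (14074367, 11), (12523435, 11), (14927837, 11), (14480701, 11), (16620187, 11), (14971901, 11), (16486863, 11), (11067261, 11),
   (14072509, 11), (11527835, 11), (15182317, 11), (15591021, 11), (14264767, 11), (11509209, 11), (9887535, 11), (15921883, 11),
   (13078459, 11), (13608287, 11), (10344799, 11), (10132475, 11), (16210141, 11), (15615807, 11), (16168405, 11), (12441143, 11),
   (14556575, 11), (12475995, 11), (16149103, 11), (11521957, 11), (13827507, 11), (16766657, 11), (15857521, 11), (15367027, 11),
   (13597413, 11), (10433021, 11), (13807567, 11), (12317789, 11), (16108349, 11), (10837919, 11), (14038907, 11), (11262679, 11),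
   (13037429, 11), (14676119, 11), (11991417, 11), (15192751, 11), (16216547, 11), (12713901, 11), (14399385, 11), (12451593, 11),
   (15973163, 11), (11269097, 11), (15408061, 11), (9338809, 11), (14122635, 11), (13166587, 11), (14531789, 11), (12291871, 11),
   (12415695, 11), (14757759, 11), (16650999, 11), (11300599, 11), (14101751, 11), (12535255, 11), (15666895, 11), (15520991, 11),
   (11426287, 11), (15767487, 11), (12367609, 11), (11906735, 11), (11773435, 11), (11916781, 11), (12184187, 11), (16425853, 11),
   (16415943, 11), (16469621, 11), (16673205, 11), (15686835, 11), (14569443, 11), (15292391, 11), (14172149, 11), (12533397, 11),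
   (15425791, 11), (12150717, 11), (16072121, 11), (12970719, 11), (15643067, 11), (15511453, 11), (10468411, 11), (12045259, 11),
   (14873967, 11), (14275325, 11), (12311907, 11), (15916005, 11), (10417611, 11), (15851087, 11), (12409841, 11), (15089575, 11),
   (10188531, 11), (12286363, 11), (15163241, 11), (14316463, 11), (16734983, 11), (15726667, 11), (11124659, 11), (9945057, 11),
   (11794311, 11), (14596455, 11), (16314151, 11), (16496881, 11), (15559595, 11), (13319659, 11), (10182605, 11), (15892253, 11),
   (16740921, 11), (9797245, 11), (14609179, 11), (10991421, 11), (14650325, 11), (11468055, 11), (14146163, 11), (13629219, 11),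
   (13868413, 11), (15169111, 11), (14508919, 11), (13425591, 11), (13950937, 11), (16692751, 11), (12251089, 11), (16251941, 11),
   (14285763, 11), (15449925, 11), (10222389, 11), (15203217, 11), (13454845, 11), (16101503, 11), (14544561, 11), (16756099, 11),
   (11136463, 11), (16632039, 11), (15371767, 11), (16524783, 11), (12131583, 11), (15655879, 11), (16181161, 11), (16381099, 11),
   (16355305, 11), (12238253, 11), (15585107, 11), (11515111, 11), (9555959, 11), (15101403, 11), (14636143, 11), (16272351, 11),
   (13966319, 11), (11155423, 11), (11931645, 11), (11957439, 11), (16074491, 11), (11855711, 11), (10411253, 11), (16569195, 11),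
   (15398581, 11), (13355887, 11), (16463159, 11), (16084933, 11), (11448171, 11), (9697519, 11), (11567083, 11), (15939309, 11),
   (13855737, 11), (15693197, 11), (14245691, 11), (16661449, 11), (10073967, 11), (11647965, 11), (10439359, 11), (15054795, 11),
   (9154301, 11), (9956765, 11), (16241947, 11), (12825591, 11), (9304021, 11), (15613053, 11), (16034803, 11), (15649529, 11),
   (13561007, 11), (11496285, 11), (12430709, 11), (12032439, 11), (14534543, 11), (16301403, 11), (12556909, 11), (10677183, 11),
   (13104377, 11), (9164223, 11), (10959611, 11), (8873967, 11), (13727199, 11), (16586589, 11), (11787961, 11), (13072703, 11),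
   (13587419, 11), (13401935, 11), (10996863, 11), (16714107, 11), (15066551, 11), (14521843, 11), (12361671, 11), (11714167, 11),
   (12051189, 11), (16196511, 11), (11367803, 11), (15048437, 11), (15789309, 11), (14448891, 11), (12506013, 11), (15007291, 11),
   (14656235, 11), (9934559, 11), (10471289, 11), (15716725, 11), (16626597, 11), (10120575, 11), (16014711, 11), (10934259, 11),
   (13956839, 11), (15392651, 11), (14351977, 11), (16509581, 11), (15461689, 11), (14670249, 11), (13332375, 11), (14924959, 11),
   (10301403, 11), (12008783, 11), (11752319, 11), (12266471, 11), (10714613, 11), (14112693, 11), (14152525, 11), (15332127, 11),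
   (13482873, 11), (9419663, 11), (8650587, 11), (8870478, 10), (12739422, 10), (13617794, 10), (11253002, 10), (14233830, 10),
   (11079636, 10), (9846068, 10), (12014226, 10), (14968674, 10), (11736476, 10), (11818808, 10), (8575350, 10), (13030100, 10),
   (13428246, 10), (10926126, 10), (10423388, 10), (12035094, 10), (11911538, 10), (13489316, 10), (14192530, 10), (12500032, 10),
   (16051472, 10), (16748578, 10), (11062242, 10), (12762340, 10), (9374696, 10), (14909758, 10), (12674804, 10), (14493076, 10),
   (10779058, 10), (9228792, 10), (12885646, 10), (10135130, 10), (11921484, 10), (11463048, 10), (8881652, 10), (14516588, 10),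
   (11049374, 10), (8822392, 10), (10316088, 10), (10412372, 10), (15063062, 10), (13534066, 10), (10155046, 10), (15846096, 10),
   (15639844, 10), (10082482, 10), (13186898, 10), (10956388, 10), (13863394, 10), (11195844, 10), (9129190, 10), (15799658, 10),
   (12063724, 10), (15899910, 10), (13047522, 10), (9988038, 10), (11185798, 10), (10594550, 10), (15492280, 10), (14486698, 10),
   (12193226, 10), (11689068, 10), (15876796, 10), (14407748, 10), (12153634, 10), (14900868, 10), (9647050, 10), (13890208, 10),
   (15329152, 10), (11221196, 10), (8605500, 10), (14053784, 10), (15554058, 10), (14166890, 10), (13129628, 10), (8551822, 10),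
   (9445214, 10), (11940444, 10), (14130320, 10), (9298762, 10), (16296388, 10), (11246644, 10), (9882544, 10), (14003080, 10),
   (9168926, 10), (13093208, 10), (13553934, 10), (15948080, 10), (12940166, 10), (9682444, 10), (13396944, 10), (13581318, 10),
   (10177362, 10), (13662924, 10), (15410716, 10), (12003792, 10), (10966310, 10), (12695886, 10), (15258930, 10), (13652978, 10),
   (15480516, 10), (10038838, 10), (9754006, 10), (10278476, 10), (15772190, 10), (10382482, 10), (16206914, 10), (14857100, 10),
   (9041464, 10), (14186774, 10), (15669840, 10), (13463644, 10), (11909680, 10), (10986402, 10), (8517090, 10), (13735876, 10),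
   (12105492, 10), (10103708, 10), (11946270, 10), (15093882, 10), (10605492, 10), (12892080, 10), (13163098, 10), (13544012, 10),
   (12233010, 10), (14631152, 10), (15486342, 10), (14294130, 10), (12470980, 10), (14838838, 10), (9497050, 10), (15176780, 10),
   (11858880, 10), (14792230, 10), (10068976, 10), (14979558, 10), (14198444, 10), (13524168, 10), (14306830, 10), (16410712, 10),
   (15681580, 10), (8744278, 10), (14094678, 10), (15104324, 10), (9485222, 10), (10729168, 10), (9824036, 10), (15839634, 10),
   (14582982, 10), (12110934, 10), (12342498, 10), (9380566, 10), (12029224, 10), (11719082, 10), (14735080, 10), (14423846, 10),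
   (9625282, 10), (15918660, 10), (15404834, 10), (10123744, 10), (9394580, 10), (11899662, 10), (10208916, 10), (13839642, 10),
   (12538184, 10), (14703406, 10), (13251320, 10), (9268876, 10), (12518196, 10), (16236932, 10), (10088844, 10), (12147228, 10),
   (15084344, 10), (11233968, 10), (15145354, 10), (15029712, 10), (8762092, 10), (8497054, 10), (9811288, 10), (13422376, 10),
   (13945670, 10), (15380566, 10), (9292404, 10), (13019542, 10), (12168344, 10), (12618748, 10), (14557246, 10), (11356378, 10),
   (10851514, 10), (12644542, 10), (13469400, 10), (10267918, 10), (11769946, 10), (12393746, 10), (10113246, 10), (14962268, 10),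
   (12775064, 10), (13437726, 10), (9320794, 10), (10784566, 10), (9875698, 10), (10864326, 10), (15249008, 10), (15608034, 10),
   (12423380, 10), (11574768, 10), (13386478, 10), (15387412, 10), (12464518, 10), (11587468, 10), (15905848, 10), (12436136, 10),
   (14724522, 10), (10196200, 10), (9672498, 10), (13584196, 10), (11644738, 10), (11776356, 10), (9804902, 10), (14272098, 10),
   (16398884, 10), (10444320, 10), (15887234, 10), (15430752, 10), (14240676, 10), (13776534, 10), (14313264, 10), (16611456, 10),
   (14786328, 10), (10400552, 10), (10615434, 10), (14868976, 10), (13384108, 10), (9117338, 10), (9858888, 10), (15953934, 10),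
   (15287160, 10), (8632760, 10), (8902536, 10), (13694730, 10), (9076308, 10), (11934562, 10), (12765094, 10), (14269728, 10),
   (13688372, 10), (13000466, 10), (14578242, 10), (15297094, 10), (11746466, 10), (9400490, 10), (12668874, 10), (14300492, 10),
   (14117396, 10), (12933816, 10), (9147228, 10), (8715036, 10), (13087258, 10), (9416464, 10), (9959682, 10), (15189552, 10),
   (14104680, 10), (12842260, 10), (14537488, 10), (11530756, 10), (12708658, 10), (13611456, 10), (9035526, 10), (12260934, 10),
   (11561844, 10), (15151284, 10), (9258930, 10), (13909442, 10), (12117352, 10), (15833260, 10), (11175864, 10), (15809620, 10),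
   (9792226, 10), (14886342, 10), (9514476, 10), (9198654, 10), (14027482, 10), (11428942, 10), (13715582, 10), (15598044, 10),
   (10463396, 10), (10734994, 10), (9246158, 10), (11580622, 10), (11634300, 10), (11837884, 10), (11038490, 10), (13510538, 10),
   (10661212, 10), (15533174, 10), (10226166, 10), (10886358, 10), (9734122, 10), (10341824, 10), (11128942, 10), (15758756, 10),
   (16324272, 10), (12332960, 10), (13257146, 10), (8598654, 10), (9782236, 10), (14955806, 10), (8951542, 10), (9744084, 10),
   (15503932, 10), (9218746, 10), (15633434, 10), (10405994, 10), (14862542, 10), (13288572, 10), (14469276, 10), (12376356, 10),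
   (9848438, 10), (14079328, 10), (16306822, 10), (16277312, 10), (10646246, 10), (13770664, 10), (12220040, 10), (9558888, 10),
   (13324854, 10), (9123748, 10), (9535376, 10), (16201472, 10), (13563952, 10), (15514370, 10), (9157218, 10), (8645572, 10),
   (13345970, 10), (13006380, 10), (14246554, 10), (15543624, 10), (10164526, 10), (10640344, 10), (11344550, 10), (16015574, 10),
   (9764008, 10), (15959690, 10), (14760928, 10), (11303528, 10), (12790446, 10), (9135576, 10), (13340044, 10), (8681178, 10),
   (13968974, 10), (12132702, 10), (10819964, 10), (8786878, 10), (16364104, 10), (11119404, 10), (8531954, 10), (12979566, 10),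
   (13673846, 10), (14445668, 10), (16451734, 10), (11099560, 10), (10946394, 10), (9728366, 10), (14750430, 10), (12362342, 10),
   (16436384, 10), (14107434, 10), (15233482, 10), (10501820, 10), (9905848, 10), (11888010, 10), (12835882, 10), (14336968, 10),
   (15928140, 10), (11170108, 10), (10048884, 10), (15997844, 10), (11417138, 10), (15110080, 10), (14804058, 10), (9256176, 10),
   (15043178, 10), (9085422, 10), (8510684, 10), (14059292, 10), (12382234, 10), (10129252, 10), (11729044, 10), (16458152, 10),
   (14827082, 10), (10183276, 10), (14772636, 10), (13571384, 10), (10247050, 10), (9099948, 10), (16388890, 10), (9640692, 10),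
   (10905492, 10), (8891594, 10), (13951608, 10), (15573134, 10), (9014650, 10), (9869772, 10), (10671646, 10), (14930754, 10),
   (13169508, 10), (13220500, 10), (14433816, 10), (12528138, 10), (10709354, 10), (10976280, 10), (8756178, 10), (14989528, 10),
   (9405998, 10), (16029266, 10), (14850738, 10), (9365216, 10), (13757574, 10), (16483664, 10), (13180524, 10), (11828742, 10),
   (15934066, 10), (11362788, 10), (12656054, 10), (10360784, 10), (10929004, 10), (15822376, 10), (13810512, 10), (9333542, 10),
   (12810450, 10), (8732458, 10), (9238726, 10), (12815958, 10), (14457568, 10), (16177672, 10), (15393322, 10), (13232360, 10),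
   (13850200, 10), (16540428, 10), (15284282, 10), (11411212, 10), (11699158, 10), (10372524, 10), (9684302, 10), (15782236, 10),
   (9066346, 10), (14817140, 10), (10252980, 10), (15019666, 10), (10429794, 10), (9658806, 10), (13982988, 10), (8828742, 10),
   (9564758, 10), (15049556, 10), (9285942, 10), (10503678, 10), (13899004, 10), (12322462, 10), (11977944, 10), (16041006, 10),
   (14218448, 10), (16616964, 10), (11223950, 10), (12615032, 10), (9888398, 10), (10149144, 10), (11293526, 10), (12860022, 10),
   (14069282, 10), (12312770, 10), (14798180, 10), (14324148, 10), (11329168, 10), (13299010, 10), (11025766, 10), (15732454, 10),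
   (12199156, 10), (10861956, 10), (12897522, 10), (13415530, 10), (10062542, 10), (15374696, 10), (16077412, 10), (15213494, 10),
   (9981688, 10), (16133260, 10), (12272698, 10), (16009704, 10), (15340718, 10), (8876912, 10), (11139408, 10), (13081380, 10),
   (13988914, 10), (9106322, 10), (12975680, 10), (14394118, 10), (15618976, 10), (13139618, 10), (14364352, 10), (12283140, 10),
   (11622854, 10), (12099114, 10), (11423088, 10), (14047398, 10), (15353554, 10), (13963120, 10), (13099110, 10), (13222358, 10),
   (12399660, 10), (11602874, 10), (10892776, 10), (9524910, 10), (15738840, 10), (10011454, 10), (13782484, 10), (16667668, 10),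
   (16534066, 10), (15135874, 10), (11000032, 10), (14619276, 10), (11789080, 10), (15069480, 10), (13210538, 10), (8961992, 10),
   (10531706, 10), (16400742, 10), (15227124, 10), (13504180, 10), (9779358, 10), (9949244, 10), (14992282, 10), (9352348, 10),
   (9817626, 10), (16163146, 10), (9426002, 10), (11376480, 10), (12502786, 10), (15792226, 10), (15434468, 10), (8973748, 10),
   (15351184, 10), (10293882, 10), (10759118, 10), (10810484, 10), (13992630, 10), (11314642, 10), (16285946, 10), (11308268, 10),
   (9604286, 10), (13059230, 10), (14435674, 10), (16521294, 10), (11143806, 10), (8808700, 10), (10058826, 10), (10575474, 10),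
   (14033892, 10), (13822252, 10), (15454360, 10), (11749344, 10), (12800492, 10), (10304324, 10), (11782694, 10), (13069728, 10),
   (14374274, 10), (10581836, 10), (13710140, 10), (11350936, 10), (16123314, 10), (8635130, 10), (12903884, 10), (13409620, 10),
   (10394134, 10), (10938962, 10), (11509880, 10), (16375860, 10), (15567280, 10), (9346466, 10), (11881652, 10), (8840506, 10),
   (14012618, 10), (15238990, 10), (10008700, 10), (10979996, 10), (16687760, 10), (11398178, 10), (14475682, 10), (15310018, 10),
   (16003754, 10), (11085546, 10), (15752346, 10), (16647784, 10), (12085422, 10), (14879992, 10), (9599546, 10), (15164104, 10),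
   (13198638, 10), (14227928, 10), (10838590, 10), (12919290, 10), (12356440, 10), (12752346, 10), (9185148, 10), (16156788, 10),
   (11452598, 10), (13118686, 10), (11807866, 10), (11993326, 10), (16581570, 10), (11709160, 10), (10740908, 10), (13747640, 10),
   (16553352, 10), (13335304, 10), (10697494, 10), (9899910, 10), (11695442, 10), (8675300, 10), (10804554, 10), (13800046, 10),
   (11068124, 10), (12954684, 10), (10453402, 10), (10335874, 10), (9925828, 10), (15812374, 10), (16527728, 10), (12243568, 10),
   (15002276, 10), (14334090, 10), (11259464, 10), (12822376, 10), (13314420, 10), (8767918, 10), (14259230, 10), (12412496, 10),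
   (16066854, 10), (11211250, 10), (14526546, 10), (11503942, 10), (11966116, 10), (11593394, 10), (16098528, 10), (12158374, 10),
   (15268876, 10), (12073682, 10), (16256316, 10), (12458168, 10), (10899114, 10), (13788394, 10), (16336076, 10), (12295040, 10),
   (10682144, 10), (9694320, 10), (14387768, 10), (15687954, 10), (13457762, 10), (13245382, 10), (14672904, 10), (16369930, 10),
   (11105430, 10), (9975226, 10), (11869896, 10), (11675438, 10), (11628792, 10), (15009708, 10), (13869276, 10), (11388188, 10),
   (13932858, 10), (11440842, 10), (8449646, 10), (14230649, 9), (15034481, 9), (13566375, 9), (8936915, 9), (14032453, 9),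
   (13983917, 9), (13760537, 9), (12671829, 9), (13513493, 9), (9271827, 9), (9620061, 9), (15130653, 9), (8884587, 9),
   (13207349, 9), (10271121, 9), (10984963, 9), (9626467, 9), (13472327, 9), (12297761, 9), (16456713, 9), (10576851, 9),
   (12924261, 9), (13740645, 9), (12900461, 9), (14201395, 9), (14310033, 9), (15625729, 9), (14379043, 9), (15419841, 9),
   (13262117, 9), (12598171, 9), (9385545, 9), (9530127, 9), (14853907, 9), (13175539, 9), (9317829, 9), (9657367, 9),
   (14807237, 9), (15218473, 9), (10042025, 9), (16126253, 9), (13689749, 9), (14965443, 9), (10787753, 9), (8566443, 9),
   (13195407, 9), (13242201, 9), (10385421, 9), (14895643, 9), (16278241, 9), (12208937, 9), (14842025, 9), (13321897, 9),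
   (14889305, 9), (11088501, 9), (8727477, 9), (8861075, 9), (9787203, 9), (15741767, 9), (10570477, 9), (12723645, 9),
   (8996447, 9), (13904221, 9), (10961337, 9), (8511869, 9), (12947869, 9), (9213723, 9), (12255961, 9), (10775853, 9),
   (9225575, 9), (13670615, 9), (11437653, 9), (9758775, 9), (15024463, 9), (13111679, 9), (9181917, 9), (11960891, 9),
   (11871081, 9), (12830901, 9), (13550993, 9), (14474243, 9), (13700765, 9), (8793631, 9), (9920603, 9), (15696649, 9),
   (11248021, 9), (8772913, 9), (14062467, 9), (11073091, 9), (11472927, 9), (8670075, 9), (10799573, 9), (13014071, 9),
   (13248103, 9), (10053845, 9), (13271711, 9), (12461337, 9), (11884587, 9), (12703379, 9), (14460737, 9), (16419395, 9),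
   (11200613, 9), (12394675, 9), (15060105, 9), (9023707, 9), (8752973, 9), (14986311, 9), (10190967, 9), (15311203, 9),
   (9017829, 9), (16319023, 9), (15950993, 9), (16598305, 9), (16259491, 9), (11149025, 9), (9596581, 9), (10589527, 9),
   (14693619, 9), (10290917, 9), (14832023, 9), (13391473, 9), (14428807, 9), (10793623, 9), (10805483, 9), (13147321, 9),
   (10391177, 9), (11725835, 9), (15974505, 9), (13201841, 9), (11813799, 9), (15212055, 9), (11937475, 9), (11381441, 9),
   (16558121, 9), (11241643, 9), (8572393, 9), (13816973, 9), (8608675, 9), (9118523, 9), (8747465, 9), (12785423, 9),
   (9991001, 9), (15022605, 9), (14687693, 9), (11801051, 9), (10753647, 9), (9446143, 9), (11330353, 9), (15636613, 9),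
   (12100491, 9), (11160733, 9), (14044217, 9), (13845191, 9), (9663785, 9), (15815561, 9), (8614557, 9), (13181901, 9),
   (8994077, 9), (9902873, 9), (13832379, 9), (12936985, 9), (8956759, 9), (8894549, 9), (8897303, 9), (12906835, 9),
   (9200031, 9), (12682479, 9), (9995741, 9), (11836445, 9), (10273491, 9), (11412141, 9), (15894937, 9), (11457577, 9),
   (12957859, 9), (13217291, 9), (11218003, 9), (9914725, 9), (11003201, 9), (13750567, 9), (15242193, 9), (9223717, 9),
   (9677459, 9), (10330653, 9), (10856731, 9), (13410549, 9), (9276567, 9), (14944447, 9), (8701629, 9), (13935771, 9),
   (12420171, 9), (15469413, 9), (12635423, 9), (10237015, 9), (13929893, 9), (12227731, 9), (11849313, 9), (15900839, 9),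
   (11126001, 9), (11741245, 9), (13978003, 9), (15603011, 9), (11637475, 9), (10528741, 9), (15223915, 9), (14289133, 9),
   (10032023, 9), (14706319, 9), (8916911, 9), (9583833, 9), (12011021, 9), (15753531, 9), (15536361, 9), (8560533, 9),
   (12917851, 9), (10355535, 9), (11715893, 9), (12797299, 9), (14438853, 9), (9036455, 9), (12692945, 9), (10458373, 9),
   (11590419, 9), (10643065, 9), (12982769, 9), (9328263, 9), (12629597, 9), (10365553, 9), (10971271, 9), (11341369, 9),
   (15171795, 9), (9282985, 9), (9543051, 9), (11704137, 9), (11596333, 9), (14787257, 9), (13404619, 9), (9083983, 9),
   (11094327, 9), (9725425, 9), (16061575, 9), (12060531, 9), (13153671, 9), (10542247, 9), (12866987, 9), (14161611, 9),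
   (12070477, 9), (11052095, 9), (16518353, 9), (12454951, 9), (11684083, 9), (15090917, 9), (12857065, 9), (14585945, 9),
   (11323919, 9), (12757115, 9), (13380915, 9), (10426563, 9), (10602283, 9), (13677033, 9), (15356493, 9), (13134397, 9),
   (13576345, 9), (9391371, 9), (13785419, 9), (10599529, 9), (9667501, 9), (14369053, 9), (9132153, 9), (15012659, 9),
   (9188323, 9), (8470215, 9), (9643861, 9), (11890965, 9), (11190619, 9), (11208045, 9), (15794677, 9), (11277749, 9),
   (9707187, 9), (11031227, 9), (15079065, 9), (8823769, 9), (14213199, 9), (15304797, 9), (9341245, 9), (8837275, 9),
   (13026891, 9), (16329489, 9), (11483425, 9), (14781319, 9), (9090417, 9), (9820805, 9), (15779267, 9), (14812139, 9),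
   (8942829, 9), (13601889, 9), (10144135, 9), (10684087, 9), (15804619, 9), (8481979, 9), (14091721, 9), (12080399, 9),
   (15735417, 9), (8976683, 9), (12819145, 9), (9103117, 9), (8629543, 9), (15830067, 9), (13460675, 9), (14224711, 9),
   (12196181, 9), (10902069, 9), (13001395, 9), (9421005, 9), (9561801, 9), (15836429, 9), (12161337, 9), (15549077, 9),
   (12988623, 9), (12568593, 9), (11391363, 9), (11114125, 9), (9482041, 9), (12038281, 9), (15345935, 9), (11546007, 9),
   (11998321, 9), (12960737, 9), (14729847, 9), (12202091, 9), (12275877, 9), (14700465, 9), (14562465, 9), (14740297, 9),
   (13348909, 9), (9030553, 9), (13024521, 9), (10211851, 9), (13484091, 9), (15578129, 9), (10324771, 9), (10664387, 9),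
   (8640101, 9), (9261869, 9), (9144259, 9), (9502021, 9), (15962645, 9), (10908427, 9), (12677739, 9), (11041669, 9),
   (12795441, 9), (10445697, 9), (14777603, 9), (14357345, 9), (9984615, 9), (12214807, 9), (10723919, 9), (15281317, 9),
   (10161585, 9), (11951489, 9), (15881763, 9), (12744641, 9), (14251525, 9), (9548981, 9), (13267995, 9), (14502473, 9),
   (11971333, 9), (10743859, 9), (13442945, 9), (10108675, 9), (11762241, 9), (14902053, 9), (14976377, 9), (10260655, 9),
   (16303641, 9), (11432145, 9), (12930599, 9), (16136211, 9), (11649183, 9), (10310809, 9), (10867289, 9), (13797105, 9),
   (13525353, 9), (12174149, 9), (14727477, 9), (9409201, 9), (8712067, 9), (13874243, 9), (10694537, 9), (9250927, 9),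
   (8587743, 9), (10822877, 9), (9766207, 9), (15994635, 9), (8817383, 9), (8578263, 9), (14009429, 9), (10350689, 9),
   (8803677, 9), (9737077, 9), (10249771, 9), (14867537, 9), (14598693, 9), (10764113, 9), (9908775, 9), (14489653, 9),
   (16114179, 9), (15118945, 9), (13282209, 9), (9174145, 9), (13881089, 9), (16445697, 9), (15325729, 9), (10816995, 9),
   (9573863, 9), (13649773, 9), (10637127, 9), (13791349, 9), (13925153, 9), (15413891, 9), (9006945, 9), (13842821, 9),
   (11228945, 9), (12886831, 9), (13518935, 9), (11896721, 9), (11842851, 9), (15124771, 9), (13291747, 9), (13160133, 9),
   (14330901, 9), (11317581, 9), (8493631, 9), (9061365, 9), (12876949, 9), (14616083, 9), (12347715, 9), (14882919, 9),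
   (15142165, 9), (8758899, 9), (9806279, 9), (15230293, 9), (11811045, 9), (13683371, 9), (15377609, 9), (10079277, 9),
   (11082571, 9), (8534893, 9), (14295507, 9), (11361349, 9), (13765431, 9), (9713549, 9), (11613723, 9), (9058487, 9),
   (8867537, 9), (14050567, 9), (16339027, 9), (13052739, 9), (9138503, 9), (12137921, 9), (11607845, 9), (11678641, 9),
   (10843809, 9), (13707171, 9), (12847063, 9), (10522331, 9), (9872493, 9), (16000565, 9), (9747019, 9), (9096755, 9),
   (14084289, 9), (15451143, 9), (14207345, 9), (8442831, 9), (10098237, 9), (16139089, 9), (15495207, 9), (12995469, 9),
   (9613599, 9), (15871329, 9), (12610023, 9), (13309141, 9), (10243861, 9), (9866579, 9), (11980871, 9), (8778767, 9),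
   (10067537, 9), (11485795, 9), (13646895, 9), (13659731, 9), (16719941, 9), (11659681, 9), (14914977, 9), (10016673, 9),
   (15777409, 9), (11569519, 9), (14173367, 9), (15271323, 9), (10231145, 9), (11672207, 9), (11020793, 9), (8854701, 9),
   (9586587, 9), (16020553, 9), (13730651, 9), (14822101, 9), (9397301, 9), (14125071, 9), (13084293, 9), (10085651, 9),
   (16095553, 9), (11178791, 9), (8452849, 9), (9307387, 9), (9718991, 9), (9799929, 9), (10913167, 9), (9491579, 9),
   (16024269, 9), (12379269, 9), (14320939, 9), (12114121, 9), (14847533, 9), (10150073, 9), (15489305, 9), (13507115, 9),
   (9071307, 9), (12807245, 9), (15860831, 9), (12337277, 9), (16044209, 9), (11556565, 9), (12388749, 9), (10624315, 9),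
   (9851625, 9), (10201417, 9), (10737933, 9), (12768057, 9), (13431433, 9), (12171271, 9), (10718065, 9), (8843685, 9),
   (15475291, 9), (10923185, 9), (9946275, 9), (12837259, 9), (13227337, 9), (14195469, 9), (11188761, 9), (8907305, 9),
   (12144259, 9), (9841067, 9), (10704075, 9), (10564015, 9), (8460281, 9), (14183817, 9), (10516575, 9), (13042301, 9),
   (14496011, 9), (10375475, 9), (9687505, 9), (14997253, 9), (11406227, 9), (8813667, 9), (12623715, 9), (10138309, 9),
   (10612245, 9), (14131505, 9), (10167439, 9), (11619673, 9), (11864663, 9), (10887543, 9), (8737015, 9), (16290917, 9),
   (12094133, 9), (16662667, 9), (10548633, 9), (13997609, 9), (9460157, 9), (13914655, 9), (9893393, 9), (9362241, 9),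
   (12777991, 9), (13361745, 9), (13494533, 9), (13342995, 9), (9235545, 9), (16548119, 9), (11311219, 9), (15500963, 9),
   (10005731, 9), (11766981, 9), (12485089, 9), (15253933, 9), (16265373, 9), (11823769, 9), (15148075, 9), (10043883, 9),
   (11625575, 9), (12090417, 9), (16190113, 9), (11167139, 9), (13720801, 9), (16385925, 9), (15263891, 9), (11290569, 9),
   (10653949, 9), (14418873, 9), (11287691, 9), (9637483, 9), (11690445, 9), (14767165, 9), (13972177, 9), (11347719, 9),
   (9517427, 9), (10949573, 9), (8419127, 9), (9610624, 8), (8490656, 8), (12871690, 8), (13303882, 8), (8931660, 8),
   (9589508, 8), (14709264, 8), (8796800, 8), (8555274, 8), (9045270, 8), (11797828, 8), (11538486, 8), (8541360, 8),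
   (13911680, 8), (16262146, 8), (11654144, 8), (12726562, 8), (8999616, 8), (10687016, 8), (13721920, 8), (8484900, 8),
   (12780432, 8), (9204992, 8), (8414120, 8), (12720156, 8), (8474906, 8), (8721940, 8), (9708306, 8), (8834052, 8),
   (8464984, 8), (11282452, 8), (8849458, 8), (12849992, 8), (8561204, 8), (8773776, 8), (12944642, 8), (9998658, 8),
   (10525252, 8), (9055272, 8), (10305542, 8), (14682450, 8), (10748656, 8), (8660134, 8), (13009064, 8), (8963210, 8),
   (13667400, 8), (8581192, 8), (9158944, 8), (15274244, 8), (8919856, 8), (9721936, 8), (15073798, 8), (8937586, 8),
   (9323032, 8), (8855820, 8), (9537812, 8), (10916112, 8), (12685424, 8), (9208708, 8), (12222476, 8), (8611330, 8),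
   (8592704, 8), (10825794, 8), (8455014, 8), (13829156, 8), (12075408, 8), (14949408, 8), (10093218, 8), (10513600, 8),
   (10232008, 8), (10537016, 8), (12661896, 8), (10028808, 8), (12594948, 8), (9578566, 8), (10698836, 8), (12861748, 8),
   (13373586, 8), (9568632, 8), (10768524, 8), (8925710, 8), (11669008, 8), (8798658, 8), (8426796, 8), (9474712, 8),
   (10790408, 8), (12584506, 8), (12733024, 8), (13262980, 8), (11548936, 8), (9310308, 8), (8407702, 8), (12985424, 8),
   (12698124, 8), (13148440, 8), (9279496, 8), (10170384, 8), (10832640, 8), (8622214, 8), (8439632, 8), (13938692, 8),
   (11108882, 8), (8694112, 8), (8683614, 8), (9486564, 8), (14714004, 8), (10257456, 8), (9652360, 8), (14828808, 8),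
   (8401364, 8), (11015256, 8), (9701932, 8), (13811730, 8), (15515712, 8), (13142054, 8), (9078992, 8), (9456930, 8),
   (15864000, 8), (11028004, 8), (13641904, 8), (11469952, 8), (12912836, 8), (9543722, 8), (10584520, 8), (8436754, 8),
   (9178690, 8), (11831426, 8), (10650722, 8), (12604486, 8), (14156372, 8), (11952160, 8), (14762146, 8), (13108704, 8),
   (9929280, 8), (10543366, 8), (9968772, 8), (8654232, 8), (9835530, 8), (11551306, 8), (14688364, 8), (8978620, 8),
   (8704546, 8), (12638592, 8), (13276672, 8), (13703682, 8), (11150144, 8), (12624578, 8), (9020484, 8), (12126304, 8),
   (10619300, 8), (14919680, 8), (13443616, 8), (8989058, 8), (10554382, 8), (9503954, 8), (15762208, 8), (11055264, 8),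
   (14176296, 8), (15207048, 8), (10625178, 8), (8733800, 8), (13631886, 8), (10021376, 8), (13192208, 8), (14551296, 8),
   (11163650, 8), (9451104, 8), (11608708, 8), (10560816, 8), (9769376, 8), (10491778, 8), (8521420, 8), (9462812, 8),
   (16056344, 8), (11272490, 8), (8394986, 8), (13062145, 7), (13124355, 7), (13121601, 7), (13636881, 7), (12325377, 7),
   (10496547, 7), (8546577, 7), (8657159, 7), (9471495, 7), (11575377, 7), (8688833, 7), (14716939, 7), (8946281, 7),
   (10110017, 7), (15747077, 7), (15335473, 7), (9193633, 7), (12717187, 7), (10506593, 7), (12587685, 7), (8412681, 7),
   (13771273, 7), (11100169, 7), (8524371, 7), (8783649, 7), (9776129, 7), (8505411, 7), (12747077, 7), (8983587, 7),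
   (9465987, 7), (14747201, 7), (9969957, 7), (10557585, 7), (11535529, 7), (10630149, 7), (9440193, 7), (8922769, 7),
   (10881097, 7), (8536111, 7), (12599513, 7), (12650793, 7), (9048457, 7), (8499969, 7), (9112069, 7), (11731203, 7),
   (8593633, 7), (8471941, 7), (9506893, 7), (10486557, 7), (8663097, 7), (8716939, 7), (8398155, 7), (9748745, 7),
   (8966165, 7), (12880401, 7), (9347075, 7), (8619033, 7), (12656663, 7), (9240913, 7), (10846245, 7), (8675909, 7),
   (9607201, 7), (10666625, 7), (12641313, 7), (14254209, 7), (11046145, 7), (9519665, 7), (14950785, 7), (8431757, 7),
   (8421811, 7), (13370381, 7), (9963547, 7), (9830549, 7), (10765331, 7), (13893731, 7), (11010247, 7), (8391797, 7),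
   (7728758, 6), (8364534, 6), (8252844, 6), (2523006, 6), (5677046, 6), (6219630, 6), (7993566, 6), (7854446, 6),
   (7001086, 6), (8114118, 6), (3896814, 6), (7430140, 6), (8271804, 6), (4030138, 6), (7270322, 6), (6147066, 6),
   (7257550, 6), (1826430, 6), (7793628, 6), (7311228, 6), (2030014, 6), (6807258, 6), (6270622, 6), (4189530, 6),
   (3005942, 6), (8277246, 6), (7665146, 6), (8230638, 6), (8060276, 6), (8158182, 6), (4126422, 6), (8101306, 6),
   (4120552, 6), (7536302, 6), (8120056, 6), (8345458, 6), (6813668, 6), (6290658, 6), (8379060, 6), (5766968, 6),
   (8385418, 6), (6946666, 6), (6011884, 6), (5896118, 6), (5930970, 6), (8355404, 6), (8088382, 6), (7305720, 6),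
   (2883484, 6), (6110590, 6), (4135902, 6), (5731070, 6), (7170014, 6), (3715070, 6), (3652860, 6), (3655614, 6),
   (7028470, 6), (7811050, 6), (7337022, 6), (8241104, 6), (5046012, 6), (8183582, 6), (8305274, 6), (3140334, 6),
   (4451838, 6), (6280668, 6), (5241686, 6), (4177702, 6), (3406834, 6), (5201838, 6), (2060276, 6), (7830934, 6),
   (1441742, 6), (7583582, 6), (4060028, 6), (6667198, 6), (1030138, 6), (6263615, 5), (8382229, 5), (4554739, 5),
   (2948059, 5), (4701807, 5), (6008691, 5), (4192709, 5), (5613565, 5), (4044191, 5), (3514235, 5), (4115319, 5),
   (6748407, 5), (5228279, 5), (7466907, 5), (8369513, 5), (3791791, 5), (3927223, 5), (6251963, 5), (8216011, 5),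
   (8003439, 5), (6240199, 5), (3768151, 5), (7007839, 5), (4079091, 5), (3628775, 5), (7497719, 5), (6285437, 5),
   (8255795, 5), (7208583, 5), (4050653, 5), (4182267, 5), (7198649, 5), (6078379, 5), (3915467, 5), (6606831, 5),
   (5944575, 5), (8155001, 5), (8337583, 5), (2838523, 5), (5668333, 5), (8083103, 5), (8093601, 5), (720871, 5),
   (5504725, 5), (7290651, 5), (2063211, 5), (6519759, 5), (6683997, 5), (7124855, 5), (1948407, 5), (8184511, 5),
   (8322201, 5), (8375851, 5), (7814005, 5), (8043415, 5), (3145329, 5), (5761959, 5), (7075283, 5), (8363095, 5),
   (4057059, 5), (7921395, 5), (8302309, 5), (8055275, 5), (7068909, 5), (3403629, 5), (5986807, 5), (7698223, 5),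
   (7943163, 5), (2965485, 5), (1261503, 5), (3635161, 5), (8196023, 5), (1502971, 5), (7857359, 5), (7314403, 5),
   (7055279, 5), (1703417, 5), (7166591, 5), (5951421, 5), (5123071, 5), (1015007, 5), (5721951, 5), (8286559, 5),
   (6778557, 5), (7320285, 5), (913215, 5), (5749211, 5), (3135311, 5), (7978557, 5), (8350419, 5), (7302503, 5),
   (7454183, 5), (3905525, 5), (3473333, 5), (7845555, 5), (7187707, 5), (2067951, 5), (7980415, 5), (8221941, 5),
   (7326111, 5), (5168507, 5), (6216399, 5), (3109815, 5), (7839629, 5), (3864379, 5), (7731945, 5), (6755839, 5),
   (1857535, 5), (4091791, 5), (3333599, 5), (7788157, 5), (6545207, 5), (6222833, 5), (7721943, 5), (6471673, 5),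
   (2094765, 5), (6028559, 5), (8117081, 5), (7273261, 5), (4979387, 5), (5238729, 5), (3585007, 5), (2225919, 5),
   (7568507, 5), (8340461, 5), (6847935, 5), (6233849, 5), (7598525, 5), (4945789, 5), (6126493, 5), (2015069, 5),
   (3668511, 5), (6808443, 5), (2600919, 5), (1570167, 5), (6152037, 5), (5307263, 5), (7233493, 5), (6192695, 5),
   (2088851, 5), (7798595, 5), (8122983, 5), (6941685, 5), (5225909, 5), (7239403, 5), (5861103, 5), (8072669, 5),
   (4172729, 5), (2620843, 5), (5108207, 5), (4825055, 5), (7618271, 5), (4138623, 5), (3500543, 5), (8165885, 5),
   (3055295, 5), (8292315, 5), (7777599, 5), (6090199, 5), (3996783, 5), (7572223, 5), (3073533, 5), (5627071, 5),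
   (7851505, 5), (8312231, 5), (5494763, 5), (7927757, 5), (3832573, 5), (1827807, 5), (4152637, 5), (7756731, 5),
   (4650911, 5), (6157915, 5), (8235855, 5), (2865535, 5), (515069, 5), (999806, 4), (4479454, 4), (5117534, 4),
   (6023568, 4), (2980110, 4), (3251862, 4), (3581808, 4), (7089710, 4), (1779962, 4), (6638906, 4), (2593398, 4),
   (320502, 4), (4568278, 4), (3991792, 4), (8307000, 4), (7133354, 4), (5559212, 4), (6862490, 4), (1945192, 4),
   (6073140, 4), (4906134, 4), (6213200, 4), (8316934, 4), (7063666, 4), (5163492, 4), (6956410, 4), (997948, 4),
   (7834386, 4), (1041798, 4), (3775820, 4), (3428306, 4), (7746662, 4), (3752694, 4), (6565364, 4), (2036918, 4),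
   (6260640, 4), (5586596, 4), (5499466, 4), (7070028, 4), (7435970, 4), (7939940, 4), (3750324, 4), (2525690, 4),
   (447726, 4), (5293790, 4), (2767786, 4), (1923308, 4), (6426526, 4), (1995896, 4), (7686798, 4), (6970936, 4),
   (1276252, 4), (5319638, 4), (3093844, 4), (1399606, 4), (6697938, 4), (5415866, 4), (3011784, 4), (2726648, 4),
   (438188, 4), (1307802, 4), (7718728, 4), (7909678, 4), (1174204, 4), (6248474, 4), (114548, 4), (1553300, 4),
   (2488082, 4), (3852954, 4), (6745192, 4), (4766194, 4), (1023684, 4), (1240854, 4), (6421680, 4), (6771484, 4),
   (5010234, 4), (5061322, 4), (5489524, 4), (7139732, 4), (3979916, 4), (2338362, 4), (5805944, 4), (1605420, 4),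
   (7494230, 4), (7234164, 4), (5073078, 4), (5180882, 4), (1989958, 4), (7051790, 4), (715640, 4), (4716684, 4),
   (1686298, 4), (6350652, 4), (7295174, 4), (4738934, 4), (6174932, 4), (3100182, 4), (1862238, 4), (6760542, 4),
   (1420722, 4), (3642818, 4), (3200870, 4), (5035970, 4), (5815878, 4), (4966170, 4), (6093128, 4), (972596, 4),
   (5365074, 4), (8295236, 4), (2685494, 4), (3575374, 4), (3334270, 4), (7030196, 4), (6053296, 4), (8265346, 4),
   (3829346, 4), (486298, 4), (498974, 4), (1495898, 4), (6615630, 4), (4825726, 4), (8334384, 4), (4147618, 4),
   (6446562, 4), (5920484, 4), (7892628, 4), (1558742, 4), (6735190, 4), (1881572, 4), (5139740, 4), (3455318, 4),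
   (1887910, 4), (6830940, 4), (3549878, 4), (5688714, 4), (8049738, 4), (7916140, 4), (1472418, 4), (4382540, 4),
   (752946, 4), (6627142, 4), (1717110, 4), (5909926, 4), (3890384, 4), (7753508, 4), (8024242, 4), (4963416, 4),
   (2083596, 4), (3920150, 4), (4020100, 4), (6668540, 4), (6140088, 4), (2985866, 4), (1228138, 4), (3396300, 4),
   (882278, 4), (7577184, 4), (6977286, 4), (5864048, 4), (6781474, 4), (4940770, 4), (7860304, 4), (7193382, 4),
   (5304288, 4), (8107140, 4), (3505504, 4), (3076450, 4), (4315878, 4), (5977642, 4), (3763144, 4), (6503724, 4),
   (1790904, 4), (6586248, 4), (5774014, 4), (3859364, 4), (8018316, 4), (1513324, 4), (3175326, 4), (2862560, 4),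
   (8216682, 4), (6883822, 4), (663036, 4), (1466012, 4), (7759386, 4), (5207696, 4), (2603848, 4), (6200364, 4),
   (5756422, 4), (7922514, 4), (7190628, 4), (756662, 4), (458192, 4), (1357374, 4), (3515098, 4), (1035448, 4),
   (2872994, 4), (7018440, 4), (3946314, 4), (3226222, 4), (2302972, 4), (5704124, 4), (357820, 4), (5576602, 4),
   (517724, 4), (5628190, 4), (7180634, 4), (826222, 4), (178910, 4), (1754610, 4), (3026648, 4), (1535022, 4),
   (7553498, 4), (7099756, 4), (7385844, 4), (2991796, 4), (5014974, 4), (1875162, 4), (2934394, 4), (5548270, 4),
   (3270100, 4), (7705908, 4), (3969970, 4), (3434220, 4), (2805038, 4), (5429496, 4), (7259788, 4), (5827642, 4),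
   (8358088, 4), (2049738, 4), (2348408, 4), (1287910, 4), (5983592, 4), (4816324, 4), (5971732, 4), (3629894, 4),
   (6386038, 4), (5051380, 4), (1935190, 4), (4179044, 4), (7391670, 4), (6059150, 4), (5960220, 4), (4094736, 4),
   (2070896, 4), (2546566, 4), (2581746, 4), (4562408, 4), (1742734, 4), (3210840, 4), (7840300, 4), (2744762, 4),
   (7632956, 4), (5569170, 4), (8147672, 4), (2552504, 4), (4839740, 4), (5151640, 4), (982538, 4), (2793298, 4),
   (6786214, 4), (4581034, 4), (5875146, 4), (2714748, 4), (1080566, 4), (7800532, 4), (3958070, 4), (7674098, 4),
   (3016678, 4), (4696816, 4), (5220650, 4), (6152900, 4), (6925590, 4), (6039282, 4), (4009158, 4), (2932024, 4),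
   (6082678, 4), (7113430, 4), (3724476, 4), (7638712, 4), (4105386, 4), (3263722, 4), (7505388, 4), (6733332, 4),
   (5086770, 4), (2010050, 4), (2358342, 4), (7368014, 4), (8065148, 4), (4683082, 4), (5854030, 4), (3372596, 4),
   (7693232, 4), (7157154, 4), (1646562, 4), (6506094, 4), (5792252, 4), (7150748, 4), (1969978, 4), (3569866, 4),
   (5588454, 4), (1546922, 4), (2287562, 4), (5370988, 4), (7963548, 4), (5385852, 4), (4153500, 4), (2564016, 4),
   (3056414, 4), (391290, 4), (4686798, 4), (7658692, 4), (6723370, 4), (1635050, 4), (6401740, 4), (1811772, 4),
   (3529112, 4), (3734914, 4), (6164970, 4), (2645710, 4), (6228582, 4), (2779606, 4), (2852062, 4), (3999224, 4),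
   (3415470, 4), (3282682, 4), (4892628, 4), (7933530, 4), (4073836, 4), (2316478, 4), (4605944, 4), (7595298, 4),
   (7983584, 4), (6910636, 4), (4796344, 4), (2047368, 4), (4603066, 4), (4501338, 4), (2076750, 4), (2214750, 4),
   (4632956, 4), (905886, 4), (2799212, 4), (5745988, 4), (7317058, 4), (1698150, 4), (8029750, 4), (5459634, 4),
   (8283584, 4), (7953446, 4), (7998448, 4), (1565160, 4), (6411662, 4), (4208622, 4), (1652444, 4), (3788592, 4),
   (7780768, 4), (6486298, 4), (5231208, 4), (4778894, 4), (2274742, 4), (4805882, 4), (6033356, 4), (3816478, 4),
   (3623544, 4), (6709678, 4), (3781746, 4), (7163616, 4), (3468074, 4), (6533354, 4), (641004, 4), (5291420, 4),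
   (4167192, 4), (5616482, 4), (8189472, 4), (5954338, 4), (7011008, 4), (4976164, 4), (6123266, 4), (8075586, 4),
   (5435846, 4), (6936148, 4), (7356210, 4), (4141792, 4), (2191270, 4), (5453296, 4), (8040200, 4), (3930152, 4),
   (6540200, 4), (4912552, 4), (5889672, 4), (1800838, 4), (3366666, 4), (7500648, 4), (1832768, 4), (2841444, 4),
   (4357044, 4), (4927902, 4), (876376, 4), (5651214, 4), (2847322, 4), (4549484, 4), (3665536, 4), (776650, 4),
   (7680460, 4), (2692926, 4), (1326072, 4), (5169370, 4), (5098574, 4), (5933406, 4), (3070044, 4), (4639294, 4),
   (3258280, 4), (1752752, 4), (7228234, 4), (4880494, 4), (4934364, 4), (3485468, 4), (3617082, 4), (4388466, 4),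
   (5128032, 4), (1965076, 4), (4053570, 4), (6466406, 4), (782580, 4), (4575124, 4), (6206738, 4), (7588892, 4),
   (2456276, 4), (4663094, 4), (1929682, 4), (3846616, 4), (2481708, 4), (5663090, 4), (4521254, 4), (6001362, 4),
   (2944836, 4), (5486646, 4), (3130320, 4), (2902972, 4), (1363324, 4), (7770270, 4), (1894296, 4), (7715850, 4),
   (6609776, 4), (5157542, 4), (650962, 4), (7247088, 4), (7459386, 4), (7119848, 4), (6990012, 4), (3876754, 4),
   (2575820, 4), (2467182, 4), (1151486, 4), (3293124, 4), (1199086, 4), (6452444, 4), (6112828, 4), (8137114, 4),
   (3087466, 4), (6516560, 4), (8204822, 4), (2960242, 4), (473574, 4), (5345070, 4), (940786, 4), (4615878, 4),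
   (5989462, 4), (8210772, 4), (3535014, 4), (6391794, 4), (961654, 4), (895452, 4), (8168540, 4), (4032574, 4),
   (2281204, 4), (5694644, 4), (8242322, 4), (8162658, 4), (587102, 4), (7869910, 4), (3939956, 4), (5868788, 4),
   (4099476, 4), (3595314, 4), (7783138, 4), (6874342, 4), (3840230, 4), (6856612, 4), (5529194, 4), (8004302, 4),
   (7331072, 4), (2732998, 4), (3870380, 4), (3304888, 4), (7820456, 4), (7882666, 4), (7879912, 4), (3316540, 4),
   (1140602, 4), (4676724, 4), (6177686, 4), (6254884, 4), (6904722, 4), (2569870, 4), (638126, 4), (1282008, 4),
   (3601676, 4), (802710, 4), (1523282, 4), (7203352, 4), (3127442, 4), (511842, 4), (5610076, 4), (2089522, 4),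
   (6678978, 4), (4953446, 4), (1629140, 4), (3046564, 4), (6792600, 4), (1955114, 4), (7379914, 4), (2652144, 4),
   (6691564, 4), (681662, 4), (7469828, 4), (7058224, 4), (7285636, 4), (3385742, 4), (1658270, 4), (7740760, 4),
   (4084270, 4), (6318842, 4), (5186796, 4), (2446314, 4), (3900266, 4), (2161132, 4), (4429500, 4), (7563492, 4),
   (7551640, 4), (3106600, 4), (5339562, 4), (1301924, 4), (7526288, 4), (4397946, 4), (947148, 4), (4292126, 4),
   (6234968, 4), (4706738, 4), (5725120, 4), (258862, 4), (4322264, 4), (5093132, 4), (3910228, 4), (2615604, 4),
   (7973538, 4), (6187688, 4), (7040138, 4), (6527444, 4), (6633080, 4), (1909678, 4), (2178522, 4), (6868440, 4),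
   (7603070, 4), (2896126, 4), (331518, 4), (3036570, 4), (2398172, 4), (3981774, 4), (6331518, 4), (1999612, 4),
   (2419870, 4), (5735546, 4), (3509220, 4), (6013102, 4), (7541670, 4), (229096, 4), (5465996, 4), (7959832, 4),
   (8198952, 4), (5395774, 4), (219094, 4), (5535572, 4), (1505892, 4), (6546070, 4), (5105008, 4), (6134150, 4),
   (7215414, 4), (1451486, 4), (3495006, 4), (1431280, 4), (7645062, 4), (7109714, 4), (2408162, 4), (4886250, 4),
   (1764556, 4), (7414974, 4), (5598424, 4), (8324366, 4), (3692922, 4), (7515346, 4), (7275194, 4), (814570, 4),
   (5446862, 4), (3819356, 4), (916384, 4), (4439938, 4), (733006, 4), (3345782, 4), (3559924, 4), (6575798, 4),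
   (5682888, 4), (3794446, 4), (7448952, 4), (3117484, 4), (57274, 4), (7885621, 3), (7092913, 3), (1890873, 3),
   (6728331, 3), (6877305, 3), (5081773, 3), (699803, 3), (6095071, 3), (2887007, 3), (1448063, 3), (4855731, 3),
   (1137371, 3), (6694733, 3), (4713491, 3), (4583989, 3), (5088147, 3), (900419, 3), (7130165, 3), (8171715, 3),
   (2723431, 3), (1223157, 3), (2610325, 3), (5556019, 3), (3917193, 3), (7396649, 3), (4747991, 3), (4132673, 3),
   (2343399, 3), (8062179, 3), (3367595, 3), (6383081, 3), (5838253, 3), (3678105, 3), (3554857, 3), (4377555, 3),
   (5174341, 3), (1538225, 3), (4578059, 3), (767511, 3), (1436497, 3), (2412863, 3), (4494075, 3), (5154361, 3),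
   (7252305, 3), (1038375, 3), (6768515, 3), (109547, 3), (243149, 3), (3976723, 3), (3647587, 3), (4836771, 3),
   (7478453, 3), (480827, 3), (5530571, 3), (6894671, 3), (1641341, 3), (7815223, 3), (937581, 3), (5400735, 3),
   (1342747, 3), (7803467, 3), (5462573, 3), (491269, 3), (5468947, 3), (7172929, 3), (2341541, 3), (255921, 3),
   (5633409, 3), (7968515, 3), (3717985, 3), (7874679, 3), (3082485, 3), (413111, 3), (7332001, 3), (5890857, 3),
   (6928777, 3), (4249077, 3), (6042221, 3), (2697887, 3), (2794227, 3), (7212457, 3), (6332895, 3), (6817533, 3),
   (1846461, 3), (3607707, 3), (5360077, 3), (1667135, 3), (6622169, 3), (843149, 3), (3707487, 3), (2402941, 3),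
   (499903, 3), (378331, 3), (5543247, 3), (2907939, 3), (5777183, 3), (1707735, 3), (3566677, 3), (3114291, 3),
   (1366499, 3), (6461127, 3), (1631861, 3), (2389447, 3), (2659819, 3), (1089261, 3), (5915259, 3), (3879693, 3),
   (3361685, 3), (6714673, 3), (1563721, 3), (6795527, 3), (643955, 3), (4504517, 3), (849075, 3), (6984989, 3),
   (89455, 3), (5314167, 3), (3941333, 3), (3590317, 3), (2301533, 3), (2440247, 3), (1508339, 3), (2353369, 3),
   (4703533, 3), (5820827, 3), (7118409, 3), (1747503, 3), (3437171, 3), (6628071, 3), (5483689, 3), (4811099, 3),
   (5183821, 3), (1518285, 3), (3124237, 3), (1296699, 3), (5068055, 3), (7371217, 3), (7280165, 3), (1600435, 3),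
   (1984985, 3), (6708239, 3), (1095635, 3), (3520069, 3), (3253047, 3), (6245509, 3), (8015123, 3), (8280161, 3),
   (6965927, 3), (773461, 3), (4918335, 3), (1402519, 3), (7677267, 3), (4002151, 3), (7456421, 3), (5992649, 3),
   (6901517, 3), (6195379, 3), (3067075, 3), (5426279, 3), (5797219, 3), (3822531, 3), (6323813, 3), (5389027, 3),
   (3103369, 3), (4353835, 3), (6275395, 3), (7578561, 3), (2749733, 3), (5348273, 3), (5202447, 3), (340831, 3),
   (1543733, 3), (3596691, 3), (6673507, 3), (4830945, 3), (1683333, 3), (3390737, 3), (871367, 3), (4341079, 3),
   (2590441, 3), (4948473, 3), (7430749, 3), (7151933, 3), (7710869, 3), (1960075, 3), (747949, 3), (7411999, 3),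
   (3019641, 3), (1926477, 3), (5607107, 3), (3843399, 3), (3266677, 3), (6718389, 3), (6201741, 3), (2743323, 3),
   (6364843, 3), (1714153, 3), (3885135, 3), (6441341, 3), (2443125, 3), (5517751, 3), (2954963, 3), (1322855, 3),
   (3354839, 3), (7700907, 3), (4842653, 3), (6130969, 3), (5677655, 3), (3006551, 3), (2536539, 3), (823281, 3),
   (6972313, 3), (2505117, 3), (1346463, 3), (575743, 3), (4623581, 3), (2016287, 3), (7653467, 3), (7241839, 3),
   (7906737, 3), (4037793, 3), (4671723, 3), (4867535, 3), (3213263, 3), (3159421, 3), (1490055, 3), (1625931, 3),
   (4644513, 3), (4895563, 3), (7936709, 3), (2764597, 3), (1920115, 3), (7735751, 3), (2774135, 3), (5524213, 3),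
   (8044757, 3), (3961257, 3), (3544855, 3), (1492933, 3), (6524235, 3), (1757549, 3), (6347421, 3), (2707933, 3),
   (4464445, 3), (1979035, 3), (2543385, 3), (5697579, 3), (6931147, 3), (4557175, 3), (954839, 3), (319063, 3),
   (5810905, 3), (5790813, 3), (8260125, 3), (3041339, 3), (6593939, 3), (2004579, 3), (4773423, 3), (8009297, 3),
   (4024869, 3), (2026785, 3), (7592067, 3), (6997857, 3), (5709091, 3), (7691793, 3), (520899, 3), (4319047, 3),
   (6116003, 3), (6827971, 3), (1784933, 3), (7424867, 3), (6959589, 3), (653901, 3), (4434717, 3), (5058133, 3),
   (2042135, 3), (7619997, 3), (1372381, 3), (6653471, 3), (2073809, 3), (3525895, 3), (1692871, 3), (3757673, 3),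
   (7351213, 3), (2831545, 3), (1396649, 3), (7484811, 3), (8096037, 3), (5727841, 3), (7954823, 3), (3243149, 3),
   (7538489, 3), (4666281, 3), (620427, 3), (5324617, 3), (4454753, 3), (4969349, 3), (4783889, 3), (195645, 3),
   (6036307, 3), (3029575, 3), (223863, 3), (4678101, 3), (7741689, 3), (4516281, 3), (5215371, 3), (3891569, 3),
   (6642085, 3), (2331547, 3), (325481, 3), (5354127, 3), (2729817, 3), (1423661, 3), (5884439, 3), (1613111, 3),
   (1587663, 3), (3165759, 3), (5657811, 3), (8144455, 3), (3313571, 3), (3339489, 3), (4742121, 3), (4414873, 3),
   (6182665, 3), (2290517, 3), (779371, 3), (6888817, 3), (1973157, 3), (7521039, 3), (6136871, 3), (7990337, 3),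
   (4889205, 3), (8266531, 3), (2717923, 3), (4394981, 3), (1734037, 3), (7023209, 3), (6498739, 3), (1107375, 3),
   (7443673, 3), (877305, 3), (4533647, 3), (1774939, 3), (3431245, 3), (6435391, 3), (2194233, 3), (817525, 3),
   (4659863, 3), (5800935, 3), (8021037, 3), (7948473, 3), (1467197, 3), (6647963, 3), (6738377, 3), (570301, 3),
   (376473, 3), (1550091, 3), (3273035, 3), (614069, 3), (5648273, 3), (4158467, 3), (5027871, 3), (1018459, 3),
   (452943, 3), (4444255, 3), (6994979, 3), (1821409, 3), (6394733, 3), (5972661, 3), (7825673, 3), (7033131, 3),
   (1284935, 3), (6765761, 3), (1787687, 3), (7548423, 3), (994979, 3), (1273283, 3), (7558469, 3), (3061633, 3),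
   (1179171, 3), (4939331, 3), (2307939, 3), (1143781, 3), (6371221, 3), (1914673, 3), (8101915, 3), (3000681, 3),
   (4364719, 3), (710361, 3), (5565965, 3), (7762565, 3), (1244041, 3), (678687, 3), (4618841, 3), (441139, 3),
   (3319453, 3), (3531833, 3), (4907319, 3), (5101777, 3), (5148423, 3), (1767507, 3), (6801989, 3), (8032937, 3),
   (2682537, 3), (6048047, 3), (6953179, 3), (3478205, 3), (2369467, 3), (1389803, 3), (1383893, 3), (1426031, 3),
   (6483333, 3), (6018097, 3), (8178561, 3), (6313819, 3), (407285, 3), (5671785, 3), (2814095, 3), (4312697, 3),
   (7608289, 3), (1867457, 3), (2284139, 3), (4383469, 3), (5912889, 3), (293551, 3), (4400859, 3), (470393, 3),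
   (1528207, 3), (1169181, 3), (2052693, 3), (6581015, 3), (5189747, 3), (984989, 3), (1158239, 3), (3637597, 3),
   (236787, 3), (5048171, 3), (8142085, 3), (3205831, 3), (6530165, 3), (1950133, 3), (7641639, 3), (5957251, 3),
   (5966731, 3), (2784585, 3), (2104311, 3), (3695835, 3), (2788301, 3), (3801535, 3), (2383097, 3), (5637807, 3),
   (3488643, 3), (8131643, 3), (2530661, 3), (1233591, 3), (6612689, 3), (6851387, 3), (964841, 3), (249487, 3),
   (5432665, 3), (8245261, 3), (1005025, 3), (5267335, 3), (1209935, 3), (6273537, 3), (2878211, 3), (5871723, 3),
   (6907443, 3), (6105569, 3), (2825607, 3), (1204081, 3), (1797657, 3), (2578771, 3), (4608871, 3), (5420837, 3),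
   (3797649, 3), (6663969, 3), (1814947, 3), (2219969, 3), (388325, 3), (5473687, 3), (3986769, 3), (2937573, 3),
   (4239031, 3), (7104717, 3), (3966765, 3), (3193019, 3), (4068557, 3), (3195897, 3), (5132477, 3), (5000859, 3),
   (6171723, 3), (5751449, 3), (1044761, 3), (5878101, 3), (2988821, 3), (2239727, 3), (3770835, 3), (2966703, 3),
   (5246459, 3), (4482175, 3), (977557, 3), (4102411, 3), (5738725, 3), (2672535, 3), (5553265, 3), (4162183, 3),
   (2157939, 3), (829135, 3), (889981, 3), (7402519, 3), (8225393, 3), (2927015, 3), (3441911, 3), (6079721, 3),
   (7900303, 3), (3837049, 3), (7094771, 3), (4988135, 3), (7291993, 3), (2470385, 3), (366503, 3), (5998157, 3),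
   (3729693, 3), (7895563, 3), (2260627, 3), (858555, 3), (401355, 3), (2977169, 3), (1876347, 3), (2463951, 3),
   (165759, 3), (1990887, 3), (6376663, 3), (6161781, 3), (3954839, 3), (2507487, 3), (7648025, 3), (2994731, 3),
   (5830821, 3), (7048849, 3), (2646895, 3), (4274429, 3), (5379037, 3), (2913821, 3), (5581371, 3), (3088843, 3),
   (599543, 3), (7670893, 3), (2549287, 3), (5366003, 3), (7177669, 3), (3776749, 3), (2198973, 3), (1480121, 3),
   (3462795, 3), (7382635, 3), (4877553, 3), (7508339, 3), (3307815, 3), (6509297, 3), (5007269, 3), (7518285, 3),
   (2867773, 3), (6416431, 3), (5848211, 3), (2453067, 3), (5448047, 3), (5336373, 3), (8327569, 3), (761641, 3),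
   (943955, 3), (5601351, 3), (7013207, 3), (3223281, 3), (3614117, 3), (3233203, 3), (6871367, 3), (3684007, 3),
   (1727659, 3), (7491273, 3), (6551049, 3), (4799271, 3), (736209, 3), (2558767, 3), (160251, 3), (4544205, 3),
   (1897223, 3), (5938625, 3), (3857925, 3), (7531057, 3), (5925701, 3), (7043093, 3), (5196593, 3), (5142915, 3),
   (4306235, 3), (1938377, 3), (2146063, 3), (1290873, 3), (2483085, 3), (4081329, 3), (7629987, 3), (3578577, 3),
   (6789177, 3), (967595, 3), (4259019, 3), (6067861, 3), (5414427, 3), (4121161, 3), (2808241, 3), (1262845, 3),
   (2319647, 3), (5591417, 3), (7082895, 3), (540283, 3), (6688371, 3), (4012121, 3), (5030749, 3), (931119, 3),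
   (7376725, 3), (4108341, 3), (2476723, 3), (4629987, 3), (4762989, 3), (1808541, 3), (2844357, 3), (5691669, 3),
   (7262739, 3), (5040739, 3), (4958407, 3), (3393107, 3), (7659877, 3), (6918327, 3), (3689957, 3), (3556715, 3),
   (7360751, 3), (2250669, 3), (5273273, 3), (8201865, 3), (3747115, 3), (3348969, 3), (7218327, 3), (6599853, 3),
   (1672891, 3), (3452361, 3), (3380271, 3), (3873331, 3), (2517985, 3), (4420775, 3), (5851089, 3), (3658529, 3),
   (6353827, 3), (4865677, 3), (4691793, 3), (5078057, 3), (6404691, 3), (1024869, 3), (129431, 3), (7136523, 3),
   (2669781, 3), (3934955, 3), (6472891, 3), (4994521, 3), (1908239, 3), (3287899, 3), (2584685, 3), (4277183, 3),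
   (5714973, 3), (4014875, 3), (6568299, 3), (725743, 3), (28637, 3), (5508118, 2), (1839388, 2), (2365978, 2),
   (2384216, 2), (951624, 2), (2654580, 2), (301236, 2), (427666, 2), (1369154, 2), (1327290, 2), (180636, 2),
   (4510744, 2), (832080, 2), (843820, 2), (7903248, 2), (3050016, 2), (90318, 2), (4261212, 2), (1384564, 2),
   (5409412, 2), (2810896, 2), (5621792, 2), (6979970, 2), (580704, 2), (1722420, 2), (602472, 2), (72588, 2),
   (4526126, 2), (525274, 2), (277580, 2), (1245726, 2), (4921504, 2), (1405448, 2), (6365962, 2), (208020, 2),
   (1525008, 2), (7622914, 2), (6820450, 2), (145176, 2), (396116, 2), (2460752, 2), (1474854, 2), (190626, 2),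
   (4441280, 2), (5817604, 2), (792232, 2), (6455896, 2), (6359604, 2), (926128, 2), (351362, 2), (5375810, 2),
   (3698756, 2), (705094, 2), (5640752, 2), (4645632, 2), (4845570, 2), (4819776, 2), (1103886, 2), (1594898, 2),
   (7612992, 2), (2826278, 2), (7438406, 2), (1664160, 2), (7409024, 2), (3806496, 2), (3168928, 2), (6432416, 2),
   (337856, 2), (6062602, 2), (2664522, 2), (231532, 2), (5833010, 2), (545190, 2), (7345676, 2), (5405696, 2),
   (31554, 2), (2890176, 2), (138790, 2), (1204944, 2), (6644740, 2), (2675464, 2), (2757268, 2), (290352, 2),
   (4253780, 2), (5210132, 2), (837906, 2), (4626498, 2), (314056, 2), (4367374, 2), (1687640, 2), (4850476, 2),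
   (7479572, 2), (2969648, 2), (150618, 2), (5652556, 2), (252432, 2), (987906, 2), (2328324, 2), (1110320, 2),
   (6656640, 2), (567074, 2), (1161408, 2), (4325622, 2), (804052, 2), (4982904, 2), (919694, 2), (2425238, 2),
   (6554826, 2), (42232, 2), (1410188, 2), (3179802, 2), (3444840, 2), (36294, 2), (1217620, 2), (1337732, 2),
   (6493202, 2), (1852256, 2), (5024896, 2), (1805314, 2), (3328320, 2), (6475812, 2), (4768432, 2), (1849378, 2),
   (2019456, 2), (6344194, 2), (4459426, 2), (668866, 2), (2101096, 2), (1192108, 2), (5476616, 2), (4403780, 2),
   (615188, 2), (3610628, 2), (2141072, 2), (504864, 2), (1164162, 2), (742412, 2), (5262104, 2), (7221256, 2),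
   (608810, 2), (4336072, 2), (3375280, 2), (5309160, 2), (4415544, 2), (5063048, 2), (2245426, 2), (84464, 2),
   (4593028, 2), (1090380, 2), (2207772, 2), (2106966, 2), (2624690, 2), (1445088, 2), (4243818, 2), (1134148, 2),
   (4860434, 2), (2501890, 2), (1265762, 2), (6308804, 2), (4731956, 2), (1903248, 2), (4271202, 2), (1769924, 2),
   (1060490, 2), (3351624, 2), (3227948, 2), (6295992, 2), (3294342, 2), (2296514, 2), (2435240, 2), (198058, 2),
   (1070536, 2), (675712, 2), (2232654, 2), (21116, 2), (4465308, 2), (3678776, 2), (6703248, 2), (361272, 2),
   (307594, 2), (4755660, 2), (560668, 2), (1484824, 2), (2605066, 2), (104010, 2), (1675812, 2), (8077824, 2),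
   (6842656, 2), (6305926, 2), (722544, 2), (4346506, 2), (4744776, 2), (5842956, 2), (2820376, 2), (416040, 2),
   (381252, 2), (4231958, 2), (3539848, 2), (2126890, 2), (4202192, 2), (1975812, 2), (3237906, 2), (6750560, 2),
   (4294810, 2), (861210, 2), (1378634, 2), (692282, 2), (5329044, 2), (7079696, 2), (2531524, 2), (115766, 2),
   (1127686, 2), (3216208, 2), (702724, 2), (3672838, 2), (2242672, 2), (475812, 2), (4220306, 2), (6100032, 2),
   (2120980, 2), (1315526, 2), (2908802, 2), (2268296, 2), (1230376, 2), (1009728, 2), (4409606, 2), (4870480, 2),
   (5003780, 2), (421910, 2), (1351424, 2), (3322370, 2), (2220640, 2), (4301220, 2), (628112, 2), (3189796, 2),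
   (1084018, 2), (5129250, 2), (5785794, 2), (6949956, 2), (5709954, 2), (4241960, 2), (762504, 2), (126216, 2),
   (402026, 2), (4361520, 2), (1121336, 2), (4538962, 2), (4989254, 2), (596054, 2), (1608104, 2), (6832158, 2),
   (2168036, 2), (1050548, 2), (3421328, 2), (3474978, 2), (3154402, 2), (2631052, 2), (1573998, 2), (3147996, 2),
   (2491452, 2), (5538256, 2), (2921478, 2), (4485344, 2), (4785798, 2), (1584464, 2), (2377830, 2), (4063314, 2),
   (2409888, 2), (5280930, 2), (3704512, 2), (6337856, 2), (535268, 2), (6588684, 2), (267634, 2), (2150610, 2),
   (4490852, 2), (1613974, 2), (2130606, 2), (5899416, 2), (3951624, 2), (7473194, 2), (2769128, 2), (4213932, 2),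
   (2702848, 2), (1256224, 2), (2322816, 2), (4282144, 2), (5780352, 2), (2201890, 2), (168928, 2), (63108, 2),
   (4726026, 2), (1710664, 2), (2255372, 2), (1728778, 2), (6379592, 2), (2372388, 2), (78514, 2), (555160, 2),
   (4656648, 2), (4536592, 2), (371206, 2), (237906, 2), (3457556, 2), (6594610, 2), (884962, 2), (7357552, 2),
   (8126628, 2), (7397512, 2), (6915112, 2), (157028, 2), (2704706, 2), (5249380, 2), (2512448, 2), (5268006, 2),
   (6889680, 2), (855332, 2), (1186194, 2), (5350928, 2), (4038912, 2), (5939296, 2), (2738308, 2), (5514536, 2),
   (3739786, 2), (2180760, 2), (463064, 2), (280334, 2), (5255258, 2), (2949708, 2), (10558, 2), (4370577, 1),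
   (797449, 1), (2263063, 1), (442481, 1), (5571333, 1), (175681, 1), (1302533, 1), (6406417, 1), (5017889, 1),
   (1065303, 1), (1332261, 1), (4223245, 1), (1063445, 1), (1460739, 1), (4788761, 1), (2564625, 1), (493953, 1),
   (185603, 1), (5296705, 1), (6857221, 1), (1869893, 1), (786999, 1), (1100945, 1), (7767041, 1), (3719203, 1),
   (2313249, 1), (5390753, 1), (6837377, 1), (5770785, 1), (3811457, 1), (1454401, 1), (2183687, 1), (4203377, 1),
   (52005, 1), (5902343, 1), (2640465, 1), (4597797, 1), (737427, 1), (4264387, 1), (2110153, 1), (75309, 1),
   (1122713, 1), (2430217, 1), (15777, 1), (4196943, 1), (1188915, 1), (4476225, 1), (57883, 1), (924689, 1),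
   (346141, 1), (304405, 1), (1413139, 1), (2392899, 1), (45159, 1), (99029, 1), (5441617, 1), (3031301, 1),
   (3182981, 1), (2494627, 1), (18147, 1), (4330601, 1), (1589901, 1), (6302745, 1), (2031657, 1), (2115979, 1),
   (39257, 1), (430605, 1), (1737489, 1), (2422785, 1), (563843, 1), (689317, 1), (418953, 1), (5325835, 1),
   (7864649, 1), (530245, 1), (551943, 1), (3152963, 1), (3277413, 1), (2121909, 1), (2363013, 1), (1212619, 1),
   (902657, 1), (5286147, 1), (2854977, 1), (2687905, 1), (5252293, 1), (1075305, 1), (6488205, 1), (542009, 1),
   (5511305, 1), (2754059, 1), (95313, 1), (4900873, 1), (2634003, 1), (334433, 1), (4424227, 1), (1250945, 1),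
   (3172097, 1), (7417889, 1), (1661185, 1), (6429441, 1), (684577, 1), (4287105, 1), (4924673, 1), (352547, 1),
   (4299781, 1), (213833, 1), (201013, 1), (283537, 1), (4470275, 1), (1647171, 1), (2173253, 1), (272595, 1),
   (2916505, 1), (298027, 1), (663645, 1), (622863, 1), (3736597, 1), (3410225, 1), (4505735, 1), (4752467, 1),
   (582081, 1), (2627629, 1), (7340691, 1), (2892897, 1), (1116327, 1), (2229713, 1), (4523185, 1), (4563017, 1),
   (632881, 1), (5275709, 1), (1053483, 1), (153797, 1), (4343317, 1), (6053905, 1), (7145475, 1), (6557781, 1),
   (133817, 1), (4587803, 1), (806987, 1), (2135601, 1), (1352353, 1), (2204803, 1), (6326497, 1), (1836419, 1),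
   (2147405, 1), (657763, 1), (3489985, 1), (6292775, 1), (1577201, 1), (140167, 1), (1182989, 1), (3297305, 1),
   (6570537, 1), (4726955, 1), (593097, 1), (4216883, 1), (5112513, 1), (864389, 1), (118953, 1), (4229001, 1),
   (1618953, 1), (3246601, 1), (2269481, 1), (210955, 1), (69395, 1), (459847, 1), (1148257, 1), (6447171, 1),
   (4800613, 1), (4721045, 1), (1312345, 1), (3416079, 1), (2162811, 1), (262637, 1), (5279, 1), (0, 0)]

theorem m22_hreps : m22reps.all (fun r => isCode r && decide (r < 2 ^ 24)) = true := by
  decide +kernel

set_option maxRecDepth 100000 in
theorem m22_hrun : runAll (m22mt.map Prod.fst) m22reps 0 m22progs [] = some m22vis := by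
  decide +kernel

set_option maxRecDepth 100000 in
theorem m22_hbm : bmAdd (m22vis.map (fun p => p.1 >>> 12)) 0 = some (2 ^ 4096 - 1) := by
  decide +kernel

end Cfsg.Agent.Lib.Helper92
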