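import Cfsg.Agent.Lib.Helper92.LeechOrbMain

set_option autoImplicit false

namespace Cfsg.Agent.Lib.Helper92

open Cfsg Cfsg.Spor Cfsg.Agent.Lib.Helper7

/-- Coordinate permutations: packed tables of the inverses, with words in the generators. -/
def m23mt : List (ℕ × List ℕ) :=
  [(983478296959358443554250846857397270, [0]),
   (980275914351787324191492553553580224, [2])]

/-- Representatives of the orbits on the code words. -/
def m23reps : List ℕ :=
  [0, 5279, 28637, 515069, 8391797, 8419127, 8650587, 16777215]

set_option maxRecDepth 100000 in
/-- The programs visiting the orbits. -/
def m23progs : List (List (Option (ℕ × ℕ))) :=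
  [[],
   [some (0, 10558), some (0, 21116), some (0, 42232), some (0, 84464), some (0, 168928), some (0, 337856), some (0, 675712), some (0, 1351424),
    some (0, 2702848), some (1, 5780352), some (1, 4282144), some (0, 175681), none, none, none, none,
    some (1, 628112), some (0, 1256224), none, none, none, some (1, 4921504), some (0, 1454401), some (0, 2908802),
    none, none, none, none, none, some (1, 2201890), some (0, 4403780), some (0, 418953),
    some (0, 837906), some (0, 1675812), some (1, 6337856), none, none, none, none, none,
    some (1, 4038912), some (0, 8077824), some (0, 7767041), some (0, 7145475), none, none, some (1, 5405696), some (0, 2422785),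
    some (0, 4845570), some (1, 4645632), none, none, none, none, none, some (1, 5350928),
    none, none, none, none, some (1, 2826278), some (1, 7612992), some (0, 6837377), some (0, 5286147),
    some (0, 2183687), some (0, 4367374), none, none, some (1, 902657), some (1, 4370577), none, none,
    none, none, some (1, 1594898), some (0, 3189796), some (0, 6379592), some (1, 1728778), none, none,
    none, some (1, 4593028), some (0, 797449), some (1, 4788761), some (0, 1188915), none, none, none,
    none, none, none, none, none, some (1, 2130606), some (0, 4261212), some (0, 133817),
    some (0, 267634), some (0, 535268), some (0, 1070536), some (0, 2141072), none, none, none, some (1, 2425238),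
    some (1, 1384564), none, none, none, some (1, 2627629), none, none, some (1, 90318),
    some (0, 180636), some (0, 361272), some (0, 722544), none, some (1, 2207772), some (0, 4415544), none, none,
    none, some (1, 231532), some (1, 2664522), some (0, 5329044), none, some (1, 6062602), some (1, 4510744), none,
    none, none, none, none, some (1, 402026), some (1, 2365978), some (0, 4731956), none,
    none, none, none, none, some (1, 3444840), some (0, 6889680), some (0, 5390753), some (0, 2392899),
    some (0, 4785798), none, some (1, 1413139), some (1, 304405), none, none, none, some (1, 2313249),
    some (0, 4626498), none, some (1, 3811457), some (1, 5770785), none, none, none, none,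
    some (1, 5268006), some (1, 2512448), some (0, 5024896), some (0, 1661185), none, none, some (1, 1186194), some (1, 855332),
    some (0, 1710664), none, none, none, none, none, none, some (1, 3179802),
    some (0, 6359604), some (0, 4330601), some (0, 272595), none, none, some (1, 3698756), some (0, 7397512), some (0, 6406417),
    some (1, 1302533), none, none, some (1, 1230376), none, none, none, none,
    some (1, 1410188), some (0, 2820376), some (0, 5640752), some (0, 2892897), none, some (1, 2120980), some (0, 4241960), none,
    none, none, none, none, none, none, none, none,
    some (1, 2232654), some (0, 4465308), some (0, 542009), some (0, 1084018), some (1, 2921478), some (0, 5842956), none, none,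
    none, some (1, 6488205), some (0, 4587803), some (0, 786999), none, some (1, 346141), some (0, 692282), none,
    none, none, some (1, 1075305), some (0, 2150610), some (0, 4301220), none, some (1, 1474854), some (1, 2460752),
    none, none, none, some (1, 2754059), none, none, none, none,
    none, some (1, 1378634), some (0, 2757268), some (0, 5514536), some (0, 2640465), some (0, 5280930), some (1, 2409888), some (0, 4819776),
    none, some (1, 3375280), none, none, none, some (1, 5902343), some (1, 4476225), some (0, 563843),
    some (1, 5017889), none, none, none, none, none, some (1, 2180760), some (0, 4361520),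
    some (0, 334433), none, some (1, 2738308), some (0, 5476616), some (0, 2564625), none, none, none,
    none, some (1, 1192108), none, none, none, some (1, 5249380), some (0, 2110153), some (0, 4220306),
    some (0, 52005), some (1, 2854977), none, none, some (1, 475812), some (0, 951624), none, none,
    none, some (1, 1053483), some (0, 2106966), some (1, 1315526), none, none, some (1, 2430217), some (0, 4860434),
    none, none, none, none, some (1, 2704706), some (0, 5409412), some (1, 580704), some (0, 1161408),
    some (0, 2322816), none, none, some (1, 6979970), some (1, 5621792), none, none, none,
    none, some (1, 5709954), some (0, 3031301), some (1, 5441617), some (1, 551943), none, none, none,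
    some (1, 290352), none, none, none, none, none, some (1, 861210), some (0, 1722420),
    some (1, 6949956), some (0, 5511305), some (0, 2634003), some (1, 5571333), some (1, 95313), none, none, none,
    none, some (1, 5785794), some (0, 3182981), none, some (1, 5129250), some (0, 1869893), none, some (1, 6703248),
    none, none, none, none, none, none, none, none,
    none, some (1, 2949708), some (0, 5899416), some (0, 3410225), some (0, 6820450), some (0, 5252293), some (0, 2115979), some (0, 4231958),
    some (1, 381252), some (0, 762504), none, none, none, some (1, 2031657), some (1, 6302745), some (1, 1589901),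
    none, none, none, none, some (1, 18147), some (0, 36294), some (0, 72588), some (0, 145176),
    none, none, some (1, 884962), some (0, 1769924), none, none, none, some (1, 2494627),
    some (0, 4989254), some (1, 4538962), some (1, 421910), none, none, none, none, none,
    none, some (1, 7622914), some (0, 6857221), some (0, 5325835), some (0, 2263063), none, none, some (1, 5296705),
    some (1, 185603), some (0, 371206), none, some (1, 493953), some (1, 632881), none, none, none,
    none, none, some (1, 1525008), some (0, 3050016), some (0, 6100032), none, none, some (1, 208020),
    some (0, 416040), some (0, 832080), none, none, none, none, none, none,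
    some (1, 3736597), some (0, 7473194), some (0, 6557781), some (0, 4726955), none, some (1, 1065303), some (1, 459847), none,
    none, none, some (1, 3951624), some (0, 7903248), some (1, 5817604), some (0, 3246601), none, some (1, 4441280),
    some (1, 190626), none, none, none, none, none, none, none,
    none, some (1, 4213932), some (0, 39257), some (0, 78514), some (0, 157028), some (0, 314056), none, none,
    some (1, 2372388), some (0, 4744776), some (0, 1100945), some (1, 689317), none, none, some (1, 4346506), none,
    none, some (1, 3216208), some (0, 6432416), some (1, 3168928), none, none, some (1, 1127686), some (0, 2255372),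
    none, none, none, none, none, some (1, 622863), some (1, 4563017), some (0, 737427),
    some (1, 4597797), none, none, some (1, 57883), some (1, 430605), none, none, none,
    none, none, some (1, 2769128), some (0, 5538256), some (0, 2687905), some (0, 5375810), some (0, 2363013), some (0, 4726026),
    some (0, 1063445), none, none, none, some (1, 351362), some (0, 702724), none, none,
    none, some (1, 7417889), some (0, 6447171), some (1, 1460739), some (1, 924689), none, none, none,
    some (1, 3172097), some (0, 6344194), some (0, 4299781), none, none, some (1, 1250945), none, none,
    none, none, some (1, 115766), some (1, 2531524), some (0, 5063048), some (0, 1737489), none, none,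
    none, none, none, none, none, none, some (1, 5255258), some (0, 2121909),
    some (0, 4243818), some (0, 99029), some (0, 198058), some (0, 396116), some (0, 792232), none, some (1, 596054), none,
    none, some (1, 2435240), some (0, 4870480), none, some (1, 3678776), none, none, none,
    some (1, 45159), none, none, some (1, 2605066), some (0, 5210132), some (1, 4253780), some (1, 705094), none,
    none, none, some (1, 1484824), some (0, 2969648), some (0, 5939296), some (0, 3489985), none, none,
    none, none, none, none, some (1, 3277413), some (0, 6554826), some (0, 4721045), some (1, 4800613),
    none, none, none, some (1, 3152963), some (0, 6305926), some (0, 4223245), some (1, 213833), some (1, 210955),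
    none, none, none, none, some (1, 1836419), some (0, 3672838), some (0, 7345676), none,
    none, some (1, 4523185), some (0, 657763), none, none, none, none, none,
    none, some (1, 280334), some (0, 560668), some (0, 1121336), some (0, 2242672), some (0, 4485344), some (0, 582081), some (0, 1164162),
    some (1, 504864), none, none, some (1, 4424227), none, none, none, none,
    some (1, 2631052), some (0, 5262104), some (0, 2135601), some (0, 4271202), none, none, some (1, 742412), none,
    none, none, none, none, some (1, 463064), some (0, 926128), some (0, 1852256), some (0, 3704512),
    some (0, 7409024), some (0, 6429441), none, some (1, 1664160), none, none, none, some (1, 6493202),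
    some (1, 1337732), some (0, 2675464), none, none, none, none, none, none,
    none, none, none, none, some (1, 262637), some (0, 525274), some (0, 1050548), some (0, 2101096),
    some (0, 4202192), some (0, 15777), some (0, 31554), some (0, 63108), some (0, 126216), some (0, 252432), none, none,
    none, some (1, 987906), some (0, 1975812), none, some (1, 4536592), some (0, 684577), none, some (1, 615188),
    none, none, none, none, none, some (1, 545190), some (0, 1090380), some (1, 104010),
    some (1, 307594), none, none, none, some (1, 6750560), some (0, 5112513), some (1, 4216883), none,
    none, some (1, 3237906), none, none, none, none, some (1, 3739786), some (0, 7479572),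
    some (0, 6570537), some (0, 4752467), some (0, 1116327), none, some (1, 4505735), some (1, 442481), none, none,
    none, some (1, 3297305), some (0, 6594610), some (1, 3457556), none, none, some (1, 1182989), none,
    none, none, some (1, 1134148), some (0, 2268296), none, some (1, 668866), some (1, 4459426), some (0, 530245),
    none, none, none, none, none, none, none, some (1, 2168036),
    some (0, 4336072), some (0, 283537), some (0, 567074), some (1, 6656640), some (0, 4924673), some (1, 4287105), none, none,
    none, none, some (1, 201013), some (1, 2173253), some (1, 1647171), some (1, 4470275), none, none,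
    none, none, none, some (1, 608810), some (0, 1217620), none, some (1, 7221256), some (0, 6053905),
    some (0, 3719203), none, some (1, 4343317), some (1, 153797), none, none, none, none,
    none, none, some (1, 3154402), some (0, 6308804), some (0, 4229001), some (0, 69395), some (0, 138790), some (1, 2890176),
    none, none, some (1, 864389), none, none, some (1, 118953), some (0, 237906), none,
    some (1, 2269481), none, none, none, some (1, 1265762), some (1, 2501890), some (0, 5003780), some (0, 1618953),
    none, none, some (1, 1903248), some (0, 3806496), none, none, none, none,
    none, some (1, 3474978), some (1, 3421328), some (0, 6842656), none, none, none, none,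
    none, none, some (1, 4526126), some (0, 663645), some (0, 1327290), some (0, 2654580), some (0, 5309160), some (0, 2229713),
    none, some (1, 2126890), some (1, 3539848), none, none, none, some (1, 7438406), some (1, 1369154),
    some (1, 427666), none, none, none, none, some (1, 2491452), some (0, 4982904), some (0, 1577201),
    some (1, 6292775), none, none, none, some (1, 3147996), some (0, 6295992), some (0, 4203377), none,
    none, some (1, 1573998), none, none, none, none, some (1, 4196943), some (1, 806987),
    some (0, 1613974), some (0, 3227948), some (0, 6455896), some (1, 1103886), none, none, some (1, 3351624), some (1, 1060490),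
    none, none, none, some (1, 4490852), some (0, 593097), none, none, none,
    none, none, none, some (1, 2384216), some (0, 4768432), some (0, 1148257), some (0, 2296514), some (1, 1849378),
    some (1, 7079696), none, none, none, some (1, 2204803), some (0, 4409606), some (1, 1009728), some (0, 2019456),
    none, none, none, some (1, 1352353), none, none, none, some (1, 6475812),
    some (1, 3328320), some (1, 1805314), none, none, none, none, some (1, 1245726), some (1, 277580),
    some (0, 555160), some (0, 1110320), some (0, 2220640), some (1, 3322370), none, none, some (1, 2328324), some (0, 4656648),
    none, none, none, some (1, 4850476), none, none, none, none,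
    none, none, none, some (1, 2162811), some (0, 4325622), some (1, 2377830), some (0, 4755660), some (0, 1122713),
    some (0, 2245426), some (1, 3610628), some (1, 1584464), none, none, none, some (1, 75309), none,
    none, none, some (1, 4063314), some (0, 8126628), some (0, 7864649), some (0, 7340691), some (1, 1332261), none,
    none, none, some (1, 7357552), some (0, 6326497), some (0, 4264387), some (0, 140167), none, some (1, 352547),
    none, none, none, some (1, 3294342), some (0, 6588684), none, some (1, 1445088), none,
    none, none, none, some (1, 5508118), some (1, 804052), some (0, 1608104), some (1, 6915112), none,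
    none, none, none, none, none, none, some (1, 3416079), some (0, 6832158),
    some (0, 5275709), some (1, 2147405), some (0, 4294810), some (1, 843820), some (0, 1687640), none, none, none,
    some (1, 1212619), some (1, 298027), none, none, none, none, some (1, 5652556), some (0, 2916505),
    some (0, 5833010), some (1, 6644740), some (0, 4900873), none, some (1, 1204944), none, none, none,
    none, some (1, 150618), some (0, 301236), some (0, 602472), some (1, 6365962), some (1, 1405448), some (0, 2810896), none,
    none, none, none, none, some (1, 919694), some (0, 1839388), none, none,
    none, none, none, some (1, 1312345), some (0, 2624690)],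
   [some (0, 57274), some (0, 114548), some (0, 229096), some (0, 458192), some (0, 916384), some (0, 1832768), some (0, 3665536), some (0, 7331072),
    some (0, 6273537), some (0, 4158467), some (0, 8316934), none, none, some (1, 4783889), some (0, 1179171), some (1, 3061633),
    none, none, none, none, some (1, 6023568), some (0, 3658529), some (0, 7317058), none,
    some (1, 3390737), some (0, 6781474), none, none, none, none, none, some (1, 1752752),
    some (1, 6856612), some (0, 5324617), none, none, none, none, some (1, 4439938), some (0, 491269),
    some (0, 982538), some (0, 1965076), some (0, 3930152), none, some (1, 4892628), some (1, 4315878), none, none,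
    none, some (1, 5151640), some (0, 1914673), none, some (1, 4839740), none, none, none,
    some (1, 736209), some (0, 1472418), some (1, 2564016), some (0, 5128032), none, some (1, 3750324), none, none,
    none, some (1, 4799271), some (0, 1209935), none, none, none, none, none,
    none, some (1, 7058224), some (0, 5727841), some (0, 3067075), some (0, 6134150), some (0, 3879693), none, some (1, 5105008),
    some (0, 1821409), none, none, none, some (1, 6195379), none, none, some (1, 2260627),
    some (0, 4521254), none, none, none, some (1, 7469828), some (0, 6551049), some (0, 4713491), some (0, 1038375),
    some (1, 7252305), none, none, some (1, 977557), some (1, 4889205), none, none, none,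
    some (1, 1244041), some (1, 761641), none, none, none, none, none, none,
    some (1, 756662), some (0, 1513324), some (0, 3026648), some (0, 6053296), some (0, 3717985), some (0, 7435970), some (0, 6483333), none,
    none, some (1, 7968515), some (0, 7548423), some (1, 1867457), none, none, none, none,
    some (1, 7030196), some (0, 5671785), some (1, 2743323), none, none, none, none, some (1, 5774014),
    some (0, 3159421), none, some (1, 7099756), some (0, 5810905), none, none, none, none,
    some (1, 2178522), some (0, 4357044), some (0, 325481), some (0, 650962), some (0, 1301924), none, none, some (1, 2331547),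
    some (0, 4663094), none, none, none, some (1, 2841444), some (1, 8075586), some (0, 7762565), none,
    some (1, 6123266), none, none, none, none, some (1, 1909678), some (0, 3819356), some (0, 7638712),
    none, some (1, 5446862), none, none, none, none, none, some (1, 7190628),
    some (0, 5992649), some (0, 3596691), some (0, 7193382), some (1, 7860304), some (0, 7332001), none, none, none,
    some (1, 1543733), some (1, 2669781), none, none, none, some (1, 4353835), some (0, 319063), some (0, 638126),
    some (0, 1276252), none, some (1, 7119848), none, none, some (1, 954839), some (1, 4557175), none,
    none, none, some (1, 3103369), some (0, 6206738), some (1, 4575124), none, none, some (1, 5912889),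
    none, none, none, none, some (1, 7922514), some (0, 7456421), some (1, 3339489), some (1, 3313571),
    none, none, none, some (1, 5756422), some (0, 3124237), some (0, 6248474), none, none,
    none, none, none, none, none, some (1, 2767786), some (0, 5535572), some (0, 2682537),
    some (0, 5365074), some (0, 2341541), some (0, 4683082), some (1, 486298), some (0, 972596), some (1, 6527444), some (1, 1698150), none,
    none, none, none, none, none, some (1, 1041798), some (0, 2083596), some (0, 4167192),
    none, some (1, 4963416), none, none, some (1, 4696816), some (1, 2685494), none, none,
    none, none, some (1, 8032937), some (0, 7677267), some (0, 6965927), none, some (1, 1402519), some (0, 2805038),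
    none, none, none, some (1, 7396649), some (0, 6404691), some (0, 4420775), some (0, 452943), some (1, 1018459),
    none, none, none, some (1, 1897223), some (1, 4691793), none, none, none,
    some (1, 3917193), some (0, 7834386), some (0, 7280165), some (0, 6171723), none, none, none, some (1, 5483689),
    none, none, none, none, none, some (1, 219094), some (0, 438188), some (0, 876376),
    some (1, 4927902), some (0, 1467197), some (0, 2934394), some (1, 7770270), some (1, 1363324), none, none, none,
    some (1, 2301533), none, none, some (1, 4549484), some (0, 710361), some (0, 1420722), none, none,
    some (1, 2847322), some (1, 5651214), none, none, none, none, none, some (1, 2726648),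
    some (0, 5453296), some (0, 2517985), some (1, 3873331), some (0, 7746662), none, none, none, some (1, 2191270),
    none, none, some (1, 7909678), some (0, 7430749), none, some (1, 7718728), some (0, 7048849), some (1, 5830821),
    none, none, none, none, none, none, some (1, 473574), some (1, 2960242),
    some (0, 5920484), none, some (1, 8204822), some (0, 8021037), some (1, 7491273), none, none, none,
    none, none, none, none, some (1, 8198952), some (0, 8009297), some (0, 7629987), some (0, 6871367),
    some (0, 5354127), none, some (1, 6275395), some (0, 4162183), some (0, 8324366), none, none, none,
    none, none, some (1, 5267335), some (0, 2146063), some (1, 1938377), none, none, some (1, 1005025),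
    some (0, 2010050), some (0, 4020100), some (0, 8040200), none, none, none, some (1, 6498739), some (1, 4024869),
    none, none, none, none, none, some (1, 7959832), some (0, 7531057), some (0, 6673507),
    some (0, 4958407), some (0, 1528207), none, some (1, 5040739), none, none, none, some (1, 3857925),
    some (0, 7715850), some (0, 7043093), some (1, 5925701), none, none, none, some (1, 5938625), some (0, 3488643),
    some (0, 6977286), some (1, 5725120), none, none, none, some (1, 4836771), some (0, 1284935), none,
    none, none, none, none, none, none, none, none,
    some (1, 2732998), some (0, 5465996), some (0, 2543385), some (0, 5086770), some (0, 1784933), some (1, 6827971), some (1, 6116003), some (0, 3843399),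
    some (1, 5607107), some (0, 2825607), none, some (1, 849075), none, none, none, none,
    none, none, some (1, 7139732), some (1, 5489524), some (1, 2358342), some (0, 4716684), none, none,
    none, none, none, some (1, 1808541), some (0, 3617082), some (0, 7234164), some (0, 6079721), some (0, 3770835),
    some (1, 6136871), some (1, 6612689), none, none, none, some (1, 6472891), some (1, 3590317), none,
    none, none, some (1, 7494230), some (0, 6599853), none, some (1, 1989958), none, none,
    none, some (1, 3485468), some (0, 6970936), some (0, 5553265), some (1, 2672535), none, none, some (1, 8018316),
    some (0, 7648025), some (0, 6907443), none, none, none, none, some (1, 1652444), some (0, 3304888),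
    some (1, 3870380), none, none, none, none, none, some (1, 4762989), some (0, 1137371),
    some (0, 2274742), none, some (1, 931119), some (1, 6622169), some (0, 4855731), none, some (1, 1667135), some (0, 3334270),
    some (0, 6668540), none, some (1, 3575374), none, none, none, none, none,
    none, some (1, 6931147), some (0, 5473687), some (0, 2558767), none, some (1, 388325), none, none,
    some (1, 5697579), some (0, 3006551), some (0, 6013102), some (1, 6745192), none, none, some (1, 5677655), none,
    none, none, none, none, none, none, none, some (1, 5616482),
    some (0, 2844357), some (0, 5688714), some (0, 2988821), some (0, 5977642), some (1, 6586248), some (1, 1790904), some (1, 6503724), none,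
    none, none, none, some (1, 5878101), some (0, 3367595), some (1, 3554857), some (0, 7109714), none,
    some (1, 3678105), none, none, none, some (1, 4319047), some (0, 249487), none, some (1, 520899),
    some (1, 441139), some (0, 882278), none, none, none, none, none, none,
    some (1, 1035448), some (0, 2070896), some (0, 4141792), some (0, 8283584), some (0, 8178561), none, some (1, 5459634), none,
    none, some (1, 7356210), none, none, some (1, 6925590), some (1, 6152900), some (1, 4388466), none,
    none, none, none, none, none, some (1, 5389027), some (0, 2389447), some (0, 4778894),
    some (0, 1169181), some (1, 243149), none, none, some (1, 5231208), some (0, 2073809), some (1, 4239031), none,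
    none, some (1, 6486298), some (0, 4583989), none, none, none, none, some (1, 1508339),
    some (0, 3016678), some (0, 6033356), some (1, 4805882), none, none, some (1, 7674098), none, none,
    some (1, 2440247), some (0, 4880494), some (0, 1372381), none, none, some (1, 3941333), some (0, 7882666), none,
    none, none, none, none, some (1, 2907939), some (0, 5815878), some (0, 3243149), some (1, 1714153),
    some (0, 3428306), some (1, 2036918), none, none, none, none, some (1, 5035970), some (0, 1683333),
    some (0, 3366666), none, none, some (1, 4706738), some (0, 1024869), none, none, none,
    none, some (1, 8327569), some (0, 8266531), some (1, 7691793), some (0, 6994979), none, some (1, 1734037), some (0, 3468074),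
    none, none, none, none, some (1, 5336373), none, none, none,
    none, none, some (1, 2488082), some (0, 4976164), some (0, 1563721), some (0, 3127442), some (0, 6254884), some (0, 4121161),
    some (1, 5414427), some (1, 843149), some (1, 4948473), none, none, none, none, some (1, 6516560),
    some (1, 1800838), none, none, none, some (1, 6073140), some (0, 3757673), none, some (1, 6936148),
    none, none, none, some (1, 699803), some (0, 1399606), some (0, 2799212), some (0, 5598424), some (1, 681662),
    none, none, none, some (1, 3093844), some (1, 5319638), none, none, none,
    none, none, some (1, 7011008), some (0, 5633409), some (0, 2878211), none, some (1, 255921), some (0, 511842),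
    none, none, none, none, none, some (1, 1553300), some (0, 3106600), some (0, 6213200),
    some (0, 4037793), some (1, 7906737), none, none, some (1, 4906134), some (0, 1423661), some (1, 2729817), none,
    none, some (1, 5163492), none, none, none, some (1, 7551640), some (0, 6714673), some (1, 3361685),
    none, none, some (1, 1605420), some (0, 3210840), none, none, none, none,
    none, none, none, none, none, some (1, 3117484), some (0, 6234968), some (0, 4081329),
    some (0, 8162658), some (0, 7936709), some (0, 7484811), some (0, 6581015), some (0, 4773423), some (1, 6738377), some (0, 5088147), some (0, 1787687),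
    none, none, none, none, some (1, 2052693), some (0, 4105386), none, some (1, 4341079),
    none, none, none, some (1, 1396649), some (0, 2793298), some (0, 5586596), none, none,
    some (1, 2831545), some (0, 5663090), some (0, 2937573), none, some (1, 3100182), none, none, some (1, 7351213),
    none, none, none, none, some (1, 5797219), some (0, 3205831), some (1, 2004579), some (0, 4009158),
    some (1, 6039282), none, none, some (1, 6593939), some (1, 1950133), none, none, none,
    none, some (1, 6768515), some (0, 5148423), some (0, 1908239), some (1, 4994521), none, none, some (1, 5101777),
    some (1, 4907319), none, none, none, some (1, 1538225), some (0, 3076450), none, none,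
    none, none, none, some (1, 8242322), some (0, 8096037), some (0, 7803467), some (0, 7218327), some (1, 5524213),
    none, none, some (1, 1342747), some (1, 984989), none, none, none, some (1, 7990337),
    some (0, 7592067), some (1, 2026785), none, none, some (1, 5957251), some (0, 3525895), none, some (1, 4644513),
    some (0, 900419), none, some (1, 2808241), none, none, none, none, none,
    some (1, 5694644), some (0, 3000681), some (0, 6001362), none, some (1, 8101915), some (1, 5565965), none, none,
    none, some (1, 2281204), some (1, 3840230), none, none, none, none, none,
    some (1, 7478453), some (1, 3689957), some (0, 7379914), some (0, 6371221), some (1, 1143781), some (0, 2287562), some (1, 1546922), none,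
    none, some (1, 2307939), some (0, 4615878), none, none, none, none, some (1, 1955114),
    some (0, 3910228), some (0, 7820456), none, none, some (1, 6792600), some (0, 5196593), none, some (1, 1174204),
    some (0, 2348408), none, none, none, none, none, some (1, 8062179), some (0, 7735751),
    some (0, 7082895), some (0, 5777183), none, none, some (1, 1920115), none, none, none,
    none, none, none, some (1, 4292126), some (0, 195645), some (0, 391290), some (0, 782580), some (1, 6466406),
    some (0, 4544205), none, some (1, 4053570), none, none, none, some (1, 3056414), some (0, 6112828),
    some (0, 3837049), some (1, 7900303), some (0, 7411999), none, none, none, some (1, 6452444), some (0, 4516281),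
    some (1, 2867773), some (1, 7518285), none, none, none, none, none, some (1, 5610076),
    some (1, 587102), some (1, 4686798), none, none, none, none, none, some (1, 2788301),
    some (0, 5576602), some (0, 2764597), some (0, 5529194), none, none, some (1, 357820), some (0, 715640), some (0, 1431280),
    some (0, 2862560), some (1, 7973538), some (1, 8189472), none, none, none, none, some (1, 7051790),
    some (1, 6093128), none, none, none, some (1, 2302972), some (0, 4605944), none, some (1, 3226222),
    none, none, none, none, some (1, 5871723), some (0, 3354839), some (0, 6709678), some (0, 5030749),
    some (1, 4444255), none, none, none, some (1, 1322855), some (1, 2954963), some (0, 5909926), some (0, 3431245),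
    none, none, none, none, none, some (1, 7136523), some (0, 5884439), some (1, 5174341),
    some (1, 4377555), none, none, none, some (1, 5751449), some (0, 3114291), none, none,
    none, none, none, none, some (1, 947148), some (0, 1894296), some (0, 3788592), some (0, 7577184),
    some (0, 6765761), some (0, 5142915), none, some (1, 1600435), none, none, some (1, 3734914), none,
    none, some (1, 8107140), some (0, 7825673), some (0, 7262739), none, some (1, 1797657), some (0, 3595314), none,
    some (1, 4865677), some (1, 4742121), none, none, none, none, none, none,
    none, some (1, 4397946), some (0, 407285), some (0, 814570), some (0, 1629140), some (0, 3258280), none, none,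
    some (1, 7275194), some (0, 6161781), some (0, 3934955), none, none, some (1, 7632956), none, none,
    none, some (1, 2104311), some (0, 4208622), some (1, 2446314), none, none, some (1, 4002151), some (0, 8004302),
    none, none, none, none, some (1, 2980110), some (0, 5960220), some (0, 3531833), some (0, 7063666),
    some (0, 5738725), none, none, some (1, 3319453), none, none, some (1, 4382540), some (0, 376473),
    some (0, 752946), some (1, 7285636), none, none, some (1, 570301), none, none, some (1, 776650),
    some (1, 5220650), none, none, none, none, none, none, none,
    none, none, some (1, 7448952), some (0, 6509297), some (0, 4629987), some (0, 871367), some (0, 1742734), some (1, 4562408),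
    some (1, 2744762), none, none, none, some (1, 5189747), some (0, 1990887), some (1, 6688371), some (0, 4988135),
    some (0, 1587663), none, none, some (1, 3954839), none, none, none, none,
    none, some (1, 2476723), some (0, 4953446), some (0, 1518285), some (0, 3036570), some (1, 5704124), none, none,
    some (1, 540283), some (0, 1080566), none, none, none, some (1, 6678978), some (0, 4969349), some (0, 1550091),
    none, some (1, 4454753), none, none, some (1, 2089522), some (1, 6733332), some (0, 5078057), some (0, 1767507),
    none, none, none, none, none, none, some (1, 4108341), some (1, 7376725),
    some (0, 6364843), some (1, 3961257), none, none, some (1, 1692871), some (0, 3385742), some (1, 1945192), some (1, 6862490),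
    none, none, none, none, none, none, none, none,
    some (1, 3307815), some (0, 6615630), some (0, 4842653), some (0, 1296699), some (0, 2593398), none, none, some (1, 4383469),
    some (0, 378331), some (1, 499903), some (0, 999806), none, none, none, some (1, 2284139), some (0, 4568278),
    some (0, 747949), none, none, some (1, 4102411), none, none, none, none,
    some (1, 1495898), some (0, 2991796), some (0, 5983592), none, some (1, 7385844), some (0, 6383081), none, some (1, 3200870),
    some (1, 3642818), none, none, none, none, some (1, 498974), some (0, 997948), some (0, 1995896),
    none, some (1, 6830940), some (1, 5854030), none, none, none, some (1, 895452), none,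
    none, none, none, some (1, 4132673), some (0, 8265346), some (0, 8142085), some (0, 7895563), some (0, 7402519),
    some (0, 6416431), none, some (1, 1492933), some (1, 236787), none, none, none, some (1, 6182665),
    some (0, 3976723), some (0, 7953446), none, none, none, none, some (1, 5851089), none,
    none, none, some (1, 5848211), some (1, 5007269), some (0, 1625931), some (0, 3251862), none, some (1, 5215371),
    none, none, none, none, none, none, none, some (1, 3794446),
    some (0, 7588892), some (0, 6789177), some (1, 3729693), some (0, 7459386), some (0, 6530165), none, some (1, 3601676), some (0, 7203352),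
    some (0, 6018097), none, none, some (1, 1282008), none, none, none, some (1, 5998157),
    some (0, 3607707), some (1, 1846461), some (0, 3692922), none, none, none, some (1, 4259019), some (0, 129431),
    none, some (1, 967595), none, none, none, none, none, some (1, 1764556),
    some (0, 3529112), some (1, 1811772), some (0, 3623544), some (0, 7247088), some (0, 6105569), none, none, some (1, 3816478),
    none, none, some (1, 6401740), some (0, 4414873), none, none, none, none,
    some (1, 4886250), some (0, 1383893), none, some (1, 7133354), none, none, none, none,
    some (1, 5682888), some (0, 2977169), some (0, 5954338), some (0, 3520069), some (0, 7040138), some (0, 5691669), some (0, 2994731), none,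
    some (1, 773461), none, none, some (1, 6187688), some (0, 3986769), none, none, none,
    some (1, 1095635), some (1, 366503), some (0, 733006), some (1, 5061322), none, none, some (1, 2470385), some (0, 4940770),
    none, some (1, 3253047), none, none, none, none, none, none,
    some (1, 5972661), some (0, 3556715), some (0, 7113430), some (0, 5838253), none, none, none, some (1, 6323813),
    some (1, 3822531), some (1, 5709091), none, none, none, none, none, none,
    none, none, none, none, some (1, 725743), some (0, 1451486), some (0, 2902972), some (0, 5805944),
    some (0, 3223281), some (0, 6446562), some (0, 4504517), some (0, 620427), some (0, 1240854), some (0, 2481708), none, some (1, 1023684),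
    some (0, 2047368), some (0, 4094736), none, none, none, none, some (1, 4666281), some (0, 943955),
    none, some (1, 2194233), none, none, none, some (1, 643955), some (0, 1287910), some (0, 2575820),
    some (1, 1779962), some (0, 3559924), none, none, none, some (1, 2408162), some (0, 4816324), none,
    none, none, some (1, 6795527), some (0, 5202447), some (1, 4618841), none, none, some (1, 1436497),
    none, none, none, none, some (1, 4147618), some (0, 8295236), some (0, 8201865), some (0, 8015123),
    some (1, 6245509), none, none, some (1, 5273273), some (0, 2157939), none, some (1, 2250669), none,
    none, none, none, some (1, 8334384), some (0, 8280161), some (0, 8171715), none, none,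
    some (1, 7892628), none, none, none, none, some (1, 3684007), some (1, 7608289), some (1, 3233203),
    some (1, 3614117), some (0, 7228234), some (0, 6067861), none, none, none, none, none,
    none, none, some (1, 6411662), some (0, 4434717), some (0, 480827), some (0, 961654), some (0, 1923308), some (0, 3846616),
    some (0, 7693232), some (0, 6997857), none, some (1, 3372596), none, none, some (1, 5345070), some (1, 3011784),
    none, none, none, none, none, some (1, 2505117), some (0, 5010234), some (0, 1631861),
    some (0, 3263722), none, some (1, 6461127), none, none, some (1, 6771484), none, none,
    some (1, 1641341), some (0, 3282682), some (0, 6565364), none, none, some (1, 6894671), none, none,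
    none, none, some (1, 653901), some (0, 1307802), some (0, 2615604), none, none, some (1, 4895563),
    some (1, 4578059), some (0, 767511), none, some (1, 1044761), none, none, none, none,
    none, some (1, 1565160), some (0, 3130320), some (0, 6260640), some (1, 6421680), some (1, 3859364), none, none,
    none, some (1, 5486646), some (0, 2584685), some (0, 5169370), none, some (1, 3287899), some (0, 6575798), none,
    none, none, some (1, 2944836), some (0, 5889672), some (1, 4912552), none, none, none,
    none, none, some (1, 2338362), some (0, 4676724), some (0, 964841), some (0, 1929682), none, none,
    some (1, 2779606), some (0, 5559212), none, some (1, 6228582), none, none, none, some (1, 3979916),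
    none, none, none, none, none, some (1, 8065148), some (0, 7741689), some (0, 7094771),
    some (0, 5800935), some (0, 3213263), some (0, 6426526), some (0, 4464445), some (1, 2707933), some (0, 5415866), none, none,
    none, none, some (1, 1389803), none, none, none, some (1, 7815223), some (0, 7241839),
    some (0, 6095071), some (1, 4482175), some (1, 2507487), some (0, 5014974), none, none, none, none,
    some (1, 7653467), some (0, 6918327), some (0, 5448047), none, some (1, 7659877), none, none, some (1, 2016287),
    some (0, 4032574), none, none, none, none, some (1, 3566677), some (1, 1707735), some (0, 3415470),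
    some (1, 3999224), none, none, none, none, none, none, some (1, 3165759),
    some (0, 6331518), some (0, 4274429), some (0, 160251), some (0, 320502), none, none, none, some (1, 3981774),
    some (0, 7963548), some (0, 7538489), none, some (1, 5370988), some (0, 2353369), some (1, 1747503), none, none,
    none, none, some (1, 5735546), some (0, 3082485), none, some (1, 2419870), some (1, 1999612), none,
    none, none, none, none, some (1, 4068557), some (0, 8137114), some (0, 7885621), some (1, 7558469),
    some (0, 6728331), none, none, none, none, none, none, none,
    some (1, 7368014), some (0, 6347421), some (0, 4306235), some (0, 223863), some (0, 447726), some (1, 2525690), some (0, 5051380), none,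
    none, none, some (1, 3029575), some (1, 6036307), some (1, 5068055), some (1, 4678101), none, none,
    none, none, none, some (1, 2483085), some (0, 4966170), none, some (1, 1290873), some (0, 2581746),
    none, none, none, none, some (1, 1757549), some (0, 3515098), some (1, 1357374), some (0, 2714748),
    none, none, none, some (1, 6524235), some (0, 4659863), none, some (1, 1960075), some (1, 5154361),
    none, none, none, none, none, some (1, 2049738), some (0, 4099476), some (1, 5868788),
    some (0, 3348969), some (0, 6697938), none, some (1, 3747115), none, none, some (1, 6874342), some (0, 5360077),
    some (1, 779371), none, none, some (1, 7783138), some (0, 7177669), none, none, none,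
    none, none, some (1, 4603066), some (0, 817525), some (0, 1635050), some (0, 3270100), some (0, 6540200), none,
    none, some (1, 6723370), none, none, some (1, 7013207), some (1, 5601351), some (0, 2814095), none,
    none, none, none, none, none, none, none, none,
    some (1, 331518), some (0, 663036), some (0, 1326072), some (0, 2652144), some (0, 5304288), some (0, 2219969), some (1, 1814947), some (1, 6663969),
    some (0, 4939331), none, some (1, 3797649), none, none, none, none, some (1, 2872994),
    some (0, 5745988), none, some (1, 7780768), some (0, 7172929), none, none, none, none,
    some (1, 7541670), some (0, 6694733), some (0, 5000859), some (0, 1613111), none, none, none, some (1, 3505504),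
    some (1, 3876754), some (0, 7753508), some (0, 7118409), none, some (1, 3890384), none, none, none,
    none, none, none, some (1, 2692926), some (0, 5385852), some (0, 2383097), some (0, 4766194), none,
    some (1, 3801535), none, none, some (1, 2645710), some (0, 5291420), some (1, 641004), some (1, 6533354), none,
    none, none, some (1, 6164970), some (1, 6638906), none, none, none, none,
    some (1, 7680460), some (0, 6972313), some (0, 5556019), some (0, 2723431), none, some (1, 2610325), some (1, 1223157), none,
    none, none, some (1, 5462573), some (0, 2536539), none, some (1, 2784585), some (0, 5569170), some (0, 2749733),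
    none, none, some (1, 5966731), none, none, none, none, some (1, 1140602),
    some (1, 2569870), some (0, 5139740), some (0, 1890873), none, some (1, 4934364), none, none, none,
    none, none, none, none, some (1, 6883822), some (0, 5379037), some (0, 2369467), some (0, 4738934),
    some (0, 1089261), some (1, 2659819), none, none, some (1, 7295174), some (0, 6201741), some (1, 4312697), none,
    none, none, none, some (1, 3478205), some (0, 6956410), some (1, 7686798), some (0, 6984989), none,
    none, none, none, none, some (1, 89455), some (0, 178910), some (1, 826222), some (1, 7180634),
    some (1, 5628190), none, none, none, none, some (1, 3088843), some (0, 6177686), none,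
    some (1, 5581371), some (0, 2774135), some (0, 5548270), none, none, some (1, 2913821), none, none,
    none, none, none, some (1, 8216682), some (0, 8044757), some (0, 7700907), none, some (1, 5426279),
    some (0, 2463951), some (1, 1876347), some (0, 3752694), none, some (1, 6653471), none, none, none,
    none, none, some (1, 7759386), some (0, 7130165), none, some (1, 1466012), some (0, 2932024), some (0, 5864048),
    none, none, none, none, none, none, none, some (1, 2896126),
    some (0, 5792252), some (0, 3195897), some (0, 6391794), some (0, 4394981), some (0, 401355), some (0, 802710), none, none,
    some (1, 2717923), some (0, 5435846), none, none, none, some (1, 3535014), some (0, 7070028), some (1, 5499466),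
    none, none, some (1, 3581808), some (0, 7163616), some (1, 8024242), none, none, none,
    none, none, some (1, 3380271), some (0, 6760542), some (0, 5132477), some (1, 6441341), some (1, 3885135), none,
    none, none, some (1, 1862238), some (0, 3724476), some (1, 7505388), none, none, some (1, 5117534),
    some (1, 4479454), none, none, none, none, some (1, 3452361), some (0, 6904722), some (0, 5420837),
    some (0, 2453067), none, none, none, some (1, 1672891), some (0, 3345782), some (0, 6691564), none,
    none, none, none, none, none, some (1, 6506094), some (0, 4623581), some (0, 858555),
    some (0, 1717110), some (0, 3434220), none, some (1, 6627142), none, none, some (1, 7151933), some (0, 5915259),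
    some (0, 3441911), none, some (1, 6708239), some (0, 5027871), none, none, none, none,
    none, some (1, 575743), some (0, 1151486), some (1, 2467182), none, none, none, none,
    some (1, 3569866), some (1, 1969978), some (0, 3939956), some (0, 7879912), some (0, 7371217), none, none, some (1, 7869910),
    none, none, some (1, 7150748), none, none, none, none, none,
    some (1, 7603070), some (0, 6817533), some (0, 5246459), some (1, 2966703), some (0, 5933406), none, none, none,
    some (1, 7360751), some (0, 6332895), some (0, 4277183), some (0, 165759), none, none, some (1, 1426031), some (0, 2852062),
    none, none, none, none, none, some (1, 3495006), some (0, 6990012), some (0, 5591417),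
    some (0, 2794227), some (0, 5588454), none, some (1, 7641639), none, none, some (1, 2319647), some (0, 4639294),
    none, none, none, some (1, 7916140), some (1, 8049738), some (0, 7710869), some (0, 7033131), none,
    none, none, none, none, none, none, none, none,
    none, some (1, 6568299), some (0, 4747991), some (0, 1107375), some (0, 2214750), some (0, 4429500), some (0, 470393), some (0, 940786),
    some (0, 1881572), some (0, 3763144), some (0, 7526288), none, none, none, some (1, 7215414), some (1, 8210772),
    some (1, 5989462), none, none, none, none, some (1, 2697887), some (0, 5395774), some (0, 2402941),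
    none, none, some (1, 6042221), some (1, 6313819), none, none, none, none,
    some (1, 2161132), some (0, 4322264), some (1, 258862), some (0, 517724), none, some (1, 2603848), some (0, 5207696), none,
    some (1, 1686298), none, none, none, none, some (1, 3900266), some (0, 7800532), none,
    none, none, none, some (1, 2076750), some (0, 4153500), some (0, 8307000), some (0, 8225393), none,
    none, none, some (1, 4501338), some (0, 614069), some (0, 1228138), some (0, 2456276), none, some (1, 2985866),
    some (0, 5971732), none, some (1, 6140088), none, none, none, some (1, 6959589), some (0, 5530571),
    none, some (1, 7424867), none, none, none, some (1, 905886), some (1, 4632956), some (0, 877305),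
    some (1, 6435391), none, none, none, none, none, none, none,
    some (1, 2590441), some (0, 5180882), some (0, 1973157), some (0, 3946314), none, some (1, 6888817), some (1, 7954823), some (0, 7521039),
    none, none, none, none, some (1, 5073078), none, none, some (1, 3193019),
    some (0, 6386038), some (1, 3629894), some (0, 7259788), some (0, 6130969), none, some (1, 5429496), none, none,
    some (1, 1523282), some (0, 3046564), some (1, 7998448), none, none, none, none, none,
    some (1, 3966765), some (0, 7933530), some (1, 6059150), none, none, some (1, 7443673), none, none,
    none, none, none, some (1, 4608871), some (0, 829135), some (0, 1658270), some (0, 3316540), some (0, 6633080),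
    some (0, 4877553), some (0, 1366499), none, none, some (1, 3175326), some (0, 6350652), some (1, 3396300), none,
    none, none, none, some (1, 3775820), some (1, 5875146), some (1, 4581034), some (1, 2552504), none,
    none, none, none, none, some (1, 5186796), some (0, 1984985), some (0, 3969970), some (0, 7939940),
    none, none, some (1, 4918335), some (0, 1448063), none, some (1, 7104717), some (0, 5820827), none,
    none, none, none, some (1, 6318842), some (0, 4249077), some (0, 109547), none, some (1, 2343399),
    some (1, 3647587), none, none, none, none, none, none, some (1, 4494075),
    some (0, 599543), some (0, 1199086), some (0, 2398172), some (0, 4796344), some (0, 1204081), none, none, none,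
    some (1, 3087466), some (0, 6174932), none, none, none, some (1, 6628071), some (1, 3437171), some (1, 3544855),
    some (0, 7089710), some (1, 8147672), none, none, none, none, none, none,
    some (1, 2412863), some (0, 4825726), some (0, 1262845), some (1, 2239727), none, none, none, some (1, 3637597),
    some (1, 1158239), some (0, 2316478), some (1, 4073836), none, none, none, none, none,
    none, none, some (1, 2578771), some (0, 5157542), some (0, 1926477), some (0, 3852954), some (0, 7705908), some (0, 7023209),
    none, none, some (1, 6200364), some (0, 4012121), none, some (1, 6868440), some (0, 5348273), none,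
    none, none, none, some (1, 4400859), some (0, 413111), none, some (1, 293551), some (1, 3019641),
    none, none, none, none, some (1, 6609776), some (0, 4830945), some (0, 1273283), some (0, 2546566),
    some (0, 5093132), none, none, some (1, 994979), none, none, some (1, 6353827), none,
    none, some (1, 3920150), some (0, 7840300), none, none, none, none, some (1, 2042135),
    some (0, 4084270), some (0, 8168540), some (0, 7948473), some (0, 7508339), none, none, some (1, 5293790), some (0, 2198973),
    none, none, none, some (1, 7740760), some (0, 7092913), none, none, none,
    some (1, 5058133), some (0, 1727659), some (0, 3455318), some (0, 6910636), some (0, 5432665), none, some (1, 7500648), none,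
    none, some (1, 1935190), none, none, some (1, 7212457), none, none, none,
    none, none, none, none, some (1, 4014875), some (0, 8029750), some (0, 7670893), some (0, 6953179),
    some (0, 5517751), some (0, 2646895), none, some (1, 2443125), none, none, some (1, 6048047), some (0, 3707487),
    some (0, 7414974), none, some (1, 5543247), none, none, some (1, 7291993), some (1, 5400735), some (1, 937581),
    some (0, 1875162), none, none, none, none, none, none, some (1, 3695835),
    some (0, 7391670), some (0, 6394733), some (1, 3273035), some (0, 6546070), some (0, 4703533), none, some (1, 1505892), none,
    none, none, none, some (1, 4179044), some (0, 8358088), some (1, 5827642), none, none,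
    some (1, 7515346), some (0, 6642085), some (1, 3891569), none, none, some (1, 1887910), none, none,
    none, none, some (1, 5637807), some (0, 2887007), none, none, none, none,
    some (1, 7658692), some (0, 6928777), some (0, 5468947), some (0, 2549287), some (0, 5098574), none, some (1, 3578577), some (0, 7157154),
    none, none, none, none, some (1, 5890857), some (0, 3393107), some (1, 1490055), some (1, 823281),
    some (0, 1646562), some (0, 3293124), none, none, none, none, none, none,
    none, some (1, 1754610), some (0, 3509220), some (0, 7018440), some (0, 5648273), none, some (1, 5339562), some (0, 2290517),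
    none, none, none, some (1, 3781746), some (0, 7563492), some (1, 3829346), none, none,
    some (1, 7645062), some (0, 6901517), none, none, none, none, some (1, 6786214), some (0, 5183821),
    some (0, 1979035), some (0, 3958070), none, none, some (1, 4811099), some (0, 1233591), some (1, 2530661), none,
    none, none, none, some (1, 3991792), some (0, 7983584), some (0, 7578561), none, some (1, 7595298),
    some (0, 6801989), none, none, none, none, none, none, none,
    none, some (1, 5714973), some (0, 3041339), some (0, 6082678), some (0, 3776749), some (0, 7553498), some (0, 6718389), some (0, 5048171),
    some (1, 6647963), none, none, some (1, 3266677), none, none, some (1, 1535022), some (0, 3070044),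
    none, none, none, some (1, 7382635), some (0, 6376663), some (0, 4364719), some (0, 340831), none,
    none, none, some (1, 3462795), some (1, 1480121), none, none, none, none,
    some (1, 6735190), some (0, 5081773), some (0, 1774939), some (0, 3549878), none, some (1, 4533647), some (0, 678687), none,
    none, none, some (1, 6877305), some (0, 5366003), none, none, none, some (1, 1558742),
    none, none, none, some (1, 8260125), some (0, 8131643), some (0, 7874679), some (1, 8144455), some (1, 5657811),
    some (0, 2927015), none, none, none, none, some (1, 7619997), some (0, 6851387), some (0, 5314167),
    none, some (1, 8245261), none, none, none, none, some (1, 5790813), some (1, 4867535),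
    some (0, 1346463), some (1, 889981), none, none, some (1, 4671723)],
   [some (0, 1030138), some (0, 2060276), some (0, 4120552), some (0, 8241104), some (0, 8093601), some (0, 7798595), some (0, 7208583), some (1, 6222833),
    none, none, some (1, 2088851), some (1, 5225909), none, none, none, none,
    some (1, 5896118), some (0, 3403629), some (0, 6807258), some (1, 2030014), some (1, 7311228), none, none, none,
    some (1, 3915467), some (1, 6078379), none, none, none, some (1, 6813668), some (0, 5238729), none,
    none, none, none, some (1, 8101306), some (0, 7814005), some (0, 7239403), some (0, 6090199), some (0, 3791791),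
    none, some (1, 5228279), some (0, 2067951), none, some (1, 6748407), none, none, none,
    some (1, 7756731), some (0, 7124855), some (0, 5861103), none, some (1, 7721943), none, none, some (1, 4152637),
    some (0, 8305274), none, some (1, 8072669), none, none, none, none, some (1, 3768151),
    some (1, 6240199), some (0, 4091791), some (0, 8183582), some (1, 6280668), none, none, some (1, 6233849), some (0, 4079091),
    none, none, none, some (1, 4554739), some (0, 720871), none, some (1, 3109815), none,
    none, none, none, none, some (1, 8252844), some (0, 8117081), some (0, 7845555), some (0, 7302503),
    some (1, 8350419), none, none, some (1, 3473333), none, none, some (1, 6028559), some (0, 3668511),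
    some (1, 2015069), none, none, none, none, none, none, none,
    some (1, 7028470), some (0, 5668333), some (0, 2948059), some (1, 6263615), some (0, 4138623), some (0, 8277246), none, some (1, 7618271),
    some (0, 6847935), none, none, none, none, none, some (1, 2838523), some (0, 5677046),
    some (0, 2965485), some (0, 5930970), none, none, none, some (1, 8337583), none, none,
    none, some (1, 8158182), some (0, 7927757), some (0, 7466907), some (0, 6545207), some (0, 4701807), none, some (1, 4192709),
    none, none, some (1, 2094765), none, none, some (1, 5494763), some (0, 2600919), some (0, 5201838),
    none, none, some (1, 2620843), some (0, 5241686), none, some (1, 4172729), some (1, 7978557), none,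
    none, none, none, none, some (1, 8345458), some (1, 7830934), some (0, 7273261), none,
    none, none, none, none, none, some (1, 6667198), some (0, 4945789), some (0, 1502971),
    some (0, 3005942), some (0, 6011884), some (0, 3635161), some (0, 7270322), none, some (1, 1261503), none, none,
    some (1, 6946666), some (0, 5504725), none, some (1, 8385418), none, none, none, some (1, 8364534),
    some (0, 8340461), some (1, 7568507), none, none, some (1, 7728758), some (0, 7068909), some (0, 5749211), none,
    some (1, 8055275), none, none, none, none, none, some (1, 3055295), some (1, 8165885),
    some (0, 7943163), some (0, 7497719), some (1, 3628775), none, none, some (1, 7698223), none, none,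
    some (1, 7980415), some (1, 7857359), none, none, none, none, none, some (1, 6519759),
    some (1, 2063211), some (0, 4126422), none, some (1, 7290651), some (0, 6192695), none, some (1, 6126493), some (0, 3864379),
    some (1, 7839629), none, none, none, none, none, none, none,
    some (1, 4060028), some (0, 8120056), some (0, 7851505), some (0, 7314403), some (1, 8255795), some (0, 8122983), none, some (1, 8382229),
    some (0, 8375851), none, none, none, none, none, some (1, 7536302), some (0, 6683997),
    some (0, 4979387), some (0, 1570167), some (0, 3140334), none, none, none, some (1, 1827807), some (0, 3655614),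
    none, none, none, none, none, some (1, 7583582), some (0, 6778557), some (0, 5168507),
    some (0, 1948407), none, some (1, 7326111), none, none, some (1, 3832573), some (0, 7665146), some (0, 6941685),
    none, none, some (1, 8003439), none, none, none, some (1, 1441742), some (0, 2883484),
    some (0, 5766968), some (0, 3145329), some (0, 6290658), none, none, none, none, none,
    none, none, none, none, some (1, 2865535), some (0, 5731070), some (0, 3073533), some (0, 6147066),
    some (0, 3905525), some (0, 7811050), some (0, 7233493), some (1, 5986807), none, none, some (1, 4030138), some (0, 8060276),
    none, none, none, some (1, 7454183), some (1, 4057059), some (0, 8114118), none, none,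
    none, none, some (1, 7337022), some (0, 6285437), some (0, 4182267), none, some (1, 7007839), some (1, 6216399),
    some (0, 4044191), none, none, none, none, some (1, 7793628), some (0, 7198649), some (0, 6008691),
    none, none, none, none, none, some (1, 7572223), some (0, 6755839), some (0, 5123071),
    some (0, 1857535), some (0, 3715070), some (1, 8230638), none, none, none, none, some (1, 3500543),
    none, none, some (1, 3996783), some (0, 7993566), some (0, 7598525), some (0, 6808443), none, none,
    some (1, 6219630), none, none, some (1, 8292315), some (0, 8196023), some (1, 8221941), none, none,
    some (1, 5627071), none, none, none, none, none, some (1, 2523006), some (0, 5046012),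
    some (0, 1703417), some (0, 3406834), some (1, 4177702), some (0, 8355404), some (0, 8322201), none, none, none,
    none, some (1, 7055279), some (0, 5721951), some (1, 1015007), none, none, some (1, 7731945), some (0, 7075283),
    some (0, 5761959), none, none, none, none, none, some (1, 7001086), some (0, 5613565),
    some (1, 2225919), some (0, 4451838), none, some (1, 3585007), none, none, none, none,
    none, some (1, 4135902), some (0, 8271804), some (0, 8155001), none, some (1, 7430140), some (0, 6471673), none,
    some (1, 3896814), none, none, none, some (1, 6110590), some (1, 7170014), some (0, 5951421), some (0, 3514235),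
    none, none, none, none, none, none, none, some (1, 8235855),
    some (0, 8083103), some (0, 7777599), some (0, 7166591), some (0, 5944575), some (1, 6606831), some (0, 4825055), some (1, 5108207), none,
    none, none, none, some (1, 8286559), some (0, 8184511), some (1, 7788157), some (0, 7187707), none,
    some (1, 3333599), none, none, none, none, none, some (1, 4050653), none,
    none, none, some (1, 6157915), some (0, 3927223), some (0, 7854446), some (0, 7320285), some (0, 6251963), some (0, 4115319),
    some (1, 8363095), none, none, none, some (1, 5307263), some (1, 3135311), none, none,
    none, some (1, 4189530), some (0, 8379060), some (0, 8369513), none, none, some (1, 6270622), none,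
    none, none, some (1, 8302309), some (0, 8216011), some (0, 8043415), some (1, 6152037), none, none,
    none, some (1, 7921395), some (1, 8312231), none, none, none, none, some (1, 4650911),
    some (0, 913215), some (0, 1826430), some (0, 3652860), some (0, 7305720), some (1, 8088382), none, none, none,
    some (1, 7257550)],
   [some (0, 8394986), some (0, 8401364), some (0, 8414120), some (0, 8439632), some (0, 8490656), some (0, 8592704), some (0, 8796800), some (0, 9204992),
    some (0, 10021376), some (1, 13276672), none, none, some (1, 12780432), some (0, 8783649), none, some (1, 8484900),
    none, none, none, none, some (1, 8989058), some (1, 13443616), none, none,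
    none, some (1, 11055264), some (0, 13721920), some (0, 10666625), some (1, 9607201), none, none, some (1, 8611330),
    none, none, some (1, 15762208), some (0, 14747201), some (1, 9465987), none, none, some (1, 11654144),
    some (0, 14919680), some (0, 13062145), none, none, none, none, none, none,
    some (1, 8622214), some (0, 8855820), some (0, 9323032), some (0, 10257456), some (0, 12126304), some (1, 16262146), none, none,
    some (1, 14714004), some (0, 12650793), none, none, none, some (1, 12720156), some (1, 8931660), none,
    none, none, some (1, 8464984), some (0, 8541360), none, some (1, 8925710), some (1, 12849992), none,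
    none, none, none, some (1, 8694112), some (0, 8999616), some (0, 9610624), some (0, 10832640), none,
    none, some (1, 12726562), none, none, some (1, 11108882), some (0, 13829156), some (0, 10881097), some (1, 9963547),
    none, none, none, some (1, 13938692), some (0, 11100169), none, none, none,
    none, none, none, some (1, 10687016), some (0, 12985424), some (0, 9193633), some (0, 9998658), some (1, 12944642),
    some (0, 9112069), none, some (1, 8773776), some (0, 9158944), none, none, none, none,
    none, some (1, 8407702), some (0, 8426796), some (1, 10584520), some (1, 9543722), none, none, none,
    some (1, 9310308), some (0, 10232008), some (0, 12075408), none, none, none, none, none,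
    some (1, 11548936), some (0, 14709264), some (0, 12641313), some (0, 8505411), some (1, 9347075), none, none, none,
    some (1, 9589508), some (0, 10790408), some (0, 13192208), none, some (1, 9474712), none, none, none,
    none, some (1, 10028808), some (0, 11669008), some (0, 14949408), some (0, 13121601), none, none, some (1, 9968772),
    none, none, some (1, 12661896), some (0, 8546577), some (0, 8704546), some (0, 9020484), none, some (1, 10916112),
    none, none, none, none, none, none, none, none,
    some (1, 8455014), some (0, 8521420), some (0, 8654232), some (0, 8919856), some (0, 9451104), some (0, 10513600), some (0, 12638592), some (0, 8499969),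
    none, none, some (1, 10093218), none, none, some (1, 10491778), some (0, 12594948), none,
    none, none, some (1, 15274244), some (0, 13771273), some (1, 8412681), none, none, none,
    none, some (1, 8978620), some (1, 14688364), some (0, 12599513), none, some (1, 11551306), some (1, 9835530), none,
    none, none, none, none, none, some (1, 10825794), some (0, 13262980), some (0, 9748745),
    some (1, 8619033), none, none, some (1, 12733024), some (0, 8688833), some (1, 8421811), none, none,
    some (1, 11163650), some (1, 14551296), some (0, 12325377), none, none, none, none, none,
    some (1, 9708306), some (0, 11028004), some (0, 13667400), some (0, 10557585), some (1, 9969957), none, none, some (1, 8963210),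
    some (0, 9537812), none, none, none, some (1, 15864000), some (0, 14950785), some (0, 13124355), none,
    none, some (1, 9456930), some (1, 11469952), none, none, none, none, some (1, 8721940),
    some (0, 9055272), some (0, 9721936), none, some (1, 15207048), some (0, 13636881), none, none, none,
    none, none, none, none, none, some (1, 11272490), some (0, 14156372), some (0, 11535529),
    some (0, 14682450), some (0, 12587685), some (1, 10506593), some (0, 12624578), some (0, 8471941), none, none, none,
    none, some (1, 10305542), none, none, none, some (1, 12604486), some (0, 8431757), some (0, 8474906),
    some (0, 8561204), some (1, 10525252), none, none, none, some (1, 8946281), some (0, 9503954), some (0, 10619300),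
    none, some (1, 8660134), none, none, none, none, some (1, 8798658), some (0, 9208708),
    none, some (1, 8849458), some (1, 11282452), some (0, 14176296), none, none, none, none,
    none, none, some (1, 16056344), some (0, 15335473), some (1, 15747077), some (0, 14716939), some (0, 12656663), some (0, 8536111),
    some (0, 8683614), none, none, some (1, 8675909), some (1, 8524371), none, none, none,
    none, some (1, 10110017), some (0, 11831426), none, some (1, 12717187), some (0, 8657159), none, none,
    none, none, none, some (1, 9462812), some (0, 10537016), some (0, 12685424), some (0, 8593633), some (1, 10496547),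
    none, none, some (1, 10543366), some (1, 9929280), some (1, 8436754), none, none, none,
    none, some (1, 12222476), none, none, none, none, none, none,
    some (1, 11010247), some (0, 13631886), some (0, 10486557), some (0, 12584506), some (1, 10768524), some (0, 13148440), some (0, 9519665), some (0, 10650722),
    none, some (1, 10630149), some (0, 12871690), some (0, 8966165), none, none, some (1, 9440193), some (1, 8983587),
    none, none, none, none, some (1, 12698124), some (1, 8581192), some (1, 8555274), none,
    none, none, none, some (1, 9568632), some (0, 10748656), some (0, 13108704), some (1, 14762146), some (0, 12747077),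
    none, some (1, 11952160), none, none, none, some (1, 11538486), some (1, 11797828), none,
    none, none, some (1, 10554382), none, none, none, none, some (1, 9506893),
    some (1, 8398155), some (1, 8716939), some (0, 9045270), some (1, 12912836), some (0, 9048457), none, none, none,
    some (1, 8663097), some (0, 8937586), some (0, 9486564), none, none, none, none, none,
    none, none, some (1, 8733800), some (0, 9078992), some (0, 9769376), some (0, 11150144), some (0, 13911680), some (0, 11046145),
    none, none, some (1, 13703682), none, none, some (1, 10560816), some (1, 11608708), some (0, 14828808),
    some (0, 12880401), none, some (1, 9652360), none, none, none, none, none,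
    none, some (1, 10625178), some (0, 12861748), some (1, 10698836), some (0, 13009064), some (0, 9240913), none, none,
    some (1, 9578566), some (1, 9178690), some (1, 13373586), none, none, none, none, none,
    some (1, 9701932), some (0, 11015256), some (0, 13641904), none, none, none, none, none,
    none, some (1, 13893731), some (1, 10765331), some (0, 13142054), some (1, 15515712), some (0, 14254209), some (0, 11731203), some (0, 15073798),
    some (0, 13370381), none, none, some (1, 9776129), some (1, 8922769), none, none, none,
    none, some (1, 13811730), some (0, 10846245), some (0, 13303882), none, some (1, 11575377), some (1, 9471495), none,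
    none, none, some (1, 8834052), some (0, 9279496), some (0, 10170384), none, none, none,
    none, none, none, some (1, 9830549)],
   [some (0, 8449646), some (0, 8510684), some (0, 8632760), some (0, 8876912), some (0, 9365216), some (0, 10341824), some (0, 12295040), some (0, 16201472),
    some (0, 15625729), some (0, 14474243), some (1, 13550993), none, none, some (1, 14310033), some (1, 13262117), none,
    none, none, some (1, 9535376), some (0, 10682144), some (0, 12975680), none, none, none,
    none, some (1, 14269728), some (0, 11762241), some (0, 15135874), none, some (1, 10108675), some (0, 11828742), none,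
    some (1, 13442945), none, none, none, some (1, 15329152), some (0, 13881089), some (1, 9174145), none,
    none, some (1, 13890208), none, none, none, none, some (1, 13345970), some (0, 9914725),
    some (1, 11218003), none, none, some (1, 15002276), some (0, 13227337), some (0, 9677459), some (1, 9223717), none,
    none, none, some (1, 12243568), some (0, 16098528), some (0, 15419841), some (0, 14062467), none, some (1, 14379043),
    none, none, some (1, 11593394), some (1, 11966116), none, none, none, some (1, 15899910),
    none, none, none, none, none, some (1, 14850738), some (0, 12924261), some (0, 9071307),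
    some (1, 13507115), some (0, 10237015), some (0, 12085422), none, some (1, 12847063), none, none, some (1, 15489305),
    some (0, 14201395), some (0, 11625575), some (0, 14862542), none, none, none, none, none,
    none, some (1, 10576851), some (0, 12765094), some (0, 8752973), none, some (1, 11000032), some (0, 13611456), some (1, 12708658),
    none, none, none, none, some (1, 9908775), some (0, 11428942), some (0, 14469276), some (1, 13288572),
    none, none, none, none, none, none, some (1, 12376356), some (1, 16483664),
    some (1, 13757574), some (0, 10737933), some (0, 13087258), none, some (1, 10201417), some (0, 12014226), none, some (1, 13217291),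
    none, none, none, none, none, none, none, none,
    some (1, 10697494), some (0, 13006380), some (0, 9235545), some (0, 10082482), some (0, 11776356), some (0, 15164104), some (1, 9599546), none,
    none, some (1, 11644738), some (1, 10335874), none, none, none, some (1, 15639844), some (0, 14502473),
    none, none, none, some (1, 13271711), some (0, 9766207), some (1, 10822877), none, none,
    some (1, 12900461), some (0, 9023707), some (1, 12886831), some (0, 8996447), none, none, none, some (1, 11190619),
    some (1, 14125071), some (0, 11472927), none, none, none, none, none, none,
    some (1, 10640344), some (0, 12892080), some (0, 9006945), some (1, 15413891), some (1, 13925153), none, none, none,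
    some (1, 10605492), some (0, 12822376), some (1, 10615434), some (1, 10400552), none, none, none, none,
    none, some (1, 10164526), some (0, 11940444), some (0, 15492280), some (0, 14207345), some (1, 15451143), none, none,
    some (1, 15876796), none, none, some (1, 9445214), some (1, 9246158), some (0, 10103708), none, none,
    none, none, some (1, 15543624), some (1, 14246554), none, none, none, none,
    none, some (1, 10304324), some (0, 12220040), some (0, 16051472), some (0, 15325729), some (0, 13874243), none, some (1, 16445697),
    some (0, 16114179), none, none, none, some (1, 10208916), some (0, 12029224), none, some (1, 12762340),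
    some (1, 11062242), none, none, none, none, some (1, 13770664), some (0, 10764113), some (0, 13139618),
    some (0, 9502021), some (1, 9144259), none, none, none, some (1, 10032023), some (0, 11675438), some (0, 14962268),
    none, none, none, none, some (1, 11099560), some (0, 13810512), some (0, 10843809), some (1, 11678641),
    some (0, 14968674), none, none, none, none, some (1, 16458152), some (1, 15822376), none,
    none, none, none, none, some (1, 13186898), some (1, 12940166), none, none,
    none, none, none, some (1, 11119404), some (0, 13850200), some (0, 10923185), some (0, 13457762), some (0, 10138309),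
    some (0, 11888010), some (0, 15387412), none, none, some (1, 12623715), some (1, 11391363), some (0, 14394118), none,
    some (1, 14131505), none, none, none, none, some (1, 15687954), some (0, 14598693), some (0, 12420171),
    some (0, 16451734), none, some (1, 13935771), some (0, 11094327), none, none, none, some (1, 14867537),
    some (0, 12957859), none, some (1, 10144135), none, none, none, some (1, 14117396), some (0, 11457577),
    some (0, 14526546), none, none, some (1, 9076308), some (1, 13245382), none, none, none,
    none, none, some (1, 12094133), some (0, 15799658), some (0, 14822101), some (0, 12866987), none, none,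
    none, some (1, 16290917), some (0, 15804619), some (0, 14832023), none, some (1, 10249771), none, none,
    none, none, none, some (1, 8551822), some (0, 8715036), some (0, 9041464), some (0, 9694320), none,
    some (1, 14857100), some (0, 12936985), some (0, 9096755), some (0, 9804902), none, some (1, 15636613), none, none,
    none, some (1, 9558888), none, none, none, some (1, 9147228), some (0, 9905848), some (0, 11423088),
    none, some (1, 10501820), some (0, 12615032), some (0, 8452849), none, none, some (1, 12063724), none,
    none, none, some (1, 12695886), some (0, 8614557), some (0, 8840506), none, none, some (1, 9298762),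
    none, none, none, none, some (1, 9374696), some (0, 10360784), some (0, 12332960), none,
    some (1, 12656054), some (0, 8534893), some (0, 8681178), none, none, some (1, 11362788), some (1, 15934066), some (0, 15090917),
    none, none, none, none, none, none, none, none,
    some (1, 16364104), some (0, 15950993), some (0, 15124771), some (0, 13472327), some (0, 10167439), none, none, some (1, 12568593),
    some (0, 16748578), some (0, 16719941), some (0, 16662667), some (0, 16548119), some (1, 14009429), none, none, none,
    none, none, some (1, 14330901), some (0, 11884587), some (1, 12461337), none, none, some (1, 13160133),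
    some (0, 9543051), none, some (1, 13291747), none, none, none, none, none,
    some (1, 9596581), some (0, 10804554), some (0, 13220500), some (0, 9663785), some (1, 10694537), some (0, 13000466), none, none,
    none, none, some (1, 10453402), none, none, none, none, some (1, 13694730),
    some (0, 10612245), some (0, 12835882), some (0, 8894549), some (1, 8956759), none, none, some (1, 11463048), some (0, 14537488),
    some (0, 12297761), none, some (1, 12842260), some (1, 8645572), some (1, 9157218), none, none, none,
    none, none, none, none, some (1, 8902536), some (0, 9416464), some (0, 10444320), some (0, 12500032),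
    none, some (1, 15351184), none, none, none, none, none, none,
    none, none, some (1, 9085422), some (0, 9782236), some (0, 11175864), some (0, 13963120), some (0, 11149025), some (0, 13909442),
    some (0, 11041669), some (1, 14357345), some (0, 11937475), some (1, 9707187), none, none, none, none,
    some (1, 9258930), some (1, 15151284), none, none, none, some (1, 16259491), some (1, 16598305), some (0, 16419395),
    none, none, none, none, some (1, 11105430), some (0, 13822252), some (0, 10867289), some (1, 9613599),
    some (0, 10838590), none, none, none, some (1, 11259464), some (0, 14130320), some (1, 8973748), none,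
    none, some (1, 14334090), some (0, 11890965), some (0, 15393322), none, none, some (1, 13422376), none,
    none, none, none, some (1, 14033892), some (0, 11290569), some (0, 14192530), some (0, 11607845), none,
    some (1, 13489316), none, none, some (1, 13832379), some (0, 10887543), some (0, 13386478), none, none,
    some (1, 10775853), none, none, none, some (1, 10575474), some (1, 12464518), none, none,
    none, none, none, some (1, 15833260), some (0, 14889305), some (0, 13001395), some (0, 9225575), some (0, 10062542),
    some (0, 11736476), some (1, 9514476), none, none, none, none, some (1, 10902069), some (0, 13415530),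
    some (1, 14992282), none, none, some (1, 12196181), none, none, none, some (1, 9530127),
    some (1, 9385545), some (0, 10382482), some (1, 13504180), some (0, 10231145), none, none, none, some (1, 12598171),
    none, none, none, none, some (1, 12117352), some (0, 15846096), some (0, 14914977), some (0, 13052739),
    none, some (1, 11659681), none, none, some (1, 10155046), some (1, 15110080), none, none,
    none, some (1, 15959690), some (0, 15142165), some (1, 10053845), some (1, 13248103), some (0, 9718991), none, none,
    none, none, some (1, 9764008), some (0, 11139408), none, none, none, none,
    none, none, some (1, 8598654), some (0, 8808700), some (0, 9228792), some (0, 10068976), some (0, 11749344), some (1, 11746466),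
    none, none, none, some (1, 14909758), some (0, 13042301), some (0, 9307387), some (1, 14944447), some (1, 12337277),
    none, none, none, some (1, 10516575), some (0, 12644542), some (0, 8511869), none, none,
    none, none, some (1, 11921484), some (0, 15454360), none, some (1, 10135130), some (0, 11881652), none,
    none, none, none, none, some (1, 11143806), some (0, 13899004), some (0, 11020793), some (1, 16319023),
    some (0, 15860831), none, none, none, some (1, 10503678), some (0, 12618748), some (0, 8460281), some (1, 10564015),
    none, none, none, none, none, some (1, 16521294), some (1, 14435674), some (1, 13059230),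
    some (0, 9341245), some (1, 15304797), none, none, none, none, none, none,
    none, some (1, 10759118), some (0, 13129628), some (0, 9482041), none, some (1, 12800492), some (0, 8823769), none,
    some (1, 10709354), some (0, 13030100), some (0, 9282985), some (1, 14787257), none, none, some (1, 8575350), none,
    none, none, none, none, some (1, 10293882), some (0, 12199156), some (0, 16009704), some (0, 15242193),
    none, some (1, 12272698), some (1, 16133260), none, none, none, some (1, 15732454), some (0, 14687693),
    none, some (1, 12342498), some (0, 16296388), some (1, 14272098), none, none, some (1, 16123314), some (0, 15469413),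
    none, none, none, none, none, some (1, 14955806), some (0, 13134397), some (0, 9491579),
    some (1, 10913167), some (1, 9799929), some (0, 11211250), none, none, none, none, some (1, 15356493),
    none, none, none, none, none, none, none, some (1, 15043178),
    some (1, 12382234), some (0, 16375860), some (0, 15974505), some (0, 15171795), some (0, 13566375), some (0, 10355535), none, some (1, 15034481),
    some (1, 12214807), some (0, 16041006), none, none, none, none, some (1, 9758775), some (0, 11128942),
    some (1, 16163146), none, none, some (1, 11437653), some (1, 13670615), none, none, none,
    none, some (1, 11725835), some (1, 10391177), some (1, 13147321), some (1, 15253933), none, none, none,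
    none, none, some (1, 15918660), some (0, 15060105), some (0, 13342995), some (1, 13494533), none, none,
    none, some (1, 9625282), some (1, 9346466), some (1, 15567280), none, none, none, none,
    none, some (1, 14059292), none, none, none, none, none, some (1, 11440842),
    some (0, 14493076), some (0, 12208937), some (0, 16029266), some (0, 15281317), some (0, 13785419), some (0, 10793623), some (0, 13198638), some (0, 9620061),
    some (0, 10851514), some (0, 13314420), none, none, none, none, none, some (1, 9391371),
    some (0, 10394134), none, some (1, 13576345), some (0, 10375475), none, none, none, none,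
    some (1, 16278241), some (0, 15779267), some (1, 9946275), some (0, 11503942), some (0, 14619276), none, none, none,
    none, none, none, some (1, 9754006), none, none, some (1, 16456713), some (0, 16136211),
    some (0, 15495207), some (0, 14213199), some (0, 11649183), some (1, 9872493), some (0, 11356378), some (1, 14557246), none, none,
    none, none, some (1, 13026891), some (1, 8837275), none, none, none, some (1, 16139089),
    some (0, 15500963), some (0, 14224711), some (0, 11672207), none, none, none, some (1, 9657367), none,
    none, none, none, some (1, 14183817), some (0, 11590419), some (0, 14792230), some (0, 12807245), none,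
    some (1, 11858880), none, none, some (1, 10458373), some (0, 12528138), some (1, 14433816), none, none,
    some (1, 12692945), none, none, none, some (1, 13321897), some (0, 9866579), some (0, 11344550), some (0, 14300492),
    some (0, 11823769), some (1, 10098237), none, none, none, none, some (1, 9276567), none,
    none, none, none, none, none, some (1, 12674804), some (0, 8572393), some (0, 8756178),
    some (0, 9123748), some (0, 9858888), some (0, 11329168), some (1, 14324148), some (0, 11871081), none, some (1, 14798180), none,
    none, none, some (1, 9117338), some (0, 9846068), some (1, 11079636), some (1, 14233830), none, none,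
    none, some (1, 13384108), some (1, 15287160), none, none, none, none, some (1, 14760928),
    none, none, some (1, 9285942), some (0, 10183276), some (0, 11977944), some (1, 9604286), none, none,
    some (1, 14827082), some (0, 12876949), some (1, 9061365), none, none, none, none, some (1, 15049556),
    some (1, 9564758), some (1, 8828742), none, none, none, none, none, some (1, 11241643),
    some (0, 14094678), some (0, 11412141), some (1, 15735417), none, none, some (1, 8744278), some (0, 9099948), some (0, 9811288),
    none, some (1, 15374696), some (1, 16369930), some (0, 15962645), none, some (1, 14672904), none, none,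
    none, none, none, none, some (1, 16558121), some (0, 16339027), some (1, 14050567), some (0, 11323919),
    none, some (1, 8867537), some (1, 9058487), some (0, 9728366), none, none, none, none,
    none, some (1, 16303641), some (0, 15830067), some (0, 14882919), some (0, 12988623), none, some (1, 12347715), none,
    none, some (1, 12379269), some (1, 13797105), none, none, none, some (1, 13816973), none,
    none, none, none, none, none, none, some (1, 13932858), some (0, 11088501),
    some (0, 13788394), some (0, 10799573), some (0, 13210538), some (0, 9643861), some (1, 8470215), some (1, 9188323), some (1, 15012659), none,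
    none, none, none, some (1, 15069480), some (0, 13361745), some (1, 12777991), some (0, 8778767), none,
    none, none, some (1, 11789080), some (0, 15189552), some (0, 13601889), none, none, some (1, 9682444),
    some (0, 10976280), some (0, 13563952), none, none, some (1, 8961992), none, none, none,
    none, none, some (1, 10190967), some (0, 11993326), some (0, 15598044), some (0, 14418873), some (1, 14767165), some (1, 11690445),
    none, none, none, some (1, 13715582), none, none, some (1, 11807866), some (0, 15227124),
    none, some (1, 12322462), none, none, none, some (1, 14986311), some (0, 13195407), some (1, 13525353),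
    some (1, 14895643), some (1, 10385421), none, none, none, none, some (1, 10273491), some (0, 12158374),
    none, some (1, 13014071), none, none, none, none, none, some (1, 10899114),
    some (0, 13409620), some (0, 10042025), some (0, 11695442), some (1, 9899910), some (0, 11411212), none, none, none,
    none, some (1, 13222358), some (0, 9667501), some (0, 10946394), none, some (1, 10599529), some (0, 12810450), none,
    none, none, some (1, 13099110), some (1, 10938962), none, none, none, none,
    some (1, 12458168), some (0, 16527728), some (1, 15812374), some (1, 9925828), some (1, 8531954), some (0, 8675300), none, none,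
    none, none, none, some (1, 16256316), some (1, 16336076), some (0, 15894937), some (1, 10079277), some (0, 11769946),
    none, some (1, 15377609), none, none, none, none, none, none,
    none, none, some (1, 15741767), some (0, 14706319), some (0, 12635423), some (0, 8493631), some (1, 11317581), some (1, 13730651),
    some (0, 10684087), none, none, none, none, some (1, 9421005), some (1, 12757115), some (0, 8737015),
    none, none, none, none, some (1, 9851625), some (0, 11314642), some (0, 14240676), some (0, 11704137),
    some (0, 15019666), none, none, some (1, 15430752), some (0, 14084289), none, none, none,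
    some (1, 13992630), some (1, 10810484), some (0, 13232360), some (0, 9687505), some (0, 10986402), none, none, none,
    some (1, 11699158), none, none, none, none, some (1, 10624315), some (0, 12860022), some (0, 8942829),
    some (0, 9497050), none, some (1, 14812139), none, none, none, none, none,
    none, some (1, 9787203), some (0, 11185798), some (0, 13982988), some (0, 11188761), some (0, 13988914), some (0, 11200613), none,
    some (1, 10905492), none, none, none, some (1, 9135576), some (0, 9882544), some (0, 11376480), some (0, 14364352),
    none, none, none, none, none, some (1, 14457568), some (0, 12137921), some (0, 15887234),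
    some (0, 14997253), none, none, some (1, 13707171), none, none, some (1, 15258930), some (0, 13740645),
    some (1, 11073091), none, none, none, none, none, some (1, 8861075), some (0, 9333542),
    some (0, 10278476), some (0, 12168344), none, some (1, 12752346), some (1, 8767918), none, none, none,
    some (1, 15669840), some (0, 14562465), none, some (1, 14186774), some (0, 11596333), none, some (1, 13584196), none,
    none, none, none, some (1, 8727477), some (0, 9066346), some (0, 9744084), some (1, 8951542), none,
    none, some (1, 15145354), some (0, 13513493), none, some (1, 10316088), none, none, none,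
    none, none, none, none, none, some (1, 11388188), some (0, 14387768), some (0, 11998321),
    some (0, 15608034), some (0, 14438853), some (0, 12100491), some (1, 13997609), some (1, 10548633), none, none, none,
    some (1, 12797299), some (0, 8817383), some (1, 11311219), none, none, some (1, 10971271), some (1, 10365553), none,
    none, none, none, some (1, 16534066), some (1, 16667668), none, none, none,
    some (1, 11546007), some (0, 14703406), some (0, 12629597), some (0, 8481979), none, none, some (1, 12538184), none,
    none, some (1, 10290917), some (0, 12193226), some (1, 14486698), none, none, some (1, 14693619), some (1, 11813799),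
    none, none, none, none, none, some (1, 15268876), some (0, 13760537), some (0, 10743859),
    some (1, 11971333), some (0, 15554058), none, some (1, 10067537), some (1, 13153671), some (1, 12960737), none, none,
    none, none, none, some (1, 9103117), some (0, 9817626), some (0, 11246644), some (0, 14104680), some (1, 11038490),
    none, none, none, some (1, 9352348), none, none, some (1, 12819145), some (1, 8976683),
    none, none, none, none, some (1, 14336968), some (0, 11896721), some (0, 15404834), some (0, 14032453),
    none, some (1, 16611456), none, none, some (1, 9548981), none, none, none,
    none, none, some (1, 13869276), some (0, 10961337), some (0, 13534066), some (1, 15063062), some (1, 10412372), some (0, 12436136),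
    some (1, 15905848), none, none, some (1, 12815958), some (1, 9238726), none, none, none,
    none, none, some (1, 11741245), some (0, 15093882), some (0, 13410549), some (0, 10043883), some (1, 15148075), some (0, 13518935),
    none, none, none, none, some (1, 11946270), some (0, 15503932), some (1, 15782236), none,
    none, some (1, 10423388), some (1, 13118686), none, none, none, none, some (1, 12070477),
    some (0, 15752346), some (0, 14727477), some (0, 12677739), some (0, 8578263), none, none, some (1, 12174149), none,
    none, none, some (1, 14161611), none, none, none, none, none,
    none, none, none, none, some (1, 10949573), some (0, 13510538), some (0, 10243861), some (0, 12099114),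
    some (0, 15809620), some (0, 14842025), some (0, 12906835), some (0, 9036455), some (0, 9684302), some (0, 10979996), none, some (1, 8891594),
    some (0, 9394580), none, some (1, 9218746), none, none, none, some (1, 15118945), some (0, 13460675),
    none, none, none, some (1, 8897303), some (0, 9405998), some (1, 14989528), some (0, 13201841), none,
    some (1, 10011454), some (0, 11634300), none, some (1, 15176780), none, none, none, none,
    none, none, none, some (1, 9988038), some (0, 11587468), some (0, 14786328), some (0, 12795441), some (0, 8813667),
    some (1, 11406227), none, none, none, some (1, 10088844), none, none, some (1, 10196200),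
    some (1, 14724522), some (0, 12671829), some (0, 8566443), none, some (1, 9138503), none, none, none,
    none, none, some (1, 13047522), some (0, 9317829), some (0, 10247050), some (0, 12105492), some (1, 13735876), some (1, 8517090),
    none, none, none, some (1, 13571384), none, none, some (1, 13175539), some (0, 9573863),
    some (1, 10816995), none, none, none, none, some (1, 10779058), some (0, 13169508), some (0, 9561801),
    some (0, 10734994), none, none, some (1, 14930754), some (0, 13084293), none, some (1, 9959682), some (0, 11530756),
    none, none, none, none, some (1, 12518196), some (0, 16647784), some (0, 16518353), none,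
    none, none, none, none, none, none, some (1, 16553352), some (0, 16329489),
    some (0, 15881763), some (1, 11951489), some (0, 15514370), none, some (1, 10161585), none, none, none,
    some (1, 14251525), some (1, 12744641), some (0, 8712067), some (0, 9035526), none, none, some (1, 8608675), some (1, 11483425),
    some (0, 14578242), none, none, none, none, none, none, some (1, 13747640),
    some (0, 10718065), some (1, 12171271), some (0, 15953934), some (0, 15130653), some (0, 13484091), none, none, none,
    some (1, 14460737), some (0, 12144259), none, none, none, none, some (1, 10740908), some (0, 13093208),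
    some (0, 9409201), some (0, 10429794), some (0, 12470980), none, none, none, some (1, 9168926), some (0, 9949244),
    some (0, 11509880), none, some (1, 10661212), none, none, none, none, some (1, 11709160),
    some (0, 15029712), some (0, 13282209), none, some (1, 9658806), some (0, 10929004), some (0, 13469400), none, none,
    none, none, none, none, none, none, none, some (1, 13309141),
    some (0, 9841067), some (0, 11293526), some (0, 14198444), some (0, 11619673), none, some (1, 14735080), some (1, 11719082), none,
    none, none, none, some (1, 11341369), some (0, 14294130), some (0, 11811045), some (0, 15233482), some (0, 13689749),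
    some (1, 8640101), none, none, some (1, 14107434), none, none, some (1, 12060531), some (1, 16061575),
    some (1, 9725425), none, none, none, none, some (1, 15486342), some (0, 14195469), some (0, 11613723),
    some (1, 9713549), none, none, none, some (1, 14631152), some (0, 12485089), some (0, 16581570), none,
    none, some (1, 14838838), none, none, none, none, some (1, 16265373), some (0, 15753531),
    some (0, 14729847), some (1, 11980871), none, none, some (1, 12011021), some (0, 15633434), some (0, 14489653), some (0, 12202091),
    none, none, none, some (1, 9583833), some (1, 8916911), none, none, none,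
    none, some (1, 13649773), some (0, 10522331), some (1, 10260655), some (0, 12132702), none, some (1, 14976377), none,
    none, none, some (1, 10704075), none, none, none, none, none,
    some (1, 12610023), some (0, 8442831), some (0, 8497054), some (0, 8605500), some (0, 8822392), some (0, 9256176), some (0, 10123744), none,
    some (1, 15213494), none, none, some (1, 11049374), none, none, some (1, 11221196), some (0, 14053784),
    some (0, 11330353), none, none, some (1, 14166890), some (0, 11556565), none, none, none,
    none, some (1, 8762092), none, none, some (1, 8884587), some (0, 9380566), some (0, 10372524), some (1, 14879992),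
    some (0, 12982769), none, none, none, none, some (1, 10856731), some (0, 13324854), some (1, 15104324),
    some (0, 13431433), none, some (1, 10177362), none, none, none, some (1, 10330653), none,
    none, none, none, some (1, 11485795), some (0, 14582982), some (0, 12388749), some (0, 16388890), some (0, 16000565),
    some (0, 15223915), none, none, none, some (1, 14230649), some (0, 11684083), some (0, 14979558), none,
    some (1, 12454951), none, none, none, none, some (1, 12897522), some (0, 9017829), some (0, 9647050),
    none, some (1, 15311203), some (0, 13845191), none, none, none, none, none,
    none, none, none, none, some (1, 12933816), some (0, 9090417), some (0, 9792226), some (0, 11195844),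
    some (0, 14003080), some (0, 11228945), some (1, 13842821), some (0, 10908427), some (0, 13428246), none, some (1, 9902873), none,
    none, none, none, none, some (1, 13863394), some (1, 11398178), some (0, 14407748), some (0, 12038281),
    none, some (1, 13299010), some (1, 13617794), none, none, none, some (1, 16687760), some (1, 13688372),
    none, none, none, none, none, some (1, 11417138), some (0, 14445668), some (0, 12114121),
    some (0, 15839634), some (0, 14902053), none, none, some (1, 14320939), some (0, 11864663), some (0, 15340718), some (0, 13904221),
    none, none, none, none, none, some (1, 15353554), some (0, 13929893), some (0, 11082571),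
    some (0, 13776534), none, some (1, 14496011), none, none, none, some (1, 14047398), none,
    none, none, some (1, 15997844), some (0, 15218473), some (0, 13659731), some (0, 10542247), none, some (1, 9328263),
    some (0, 10267918), none, none, none, some (1, 15815561), none, none, some (1, 10048884),
    some (1, 14886342), some (0, 12995469), some (0, 9213723), some (1, 12947869), none, none, none, none,
    none, none, none, none, some (1, 14781319), some (0, 12785423), some (0, 8793631), some (0, 9198654),
    some (0, 10008700), some (0, 11628792), some (0, 14868976), some (1, 11782694), none, none, none, some (1, 15238990),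
    some (0, 13700765), none, some (1, 14012618), some (0, 11248021), none, none, none, none,
    none, some (1, 9181917), some (0, 9975226), some (0, 11561844), some (1, 12260934), none, none, some (1, 15009708),
    some (0, 13242201), none, none, none, some (1, 13111679), some (0, 9446143), some (1, 10753647), some (1, 11801051),
    none, none, none, none, none, none, some (1, 8747465), some (0, 9106322),
    some (0, 9824036), some (1, 10729168), some (1, 9485222), none, none, none, some (1, 13081380), none,
    none, some (1, 9118523), some (0, 9848438), some (0, 11308268), some (0, 14227928), none, some (1, 16285946), none,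
    none, none, some (1, 15022605), some (0, 13267995), none, some (1, 9991001), none, none,
    none, none, none, some (1, 10350689), some (0, 12312770), some (0, 16236932), some (0, 15696649), some (0, 14616083),
    none, none, none, some (1, 14069282), some (0, 11361349), some (1, 14295507), none, none,
    none, none, some (1, 14853907), some (0, 12930599), some (0, 9083983), some (0, 9779358), none, some (1, 13404619),
    none, none, some (1, 11432145), some (0, 14475682), none, some (1, 13765431), none, none,
    none, some (1, 9820805), some (0, 11253002), none, none, none, none, none,
    none, some (1, 11170108), some (0, 13951608), some (0, 11126001), some (1, 15900839), some (0, 15024463), none, some (1, 11849313),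
    some (0, 15310018), none, some (1, 12227731), some (0, 16066854), some (1, 12412496), some (0, 16436384), none, none,
    none, none, none, none, none, some (1, 10671646), some (0, 12954684), some (0, 9132153),
    some (0, 9875698), none, some (1, 15345935), some (0, 13914655), some (0, 11052095), none, none, none,
    none, some (1, 11068124), some (1, 13800046), none, none, none, some (1, 9869772), some (0, 11350936),
    some (0, 14313264), some (1, 14900868), none, none, some (1, 13710140), some (0, 10643065), none, some (1, 10581836),
    some (0, 12775064), some (0, 8772913), none, none, none, none, none, some (1, 9014650),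
    some (0, 9640692), some (0, 10892776), some (0, 13396944), none, none, some (1, 11025766), some (0, 13662924), none,
    none, none, some (1, 15573134), some (0, 14369053), none, none, none, none,
    none, none, some (1, 15928140), some (0, 15079065), some (0, 13380915), some (0, 9984615), some (0, 11580622), some (0, 14772636),
    some (0, 12768057), none, none, some (1, 9734122), none, none, none, some (1, 15549077),
    none, none, some (1, 9460157), some (0, 10531706), some (1, 11899662), some (0, 15410716), some (0, 14044217), none,
    none, none, none, some (1, 11208045), some (0, 14027482), some (0, 11277749), some (1, 15794677), none,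
    none, none, none, none, none, some (1, 10058826), some (0, 11729044), some (1, 10129252),
    some (0, 11869896), none, none, none, none, none, none, none,
    none, some (1, 9517427), some (0, 10646246), some (0, 12903884), some (0, 9030553), some (0, 9672498), some (0, 10956388), some (1, 12073682),
    some (0, 15758756), none, some (1, 14423846), none, none, none, some (1, 10861956), some (0, 13335304),
    some (0, 9893393), none, none, none, none, some (1, 13348909), some (0, 9920603), some (0, 11452598),
    some (0, 14516588), some (0, 12255961), some (1, 13646895), none, none, some (1, 14804058), some (0, 12830901), none,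
    some (1, 9888398), none, none, none, some (1, 16156788), some (0, 15536361), none, some (1, 12110934),
    none, none, none, none, some (1, 14740297), some (0, 12703379), some (0, 8629543), some (1, 11381441),
    none, none, some (1, 8843685), none, none, some (1, 10211851), some (0, 12035094), none,
    some (1, 13024521), some (0, 9271827), none, none, none, none, none, none,
    some (1, 8635130), some (0, 8881652), some (1, 10594550), some (1, 12362342), none, none, none, some (1, 10926126),
    some (0, 13463644), some (0, 10150073), some (0, 11911538), some (0, 15434468), none, none, some (1, 14847533), some (0, 12917851),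
    some (1, 9200031), none, none, none, none, some (1, 12739422), some (0, 8701629), some (1, 10653949),
    some (0, 12919290), none, some (1, 11569519), none, none, none, some (1, 8870478), some (1, 9320794),
    some (0, 10252980), none, some (1, 13437726), none, none, none, none, none,
    some (1, 12356440), some (0, 16324272), some (0, 15871329), some (0, 14965443), none, none, none, some (1, 14259230),
    none, none, none, none, none, some (1, 11934562), some (0, 15480516), some (1, 13652978),
    some (0, 10528741), some (0, 12668874), some (0, 8560533), some (0, 8732458), none, none, some (1, 9400490), some (1, 15084344),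
    some (1, 12147228), none, none, none, none, some (1, 11637475), some (1, 11842851), some (0, 15297094),
    none, none, none, none, some (1, 10966310), some (0, 13544012), some (0, 10310809), some (0, 12233010),
    some (0, 16077412), none, none, some (1, 12723645), some (0, 8670075), none, some (1, 10570477), none,
    none, none, some (1, 13163098), some (1, 13553934), none, none, none, some (1, 12003792),
    some (0, 15618976), some (1, 15948080), some (1, 12283140), some (0, 16177672), none, none, none, none,
    some (1, 10038838), some (0, 11689068), none, none, none, none, none, none,
    some (1, 12393746), some (0, 16398884), some (0, 16020553), some (0, 15263891), some (0, 13750567), some (0, 10723919), some (1, 9747019), none,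
    none, some (1, 11003201), none, none, none, some (1, 9586587), some (0, 10784566), some (0, 13180524),
    none, some (1, 12423380), some (1, 13673846), none, none, none, some (1, 8854701), none,
    none, none, some (1, 16277312), some (0, 15777409), some (0, 14777603), some (1, 10445697), none, none,
    some (1, 10016673), none, none, some (1, 14374274), some (1, 13069728), some (0, 9362241), none, some (1, 11233968),
    some (0, 14079328), none, none, none, none, none, none, none,
    none, none, some (1, 11347719), some (0, 14306830), some (0, 11836445), some (0, 15284282), some (0, 13791349), some (0, 10805483),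
    some (1, 11960891), some (0, 15533174), some (0, 14289133), none, some (1, 16015574), none, none, none,
    none, some (1, 10637127), some (0, 12885646), some (0, 8994077), some (1, 13181901), none, none, none,
    some (1, 10426563), none, none, none, some (1, 16540428), none, none, some (1, 9995741),
    some (0, 11602874), some (0, 14817140), some (0, 12857065), some (0, 8936915), none, some (1, 11031227), some (1, 16126253), none,
    none, none, some (1, 11622854), none, none, some (1, 12399660), some (1, 15738840), some (0, 14700465),
    some (1, 12275877), none, none, some (1, 9524910), none, none, none, none,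
    some (1, 12682479), some (0, 8587743), some (0, 8786878), some (0, 9185148), some (0, 9981688), some (0, 11574768), none, none,
    some (1, 14750430), none, none, some (1, 10819964), none, none, some (1, 9250927), some (0, 10113246),
    some (0, 11837884), none, some (1, 12979566), none, none, some (1, 15475291), some (0, 14173367), none,
    none, none, none, none, none, none, some (1, 13524168), some (0, 10271121),
    some (0, 12153634), none, some (1, 13207349), some (0, 9637483), some (0, 10886358), some (1, 10226166), none, none,
    some (1, 11287691), none, none, some (1, 14807237), some (0, 12837259), some (1, 8907305), none, none,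
    some (1, 9626467), some (0, 10864326), some (0, 13340044), none, none, some (1, 10984963), some (0, 13581318), none,
    none, none, none, none, none, some (1, 13257146), some (0, 9737077), some (0, 11085546),
    some (0, 13782484), some (0, 10787753), some (1, 12161337), none, none, some (1, 9129190), none, none,
    some (1, 16003754), some (0, 15230293), some (0, 13683371), none, none, some (1, 11818808), none, none,
    none, some (1, 10589527), some (0, 12790446), some (0, 8803677), none, some (1, 11303528), some (0, 14218448), none,
    none, none, some (1, 9806279), some (0, 11223950), none, some (1, 8758899), none, none,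
    none, none, some (1, 15681580), some (0, 14585945), some (0, 12394675), some (0, 16400742), some (0, 16024269), some (0, 15271323),
    none, none, some (1, 16206914), none, none, none, none, some (1, 16410712),
    some (0, 16044209), some (1, 11715893), some (1, 11766981), none, none, none, none, none,
    none, none, none, some (1, 13972177), some (0, 11167139), some (0, 13945670), some (0, 11114125), some (0, 13839642),
    some (1, 9268876), some (0, 10149144), some (0, 11909680), none, none, some (1, 13251320), none, none,
    none, some (1, 13677033), some (1, 10602283), none, none, none, some (1, 9426002), some (0, 10463396),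
    some (1, 15249008), some (1, 16306822), some (0, 15836429), none, none, none, none, some (1, 13019542),
    some (0, 9261869), none, some (1, 9292404), some (1, 15380566), some (0, 13983917), none, none, none,
    none, none, none, some (1, 16190113), some (0, 15603011), some (0, 14428807), some (0, 12080399), some (0, 15772190),
    none, some (1, 14091721), none, none, some (1, 13391473), some (0, 10005731), none, none,
    none, some (1, 13978003), some (0, 11178791), some (0, 13968974), some (0, 11160733), none, none, some (1, 16095553),
    some (1, 10085651), none, none, none, some (1, 9397301), some (0, 10405994), none, none,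
    none, none, some (1, 12090417), some (0, 15792226), some (1, 12502786), some (0, 16616964), none, none,
    none, some (1, 16385925), some (0, 15994635), some (0, 15212055), none, none, some (1, 13720801), some (0, 10664387),
    some (1, 10324771), some (1, 15578129)],
   [some (0, 8912566), some (0, 9436524), some (0, 10484440), some (0, 12580272), some (0, 16771936), some (0, 16766657), some (0, 16756099), none,
    some (1, 13827507), some (0, 10877799), some (0, 13366990), none, some (1, 12563283), none, none, none,
    none, some (1, 16514578), some (0, 16251941), some (0, 15726667), some (0, 14676119), none, some (1, 14609179), some (0, 12441143),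
    some (0, 16493678), none, none, none, none, none, some (1, 14614404), some (0, 12451593),
    none, none, none, none, some (1, 15970228), some (0, 15163241), some (0, 13549267), some (0, 10321319),
    some (0, 12254030), none, some (1, 15673329), none, none, none, some (1, 12286363), some (0, 16184118),
    some (0, 15591021), some (0, 14404827), none, none, some (1, 12050260), none, none, none,
    none, some (1, 12189412), some (0, 15990216), some (0, 15203217), none, some (1, 10219434), some (1, 15711912), some (1, 16317368),
    some (0, 15857521), none, none, none, none, none, none, none,
    none, some (1, 13287230), some (0, 9797245), some (0, 11205882), some (0, 14023156), some (0, 11269097), some (1, 15973163), none,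
    none, some (1, 11265910), none, none, some (1, 16681902), some (0, 16586589), some (0, 16395963), none,
    some (1, 13727199), some (0, 10677183), none, none, none, none, none, some (1, 11155423),
    some (0, 13922238), some (1, 11491068), some (0, 14593528), some (1, 15322814), some (0, 13868413), none, none, none,
    some (1, 15874558), none, none, none, some (1, 13966319), none, none, none,
    some (1, 15588300), some (0, 14399385), some (0, 12021555), some (0, 15654502), some (0, 14531789), some (1, 13166587), some (0, 9555959), none,
    none, none, some (1, 16701906), some (0, 16626597), none, none, none, some (1, 12533397),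
    some (0, 16678186), none, some (1, 14172149), some (1, 15292391), none, none, none, none,
    some (1, 12713901), none, none, some (1, 14414202), some (0, 12051189), some (1, 11714167), some (0, 15039726), none,
    some (1, 12361671), some (1, 14521843), none, none, none, none, some (1, 15200014), some (0, 13622813),
    some (0, 10468411), none, some (1, 13302237), none, none, none, none, none,
    none, none, some (1, 15444954), some (0, 14112693), some (0, 11448171), some (0, 14507734), some (0, 12238253), some (1, 16355305),
    some (0, 15933395), none, some (1, 16381099), none, none, none, some (1, 13530614), some (0, 10284013),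
    some (0, 12179418), none, none, some (1, 15158262), some (1, 12548214), some (0, 16707820), none, none,
    none, none, none, some (1, 16620187), some (1, 14480701), some (0, 12184187), none, some (1, 14927837),
    some (0, 13078459), some (0, 9379703), some (1, 15546839), none, none, some (1, 11401405), none, none,
    some (1, 9697519), some (0, 11006430), some (1, 9939838), none, none, none, none, none,
    none, none, some (1, 10714613), some (0, 13040618), some (0, 9304021), some (1, 12825591), some (0, 8873967), some (0, 9359326),
    none, some (1, 10959611), none, none, none, none, some (1, 11524922), some (0, 14661236),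
    some (0, 12545257), none, none, some (1, 16759068), some (0, 16740921), some (0, 16704627), some (0, 16632039), none,
    none, none, some (1, 14282588), some (0, 11787961), none, none, none, none,
    none, some (1, 12266471), some (0, 16144334), some (0, 15511453), none, some (1, 9919994), some (1, 11480510), none,
    none, none, some (1, 16596579), some (0, 16415943), some (1, 14569443), some (1, 15686835), none, none,
    none, some (1, 16545683), none, none, none, none, none, some (1, 14547502),
    some (0, 12317789), some (0, 16246970), some (0, 15716725), some (0, 14656235), some (0, 12535255), none, some (1, 15007291), some (1, 12506013),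
    none, none, none, some (1, 15984983), some (0, 15192751), some (0, 13608287), none, some (1, 11991417),
    none, none, some (1, 10481223), none, none, none, none, some (1, 13807567),
    some (0, 10837919), none, none, none, some (1, 15660888), some (0, 14544561), some (0, 12311907), some (0, 16235206),
    some (0, 15693197), some (1, 13855737), none, none, none, none, some (1, 15398581), some (0, 14019947),
    none, some (1, 15916005), none, none, none, some (1, 13884318), some (0, 10991421), some (0, 13594234),
    some (0, 10411253), some (1, 15371767), none, none, none, none, none, none,
    none, none, none, some (1, 11451380), some (0, 14514152), some (0, 12251089), some (0, 16113570), some (0, 15449925),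
    some (0, 14122635), some (0, 11468055), none, none, some (1, 14285763), some (0, 11794311), none, some (1, 13629219),
    none, none, none, none, some (1, 14392999), some (0, 12008783), some (0, 15628958), some (1, 14572412),
    some (0, 12367609), none, some (1, 15424862), some (1, 14641614), none, none, none, none,
    some (1, 10301403), some (0, 12214198), none, some (1, 13448895), some (0, 10120575), some (0, 11852542), some (0, 15316476), none,
    none, none, some (1, 14971901), none, none, none, none, some (1, 15531489),
    some (1, 16499635), some (0, 16222055), some (0, 15666895), none, none, none, none, none,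
    none, some (1, 14907322), some (0, 13037429), some (0, 9297643), some (0, 10206678), some (1, 13479910), some (0, 10182605), none,
    some (1, 15594226), some (0, 14411237), some (1, 14937827), none, none, none, none, none,
    some (1, 15643067), some (0, 14508919), some (0, 12240623), some (1, 16162027), none, none, some (1, 15169111), some (0, 13561007),
    none, some (1, 9862103), none, none, none, none, none, some (1, 11262679),
    some (0, 14136750), some (0, 11496285), some (0, 14603962), some (0, 12430709), some (1, 16361175), none, none, none,
    none, none, some (1, 14596455), some (0, 12415695), none, some (1, 15585107), none, none,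
    none, none, some (1, 12024748), some (1, 12271480), some (0, 16154352), none, some (1, 16334734), some (0, 15892253),
    none, none, none, none, none, none, some (1, 16358262), some (0, 15939309),
    some (0, 15101403), some (0, 13425591), some (0, 10073967), some (0, 11759326), some (0, 15130044), some (1, 12306940), none, none,
    some (1, 10370798), some (0, 12352988), none, some (1, 15474682), none, none, none, some (1, 15054795),
    some (0, 13332375), none, some (1, 9827259), none, none, none, none, some (1, 10439359),
    some (0, 12490110), some (0, 16591612), some (0, 16406009), some (0, 16034803), none, some (1, 15945135), none, none,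
    some (1, 16283262), none, none, some (1, 16092638), some (1, 10347774), some (1, 15116030), none, none,
    none, none, some (1, 15613053), some (0, 14448891), some (0, 12120567), some (0, 15852526), none, none,
    some (1, 15615807), some (1, 16210141), none, none, none, some (1, 16272351), some (0, 15767487), none,
    none, none, none, none, some (1, 11567083), some (0, 14745558), some (1, 10474470), some (0, 12560332),
    some (0, 16732056), some (0, 16686897), some (1, 16375189), none, none, some (1, 14384316), none, none,
    none, some (1, 15187314), some (0, 13597413), none, some (1, 12446614), some (0, 16504620), none, none,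
    none, none, none, some (1, 12523435), some (0, 16658262), some (0, 16539309), none, none,
    none, none, none, some (1, 16643398), some (0, 16509581), some (0, 16241947), some (0, 15706679), some (0, 14636143),
    none, some (1, 16579157), some (1, 14341975), some (0, 11906735), none, some (1, 13098439), none, none,
    none, none, some (1, 9956765), some (1, 9154301), some (1, 15252207), some (1, 16569195), none, none,
    none, none, none, some (1, 14351977), some (0, 11926739), some (0, 15464870), none, none,
    some (1, 15392651), some (0, 14008087), some (0, 11238959), none, none, some (1, 14670249), some (1, 15461689), none,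
    none, none, none, none, some (1, 14149586), some (0, 11521957), some (0, 14655306), none,
    none, none, none, none, none, none, some (1, 9419663), some (0, 10450718),
    some (0, 12512828), some (0, 16637048), some (0, 16496881), some (0, 16216547), some (0, 15655879), some (0, 14534543), some (0, 12291871), none,
    some (1, 13104377), some (0, 9431539), none, none, none, some (1, 14146163), some (0, 11515111), none,
    none, none, none, some (1, 16314151), some (0, 15851087), some (0, 14924959), none, some (1, 10417611),
    none, none, none, none, some (1, 16442782), some (0, 16108349), some (0, 15439483), some (0, 14101751),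
    none, some (1, 16054671), none, none, none, some (1, 14143212), some (0, 11509209), some (0, 14629810),
    some (0, 12482405), some (0, 16576202), none, none, some (1, 15564596), none, none, some (1, 14264767),
    some (0, 11752319), none, none, none, none, none, none, some (1, 16424668),
    some (0, 16072121), some (0, 15367027), some (0, 13956839), some (0, 11136463), none, some (1, 10934259), some (1, 12032439), none,
    none, none, some (1, 16734983), some (0, 16692751), some (0, 16608287), some (0, 16439359), none, none,
    some (1, 13950937), some (1, 9164223), none, none, none, some (1, 14646609), some (0, 12516003), none,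
    none, none, none, some (1, 12150717), some (0, 15912826), some (0, 15048437), some (0, 13319659), some (1, 15559595),
    none, none, none, some (1, 12573838), none, none, none, none,
    some (1, 14212590), some (0, 11647965), none, some (1, 15713770), some (0, 14650325), some (1, 13237367), none, none,
    none, none, none, none, some (1, 13058012), some (0, 9338809), some (0, 10289010), some (1, 15701910),
    some (0, 14626605), some (0, 12475995), some (1, 14556575), some (0, 12335935), none, some (1, 13454845), some (1, 15425791), none,
    none, none, none, some (1, 15302361), some (1, 14316463), some (0, 11855711), none, none,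
    none, none, none, none, some (1, 15408061), some (0, 14038907), some (0, 11300599), some (1, 16650999),
    some (0, 16524783), none, some (1, 16014711), none, none, none, none, some (1, 16349549),
    some (0, 15921883), some (0, 15066551), some (0, 13355887), some (0, 9934559), none, none, none, some (1, 9887535),
    some (0, 11386462), none, none, none, some (1, 16475979), some (0, 16174743), none, none,
    none, none, none, some (1, 9010174), some (0, 9631740), some (0, 10874872), some (0, 13361136), some (0, 9945057),
    some (0, 11501506), none, some (1, 11124659), none, none, none, some (1, 12300990), some (0, 16213372),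
    some (0, 15649529), none, none, some (1, 16039788), none, none, none, some (1, 10723310),
    some (1, 12433898), some (0, 16479188), some (0, 16181161), none, some (1, 13860710), none, none, some (1, 16623418),
    some (0, 16469621), none, some (1, 16119452), none, none, none, none, none,
    some (1, 15676270), some (0, 14575325), some (0, 12373435), some (1, 16745661), some (0, 16714107), none, some (1, 15789309), none,
    none, none, some (1, 12738303), some (0, 8699391), some (1, 11371519), some (0, 14354430), none, some (1, 16101503),
    none, none, none, some (1, 11426287), some (0, 14463966), some (1, 12965758), none, none,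
    none, none, none, some (1, 16087898), none, none, none, none,
    none, some (1, 13482873), some (0, 10188531), some (0, 11988454), some (1, 12553970), some (0, 16719332), some (0, 16661449), some (1, 14245691),
    none, none, some (1, 16346610), some (1, 16737958), some (0, 16698701), none, none, none,
    none, some (1, 16563382), some (1, 16566260), some (1, 15979766), some (0, 15182317), none, none, none,
    none, none, none, some (1, 15089575), some (0, 13401935), some (0, 10026655), some (0, 11664702), some (0, 14940796),
    none, none, some (1, 13539309), some (1, 14801403), some (1, 12575023), some (1, 16232025), none, none,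
    none, none, none, some (1, 13587419), some (0, 10397623), some (0, 12406638), none, none,
    some (1, 13072703), some (0, 9368191), some (1, 15113055), some (1, 10344799), none, none, none, none,
    none, none, some (1, 12409841), some (0, 16431074), some (0, 16084933), none, none, some (1, 16463159),
    some (0, 16149103), some (0, 15520991), some (1, 14074367), none, none, none, none, none,
    none, none, some (1, 15332127), some (0, 13887039), some (0, 10996863), some (0, 13605118), some (0, 10433021), some (0, 12477434),
    some (1, 16195134), none, none, some (1, 14757759), none, none, some (1, 15526270), some (0, 14275325),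
    some (0, 11773435), none, some (1, 14873967), some (0, 12970719), none, some (1, 12045259), none, none,
    none, some (1, 16761438), some (1, 14089310), none, none, none, none, some (1, 12495071),
    some (0, 16601534), some (0, 16425853), some (0, 16074491), none, none, none, some (1, 14454399), some (0, 12131583),
    none, none, none, none, some (1, 10944205), some (0, 13499802), some (0, 10222389), some (0, 12056170),
    some (1, 11976602), some (1, 10330044), none, none, none, none, some (1, 13624252), some (0, 10471289),
    none, none, none, some (1, 10132475), some (0, 11876342), some (0, 15364076), some (1, 16472810), some (0, 16168405),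
    none, none, none, none, some (1, 15572271), some (0, 14367327), some (0, 11957439), some (1, 11931645),
    none, none, none, some (1, 16638425), none, none, none, none,
    none, some (1, 14152525), some (0, 11527835), some (0, 14667062), some (0, 12556909), some (0, 16725210), some (0, 16673205), none,
    none, some (1, 16301403), some (0, 15825591), none, none, none, some (1, 15723732), some (1, 14346998),
    some (0, 11916781), none, none, none, none, some (1, 14072509), some (0, 11367803), some (1, 16196511),
    none, none, some (1, 11067261), some (0, 13745914), some (1, 11335598), some (1, 16225272), none, none,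
    none, some (1, 16486863)],
   []]

set_option maxRecDepth 100000 in
/-- The code words visited, with the index of the representative. -/
def m23vis : List (ℕ × ℕ) :=
  [(16777215, 7), (16486863, 6), (16225272, 6), (11335598, 6), (13745914, 6), (11067261, 6), (16196511, 6), (11367803, 6),
   (14072509, 6), (11916781, 6), (14346998, 6), (15723732, 6), (15825591, 6), (16301403, 6), (16673205, 6), (16725210, 6),
   (12556909, 6), (14667062, 6), (11527835, 6), (14152525, 6), (16638425, 6), (11931645, 6), (11957439, 6), (14367327, 6),
   (15572271, 6), (16168405, 6), (16472810, 6), (15364076, 6), (11876342, 6), (10132475, 6), (10471289, 6), (13624252, 6),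
   (10330044, 6), (11976602, 6), (12056170, 6), (10222389, 6), (13499802, 6), (10944205, 6), (12131583, 6), (14454399, 6),
   (16074491, 6), (16425853, 6), (16601534, 6), (12495071, 6), (14089310, 6), (16761438, 6), (12045259, 6), (12970719, 6),
   (14873967, 6), (11773435, 6), (14275325, 6), (15526270, 6), (14757759, 6), (16195134, 6), (12477434, 6), (10433021, 6),
   (13605118, 6), (10996863, 6), (13887039, 6), (15332127, 6), (14074367, 6), (15520991, 6), (16149103, 6), (16463159, 6),
   (16084933, 6), (16431074, 6), (12409841, 6), (10344799, 6), (15113055, 6), (9368191, 6), (13072703, 6), (12406638, 6),
   (10397623, 6), (13587419, 6), (16232025, 6), (12575023, 6), (14801403, 6), (13539309, 6), (14940796, 6), (11664702, 6),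
   (10026655, 6), (13401935, 6), (15089575, 6), (15182317, 6), (15979766, 6), (16566260, 6), (16563382, 6), (16698701, 6),
   (16737958, 6), (16346610, 6), (14245691, 6), (16661449, 6), (16719332, 6), (12553970, 6), (11988454, 6), (10188531, 6),
   (13482873, 6), (16087898, 6), (12965758, 6), (14463966, 6), (11426287, 6), (16101503, 6), (14354430, 6), (11371519, 6),
   (8699391, 6), (12738303, 6), (15789309, 6), (16714107, 6), (16745661, 6), (12373435, 6), (14575325, 6), (15676270, 6),
   (16119452, 6), (16469621, 6), (16623418, 6), (13860710, 6), (16181161, 6), (16479188, 6), (12433898, 6), (10723310, 6),
   (16039788, 6), (15649529, 6), (16213372, 6), (12300990, 6), (11124659, 6), (11501506, 6), (9945057, 6), (13361136, 6),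
   (10874872, 6), (9631740, 6), (9010174, 6), (16174743, 6), (16475979, 6), (11386462, 6), (9887535, 6), (9934559, 6),
   (13355887, 6), (15066551, 6), (15921883, 6), (16349549, 6), (16014711, 6), (16524783, 6), (16650999, 6), (11300599, 6),
   (14038907, 6), (15408061, 6), (11855711, 6), (14316463, 6), (15302361, 6), (15425791, 6), (13454845, 6), (12335935, 6),
   (14556575, 6), (12475995, 6), (14626605, 6), (15701910, 6), (10289010, 6), (9338809, 6), (13058012, 6), (13237367, 6),
   (14650325, 6), (15713770, 6), (11647965, 6), (14212590, 6), (12573838, 6), (15559595, 6), (13319659, 6), (15048437, 6),
   (15912826, 6), (12150717, 6), (12516003, 6), (14646609, 6), (9164223, 6), (13950937, 6), (16439359, 6), (16608287, 6),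
   (16692751, 6), (16734983, 6), (12032439, 6), (10934259, 6), (11136463, 6), (13956839, 6), (15367027, 6), (16072121, 6),
   (16424668, 6), (11752319, 6), (14264767, 6), (15564596, 6), (16576202, 6), (12482405, 6), (14629810, 6), (11509209, 6),
   (14143212, 6), (16054671, 6), (14101751, 6), (15439483, 6), (16108349, 6), (16442782, 6), (10417611, 6), (14924959, 6),
   (15851087, 6), (16314151, 6), (11515111, 6), (14146163, 6), (9431539, 6), (13104377, 6), (12291871, 6), (14534543, 6),
   (15655879, 6), (16216547, 6), (16496881, 6), (16637048, 6), (12512828, 6), (10450718, 6), (9419663, 6), (14655306, 6),
   (11521957, 6), (14149586, 6), (15461689, 6), (14670249, 6), (11238959, 6), (14008087, 6), (15392651, 6), (15464870, 6),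
   (11926739, 6), (14351977, 6), (16569195, 6), (15252207, 6), (9154301, 6), (9956765, 6), (13098439, 6), (11906735, 6),
   (14341975, 6), (16579157, 6), (14636143, 6), (15706679, 6), (16241947, 6), (16509581, 6), (16643398, 6), (16539309, 6),
   (16658262, 6), (12523435, 6), (16504620, 6), (12446614, 6), (13597413, 6), (15187314, 6), (14384316, 6), (16375189, 6),
   (16686897, 6), (16732056, 6), (12560332, 6), (10474470, 6), (14745558, 6), (11567083, 6), (15767487, 6), (16272351, 6),
   (16210141, 6), (15615807, 6), (15852526, 6), (12120567, 6), (14448891, 6), (15613053, 6), (15116030, 6), (10347774, 6),
   (16092638, 6), (16283262, 6), (15945135, 6), (16034803, 6), (16406009, 6), (16591612, 6), (12490110, 6), (10439359, 6),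
   (9827259, 6), (13332375, 6), (15054795, 6), (15474682, 6), (12352988, 6), (10370798, 6), (12306940, 6), (15130044, 6),
   (11759326, 6), (10073967, 6), (13425591, 6), (15101403, 6), (15939309, 6), (16358262, 6), (15892253, 6), (16334734, 6),
   (16154352, 6), (12271480, 6), (12024748, 6), (15585107, 6), (12415695, 6), (14596455, 6), (16361175, 6), (12430709, 6),
   (14603962, 6), (11496285, 6), (14136750, 6), (11262679, 6), (9862103, 6), (13561007, 6), (15169111, 6), (16162027, 6),
   (12240623, 6), (14508919, 6), (15643067, 6), (14937827, 6), (14411237, 6), (15594226, 6), (10182605, 6), (13479910, 6),
   (10206678, 6), (9297643, 6), (13037429, 6), (14907322, 6), (15666895, 6), (16222055, 6), (16499635, 6), (15531489, 6),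
   (14971901, 6), (15316476, 6), (11852542, 6), (10120575, 6), (13448895, 6), (12214198, 6), (10301403, 6), (14641614, 6),
   (15424862, 6), (12367609, 6), (14572412, 6), (15628958, 6), (12008783, 6), (14392999, 6), (13629219, 6), (11794311, 6),
   (14285763, 6), (11468055, 6), (14122635, 6), (15449925, 6), (16113570, 6), (12251089, 6), (14514152, 6), (11451380, 6),
   (15371767, 6), (10411253, 6), (13594234, 6), (10991421, 6), (13884318, 6), (15916005, 6), (14019947, 6), (15398581, 6),
   (13855737, 6), (15693197, 6), (16235206, 6), (12311907, 6), (14544561, 6), (15660888, 6), (10837919, 6), (13807567, 6),
   (10481223, 6), (11991417, 6), (13608287, 6), (15192751, 6), (15984983, 6), (12506013, 6), (15007291, 6), (12535255, 6),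
   (14656235, 6), (15716725, 6), (16246970, 6), (12317789, 6), (14547502, 6), (16545683, 6), (15686835, 6), (14569443, 6),
   (16415943, 6), (16596579, 6), (11480510, 6), (9919994, 6), (15511453, 6), (16144334, 6), (12266471, 6), (11787961, 6),
   (14282588, 6), (16632039, 6), (16704627, 6), (16740921, 6), (16759068, 6), (12545257, 6), (14661236, 6), (11524922, 6),
   (10959611, 6), (9359326, 6), (8873967, 6), (12825591, 6), (9304021, 6), (13040618, 6), (10714613, 6), (9939838, 6),
   (11006430, 6), (9697519, 6), (11401405, 6), (15546839, 6), (9379703, 6), (13078459, 6), (14927837, 6), (12184187, 6),
   (14480701, 6), (16620187, 6), (16707820, 6), (12548214, 6), (15158262, 6), (12179418, 6), (10284013, 6), (13530614, 6),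
   (16381099, 6), (15933395, 6), (16355305, 6), (12238253, 6), (14507734, 6), (11448171, 6), (14112693, 6), (15444954, 6),
   (13302237, 6), (10468411, 6), (13622813, 6), (15200014, 6), (14521843, 6), (12361671, 6), (15039726, 6), (11714167, 6),
   (12051189, 6), (14414202, 6), (12713901, 6), (15292391, 6), (14172149, 6), (16678186, 6), (12533397, 6), (16626597, 6),
   (16701906, 6), (9555959, 6), (13166587, 6), (14531789, 6), (15654502, 6), (12021555, 6), (14399385, 6), (15588300, 6),
   (13966319, 6), (15874558, 6), (13868413, 6), (15322814, 6), (14593528, 6), (11491068, 6), (13922238, 6), (11155423, 6),
   (10677183, 6), (13727199, 6), (16395963, 6), (16586589, 6), (16681902, 6), (11265910, 6), (15973163, 6), (11269097, 6),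
   (14023156, 6), (11205882, 6), (9797245, 6), (13287230, 6), (15857521, 6), (16317368, 6), (15711912, 6), (10219434, 6),
   (15203217, 6), (15990216, 6), (12189412, 6), (12050260, 6), (14404827, 6), (15591021, 6), (16184118, 6), (12286363, 6),
   (15673329, 6), (12254030, 6), (10321319, 6), (13549267, 6), (15163241, 6), (15970228, 6), (12451593, 6), (14614404, 6),
   (16493678, 6), (12441143, 6), (14609179, 6), (14676119, 6), (15726667, 6), (16251941, 6), (16514578, 6), (12563283, 6),
   (13366990, 6), (10877799, 6), (13827507, 6), (16756099, 6), (16766657, 6), (16771936, 6), (12580272, 6), (10484440, 6),
   (9436524, 6), (8912566, 6), (8650587, 6), (15578129, 5), (10324771, 5), (10664387, 5), (13720801, 5), (15212055, 5),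
   (15994635, 5), (16385925, 5), (16616964, 5), (12502786, 5), (15792226, 5), (12090417, 5), (10405994, 5), (9397301, 5),
   (10085651, 5), (16095553, 5), (11160733, 5), (13968974, 5), (11178791, 5), (13978003, 5), (10005731, 5), (13391473, 5),
   (14091721, 5), (15772190, 5), (12080399, 5), (14428807, 5), (15603011, 5), (16190113, 5), (13983917, 5), (15380566, 5),
   (9292404, 5), (9261869, 5), (13019542, 5), (15836429, 5), (16306822, 5), (15249008, 5), (10463396, 5), (9426002, 5),
   (10602283, 5), (13677033, 5), (13251320, 5), (11909680, 5), (10149144, 5), (9268876, 5), (13839642, 5), (11114125, 5),
   (13945670, 5), (11167139, 5), (13972177, 5), (11766981, 5), (11715893, 5), (16044209, 5), (16410712, 5), (16206914, 5),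
   (15271323, 5), (16024269, 5), (16400742, 5), (12394675, 5), (14585945, 5), (15681580, 5), (8758899, 5), (11223950, 5),
   (9806279, 5), (14218448, 5), (11303528, 5), (8803677, 5), (12790446, 5), (10589527, 5), (11818808, 5), (13683371, 5),
   (15230293, 5), (16003754, 5), (9129190, 5), (12161337, 5), (10787753, 5), (13782484, 5), (11085546, 5), (9737077, 5),
   (13257146, 5), (13581318, 5), (10984963, 5), (13340044, 5), (10864326, 5), (9626467, 5), (8907305, 5), (12837259, 5),
   (14807237, 5), (11287691, 5), (10226166, 5), (10886358, 5), (9637483, 5), (13207349, 5), (12153634, 5), (10271121, 5),
   (13524168, 5), (14173367, 5), (15475291, 5), (12979566, 5), (11837884, 5), (10113246, 5), (9250927, 5), (10819964, 5),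
   (14750430, 5), (11574768, 5), (9981688, 5), (9185148, 5), (8786878, 5), (8587743, 5), (12682479, 5), (9524910, 5),
   (12275877, 5), (14700465, 5), (15738840, 5), (12399660, 5), (11622854, 5), (16126253, 5), (11031227, 5), (8936915, 5),
   (12857065, 5), (14817140, 5), (11602874, 5), (9995741, 5), (16540428, 5), (10426563, 5), (13181901, 5), (8994077, 5),
   (12885646, 5), (10637127, 5), (16015574, 5), (14289133, 5), (15533174, 5), (11960891, 5), (10805483, 5), (13791349, 5),
   (15284282, 5), (11836445, 5), (14306830, 5), (11347719, 5), (14079328, 5), (11233968, 5), (9362241, 5), (13069728, 5),
   (14374274, 5), (10016673, 5), (10445697, 5), (14777603, 5), (15777409, 5), (16277312, 5), (8854701, 5), (13673846, 5),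
   (12423380, 5), (13180524, 5), (10784566, 5), (9586587, 5), (11003201, 5), (9747019, 5), (10723919, 5), (13750567, 5),
   (15263891, 5), (16020553, 5), (16398884, 5), (12393746, 5), (11689068, 5), (10038838, 5), (16177672, 5), (12283140, 5),
   (15948080, 5), (15618976, 5), (12003792, 5), (13553934, 5), (13163098, 5), (10570477, 5), (8670075, 5), (12723645, 5),
   (16077412, 5), (12233010, 5), (10310809, 5), (13544012, 5), (10966310, 5), (15297094, 5), (11842851, 5), (11637475, 5),
   (12147228, 5), (15084344, 5), (9400490, 5), (8732458, 5), (8560533, 5), (12668874, 5), (10528741, 5), (13652978, 5),
   (15480516, 5), (11934562, 5), (14259230, 5), (14965443, 5), (15871329, 5), (16324272, 5), (12356440, 5), (13437726, 5),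
   (10252980, 5), (9320794, 5), (8870478, 5), (11569519, 5), (12919290, 5), (10653949, 5), (8701629, 5), (12739422, 5),
   (9200031, 5), (12917851, 5), (14847533, 5), (15434468, 5), (11911538, 5), (10150073, 5), (13463644, 5), (10926126, 5),
   (12362342, 5), (10594550, 5), (8881652, 5), (8635130, 5), (9271827, 5), (13024521, 5), (12035094, 5), (10211851, 5),
   (8843685, 5), (11381441, 5), (8629543, 5), (12703379, 5), (14740297, 5), (12110934, 5), (15536361, 5), (16156788, 5),
   (9888398, 5), (12830901, 5), (14804058, 5), (13646895, 5), (12255961, 5), (14516588, 5), (11452598, 5), (9920603, 5),
   (13348909, 5), (9893393, 5), (13335304, 5), (10861956, 5), (14423846, 5), (15758756, 5), (12073682, 5), (10956388, 5),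
   (9672498, 5), (9030553, 5), (12903884, 5), (10646246, 5), (9517427, 5), (11869896, 5), (10129252, 5), (11729044, 5),
   (10058826, 5), (15794677, 5), (11277749, 5), (14027482, 5), (11208045, 5), (14044217, 5), (15410716, 5), (11899662, 5),
   (10531706, 5), (9460157, 5), (15549077, 5), (9734122, 5), (12768057, 5), (14772636, 5), (11580622, 5), (9984615, 5),
   (13380915, 5), (15079065, 5), (15928140, 5), (14369053, 5), (15573134, 5), (13662924, 5), (11025766, 5), (13396944, 5),
   (10892776, 5), (9640692, 5), (9014650, 5), (8772913, 5), (12775064, 5), (10581836, 5), (10643065, 5), (13710140, 5),
   (14900868, 5), (14313264, 5), (11350936, 5), (9869772, 5), (13800046, 5), (11068124, 5), (11052095, 5), (13914655, 5),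
   (15345935, 5), (9875698, 5), (9132153, 5), (12954684, 5), (10671646, 5), (16436384, 5), (12412496, 5), (16066854, 5),
   (12227731, 5), (15310018, 5), (11849313, 5), (15024463, 5), (15900839, 5), (11126001, 5), (13951608, 5), (11170108, 5),
   (11253002, 5), (9820805, 5), (13765431, 5), (14475682, 5), (11432145, 5), (13404619, 5), (9779358, 5), (9083983, 5),
   (12930599, 5), (14853907, 5), (14295507, 5), (11361349, 5), (14069282, 5), (14616083, 5), (15696649, 5), (16236932, 5),
   (12312770, 5), (10350689, 5), (9991001, 5), (13267995, 5), (15022605, 5), (16285946, 5), (14227928, 5), (11308268, 5),
   (9848438, 5), (9118523, 5), (13081380, 5), (9485222, 5), (10729168, 5), (9824036, 5), (9106322, 5), (8747465, 5),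
   (11801051, 5), (10753647, 5), (9446143, 5), (13111679, 5), (13242201, 5), (15009708, 5), (12260934, 5), (11561844, 5),
   (9975226, 5), (9181917, 5), (11248021, 5), (14012618, 5), (13700765, 5), (15238990, 5), (11782694, 5), (14868976, 5),
   (11628792, 5), (10008700, 5), (9198654, 5), (8793631, 5), (12785423, 5), (14781319, 5), (12947869, 5), (9213723, 5),
   (12995469, 5), (14886342, 5), (10048884, 5), (15815561, 5), (10267918, 5), (9328263, 5), (10542247, 5), (13659731, 5),
   (15218473, 5), (15997844, 5), (14047398, 5), (14496011, 5), (13776534, 5), (11082571, 5), (13929893, 5), (15353554, 5),
   (13904221, 5), (15340718, 5), (11864663, 5), (14320939, 5), (14902053, 5), (15839634, 5), (12114121, 5), (14445668, 5),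
   (11417138, 5), (13688372, 5), (16687760, 5), (13617794, 5), (13299010, 5), (12038281, 5), (14407748, 5), (11398178, 5),
   (13863394, 5), (9902873, 5), (13428246, 5), (10908427, 5), (13842821, 5), (11228945, 5), (14003080, 5), (11195844, 5),
   (9792226, 5), (9090417, 5), (12933816, 5), (13845191, 5), (15311203, 5), (9647050, 5), (9017829, 5), (12897522, 5),
   (12454951, 5), (14979558, 5), (11684083, 5), (14230649, 5), (15223915, 5), (16000565, 5), (16388890, 5), (12388749, 5),
   (14582982, 5), (11485795, 5), (10330653, 5), (10177362, 5), (13431433, 5), (15104324, 5), (13324854, 5), (10856731, 5),
   (12982769, 5), (14879992, 5), (10372524, 5), (9380566, 5), (8884587, 5), (8762092, 5), (11556565, 5), (14166890, 5),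
   (11330353, 5), (14053784, 5), (11221196, 5), (11049374, 5), (15213494, 5), (10123744, 5), (9256176, 5), (8822392, 5),
   (8605500, 5), (8497054, 5), (8442831, 5), (12610023, 5), (10704075, 5), (14976377, 5), (12132702, 5), (10260655, 5),
   (10522331, 5), (13649773, 5), (8916911, 5), (9583833, 5), (12202091, 5), (14489653, 5), (15633434, 5), (12011021, 5),
   (11980871, 5), (14729847, 5), (15753531, 5), (16265373, 5), (14838838, 5), (16581570, 5), (12485089, 5), (14631152, 5),
   (9713549, 5), (11613723, 5), (14195469, 5), (15486342, 5), (9725425, 5), (16061575, 5), (12060531, 5), (14107434, 5),
   (8640101, 5), (13689749, 5), (15233482, 5), (11811045, 5), (14294130, 5), (11341369, 5), (11719082, 5), (14735080, 5),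
   (11619673, 5), (14198444, 5), (11293526, 5), (9841067, 5), (13309141, 5), (13469400, 5), (10929004, 5), (9658806, 5),
   (13282209, 5), (15029712, 5), (11709160, 5), (10661212, 5), (11509880, 5), (9949244, 5), (9168926, 5), (12470980, 5),
   (10429794, 5), (9409201, 5), (13093208, 5), (10740908, 5), (12144259, 5), (14460737, 5), (13484091, 5), (15130653, 5),
   (15953934, 5), (12171271, 5), (10718065, 5), (13747640, 5), (14578242, 5), (11483425, 5), (8608675, 5), (9035526, 5),
   (8712067, 5), (12744641, 5), (14251525, 5), (10161585, 5), (15514370, 5), (11951489, 5), (15881763, 5), (16329489, 5),
   (16553352, 5), (16518353, 5), (16647784, 5), (12518196, 5), (11530756, 5), (9959682, 5), (13084293, 5), (14930754, 5),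
   (10734994, 5), (9561801, 5), (13169508, 5), (10779058, 5), (10816995, 5), (9573863, 5), (13175539, 5), (13571384, 5),
   (8517090, 5), (13735876, 5), (12105492, 5), (10247050, 5), (9317829, 5), (13047522, 5), (9138503, 5), (8566443, 5),
   (12671829, 5), (14724522, 5), (10196200, 5), (10088844, 5), (11406227, 5), (8813667, 5), (12795441, 5), (14786328, 5),
   (11587468, 5), (9988038, 5), (15176780, 5), (11634300, 5), (10011454, 5), (13201841, 5), (14989528, 5), (9405998, 5),
   (8897303, 5), (13460675, 5), (15118945, 5), (9218746, 5), (9394580, 5), (8891594, 5), (10979996, 5), (9684302, 5),
   (9036455, 5), (12906835, 5), (14842025, 5), (15809620, 5), (12099114, 5), (10243861, 5), (13510538, 5), (10949573, 5),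
   (14161611, 5), (12174149, 5), (8578263, 5), (12677739, 5), (14727477, 5), (15752346, 5), (12070477, 5), (13118686, 5),
   (10423388, 5), (15782236, 5), (15503932, 5), (11946270, 5), (13518935, 5), (15148075, 5), (10043883, 5), (13410549, 5),
   (15093882, 5), (11741245, 5), (9238726, 5), (12815958, 5), (15905848, 5), (12436136, 5), (10412372, 5), (15063062, 5),
   (13534066, 5), (10961337, 5), (13869276, 5), (9548981, 5), (16611456, 5), (14032453, 5), (15404834, 5), (11896721, 5),
   (14336968, 5), (8976683, 5), (12819145, 5), (9352348, 5), (11038490, 5), (14104680, 5), (11246644, 5), (9817626, 5),
   (9103117, 5), (12960737, 5), (13153671, 5), (10067537, 5), (15554058, 5), (11971333, 5), (10743859, 5), (13760537, 5),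
   (15268876, 5), (11813799, 5), (14693619, 5), (14486698, 5), (12193226, 5), (10290917, 5), (12538184, 5), (8481979, 5),
   (12629597, 5), (14703406, 5), (11546007, 5), (16667668, 5), (16534066, 5), (10365553, 5), (10971271, 5), (11311219, 5),
   (8817383, 5), (12797299, 5), (10548633, 5), (13997609, 5), (12100491, 5), (14438853, 5), (15608034, 5), (11998321, 5),
   (14387768, 5), (11388188, 5), (10316088, 5), (13513493, 5), (15145354, 5), (8951542, 5), (9744084, 5), (9066346, 5),
   (8727477, 5), (13584196, 5), (11596333, 5), (14186774, 5), (14562465, 5), (15669840, 5), (8767918, 5), (12752346, 5),
   (12168344, 5), (10278476, 5), (9333542, 5), (8861075, 5), (11073091, 5), (13740645, 5), (15258930, 5), (13707171, 5),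
   (14997253, 5), (15887234, 5), (12137921, 5), (14457568, 5), (14364352, 5), (11376480, 5), (9882544, 5), (9135576, 5),
   (10905492, 5), (11200613, 5), (13988914, 5), (11188761, 5), (13982988, 5), (11185798, 5), (9787203, 5), (14812139, 5),
   (9497050, 5), (8942829, 5), (12860022, 5), (10624315, 5), (11699158, 5), (10986402, 5), (9687505, 5), (13232360, 5),
   (10810484, 5), (13992630, 5), (14084289, 5), (15430752, 5), (15019666, 5), (11704137, 5), (14240676, 5), (11314642, 5),
   (9851625, 5), (8737015, 5), (12757115, 5), (9421005, 5), (10684087, 5), (13730651, 5), (11317581, 5), (8493631, 5),
   (12635423, 5), (14706319, 5), (15741767, 5), (15377609, 5), (11769946, 5), (10079277, 5), (15894937, 5), (16336076, 5),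
   (16256316, 5), (8675300, 5), (8531954, 5), (9925828, 5), (15812374, 5), (16527728, 5), (12458168, 5), (10938962, 5),
   (13099110, 5), (12810450, 5), (10599529, 5), (10946394, 5), (9667501, 5), (13222358, 5), (11411212, 5), (9899910, 5),
   (11695442, 5), (10042025, 5), (13409620, 5), (10899114, 5), (13014071, 5), (12158374, 5), (10273491, 5), (10385421, 5),
   (14895643, 5), (13525353, 5), (13195407, 5), (14986311, 5), (12322462, 5), (15227124, 5), (11807866, 5), (13715582, 5),
   (11690445, 5), (14767165, 5), (14418873, 5), (15598044, 5), (11993326, 5), (10190967, 5), (8961992, 5), (13563952, 5),
   (10976280, 5), (9682444, 5), (13601889, 5), (15189552, 5), (11789080, 5), (8778767, 5), (12777991, 5), (13361745, 5),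
   (15069480, 5), (15012659, 5), (9188323, 5), (8470215, 5), (9643861, 5), (13210538, 5), (10799573, 5), (13788394, 5),
   (11088501, 5), (13932858, 5), (13816973, 5), (13797105, 5), (12379269, 5), (12347715, 5), (12988623, 5), (14882919, 5),
   (15830067, 5), (16303641, 5), (9728366, 5), (9058487, 5), (8867537, 5), (11323919, 5), (14050567, 5), (16339027, 5),
   (16558121, 5), (14672904, 5), (15962645, 5), (16369930, 5), (15374696, 5), (9811288, 5), (9099948, 5), (8744278, 5),
   (15735417, 5), (11412141, 5), (14094678, 5), (11241643, 5), (8828742, 5), (9564758, 5), (15049556, 5), (9061365, 5),
   (12876949, 5), (14827082, 5), (9604286, 5), (11977944, 5), (10183276, 5), (9285942, 5), (14760928, 5), (15287160, 5),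
   (13384108, 5), (14233830, 5), (11079636, 5), (9846068, 5), (9117338, 5), (14798180, 5), (11871081, 5), (14324148, 5),
   (11329168, 5), (9858888, 5), (9123748, 5), (8756178, 5), (8572393, 5), (12674804, 5), (9276567, 5), (10098237, 5),
   (11823769, 5), (14300492, 5), (11344550, 5), (9866579, 5), (13321897, 5), (12692945, 5), (14433816, 5), (12528138, 5),
   (10458373, 5), (11858880, 5), (12807245, 5), (14792230, 5), (11590419, 5), (14183817, 5), (9657367, 5), (11672207, 5),
   (14224711, 5), (15500963, 5), (16139089, 5), (8837275, 5), (13026891, 5), (14557246, 5), (11356378, 5), (9872493, 5),
   (11649183, 5), (14213199, 5), (15495207, 5), (16136211, 5), (16456713, 5), (9754006, 5), (14619276, 5), (11503942, 5),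
   (9946275, 5), (15779267, 5), (16278241, 5), (10375475, 5), (13576345, 5), (10394134, 5), (9391371, 5), (13314420, 5),
   (10851514, 5), (9620061, 5), (13198638, 5), (10793623, 5), (13785419, 5), (15281317, 5), (16029266, 5), (12208937, 5),
   (14493076, 5), (11440842, 5), (14059292, 5), (15567280, 5), (9346466, 5), (9625282, 5), (13494533, 5), (13342995, 5),
   (15060105, 5), (15918660, 5), (15253933, 5), (13147321, 5), (10391177, 5), (11725835, 5), (13670615, 5), (11437653, 5),
   (16163146, 5), (11128942, 5), (9758775, 5), (16041006, 5), (12214807, 5), (15034481, 5), (10355535, 5), (13566375, 5),
   (15171795, 5), (15974505, 5), (16375860, 5), (12382234, 5), (15043178, 5), (15356493, 5), (11211250, 5), (9799929, 5),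
   (10913167, 5), (9491579, 5), (13134397, 5), (14955806, 5), (15469413, 5), (16123314, 5), (14272098, 5), (16296388, 5),
   (12342498, 5), (14687693, 5), (15732454, 5), (16133260, 5), (12272698, 5), (15242193, 5), (16009704, 5), (12199156, 5),
   (10293882, 5), (8575350, 5), (14787257, 5), (9282985, 5), (13030100, 5), (10709354, 5), (8823769, 5), (12800492, 5),
   (9482041, 5), (13129628, 5), (10759118, 5), (15304797, 5), (9341245, 5), (13059230, 5), (14435674, 5), (16521294, 5),
   (10564015, 5), (8460281, 5), (12618748, 5), (10503678, 5), (15860831, 5), (16319023, 5), (11020793, 5), (13899004, 5),
   (11143806, 5), (11881652, 5), (10135130, 5), (15454360, 5), (11921484, 5), (8511869, 5), (12644542, 5), (10516575, 5),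
   (12337277, 5), (14944447, 5), (9307387, 5), (13042301, 5), (14909758, 5), (11746466, 5), (11749344, 5), (10068976, 5),
   (9228792, 5), (8808700, 5), (8598654, 5), (11139408, 5), (9764008, 5), (9718991, 5), (13248103, 5), (10053845, 5),
   (15142165, 5), (15959690, 5), (15110080, 5), (10155046, 5), (11659681, 5), (13052739, 5), (14914977, 5), (15846096, 5),
   (12117352, 5), (12598171, 5), (10231145, 5), (13504180, 5), (10382482, 5), (9385545, 5), (9530127, 5), (12196181, 5),
   (14992282, 5), (13415530, 5), (10902069, 5), (9514476, 5), (11736476, 5), (10062542, 5), (9225575, 5), (13001395, 5),
   (14889305, 5), (15833260, 5), (12464518, 5), (10575474, 5), (10775853, 5), (13386478, 5), (10887543, 5), (13832379, 5),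
   (13489316, 5), (11607845, 5), (14192530, 5), (11290569, 5), (14033892, 5), (13422376, 5), (15393322, 5), (11890965, 5),
   (14334090, 5), (8973748, 5), (14130320, 5), (11259464, 5), (10838590, 5), (9613599, 5), (10867289, 5), (13822252, 5),
   (11105430, 5), (16419395, 5), (16598305, 5), (16259491, 5), (15151284, 5), (9258930, 5), (9707187, 5), (11937475, 5),
   (14357345, 5), (11041669, 5), (13909442, 5), (11149025, 5), (13963120, 5), (11175864, 5), (9782236, 5), (9085422, 5),
   (15351184, 5), (12500032, 5), (10444320, 5), (9416464, 5), (8902536, 5), (9157218, 5), (8645572, 5), (12842260, 5),
   (12297761, 5), (14537488, 5), (11463048, 5), (8956759, 5), (8894549, 5), (12835882, 5), (10612245, 5), (13694730, 5),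
   (10453402, 5), (13000466, 5), (10694537, 5), (9663785, 5), (13220500, 5), (10804554, 5), (9596581, 5), (13291747, 5),
   (9543051, 5), (13160133, 5), (12461337, 5), (11884587, 5), (14330901, 5), (14009429, 5), (16548119, 5), (16662667, 5),
   (16719941, 5), (16748578, 5), (12568593, 5), (10167439, 5), (13472327, 5), (15124771, 5), (15950993, 5), (16364104, 5),
   (15090917, 5), (15934066, 5), (11362788, 5), (8681178, 5), (8534893, 5), (12656054, 5), (12332960, 5), (10360784, 5),
   (9374696, 5), (9298762, 5), (8840506, 5), (8614557, 5), (12695886, 5), (12063724, 5), (8452849, 5), (12615032, 5),
   (10501820, 5), (11423088, 5), (9905848, 5), (9147228, 5), (9558888, 5), (15636613, 5), (9804902, 5), (9096755, 5),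
   (12936985, 5), (14857100, 5), (9694320, 5), (9041464, 5), (8715036, 5), (8551822, 5), (10249771, 5), (14832023, 5),
   (15804619, 5), (16290917, 5), (12866987, 5), (14822101, 5), (15799658, 5), (12094133, 5), (13245382, 5), (9076308, 5),
   (14526546, 5), (11457577, 5), (14117396, 5), (10144135, 5), (12957859, 5), (14867537, 5), (11094327, 5), (13935771, 5),
   (16451734, 5), (12420171, 5), (14598693, 5), (15687954, 5), (14131505, 5), (14394118, 5), (11391363, 5), (12623715, 5),
   (15387412, 5), (11888010, 5), (10138309, 5), (13457762, 5), (10923185, 5), (13850200, 5), (11119404, 5), (12940166, 5),
   (13186898, 5), (15822376, 5), (16458152, 5), (14968674, 5), (11678641, 5), (10843809, 5), (13810512, 5), (11099560, 5),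
   (14962268, 5), (11675438, 5), (10032023, 5), (9144259, 5), (9502021, 5), (13139618, 5), (10764113, 5), (13770664, 5),
   (11062242, 5), (12762340, 5), (12029224, 5), (10208916, 5), (16114179, 5), (16445697, 5), (13874243, 5), (15325729, 5),
   (16051472, 5), (12220040, 5), (10304324, 5), (14246554, 5), (15543624, 5), (10103708, 5), (9246158, 5), (9445214, 5),
   (15876796, 5), (15451143, 5), (14207345, 5), (15492280, 5), (11940444, 5), (10164526, 5), (10400552, 5), (10615434, 5),
   (12822376, 5), (10605492, 5), (13925153, 5), (15413891, 5), (9006945, 5), (12892080, 5), (10640344, 5), (11472927, 5),
   (14125071, 5), (11190619, 5), (8996447, 5), (12886831, 5), (9023707, 5), (12900461, 5), (10822877, 5), (9766207, 5),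
   (13271711, 5), (14502473, 5), (15639844, 5), (10335874, 5), (11644738, 5), (9599546, 5), (15164104, 5), (11776356, 5),
   (10082482, 5), (9235545, 5), (13006380, 5), (10697494, 5), (13217291, 5), (12014226, 5), (10201417, 5), (13087258, 5),
   (10737933, 5), (13757574, 5), (16483664, 5), (12376356, 5), (13288572, 5), (14469276, 5), (11428942, 5), (9908775, 5),
   (12708658, 5), (13611456, 5), (11000032, 5), (8752973, 5), (12765094, 5), (10576851, 5), (14862542, 5), (11625575, 5),
   (14201395, 5), (15489305, 5), (12847063, 5), (12085422, 5), (10237015, 5), (13507115, 5), (9071307, 5), (12924261, 5),
   (14850738, 5), (15899910, 5), (11966116, 5), (11593394, 5), (14379043, 5), (14062467, 5), (15419841, 5), (16098528, 5),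
   (12243568, 5), (9223717, 5), (9677459, 5), (13227337, 5), (15002276, 5), (11218003, 5), (9914725, 5), (13345970, 5),
   (13890208, 5), (9174145, 5), (13881089, 5), (15329152, 5), (13442945, 5), (11828742, 5), (10108675, 5), (15135874, 5),
   (11762241, 5), (14269728, 5), (12975680, 5), (10682144, 5), (9535376, 5), (13262117, 5), (14310033, 5), (13550993, 5),
   (14474243, 5), (15625729, 5), (16201472, 5), (12295040, 5), (10341824, 5), (9365216, 5), (8876912, 5), (8632760, 5),
   (8510684, 5), (8449646, 5), (8419127, 5), (9830549, 4), (10170384, 4), (9279496, 4), (8834052, 4), (9471495, 4),
   (11575377, 4), (13303882, 4), (10846245, 4), (13811730, 4), (8922769, 4), (9776129, 4), (13370381, 4), (15073798, 4),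
   (11731203, 4), (14254209, 4), (15515712, 4), (13142054, 4), (10765331, 4), (13893731, 4), (13641904, 4), (11015256, 4),
   (9701932, 4), (13373586, 4), (9178690, 4), (9578566, 4), (9240913, 4), (13009064, 4), (10698836, 4), (12861748, 4),
   (10625178, 4), (9652360, 4), (12880401, 4), (14828808, 4), (11608708, 4), (10560816, 4), (13703682, 4), (11046145, 4),
   (13911680, 4), (11150144, 4), (9769376, 4), (9078992, 4), (8733800, 4), (9486564, 4), (8937586, 4), (8663097, 4),
   (9048457, 4), (12912836, 4), (9045270, 4), (8716939, 4), (8398155, 4), (9506893, 4), (10554382, 4), (11797828, 4),
   (11538486, 4), (11952160, 4), (12747077, 4), (14762146, 4), (13108704, 4), (10748656, 4), (9568632, 4), (8555274, 4),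
   (8581192, 4), (12698124, 4), (8983587, 4), (9440193, 4), (8966165, 4), (12871690, 4), (10630149, 4), (10650722, 4),
   (9519665, 4), (13148440, 4), (10768524, 4), (12584506, 4), (10486557, 4), (13631886, 4), (11010247, 4), (12222476, 4),
   (8436754, 4), (9929280, 4), (10543366, 4), (10496547, 4), (8593633, 4), (12685424, 4), (10537016, 4), (9462812, 4),
   (8657159, 4), (12717187, 4), (11831426, 4), (10110017, 4), (8524371, 4), (8675909, 4), (8683614, 4), (8536111, 4),
   (12656663, 4), (14716939, 4), (15747077, 4), (15335473, 4), (16056344, 4), (14176296, 4), (11282452, 4), (8849458, 4),
   (9208708, 4), (8798658, 4), (8660134, 4), (10619300, 4), (9503954, 4), (8946281, 4), (10525252, 4), (8561204, 4),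
   (8474906, 4), (8431757, 4), (12604486, 4), (10305542, 4), (8471941, 4), (12624578, 4), (10506593, 4), (12587685, 4),
   (14682450, 4), (11535529, 4), (14156372, 4), (11272490, 4), (13636881, 4), (15207048, 4), (9721936, 4), (9055272, 4),
   (8721940, 4), (11469952, 4), (9456930, 4), (13124355, 4), (14950785, 4), (15864000, 4), (9537812, 4), (8963210, 4),
   (9969957, 4), (10557585, 4), (13667400, 4), (11028004, 4), (9708306, 4), (12325377, 4), (14551296, 4), (11163650, 4),
   (8421811, 4), (8688833, 4), (12733024, 4), (8619033, 4), (9748745, 4), (13262980, 4), (10825794, 4), (9835530, 4),
   (11551306, 4), (12599513, 4), (14688364, 4), (8978620, 4), (8412681, 4), (13771273, 4), (15274244, 4), (12594948, 4),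
   (10491778, 4), (10093218, 4), (8499969, 4), (12638592, 4), (10513600, 4), (9451104, 4), (8919856, 4), (8654232, 4),
   (8521420, 4), (8455014, 4), (10916112, 4), (9020484, 4), (8704546, 4), (8546577, 4), (12661896, 4), (9968772, 4),
   (13121601, 4), (14949408, 4), (11669008, 4), (10028808, 4), (9474712, 4), (13192208, 4), (10790408, 4), (9589508, 4),
   (9347075, 4), (8505411, 4), (12641313, 4), (14709264, 4), (11548936, 4), (12075408, 4), (10232008, 4), (9310308, 4),
   (9543722, 4), (10584520, 4), (8426796, 4), (8407702, 4), (9158944, 4), (8773776, 4), (9112069, 4), (12944642, 4),
   (9998658, 4), (9193633, 4), (12985424, 4), (10687016, 4), (11100169, 4), (13938692, 4), (9963547, 4), (10881097, 4),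
   (13829156, 4), (11108882, 4), (12726562, 4), (10832640, 4), (9610624, 4), (8999616, 4), (8694112, 4), (12849992, 4),
   (8925710, 4), (8541360, 4), (8464984, 4), (8931660, 4), (12720156, 4), (12650793, 4), (14714004, 4), (16262146, 4),
   (12126304, 4), (10257456, 4), (9323032, 4), (8855820, 4), (8622214, 4), (13062145, 4), (14919680, 4), (11654144, 4),
   (9465987, 4), (14747201, 4), (15762208, 4), (8611330, 4), (9607201, 4), (10666625, 4), (13721920, 4), (11055264, 4),
   (13443616, 4), (8989058, 4), (8484900, 4), (8783649, 4), (12780432, 4), (13276672, 4), (10021376, 4), (9204992, 4),
   (8796800, 4), (8592704, 4), (8490656, 4), (8439632, 4), (8414120, 4), (8401364, 4), (8394986, 4), (8391797, 4),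
   (7257550, 3), (8088382, 3), (7305720, 3), (3652860, 3), (1826430, 3), (913215, 3), (4650911, 3), (8312231, 3),
   (7921395, 3), (6152037, 3), (8043415, 3), (8216011, 3), (8302309, 3), (6270622, 3), (8369513, 3), (8379060, 3),
   (4189530, 3), (3135311, 3), (5307263, 3), (8363095, 3), (4115319, 3), (6251963, 3), (7320285, 3), (7854446, 3),
   (3927223, 3), (6157915, 3), (4050653, 3), (3333599, 3), (7187707, 3), (7788157, 3), (8184511, 3), (8286559, 3),
   (5108207, 3), (4825055, 3), (6606831, 3), (5944575, 3), (7166591, 3), (7777599, 3), (8083103, 3), (8235855, 3),
   (3514235, 3), (5951421, 3), (7170014, 3), (6110590, 3), (3896814, 3), (6471673, 3), (7430140, 3), (8155001, 3),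
   (8271804, 3), (4135902, 3), (3585007, 3), (4451838, 3), (2225919, 3), (5613565, 3), (7001086, 3), (5761959, 3),
   (7075283, 3), (7731945, 3), (1015007, 3), (5721951, 3), (7055279, 3), (8322201, 3), (8355404, 3), (4177702, 3),
   (3406834, 3), (1703417, 3), (5046012, 3), (2523006, 3), (5627071, 3), (8221941, 3), (8196023, 3), (8292315, 3),
   (6219630, 3), (6808443, 3), (7598525, 3), (7993566, 3), (3996783, 3), (3500543, 3), (8230638, 3), (3715070, 3),
   (1857535, 3), (5123071, 3), (6755839, 3), (7572223, 3), (6008691, 3), (7198649, 3), (7793628, 3), (4044191, 3),
   (6216399, 3), (7007839, 3), (4182267, 3), (6285437, 3), (7337022, 3), (8114118, 3), (4057059, 3), (7454183, 3),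
   (8060276, 3), (4030138, 3), (5986807, 3), (7233493, 3), (7811050, 3), (3905525, 3), (6147066, 3), (3073533, 3),
   (5731070, 3), (2865535, 3), (6290658, 3), (3145329, 3), (5766968, 3), (2883484, 3), (1441742, 3), (8003439, 3),
   (6941685, 3), (7665146, 3), (3832573, 3), (7326111, 3), (1948407, 3), (5168507, 3), (6778557, 3), (7583582, 3),
   (3655614, 3), (1827807, 3), (3140334, 3), (1570167, 3), (4979387, 3), (6683997, 3), (7536302, 3), (8375851, 3),
   (8382229, 3), (8122983, 3), (8255795, 3), (7314403, 3), (7851505, 3), (8120056, 3), (4060028, 3), (7839629, 3),
   (3864379, 3), (6126493, 3), (6192695, 3), (7290651, 3), (4126422, 3), (2063211, 3), (6519759, 3), (7857359, 3),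
   (7980415, 3), (7698223, 3), (3628775, 3), (7497719, 3), (7943163, 3), (8165885, 3), (3055295, 3), (8055275, 3),
   (5749211, 3), (7068909, 3), (7728758, 3), (7568507, 3), (8340461, 3), (8364534, 3), (8385418, 3), (5504725, 3),
   (6946666, 3), (1261503, 3), (7270322, 3), (3635161, 3), (6011884, 3), (3005942, 3), (1502971, 3), (4945789, 3),
   (6667198, 3), (7273261, 3), (7830934, 3), (8345458, 3), (7978557, 3), (4172729, 3), (5241686, 3), (2620843, 3),
   (5201838, 3), (2600919, 3), (5494763, 3), (2094765, 3), (4192709, 3), (4701807, 3), (6545207, 3), (7466907, 3),
   (7927757, 3), (8158182, 3), (8337583, 3), (5930970, 3), (2965485, 3), (5677046, 3), (2838523, 3), (6847935, 3),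
   (7618271, 3), (8277246, 3), (4138623, 3), (6263615, 3), (2948059, 3), (5668333, 3), (7028470, 3), (2015069, 3),
   (3668511, 3), (6028559, 3), (3473333, 3), (8350419, 3), (7302503, 3), (7845555, 3), (8117081, 3), (8252844, 3),
   (3109815, 3), (720871, 3), (4554739, 3), (4079091, 3), (6233849, 3), (6280668, 3), (8183582, 3), (4091791, 3),
   (6240199, 3), (3768151, 3), (8072669, 3), (8305274, 3), (4152637, 3), (7721943, 3), (5861103, 3), (7124855, 3),
   (7756731, 3), (6748407, 3), (2067951, 3), (5228279, 3), (3791791, 3), (6090199, 3), (7239403, 3), (7814005, 3),
   (8101306, 3), (5238729, 3), (6813668, 3), (6078379, 3), (3915467, 3), (7311228, 3), (2030014, 3), (6807258, 3),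
   (3403629, 3), (5896118, 3), (5225909, 3), (2088851, 3), (6222833, 3), (7208583, 3), (7798595, 3), (8093601, 3),
   (8241104, 3), (4120552, 3), (2060276, 3), (1030138, 3), (515069, 3), (4671723, 2), (889981, 2), (1346463, 2),
   (4867535, 2), (5790813, 2), (8245261, 2), (5314167, 2), (6851387, 2), (7619997, 2), (2927015, 2), (5657811, 2),
   (8144455, 2), (7874679, 2), (8131643, 2), (8260125, 2), (1558742, 2), (5366003, 2), (6877305, 2), (678687, 2),
   (4533647, 2), (3549878, 2), (1774939, 2), (5081773, 2), (6735190, 2), (1480121, 2), (3462795, 2), (340831, 2),
   (4364719, 2), (6376663, 2), (7382635, 2), (3070044, 2), (1535022, 2), (3266677, 2), (6647963, 2), (5048171, 2),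
   (6718389, 2), (7553498, 2), (3776749, 2), (6082678, 2), (3041339, 2), (5714973, 2), (6801989, 2), (7595298, 2),
   (7578561, 2), (7983584, 2), (3991792, 2), (2530661, 2), (1233591, 2), (4811099, 2), (3958070, 2), (1979035, 2),
   (5183821, 2), (6786214, 2), (6901517, 2), (7645062, 2), (3829346, 2), (7563492, 2), (3781746, 2), (2290517, 2),
   (5339562, 2), (5648273, 2), (7018440, 2), (3509220, 2), (1754610, 2), (3293124, 2), (1646562, 2), (823281, 2),
   (1490055, 2), (3393107, 2), (5890857, 2), (7157154, 2), (3578577, 2), (5098574, 2), (2549287, 2), (5468947, 2),
   (6928777, 2), (7658692, 2), (2887007, 2), (5637807, 2), (1887910, 2), (3891569, 2), (6642085, 2), (7515346, 2),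
   (5827642, 2), (8358088, 2), (4179044, 2), (1505892, 2), (4703533, 2), (6546070, 2), (3273035, 2), (6394733, 2),
   (7391670, 2), (3695835, 2), (1875162, 2), (937581, 2), (5400735, 2), (7291993, 2), (5543247, 2), (7414974, 2),
   (3707487, 2), (6048047, 2), (2443125, 2), (2646895, 2), (5517751, 2), (6953179, 2), (7670893, 2), (8029750, 2),
   (4014875, 2), (7212457, 2), (1935190, 2), (7500648, 2), (5432665, 2), (6910636, 2), (3455318, 2), (1727659, 2),
   (5058133, 2), (7092913, 2), (7740760, 2), (2198973, 2), (5293790, 2), (7508339, 2), (7948473, 2), (8168540, 2),
   (4084270, 2), (2042135, 2), (7840300, 2), (3920150, 2), (6353827, 2), (994979, 2), (5093132, 2), (2546566, 2),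
   (1273283, 2), (4830945, 2), (6609776, 2), (3019641, 2), (293551, 2), (413111, 2), (4400859, 2), (5348273, 2),
   (6868440, 2), (4012121, 2), (6200364, 2), (7023209, 2), (7705908, 2), (3852954, 2), (1926477, 2), (5157542, 2),
   (2578771, 2), (4073836, 2), (2316478, 2), (1158239, 2), (3637597, 2), (2239727, 2), (1262845, 2), (4825726, 2),
   (2412863, 2), (8147672, 2), (7089710, 2), (3544855, 2), (3437171, 2), (6628071, 2), (6174932, 2), (3087466, 2),
   (1204081, 2), (4796344, 2), (2398172, 2), (1199086, 2), (599543, 2), (4494075, 2), (3647587, 2), (2343399, 2),
   (109547, 2), (4249077, 2), (6318842, 2), (5820827, 2), (7104717, 2), (1448063, 2), (4918335, 2), (7939940, 2),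
   (3969970, 2), (1984985, 2), (5186796, 2), (2552504, 2), (4581034, 2), (5875146, 2), (3775820, 2), (3396300, 2),
   (6350652, 2), (3175326, 2), (1366499, 2), (4877553, 2), (6633080, 2), (3316540, 2), (1658270, 2), (829135, 2),
   (4608871, 2), (7443673, 2), (6059150, 2), (7933530, 2), (3966765, 2), (7998448, 2), (3046564, 2), (1523282, 2),
   (5429496, 2), (6130969, 2), (7259788, 2), (3629894, 2), (6386038, 2), (3193019, 2), (5073078, 2), (7521039, 2),
   (7954823, 2), (6888817, 2), (3946314, 2), (1973157, 2), (5180882, 2), (2590441, 2), (6435391, 2), (877305, 2),
   (4632956, 2), (905886, 2), (7424867, 2), (5530571, 2), (6959589, 2), (6140088, 2), (5971732, 2), (2985866, 2),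
   (2456276, 2), (1228138, 2), (614069, 2), (4501338, 2), (8225393, 2), (8307000, 2), (4153500, 2), (2076750, 2),
   (7800532, 2), (3900266, 2), (1686298, 2), (5207696, 2), (2603848, 2), (517724, 2), (258862, 2), (4322264, 2),
   (2161132, 2), (6313819, 2), (6042221, 2), (2402941, 2), (5395774, 2), (2697887, 2), (5989462, 2), (8210772, 2),
   (7215414, 2), (7526288, 2), (3763144, 2), (1881572, 2), (940786, 2), (470393, 2), (4429500, 2), (2214750, 2),
   (1107375, 2), (4747991, 2), (6568299, 2), (7033131, 2), (7710869, 2), (8049738, 2), (7916140, 2), (4639294, 2),
   (2319647, 2), (7641639, 2), (5588454, 2), (2794227, 2), (5591417, 2), (6990012, 2), (3495006, 2), (2852062, 2),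
   (1426031, 2), (165759, 2), (4277183, 2), (6332895, 2), (7360751, 2), (5933406, 2), (2966703, 2), (5246459, 2),
   (6817533, 2), (7603070, 2), (7150748, 2), (7869910, 2), (7371217, 2), (7879912, 2), (3939956, 2), (1969978, 2),
   (3569866, 2), (2467182, 2), (1151486, 2), (575743, 2), (5027871, 2), (6708239, 2), (3441911, 2), (5915259, 2),
   (7151933, 2), (6627142, 2), (3434220, 2), (1717110, 2), (858555, 2), (4623581, 2), (6506094, 2), (6691564, 2),
   (3345782, 2), (1672891, 2), (2453067, 2), (5420837, 2), (6904722, 2), (3452361, 2), (4479454, 2), (5117534, 2),
   (7505388, 2), (3724476, 2), (1862238, 2), (3885135, 2), (6441341, 2), (5132477, 2), (6760542, 2), (3380271, 2),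
   (8024242, 2), (7163616, 2), (3581808, 2), (5499466, 2), (7070028, 2), (3535014, 2), (5435846, 2), (2717923, 2),
   (802710, 2), (401355, 2), (4394981, 2), (6391794, 2), (3195897, 2), (5792252, 2), (2896126, 2), (5864048, 2),
   (2932024, 2), (1466012, 2), (7130165, 2), (7759386, 2), (6653471, 2), (3752694, 2), (1876347, 2), (2463951, 2),
   (5426279, 2), (7700907, 2), (8044757, 2), (8216682, 2), (2913821, 2), (5548270, 2), (2774135, 2), (5581371, 2),
   (6177686, 2), (3088843, 2), (5628190, 2), (7180634, 2), (826222, 2), (178910, 2), (89455, 2), (6984989, 2),
   (7686798, 2), (6956410, 2), (3478205, 2), (4312697, 2), (6201741, 2), (7295174, 2), (2659819, 2), (1089261, 2),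
   (4738934, 2), (2369467, 2), (5379037, 2), (6883822, 2), (4934364, 2), (1890873, 2), (5139740, 2), (2569870, 2),
   (1140602, 2), (5966731, 2), (2749733, 2), (5569170, 2), (2784585, 2), (2536539, 2), (5462573, 2), (1223157, 2),
   (2610325, 2), (2723431, 2), (5556019, 2), (6972313, 2), (7680460, 2), (6638906, 2), (6164970, 2), (6533354, 2),
   (641004, 2), (5291420, 2), (2645710, 2), (3801535, 2), (4766194, 2), (2383097, 2), (5385852, 2), (2692926, 2),
   (3890384, 2), (7118409, 2), (7753508, 2), (3876754, 2), (3505504, 2), (1613111, 2), (5000859, 2), (6694733, 2),
   (7541670, 2), (7172929, 2), (7780768, 2), (5745988, 2), (2872994, 2), (3797649, 2), (4939331, 2), (6663969, 2),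
   (1814947, 2), (2219969, 2), (5304288, 2), (2652144, 2), (1326072, 2), (663036, 2), (331518, 2), (2814095, 2),
   (5601351, 2), (7013207, 2), (6723370, 2), (6540200, 2), (3270100, 2), (1635050, 2), (817525, 2), (4603066, 2),
   (7177669, 2), (7783138, 2), (779371, 2), (5360077, 2), (6874342, 2), (3747115, 2), (6697938, 2), (3348969, 2),
   (5868788, 2), (4099476, 2), (2049738, 2), (5154361, 2), (1960075, 2), (4659863, 2), (6524235, 2), (2714748, 2),
   (1357374, 2), (3515098, 2), (1757549, 2), (2581746, 2), (1290873, 2), (4966170, 2), (2483085, 2), (4678101, 2),
   (5068055, 2), (6036307, 2), (3029575, 2), (5051380, 2), (2525690, 2), (447726, 2), (223863, 2), (4306235, 2),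
   (6347421, 2), (7368014, 2), (6728331, 2), (7558469, 2), (7885621, 2), (8137114, 2), (4068557, 2), (1999612, 2),
   (2419870, 2), (3082485, 2), (5735546, 2), (1747503, 2), (2353369, 2), (5370988, 2), (7538489, 2), (7963548, 2),
   (3981774, 2), (320502, 2), (160251, 2), (4274429, 2), (6331518, 2), (3165759, 2), (3999224, 2), (3415470, 2),
   (1707735, 2), (3566677, 2), (4032574, 2), (2016287, 2), (7659877, 2), (5448047, 2), (6918327, 2), (7653467, 2),
   (5014974, 2), (2507487, 2), (4482175, 2), (6095071, 2), (7241839, 2), (7815223, 2), (1389803, 2), (5415866, 2),
   (2707933, 2), (4464445, 2), (6426526, 2), (3213263, 2), (5800935, 2), (7094771, 2), (7741689, 2), (8065148, 2),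
   (3979916, 2), (6228582, 2), (5559212, 2), (2779606, 2), (1929682, 2), (964841, 2), (4676724, 2), (2338362, 2),
   (4912552, 2), (5889672, 2), (2944836, 2), (6575798, 2), (3287899, 2), (5169370, 2), (2584685, 2), (5486646, 2),
   (3859364, 2), (6421680, 2), (6260640, 2), (3130320, 2), (1565160, 2), (1044761, 2), (767511, 2), (4578059, 2),
   (4895563, 2), (2615604, 2), (1307802, 2), (653901, 2), (6894671, 2), (6565364, 2), (3282682, 2), (1641341, 2),
   (6771484, 2), (6461127, 2), (3263722, 2), (1631861, 2), (5010234, 2), (2505117, 2), (3011784, 2), (5345070, 2),
   (3372596, 2), (6997857, 2), (7693232, 2), (3846616, 2), (1923308, 2), (961654, 2), (480827, 2), (4434717, 2),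
   (6411662, 2), (6067861, 2), (7228234, 2), (3614117, 2), (3233203, 2), (7608289, 2), (3684007, 2), (7892628, 2),
   (8171715, 2), (8280161, 2), (8334384, 2), (2250669, 2), (2157939, 2), (5273273, 2), (6245509, 2), (8015123, 2),
   (8201865, 2), (8295236, 2), (4147618, 2), (1436497, 2), (4618841, 2), (5202447, 2), (6795527, 2), (4816324, 2),
   (2408162, 2), (3559924, 2), (1779962, 2), (2575820, 2), (1287910, 2), (643955, 2), (2194233, 2), (943955, 2),
   (4666281, 2), (4094736, 2), (2047368, 2), (1023684, 2), (2481708, 2), (1240854, 2), (620427, 2), (4504517, 2),
   (6446562, 2), (3223281, 2), (5805944, 2), (2902972, 2), (1451486, 2), (725743, 2), (5709091, 2), (3822531, 2),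
   (6323813, 2), (5838253, 2), (7113430, 2), (3556715, 2), (5972661, 2), (3253047, 2), (4940770, 2), (2470385, 2),
   (5061322, 2), (733006, 2), (366503, 2), (1095635, 2), (3986769, 2), (6187688, 2), (773461, 2), (2994731, 2),
   (5691669, 2), (7040138, 2), (3520069, 2), (5954338, 2), (2977169, 2), (5682888, 2), (7133354, 2), (1383893, 2),
   (4886250, 2), (4414873, 2), (6401740, 2), (3816478, 2), (6105569, 2), (7247088, 2), (3623544, 2), (1811772, 2),
   (3529112, 2), (1764556, 2), (967595, 2), (129431, 2), (4259019, 2), (3692922, 2), (1846461, 2), (3607707, 2),
   (5998157, 2), (1282008, 2), (6018097, 2), (7203352, 2), (3601676, 2), (6530165, 2), (7459386, 2), (3729693, 2),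
   (6789177, 2), (7588892, 2), (3794446, 2), (5215371, 2), (3251862, 2), (1625931, 2), (5007269, 2), (5848211, 2),
   (5851089, 2), (7953446, 2), (3976723, 2), (6182665, 2), (236787, 2), (1492933, 2), (6416431, 2), (7402519, 2),
   (7895563, 2), (8142085, 2), (8265346, 2), (4132673, 2), (895452, 2), (5854030, 2), (6830940, 2), (1995896, 2),
   (997948, 2), (498974, 2), (3642818, 2), (3200870, 2), (6383081, 2), (7385844, 2), (5983592, 2), (2991796, 2),
   (1495898, 2), (4102411, 2), (747949, 2), (4568278, 2), (2284139, 2), (999806, 2), (499903, 2), (378331, 2),
   (4383469, 2), (2593398, 2), (1296699, 2), (4842653, 2), (6615630, 2), (3307815, 2), (6862490, 2), (1945192, 2),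
   (3385742, 2), (1692871, 2), (3961257, 2), (6364843, 2), (7376725, 2), (4108341, 2), (1767507, 2), (5078057, 2),
   (6733332, 2), (2089522, 2), (4454753, 2), (1550091, 2), (4969349, 2), (6678978, 2), (1080566, 2), (540283, 2),
   (5704124, 2), (3036570, 2), (1518285, 2), (4953446, 2), (2476723, 2), (3954839, 2), (1587663, 2), (4988135, 2),
   (6688371, 2), (1990887, 2), (5189747, 2), (2744762, 2), (4562408, 2), (1742734, 2), (871367, 2), (4629987, 2),
   (6509297, 2), (7448952, 2), (5220650, 2), (776650, 2), (570301, 2), (7285636, 2), (752946, 2), (376473, 2),
   (4382540, 2), (3319453, 2), (5738725, 2), (7063666, 2), (3531833, 2), (5960220, 2), (2980110, 2), (8004302, 2),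
   (4002151, 2), (2446314, 2), (4208622, 2), (2104311, 2), (7632956, 2), (3934955, 2), (6161781, 2), (7275194, 2),
   (3258280, 2), (1629140, 2), (814570, 2), (407285, 2), (4397946, 2), (4742121, 2), (4865677, 2), (3595314, 2),
   (1797657, 2), (7262739, 2), (7825673, 2), (8107140, 2), (3734914, 2), (1600435, 2), (5142915, 2), (6765761, 2),
   (7577184, 2), (3788592, 2), (1894296, 2), (947148, 2), (3114291, 2), (5751449, 2), (4377555, 2), (5174341, 2),
   (5884439, 2), (7136523, 2), (3431245, 2), (5909926, 2), (2954963, 2), (1322855, 2), (4444255, 2), (5030749, 2),
   (6709678, 2), (3354839, 2), (5871723, 2), (3226222, 2), (4605944, 2), (2302972, 2), (6093128, 2), (7051790, 2),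
   (8189472, 2), (7973538, 2), (2862560, 2), (1431280, 2), (715640, 2), (357820, 2), (5529194, 2), (2764597, 2),
   (5576602, 2), (2788301, 2), (4686798, 2), (587102, 2), (5610076, 2), (7518285, 2), (2867773, 2), (4516281, 2),
   (6452444, 2), (7411999, 2), (7900303, 2), (3837049, 2), (6112828, 2), (3056414, 2), (4053570, 2), (4544205, 2),
   (6466406, 2), (782580, 2), (391290, 2), (195645, 2), (4292126, 2), (1920115, 2), (5777183, 2), (7082895, 2),
   (7735751, 2), (8062179, 2), (2348408, 2), (1174204, 2), (5196593, 2), (6792600, 2), (7820456, 2), (3910228, 2),
   (1955114, 2), (4615878, 2), (2307939, 2), (1546922, 2), (2287562, 2), (1143781, 2), (6371221, 2), (7379914, 2),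
   (3689957, 2), (7478453, 2), (3840230, 2), (2281204, 2), (5565965, 2), (8101915, 2), (6001362, 2), (3000681, 2),
   (5694644, 2), (2808241, 2), (900419, 2), (4644513, 2), (3525895, 2), (5957251, 2), (2026785, 2), (7592067, 2),
   (7990337, 2), (984989, 2), (1342747, 2), (5524213, 2), (7218327, 2), (7803467, 2), (8096037, 2), (8242322, 2),
   (3076450, 2), (1538225, 2), (4907319, 2), (5101777, 2), (4994521, 2), (1908239, 2), (5148423, 2), (6768515, 2),
   (1950133, 2), (6593939, 2), (6039282, 2), (4009158, 2), (2004579, 2), (3205831, 2), (5797219, 2), (7351213, 2),
   (3100182, 2), (2937573, 2), (5663090, 2), (2831545, 2), (5586596, 2), (2793298, 2), (1396649, 2), (4341079, 2),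
   (4105386, 2), (2052693, 2), (1787687, 2), (5088147, 2), (6738377, 2), (4773423, 2), (6581015, 2), (7484811, 2),
   (7936709, 2), (8162658, 2), (4081329, 2), (6234968, 2), (3117484, 2), (3210840, 2), (1605420, 2), (3361685, 2),
   (6714673, 2), (7551640, 2), (5163492, 2), (2729817, 2), (1423661, 2), (4906134, 2), (7906737, 2), (4037793, 2),
   (6213200, 2), (3106600, 2), (1553300, 2), (511842, 2), (255921, 2), (2878211, 2), (5633409, 2), (7011008, 2),
   (5319638, 2), (3093844, 2), (681662, 2), (5598424, 2), (2799212, 2), (1399606, 2), (699803, 2), (6936148, 2),
   (3757673, 2), (6073140, 2), (1800838, 2), (6516560, 2), (4948473, 2), (843149, 2), (5414427, 2), (4121161, 2),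
   (6254884, 2), (3127442, 2), (1563721, 2), (4976164, 2), (2488082, 2), (5336373, 2), (3468074, 2), (1734037, 2),
   (6994979, 2), (7691793, 2), (8266531, 2), (8327569, 2), (1024869, 2), (4706738, 2), (3366666, 2), (1683333, 2),
   (5035970, 2), (2036918, 2), (3428306, 2), (1714153, 2), (3243149, 2), (5815878, 2), (2907939, 2), (7882666, 2),
   (3941333, 2), (1372381, 2), (4880494, 2), (2440247, 2), (7674098, 2), (4805882, 2), (6033356, 2), (3016678, 2),
   (1508339, 2), (4583989, 2), (6486298, 2), (4239031, 2), (2073809, 2), (5231208, 2), (243149, 2), (1169181, 2),
   (4778894, 2), (2389447, 2), (5389027, 2), (4388466, 2), (6152900, 2), (6925590, 2), (7356210, 2), (5459634, 2),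
   (8178561, 2), (8283584, 2), (4141792, 2), (2070896, 2), (1035448, 2), (882278, 2), (441139, 2), (520899, 2),
   (249487, 2), (4319047, 2), (3678105, 2), (7109714, 2), (3554857, 2), (3367595, 2), (5878101, 2), (6503724, 2),
   (1790904, 2), (6586248, 2), (5977642, 2), (2988821, 2), (5688714, 2), (2844357, 2), (5616482, 2), (5677655, 2),
   (6745192, 2), (6013102, 2), (3006551, 2), (5697579, 2), (388325, 2), (2558767, 2), (5473687, 2), (6931147, 2),
   (3575374, 2), (6668540, 2), (3334270, 2), (1667135, 2), (4855731, 2), (6622169, 2), (931119, 2), (2274742, 2),
   (1137371, 2), (4762989, 2), (3870380, 2), (3304888, 2), (1652444, 2), (6907443, 2), (7648025, 2), (8018316, 2),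
   (2672535, 2), (5553265, 2), (6970936, 2), (3485468, 2), (1989958, 2), (6599853, 2), (7494230, 2), (3590317, 2),
   (6472891, 2), (6612689, 2), (6136871, 2), (3770835, 2), (6079721, 2), (7234164, 2), (3617082, 2), (1808541, 2),
   (4716684, 2), (2358342, 2), (5489524, 2), (7139732, 2), (849075, 2), (2825607, 2), (5607107, 2), (3843399, 2),
   (6116003, 2), (6827971, 2), (1784933, 2), (5086770, 2), (2543385, 2), (5465996, 2), (2732998, 2), (1284935, 2),
   (4836771, 2), (5725120, 2), (6977286, 2), (3488643, 2), (5938625, 2), (5925701, 2), (7043093, 2), (7715850, 2),
   (3857925, 2), (5040739, 2), (1528207, 2), (4958407, 2), (6673507, 2), (7531057, 2), (7959832, 2), (4024869, 2),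
   (6498739, 2), (8040200, 2), (4020100, 2), (2010050, 2), (1005025, 2), (1938377, 2), (2146063, 2), (5267335, 2),
   (8324366, 2), (4162183, 2), (6275395, 2), (5354127, 2), (6871367, 2), (7629987, 2), (8009297, 2), (8198952, 2),
   (7491273, 2), (8021037, 2), (8204822, 2), (5920484, 2), (2960242, 2), (473574, 2), (5830821, 2), (7048849, 2),
   (7718728, 2), (7430749, 2), (7909678, 2), (2191270, 2), (7746662, 2), (3873331, 2), (2517985, 2), (5453296, 2),
   (2726648, 2), (5651214, 2), (2847322, 2), (1420722, 2), (710361, 2), (4549484, 2), (2301533, 2), (1363324, 2),
   (7770270, 2), (2934394, 2), (1467197, 2), (4927902, 2), (876376, 2), (438188, 2), (219094, 2), (5483689, 2),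
   (6171723, 2), (7280165, 2), (7834386, 2), (3917193, 2), (4691793, 2), (1897223, 2), (1018459, 2), (452943, 2),
   (4420775, 2), (6404691, 2), (7396649, 2), (2805038, 2), (1402519, 2), (6965927, 2), (7677267, 2), (8032937, 2),
   (2685494, 2), (4696816, 2), (4963416, 2), (4167192, 2), (2083596, 2), (1041798, 2), (1698150, 2), (6527444, 2),
   (972596, 2), (486298, 2), (4683082, 2), (2341541, 2), (5365074, 2), (2682537, 2), (5535572, 2), (2767786, 2),
   (6248474, 2), (3124237, 2), (5756422, 2), (3313571, 2), (3339489, 2), (7456421, 2), (7922514, 2), (5912889, 2),
   (4575124, 2), (6206738, 2), (3103369, 2), (4557175, 2), (954839, 2), (7119848, 2), (1276252, 2), (638126, 2),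
   (319063, 2), (4353835, 2), (2669781, 2), (1543733, 2), (7332001, 2), (7860304, 2), (7193382, 2), (3596691, 2),
   (5992649, 2), (7190628, 2), (5446862, 2), (7638712, 2), (3819356, 2), (1909678, 2), (6123266, 2), (7762565, 2),
   (8075586, 2), (2841444, 2), (4663094, 2), (2331547, 2), (1301924, 2), (650962, 2), (325481, 2), (4357044, 2),
   (2178522, 2), (5810905, 2), (7099756, 2), (3159421, 2), (5774014, 2), (2743323, 2), (5671785, 2), (7030196, 2),
   (1867457, 2), (7548423, 2), (7968515, 2), (6483333, 2), (7435970, 2), (3717985, 2), (6053296, 2), (3026648, 2),
   (1513324, 2), (756662, 2), (761641, 2), (1244041, 2), (4889205, 2), (977557, 2), (7252305, 2), (1038375, 2),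
   (4713491, 2), (6551049, 2), (7469828, 2), (4521254, 2), (2260627, 2), (6195379, 2), (1821409, 2), (5105008, 2),
   (3879693, 2), (6134150, 2), (3067075, 2), (5727841, 2), (7058224, 2), (1209935, 2), (4799271, 2), (3750324, 2),
   (5128032, 2), (2564016, 2), (1472418, 2), (736209, 2), (4839740, 2), (1914673, 2), (5151640, 2), (4315878, 2),
   (4892628, 2), (3930152, 2), (1965076, 2), (982538, 2), (491269, 2), (4439938, 2), (5324617, 2), (6856612, 2),
   (1752752, 2), (6781474, 2), (3390737, 2), (7317058, 2), (3658529, 2), (6023568, 2), (3061633, 2), (1179171, 2),
   (4783889, 2), (8316934, 2), (4158467, 2), (6273537, 2), (7331072, 2), (3665536, 2), (1832768, 2), (916384, 2),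
   (458192, 2), (229096, 2), (114548, 2), (57274, 2), (28637, 2), (2624690, 1), (1312345, 1), (1839388, 1),
   (919694, 1), (2810896, 1), (1405448, 1), (6365962, 1), (602472, 1), (301236, 1), (150618, 1), (1204944, 1),
   (4900873, 1), (6644740, 1), (5833010, 1), (2916505, 1), (5652556, 1), (298027, 1), (1212619, 1), (1687640, 1),
   (843820, 1), (4294810, 1), (2147405, 1), (5275709, 1), (6832158, 1), (3416079, 1), (6915112, 1), (1608104, 1),
   (804052, 1), (5508118, 1), (1445088, 1), (6588684, 1), (3294342, 1), (352547, 1), (140167, 1), (4264387, 1),
   (6326497, 1), (7357552, 1), (1332261, 1), (7340691, 1), (7864649, 1), (8126628, 1), (4063314, 1), (75309, 1),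
   (1584464, 1), (3610628, 1), (2245426, 1), (1122713, 1), (4755660, 1), (2377830, 1), (4325622, 1), (2162811, 1),
   (4850476, 1), (4656648, 1), (2328324, 1), (3322370, 1), (2220640, 1), (1110320, 1), (555160, 1), (277580, 1),
   (1245726, 1), (1805314, 1), (3328320, 1), (6475812, 1), (1352353, 1), (2019456, 1), (1009728, 1), (4409606, 1),
   (2204803, 1), (7079696, 1), (1849378, 1), (2296514, 1), (1148257, 1), (4768432, 1), (2384216, 1), (593097, 1),
   (4490852, 1), (1060490, 1), (3351624, 1), (1103886, 1), (6455896, 1), (3227948, 1), (1613974, 1), (806987, 1),
   (4196943, 1), (1573998, 1), (4203377, 1), (6295992, 1), (3147996, 1), (6292775, 1), (1577201, 1), (4982904, 1),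
   (2491452, 1), (427666, 1), (1369154, 1), (7438406, 1), (3539848, 1), (2126890, 1), (2229713, 1), (5309160, 1),
   (2654580, 1), (1327290, 1), (663645, 1), (4526126, 1), (6842656, 1), (3421328, 1), (3474978, 1), (3806496, 1),
   (1903248, 1), (1618953, 1), (5003780, 1), (2501890, 1), (1265762, 1), (2269481, 1), (237906, 1), (118953, 1),
   (864389, 1), (2890176, 1), (138790, 1), (69395, 1), (4229001, 1), (6308804, 1), (3154402, 1), (153797, 1),
   (4343317, 1), (3719203, 1), (6053905, 1), (7221256, 1), (1217620, 1), (608810, 1), (4470275, 1), (1647171, 1),
   (2173253, 1), (201013, 1), (4287105, 1), (4924673, 1), (6656640, 1), (567074, 1), (283537, 1), (4336072, 1),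
   (2168036, 1), (530245, 1), (4459426, 1), (668866, 1), (2268296, 1), (1134148, 1), (1182989, 1), (3457556, 1),
   (6594610, 1), (3297305, 1), (442481, 1), (4505735, 1), (1116327, 1), (4752467, 1), (6570537, 1), (7479572, 1),
   (3739786, 1), (3237906, 1), (4216883, 1), (5112513, 1), (6750560, 1), (307594, 1), (104010, 1), (1090380, 1),
   (545190, 1), (615188, 1), (684577, 1), (4536592, 1), (1975812, 1), (987906, 1), (252432, 1), (126216, 1),
   (63108, 1), (31554, 1), (15777, 1), (4202192, 1), (2101096, 1), (1050548, 1), (525274, 1), (262637, 1),
   (2675464, 1), (1337732, 1), (6493202, 1), (1664160, 1), (6429441, 1), (7409024, 1), (3704512, 1), (1852256, 1),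
   (926128, 1), (463064, 1), (742412, 1), (4271202, 1), (2135601, 1), (5262104, 1), (2631052, 1), (4424227, 1),
   (504864, 1), (1164162, 1), (582081, 1), (4485344, 1), (2242672, 1), (1121336, 1), (560668, 1), (280334, 1),
   (657763, 1), (4523185, 1), (7345676, 1), (3672838, 1), (1836419, 1), (210955, 1), (213833, 1), (4223245, 1),
   (6305926, 1), (3152963, 1), (4800613, 1), (4721045, 1), (6554826, 1), (3277413, 1), (3489985, 1), (5939296, 1),
   (2969648, 1), (1484824, 1), (705094, 1), (4253780, 1), (5210132, 1), (2605066, 1), (45159, 1), (3678776, 1),
   (4870480, 1), (2435240, 1), (596054, 1), (792232, 1), (396116, 1), (198058, 1), (99029, 1), (4243818, 1),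
   (2121909, 1), (5255258, 1), (1737489, 1), (5063048, 1), (2531524, 1), (115766, 1), (1250945, 1), (4299781, 1),
   (6344194, 1), (3172097, 1), (924689, 1), (1460739, 1), (6447171, 1), (7417889, 1), (702724, 1), (351362, 1),
   (1063445, 1), (4726026, 1), (2363013, 1), (5375810, 1), (2687905, 1), (5538256, 1), (2769128, 1), (430605, 1),
   (57883, 1), (4597797, 1), (737427, 1), (4563017, 1), (622863, 1), (2255372, 1), (1127686, 1), (3168928, 1),
   (6432416, 1), (3216208, 1), (4346506, 1), (689317, 1), (1100945, 1), (4744776, 1), (2372388, 1), (314056, 1),
   (157028, 1), (78514, 1), (39257, 1), (4213932, 1), (190626, 1), (4441280, 1), (3246601, 1), (5817604, 1),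
   (7903248, 1), (3951624, 1), (459847, 1), (1065303, 1), (4726955, 1), (6557781, 1), (7473194, 1), (3736597, 1),
   (832080, 1), (416040, 1), (208020, 1), (6100032, 1), (3050016, 1), (1525008, 1), (632881, 1), (493953, 1),
   (371206, 1), (185603, 1), (5296705, 1), (2263063, 1), (5325835, 1), (6857221, 1), (7622914, 1), (421910, 1),
   (4538962, 1), (4989254, 1), (2494627, 1), (1769924, 1), (884962, 1), (145176, 1), (72588, 1), (36294, 1),
   (18147, 1), (1589901, 1), (6302745, 1), (2031657, 1), (762504, 1), (381252, 1), (4231958, 1), (2115979, 1),
   (5252293, 1), (6820450, 1), (3410225, 1), (5899416, 1), (2949708, 1), (6703248, 1), (1869893, 1), (5129250, 1),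
   (3182981, 1), (5785794, 1), (95313, 1), (5571333, 1), (2634003, 1), (5511305, 1), (6949956, 1), (1722420, 1),
   (861210, 1), (290352, 1), (551943, 1), (5441617, 1), (3031301, 1), (5709954, 1), (5621792, 1), (6979970, 1),
   (2322816, 1), (1161408, 1), (580704, 1), (5409412, 1), (2704706, 1), (4860434, 1), (2430217, 1), (1315526, 1),
   (2106966, 1), (1053483, 1), (951624, 1), (475812, 1), (2854977, 1), (52005, 1), (4220306, 1), (2110153, 1),
   (5249380, 1), (1192108, 1), (2564625, 1), (5476616, 1), (2738308, 1), (334433, 1), (4361520, 1), (2180760, 1),
   (5017889, 1), (563843, 1), (4476225, 1), (5902343, 1), (3375280, 1), (4819776, 1), (2409888, 1), (5280930, 1),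
   (2640465, 1), (5514536, 1), (2757268, 1), (1378634, 1), (2754059, 1), (2460752, 1), (1474854, 1), (4301220, 1),
   (2150610, 1), (1075305, 1), (692282, 1), (346141, 1), (786999, 1), (4587803, 1), (6488205, 1), (5842956, 1),
   (2921478, 1), (1084018, 1), (542009, 1), (4465308, 1), (2232654, 1), (4241960, 1), (2120980, 1), (2892897, 1),
   (5640752, 1), (2820376, 1), (1410188, 1), (1230376, 1), (1302533, 1), (6406417, 1), (7397512, 1), (3698756, 1),
   (272595, 1), (4330601, 1), (6359604, 1), (3179802, 1), (1710664, 1), (855332, 1), (1186194, 1), (1661185, 1),
   (5024896, 1), (2512448, 1), (5268006, 1), (5770785, 1), (3811457, 1), (4626498, 1), (2313249, 1), (304405, 1),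
   (1413139, 1), (4785798, 1), (2392899, 1), (5390753, 1), (6889680, 1), (3444840, 1), (4731956, 1), (2365978, 1),
   (402026, 1), (4510744, 1), (6062602, 1), (5329044, 1), (2664522, 1), (231532, 1), (4415544, 1), (2207772, 1),
   (722544, 1), (361272, 1), (180636, 1), (90318, 1), (2627629, 1), (1384564, 1), (2425238, 1), (2141072, 1),
   (1070536, 1), (535268, 1), (267634, 1), (133817, 1), (4261212, 1), (2130606, 1), (1188915, 1), (4788761, 1),
   (797449, 1), (4593028, 1), (1728778, 1), (6379592, 1), (3189796, 1), (1594898, 1), (4370577, 1), (902657, 1),
   (4367374, 1), (2183687, 1), (5286147, 1), (6837377, 1), (7612992, 1), (2826278, 1), (5350928, 1), (4645632, 1),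
   (4845570, 1), (2422785, 1), (5405696, 1), (7145475, 1), (7767041, 1), (8077824, 1), (4038912, 1), (6337856, 1),
   (1675812, 1), (837906, 1), (418953, 1), (4403780, 1), (2201890, 1), (2908802, 1), (1454401, 1), (4921504, 1),
   (1256224, 1), (628112, 1), (175681, 1), (4282144, 1), (5780352, 1), (2702848, 1), (1351424, 1), (675712, 1),
   (337856, 1), (168928, 1), (84464, 1), (42232, 1), (21116, 1), (10558, 1), (5279, 1), (0, 0)]

theorem m23_hreps : m23reps.all (fun r => isCode r && decide (r < 2 ^ 24)) = true := by
  decide +kernel

set_option maxRecDepth 100000 in
theorem m23_hrun : runAll (m23mt.map Prod.fst) m23reps 0 m23progs [] = some m23vis := by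
  decide +kernel

set_option maxRecDepth 100000 in
theorem m23_hbm : bmAdd (m23vis.map (fun p => p.1 >>> 12)) 0 = some (2 ^ 4096 - 1) := by
  decide +kernel

end Cfsg.Agent.Lib.Helper92
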