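import Cfsg.Agent.Lib.Helper92.LeechEnum

set_option autoImplicit false

open scoped Pointwise

namespace Cfsg.Agent.Lib.Helper92

open Cfsg Cfsg.Spor Cfsg.Agent.Lib.Helper7

/-! ### Orbits of coordinate permutations on code words -/

/-- Coordinate permutation of a mask, from the packed table of the inverse. -/
def permMask (t m : ℕ) : ℕ := ofBits (fun n => bitB m (nlane t n)) 24

theorem permMask_lt (t m : ℕ) : permMask t m < 2 ^ 24 := ofBits_lt _ _

theorem wordOf_permMask {π : Equiv.Perm GolayPt} {t : ℕ} (h : RepT π⁻¹ t) (m : ℕ) :
    wordOf (permMask t m) = wordOf m ∘ π.symm := by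
  funext p
  unfold permMask wordOf
  rw [testBit_ofBits, bitB_eq]
  simp only [Function.comp, idx_lt p, decide_true, Bool.true_and]
  have e : π.symm p = pt (nlane t (idx p)) := h p
  rw [e, idx_pt (nlane_lt _ _)]

/-- The base vectors are fixed by `g`. -/
def FixB (B : List (List ℤ)) (g : Co0) : Prop :=
  ∀ b ∈ B, ∀ h : vecOf b ∈ leechLattice, g • (⟨vecOf b, h⟩ : leechLattice) = ⟨vecOf b, h⟩

/-- Two masks related by an automorphism fixing the base vectors which carries the vectors
with the first word of second digits onto those with the second. -/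
def MRel (B : List (List ℤ)) (m m' : ℕ) : Prop :=
  ∃ g : Co0, FixB B g ∧ (wordOf m ∈ golayCode → wordOf m' ∈ golayCode) ∧ m' < 2 ^ 24 ∧
    ∀ x : leechLattice, bitWord (x : GolayPt → ℤ) = wordOf m ↔
      bitWord ((g • x : leechLattice) : GolayPt → ℤ) = wordOf m'

/-- The table comes from a coordinate permutation fixing the base vectors. -/
def MFix (B : List (List ℤ)) (t : ℕ) : Prop := ∀ m, MRel B m (permMask t m)

theorem MRel.refl (B : List (List ℤ)) {m : ℕ} (hm : m < 2 ^ 24) : MRel B m m :=
  ⟨1, fun b _ h => one_smul _ _, id, hm, fun x => by rw [one_smul]⟩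

theorem MRel.trans {B : List (List ℤ)} {m m' m'' : ℕ} (h : MRel B m m') (h' : MRel B m' m'') :
    MRel B m m'' := by
  obtain ⟨g, hB, hc, -, hg⟩ := h
  obtain ⟨g', hB', hc', hlt', hg'⟩ := h'
  refine ⟨g' * g, fun b hb h => ?_, fun hm => hc' (hc hm), hlt', fun x => ?_⟩
  · rw [mul_smul, hB b hb h, hB' b hb h]
  · rw [mul_smul, hg x, hg' (g • x)]

theorem mfix_of_word {B : List (List ℤ)} {t : ℕ} (w : List ℕ)
    (h : invT (evalT [tA, tB, tC] w) = t) (hB : ∀ b ∈ B, permL t b = b) : MFix B t := by
  have hm : evalW [shiftPerm, Cfsg.projInv, Cfsg.cubeTwist] w ∈ M24 := by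
    apply evalW_mem
    intro σ hσ
    simp only [List.mem_cons, List.not_mem_nil, or_false] at hσ
    rcases hσ with rfl | rfl | rfl
    · exact shiftPerm_mem
    · exact projInv_mem
    · exact cubeTwist_mem
  have hr : RepT (evalW [shiftPerm, Cfsg.projInv, Cfsg.cubeTwist] w)⁻¹ t := by
    rw [← h]
    exact (repT_evalW (List.Forall₂.cons repT_shift (List.Forall₂.cons repT_projInv
      (List.Forall₂.cons repT_cubeTwist List.Forall₂.nil))) _).inv
  intro m
  refine ⟨⟨permCo _ hm, permCo_mem _ hm⟩, fun b hb hbL => ?_, fun hc => ?_, permMask_lt t m,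
    fun x => ?_⟩
  · apply Subtype.ext
    show permVec _ (vecOf b) = vecOf b
    rw [permVec_vecOf hr b, hB b hb]
  · rw [wordOf_permMask hr]
    exact comp_symm_mem_of_mem_M24 hm hc
  · have e : bitWord (((⟨permCo _ hm, permCo_mem _ hm⟩ : Co0) • x : leechLattice) : GolayPt → ℤ) =
        bitWord (x : GolayPt → ℤ) ∘
          (evalW [shiftPerm, Cfsg.projInv, Cfsg.cubeTwist] w).symm := rfl
    rw [e, wordOf_permMask hr]
    constructor
    · intro hx
      rw [hx]
    · intro hx
      funext p
      have := congrFun hx ((evalW [shiftPerm, Cfsg.projInv, Cfsg.cubeTwist] w) p)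
      simpa using this

/-- The machine visiting masks: `some (i, m)` applies the table `i` to the top of the stack,
checks that the result is `m` and pushes it; `none` pops. -/
def runM (mt : List ℕ) (r : ℕ) :
    List (Option (ℕ × ℕ)) → List ℕ → List (ℕ × ℕ) → Option (List (ℕ × ℕ))
  | [], _, acc => some acc
  | some (i, m) :: is, top :: st, acc =>
    match mt[i]? with
    | some t => if Nat.beq (permMask t top) m then runM mt r is (m :: top :: st) ((m, r) :: acc)
        else none
    | none => none
  | none :: is, _ :: st, acc => runM mt r is st acc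
  | _ :: _, [], _ => none

theorem runM_sound {B : List (List ℤ)} {mt : List ℕ} (hmt : ∀ t ∈ mt, MFix B t) (reps : List ℕ)
    (r : ℕ) : ∀ (is : List (Option (ℕ × ℕ))) (st : List ℕ) (acc res : List (ℕ × ℕ)),
      runM mt r is st acc = some res → (∀ m ∈ st, MRel B (reps.getD r 0) m) →
      (∀ p ∈ acc, MRel B (reps.getD p.2 0) p.1 ∧ p.2 < reps.length) → r < reps.length →
      ∀ p ∈ res, MRel B (reps.getD p.2 0) p.1 ∧ p.2 < reps.length := by
  intro is
  induction is with
  | nil =>
    intro st acc res h _ hacc _
    simp only [runM, Option.some.injEq] at h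
    rw [← h]
    exact hacc
  | cons ins is ih =>
    intro st acc res h hst hacc hr
    cases ins with
    | none =>
      cases st with
      | nil => simp [runM] at h
      | cons top st =>
        simp only [runM] at h
        exact ih st acc res h (fun m hm => hst m (List.mem_cons_of_mem _ hm)) hacc hr
    | some im =>
      obtain ⟨i, m⟩ := im
      cases st with
      | nil => simp [runM] at h
      | cons top st =>
        simp only [runM] at h
        cases hti : mt[i]? with
        | none => rw [hti] at h; simp at h
        | some t =>
          rw [hti] at h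
          simp only at h
          by_cases hbeq : Nat.beq (permMask t top) m = true
          · rw [if_pos hbeq] at h
            have hm : permMask t top = m := Nat.eq_of_beq_eq_true hbeq
            have htm : t ∈ mt := List.mem_of_getElem? hti
            have hrel : MRel B (reps.getD r 0) m := by
              rw [← hm]
              exact (hst top List.mem_cons_self).trans (hmt t htm top)
            refine ih (m :: top :: st) ((m, r) :: acc) res h ?_ ?_ hr
            · intro m' hm'
              rcases List.mem_cons.mp hm' with rfl | hm'
              · exact hrel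
              · exact hst m' hm'
            · intro p hp
              rcases List.mem_cons.mp hp with rfl | hp
              · exact ⟨hrel, hr⟩
              · exact hacc p hp
          · rw [if_neg hbeq] at h
            simp at h

/-- Run the machine from each representative in turn. -/
def runAll (mt : List ℕ) (reps : List ℕ) :
    ℕ → List (List (Option (ℕ × ℕ))) → List (ℕ × ℕ) → Option (List (ℕ × ℕ))
  | _, [], acc => some acc
  | r, prog :: progs, acc =>
    match reps[r]? with
    | some rep =>
      match runM mt r prog [rep] ((rep, r) :: acc) with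
      | some acc' => runAll mt reps (r + 1) progs acc'
      | none => none
    | none => none

theorem runAll_sound {B : List (List ℤ)} {mt : List ℕ} (hmt : ∀ t ∈ mt, MFix B t) (reps : List ℕ)
    (hreps : ∀ rep ∈ reps, rep < 2 ^ 24) :
    ∀ (progs : List (List (Option (ℕ × ℕ)))) (r : ℕ) (acc res : List (ℕ × ℕ)),
      runAll mt reps r progs acc = some res →
      (∀ p ∈ acc, MRel B (reps.getD p.2 0) p.1 ∧ p.2 < reps.length) →
      ∀ p ∈ res, MRel B (reps.getD p.2 0) p.1 ∧ p.2 < reps.length := by
  intro progs
  induction progs with
  | nil =>
    intro r acc res h hacc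
    simp only [runAll, Option.some.injEq] at h
    rw [← h]
    exact hacc
  | cons prog progs ih =>
    intro r acc res h hacc
    simp only [runAll] at h
    cases hrep : reps[r]? with
    | none => rw [hrep] at h; simp at h
    | some rep =>
      rw [hrep] at h
      simp only at h
      cases hrun : runM mt r prog [rep] ((rep, r) :: acc) with
      | none => rw [hrun] at h; simp at h
      | some acc' =>
        rw [hrun] at h
        simp only at h
        have hr : r < reps.length := by
          by_contra hc
          rw [List.getElem?_eq_none (by omega)] at hrep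
          exact absurd hrep (by simp)
        have hget : reps.getD r 0 = rep := by
          rw [List.getD_eq_getElem?_getD, hrep]
          rfl
        have hmem : rep ∈ reps := List.mem_of_getElem? hrep
        have hrefl : MRel B (reps.getD r 0) rep := by
          rw [hget]
          exact MRel.refl B (hreps rep hmem)
        refine ih (r + 1) acc' res h ?_
        refine runM_sound hmt reps r prog [rep] ((rep, r) :: acc) acc' hrun ?_ ?_ hr
        · intro m hm
          rw [List.mem_singleton] at hm
          rw [hm]
          exact hrefl
        · intro p hp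
          rcases List.mem_cons.mp hp with rfl | hp
          · exact ⟨hrefl, hr⟩
          · exact hacc p hp

/-! ### Coverage by a bitmap -/

/-- Record the numbers in a bitmap, failing on a repetition. -/
def bmAdd : List ℕ → ℕ → Option ℕ
  | [], bm => some bm
  | k :: ks, bm => if bitB bm k then none else bmAdd ks (bm ||| (1 <<< k))

theorem bmAdd_sound : ∀ (ks : List ℕ) (bm bm' : ℕ), bmAdd ks bm = some bm' →
    ks.Nodup ∧ (∀ k ∈ ks, bm.testBit k = false) ∧
      ∀ j, bm'.testBit j = true ↔ (bm.testBit j = true ∨ j ∈ ks) := by
  intro ks
  induction ks with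
  | nil =>
    intro bm bm' h
    simp only [bmAdd, Option.some.injEq] at h
    subst h
    simp
  | cons k ks ih =>
    intro bm bm' h
    simp only [bmAdd] at h
    by_cases hb : bitB bm k = true
    · rw [if_pos hb] at h
      simp at h
    · rw [if_neg hb] at h
      obtain ⟨h1, h2, h3⟩ := ih _ _ h
      have hbk : bm.testBit k = false := by
        rw [bitB_eq] at hb
        simpa using hb
      have hk : ∀ j, (bm ||| (1 <<< k)).testBit j = true ↔ (bm.testBit j = true ∨ j = k) := by
        intro j
        rw [Nat.testBit_or, Nat.one_shiftLeft, Nat.testBit_two_pow, Bool.or_eq_true,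
          decide_eq_true_eq]
        exact ⟨fun h => h.imp id Eq.symm, fun h => h.imp id Eq.symm⟩
      refine ⟨List.nodup_cons.mpr ⟨fun hmem => ?_, h1⟩, ?_, ?_⟩
      · have := h2 k hmem
        have h4 := (hk k).mpr (Or.inr rfl)
        rw [this] at h4
        exact absurd h4 (by simp)
      · intro j hj
        rcases List.mem_cons.mp hj with rfl | hj
        · exact hbk
        · have := h2 j hj
          by_contra hc
          have h4 := (hk j).mpr (Or.inl (by simpa using hc))
          rw [this] at h4
          exact absurd h4 (by simp)
      · intro j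
        rw [h3 j, hk j, List.mem_cons]
        tauto

theorem bmAdd_full {ks : List ℕ} {n : ℕ} (h : bmAdd ks 0 = some (2 ^ n - 1)) :
    ks.Nodup ∧ ∀ j, j ∈ ks ↔ j < n := by
  obtain ⟨h1, -, h3⟩ := bmAdd_sound ks 0 _ h
  refine ⟨h1, fun j => ?_⟩
  have := h3 j
  rw [Nat.testBit_two_pow_sub_one, decide_eq_true_eq, Nat.zero_testBit] at this
  simpa using this.symm

end Cfsg.Agent.Lib.Helper92
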