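import Cfsg.Agent.Lib.Helper92.LeechCo3
import Cfsg.Agent.Lib.Helper92.OrbCo3b
import Cfsg.Agent.Lib.Helper92.OrbMcLa
import Cfsg.Agent.Lib.Helper92.OrbU43a
import Cfsg.Agent.Lib.Helper92.OrbU43b

set_option autoImplicit false

open scoped Pointwise

namespace Cfsg.Agent.Lib.Helper92

open Cfsg Cfsg.Spor Cfsg.Agent.Lib.Helper7

/-! ### The stabiliser of a vector of type 3 and a minimal vector with inner product `24` -/

/-- The standard minimal vector. -/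
def aML : List ℤ := [4, 0, 0, 0, 0, 0, 0, 0, 0, 0, 0, 0, 0, 0, 0, 0, 0, 0, 0, 0, 0, 0, 0, 4]

/-- The standard point. -/
def xML : List ℤ := [0, 4, 0, 0, 0, 0, 0, 0, 0, 0, 0, 0, 0, 0, 0, 0, 0, 0, 0, 0, 0, 0, 0, 4]

theorem exists_to_ua (u v : leechLattice) (hu : sqNorm (u : GolayPt → ℤ) = 48)
    (hv : sqNorm (v : GolayPt → ℤ) = 32)
    (huv : dotInt (u : GolayPt → ℤ) (v : GolayPt → ℤ) = 24) :
    ∃ g₀ : Co0, ((g₀ • u : leechLattice) : GolayPt → ℤ) = vecOf u0L ∧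
      ((g₀ • v : leechLattice) : GolayPt → ℤ) = vecOf aML := by
  obtain ⟨g₀, hg₀⟩ := exists_to_u0 u hu
  have hx0 : g₀ • v ∈ XSet co3bconds := by
    rw [show co3bconds = [(u0L, 24)] from rfl, xset_one, dot_smul_of_eq hg₀, co0_smul_sqNorm]
    exact ⟨hv, huv⟩
  obtain ⟨k, hk, e⟩ := to_std co3b_main g₀ v hx0
  exact ⟨k⁻¹ * g₀, fix_inv_mul hk (show u0L ∈ co3bB from List.mem_cons_self) hg₀, e⟩

theorem dot_of_sub {u x : GolayPt → ℤ} (hu : sqNorm u = 48) (hx : sqNorm x = 32) :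
    sqNorm (u - x) = 32 ↔ dotInt u x = 24 := by
  rw [sqNorm_sub, hu, hx]
  constructor <;> intro h <;> omega

/-- The stabiliser of a vector of type 3 and a minimal vector with inner product `24` is
transitive on the `275` minimal vectors with inner products `24` and `16` with them. -/
theorem mcl_orbit (u v : leechLattice) (hu : sqNorm (u : GolayPt → ℤ) = 48)
    (hv : sqNorm (v : GolayPt → ℤ) = 32 ∧ sqNorm ((u - v) : GolayPt → ℤ) = 32) :
    {x : leechLattice | sqNorm (x : GolayPt → ℤ) = 32 ∧ sqNorm ((u - x) : GolayPt → ℤ) = 32 ∧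
        dotInt (v : GolayPt → ℤ) (x : GolayPt → ℤ) = 16}.ncard = 275 ∧
      ∀ x ∈ {x : leechLattice | sqNorm (x : GolayPt → ℤ) = 32 ∧
        sqNorm ((u - x) : GolayPt → ℤ) = 32 ∧
        dotInt (v : GolayPt → ℤ) (x : GolayPt → ℤ) = 16},
      ∀ x' ∈ {x : leechLattice | sqNorm (x : GolayPt → ℤ) = 32 ∧
        sqNorm ((u - x) : GolayPt → ℤ) = 32 ∧
        dotInt (v : GolayPt → ℤ) (x : GolayPt → ℤ) = 16},
      ∃ g : Co0, g • u = u ∧ g • v = v ∧ g • x = x' := by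
  obtain ⟨g₀, hg1, hg2⟩ := exists_to_ua u v hu hv.1 ((dot_of_sub hu hv.1).mp hv.2)
  have hS : ∀ x : leechLattice, x ∈ {x : leechLattice | sqNorm (x : GolayPt → ℤ) = 32 ∧
      sqNorm ((u - x) : GolayPt → ℤ) = 32 ∧
      dotInt (v : GolayPt → ℤ) (x : GolayPt → ℤ) = 16} ↔ g₀ • x ∈ XSet mclaconds := by
    intro x
    rw [show mclaconds = [(u0L, 24), (aML, 16)] from rfl, xset_two, dot_smul_of_eq hg1,
      dot_smul_of_eq hg2, co0_smul_sqNorm]
    constructor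
    · rintro ⟨a, b, c⟩
      exact ⟨a, (dot_of_sub hu a).mp b, c⟩
    · rintro ⟨a, b, c⟩
      exact ⟨a, (dot_of_sub hu a).mpr b, c⟩
  obtain ⟨h1, h2⟩ := xset_trans mcla_main g₀ hS
  refine ⟨h1, fun x hx x' hx' => ?_⟩
  obtain ⟨k, hk, e⟩ := h2 x hx x' hx'
  exact ⟨g₀⁻¹ * k * g₀, fix_conj hk (show u0L ∈ mclaB from List.mem_cons_self) hg1,
    fix_conj hk (show aML ∈ mclaB from List.mem_cons_of_mem _ List.mem_cons_self) hg2, e⟩

/-- The stabiliser of a point: the orbits on the other points. -/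
theorem mcl_sub (u v x : leechLattice) (hu : sqNorm (u : GolayPt → ℤ) = 48)
    (hv : sqNorm (v : GolayPt → ℤ) = 32 ∧ sqNorm ((u - v) : GolayPt → ℤ) = 32)
    (hx : x ∈ {x : leechLattice | sqNorm (x : GolayPt → ℤ) = 32 ∧
        sqNorm ((u - x) : GolayPt → ℤ) = 32 ∧
        dotInt (v : GolayPt → ℤ) (x : GolayPt → ℤ) = 16}) :
    {y : leechLattice | y ∈ {x : leechLattice | sqNorm (x : GolayPt → ℤ) = 32 ∧
        sqNorm ((u - x) : GolayPt → ℤ) = 32 ∧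
        dotInt (v : GolayPt → ℤ) (x : GolayPt → ℤ) = 16} ∧
        dotInt (x : GolayPt → ℤ) (y : GolayPt → ℤ) = 8}.ncard = 112 ∧
    {y : leechLattice | y ∈ {x : leechLattice | sqNorm (x : GolayPt → ℤ) = 32 ∧
        sqNorm ((u - x) : GolayPt → ℤ) = 32 ∧
        dotInt (v : GolayPt → ℤ) (x : GolayPt → ℤ) = 16} ∧ y ≠ x ∧
        dotInt (x : GolayPt → ℤ) (y : GolayPt → ℤ) = 16}.ncard = 162 ∧
    ∀ y ∈ {x : leechLattice | sqNorm (x : GolayPt → ℤ) = 32 ∧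
        sqNorm ((u - x) : GolayPt → ℤ) = 32 ∧
        dotInt (v : GolayPt → ℤ) (x : GolayPt → ℤ) = 16},
    ∀ y' ∈ {x : leechLattice | sqNorm (x : GolayPt → ℤ) = 32 ∧
        sqNorm ((u - x) : GolayPt → ℤ) = 32 ∧
        dotInt (v : GolayPt → ℤ) (x : GolayPt → ℤ) = 16},
    y ≠ x → y' ≠ x → dotInt (x : GolayPt → ℤ) (y : GolayPt → ℤ) =
      dotInt (x : GolayPt → ℤ) (y' : GolayPt → ℤ) →
    ∃ g : Co0, g • u = u ∧ g • v = v ∧ g • x = x ∧ g • y = y' := by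
  obtain ⟨g₀, hg1, hg2⟩ := exists_to_ua u v hu hv.1 ((dot_of_sub hu hv.1).mp hv.2)
  have hXiff : ∀ (g : Co0), ((g • u : leechLattice) : GolayPt → ℤ) = vecOf u0L →
      ((g • v : leechLattice) : GolayPt → ℤ) = vecOf aML → ∀ y : leechLattice,
      y ∈ {x : leechLattice | sqNorm (x : GolayPt → ℤ) = 32 ∧
        sqNorm ((u - x) : GolayPt → ℤ) = 32 ∧
        dotInt (v : GolayPt → ℤ) (x : GolayPt → ℤ) = 16} ↔
      (sqNorm ((g • y : leechLattice) : GolayPt → ℤ) = 32 ∧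
        dotInt (vecOf u0L) ((g • y : leechLattice) : GolayPt → ℤ) = 24 ∧
        dotInt (vecOf aML) ((g • y : leechLattice) : GolayPt → ℤ) = 16) := by
    intro g a1 a2 y
    rw [dot_smul_of_eq a1, dot_smul_of_eq a2, co0_smul_sqNorm]
    constructor
    · rintro ⟨a, b, c⟩
      exact ⟨a, (dot_of_sub hu a).mp b, c⟩
    · rintro ⟨a, b, c⟩
      exact ⟨a, (dot_of_sub hu a).mpr b, c⟩
  have hx0 : g₀ • x ∈ XSet mclaconds := by
    rw [show mclaconds = [(u0L, 24), (aML, 16)] from rfl, xset_two]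
    exact (hXiff g₀ hg1 hg2 x).mp hx
  obtain ⟨k, hk, e3⟩ := to_std mcla_main g₀ x hx0
  have e1 := fix_inv_mul hk (show u0L ∈ mclaB from List.mem_cons_self) hg1
  have e2 := fix_inv_mul hk (show aML ∈ mclaB from List.mem_cons_of_mem _ List.mem_cons_self) hg2
  generalize k⁻¹ * g₀ = g₁ at e1 e2 e3
  have e3' : ((g₁ • x : leechLattice) : GolayPt → ℤ) = vecOf xML := e3
  have hS8 : ∀ y : leechLattice, y ∈ {y : leechLattice | y ∈ {x : leechLattice |
      sqNorm (x : GolayPt → ℤ) = 32 ∧ sqNorm ((u - x) : GolayPt → ℤ) = 32 ∧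
      dotInt (v : GolayPt → ℤ) (x : GolayPt → ℤ) = 16} ∧
      dotInt (x : GolayPt → ℤ) (y : GolayPt → ℤ) = 8} ↔ g₁ • y ∈ XSet u43aconds := by
    intro y
    rw [show u43aconds = [(u0L, 24), (aML, 16), (xML, 8)] from rfl, xset_three,
      dot_smul_of_eq e3']
    constructor
    · rintro ⟨a, d⟩
      obtain ⟨a1, a2, a3⟩ := (hXiff g₁ e1 e2 y).mp a
      exact ⟨a1, a2, a3, d⟩
    · rintro ⟨a1, a2, a3, d⟩
      exact ⟨(hXiff g₁ e1 e2 y).mpr ⟨a1, a2, a3⟩, d⟩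
  have hS16 : ∀ y : leechLattice, y ∈ {y : leechLattice | y ∈ {x : leechLattice |
      sqNorm (x : GolayPt → ℤ) = 32 ∧ sqNorm ((u - x) : GolayPt → ℤ) = 32 ∧
      dotInt (v : GolayPt → ℤ) (x : GolayPt → ℤ) = 16} ∧
      dotInt (x : GolayPt → ℤ) (y : GolayPt → ℤ) = 16} ↔ g₁ • y ∈ XSet u43bconds := by
    intro y
    rw [show u43bconds = [(u0L, 24), (aML, 16), (xML, 16)] from rfl, xset_three,
      dot_smul_of_eq e3']
    constructor
    · rintro ⟨a, d⟩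
      obtain ⟨a1, a2, a3⟩ := (hXiff g₁ e1 e2 y).mp a
      exact ⟨a1, a2, a3, d⟩
    · rintro ⟨a1, a2, a3, d⟩
      exact ⟨(hXiff g₁ e1 e2 y).mpr ⟨a1, a2, a3⟩, d⟩
  obtain ⟨n8, t8⟩ := xset_trans u43a_main g₁ hS8
  obtain ⟨n16, t16⟩ := xset_trans u43b_main g₁ hS16
  obtain ⟨nX, -⟩ := mcl_orbit u v hu hv
  have hxx : dotInt (x : GolayPt → ℤ) (x : GolayPt → ℤ) = 32 := by
    rw [dotInt_self]
    exact hx.1
  have hpart := part_of_card nX n8 n16 (by norm_num) (fun y hy => hy.1) (fun y hy => hy.1) hx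
    (Set.disjoint_left.mpr (fun y h1 h2 => by
      have a := h1.2
      have b := h2.2
      omega))
    (fun h => by
      have a := h.2
      omega)
    (fun h => by
      have a := h.2
      omega)
  have hset : {y : leechLattice | y ∈ {x : leechLattice | sqNorm (x : GolayPt → ℤ) = 32 ∧
        sqNorm ((u - x) : GolayPt → ℤ) = 32 ∧
        dotInt (v : GolayPt → ℤ) (x : GolayPt → ℤ) = 16} ∧ y ≠ x ∧
        dotInt (x : GolayPt → ℤ) (y : GolayPt → ℤ) = 16} =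
      {y : leechLattice | y ∈ {x : leechLattice | sqNorm (x : GolayPt → ℤ) = 32 ∧
        sqNorm ((u - x) : GolayPt → ℤ) = 32 ∧
        dotInt (v : GolayPt → ℤ) (x : GolayPt → ℤ) = 16} ∧
        dotInt (x : GolayPt → ℤ) (y : GolayPt → ℤ) = 16} := by
    ext y
    constructor
    · rintro ⟨hy, -, hd⟩
      exact ⟨hy, hd⟩
    · rintro ⟨hy, hd⟩
      refine ⟨hy, fun h => ?_, hd⟩
      rw [h] at hd
      omega
  refine ⟨n8, hset ▸ n16, fun y hy y' hy' hne hne' heq => ?_⟩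
  have mu : u0L ∈ u43aB := List.mem_cons_self
  have ma : aML ∈ u43aB := List.mem_cons_of_mem _ List.mem_cons_self
  have mx : xML ∈ u43aB := List.mem_cons_of_mem _ (List.mem_cons_of_mem _ List.mem_cons_self)
  rcases hpart y hy with h | h | h
  · exact absurd h hne
  · have h' : y' ∈ {y : leechLattice | y ∈ {x : leechLattice |
        sqNorm (x : GolayPt → ℤ) = 32 ∧ sqNorm ((u - x) : GolayPt → ℤ) = 32 ∧
        dotInt (v : GolayPt → ℤ) (x : GolayPt → ℤ) = 16} ∧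
        dotInt (x : GolayPt → ℤ) (y : GolayPt → ℤ) = 8} := ⟨hy', heq ▸ h.2⟩
    obtain ⟨k', hk', e⟩ := t8 y h y' h'
    exact ⟨g₁⁻¹ * k' * g₁, fix_conj hk' mu e1, fix_conj hk' ma e2, fix_conj hk' mx e3', e⟩
  · have h' : y' ∈ {y : leechLattice | y ∈ {x : leechLattice |
        sqNorm (x : GolayPt → ℤ) = 32 ∧ sqNorm ((u - x) : GolayPt → ℤ) = 32 ∧
        dotInt (v : GolayPt → ℤ) (x : GolayPt → ℤ) = 16} ∧
        dotInt (x : GolayPt → ℤ) (y : GolayPt → ℤ) = 16} := ⟨hy', heq ▸ h.2⟩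
    obtain ⟨k', hk', e⟩ := t16 y h y' h'
    exact ⟨g₁⁻¹ * k' * g₁, fix_conj hk' mu e1, fix_conj hk' ma e2, fix_conj hk' mx e3', e⟩

end Cfsg.Agent.Lib.Helper92
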