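import Cfsg.Agent.Lib.Helper92.LeechTransCo

set_option autoImplicit false

open scoped Pointwise

namespace Cfsg.Agent.Lib.Helper92

open Cfsg Cfsg.Spor Cfsg.Agent.Lib.Helper7

/-! ### Transitivity on pairs of minimal vectors with a given inner product -/

theorem co0_smul_def (g : Co0) (v : leechLattice) : g • v = g.1 v := rfl

theorem co0_smul_add (g : Co0) (v w : leechLattice) : g • (v + w) = g • v + g • w :=
  co0_map_add g.2 v w

theorem co0_smul_sqNorm (g : Co0) (v : leechLattice) :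
    sqNorm ((g • v : leechLattice) : GolayPt → ℤ) = sqNorm (v : GolayPt → ℤ) :=
  co0_sqNorm g.2 v

theorem co0_smul_dotInt (g : Co0) (v w : leechLattice) :
    dotInt ((g • v : leechLattice) : GolayPt → ℤ) ((g • w : leechLattice) : GolayPt → ℤ) =
      dotInt (v : GolayPt → ℤ) (w : GolayPt → ℤ) :=
  co0_dotInt g.2 v w

theorem pair_transfer {d : ℤ}
    (H : ∀ {x x' : GolayPt → ℤ}, x ∈ leechLattice → sqNorm x = 32 → dotInt vecU x = d →
      x' ∈ leechLattice → sqNorm x' = 32 → dotInt vecU x' = d → SRel x x')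
    (v w v' w' : leechLattice) (hv : sqNorm (v : GolayPt → ℤ) = 32)
    (hw : sqNorm (w : GolayPt → ℤ) = 32) (hv' : sqNorm (v' : GolayPt → ℤ) = 32)
    (hw' : sqNorm (w' : GolayPt → ℤ) = 32)
    (hd : dotInt (v : GolayPt → ℤ) (w : GolayPt → ℤ) = d)
    (hd' : dotInt (v' : GolayPt → ℤ) (w' : GolayPt → ℤ) = d) :
    ∃ g : Co0, g • v = v' ∧ g • w = w' := by
  obtain ⟨g₁, hg₁⟩ := co0_trans_min v v' hv hv'
  have h1 : sqNorm ((g₁ • w : leechLattice) : GolayPt → ℤ) = 32 := by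
    rw [co0_smul_sqNorm]; exact hw
  have h2 : dotInt (v' : GolayPt → ℤ) ((g₁ • w : leechLattice) : GolayPt → ℤ) = d := by
    rw [← hg₁, co0_smul_dotInt]; exact hd
  obtain ⟨g₂, hg₂, hg₂'⟩ := stab_transfer H v' (g₁ • w) w' hv' h1 hw' h2 hd'
  refine ⟨g₂ * g₁, ?_, ?_⟩
  · rw [mul_smul, hg₁, hg₂]
  · rw [mul_smul, hg₂']

theorem dot_of_norms {v w : GolayPt → ℤ} {a b c : ℤ} (hv : sqNorm v = a) (hw : sqNorm w = b)
    (hs : sqNorm (v + w) = c) : 2 * dotInt v w = c - a - b := by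
  rw [sqNorm_add] at hs
  omega

end Cfsg.Agent.Lib.Helper92
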