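import Cfsg.Agent.Lib.Helper92.LeechOrbUse
import Cfsg.Agent.Lib.Helper92.LeechFuse
import Cfsg.Agent.Lib.Helper92.LeechPairs
import Cfsg.Agent.Lib.Helper92.OrbMcLb
import Cfsg.Agent.Lib.Helper92.OrbM22pa
import Cfsg.Agent.Lib.Helper92.OrbM22pb
import Cfsg.Agent.Lib.Helper92.OrbM22pc

set_option autoImplicit false

open scoped Pointwise

namespace Cfsg.Agent.Lib.Helper92

open Cfsg Cfsg.Spor Cfsg.Agent.Lib.Helper7

/-! ### The stabiliser of two minimal vectors with inner product `-8` on `2025` vectors -/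

/-- The first standard vector. -/
def bNL : List ℤ := [-3, 1, 1, 1, 1, 1, 1, 1, 1, 1, 1, 1, 1, 1, 1, 1, 1, 1, 1, 1, 1, 1, 1, 1]

/-- The second standard vector. -/
def aNL : List ℤ := [4, 0, 0, 0, 0, 0, 0, 0, 0, 0, 0, 0, 0, 0, 0, 0, 0, 0, 0, 0, 0, 0, 0, 4]

/-- The standard point. -/
def yNL : List ℤ := [0, -4, 0, 0, 0, 0, 0, 0, 0, 0, 0, 0, 0, 0, 0, 0, 0, 0, 0, 0, 0, 0, 0, 4]

theorem bNL_mem : vecOf bNL ∈ leechLattice := leechB_sound (by decide +kernel)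

theorem aNL_mem : vecOf aNL ∈ leechLattice := leechB_sound (by decide +kernel)

theorem exists_to_ba (v w : leechLattice) (hv : sqNorm (v : GolayPt → ℤ) = 32)
    (hw : sqNorm (w : GolayPt → ℤ) = 32)
    (hvw : dotInt (v : GolayPt → ℤ) (w : GolayPt → ℤ) = -8) :
    ∃ g₀ : Co0, ((g₀ • v : leechLattice) : GolayPt → ℤ) = vecOf bNL ∧
      ((g₀ • w : leechLattice) : GolayPt → ℤ) = vecOf aNL := by
  have h1 : sqNorm (vecOf bNL) = 32 := by
    rw [sqNorm_vecOf_dotL (by decide)]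
    decide +kernel
  have h2 : sqNorm (vecOf aNL) = 32 := by
    rw [sqNorm_vecOf_dotL (by decide)]
    decide +kernel
  have h3 : dotInt (vecOf bNL) (vecOf aNL) = -8 := by
    rw [dotL_vecOf (by decide) (by decide)]
    decide +kernel
  obtain ⟨g₀, e1, e2⟩ := pair_transfer trans8 v w ⟨vecOf bNL, bNL_mem⟩ ⟨vecOf aNL, aNL_mem⟩ hv hw
    h1 h2 hvw h3
  exact ⟨g₀, congrArg Subtype.val e1, congrArg Subtype.val e2⟩

theorem m22p_aux {v w x : leechLattice} {g₁ : Co0}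
    (e1 : ((g₁ • v : leechLattice) : GolayPt → ℤ) = vecOf bNL)
    (e2 : ((g₁ • w : leechLattice) : GolayPt → ℤ) = vecOf aNL)
    (e3 : ((g₁ • x : leechLattice) : GolayPt → ℤ) = vecOf yNL)
    {B : List (List ℤ)} {x0 : List ℤ} {N : ℕ} (d : ℤ)
    (hmain : (∀ y ∈ XSet [(bNL, 0), (aNL, 16), (yNL, d)], ∃ g : Co0, FixB B g ∧
      ∃ h0 : vecOf x0 ∈ leechLattice, g • (⟨vecOf x0, h0⟩ : leechLattice) = y) ∧
      (XSet [(bNL, 0), (aNL, 16), (yNL, d)]).ncard = N)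
    (mb : bNL ∈ B) (ma : aNL ∈ B) (my : yNL ∈ B) :
    {y : leechLattice | y ∈ {x : leechLattice | sqNorm (x : GolayPt → ℤ) = 32 ∧
        dotInt (v : GolayPt → ℤ) (x : GolayPt → ℤ) = 0 ∧
        dotInt (w : GolayPt → ℤ) (x : GolayPt → ℤ) = 16} ∧
        dotInt (x : GolayPt → ℤ) (y : GolayPt → ℤ) = d}.ncard = N ∧
    ∀ y ∈ {y : leechLattice | y ∈ {x : leechLattice | sqNorm (x : GolayPt → ℤ) = 32 ∧
        dotInt (v : GolayPt → ℤ) (x : GolayPt → ℤ) = 0 ∧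
        dotInt (w : GolayPt → ℤ) (x : GolayPt → ℤ) = 16} ∧
        dotInt (x : GolayPt → ℤ) (y : GolayPt → ℤ) = d},
      MulAction.orbit ↥(MulAction.stabilizer ↥Co0 v ⊓ MulAction.stabilizer ↥Co0 w ⊓
        MulAction.stabilizer ↥Co0 x) y =
        {y : leechLattice | y ∈ {x : leechLattice | sqNorm (x : GolayPt → ℤ) = 32 ∧
          dotInt (v : GolayPt → ℤ) (x : GolayPt → ℤ) = 0 ∧
          dotInt (w : GolayPt → ℤ) (x : GolayPt → ℤ) = 16} ∧
          dotInt (x : GolayPt → ℤ) (y : GolayPt → ℤ) = d} := by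
  have hS : ∀ y : leechLattice, y ∈ {y : leechLattice | y ∈ {x : leechLattice |
      sqNorm (x : GolayPt → ℤ) = 32 ∧ dotInt (v : GolayPt → ℤ) (x : GolayPt → ℤ) = 0 ∧
      dotInt (w : GolayPt → ℤ) (x : GolayPt → ℤ) = 16} ∧
      dotInt (x : GolayPt → ℤ) (y : GolayPt → ℤ) = d} ↔
      g₁ • y ∈ XSet [(bNL, 0), (aNL, 16), (yNL, d)] := by
    intro y
    rw [xset_three, dot_smul_of_eq e1, dot_smul_of_eq e2, dot_smul_of_eq e3, co0_smul_sqNorm]
    constructor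
    · rintro ⟨⟨a, b, c⟩, d'⟩
      exact ⟨a, b, c, d'⟩
    · rintro ⟨a, b, c, d'⟩
      exact ⟨⟨a, b, c⟩, d'⟩
  obtain ⟨n, t⟩ := xset_trans hmain g₁ hS
  refine ⟨n, fun y hy => orbit3_eq ?_ ?_ hy⟩
  · rintro g h1 h2 h3 z ⟨⟨a, b, c⟩, d'⟩
    refine ⟨⟨?_, ?_, ?_⟩, ?_⟩
    · rw [co0_smul_sqNorm]
      exact a
    · have := co0_smul_dotInt g v z
      rw [h1] at this
      exact this.trans b
    · have := co0_smul_dotInt g w z
      rw [h2] at this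
      exact this.trans c
    · have := co0_smul_dotInt g x z
      rw [h3] at this
      exact this.trans d'
  · intro z hz z' hz'
    obtain ⟨k, hk, e⟩ := t z hz z' hz'
    exact ⟨g₁⁻¹ * k * g₁, fix_conj hk mb e1, fix_conj hk ma e2, fix_conj hk my e3, e⟩

/-- The stabiliser of two minimal vectors with inner product `-8` is transitive on the `2025`
minimal vectors with inner products `0` and `16` with them, and the stabiliser of one of these
has orbits of lengths `330`, `462` and `1232` on them. -/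
theorem mcl_2025 (v w : leechLattice) (hv : sqNorm (v : GolayPt → ℤ) = 32)
    (hw : sqNorm (w : GolayPt → ℤ) = 32)
    (hvw : dotInt (v : GolayPt → ℤ) (w : GolayPt → ℤ) = -8) :
    {x : leechLattice | sqNorm (x : GolayPt → ℤ) = 32 ∧
        dotInt (v : GolayPt → ℤ) (x : GolayPt → ℤ) = 0 ∧
        dotInt (w : GolayPt → ℤ) (x : GolayPt → ℤ) = 16}.ncard = 2025 ∧
    (∀ x ∈ {x : leechLattice | sqNorm (x : GolayPt → ℤ) = 32 ∧
        dotInt (v : GolayPt → ℤ) (x : GolayPt → ℤ) = 0 ∧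
        dotInt (w : GolayPt → ℤ) (x : GolayPt → ℤ) = 16},
      ∀ x' ∈ {x : leechLattice | sqNorm (x : GolayPt → ℤ) = 32 ∧
        dotInt (v : GolayPt → ℤ) (x : GolayPt → ℤ) = 0 ∧
        dotInt (w : GolayPt → ℤ) (x : GolayPt → ℤ) = 16},
      ∃ g : Co0, g • v = v ∧ g • w = w ∧ g • x = x') ∧
    ∀ x ∈ {x : leechLattice | sqNorm (x : GolayPt → ℤ) = 32 ∧
        dotInt (v : GolayPt → ℤ) (x : GolayPt → ℤ) = 0 ∧
        dotInt (w : GolayPt → ℤ) (x : GolayPt → ℤ) = 16},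
      ∃ y₁ ∈ {x : leechLattice | sqNorm (x : GolayPt → ℤ) = 32 ∧
        dotInt (v : GolayPt → ℤ) (x : GolayPt → ℤ) = 0 ∧
        dotInt (w : GolayPt → ℤ) (x : GolayPt → ℤ) = 16},
      ∃ y₂ ∈ {x : leechLattice | sqNorm (x : GolayPt → ℤ) = 32 ∧
        dotInt (v : GolayPt → ℤ) (x : GolayPt → ℤ) = 0 ∧
        dotInt (w : GolayPt → ℤ) (x : GolayPt → ℤ) = 16},
      ∃ y₃ ∈ {x : leechLattice | sqNorm (x : GolayPt → ℤ) = 32 ∧
        dotInt (v : GolayPt → ℤ) (x : GolayPt → ℤ) = 0 ∧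
        dotInt (w : GolayPt → ℤ) (x : GolayPt → ℤ) = 16},
      (MulAction.orbit ↥(MulAction.stabilizer ↥Co0 v ⊓ MulAction.stabilizer ↥Co0 w ⊓
        MulAction.stabilizer ↥Co0 x) y₁).ncard = 330 ∧
      (MulAction.orbit ↥(MulAction.stabilizer ↥Co0 v ⊓ MulAction.stabilizer ↥Co0 w ⊓
        MulAction.stabilizer ↥Co0 x) y₂).ncard = 462 ∧
      (MulAction.orbit ↥(MulAction.stabilizer ↥Co0 v ⊓ MulAction.stabilizer ↥Co0 w ⊓
        MulAction.stabilizer ↥Co0 x) y₃).ncard = 1232 := by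
  obtain ⟨g₀, hg1, hg2⟩ := exists_to_ba v w hv hw hvw
  have hS : ∀ x : leechLattice, x ∈ {x : leechLattice | sqNorm (x : GolayPt → ℤ) = 32 ∧
      dotInt (v : GolayPt → ℤ) (x : GolayPt → ℤ) = 0 ∧
      dotInt (w : GolayPt → ℤ) (x : GolayPt → ℤ) = 16} ↔ g₀ • x ∈ XSet mclbconds := by
    intro x
    rw [show mclbconds = [(bNL, 0), (aNL, 16)] from rfl, xset_two, dot_smul_of_eq hg1,
      dot_smul_of_eq hg2, co0_smul_sqNorm]
    exact Iff.rfl
  obtain ⟨h1, h2⟩ := xset_trans mclb_main g₀ hS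
  have mb0 : bNL ∈ mclbB := List.mem_cons_self
  have ma0 : aNL ∈ mclbB := List.mem_cons_of_mem _ List.mem_cons_self
  refine ⟨h1, fun x hx x' hx' => ?_, fun x hx => ?_⟩
  · obtain ⟨k, hk, e⟩ := h2 x hx x' hx'
    exact ⟨g₀⁻¹ * k * g₀, fix_conj hk mb0 hg1, fix_conj hk ma0 hg2, e⟩
  · obtain ⟨k, hk, e3⟩ := to_std mclb_main g₀ x ((hS x).mp hx)
    have e1 := fix_inv_mul hk mb0 hg1
    have e2 := fix_inv_mul hk ma0 hg2
    generalize k⁻¹ * g₀ = g₁ at e1 e2 e3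
    have e3' : ((g₁ • x : leechLattice) : GolayPt → ℤ) = vecOf yNL := e3
    obtain ⟨n1, o1⟩ := m22p_aux e1 e2 e3' 0 m22pa_main (B := m22paB) List.mem_cons_self
      (List.mem_cons_of_mem _ List.mem_cons_self)
      (List.mem_cons_of_mem _ (List.mem_cons_of_mem _ List.mem_cons_self))
    obtain ⟨n2, o2⟩ := m22p_aux e1 e2 e3' 16 m22pb_main (B := m22pbB) List.mem_cons_self
      (List.mem_cons_of_mem _ List.mem_cons_self)
      (List.mem_cons_of_mem _ (List.mem_cons_of_mem _ List.mem_cons_self))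
    obtain ⟨n3, o3⟩ := m22p_aux e1 e2 e3' 8 m22pc_main (B := m22pcB) List.mem_cons_self
      (List.mem_cons_of_mem _ List.mem_cons_self)
      (List.mem_cons_of_mem _ (List.mem_cons_of_mem _ List.mem_cons_self))
    obtain ⟨y₁, hy₁⟩ := Set.nonempty_of_ncard_ne_zero (by rw [n1]; norm_num)
    obtain ⟨y₂, hy₂⟩ := Set.nonempty_of_ncard_ne_zero (by rw [n2]; norm_num)
    obtain ⟨y₃, hy₃⟩ := Set.nonempty_of_ncard_ne_zero (by rw [n3]; norm_num)
    refine ⟨y₁, hy₁.1, y₂, hy₂.1, y₃, hy₃.1, ?_, ?_, ?_⟩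
    · rw [o1 y₁ hy₁, n1]
    · rw [o2 y₂ hy₂, n2]
    · rw [o3 y₃ hy₃, n3]

end Cfsg.Agent.Lib.Helper92
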