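import Cfsg.Agent.Lib.Helper92.LeechList

set_option autoImplicit false

namespace Cfsg.Agent.Lib.Helper92

open Cfsg Cfsg.Agent.Lib.Helper7

/-! ### A lattice automorphism that is not monomial

The 24 points are divided into six tetrads (a sextet).  The map `etaVec` reflects each tetrad
block in the hyperplane orthogonal to its all-ones vector; `epsVec` changes the signs on the
first tetrad. -/

/-- The number of the tetrad containing the point of a given index. -/
def tetTab : List ℕ := [0, 0, 0, 2, 1, 2, 3, 3, 5, 4, 4, 5, 5, 1, 2, 4, 1, 2, 5, 3, 4, 3, 1, 0]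

/-- The number of the tetrad containing a point. -/
def tet (p : GolayPt) : ℕ := tetTab.getD (idx p) 0

/-- The sum of the coordinates over a tetrad. -/
def tsum (x : GolayPt → ℤ) (k : ℕ) : ℤ := ∑ i, if tet i = k then x i else 0

/-- The signs: `-1` on the first tetrad. -/
def sg (p : GolayPt) : ℤ := if tet p = 0 then -1 else 1

/-- Reflection of each tetrad block. -/
def etaVec (x : GolayPt → ℤ) : GolayPt → ℤ := fun p => x p - tsum x (tet p) / 2

/-- Sign change on the first tetrad. -/
def epsVec (x : GolayPt → ℤ) : GolayPt → ℤ := fun p => sg p * x p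

/-- The automorphism, on vectors. -/
def xiVec (x : GolayPt → ℤ) : GolayPt → ℤ := epsVec (etaVec x)

/-- The inverse automorphism, on vectors. -/
def xiInv (x : GolayPt → ℤ) : GolayPt → ℤ := etaVec (epsVec x)

/-- All tetrad sums are even. -/
def TE (x : GolayPt → ℤ) : Prop := ∀ k, 2 ∣ tsum x k

theorem tet_pt {j : ℕ} (hj : j < 24) : tet (pt j) = tetTab.getD j 0 := by
  unfold tet
  rw [idx_pt hj]

theorem tet_lt (p : GolayPt) : tet p < 6 := by
  have h : ∀ j < 24, tetTab.getD j 0 < 6 := by decide
  exact h _ (idx_lt p)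

/-- The number of points of a tetrad. -/
def tcnt (k : ℕ) : ℤ := if k < 6 then 4 else 0

theorem tsum_const (c : ℤ) (k : ℕ) : (∑ i, if tet i = k then c else 0) = c * tcnt k := by
  unfold tcnt
  by_cases hk : k < 6
  · rw [if_pos hk, sum_pt]
    have h : ∀ k < 6, ((List.range 24).map (fun j => if tetTab.getD j 0 = k then (1 : ℤ) else 0)).sum
        = 4 := by decide
    have e : ((List.range 24).map (fun j => if tet (pt j) = k then c else 0)) =
        ((List.range 24).map (fun j => c * if tetTab.getD j 0 = k then (1 : ℤ) else 0)) := by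
      apply List.map_congr_left
      intro j hj
      rw [tet_pt (List.mem_range.mp hj)]
      split_ifs <;> simp
    rw [e, List.sum_map_mul_left, h k hk]
  · rw [if_neg hk, mul_zero]
    apply Finset.sum_eq_zero
    intro i _
    rw [if_neg]
    have := tet_lt i
    omega

theorem tsum_add (x y : GolayPt → ℤ) (k : ℕ) : tsum (x + y) k = tsum x k + tsum y k := by
  unfold tsum
  rw [← Finset.sum_add_distrib]
  refine Finset.sum_congr rfl (fun i _ => ?_)
  split_ifs <;> simp

theorem tsum_neg (x : GolayPt → ℤ) (k : ℕ) : tsum (-x) k = -tsum x k := by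
  unfold tsum
  rw [← Finset.sum_neg_distrib]
  refine Finset.sum_congr rfl (fun i _ => ?_)
  split_ifs <;> simp

theorem tsum_zero (k : ℕ) : tsum 0 k = 0 := by
  unfold tsum
  simp

theorem tsum_eq_zero_of_ge (x : GolayPt → ℤ) {k : ℕ} (hk : ¬ k < 6) : tsum x k = 0 := by
  unfold tsum
  apply Finset.sum_eq_zero
  intro i _
  rw [if_neg]
  have := tet_lt i
  omega

theorem tsum_eta (x : GolayPt → ℤ) (hx : TE x) (k : ℕ) : tsum (etaVec x) k = -tsum x k := by
  have h1 : tsum (etaVec x) k = tsum x k - (tsum x k / 2) * tcnt k := by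
    unfold tsum etaVec
    rw [← tsum_const, ← Finset.sum_sub_distrib]
    refine Finset.sum_congr rfl (fun i _ => ?_)
    by_cases h : tet i = k
    · rw [if_pos h, if_pos h, if_pos h, h]
      rfl
    · rw [if_neg h, if_neg h, if_neg h, sub_zero]
  rw [h1]
  unfold tcnt
  by_cases hk : k < 6
  · rw [if_pos hk]
    obtain ⟨h, hh⟩ := hx k
    rw [hh]
    omega
  · rw [if_neg hk, tsum_eq_zero_of_ge x hk]
    simp

theorem TE_eta {x : GolayPt → ℤ} (hx : TE x) : TE (etaVec x) := by
  intro k
  rw [tsum_eta x hx k]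
  exact (dvd_neg).mpr (hx k)

theorem eta_eta {x : GolayPt → ℤ} (hx : TE x) : etaVec (etaVec x) = x := by
  funext p
  show etaVec x p - tsum (etaVec x) (tet p) / 2 = x p
  rw [tsum_eta x hx]
  show x p - tsum x (tet p) / 2 - -tsum x (tet p) / 2 = x p
  obtain ⟨h, hh⟩ := hx (tet p)
  rw [hh]
  omega

theorem tsum_eps (x : GolayPt → ℤ) (k : ℕ) :
    tsum (epsVec x) k = (if k = 0 then -1 else 1) * tsum x k := by
  unfold tsum epsVec sg
  rw [Finset.mul_sum]
  refine Finset.sum_congr rfl (fun i _ => ?_)
  by_cases h : tet i = k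
  · rw [if_pos h, if_pos h, h]
  · rw [if_neg h, if_neg h, mul_zero]

theorem TE_eps {x : GolayPt → ℤ} (hx : TE x) : TE (epsVec x) := by
  intro k
  rw [tsum_eps]
  exact Dvd.dvd.mul_left (hx k) _

theorem eps_eps (x : GolayPt → ℤ) : epsVec (epsVec x) = x := by
  funext p
  unfold epsVec sg
  split_ifs <;> ring

theorem sqNorm_eps (x : GolayPt → ℤ) : sqNorm (epsVec x) = sqNorm x := by
  unfold sqNorm epsVec sg
  refine Finset.sum_congr rfl (fun i _ => ?_)
  split_ifs <;> ring

theorem sqNorm_eta {x : GolayPt → ℤ} (hx : TE x) : sqNorm (etaVec x) = sqNorm x := by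
  classical
  have hd : sqNorm (etaVec x) - sqNorm x =
      ∑ p, ((tsum x (tet p) / 2) ^ 2 - 2 * x p * (tsum x (tet p) / 2)) := by
    unfold sqNorm etaVec
    rw [← Finset.sum_sub_distrib]
    refine Finset.sum_congr rfl (fun p _ => ?_)
    ring
  have hz : ∑ p, ((tsum x (tet p) / 2) ^ 2 - 2 * x p * (tsum x (tet p) / 2)) = 0 := by
    rw [← Finset.sum_fiberwise_of_maps_to (g := tet) (t := Finset.range 6)
      (fun p _ => Finset.mem_range.mpr (tet_lt p))]
    apply Finset.sum_eq_zero
    intro k hk
    have hk6 : k < 6 := Finset.mem_range.mp hk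
    have e1 : ∑ p ∈ Finset.univ.filter (fun p => tet p = k),
        ((tsum x (tet p) / 2) ^ 2 - 2 * x p * (tsum x (tet p) / 2)) =
        ∑ p ∈ Finset.univ.filter (fun p => tet p = k),
        ((tsum x k / 2) ^ 2 - 2 * x p * (tsum x k / 2)) := by
      refine Finset.sum_congr rfl (fun p hp => ?_)
      rw [(Finset.mem_filter.mp hp).2]
    rw [e1, Finset.sum_sub_distrib, Finset.sum_filter, Finset.sum_filter, tsum_const]
    have e2 : (∑ p, if tet p = k then 2 * x p * (tsum x k / 2) else 0) =
        2 * (tsum x k / 2) * tsum x k := by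
      unfold tsum
      rw [Finset.mul_sum]
      refine Finset.sum_congr rfl (fun p _ => ?_)
      split_ifs <;> ring
    rw [e2]
    unfold tcnt
    rw [if_pos hk6]
    obtain ⟨h, hh⟩ := hx k
    rw [hh]
    have : 2 * h / 2 = h := by omega
    rw [this]
    ring
  rw [hz] at hd
  linarith

theorem eta_add {x y : GolayPt → ℤ} (hx : TE x) (_hy : TE y) :
    etaVec (x + y) = etaVec x + etaVec y := by
  funext p
  show (x + y) p - tsum (x + y) (tet p) / 2 = (x p - tsum x (tet p) / 2) + (y p - tsum y (tet p) / 2)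
  rw [tsum_add, Int.add_ediv_of_dvd_left (hx (tet p))]
  simp only [Pi.add_apply]
  ring

theorem eps_add (x y : GolayPt → ℤ) : epsVec (x + y) = epsVec x + epsVec y := by
  funext p
  simp only [epsVec, Pi.add_apply]
  ring

theorem TE_add {x y : GolayPt → ℤ} (hx : TE x) (hy : TE y) : TE (x + y) := by
  intro k
  rw [tsum_add]
  exact dvd_add (hx k) (hy k)

theorem TE_neg {x : GolayPt → ℤ} (hx : TE x) : TE (-x) := by
  intro k
  rw [tsum_neg]
  exact (dvd_neg).mpr (hx k)

theorem eta_neg {x : GolayPt → ℤ} (hx : TE x) : etaVec (-x) = -etaVec x := by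
  funext p
  show (-x) p - tsum (-x) (tet p) / 2 = -(x p - tsum x (tet p) / 2)
  rw [tsum_neg]
  obtain ⟨h, hh⟩ := hx (tet p)
  rw [hh]
  simp only [Pi.neg_apply]
  omega

theorem eps_neg (x : GolayPt → ℤ) : epsVec (-x) = -epsVec x := by
  funext p
  simp only [epsVec, Pi.neg_apply]
  ring

theorem eta_zero : etaVec 0 = 0 := by
  funext p
  show (0 : GolayPt → ℤ) p - tsum 0 (tet p) / 2 = 0
  rw [tsum_zero]
  simp

theorem eps_zero : epsVec 0 = 0 := by
  funext p
  simp [epsVec]

theorem TE_of_mem {x : GolayPt → ℤ} (hx : x ∈ leechLattice) : TE x := by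
  obtain ⟨m, h2, -, -⟩ := (mem_leechLattice_iff x).mp hx
  intro k
  have e : tsum x k = (∑ i, if tet i = k then (x i - m) else 0) + m * tcnt k := by
    rw [← tsum_const, ← Finset.sum_add_distrib]
    unfold tsum
    refine Finset.sum_congr rfl (fun i _ => ?_)
    split_ifs <;> ring
  rw [e]
  apply dvd_add
  · apply Finset.dvd_sum
    intro i _
    split_ifs
    · have := h2 i
      unfold Int.ModEq at this
      omega
    · exact dvd_zero _
  · unfold tcnt
    split_ifs
    · exact Dvd.dvd.mul_left (by norm_num) _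
    · rw [mul_zero]; exact dvd_zero _

/-! ### The automorphism on lists -/

/-- Tetrad sums of a list. -/
def tsumL (l : List ℤ) (k : ℕ) : ℤ :=
  ((List.range 24).map (fun j => if tetTab.getD j 0 = k then l.getD j 0 else 0)).sum

theorem tsum_vecOf (l : List ℤ) (k : ℕ) : tsum (vecOf l) k = tsumL l k := by
  unfold tsum tsumL
  rw [sum_pt]
  exact congrArg List.sum (List.map_congr_left (fun j hj => by
    rw [tet_pt (List.mem_range.mp hj), vecOf_pt l (List.mem_range.mp hj)]))

/-- `etaVec` on lists. -/
def etaL (l : List ℤ) : List ℤ :=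
  (List.range 24).map (fun j => l.getD j 0 - tsumL l (tetTab.getD j 0) / 2)

/-- `epsVec` on lists. -/
def epsL (l : List ℤ) : List ℤ :=
  (List.range 24).map (fun j => (if tetTab.getD j 0 = 0 then -1 else 1) * l.getD j 0)

theorem etaVec_vecOf (l : List ℤ) : etaVec (vecOf l) = vecOf (etaL l) := by
  funext p
  unfold etaL
  rw [vecOf_map]
  show vecOf l p - tsum (vecOf l) (tet p) / 2 = _
  rw [tsum_vecOf]
  rfl

theorem epsVec_vecOf (l : List ℤ) : epsVec (vecOf l) = vecOf (epsL l) := by
  funext p
  unfold epsL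
  rw [vecOf_map]
  rfl

/-- `xiVec` on lists. -/
def xiL (l : List ℤ) : List ℤ := epsL (etaL l)

/-- `xiInv` on lists. -/
def xiInvL (l : List ℤ) : List ℤ := etaL (epsL l)

theorem xiVec_vecOf (l : List ℤ) : xiVec (vecOf l) = vecOf (xiL l) := by
  unfold xiVec xiL
  rw [etaVec_vecOf, epsVec_vecOf]

theorem xiInv_vecOf (l : List ℤ) : xiInv (vecOf l) = vecOf (xiInvL l) := by
  unfold xiInv xiInvL
  rw [epsVec_vecOf, etaVec_vecOf]

/-! ### The generators as lists, and membership -/

/-- Twice the indicator of a bitmask, as a list. -/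
def maskVec (m : ℕ) : List ℤ := (List.range 24).map (fun j => if m.testBit j then 2 else 0)

theorem twoInd_wordOf (m : ℕ) : twoInd (wordOf m) = vecOf (maskVec m) := by
  funext p
  unfold maskVec
  rw [vecOf_map]
  unfold twoInd wordOf
  by_cases h : m.testBit (idx p) = true
  · simp [h]
  · simp [h]

/-- `vecFourDiff`, as a list. -/
def fourDiffL (i : ℕ) : List ℤ :=
  (List.range 24).map (fun j => if j = i then 4 else if j = 23 then -4 else 0)

theorem vecFourDiff_eq (a : ZMod 23) : vecFourDiff a = vecOf (fourDiffL a.val) := by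
  funext p
  unfold fourDiffL
  rw [vecOf_map]
  unfold vecFourDiff
  have ha := ZMod.val_lt a
  cases p with
  | none =>
    have e : idx (none : GolayPt) = 23 := rfl
    rw [e, if_neg (by simp), if_pos rfl, if_neg (by omega), if_pos rfl]
  | some b =>
    have e : idx (some b : GolayPt) = b.val := rfl
    have hb := ZMod.val_lt b
    rw [e]
    by_cases hab : b = a
    · subst hab
      rw [if_pos rfl, if_pos rfl]
    · have hne : b.val ≠ a.val := fun h => hab (ZMod.val_injective 23 h)
      rw [if_neg (by simpa using hab), if_neg (by simp), if_neg hne, if_neg (by omega)]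

/-- `vecEight none`, as a list. -/
def eightL : List ℤ := (List.range 24).map (fun j => if j = 23 then 8 else 0)

theorem vecEight_none_eq : vecEight none = vecOf eightL := by
  funext p
  unfold eightL
  rw [vecOf_map]
  unfold vecEight
  cases p with
  | none =>
    have e : idx (none : GolayPt) = 23 := rfl
    rw [e, if_pos rfl, if_pos rfl]
  | some b =>
    have e : idx (some b : GolayPt) = b.val := rfl
    have hb := ZMod.val_lt b
    rw [e, if_neg (by simp), if_neg (by omega)]

/-- `vecThree`, as a list. -/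
def threeL : List ℤ := (List.range 24).map (fun j => if j = 23 then -3 else 1)

theorem vecThree_eq : vecThree = vecOf threeL := by
  funext p
  unfold threeL
  rw [vecOf_map]
  unfold vecThree
  cases p with
  | none =>
    have e : idx (none : GolayPt) = 23 := rfl
    rw [e, if_pos rfl, if_pos rfl]
  | some b =>
    have e : idx (some b : GolayPt) = b.val := rfl
    have hb := ZMod.val_lt b
    rw [e, if_neg (by simp), if_neg (by omega)]

/-- The check for one generator. -/
def xiChk (l : List ℤ) : Bool := leechB l && leechB (xiL l) && leechB (xiInvL l)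

theorem xiChk_sound {l : List ℤ} (h : xiChk l = true) :
    vecOf l ∈ leechLattice ∧ xiVec (vecOf l) ∈ leechLattice ∧ xiInv (vecOf l) ∈ leechLattice := by
  unfold xiChk at h
  rw [Bool.and_eq_true, Bool.and_eq_true] at h
  obtain ⟨⟨h1, h2⟩, h3⟩ := h
  rw [xiVec_vecOf, xiInv_vecOf]
  exact ⟨leechB_sound h1, leechB_sound h2, leechB_sound h3⟩

set_option maxRecDepth 100000 in
theorem xiChk_qr : (List.range 23).all (fun i => xiChk (maskVec (qrMasks.getD i 0))) = true := by
  decide +kernel

set_option maxRecDepth 100000 in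
theorem xiChk_four : (List.range 23).all (fun i => xiChk (fourDiffL i)) = true := by
  decide +kernel

set_option maxRecDepth 100000 in
theorem xiChk_rest : xiChk (maskVec 16777215) = true ∧ xiChk eightL = true ∧ xiChk threeL = true := by
  decide +kernel

theorem xi_mem {x : GolayPt → ℤ} (hx : x ∈ leechLattice) :
    xiVec x ∈ leechLattice ∧ xiInv x ∈ leechLattice := by
  have key : ∀ x ∈ leechLattice,
      x ∈ leechLattice ∧ xiVec x ∈ leechLattice ∧ xiInv x ∈ leechLattice := by
    apply gen_induction
    · refine ⟨leechLattice.zero_mem, ?_, ?_⟩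
      · unfold xiVec
        rw [eta_zero, eps_zero]
        exact leechLattice.zero_mem
      · unfold xiInv
        rw [eps_zero, eta_zero]
        exact leechLattice.zero_mem
    · rintro x y ⟨hx, hx1, hx2⟩ ⟨hy, hy1, hy2⟩
      refine ⟨leechLattice.add_mem hx hy, ?_, ?_⟩
      · unfold xiVec at hx1 hy1 ⊢
        rw [eta_add (TE_of_mem hx) (TE_of_mem hy), eps_add]
        exact leechLattice.add_mem hx1 hy1
      · unfold xiInv at hx2 hy2 ⊢
        rw [eps_add, eta_add (TE_eps (TE_of_mem hx)) (TE_eps (TE_of_mem hy))]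
        exact leechLattice.add_mem hx2 hy2
    · rintro x ⟨hx, hx1, hx2⟩
      refine ⟨leechLattice.neg_mem hx, ?_, ?_⟩
      · unfold xiVec at hx1 ⊢
        rw [eta_neg (TE_of_mem hx), eps_neg]
        exact leechLattice.neg_mem hx1
      · unfold xiInv at hx2 ⊢
        rw [eps_neg, eta_neg (TE_eps (TE_of_mem hx))]
        exact leechLattice.neg_mem hx2
    · rw [vecThree_eq]
      exact xiChk_sound xiChk_rest.2.2
    · intro t
      rw [← wordOf_qrMasks, twoInd_wordOf]
      exact xiChk_sound (all_range xiChk_qr _ (ZMod.val_lt t))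
    · rw [← wordOf_allOnes, twoInd_wordOf]
      exact xiChk_sound xiChk_rest.1
    · intro a
      rw [vecFourDiff_eq]
      exact xiChk_sound (all_range xiChk_four _ (ZMod.val_lt a))
    · rw [vecEight_none_eq]
      exact xiChk_sound xiChk_rest.2.1
  exact (key x hx).2

/-- The automorphism of the lattice. -/
def xiCo : Equiv.Perm leechLattice where
  toFun x := ⟨xiVec x.1, (xi_mem x.2).1⟩
  invFun x := ⟨xiInv x.1, (xi_mem x.2).2⟩
  left_inv x := by
    apply Subtype.ext
    show etaVec (epsVec (epsVec (etaVec x.1))) = x.1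
    rw [eps_eps, eta_eta (TE_of_mem x.2)]
  right_inv x := by
    apply Subtype.ext
    show epsVec (etaVec (etaVec (epsVec x.1))) = x.1
    rw [eta_eta (TE_eps (TE_of_mem x.2)), eps_eps]

theorem xiCo_apply (x : leechLattice) : ((xiCo x : leechLattice) : GolayPt → ℤ) = xiVec x.1 := rfl

theorem xiCo_mem : xiCo ∈ Co0 := by
  refine ⟨fun v w => ?_, fun v => ?_⟩
  · apply Subtype.ext
    show epsVec (etaVec (v.1 + w.1)) = epsVec (etaVec v.1) + epsVec (etaVec w.1)
    rw [eta_add (TE_of_mem v.2) (TE_of_mem w.2), eps_add]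
  · show sqNorm (epsVec (etaVec v.1)) = sqNorm v.1
    rw [sqNorm_eps, sqNorm_eta (TE_of_mem v.2)]

end Cfsg.Agent.Lib.Helper92
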