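import Cfsg.Agent.Lib.Helper92.LeechShapes48
import Cfsg.Agent.Lib.Helper92.LeechXi

set_option autoImplicit false

namespace Cfsg.Agent.Lib.Helper92

open Cfsg Cfsg.Agent.Lib.Helper7

/-! ### The three kinds of minimal vectors -/

theorem sq_sum_le (x : GolayPt → ℤ) (S : Finset GolayPt) : ∑ k ∈ S, x k ^ 2 ≤ sqNorm x :=
  Finset.sum_le_sum_of_subset_of_nonneg (Finset.subset_univ S) (fun k _ _ => sq_nonneg (x k))

/-- Odd minimal vectors: one coordinate `±3`, the others `±1`. -/
theorem min_odd {x : GolayPt → ℤ} (hx : x ∈ leechLattice) (hn : sqNorm x = 32)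
    (ho : x none % 2 = 1) :
    ∃ j, (x j = 3 ∨ x j = -3) ∧ ∀ i, i ≠ j → (x i = 1 ∨ x i = -1) := by
  classical
  have hodd : ∀ i, x i % 2 = 1 := fun i => by
    have := parity_of_mem hx i none
    omega
  have hsum := sum_excess x
  rw [hn] at hsum
  have hex : ∃ j, x j ^ 2 - 1 ≠ 0 := by
    by_contra hc
    push Not at hc
    rw [Finset.sum_eq_zero (fun i _ => hc i)] at hsum
    omega
  obtain ⟨j, hj⟩ := hex
  have hj9 : 9 ≤ x j ^ 2 := by
    have h1 := hodd j
    have h2 : x j ≤ -3 ∨ 3 ≤ x j := by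
      by_contra hc
      push Not at hc
      have h3 : x j = 1 ∨ x j = -1 := by omega
      rcases h3 with h3 | h3 <;> rw [h3] at hj <;> norm_num at hj
    rcases h2 with h2 | h2 <;> nlinarith
  refine ⟨j, ?_, fun i hij => ?_⟩
  · have h1 := excess_le hodd {j}
    rw [Finset.sum_singleton, hn] at h1
    have h2 : x j ≤ 3 := by nlinarith
    have h3 : -3 ≤ x j := by nlinarith
    have h4 := hodd j
    have h5 : x j ≠ 1 := fun h => by rw [h] at hj9; norm_num at hj9
    have h6 : x j ≠ -1 := fun h => by rw [h] at hj9; norm_num at hj9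
    omega
  · have h1 := excess_le hodd {j, i}
    rw [Finset.sum_insert (by simpa using Ne.symm hij), Finset.sum_singleton, hn] at h1
    exact sq_le_one (by omega) (hodd i)

/-- Minimal vectors with all coordinates divisible by `4`: two coordinates `±4`. -/
theorem min_A {x : GolayPt → ℤ} (hn : sqNorm x = 32) (h4 : ∀ i, x i % 4 = 0) :
    ∃ i j, i ≠ j ∧ (x i = 4 ∨ x i = -4) ∧ (x j = 4 ∨ x j = -4) ∧
      ∀ k, k ≠ i → k ≠ j → x k = 0 := by
  classical
  have hval : ∀ k, x k ≠ 0 → (x k = 4 ∨ x k = -4) := by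
    intro k hk
    have h1 := sq_sum_le x {k}
    rw [Finset.sum_singleton, hn] at h1
    have h2 : x k ≤ 5 := by nlinarith
    have h3 : -5 ≤ x k := by nlinarith
    have := h4 k
    omega
  have hex : ∃ i, x i ≠ 0 := by
    by_contra hc
    push Not at hc
    unfold sqNorm at hn
    rw [Finset.sum_eq_zero (fun i _ => by rw [hc i]; norm_num)] at hn
    omega
  obtain ⟨i, hi⟩ := hex
  have hi16 : x i ^ 2 = 16 := by rcases hval i hi with h | h <;> rw [h] <;> norm_num
  have hex2 : ∃ j, j ≠ i ∧ x j ≠ 0 := by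
    by_contra hc
    push Not at hc
    unfold sqNorm at hn
    rw [← Finset.add_sum_erase Finset.univ _ (Finset.mem_univ i),
      Finset.sum_eq_zero (fun j hj => by
        rw [hc j (Finset.ne_of_mem_erase hj)]; norm_num), hi16] at hn
    omega
  obtain ⟨j, hji, hj⟩ := hex2
  have hj16 : x j ^ 2 = 16 := by rcases hval j hj with h | h <;> rw [h] <;> norm_num
  refine ⟨i, j, Ne.symm hji, hval i hi, hval j hj, fun k hki hkj => ?_⟩
  have h1 := sq_sum_le x {i, j, k}
  rw [Finset.sum_insert (by simp [Ne.symm hji, Ne.symm hki]),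
    Finset.sum_insert (by simpa using Ne.symm hkj), Finset.sum_singleton, hn, hi16, hj16] at h1
  have h2 : x k ^ 2 = 0 := by
    have := sq_nonneg (x k)
    omega
  exact pow_eq_zero_iff (two_ne_zero) |>.mp h2

theorem mem_support_bitWord {x : GolayPt → ℤ} (heven : ∀ i, x i % 2 = 0) (i : GolayPt) :
    i ∈ support₂ (bitWord x) ↔ x i % 4 = 2 := by
  simp only [support₂, Finset.mem_filter, Finset.mem_univ, true_and, bitWord, cast_half]
  have := heven i
  by_cases h : x i % 4 = 2
  · simp [h]
  · have h' : ¬ (x i % 4 = 3) := by omega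
    simp [h, h']

/-- Even minimal vectors with a coordinate not divisible by `4`: `±2` on an octad. -/
theorem min_B {x : GolayPt → ℤ} (hx : x ∈ leechLattice) (hn : sqNorm x = 32)
    (he : x none % 2 = 0) (hne : ¬ ∀ i, x i % 4 = 0) :
    support₂ (bitWord x) ∈ octads ∧
      ∀ i, (i ∈ support₂ (bitWord x) → (x i = 2 ∨ x i = -2)) ∧
        (i ∉ support₂ (bitWord x) → x i = 0) := by
  classical
  have heven : ∀ i, x i % 2 = 0 := fun i => by
    have := parity_of_mem hx i none
    omega
  have hmem := mem_support_bitWord heven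
  have hc := bitWord_mem hx
  set S := support₂ (bitWord x) with hS
  have hSne : S.Nonempty := by
    push Not at hne
    obtain ⟨i, hi⟩ := hne
    exact ⟨i, (hmem i).mpr (by have := heven i; omega)⟩
  have hge4 : ∀ i ∈ S, 4 ≤ x i ^ 2 := by
    intro i hi
    have h2 := (hmem i).mp hi
    have h3 : x i ≤ -2 ∨ 2 ≤ x i := by omega
    rcases h3 with h3 | h3 <;> nlinarith
  have hsumS : (S.card : ℤ) * 4 ≤ ∑ i ∈ S, x i ^ 2 := by
    have := Finset.card_nsmul_le_sum S (fun i => x i ^ 2) 4 hge4
    simpa using this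
  have hle := sq_sum_le x S
  rw [hn] at hle
  have hcard : S.card = 8 := by
    rcases weight_cases _ hc with h | h | h | h | h
    · exfalso
      obtain ⟨i, hi⟩ := hSne
      rw [hS, h] at hi
      simp [support₂] at hi
    · exact h
    all_goals (rw [← hS] at h; rw [h] at hsumS; omega)
  rw [hcard] at hsumS
  refine ⟨⟨⟨bitWord x, hc, rfl⟩, hcard⟩, fun i => ⟨fun hi => ?_, fun hi => ?_⟩⟩
  · have h1 : ∑ k ∈ S, x k ^ 2 = x i ^ 2 + ∑ k ∈ S.erase i, x k ^ 2 :=
      (Finset.add_sum_erase S _ hi).symm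
    have h2 : ((S.erase i).card : ℤ) * 4 ≤ ∑ k ∈ S.erase i, x k ^ 2 := by
      have := Finset.card_nsmul_le_sum (S.erase i) (fun k => x k ^ 2) 4
        (fun k hk => hge4 k (Finset.mem_of_mem_erase hk))
      simpa using this
    rw [Finset.card_erase_of_mem hi, hcard] at h2
    have h3 : x i ^ 2 ≤ 4 := by push_cast at h2; omega
    have h4 := (hmem i).mp hi
    have h5 : x i ≤ 2 := by nlinarith
    have h6 : -2 ≤ x i := by nlinarith
    omega
  · have h1 := sq_sum_le x (insert i S)
    rw [Finset.sum_insert hi, hn] at h1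
    have h2 : x i ^ 2 = 0 := by
      have := sq_nonneg (x i)
      push_cast at hsumS
      omega
    exact pow_eq_zero_iff (two_ne_zero) |>.mp h2

end Cfsg.Agent.Lib.Helper92
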