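import Cfsg.Agent.Lib.Helper92.LeechMod2
import Cfsg.Agent.Lib.Helper7.GolayGens

set_option autoImplicit false

namespace Cfsg.Agent.Lib.Helper92

open Cfsg Cfsg.Agent.Lib.Helper7

/-! ### Sign changes on code words -/

/-- The sign vector of a binary word. -/
def sgn (c : GolayPt → ZMod 2) : GolayPt → ℤ := fun i => if c i = 1 then -1 else 1

theorem sgn_mul_self (c : GolayPt → ZMod 2) (i : GolayPt) : sgn c i * sgn c i = 1 := by
  unfold sgn
  split_ifs <;> norm_num

/-- Change the signs of the coordinates in the support of `c`. -/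
def signVec (c : GolayPt → ZMod 2) (x : GolayPt → ℤ) : GolayPt → ℤ := fun i => sgn c i * x i

theorem signVec_signVec (c : GolayPt → ZMod 2) (x : GolayPt → ℤ) : signVec c (signVec c x) = x := by
  funext i
  simp only [signVec]
  rw [← mul_assoc, sgn_mul_self, one_mul]

theorem signVec_add (c : GolayPt → ZMod 2) (x y : GolayPt → ℤ) :
    signVec c (x + y) = signVec c x + signVec c y := by
  funext i
  simp only [signVec, Pi.add_apply]
  ring

theorem sqNorm_signVec (c : GolayPt → ZMod 2) (x : GolayPt → ℤ) : sqNorm (signVec c x) = sqNorm x := by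
  unfold sqNorm
  refine Finset.sum_congr rfl (fun i _ => ?_)
  simp only [signVec]
  have := sgn_mul_self c i
  calc (sgn c i * x i) ^ 2 = (sgn c i * sgn c i) * x i ^ 2 := by ring
    _ = x i ^ 2 := by rw [this, one_mul]

theorem dotInt_two_ind (c : GolayPt → ZMod 2) (x : GolayPt → ℤ) :
    dotInt x (fun i => if c i = 1 then (2 : ℤ) else 0) = ∑ i, (x i - signVec c x i) := by
  unfold dotInt
  refine Finset.sum_congr rfl (fun i _ => ?_)
  simp only [signVec, sgn]
  split_ifs <;> ring

theorem cast_half_neg (a : ℤ) : (((-a) / 2 : ℤ) : ZMod 2) = ((a / 2 : ℤ) : ZMod 2) + (a : ZMod 2) := by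
  rw [half_neg]
  have h : ((a % 2 : ℤ) : ZMod 2) = ((a : ℤ) : ZMod 2) :=
    (ZMod.intCast_eq_intCast_iff _ _ 2).mpr (Int.mod_modEq a 2)
  rw [Int.cast_sub, Int.cast_neg, h]
  have h2z : (2 : ZMod 2) = 0 := by decide
  linear_combination (-((a / 2 : ℤ) : ZMod 2) - (a : ZMod 2)) * h2z

theorem signVec_mem {c : GolayPt → ZMod 2} (hc : c ∈ golayCode) {x : GolayPt → ℤ}
    (hx : x ∈ leechLattice) : signVec c x ∈ leechLattice := by
  have hdvd := dotInt_dvd hx (two_ind_mem hc)
  rw [dotInt_two_ind, Finset.sum_sub_distrib] at hdvd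
  obtain ⟨m, h2, h8, hb⟩ := (mem_leechLattice_iff x).mp hx
  rw [mem_leechLattice_iff]
  refine ⟨m, fun i => ?_, ?_, ?_⟩
  · have hi := h2 i
    simp only [signVec, sgn]
    unfold Int.ModEq at hi ⊢
    split_ifs <;> omega
  · unfold Int.ModEq at h8 ⊢
    omega
  · have e : bitWord (signVec c x) = bitWord x + (m : ZMod 2) • c := by
      funext i
      have hi : ((x i : ℤ) : ZMod 2) = (m : ZMod 2) := (ZMod.intCast_eq_intCast_iff _ _ 2).mpr (h2 i)
      simp only [bitWord, signVec, sgn, Pi.add_apply, Pi.smul_apply, smul_eq_mul]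
      rcases zmod2_cases (c i) with h | h
      · rw [h, if_neg (by decide)]; simp
      · rw [h, if_pos rfl, neg_one_mul, cast_half_neg, hi]; simp
    rw [e]
    exact Submodule.add_mem _ hb (Submodule.smul_mem _ _ hc)

/-! ### Coordinate permutations -/

/-- Permute the coordinates of a vector. -/
def permVec (π : Equiv.Perm GolayPt) (x : GolayPt → ℤ) : GolayPt → ℤ := fun i => x (π.symm i)

theorem permVec_add (π : Equiv.Perm GolayPt) (x y : GolayPt → ℤ) :
    permVec π (x + y) = permVec π x + permVec π y := rfl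

theorem sqNorm_permVec (π : Equiv.Perm GolayPt) (x : GolayPt → ℤ) : sqNorm (permVec π x) = sqNorm x := by
  unfold sqNorm permVec
  exact Equiv.sum_comp π.symm (fun i => x i ^ 2)

theorem permVec_permVec_symm (π : Equiv.Perm GolayPt) (x : GolayPt → ℤ) :
    permVec π (permVec π.symm x) = x := by
  funext i
  simp [permVec]

theorem permVec_symm_permVec (π : Equiv.Perm GolayPt) (x : GolayPt → ℤ) :
    permVec π.symm (permVec π x) = x := by
  funext i
  simp [permVec]

theorem permVec_mem {π : Equiv.Perm GolayPt} (hπ : π ∈ M24) {x : GolayPt → ℤ}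
    (hx : x ∈ leechLattice) : permVec π x ∈ leechLattice := by
  obtain ⟨m, h2, h8, hb⟩ := (mem_leechLattice_iff x).mp hx
  rw [mem_leechLattice_iff]
  refine ⟨m, fun i => h2 _, ?_, ?_⟩
  · have : ∑ i, permVec π x i = ∑ i, x i := Equiv.sum_comp π.symm x
    rw [this]; exact h8
  · have : bitWord (permVec π x) = bitWord x ∘ π.symm := rfl
    rw [this]
    exact comp_symm_mem_of_mem_M24 hπ hb

/-! ### The corresponding elements of the automorphism group -/

/-- Sign change on a code word, as a permutation of the lattice. -/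
def signCo (c : GolayPt → ZMod 2) (hc : c ∈ golayCode) : Equiv.Perm leechLattice where
  toFun x := ⟨signVec c x.1, signVec_mem hc x.2⟩
  invFun x := ⟨signVec c x.1, signVec_mem hc x.2⟩
  left_inv x := Subtype.ext (signVec_signVec c x.1)
  right_inv x := Subtype.ext (signVec_signVec c x.1)

theorem signCo_mem (c : GolayPt → ZMod 2) (hc : c ∈ golayCode) : signCo c hc ∈ Co0 :=
  ⟨fun v w => Subtype.ext (signVec_add c v.1 w.1), fun v => sqNorm_signVec c v.1⟩

theorem signCo_apply (c : GolayPt → ZMod 2) (hc : c ∈ golayCode) (x : leechLattice) :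
    ((signCo c hc x : leechLattice) : GolayPt → ℤ) = signVec c x.1 := rfl

/-- Coordinate permutation by an element of `M24`, as a permutation of the lattice. -/
def permCo (π : Equiv.Perm GolayPt) (hπ : π ∈ M24) : Equiv.Perm leechLattice where
  toFun x := ⟨permVec π x.1, permVec_mem hπ x.2⟩
  invFun x := ⟨permVec π.symm x.1, permVec_mem (M24.inv_mem hπ) x.2⟩
  left_inv x := Subtype.ext (permVec_symm_permVec π x.1)
  right_inv x := Subtype.ext (permVec_permVec_symm π x.1)

theorem permCo_mem (π : Equiv.Perm GolayPt) (hπ : π ∈ M24) : permCo π hπ ∈ Co0 :=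
  ⟨fun v w => Subtype.ext (permVec_add π v.1 w.1), fun v => sqNorm_permVec π v.1⟩

theorem permCo_apply (π : Equiv.Perm GolayPt) (hπ : π ∈ M24) (x : leechLattice) :
    ((permCo π hπ x : leechLattice) : GolayPt → ℤ) = permVec π x.1 := rfl

/-- Negation, as a permutation of the lattice. -/
def negCo : Equiv.Perm leechLattice := Equiv.neg _

theorem negCo_mem : negCo ∈ Co0 :=
  ⟨fun v w => by simp [negCo, add_comm], fun v => by
    show sqNorm (-(v : GolayPt → ℤ)) = _
    exact sqNorm_neg' _⟩

theorem negCo_apply (x : leechLattice) : negCo x = -x := rfl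

/-! ### Elements of the automorphism group preserve inner products -/

theorem co0_map_add {f : Equiv.Perm leechLattice} (hf : f ∈ Co0) (v w : leechLattice) :
    f (v + w) = f v + f w := hf.1 v w

theorem co0_sqNorm {f : Equiv.Perm leechLattice} (hf : f ∈ Co0) (v : leechLattice) :
    sqNorm ((f v : leechLattice) : GolayPt → ℤ) = sqNorm (v : GolayPt → ℤ) := hf.2 v

theorem co0_dotInt {f : Equiv.Perm leechLattice} (hf : f ∈ Co0) (v w : leechLattice) :
    dotInt ((f v : leechLattice) : GolayPt → ℤ) (f w : leechLattice) = dotInt (v : GolayPt → ℤ) w := by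
  have h1 := co0_sqNorm hf (v + w)
  rw [co0_map_add hf] at h1
  have h2 := co0_sqNorm hf v
  have h3 := co0_sqNorm hf w
  have e1 : ((f v + f w : leechLattice) : GolayPt → ℤ) = (f v : GolayPt → ℤ) + (f w : GolayPt → ℤ) := rfl
  have e2 : ((v + w : leechLattice) : GolayPt → ℤ) = (v : GolayPt → ℤ) + (w : GolayPt → ℤ) := rfl
  rw [e1, e2, sqNorm_add, sqNorm_add] at h1
  omega

theorem co0_map_zero {f : Equiv.Perm leechLattice} (hf : f ∈ Co0) : f 0 = 0 := by
  have := co0_map_add hf 0 0
  rw [add_zero] at this
  exact left_eq_add.mp this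

theorem co0_map_neg {f : Equiv.Perm leechLattice} (hf : f ∈ Co0) (v : leechLattice) :
    f (-v) = -f v := by
  have := co0_map_add hf v (-v)
  rw [add_neg_cancel, co0_map_zero hf] at this
  exact eq_neg_of_add_eq_zero_right this.symm

/-! ### The vectors `8 e_i` -/

/-- The vector with a single coordinate `8`. -/
def vecEight (i : GolayPt) : GolayPt → ℤ := fun j => if j = i then 8 else 0

theorem vecEight_mem (i : GolayPt) : vecEight i ∈ leechLattice := by
  rw [mem_leechLattice_iff]
  refine ⟨0, fun j => ?_, ?_, ?_⟩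
  · simp only [vecEight]
    split_ifs <;> decide
  · have : ∑ j, vecEight i j = 8 := by
      simp [vecEight]
    rw [this]; decide
  · have : bitWord (vecEight i) = 0 := by
      funext j
      simp only [bitWord, vecEight, Pi.zero_apply]
      split_ifs <;> decide
    rw [this]; exact Submodule.zero_mem _

theorem dotInt_vecEight (x : GolayPt → ℤ) (i : GolayPt) : dotInt x (vecEight i) = 8 * x i := by
  unfold dotInt vecEight
  rw [Finset.sum_eq_single i]
  · simp; ring
  · intro j _ hj
    simp [hj]
  · intro h; exact absurd (Finset.mem_univ i) h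

/-! ### Code words separate points -/

theorem qr_sep : ∀ a b : ZMod 23, a ≠ b →
    ∃ t : ZMod 23, qrWord t (some a) ≠ qrWord t (some b) := by
  decide +kernel

theorem qrWord_mem (t : ZMod 23) : qrWord t ∈ golayCode :=
  Submodule.subset_span (Or.inl ⟨t, rfl⟩)

theorem exists_sep (i j : GolayPt) (hij : i ≠ j) : ∃ c ∈ golayCode, c i = 0 ∧ c j = 1 := by
  have key : ∃ c ∈ golayCode, c i ≠ c j := by
    cases i with
    | none =>
      cases j with
      | none => exact absurd rfl hij
      | some b =>
        refine ⟨qrWord b, qrWord_mem b, ?_⟩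
        have h1 : qrWord b none = 0 := rfl
        have h2 : qrWord b (some b) = 1 := by
          simp only [qrWord]
          rw [if_pos ⟨0, by ring⟩]
        rw [h1, h2]; decide
    | some a =>
      cases j with
      | none =>
        refine ⟨qrWord a, qrWord_mem a, ?_⟩
        have h1 : qrWord a none = 0 := rfl
        have h2 : qrWord a (some a) = 1 := by
          simp only [qrWord]
          rw [if_pos ⟨0, by ring⟩]
        rw [h1, h2]; decide
      | some b =>
        have hab : a ≠ b := fun h => hij (by rw [h])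
        obtain ⟨t, ht⟩ := qr_sep a b hab
        exact ⟨qrWord t, qrWord_mem t, ht⟩
  obtain ⟨c, hc, hne⟩ := key
  rcases zmod2_cases (c i) with h | h
  · refine ⟨c, hc, h, ?_⟩
    rcases zmod2_cases (c j) with h' | h'
    · rw [h, h'] at hne; exact absurd rfl hne
    · exact h'
  · refine ⟨c + 1, Submodule.add_mem _ hc one_mem_golayCode, ?_, ?_⟩
    · simp only [Pi.add_apply, Pi.one_apply, h]; decide
    · rcases zmod2_cases (c j) with h' | h'
      · simp only [Pi.add_apply, Pi.one_apply, h']; decide
      · rw [h, h'] at hne; exact absurd rfl hne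

end Cfsg.Agent.Lib.Helper92
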