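import Cfsg.Agent.Lib.Helper92.LeechCenter

set_option autoImplicit false

namespace Cfsg.Agent.Lib.Helper92

open Cfsg Cfsg.Agent.Lib.Helper7

theorem projInv_projInv (i : GolayPt) : projInv (projInv i) = i := projInv.left_inv i

theorem projInv_symm : projInv.symm = projInv := rfl

theorem qr_projInv : ∀ i : GolayPt, qrWord 0 i + qrWord 0 (projInv i) = 1 := by
  decide +kernel

theorem sgn_qr_projInv (i : GolayPt) : sgn (qrWord 0) i * sgn (qrWord 0) (projInv i) = -1 := by
  have h := qr_projInv i
  unfold sgn
  rcases zmod2_cases (qrWord 0 i) with h0 | h0 <;>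
    rcases zmod2_cases (qrWord 0 (projInv i)) with h1 | h1
  · rw [h0, h1] at h; exact absurd h (by decide)
  · rw [h0, h1, if_neg (by decide), if_pos rfl]; norm_num
  · rw [h0, h1, if_pos rfl, if_neg (by decide)]; norm_num
  · rw [h0, h1] at h; exact absurd h (by decide)

/-- An element of the automorphism group whose square is the negation. -/
def sqrtNeg : Co0 :=
  ⟨signCo (qrWord 0) (qrWord_mem 0), signCo_mem _ _⟩ * ⟨permCo projInv projInv_mem, permCo_mem _ _⟩

theorem sqrtNeg_sq : sqrtNeg * sqrtNeg = negElt := by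
  apply Subtype.ext
  apply Equiv.ext
  intro v
  apply Subtype.ext
  funext i
  show signVec (qrWord 0) (permVec projInv (signVec (qrWord 0) (permVec projInv (v : GolayPt → ℤ)))) i
    = ((negCo v : leechLattice) : GolayPt → ℤ) i
  rw [negCo_apply]
  show _ = -((v : GolayPt → ℤ) i)
  simp only [signVec, permVec, projInv_symm, projInv_projInv]
  rw [← mul_assoc, sgn_qr_projInv]
  ring

theorem negElt_mul_self : negElt * negElt = 1 := by
  apply Subtype.ext
  apply Equiv.ext
  intro v
  show negCo (negCo v) = v
  rw [negCo_apply, negCo_apply, neg_neg]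

theorem negElt_smul (v : leechLattice) :
    ((negElt • v : leechLattice) : GolayPt → ℤ) = -(v : GolayPt → ℤ) := rfl

theorem negElt_no_complement (K : Subgroup Co0) : ¬ (Subgroup.zpowers negElt).IsComplement' K := by
  intro hK
  have hcent := Subgroup.mem_center_iff.mp negElt_mem_center
  obtain ⟨⟨⟨h, hh⟩, ⟨k, hk⟩⟩, hx⟩ := hK.2 sqrtNeg
  simp only at hx
  obtain ⟨j, rfl⟩ := Subgroup.mem_zpowers_iff.mp hh
  -- `negElt ^ j` is central and squares to one
  have hcj : ∀ g : Co0, g * negElt ^ j = negElt ^ j * g := by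
    intro g
    exact ((Commute.zpow_right (hcent g) j)).eq
  have hsq : negElt ^ j * negElt ^ j = 1 := by
    rw [← (Commute.refl negElt).mul_zpow j, negElt_mul_self, one_zpow]
  have hkk : negElt = k * k := by
    rw [← sqrtNeg_sq, ← hx]
    calc negElt ^ j * k * (negElt ^ j * k) = negElt ^ j * (k * negElt ^ j) * k := by group
      _ = negElt ^ j * (negElt ^ j * k) * k := by rw [hcj k]
      _ = (negElt ^ j * negElt ^ j) * (k * k) := by group
      _ = k * k := by rw [hsq, one_mul]
  have hmemK : negElt ∈ K := by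
    rw [hkk]; exact K.mul_mem hk hk
  have h1 : negElt = 1 :=
    Subgroup.disjoint_def.mp hK.disjoint (Subgroup.mem_zpowers negElt) hmemK
  exact one_ne_negElt h1.symm

end Cfsg.Agent.Lib.Helper92
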