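import Cfsg.Agent.Lib.Helper92.Leech

set_option autoImplicit false

namespace Cfsg.Agent.Lib.Helper92

open Cfsg Cfsg.Agent.Lib.Helper7

theorem sqNorm_two_smul' (z : GolayPt → ℤ) : sqNorm (2 • z) = 4 * sqNorm z := by
  unfold sqNorm
  rw [Finset.mul_sum]
  refine Finset.sum_congr rfl (fun i _ => ?_)
  simp only [Pi.smul_apply, smul_eq_mul]
  ring

theorem sqNorm_neg' (v : GolayPt → ℤ) : sqNorm (-v) = sqNorm v := by
  unfold sqNorm
  refine Finset.sum_congr rfl (fun i _ => ?_)
  simp only [Pi.neg_apply]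
  ring

theorem sqNorm_add (v w : GolayPt → ℤ) : sqNorm (v + w) = sqNorm v + sqNorm w + 2 * dotInt v w := by
  unfold sqNorm dotInt
  rw [Finset.mul_sum, ← Finset.sum_add_distrib, ← Finset.sum_add_distrib]
  refine Finset.sum_congr rfl (fun i _ => ?_)
  simp only [Pi.add_apply]
  ring

theorem sqNorm_sub (v w : GolayPt → ℤ) : sqNorm (v - w) = sqNorm v + sqNorm w - 2 * dotInt v w := by
  unfold sqNorm dotInt
  rw [Finset.mul_sum, ← Finset.sum_add_distrib, ← Finset.sum_sub_distrib]
  refine Finset.sum_congr rfl (fun i _ => ?_)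
  simp only [Pi.sub_apply]
  ring

theorem card_support_bitWord (x : GolayPt → ℤ) :
    ((support₂ (bitWord x)).card : ℤ) = ∑ i, (if x i % 4 = 2 ∨ x i % 4 = 3 then (1 : ℤ) else 0) := by
  rw [Finset.sum_boole]
  congr 2
  ext i
  simp only [support₂, Finset.mem_filter, Finset.mem_univ, true_and, bitWord, cast_half]
  by_cases h : x i % 4 = 2 ∨ x i % 4 = 3
  · simp [h]
  · simp [h]

theorem weight_mod (w : GolayPt → ZMod 2) (hw : w ∈ golayCode) : (support₂ w).card % 4 = 0 := by
  rcases weight_cases w hw with h | h | h | h | h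
  · rw [h]; simp [support₂]
  all_goals (rw [h])

/-- All vectors of the lattice have sum of squares divisible by `16`. -/
theorem sqNorm_dvd {x : GolayPt → ℤ} (hx : x ∈ leechLattice) : (16 : ℤ) ∣ sqNorm x := by
  obtain ⟨m, h2, h8, hb⟩ := (mem_leechLattice_iff x).mp hx
  have hw := weight_mod _ hb
  have hc := card_support_bitWord x
  unfold sqNorm
  rcases Int.emod_two_eq_zero_or_one m with hm | hm
  · have hterm : ∀ i, (16 : ℤ) ∣ x i ^ 2 - 4 * (if x i % 4 = 2 ∨ x i % 4 = 3 then (1 : ℤ) else 0) := by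
      intro i
      have hi := h2 i
      unfold Int.ModEq at hi
      have h4 : x i % 4 = 0 ∨ x i % 4 = 2 := by omega
      rcases h4 with h4 | h4
      · rw [if_neg (by omega)]
        have e : x i = 4 * (x i / 4) := by omega
        generalize x i / 4 = q at e
        exact ⟨q ^ 2, by rw [e]; ring⟩
      · rw [if_pos (by omega)]
        have e : x i = 4 * (x i / 4) + 2 := by omega
        generalize x i / 4 = q at e
        exact ⟨q ^ 2 + q, by rw [e]; ring⟩
    have hs : (16 : ℤ) ∣ ∑ i, (x i ^ 2 - 4 * (if x i % 4 = 2 ∨ x i % 4 = 3 then (1 : ℤ) else 0)) :=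
      Finset.dvd_sum (fun i _ => hterm i)
    rw [Finset.sum_sub_distrib, ← Finset.mul_sum, ← hc] at hs
    omega
  · have hterm : ∀ i, (16 : ℤ) ∣ x i ^ 2 + 1 - 2 * x i
        - 4 * (if x i % 4 = 2 ∨ x i % 4 = 3 then (1 : ℤ) else 0) := by
      intro i
      have hi := h2 i
      unfold Int.ModEq at hi
      have h4 : x i % 4 = 1 ∨ x i % 4 = 3 := by omega
      rcases h4 with h4 | h4
      · rw [if_neg (by omega)]
        have e : x i = 4 * (x i / 4) + 1 := by omega
        generalize x i / 4 = q at e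
        exact ⟨q ^ 2, by rw [e]; ring⟩
      · rw [if_pos (by omega)]
        have e : x i = 4 * (x i / 4) + 3 := by omega
        generalize x i / 4 = q at e
        exact ⟨q ^ 2 + q, by rw [e]; ring⟩
    have hs : (16 : ℤ) ∣ ∑ i, (x i ^ 2 + 1 - 2 * x i
        - 4 * (if x i % 4 = 2 ∨ x i % 4 = 3 then (1 : ℤ) else 0)) :=
      Finset.dvd_sum (fun i _ => hterm i)
    rw [Finset.sum_sub_distrib, Finset.sum_sub_distrib, Finset.sum_add_distrib, ← Finset.mul_sum,
      ← Finset.mul_sum, ← hc] at hs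
    simp only [Finset.sum_const, Finset.card_univ, card_golayPt, nsmul_eq_mul, mul_one] at hs
    unfold Int.ModEq at h8
    push_cast at hs
    omega

/-- Inner products of lattice vectors are divisible by `8`. -/
theorem dotInt_dvd {x y : GolayPt → ℤ} (hx : x ∈ leechLattice) (hy : y ∈ leechLattice) :
    (8 : ℤ) ∣ dotInt x y := by
  have h1 := sqNorm_dvd hx
  have h2 := sqNorm_dvd hy
  have h3 := sqNorm_dvd (leechLattice.add_mem hx hy)
  rw [sqNorm_add] at h3
  omega

end Cfsg.Agent.Lib.Helper92
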