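import Cfsg.Agent.Lib.Helper92.LeechFuseTab

set_option autoImplicit false

open scoped Pointwise

namespace Cfsg.Agent.Lib.Helper92

open Cfsg Cfsg.Spor Cfsg.Agent.Lib.Helper7

/-! ### Vectors with two entries `±4` -/

theorem posA_aux (w : GolayPt → ℤ) (i j : GolayPt) (hi : w i ≠ 0) (hj : w j ≠ 0)
    (hz : ∀ k, k ≠ i → k ≠ j → w k = 0) (π : Equiv.Perm GolayPt) (i₀ j₀ : ℕ) (hi₀ : i₀ < 24)
    (hj₀ : j₀ < 24) (hπi : π i = pt i₀) (hπj : π j = pt j₀) :
    ∀ p, w p ≠ 0 ↔ idx (π p) ∈ [i₀, j₀] := by
  intro p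
  simp only [List.mem_cons, List.not_mem_nil, or_false]
  rw [idx_eq_iff hi₀, idx_eq_iff hj₀, ← hπi, ← hπj, π.injective.eq_iff, π.injective.eq_iff]
  constructor
  · intro h
    by_contra hc
    push Not at hc
    exact h (hz p hc.1 hc.2)
  · rintro (rfl | rfl)
    · exact hi
    · exact hj

/-- The standard positions for the four families of vectors with two entries `±4`. -/
def olA (a b : ℤ) : List ℕ :=
  if a ≠ 0 then (if b ≠ 0 then olA11 else olA10) else (if b ≠ 0 then olA01 else olA00)

/-- The corresponding tables. -/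
def wtA (a b : ℤ) : List ℕ :=
  if a ≠ 0 then (if b ≠ 0 then wtA11 else wtA10) else (if b ≠ 0 then wtA01 else wtA00)

theorem tabA (a b : ℤ) : tabOK (olA a b) 4 (wtA a b) = true := by
  unfold olA wtA
  by_cases ha : a ≠ 0
  · by_cases hb : b ≠ 0
    · rw [if_pos ha, if_pos hb, if_pos ha, if_pos hb]
      exact tabA11
    · rw [if_pos ha, if_neg hb, if_pos ha, if_neg hb]
      exact tabA10
  · by_cases hb : b ≠ 0
    · rw [if_neg ha, if_pos hb, if_neg ha, if_pos hb]
      exact tabA01
    · rw [if_neg ha, if_neg hb, if_neg ha, if_neg hb]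
      exact tabA00

theorem some_one_ne : (some 1 : GolayPt) ≠ some 0 := by decide

theorem some_two_ne : (some 2 : GolayPt) ≠ some 0 := by decide

theorem some_one_ne_two : (some 1 : GolayPt) ≠ some 2 := by decide

theorem posA {w : GolayPt → ℤ} (hn : sqNorm w = 32) (hA : ∀ i, w i % 4 = 0) :
    ∃ π ∈ M24, π none = none ∧ π (some 0) = some 0 ∧
      ∀ p, w p ≠ 0 ↔ idx (π p) ∈ olA (w none) (w (some 0)) := by
  obtain ⟨i, j, hij, hi, hj, hz⟩ := min_A hn hA
  have hi0 : w i ≠ 0 := by rcases hi with h | h <;> rw [h] <;> norm_num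
  have hj0 : w j ≠ 0 := by rcases hj with h | h <;> rw [h] <;> norm_num
  have hz' : ∀ k, k ≠ j → k ≠ i → w k = 0 := fun k h1 h2 => hz k h2 h1
  by_cases hin : i = none
  · by_cases hjz : j = some 0
    · have ea : w none ≠ 0 := hin ▸ hi0
      have eb : w (some 0) ≠ 0 := hjz ▸ hj0
      refine ⟨1, M24.one_mem, rfl, rfl, ?_⟩
      rw [olA, if_pos ea, if_pos eb]
      exact posA_aux w i j hi0 hj0 hz 1 23 0 (by norm_num) (by norm_num)
        (by rw [hin, pt_23]; rfl) (by rw [hjz, pt_0]; rfl)
    · have hjn : j ≠ none := fun h => hij (hin.trans h.symm)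
      have ea : w none ≠ 0 := hin ▸ hi0
      have eb : w (some 0) = 0 := hz _ (by rw [hin]; simp) (Ne.symm hjz)
      obtain ⟨π, hπ, h1, h2, h3⟩ := exists_fix_map1 (j := j) (j' := some 1) hjn hjz (by simp)
        some_one_ne
      refine ⟨π, hπ, h1, h2, ?_⟩
      rw [olA, if_pos ea, if_neg (not_not.mpr eb)]
      exact posA_aux w i j hi0 hj0 hz π 23 1 (by norm_num) (by norm_num)
        (by rw [hin, pt_23]; exact h1) (by rw [pt_1]; exact h3)
  · by_cases hiz : i = some 0
    · by_cases hjn : j = none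
      · have ea : w none ≠ 0 := hjn ▸ hj0
        have eb : w (some 0) ≠ 0 := hiz ▸ hi0
        refine ⟨1, M24.one_mem, rfl, rfl, ?_⟩
        rw [olA, if_pos ea, if_pos eb]
        exact posA_aux w j i hj0 hi0 hz' 1 23 0 (by norm_num) (by norm_num)
          (by rw [hjn, pt_23]; rfl) (by rw [hiz, pt_0]; rfl)
      · have hjz : j ≠ some 0 := fun h => hij (hiz.trans h.symm)
        have ea : w none = 0 := hz _ (by rw [hiz]; simp) (Ne.symm hjn)
        have eb : w (some 0) ≠ 0 := hiz ▸ hi0
        obtain ⟨π, hπ, h1, h2, h3⟩ := exists_fix_map1 (j := j) (j' := some 1) hjn hjz (by simp)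
          some_one_ne
        refine ⟨π, hπ, h1, h2, ?_⟩
        rw [olA, if_neg (not_not.mpr ea), if_pos eb]
        exact posA_aux w i j hi0 hj0 hz π 0 1 (by norm_num) (by norm_num)
          (by rw [hiz, pt_0]; exact h2) (by rw [pt_1]; exact h3)
    · by_cases hjn : j = none
      · have ea : w none ≠ 0 := hjn ▸ hj0
        have eb : w (some 0) = 0 := hz _ (Ne.symm hiz) (by rw [hjn]; simp)
        obtain ⟨π, hπ, h1, h2, h3⟩ := exists_fix_map1 (j := i) (j' := some 1) hin hiz (by simp)
          some_one_ne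
        refine ⟨π, hπ, h1, h2, ?_⟩
        rw [olA, if_pos ea, if_neg (not_not.mpr eb)]
        exact posA_aux w j i hj0 hi0 hz' π 23 1 (by norm_num) (by norm_num)
          (by rw [hjn, pt_23]; exact h1) (by rw [pt_1]; exact h3)
      · by_cases hjz : j = some 0
        · have ea : w none = 0 := hz _ (Ne.symm hin) (by rw [hjz]; simp)
          have eb : w (some 0) ≠ 0 := hjz ▸ hj0
          obtain ⟨π, hπ, h1, h2, h3⟩ := exists_fix_map1 (j := i) (j' := some 1) hin hiz
            (by simp) some_one_ne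
          refine ⟨π, hπ, h1, h2, ?_⟩
          rw [olA, if_neg (not_not.mpr ea), if_pos eb]
          exact posA_aux w j i hj0 hi0 hz' π 0 1 (by norm_num) (by norm_num)
            (by rw [hjz, pt_0]; exact h2) (by rw [pt_1]; exact h3)
        · have ea : w none = 0 := hz _ (Ne.symm hin) (Ne.symm hjn)
          have eb : w (some 0) = 0 := hz _ (Ne.symm hiz) (Ne.symm hjz)
          obtain ⟨π, hπ, h1, h2, h3, h4⟩ := exists_fix_map2 (i := i) (j := j) (i' := some 1)
            (j' := some 2) hin hiz hjn hjz hij (by simp) some_one_ne (by simp) some_two_ne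
            some_one_ne_two
          refine ⟨π, hπ, h1, h2, ?_⟩
          rw [olA, if_neg (not_not.mpr ea), if_neg (not_not.mpr eb)]
          exact posA_aux w i j hi0 hj0 hz π 1 2 (by norm_num) (by norm_num)
            (by rw [pt_1]; exact h3) (by rw [pt_2]; exact h4)

theorem std_A {w : GolayPt → ℤ} (hw : w ∈ leechLattice) (hn : sqNorm w = 32)
    (hA : ∀ i, w i % 4 = 0) :
    SRel w (stdW (olA (w none) (w (some 0))) 4 (w none) (w (some 0))) := by
  obtain ⟨π, hπ, h1, h2, hS⟩ := posA hn hA
  have hval : ∀ p, w p = 0 ∨ w p = 4 ∨ w p = -4 := by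
    obtain ⟨i, j, hij, hi, hj, hz⟩ := min_A hn hA
    intro p
    by_cases hpi : p = i
    · rw [hpi]; tauto
    · by_cases hpj : p = j
      · rw [hpj]; tauto
      · exact Or.inl (hz p hpi hpj)
  have he : w none % 2 = 0 := by have := hA none; omega
  exact norm_std _ 4 (by norm_num) _ (tabA _ _) hw he hval hπ h1 h2 hS

/-- Minimal vectors with all entries divisible by `4` and the same entries at the two base
points are equivalent. -/
theorem norm_A {w w' : GolayPt → ℤ} (hw : w ∈ leechLattice) (hw' : w' ∈ leechLattice)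
    (hn : sqNorm w = 32) (hn' : sqNorm w' = 32) (hA : ∀ i, w i % 4 = 0)
    (hA' : ∀ i, w' i % 4 = 0) (h1 : w none = w' none) (h2 : w (some 0) = w' (some 0)) :
    SRel w w' := by
  have r := std_A hw hn hA
  have r' := std_A hw' hn' hA'
  rw [← h1, ← h2] at r'
  exact r.trans r'.symm

/-! ### Vectors with entries `±2` on an octad -/

theorem exists_fix_oct {O O' : Finset GolayPt} (hO : O ∈ octads) (hO' : O' ∈ octads)
    (h1 : none ∈ O ↔ none ∈ O') (h2 : some 0 ∈ O ↔ some 0 ∈ O') :
    ∃ π ∈ M24, π none = none ∧ π (some 0) = some 0 ∧ π • O = O' := by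
  by_cases c1 : none ∈ O
  · by_cases c2 : some 0 ∈ O
    · exact exists_fix_oct11 hO hO' c1 c2 (h1.mp c1) (h2.mp c2)
    · exact exists_fix_oct10 (a := none) (b := some 0) (by simp) hO hO' c1 c2 (h1.mp c1)
        (fun h => c2 (h2.mpr h))
  · by_cases c2 : some 0 ∈ O
    · obtain ⟨π, hπ, e1, e2, e3⟩ := exists_fix_oct10 (a := some 0) (b := none) (by simp) hO hO'
        c2 c1 (h2.mp c2) (fun h => c1 (h1.mpr h))
      exact ⟨π, hπ, e2, e1, e3⟩
    · exact exists_fix_oct00 hO hO' c1 c2 (fun h => c1 (h1.mpr h)) (fun h => c2 (h2.mpr h))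

theorem std_B_fam (tl : List ℤ) (ol : List ℕ) (wt : List ℕ) (htl : leechB tl = true)
    (hnorm : ((List.range 24).map (fun j => tl.getD j 0 ^ 2)).sum = 32)
    (htl2 : ∀ j < 24, (tl.getD j 0 % 4 = 2 ↔ j ∈ ol)) (htl3 : tl.getD 23 0 % 2 = 0)
    (htl4 : ∃ j < 24, tl.getD j 0 % 4 = 2) (htab : tabOK ol 2 wt = true)
    {w : GolayPt → ℤ} (hw : w ∈ leechLattice) (hn : sqNorm w = 32) (he : w none % 2 = 0)
    (hne : ¬ ∀ i, w i % 4 = 0) (h1 : w none % 4 = 2 ↔ tl.getD 23 0 % 4 = 2)
    (h2 : w (some 0) % 4 = 2 ↔ tl.getD 0 0 % 4 = 2) :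
    SRel w (stdW ol 2 (w none) (w (some 0))) := by
  classical
  have hr : vecOf tl ∈ leechLattice := leechB_sound htl
  have hrn : sqNorm (vecOf tl) = 32 := by rw [sqNorm_vecOf]; exact hnorm
  have hre : vecOf tl none % 2 = 0 := htl3
  have hrne : ¬ ∀ i, vecOf tl i % 4 = 0 := by
    obtain ⟨j, hj, hj2⟩ := htl4
    intro h
    have := h (pt j)
    rw [vecOf_pt tl hj] at this
    omega
  have heven : ∀ i, w i % 2 = 0 := fun i => by
    have := parity_of_mem hw i none
    omega
  have hreven : ∀ i, vecOf tl i % 2 = 0 := fun i => by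
    have := parity_of_mem hr i none
    omega
  obtain ⟨hO, hOv⟩ := min_B hw hn he hne
  obtain ⟨hO', -⟩ := min_B hr hrn hre hrne
  have hm := mem_support_bitWord heven
  have hm' := mem_support_bitWord hreven
  obtain ⟨π, hπ, e1, e2, e3⟩ := exists_fix_oct hO hO'
    (by rw [hm, hm', vecOf_none]; exact h1) (by rw [hm, hm', vecOf_zero]; exact h2)
  have hval : ∀ p, w p = 0 ∨ w p = 2 ∨ w p = -2 := by
    intro p
    by_cases hp : p ∈ support₂ (bitWord w)
    · exact Or.inr ((hOv p).1 hp)
    · exact Or.inl ((hOv p).2 hp)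
  have hS : ∀ p, w p ≠ 0 ↔ idx (π p) ∈ ol := by
    intro p
    have a1 : w p ≠ 0 ↔ p ∈ support₂ (bitWord w) := by
      constructor
      · intro h
        by_contra hc
        exact h ((hOv p).2 hc)
      · intro h
        rcases (hOv p).1 h with h' | h' <;> rw [h'] <;> norm_num
    have a2 : p ∈ support₂ (bitWord w) ↔ π p ∈ support₂ (bitWord (vecOf tl)) := by
      rw [← e3]
      exact (Finset.smul_mem_smul_finset_iff π).symm
    rw [a1, a2, hm']
    unfold vecOf
    exact htl2 _ (idx_lt _)
  exact norm_std ol 2 (by norm_num) wt htab hw he hval hπ e1 e2 hS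

/-- The list with entries `2` at the given positions. -/
def tlOf (ol : List ℕ) : List ℤ := (List.range 24).map (fun j => if j ∈ ol then 2 else 0)

/-- The standard positions for the four families of vectors with entries `±2` on an octad. -/
def olB (a b : ℤ) : List ℕ :=
  if a % 4 = 2 then (if b % 4 = 2 then olB11 else olB10) else (if b % 4 = 2 then olB01 else olB00)

theorem std_B {w : GolayPt → ℤ} (hw : w ∈ leechLattice) (hn : sqNorm w = 32)
    (he : w none % 2 = 0) (hne : ¬ ∀ i, w i % 4 = 0) :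
    SRel w (stdW (olB (w none) (w (some 0))) 2 (w none) (w (some 0))) := by
  by_cases c1 : w none % 4 = 2
  · by_cases c2 : w (some 0) % 4 = 2
    · rw [olB, if_pos c1, if_pos c2]
      exact std_B_fam (tlOf olB11) olB11 wtB11 (by decide +kernel) (by decide +kernel)
        (by decide +kernel) (by decide +kernel) ⟨2, by norm_num, by decide +kernel⟩ tabB11 hw hn he hne
        (iff_of_true c1 (by decide +kernel)) (iff_of_true c2 (by decide +kernel))
    · rw [olB, if_pos c1, if_neg c2]
      exact std_B_fam (tlOf olB10) olB10 wtB10 (by decide +kernel) (by decide +kernel)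
        (by decide +kernel) (by decide +kernel) ⟨1, by norm_num, by decide +kernel⟩ tabB10 hw hn he hne
        (iff_of_true c1 (by decide +kernel)) (iff_of_false c2 (by decide +kernel))
  · by_cases c2 : w (some 0) % 4 = 2
    · rw [olB, if_neg c1, if_pos c2]
      exact std_B_fam (tlOf olB01) olB01 wtB01 (by decide +kernel) (by decide +kernel)
        (by decide +kernel) (by decide +kernel) ⟨1, by norm_num, by decide +kernel⟩ tabB01 hw hn he hne
        (iff_of_false c1 (by decide +kernel)) (iff_of_true c2 (by decide +kernel))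
    · rw [olB, if_neg c1, if_neg c2]
      exact std_B_fam (tlOf olB00) olB00 wtB00 (by decide +kernel) (by decide +kernel)
        (by decide +kernel) (by decide +kernel) ⟨1, by norm_num, by decide +kernel⟩ tabB00 hw hn he hne
        (iff_of_false c1 (by decide +kernel)) (iff_of_false c2 (by decide +kernel))

/-- Minimal even vectors with an entry not divisible by `4` and the same entries at the two
base points are equivalent. -/
theorem norm_B {w w' : GolayPt → ℤ} (hw : w ∈ leechLattice) (hw' : w' ∈ leechLattice)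
    (hn : sqNorm w = 32) (hn' : sqNorm w' = 32) (he : w none % 2 = 0)
    (hA : ¬ ∀ i, w i % 4 = 0) (hA' : ¬ ∀ i, w' i % 4 = 0) (h1 : w none = w' none)
    (h2 : w (some 0) = w' (some 0)) : SRel w w' := by
  have r := std_B hw hn he hA
  have r' := std_B hw' hn' (h1 ▸ he) hA'
  rw [← h1, ← h2] at r'
  exact r.trans r'.symm

/-! ### Classes of minimal vectors -/

/-- The class of minimal vectors with entries `a`, `b` at the two base points; `K` records
whether all entries are divisible by `4`. -/
def InKey (a b : ℤ) (K : Bool) (w : GolayPt → ℤ) : Prop :=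
  w ∈ leechLattice ∧ sqNorm w = 32 ∧ w none = a ∧ w (some 0) = b ∧
    ((∀ i, w i % 4 = 0) ↔ K = true)

theorem norm_key {a b : ℤ} {K : Bool} {w w' : GolayPt → ℤ} (h : InKey a b K w)
    (h' : InKey a b K w') : SRel w w' := by
  obtain ⟨hw, hn, ha, hb, hK⟩ := h
  obtain ⟨hw', hn', ha', hb', hK'⟩ := h'
  have h1 : w none = w' none := ha.trans ha'.symm
  have h2 : w (some 0) = w' (some 0) := hb.trans hb'.symm
  by_cases ho : w none % 2 = 1
  · exact norm_C hw hw' hn hn' ho h1 h2
  · have he : w none % 2 = 0 := by omega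
    by_cases hA : ∀ i, w i % 4 = 0
    · exact norm_A hw hw' hn hn' hA (hK'.mpr (hK.mp hA)) h1 h2
    · have hA' : ¬ ∀ i, w' i % 4 = 0 := fun h => hA (hK.mpr (hK'.mp h))
      exact norm_B hw hw' hn hn' he hA hA' h1 h2

/-- Check that a list gives a vector of a class. -/
def keyChk (l : List ℤ) (a b : ℤ) (K : Bool) : Bool :=
  leechB l && decide (((List.range 24).map (fun j => l.getD j 0 ^ 2)).sum = 32) &&
    decide (l.getD 23 0 = a) && decide (l.getD 0 0 = b) &&
    ((List.range 24).all (fun j => decide (l.getD j 0 % 4 = 0)) == K)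

theorem inKey_of_chk {l : List ℤ} {a b : ℤ} {K : Bool} (h : keyChk l a b K = true) :
    InKey a b K (vecOf l) := by
  unfold keyChk at h
  rw [Bool.and_eq_true, Bool.and_eq_true, Bool.and_eq_true, Bool.and_eq_true] at h
  obtain ⟨⟨⟨⟨h1, h2⟩, h3⟩, h4⟩, h5⟩ := h
  rw [decide_eq_true_eq] at h2 h3 h4
  rw [beq_iff_eq] at h5
  refine ⟨leechB_sound h1, by rw [sqNorm_vecOf]; exact h2, h3, by rw [vecOf_zero]; exact h4, ?_⟩
  rw [← h5]
  constructor
  · intro hall
    rw [List.all_eq_true]
    intro j hj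
    rw [decide_eq_true_eq]
    have := hall (pt j)
    rwa [vecOf_pt l (List.mem_range.mp hj)] at this
  · intro hall i
    have := all_range hall (idx i) (idx_lt i)
    rw [decide_eq_true_eq] at this
    exact this

/-- Two classes are fused under the stabiliser of `leechU`. -/
def Conn (a b : ℤ) (K : Bool) (a' b' : ℤ) (K' : Bool) : Prop :=
  ∀ w w', InKey a b K w → InKey a' b' K' w' → SRel w w'

theorem conn_refl (a b : ℤ) (K : Bool) : Conn a b K a b K := fun _ _ h h' => norm_key h h'

theorem Conn.symm {a b : ℤ} {K : Bool} {a' b' : ℤ} {K' : Bool} (h : Conn a b K a' b' K') :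
    Conn a' b' K' a b K := fun w w' hw hw' => (h w' w hw' hw).symm

theorem Conn.trans {a b : ℤ} {K : Bool} {a' b' : ℤ} {K' : Bool} {a'' b'' : ℤ} {K'' : Bool}
    (h : Conn a b K a' b' K') (u : GolayPt → ℤ) (hu : InKey a' b' K' u)
    (h' : Conn a' b' K' a'' b'' K'') : Conn a b K a'' b'' K'' :=
  fun w w' hw hw' => (h w u hw hu).trans (h' u w' hu hw')

theorem conn_edge (l : List ℤ) {a b : ℤ} {K : Bool} {a' b' : ℤ} {K' : Bool}
    (h : keyChk l a b K = true) (h' : keyChk (gL l) a' b' K' = true) : Conn a b K a' b' K' := by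
  intro w w' hw hw'
  have e := SRel.gstep (inKey_of_chk h).1
  rw [gVec_vecOf] at e
  exact (norm_key hw (inKey_of_chk h)).trans (e.trans (norm_key (inKey_of_chk h') hw'))

/-! ### The possible entries at the two base points -/

theorem dot_vecU (w : GolayPt → ℤ) : dotInt vecU w = 4 * w none + 4 * w (some 0) := by
  unfold dotInt vecU
  have : ∀ i : GolayPt, (if i = none ∨ i = some 0 then (4 : ℤ) else 0) * w i =
      (if i = none then 4 * w none else 0) + (if i = some 0 then 4 * w (some 0) else 0) := by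
    intro i
    by_cases h1 : i = none
    · subst h1
      simp
    · by_cases h2 : i = some 0
      · subst h2
        simp
      · simp [h1, h2]
  rw [Finset.sum_congr rfl (fun i _ => this i), Finset.sum_add_distrib, Finset.sum_ite_eq',
    Finset.sum_ite_eq']
  simp

theorem key_vals {w : GolayPt → ℤ} (hw : w ∈ leechLattice) (hn : sqNorm w = 32) :
    (w none % 2 = 1 ∧ (¬ ∀ i, w i % 4 = 0) ∧
      (w none = 1 ∨ w none = -1 ∨ w none = 3 ∨ w none = -3) ∧
      (w (some 0) = 1 ∨ w (some 0) = -1 ∨ w (some 0) = 3 ∨ w (some 0) = -3) ∧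
      ((w none = 1 ∨ w none = -1) ∨ (w (some 0) = 1 ∨ w (some 0) = -1))) ∨
    ((∀ i, w i % 4 = 0) ∧ (w none = 0 ∨ w none = 4 ∨ w none = -4) ∧
      (w (some 0) = 0 ∨ w (some 0) = 4 ∨ w (some 0) = -4)) ∨
    ((¬ ∀ i, w i % 4 = 0) ∧ w none % 2 = 0 ∧ (w none = 0 ∨ w none = 2 ∨ w none = -2) ∧
      (w (some 0) = 0 ∨ w (some 0) = 2 ∨ w (some 0) = -2)) := by
  by_cases ho : w none % 2 = 1
  · left
    obtain ⟨j, hj, hr⟩ := min_odd hw hn ho
    refine ⟨ho, fun h => by have := h none; omega, ?_, ?_, ?_⟩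
    · by_cases h : none = j
      · rw [h]; tauto
      · have := hr none h; tauto
    · by_cases h : some 0 = j
      · rw [h]; tauto
      · have := hr (some 0) h; tauto
    · by_cases h : none = j
      · right
        exact hr (some 0) (by rw [← h]; simp)
      · left
        exact hr none h
  · have he : w none % 2 = 0 := by omega
    right
    by_cases hA : ∀ i, w i % 4 = 0
    · left
      obtain ⟨i, j, hij, hi, hj, hz⟩ := min_A hn hA
      have hval : ∀ p, w p = 0 ∨ w p = 4 ∨ w p = -4 := by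
        intro p
        by_cases hpi : p = i
        · rw [hpi]; tauto
        · by_cases hpj : p = j
          · rw [hpj]; tauto
          · exact Or.inl (hz p hpi hpj)
      exact ⟨hA, hval none, hval (some 0)⟩
    · right
      obtain ⟨-, hOv⟩ := min_B hw hn he hA
      have hval : ∀ p, w p = 0 ∨ w p = 2 ∨ w p = -2 := by
        intro p
        by_cases hp : p ∈ support₂ (bitWord w)
        · exact Or.inr ((hOv p).1 hp)
        · exact Or.inl ((hOv p).2 hp)
      exact ⟨hA, he, hval none, hval (some 0)⟩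

end Cfsg.Agent.Lib.Helper92
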