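import Cfsg.Agent.Lib.Helper92.LeechRel
import Cfsg.Agent.Lib.Helper92.LeechPairs

set_option autoImplicit false

open scoped Pointwise

namespace Cfsg.Agent.Lib.Helper92

open Cfsg Cfsg.Spor Cfsg.Agent.Lib.Helper7

/-! ### Maps on lists induced by automorphisms of the lattice -/

/-- A map on lists induced by an automorphism of the lattice. -/
def Good (f : List ℤ → List ℤ) : Prop :=
  ∃ g : Co0, ∀ (l : List ℤ) (h : vecOf l ∈ leechLattice),
    ((g • (⟨vecOf l, h⟩ : leechLattice) : leechLattice) : GolayPt → ℤ) = vecOf (f l)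

theorem Good.mem {f : List ℤ → List ℤ} (hf : Good f) {l : List ℤ} (h : vecOf l ∈ leechLattice) :
    vecOf (f l) ∈ leechLattice := by
  obtain ⟨g, hg⟩ := hf
  rw [← hg l h]
  exact Subtype.coe_prop _

theorem good_id : Good id := ⟨1, fun l h => by rw [one_smul]; rfl⟩

theorem Good.comp {f f' : List ℤ → List ℤ} (hf : Good f) (hf' : Good f') :
    Good (fun l => f' (f l)) := by
  obtain ⟨g, hg⟩ := hf
  obtain ⟨g', hg'⟩ := hf'
  refine ⟨g' * g, fun l h => ?_⟩
  have h1 : vecOf (f l) ∈ leechLattice := by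
    rw [← hg l h]
    exact Subtype.coe_prop _
  have e : g • (⟨vecOf l, h⟩ : leechLattice) = ⟨vecOf (f l), h1⟩ := Subtype.ext (hg l h)
  rw [mul_smul, e]
  exact hg' (f l) h1

theorem good_perm (w : List ℕ) : Good (permL (invT (evalT [tA, tB, tC] w))) := by
  have hm : evalW [shiftPerm, Cfsg.projInv, Cfsg.cubeTwist] w ∈ M24 := by
    apply evalW_mem
    intro σ hσ
    simp only [List.mem_cons, List.not_mem_nil, or_false] at hσ
    rcases hσ with rfl | rfl | rfl
    · exact shiftPerm_mem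
    · exact projInv_mem
    · exact cubeTwist_mem
  have hr : RepT (evalW [shiftPerm, Cfsg.projInv, Cfsg.cubeTwist] w)⁻¹
      (invT (evalT [tA, tB, tC] w)) :=
    (repT_evalW (List.Forall₂.cons repT_shift (List.Forall₂.cons repT_projInv
      (List.Forall₂.cons repT_cubeTwist List.Forall₂.nil))) _).inv
  refine ⟨⟨permCo _ hm, permCo_mem _ hm⟩, fun l h => ?_⟩
  exact permVec_vecOf hr l

/-- Packed table of the inverse of the shift. -/
def tAi : ℕ := 983478296959358443554250846857397270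

/-- Packed table of the inverse of `cubeTwist`. -/
def tCi : ℕ := 980275914351787324191492553553580224

theorem tAi_eq : invT tA = tAi := by decide +kernel

theorem tCi_eq : invT tC = tCi := by decide +kernel

/-- The tables of the letters: the three generators and the inverses of the first and third. -/
def T5 : List ℕ := [tA, tB, tC, tAi, tCi]

theorem good_perm5 (w : List ℕ) : Good (permL (invT (evalT T5 w))) := by
  have hm : evalW [shiftPerm, Cfsg.projInv, Cfsg.cubeTwist, shiftPerm⁻¹, Cfsg.cubeTwist⁻¹] w ∈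
      M24 := by
    apply evalW_mem
    intro σ hσ
    simp only [List.mem_cons, List.not_mem_nil, or_false] at hσ
    rcases hσ with rfl | rfl | rfl | rfl | rfl
    · exact shiftPerm_mem
    · exact projInv_mem
    · exact cubeTwist_mem
    · exact M24.inv_mem shiftPerm_mem
    · exact M24.inv_mem cubeTwist_mem
  have h1 : RepT shiftPerm⁻¹ tAi := tAi_eq ▸ repT_shift.inv
  have h2 : RepT Cfsg.cubeTwist⁻¹ tCi := tCi_eq ▸ repT_cubeTwist.inv
  have hr : RepT (evalW [shiftPerm, Cfsg.projInv, Cfsg.cubeTwist, shiftPerm⁻¹,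
      Cfsg.cubeTwist⁻¹] w)⁻¹ (invT (evalT T5 w)) :=
    (repT_evalW (List.Forall₂.cons repT_shift (List.Forall₂.cons repT_projInv
      (List.Forall₂.cons repT_cubeTwist (List.Forall₂.cons h1
        (List.Forall₂.cons h2 List.Forall₂.nil))))) _).inv
  refine ⟨⟨permCo _ hm, permCo_mem _ hm⟩, fun l h => ?_⟩
  exact permVec_vecOf hr l

theorem good_perm_of_eq {t : ℕ} (w : List ℕ) (h : invT (evalT T5 w) = t) :
    Good (permL t) := h ▸ good_perm5 w

theorem good_sign (k : ℕ) : Good (signL (enc k)) :=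
  ⟨⟨signCo _ (wordOf_enc_mem k), signCo_mem _ _⟩, fun l _ => signVec_vecOf (enc k) l⟩

theorem good_sign_of_eq {m : ℕ} (k : ℕ) (h : enc k = m) : Good (signL m) := h ▸ good_sign k

theorem good_xi : Good xiL := ⟨⟨xiCo, xiCo_mem⟩, fun l _ => xiVec_vecOf l⟩

theorem good_xiInv : Good xiInvL :=
  ⟨⟨xiCo⁻¹, Co0.inv_mem xiCo_mem⟩, fun l _ => xiInv_vecOf l⟩

/-- Application of a list of maps, the first one first. -/
def opsApp (ops : List (List ℤ → List ℤ)) (l : List ℤ) : List ℤ := ops.foldl (fun acc f => f acc) l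

theorem good_opsApp (ops : List (List ℤ → List ℤ)) (h : ∀ f ∈ ops, Good f) : Good (opsApp ops) := by
  induction ops with
  | nil => exact good_id
  | cons f fs ih =>
    have h1 : Good f := h f (List.mem_cons_self)
    have h2 : Good (opsApp fs) := ih (fun f' hf' => h f' (List.mem_cons_of_mem _ hf'))
    exact h1.comp h2

/-! ### Maps fixing given base vectors -/

/-- A map on lists induced by an automorphism of the lattice fixing the base vectors. -/
def GoodFix (B : List (List ℤ)) (f : List ℤ → List ℤ) : Prop :=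
  ∃ g : Co0, (∀ b ∈ B, ∀ h : vecOf b ∈ leechLattice,
      g • (⟨vecOf b, h⟩ : leechLattice) = ⟨vecOf b, h⟩) ∧
    ∀ (l : List ℤ) (h : vecOf l ∈ leechLattice),
      ((g • (⟨vecOf l, h⟩ : leechLattice) : leechLattice) : GolayPt → ℤ) = vecOf (f l)

theorem GoodFix.of_good {B : List (List ℤ)} {f : List ℤ → List ℤ} (hf : Good f)
    (hB : ∀ b ∈ B, f b = b) : GoodFix B f := by
  obtain ⟨g, hg⟩ := hf
  refine ⟨g, fun b hb h => ?_, hg⟩
  apply Subtype.ext
  rw [hg b h, hB b hb]

theorem goodFix_id (B : List (List ℤ)) : GoodFix B id :=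
  GoodFix.of_good good_id (fun _ _ => rfl)

/-- Equivalence of vectors under the automorphisms fixing the base vectors. -/
def VRel (B : List (List ℤ)) (x y : GolayPt → ℤ) : Prop :=
  ∃ g : Co0, (∀ b ∈ B, ∀ h : vecOf b ∈ leechLattice,
      g • (⟨vecOf b, h⟩ : leechLattice) = ⟨vecOf b, h⟩) ∧
    ∃ hx : x ∈ leechLattice, ((g • (⟨x, hx⟩ : leechLattice) : leechLattice) : GolayPt → ℤ) = y

theorem VRel.mem_left {B : List (List ℤ)} {x y : GolayPt → ℤ} (h : VRel B x y) :
    x ∈ leechLattice := by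
  obtain ⟨g, -, hx, -⟩ := h
  exact hx

theorem VRel.mem_right {B : List (List ℤ)} {x y : GolayPt → ℤ} (h : VRel B x y) :
    y ∈ leechLattice := by
  obtain ⟨g, -, hx, rfl⟩ := h
  exact Subtype.coe_prop _

theorem VRel.refl (B : List (List ℤ)) {x : GolayPt → ℤ} (hx : x ∈ leechLattice) : VRel B x x :=
  ⟨1, fun b _ h => one_smul _ _, hx, by rw [one_smul]⟩

theorem VRel.symm {B : List (List ℤ)} {x y : GolayPt → ℤ} (h : VRel B x y) : VRel B y x := by
  obtain ⟨g, hB, hx, rfl⟩ := h
  refine ⟨g⁻¹, fun b hb h => ?_, Subtype.coe_prop _, ?_⟩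
  · rw [inv_smul_eq_iff, hB b hb h]
  · show ((g⁻¹ • (g • (⟨x, hx⟩ : leechLattice)) : leechLattice) : GolayPt → ℤ) = x
    rw [inv_smul_smul]

theorem VRel.trans {B : List (List ℤ)} {x y z : GolayPt → ℤ} (h : VRel B x y) (h' : VRel B y z) :
    VRel B x z := by
  obtain ⟨g, hB, hx, rfl⟩ := h
  obtain ⟨g', hB', hy, rfl⟩ := h'
  refine ⟨g' * g, fun b hb h => ?_, hx, ?_⟩
  · rw [mul_smul, hB b hb h, hB' b hb h]
  · rw [mul_smul]

theorem VRel.sqNorm {B : List (List ℤ)} {x y : GolayPt → ℤ} (h : VRel B x y) :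
    sqNorm y = sqNorm x := by
  obtain ⟨g, -, hx, rfl⟩ := h
  exact co0_smul_sqNorm g ⟨x, hx⟩

theorem VRel.dot {B : List (List ℤ)} {x y : GolayPt → ℤ} (h : VRel B x y) {b : List ℤ}
    (hb : b ∈ B) (hbL : vecOf b ∈ leechLattice) : dotInt (vecOf b) y = dotInt (vecOf b) x := by
  obtain ⟨g, hB, hx, rfl⟩ := h
  have := co0_smul_dotInt g ⟨vecOf b, hbL⟩ ⟨x, hx⟩
  rw [hB b hb hbL] at this
  exact this

theorem GoodFix.vrel {B : List (List ℤ)} {f : List ℤ → List ℤ} (hf : GoodFix B f) {l : List ℤ}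
    (h : vecOf l ∈ leechLattice) : VRel B (vecOf l) (vecOf (f l)) := by
  obtain ⟨g, hB, hg⟩ := hf
  exact ⟨g, hB, h, hg l h⟩

/-- Evaluation of a word in a list of maps, the first letter first. -/
def evalG (gens : List (List ℤ → List ℤ)) (w : List ℕ) (l : List ℤ) : List ℤ :=
  w.foldl (fun acc i => (gens.getD i id) acc) l

theorem goodFix_getD {B : List (List ℤ)} {gens : List (List ℤ → List ℤ)}
    (hg : ∀ f ∈ gens, GoodFix B f) (i : ℕ) : GoodFix B (gens.getD i id) := by
  by_cases hi : i < gens.length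
  · rw [List.getD_eq_getElem _ _ hi]
    exact hg _ (List.getElem_mem hi)
  · rw [List.getD_eq_default _ _ (by omega)]
    exact goodFix_id B

theorem vrel_evalG {B : List (List ℤ)} {gens : List (List ℤ → List ℤ)}
    (hg : ∀ f ∈ gens, GoodFix B f) (w : List ℕ) (l : List ℤ) (hl : vecOf l ∈ leechLattice) :
    VRel B (vecOf l) (vecOf (evalG gens w l)) := by
  induction w generalizing l with
  | nil => exact VRel.refl B hl
  | cons i w ih =>
    have h1 : VRel B (vecOf l) (vecOf ((gens.getD i id) l)) := (goodFix_getD hg i).vrel hl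
    exact h1.trans (ih _ h1.mem_right)

end Cfsg.Agent.Lib.Helper92
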