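import Cfsg.Agent.Lib.Helper92.LeechDecomp48
import Cfsg.Agent.Lib.Helper92.LeechTrans4

set_option autoImplicit false

open scoped Pointwise

namespace Cfsg.Agent.Lib.Helper92

open Cfsg Cfsg.Spor Cfsg.Agent.Lib.Helper7

/-! ### Bilinearity of the inner product -/

theorem dotInt_add_left (x y z : GolayPt → ℤ) : dotInt (x + y) z = dotInt x z + dotInt y z := by
  unfold dotInt
  rw [← Finset.sum_add_distrib]
  exact Finset.sum_congr rfl (fun i _ => by simp [add_mul])

theorem dotInt_add_right (x y z : GolayPt → ℤ) : dotInt x (y + z) = dotInt x y + dotInt x z := by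
  unfold dotInt
  rw [← Finset.sum_add_distrib]
  exact Finset.sum_congr rfl (fun i _ => by simp [mul_add])

theorem dotInt_comm (x y : GolayPt → ℤ) : dotInt x y = dotInt y x := by
  unfold dotInt
  exact Finset.sum_congr rfl (fun i _ => mul_comm _ _)

theorem dotInt_self (x : GolayPt → ℤ) : dotInt x x = sqNorm x := by
  unfold dotInt sqNorm
  exact Finset.sum_congr rfl (fun i _ => (sq (x i)).symm)

theorem dotInt_neg_right (x y : GolayPt → ℤ) : dotInt x (-y) = -dotInt x y := by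
  unfold dotInt
  rw [← Finset.sum_neg_distrib]
  exact Finset.sum_congr rfl (fun i _ => by simp)

theorem dotInt_neg_left (x y : GolayPt → ℤ) : dotInt (-x) y = -dotInt x y := by
  unfold dotInt
  rw [← Finset.sum_neg_distrib]
  exact Finset.sum_congr rfl (fun i _ => by simp)

theorem sqNorm_add3 (x y z : GolayPt → ℤ) : sqNorm (x + y + z) =
    sqNorm x + sqNorm y + sqNorm z + 2 * dotInt x y + 2 * dotInt x z + 2 * dotInt y z := by
  rw [sqNorm_add, sqNorm_add, dotInt_add_left]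
  ring

/-! ### Explicit vectors -/

/-- A lattice element from a list. -/
def lv (l : List ℤ) (h : leechB l = true) : leechLattice := ⟨vecOf l, leechB_sound h⟩

theorem lv_coe (l : List ℤ) (h : leechB l = true) : ((lv l h : leechLattice) : GolayPt → ℤ) = vecOf l :=
  rfl

/-- `(4, 4, 0, …)`. -/
def qL1 : List ℤ := [4, 0, 0, 0, 0, 0, 0, 0, 0, 0, 0, 0, 0, 0, 0, 0, 0, 0, 0, 0, 0, 0, 0, 4]

/-- `(-4, 0, 4, 0, …)`. -/
def qL2 : List ℤ := [0, 4, 0, 0, 0, 0, 0, 0, 0, 0, 0, 0, 0, 0, 0, 0, 0, 0, 0, 0, 0, 0, 0, -4]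

/-- A minimal vector with inner products `-8`, `-8` with the two above. -/
def qL3 : List ℤ :=
  [-3, -1, -1, -1, -1, -1, -1, -1, -1, -1, -1, -1, 1, -1, 1, -1, 1, 1, 1, -1, -1, -1, 1, 1]

/-- A minimal vector with inner products `-8`, `0` with the two above. -/
def qL4 : List ℤ :=
  [-3, 1, -1, -1, -1, -1, -1, -1, -1, -1, -1, -1, -1, 1, -1, 1, -1, 1, 1, 1, -1, -1, -1, 1]

/-- A vector with sum of squares `48`. -/
def qL5 : List ℤ :=
  [-1, -1, -1, -1, -1, -1, -1, -1, -1, -1, -1, -1, -1, -1, -1, -1, -1, -1, -1, -1, -1, -1, -1, -5]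

/-- A vector with sum of squares `64`. -/
def qL6 : List ℤ := [0, 0, 0, 0, 0, 0, 0, 0, 0, 0, 0, 0, 0, 0, 0, 0, 0, 0, 0, 0, 0, 0, 0, 8]

theorem qL_ok : leechB qL1 = true ∧ leechB qL2 = true ∧ leechB qL3 = true ∧ leechB qL4 = true ∧
    leechB qL5 = true ∧ leechB qL6 = true := by decide +kernel

/-- Sum of squares of a list vector. -/
def nL (l : List ℤ) : ℤ := ((List.range 24).map (fun j => l.getD j 0 ^ 2)).sum

/-- Inner product of list vectors. -/
def dL (l l' : List ℤ) : ℤ := ((List.range 24).map (fun j => l.getD j 0 * l'.getD j 0)).sum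

theorem qL_vals : nL qL1 = 32 ∧ nL qL2 = 32 ∧ nL qL3 = 32 ∧ nL qL4 = 32 ∧ nL qL5 = 48 ∧
    nL qL6 = 64 ∧ dL qL3 qL1 = -8 ∧ dL qL3 qL2 = -8 ∧ dL qL1 qL2 = -16 ∧ dL qL4 qL1 = -8 ∧
    dL qL4 qL2 = 0 := by decide +kernel

/-- A function on the lattice which is constant on classes modulo twice the lattice, quadratic,
invariant under the automorphism group and not identically zero is the reduction of half the
norm. -/
theorem quad_unique (Q : leechLattice → ZMod 2)
    (hcoset : ∀ v w : leechLattice, Q (v + (w + w)) = Q v)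
    (hquad : ∀ u v w : leechLattice,
      Q (u + v + w) + Q u + Q v + Q w = Q (u + v) + Q (u + w) + Q (v + w))
    (hinv : ∀ (g : Co0) (v : leechLattice), Q (g • v) = Q v)
    (hne : ∃ v : leechLattice, Q v ≠ 0) (v : leechLattice) :
    Q v = ((sqNorm (v : GolayPt → ℤ) / 16 : ℤ) : ZMod 2) := by
  have h0 : Q 0 = 0 := by
    have h := hquad 0 0 0
    simp only [add_zero] at h
    revert h
    generalize Q 0 = a
    revert a
    decide
  have c2 : ∀ a b : leechLattice, sqNorm (a : GolayPt → ℤ) = 32 →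
      sqNorm (b : GolayPt → ℤ) = 32 → Q a = Q b := fun a b ha hb => by
    obtain ⟨g, hg⟩ := co0_trans_min a b ha hb
    rw [← hg, hinv]
  have c3 : ∀ a b : leechLattice, sqNorm (a : GolayPt → ℤ) = 48 →
      sqNorm (b : GolayPt → ℤ) = 48 → Q a = Q b := fun a b ha hb => by
    obtain ⟨g, hg⟩ := co0_trans_48 a b ha hb
    rw [← hg, hinv]
  have c4 : ∀ a b : leechLattice, sqNorm (a : GolayPt → ℤ) = 64 →
      sqNorm (b : GolayPt → ℤ) = 64 → Q a = Q b := fun a b ha hb => by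
    obtain ⟨g, hg⟩ := co0_trans_64 a b ha hb
    rw [← hg, hinv]
  obtain ⟨o1, o2, o3, o4, o5, o6⟩ := qL_ok
  obtain ⟨n1, n2, n3, n4, n5, n6, d31, d32, d12, d41, d42⟩ := qL_vals
  have N1 : sqNorm ((lv qL1 o1 : leechLattice) : GolayPt → ℤ) = 32 := (sqNorm_vecOf _).trans n1
  have N2 : sqNorm ((lv qL2 o2 : leechLattice) : GolayPt → ℤ) = 32 := (sqNorm_vecOf _).trans n2
  have N3 : sqNorm ((lv qL3 o3 : leechLattice) : GolayPt → ℤ) = 32 := (sqNorm_vecOf _).trans n3
  have N4 : sqNorm ((lv qL4 o4 : leechLattice) : GolayPt → ℤ) = 32 := (sqNorm_vecOf _).trans n4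
  have N5 : sqNorm ((lv qL5 o5 : leechLattice) : GolayPt → ℤ) = 48 := (sqNorm_vecOf _).trans n5
  have N6 : sqNorm ((lv qL6 o6 : leechLattice) : GolayPt → ℤ) = 64 := (sqNorm_vecOf _).trans n6
  have D31 : dotInt (vecOf qL3) (vecOf qL1) = -8 := (dotInt_vecOf _ _).trans d31
  have D32 : dotInt (vecOf qL3) (vecOf qL2) = -8 := (dotInt_vecOf _ _).trans d32
  have D12 : dotInt (vecOf qL1) (vecOf qL2) = -16 := (dotInt_vecOf _ _).trans d12
  have D41 : dotInt (vecOf qL4) (vecOf qL1) = -8 := (dotInt_vecOf _ _).trans d41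
  have D42 : dotInt (vecOf qL4) (vecOf qL2) = 0 := (dotInt_vecOf _ _).trans d42
  have N1' : sqNorm (vecOf qL1) = 32 := N1
  have N2' : sqNorm (vecOf qL2) = 32 := N2
  have N3' : sqNorm (vecOf qL3) = 32 := N3
  have N4' : sqNorm (vecOf qL4) = 32 := N4
  -- the value on minimal vectors vanishes
  have q2 : Q (lv qL1 o1) = 0 := by
    have e := hquad (lv qL3 o3) (lv qL1 o1) (lv qL2 o2)
    have m1 : sqNorm ((lv qL3 o3 + lv qL1 o1 + lv qL2 o2 : leechLattice) : GolayPt → ℤ) = 32 := by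
      show sqNorm (vecOf qL3 + vecOf qL1 + vecOf qL2) = 32
      rw [sqNorm_add3, N1', N2', N3', D31, D32, D12]
      norm_num
    have m2 : sqNorm ((lv qL3 o3 + lv qL1 o1 : leechLattice) : GolayPt → ℤ) = 48 := by
      show sqNorm (vecOf qL3 + vecOf qL1) = 48
      rw [sqNorm_add, N1', N3', D31]
      norm_num
    have m3 : sqNorm ((lv qL3 o3 + lv qL2 o2 : leechLattice) : GolayPt → ℤ) = 48 := by
      show sqNorm (vecOf qL3 + vecOf qL2) = 48
      rw [sqNorm_add, N2', N3', D32]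
      norm_num
    have m4 : sqNorm ((lv qL1 o1 + lv qL2 o2 : leechLattice) : GolayPt → ℤ) = 32 := by
      show sqNorm (vecOf qL1 + vecOf qL2) = 32
      rw [sqNorm_add, N1', N2', D12]
      norm_num
    rw [c2 _ _ m1 N1, c2 _ _ N3 N1, c2 _ _ N2 N1, c3 _ _ m2 N5, c3 _ _ m3 N5, c2 _ _ m4 N1] at e
    revert e
    generalize Q (lv qL1 o1) = a
    generalize Q (lv qL5 o5) = b
    revert a b
    decide
  have q4 : Q (lv qL6 o6) = 0 := by
    have e := hquad (lv qL4 o4) (lv qL1 o1) (lv qL2 o2)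
    have m1 : sqNorm ((lv qL4 o4 + lv qL1 o1 + lv qL2 o2 : leechLattice) : GolayPt → ℤ) = 48 := by
      show sqNorm (vecOf qL4 + vecOf qL1 + vecOf qL2) = 48
      rw [sqNorm_add3, N1', N2', N4', D41, D42, D12]
      norm_num
    have m2 : sqNorm ((lv qL4 o4 + lv qL1 o1 : leechLattice) : GolayPt → ℤ) = 48 := by
      show sqNorm (vecOf qL4 + vecOf qL1) = 48
      rw [sqNorm_add, N1', N4', D41]
      norm_num
    have m3 : sqNorm ((lv qL4 o4 + lv qL2 o2 : leechLattice) : GolayPt → ℤ) = 64 := by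
      show sqNorm (vecOf qL4 + vecOf qL2) = 64
      rw [sqNorm_add, N2', N4', D42]
      norm_num
    have m4 : sqNorm ((lv qL1 o1 + lv qL2 o2 : leechLattice) : GolayPt → ℤ) = 32 := by
      show sqNorm (vecOf qL1 + vecOf qL2) = 32
      rw [sqNorm_add, N1', N2', D12]
      norm_num
    rw [c3 _ _ m1 N5, c2 _ _ N4 N1, c2 _ _ N2 N1, c3 _ _ m2 N5, c4 _ _ m3 N6, c2 _ _ m4 N1, q2] at e
    revert e
    generalize Q (lv qL6 o6) = a
    generalize Q (lv qL5 o5) = b
    revert a b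
    decide
  -- reduction to short vectors
  have key : ∀ x : leechLattice, ∃ n k : ℤ, sqNorm (x : GolayPt → ℤ) = n + 32 * k ∧
      (n = 0 ∨ n = 32 ∨ n = 48 ∨ n = 64) ∧ Q x = if n = 48 then Q (lv qL5 o5) else 0 := by
    intro x
    obtain ⟨y, hy, hyn, z, hz, hxz⟩ := exists_short x.1 x.2
    have ex : x = ⟨y, hy⟩ + (⟨z, hz⟩ + ⟨z, hz⟩) := by
      apply Subtype.ext
      show x.1 = y + (z + z)
      rw [← two_smul ℕ z, ← hxz]
      abel
    have eQ : Q x = Q ⟨y, hy⟩ := by rw [ex, hcoset]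
    have hn : sqNorm (x : GolayPt → ℤ) = sqNorm y + 4 * sqNorm z + 4 * dotInt y z := by
      have e1 : (x : GolayPt → ℤ) = y + z + z := by rw [ex]; show y + (z + z) = y + z + z; abel
      rw [e1, sqNorm_add3, dotInt_self]
      ring
    obtain ⟨a, ha⟩ := sqNorm_dvd hz
    obtain ⟨b, hb⟩ := dotInt_dvd hy hz
    refine ⟨sqNorm y, 2 * a + b, by rw [hn, ha, hb]; ring, ?_, ?_⟩
    · have := sqNorm_cases (mem_shortF.mpr ⟨hy, hyn⟩)
      simpa using this
    · rw [eQ]
      have hc := sqNorm_cases (mem_shortF.mpr ⟨hy, hyn⟩)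
      simp only [Finset.mem_insert, Finset.mem_singleton] at hc
      rcases hc with h | h | h | h
      · rw [if_neg (by omega)]
        have : (⟨y, hy⟩ : leechLattice) = 0 := Subtype.ext (sqNorm_eq_zero h)
        rw [this, h0]
      · rw [if_neg (by omega), c2 ⟨y, hy⟩ (lv qL1 o1) h N1, q2]
      · rw [if_pos h]
        exact c3 ⟨y, hy⟩ (lv qL5 o5) h N5
      · rw [if_neg (by omega), c4 ⟨y, hy⟩ (lv qL6 o6) h N6, q4]
  have q3 : Q (lv qL5 o5) = 1 := by
    obtain ⟨x, hx⟩ := hne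
    obtain ⟨n, k, -, -, e⟩ := key x
    rcases zmod2_cases (Q (lv qL5 o5)) with h | h
    · rw [h] at e
      simp at e
      exact absurd e hx
    · exact h
  obtain ⟨n, k, e1, e2, e3⟩ := key v
  rw [e3, q3, e1, cast_bit]
  rcases e2 with h | h | h | h
  · rw [if_neg (by omega), if_neg (by omega)]
  · rw [if_neg (by omega), if_neg (by omega)]
  · rw [if_pos h, if_pos (by omega)]
  · rw [if_neg (by omega), if_neg (by omega)]

end Cfsg.Agent.Lib.Helper92
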