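import Cfsg.Agent.Lib.Helper92.LeechVecOrb
import Cfsg.Agent.Lib.Helper92.LeechQuad

set_option autoImplicit false

open scoped Pointwise

namespace Cfsg.Agent.Lib.Helper92

open Cfsg Cfsg.Spor Cfsg.Agent.Lib.Helper7

/-! ### Orbits of stabilisers on sets of minimal vectors with prescribed inner products -/

/-- The conditions, on a list. -/
def condL (conds : List (List ℤ × ℤ)) (l : List ℤ) : Bool :=
  conds.all (fun p => intEqB (dotL p.1 l) p.2)

/-- The minimal vectors with the given inner products with the given vectors. -/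
def XSet (conds : List (List ℤ × ℤ)) : Set leechLattice :=
  {x | sqNorm (x : GolayPt → ℤ) = 32 ∧
    ∀ p ∈ conds, dotInt (vecOf p.1) (x : GolayPt → ℤ) = p.2}

theorem condL_toL {conds : List (List ℤ × ℤ)} (hc : ∀ p ∈ conds, p.1.length = 24)
    (x : GolayPt → ℤ) :
    condL conds (toL x) = true ↔ ∀ p ∈ conds, dotInt (vecOf p.1) x = p.2 := by
  unfold condL
  rw [List.all_eq_true]
  refine forall₂_congr (fun p hp => ?_)
  rw [intEqB_iff, ← dotL_vecOf (hc p hp) (length_toL x), vecOf_toL]

theorem condL_vecOf {conds : List (List ℤ × ℤ)} (hc : ∀ p ∈ conds, p.1.length = 24)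
    {l : List ℤ} (hl : l.length = 24) :
    condL conds l = true ↔ ∀ p ∈ conds, dotInt (vecOf p.1) (vecOf l) = p.2 := by
  rw [← condL_toL hc, toL_vecOf hl]

theorem leechB_toL {x : GolayPt → ℤ} (hx : x ∈ leechLattice) : leechB (toL x) = true := by
  obtain ⟨m, h1, h2, h3⟩ := (mem_leechLattice_iff x).mp hx
  have hget : ∀ j < 24, (toL x).getD j 0 = x (pt j) := fun j hj => getD_map_range24 _ hj
  unfold leechB
  rw [Bool.and_eq_true, Bool.and_eq_true]
  refine ⟨⟨?_, ?_⟩, ?_⟩
  · rw [List.all_eq_true]
    intro j hj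
    rw [decide_eq_true_eq, hget j (List.mem_range.mp hj), hget 0 (by norm_num)]
    have a := h1 (pt j)
    have b := h1 (pt 0)
    unfold Int.ModEq at a b
    omega
  · rw [decide_eq_true_eq, hget 0 (by norm_num)]
    have hs : ((List.range 24).map (fun j => (toL x).getD j 0)).sum = ∑ i, x i := by
      rw [sum_pt]
      exact congrArg List.sum (List.map_congr_left (fun j hj => hget j (List.mem_range.mp hj)))
    rw [hs]
    have b := h1 (pt 0)
    unfold Int.ModEq at b h2
    omega
  · have e := bitWord_vecOf (toL x)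
    rw [vecOf_toL] at e
    have hlt : bitMaskL (toL x) < 2 ^ 24 := ofBits_lt _ _
    rw [← wordOf_mem_golayCode_iff hlt, ← e]
    exact h3

/-- The conditions and membership in the lattice, on a list. -/
def condLB (conds : List (List ℤ × ℤ)) (l : List ℤ) : Bool := condL conds l && leechB l

/-- The check that the candidates satisfying the conditions are the given ones. -/
def chkFib (conds : List (List ℤ × ℤ)) : List (List ℤ) → List (List ℤ) → Bool
  | [], E => E.isEmpty
  | c :: cs, E =>
    if condLB conds c then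
      match E with
      | e :: E' => listEqB c e && chkFib conds cs E'
      | [] => false
    else chkFib conds cs E

theorem chkFib_sound (conds : List (List ℤ × ℤ)) : ∀ (cs E : List (List ℤ)),
    chkFib conds cs E = true → cs.filter (condLB conds) = E := by
  intro cs
  induction cs with
  | nil =>
    intro E h
    simp only [chkFib, List.isEmpty_iff] at h
    rw [h]
    rfl
  | cons c cs ih =>
    intro E h
    simp only [chkFib] at h
    by_cases hc : condLB conds c = true
    · rw [if_pos hc] at h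
      cases E with
      | nil => simp at h
      | cons e E' =>
        simp only [Bool.and_eq_true] at h
        rw [List.filter_cons_of_pos hc, (listEqB_iff _ _).mp h.1, ih E' h.2]
    · rw [if_neg hc] at h
      rw [List.filter_cons_of_neg hc]
      exact ih E h

/-- The check that the entries of a list are distinct. -/
def nodupB : List (List ℤ) → Bool
  | [] => true
  | a :: as => !(as.any (listEqB a)) && nodupB as

theorem nodupB_sound : ∀ l : List (List ℤ), nodupB l = true → l.Nodup
  | [], _ => List.nodup_nil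
  | a :: as, h => by
    simp only [nodupB, Bool.and_eq_true, Bool.not_eq_true', List.any_eq_false] at h
    refine List.nodup_cons.mpr ⟨fun hmem => ?_, nodupB_sound as h.2⟩
    have := h.1 a hmem
    rw [(listEqB_iff a a).mpr rfl] at this
    exact absurd this (by simp)

/-- The check for the vectors with word of second digits a representative. -/
def fibOK (conds : List (List ℤ × ℤ)) (marked : List (List ℤ)) (r : ℕ)
    (f : List ℕ × List (List ℤ)) : Bool :=
  decide (bitsOf r = f.1) && chkFib conds (cands r f.1) f.2 &&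
    f.2.all (fun e => Nat.beq e.length 24 && Nat.beq (bitMaskL e) r && marked.any (listEqB e)) &&
    nodupB f.2

/-- The whole check. -/
def mainChk (B : List (List ℤ)) (conds : List (List ℤ × ℤ)) (x0 : List ℤ)
    (gens : List (List Prim)) (gmids : List (List (List (List ℤ)))) (mt : List (ℕ × List ℕ))
    (reps : List ℕ) (vis : List (ℕ × ℕ)) (fib : List (List ℕ × List (List ℤ)))
    (prog : List Ins) (N : ℕ) : Bool :=
  B.all (fun b => leechB b && Nat.beq b.length 24) &&
  conds.all (fun p => B.any (listEqB p.1)) &&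
  leechB x0 && Nat.beq x0.length 24 && intEqB (dotL x0 x0) 32 && condL conds x0 &&
  Nat.beq gmids.length gens.length && (gens.zip gmids).all (fun gm => genOK B gm.1 gm.2) &&
  mt.all (fun tw => Nat.beq (invT (evalT [tA, tB, tC] tw.2)) tw.1 &&
    B.all (fun b => listEqB (permL tw.1 b) b)) &&
  Nat.beq fib.length reps.length &&
  (match runV gens prog [x0] [] with
   | some marked => (reps.zip fib).all (fun rf => fibOK conds marked rf.1 rf.2)
   | none => false) &&
  Nat.beq (vis.foldl (fun s p => s + (fib.getD p.2 ([], [])).2.length) 0) N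

theorem foldl_add_eq {α : Type} (f : α → ℕ) : ∀ (l : List α) (a : ℕ),
    l.foldl (fun s p => s + f p) a = a + (l.map f).sum
  | [], a => by simp
  | p :: l, a => by
    rw [List.foldl_cons, foldl_add_eq f l, List.map_cons, List.sum_cons]
    omega

theorem xset_finite (conds : List (List ℤ × ℤ)) : (XSet conds).Finite := by
  have h : (Subtype.val ⁻¹' shortSet : Set leechLattice).Finite :=
    Set.Finite.preimage (Set.injOn_of_injective Subtype.val_injective) shortSet_finite
  refine h.subset (fun x hx => ?_)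
  show (x : GolayPt → ℤ) ∈ shortSet
  exact ⟨x.2, by rw [hx.1]; norm_num⟩

theorem xset_smul {B : List (List ℤ)} {conds : List (List ℤ × ℤ)}
    (hB : ∀ b ∈ B, vecOf b ∈ leechLattice) (hc : ∀ p ∈ conds, p.1 ∈ B) {g : Co0}
    (hg : FixB B g) (x : leechLattice) : g • x ∈ XSet conds ↔ x ∈ XSet conds := by
  have key : ∀ p ∈ conds, dotInt (vecOf p.1) ((g • x : leechLattice) : GolayPt → ℤ) =
      dotInt (vecOf p.1) (x : GolayPt → ℤ) := by
    intro p hp
    have h1 := hB p.1 (hc p hp)
    have h2 := co0_smul_dotInt g ⟨vecOf p.1, h1⟩ x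
    rw [hg p.1 (hc p hp) h1] at h2
    exact h2
  unfold XSet
  simp only [Set.mem_ofPred_eq, co0_smul_sqNorm]
  constructor
  · rintro ⟨h1, h2⟩
    exact ⟨h1, fun p hp => (key p hp).symm.trans (h2 p hp)⟩
  · rintro ⟨h1, h2⟩
    exact ⟨h1, fun p hp => (key p hp).trans (h2 p hp)⟩

/-- The vectors of the set with a given word of second digits. -/
def Fib (conds : List (List ℤ × ℤ)) (m : ℕ) : Set leechLattice :=
  {x | x ∈ XSet conds ∧ bitWord (x : GolayPt → ℤ) = wordOf m}

theorem fib_transfer {B : List (List ℤ)} {conds : List (List ℤ × ℤ)}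
    (hB : ∀ b ∈ B, vecOf b ∈ leechLattice) (hc : ∀ p ∈ conds, p.1 ∈ B) {m m' : ℕ}
    (h : MRel B m m') :
    ∃ g : Co0, FixB B g ∧ Fib conds m' = (fun x => g • x) '' Fib conds m := by
  obtain ⟨g, hg, -, -, hb⟩ := h
  refine ⟨g, hg, ?_⟩
  ext y
  constructor
  · rintro ⟨hy1, hy2⟩
    refine ⟨g⁻¹ • y, ⟨?_, ?_⟩, smul_inv_smul g y⟩
    · rw [← xset_smul hB hc hg, smul_inv_smul]
      exact hy1
    · rw [hb, smul_inv_smul]
      exact hy2
  · rintro ⟨x, ⟨hx1, hx2⟩, rfl⟩
    exact ⟨(xset_smul hB hc hg x).mpr hx1, (hb x).mp hx2⟩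

theorem toL_injective : Function.Injective (fun x : leechLattice => toL (x : GolayPt → ℤ)) := by
  intro x y h
  apply Subtype.ext
  have := congrArg vecOf h
  simpa [vecOf_toL] using this

/-- The union of the sets `Fib` over a list of masks. -/
def FibU (conds : List (List ℤ × ℤ)) (L : List ℕ) : Set leechLattice :=
  {x | x ∈ XSet conds ∧ ∃ m ∈ L, bitWord (x : GolayPt → ℤ) = wordOf m}

theorem ncard_fibU (conds : List (List ℤ × ℤ)) : ∀ (L : List ℕ), L.Nodup → (∀ m ∈ L, m < 2 ^ 24) →
    (FibU conds L).ncard = (L.map (fun m => (Fib conds m).ncard)).sum := by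
  intro L
  induction L with
  | nil =>
    intro _ _
    have : FibU conds [] = ∅ := by
      ext x
      simp [FibU]
    rw [this]
    simp
  | cons m L ih =>
    intro hnd hlt
    have hu : FibU conds (m :: L) = Fib conds m ∪ FibU conds L := by
      ext x
      simp only [FibU, Fib, Set.mem_ofPred_eq, List.mem_cons, Set.mem_union]
      constructor
      · rintro ⟨h1, m', hm' | hm', h2⟩
        · left; rw [hm'] at h2; exact ⟨h1, h2⟩
        · right; exact ⟨h1, m', hm', h2⟩
      · rintro (⟨h1, h2⟩ | ⟨h1, m', hm', h2⟩)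
        · exact ⟨h1, m, Or.inl rfl, h2⟩
        · exact ⟨h1, m', Or.inr hm', h2⟩
    have hd : Disjoint (Fib conds m) (FibU conds L) := by
      rw [Set.disjoint_left]
      rintro x ⟨-, h2⟩ ⟨-, m', hm', h2'⟩
      have : m = m' := wordOf_inj (hlt m List.mem_cons_self)
        (hlt m' (List.mem_cons_of_mem _ hm')) (h2.symm.trans h2')
      rw [this] at hnd
      exact (List.nodup_cons.mp hnd).1 hm'
    have hf1 : (Fib conds m).Finite := (xset_finite conds).subset (fun x hx => hx.1)
    have hf2 : (FibU conds L).Finite := (xset_finite conds).subset (fun x hx => hx.1)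
    rw [hu, Set.ncard_union_eq hd hf1 hf2, List.map_cons, List.sum_cons,
      ih (List.nodup_cons.mp hnd).2 (fun m' hm' => hlt m' (List.mem_cons_of_mem _ hm'))]

theorem fib_rep {B : List (List ℤ)} {conds : List (List ℤ × ℤ)} {x0 : List ℤ}
    (hB : ∀ b ∈ B, vecOf b ∈ leechLattice) (hc : ∀ p ∈ conds, p.1 ∈ B)
    (hcl : ∀ p ∈ conds, p.1.length = 24) (hx0L : vecOf x0 ∈ leechLattice)
    (hx0X : (⟨vecOf x0, hx0L⟩ : leechLattice) ∈ XSet conds) {marked : List (List ℤ)}
    (hmarked : ∀ v ∈ marked, VRel B (vecOf x0) (vecOf v)) {r : ℕ} (hr : r < 2 ^ 24)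
    {f : List ℕ × List (List ℤ)} (hf : fibOK conds marked r f = true) :
    (Fib conds r).ncard = f.2.length ∧
      ∀ x ∈ Fib conds r, VRel B (vecOf x0) (x : GolayPt → ℤ) := by
  unfold fibOK at hf
  simp only [Bool.and_eq_true, decide_eq_true_eq] at hf
  obtain ⟨⟨⟨f1, f2⟩, f3⟩, f4⟩ := hf
  have hfil := chkFib_sound conds _ _ f2
  have K1 : ∀ x ∈ Fib conds r, toL (x : GolayPt → ℤ) ∈ f.2 := by
    rintro x ⟨⟨hx1, hx2⟩, hx3⟩
    rw [← hfil, List.mem_filter, ← f1]
    refine ⟨fiber_enum x.2 hx1 hr hx3, ?_⟩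
    unfold condLB
    rw [Bool.and_eq_true]
    exact ⟨(condL_toL hcl _).mpr hx2, leechB_toL x.2⟩
  have K2 : ∀ e ∈ f.2, e.length = 24 ∧ bitMaskL e = r ∧ VRel B (vecOf x0) (vecOf e) := by
    intro e he
    have := List.all_eq_true.mp f3 e he
    simp only [Bool.and_eq_true] at this
    obtain ⟨⟨e1, e2⟩, e3⟩ := this
    obtain ⟨v, hv, hve⟩ := List.any_eq_true.mp e3
    rw [(listEqB_iff _ _).mp hve]
    rw [(listEqB_iff _ _).mp hve] at e1 e2
    exact ⟨Nat.eq_of_beq_eq_true e1, Nat.eq_of_beq_eq_true e2, hmarked v hv⟩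
  have K3 : ∀ e ∈ f.2, ∃ h : vecOf e ∈ leechLattice, (⟨vecOf e, h⟩ : leechLattice) ∈ Fib conds r := by
    intro e he
    obtain ⟨e1, e2, e3⟩ := K2 e he
    obtain ⟨g, hg, hx, hge⟩ := e3
    have hm : vecOf e ∈ leechLattice := by rw [← hge]; exact Subtype.coe_prop _
    refine ⟨hm, ?_, ?_⟩
    · have : (⟨vecOf e, hm⟩ : leechLattice) = g • (⟨vecOf x0, hx0L⟩ : leechLattice) :=
        Subtype.ext hge.symm
      rw [this, xset_smul hB hc hg]
      exact hx0X
    · show bitWord (vecOf e) = wordOf r
      rw [bitWord_vecOf, e2]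
  constructor
  · have himg : (fun x : leechLattice => toL (x : GolayPt → ℤ)) '' Fib conds r =
        ((f.2.toFinset : Finset (List ℤ)) : Set (List ℤ)) := by
      ext e
      simp only [Set.mem_image, Finset.mem_coe, List.mem_toFinset]
      constructor
      · rintro ⟨x, hx, rfl⟩
        exact K1 x hx
      · intro he
        obtain ⟨hm, hfib⟩ := K3 e he
        exact ⟨⟨vecOf e, hm⟩, hfib, toL_vecOf (K2 e he).1⟩
    rw [← Set.ncard_image_of_injective _ toL_injective, himg, Set.ncard_coe_finset,
      List.toFinset_card_of_nodup (nodupB_sound _ f4)]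
  · intro x hx
    have h1 := K1 x hx
    have h2 := (K2 _ h1).2.2
    rw [vecOf_toL] at h2
    exact h2

/-- The main theorem: the check implies that the stabiliser of the base vectors is transitive
on the set, and gives the number of its elements. -/
theorem orbit_main (B : List (List ℤ)) (conds : List (List ℤ × ℤ)) (x0 : List ℤ)
    (gens : List (List Prim)) (gmids : List (List (List (List ℤ)))) (mt : List (ℕ × List ℕ))
    (reps : List ℕ) (progs : List (List (Option (ℕ × ℕ)))) (vis : List (ℕ × ℕ))
    (fib : List (List ℕ × List (List ℤ))) (prog : List Ins) (N : ℕ)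
    (hreps : reps.all (fun r => isCode r && decide (r < 2 ^ 24)) = true)
    (hrun : runAll (mt.map Prod.fst) reps 0 progs [] = some vis)
    (hbm : bmAdd (vis.map (fun p => p.1 >>> 12)) 0 = some (2 ^ 4096 - 1))
    (hchk : mainChk B conds x0 gens gmids mt reps vis fib prog N = true) :
    (∀ x ∈ XSet conds, ∃ g : Co0, FixB B g ∧ ∃ h0 : vecOf x0 ∈ leechLattice,
      g • (⟨vecOf x0, h0⟩ : leechLattice) = x) ∧ (XSet conds).ncard = N := by
  unfold mainChk at hchk
  simp only [Bool.and_eq_true] at hchk
  obtain ⟨⟨⟨⟨⟨⟨⟨⟨⟨⟨⟨c1, c2⟩, c3⟩, c4⟩, c5⟩, c6⟩, c7⟩, c8⟩, c9⟩, c10⟩, c11⟩, c12⟩ := hchk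
  have hB : ∀ b ∈ B, vecOf b ∈ leechLattice ∧ b.length = 24 := by
    intro b hb
    have := List.all_eq_true.mp c1 b hb
    rw [Bool.and_eq_true] at this
    exact ⟨leechB_sound this.1, Nat.eq_of_beq_eq_true this.2⟩
  have hcB : ∀ p ∈ conds, p.1 ∈ B := by
    intro p hp
    have := List.all_eq_true.mp c2 p hp
    obtain ⟨b, hb, hbe⟩ := List.any_eq_true.mp this
    rw [(listEqB_iff _ _).mp hbe]
    exact hb
  have hcl : ∀ p ∈ conds, p.1.length = 24 := fun p hp => (hB p.1 (hcB p hp)).2
  have hBL : ∀ b ∈ B, vecOf b ∈ leechLattice := fun b hb => (hB b hb).1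
  have hx0L : vecOf x0 ∈ leechLattice := leechB_sound c3
  have hx0len : x0.length = 24 := Nat.eq_of_beq_eq_true c4
  have hx0X : (⟨vecOf x0, hx0L⟩ : leechLattice) ∈ XSet conds := by
    refine ⟨?_, (condL_vecOf hcl hx0len).mp c6⟩
    show sqNorm (vecOf x0) = 32
    rw [← dotInt_self, dotL_vecOf hx0len hx0len]
    exact (intEqB_iff _ _).mp c5
  have hgens : ∀ g ∈ gens, GoodFix B (opsApp (g.map Prim.fn)) := by
    intro g hg
    obtain ⟨i, hi, rfl⟩ := List.mem_iff_getElem.mp hg
    have hlen : gmids.length = gens.length := Nat.eq_of_beq_eq_true c7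
    have hmem : (gens[i], gmids[i]'(by omega)) ∈ gens.zip gmids := by
      have : (gens.zip gmids)[i]'(by rw [List.length_zip]; omega) =
          (gens[i], gmids[i]'(by omega)) := List.getElem_zip
      rw [← this]
      exact List.getElem_mem _
    exact genOK_sound (List.all_eq_true.mp c8 _ hmem)
  have hmt : ∀ t ∈ mt.map Prod.fst, MFix B t := by
    intro t ht
    obtain ⟨tw, htw, rfl⟩ := List.mem_map.mp ht
    have := List.all_eq_true.mp c9 tw htw
    rw [Bool.and_eq_true] at this
    exact mfix_of_word tw.2 (Nat.eq_of_beq_eq_true this.1)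
      (fun b hb => (listEqB_iff _ _).mp (List.all_eq_true.mp this.2 b hb))
  have hrepsP : ∀ rep ∈ reps, isCode rep = true ∧ rep < 2 ^ 24 := by
    intro rep hrep
    have := List.all_eq_true.mp hreps rep hrep
    rw [Bool.and_eq_true, decide_eq_true_eq] at this
    exact this
  have hvis := runAll_sound hmt reps (fun rep hrep => (hrepsP rep hrep).2) progs 0 [] vis hrun
    (fun p hp => absurd hp List.not_mem_nil)
  obtain ⟨hnd, hcov⟩ := bmAdd_full hbm
  cases hrv : runV gens prog [x0] [] with
  | none =>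
    rw [hrv] at c11
    simp at c11
  | some marked =>
    rw [hrv] at c11
    simp only at c11
    have hmarked : ∀ v ∈ marked, VRel B (vecOf x0) (vecOf v) :=
      runV_sound hgens (vecOf x0) prog [x0] [] marked hrv
        (fun v hv => by
          rw [List.mem_singleton] at hv
          rw [hv]
          exact VRel.refl B hx0L)
        (fun v hv => absurd hv List.not_mem_nil)
    have hflen : fib.length = reps.length := Nat.eq_of_beq_eq_true c10
    -- facts for each visited mask
    have hp : ∀ p ∈ vis, (Fib conds p.1).ncard = (fib.getD p.2 ([], [])).2.length ∧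
        (∀ x ∈ Fib conds p.1, ∃ g : Co0, FixB B g ∧ ∃ h0 : vecOf x0 ∈ leechLattice,
          g • (⟨vecOf x0, h0⟩ : leechLattice) = x) ∧ p.1 < 2 ^ 24 ∧ enc (p.1 >>> 12) = p.1 := by
      intro p hpv
      obtain ⟨hrel, hlt⟩ := hvis p hpv
      have hget : reps.getD p.2 0 = reps[p.2] := List.getD_eq_getElem _ _ hlt
      have hgetf : fib.getD p.2 ([], []) = fib[p.2]'(by omega) :=
        List.getD_eq_getElem _ _ (by omega)
      rw [hget] at hrel
      have hrp := hrepsP reps[p.2] (List.getElem_mem hlt)
      have hfok : fibOK conds marked reps[p.2] (fib[p.2]'(by omega)) = true := by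
        have hmem : (reps[p.2], fib[p.2]'(by omega)) ∈ reps.zip fib := by
          have : (reps.zip fib)[p.2]'(by rw [List.length_zip]; omega) =
              (reps[p.2], fib[p.2]'(by omega)) := List.getElem_zip
          rw [← this]
          exact List.getElem_mem _
        exact List.all_eq_true.mp c11 _ hmem
      obtain ⟨hcard, htrans⟩ := fib_rep hBL hcB hcl hx0L hx0X hmarked hrp.2 hfok
      obtain ⟨g, hg, hfe⟩ := fib_transfer (conds := conds) hBL hcB hrel
      obtain ⟨-, -, hcw, hplt, -⟩ := hrel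
      refine ⟨?_, ?_, hplt, ?_⟩
      · rw [hfe, Set.ncard_image_of_injective _ (MulAction.injective g), hcard, hgetf]
      · intro y hy
        rw [hfe] at hy
        obtain ⟨x, hx, rfl⟩ := hy
        obtain ⟨g0, hg0, hx0', he⟩ := htrans x hx
        refine ⟨g * g0, fun b hb h => ?_, hx0L, ?_⟩
        · rw [mul_smul, hg0 b hb h, hg b hb h]
        · rw [mul_smul]
          congr 1
          exact Subtype.ext he
      · have h1 : wordOf p.1 ∈ golayCode :=
          hcw ((wordOf_mem_golayCode_iff hrp.2).mpr hrp.1)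
        have h2 := (wordOf_mem_golayCode_iff hplt).mp h1
        unfold isCode at h2
        exact beq_iff_eq.mp h2
    have hndm : (vis.map Prod.fst).Nodup := by
      have : vis.map (fun p => p.1 >>> 12) = (vis.map Prod.fst).map (fun m => m >>> 12) := by
        rw [List.map_map]
        rfl
      rw [this] at hnd
      exact List.Nodup.of_map _ hnd
    have hcover : XSet conds = FibU conds (vis.map Prod.fst) := by
      ext x
      constructor
      · intro hx
        refine ⟨hx, ?_⟩
        obtain ⟨m, -, -, hcode⟩ := (mem_leechLattice_iff _).mp x.2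
        obtain ⟨k, hk, hbk⟩ := (mem_golayCode_iff _).mp hcode
        obtain ⟨p, hpv, hpk⟩ := List.mem_map.mp ((hcov k).mpr hk)
        refine ⟨p.1, List.mem_map.mpr ⟨p, hpv, rfl⟩, ?_⟩
        rw [hbk, ← hpk, (hp p hpv).2.2.2]
      · intro hx
        exact hx.1
    constructor
    · intro x hx
      rw [hcover] at hx
      obtain ⟨hx1, m, hm, hx2⟩ := hx
      obtain ⟨p, hpv, rfl⟩ := List.mem_map.mp hm
      exact (hp p hpv).2.1 x ⟨hx1, hx2⟩
    · rw [hcover, ncard_fibU conds _ hndm (fun m hm => by
        obtain ⟨p, hpv, rfl⟩ := List.mem_map.mp hm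
        exact (hp p hpv).2.2.1)]
      have hN := Nat.eq_of_beq_eq_true c12
      rw [foldl_add_eq, Nat.zero_add] at hN
      rw [← hN, List.map_map]
      exact congrArg List.sum (List.map_congr_left (fun p hpv => (hp p hpv).1))

end Cfsg.Agent.Lib.Helper92
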