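import Cfsg.Agent.Lib.Helper27.SixPt
import Cfsg.Agent.Lib.Helper27.CodeOrbit
import Cfsg.Agent.S1554

set_option autoImplicit false

open scoped Pointwise

namespace Cfsg.Agent.Lib.Helper92

open Cfsg

/-! ### Moving points and octads while fixing the two base points -/

theorem exists_list_in (s : Finset GolayPt) (n : ℕ) (h : n ≤ s.card) :
    ∃ L : List GolayPt, L.Nodup ∧ L.length = n ∧ ∀ p ∈ L, p ∈ s := by
  refine ⟨s.toList.take n, (s.nodup_toList).sublist (List.take_sublist _ _), ?_, ?_⟩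
  · rw [List.length_take, Finset.length_toList]
    exact Nat.min_eq_left h
  · intro p hp
    exact Finset.mem_toList.mp (List.mem_of_mem_take hp)

/-- An element of the group carrying five points of one octad into another octad carries the
first octad to the second. -/
theorem smul_eq_of_five {g : Equiv.Perm GolayPt} (hg : g ∈ M24) {O O' : Finset GolayPt}
    (hO : O ∈ octads) (hO' : O' ∈ octads) (L : List GolayPt) (hL : L.Nodup) (hlen : L.length = 5)
    (h1 : ∀ p ∈ L, p ∈ O) (h2 : ∀ p ∈ L, g p ∈ O') : g • O = O' := by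
  classical
  apply Cfsg.Agent.Lib.Helper93.octad_eq_of_inter_ge (Cfsg.Agent.Lib.Helper7.smul_mem_octads hg hO) hO'
  have hsub : (L.map (fun p => g p)).toFinset ⊆ g • O ∩ O' := by
    intro q hq
    rw [List.mem_toFinset, List.mem_map] at hq
    obtain ⟨p, hp, rfl⟩ := hq
    rw [Finset.mem_inter]
    exact ⟨Finset.smul_mem_smul_finset (h1 p hp), h2 p hp⟩
  have hc : (L.map (fun p => g p)).toFinset.card = 5 := by
    rw [List.toFinset_card_of_nodup (hL.map g.injective), List.length_map, hlen]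
  rw [← hc]
  exact Finset.card_le_card hsub

theorem exists_fix_map1 {j j' : GolayPt} (hj : j ≠ none) (hj0 : j ≠ some 0) (hj' : j' ≠ none)
    (hj0' : j' ≠ some 0) :
    ∃ π ∈ M24, π none = none ∧ π (some 0) = some 0 ∧ π j = j' :=
  Cfsg.Agent.Lib.Helper27.OO.exists_map3 (p := none) (q := some 0) (r := j) (by simp)
    (Ne.symm hj) (Ne.symm hj0) (by simp) (Ne.symm hj') (Ne.symm hj0')

theorem exists_fix_map2 {i j i' j' : GolayPt} (hi : i ≠ none) (hi0 : i ≠ some 0) (hj : j ≠ none)
    (hj0 : j ≠ some 0) (hij : i ≠ j) (hi' : i' ≠ none) (hi0' : i' ≠ some 0) (hj' : j' ≠ none)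
    (hj0' : j' ≠ some 0) (hij' : i' ≠ j') :
    ∃ π ∈ M24, π none = none ∧ π (some 0) = some 0 ∧ π i = i' ∧ π j = j' := by
  have hL : ([none, some 0, i, j] : List GolayPt).Nodup := by
    simp only [List.nodup_cons, List.mem_cons, List.not_mem_nil, or_false, not_or,
      List.nodup_nil, and_true, not_false_eq_true]
    exact ⟨⟨by simp, Ne.symm hi, Ne.symm hj⟩, ⟨Ne.symm hi0, Ne.symm hj0⟩, hij⟩
  have hL' : ([none, some 0, i', j'] : List GolayPt).Nodup := by
    simp only [List.nodup_cons, List.mem_cons, List.not_mem_nil, or_false, not_or,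
      List.nodup_nil, and_true, not_false_eq_true]
    exact ⟨⟨by simp, Ne.symm hi', Ne.symm hj'⟩, ⟨Ne.symm hi0', Ne.symm hj0'⟩, hij'⟩
  obtain ⟨g, hg, hmap⟩ := Cfsg.Agent.Lib.Helper26.M24_lists_map hL hL' rfl (by simp)
  simp only [List.map_cons, List.map_nil, List.cons.injEq, and_true] at hmap
  exact ⟨g, hg, hmap.1, hmap.2.1, hmap.2.2.1, hmap.2.2.2⟩

/-- Octads through both base points. -/
theorem exists_fix_oct11 {O O' : Finset GolayPt} (hO : O ∈ octads) (hO' : O' ∈ octads)
    (h1 : none ∈ O) (h2 : some 0 ∈ O) (h1' : none ∈ O') (h2' : some 0 ∈ O') :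
    ∃ π ∈ M24, π none = none ∧ π (some 0) = some 0 ∧ π • O = O' := by
  classical
  have hc : 3 ≤ ((O.erase none).erase (some 0)).card := by
    rw [Finset.card_erase_of_mem (by simp [h2]), Finset.card_erase_of_mem h1, hO.2]
    norm_num
  have hc' : 3 ≤ ((O'.erase none).erase (some 0)).card := by
    rw [Finset.card_erase_of_mem (by simp [h2']), Finset.card_erase_of_mem h1', hO'.2]
    norm_num
  obtain ⟨L, hLn, hLl, hLm⟩ := exists_list_in _ 3 hc
  obtain ⟨L', hLn', hLl', hLm'⟩ := exists_list_in _ 3 hc'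
  have hm : ∀ p ∈ L, p ≠ some 0 ∧ p ≠ none ∧ p ∈ O := fun p hp => by
    have := hLm p hp
    simpa [Finset.mem_erase] using this
  have hm' : ∀ p ∈ L', p ≠ some 0 ∧ p ≠ none ∧ p ∈ O' := fun p hp => by
    have := hLm' p hp
    simpa [Finset.mem_erase] using this
  have hN : (none :: some 0 :: L : List GolayPt).Nodup := by
    rw [List.nodup_cons, List.nodup_cons]
    refine ⟨?_, ?_, hLn⟩
    · simp only [List.mem_cons, not_or]
      exact ⟨by simp, fun h => (hm _ h).2.1 rfl⟩
    · exact fun h => (hm _ h).1 rfl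
  have hN' : (none :: some 0 :: L' : List GolayPt).Nodup := by
    rw [List.nodup_cons, List.nodup_cons]
    refine ⟨?_, ?_, hLn'⟩
    · simp only [List.mem_cons, not_or]
      exact ⟨by simp, fun h => (hm' _ h).2.1 rfl⟩
    · exact fun h => (hm' _ h).1 rfl
  obtain ⟨g, hg, hmap⟩ := Cfsg.Agent.Lib.Helper26.M24_lists_map hN hN'
    (by simp [hLl, hLl']) (by simp [hLl])
  simp only [List.map_cons, List.cons.injEq] at hmap
  refine ⟨g, hg, hmap.1, hmap.2.1, ?_⟩
  refine smul_eq_of_five hg hO hO' _ hN (by simp [hLl]) ?_ ?_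
  · intro p hp
    simp only [List.mem_cons] at hp
    rcases hp with rfl | rfl | hp
    · exact h1
    · exact h2
    · exact (hm p hp).2.2
  · intro p hp
    simp only [List.mem_cons] at hp
    rcases hp with rfl | rfl | hp
    · rw [hmap.1]; exact h1'
    · rw [hmap.2.1]; exact h2'
    · have : g p ∈ L' := by
        rw [← hmap.2.2]
        exact List.mem_map.mpr ⟨p, hp, rfl⟩
      exact (hm' _ this).2.2

/-- Octads through the first given point and not through the second. -/
theorem exists_fix_oct10 {a b : GolayPt} (hab : a ≠ b) {O O' : Finset GolayPt}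
    (hO : O ∈ octads) (hO' : O' ∈ octads)
    (h1 : a ∈ O) (h2 : b ∉ O) (h1' : a ∈ O') (h2' : b ∉ O') :
    ∃ π ∈ M24, π a = a ∧ π b = b ∧ π • O = O' := by
  classical
  have hc : 4 ≤ (O.erase a).card := by
    rw [Finset.card_erase_of_mem h1, hO.2]
    norm_num
  have hc' : 4 ≤ (O'.erase a).card := by
    rw [Finset.card_erase_of_mem h1', hO'.2]
    norm_num
  obtain ⟨L, hLn, hLl, hLm⟩ := exists_list_in _ 4 hc
  obtain ⟨L', hLn', hLl', hLm'⟩ := exists_list_in _ 4 hc'
  have hm : ∀ p ∈ L, p ≠ a ∧ p ∈ O := fun p hp => Finset.mem_erase.mp (hLm p hp)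
  have hm' : ∀ p ∈ L', p ≠ a ∧ p ∈ O' := fun p hp => Finset.mem_erase.mp (hLm' p hp)
  have hN : (a :: L).Nodup := List.nodup_cons.mpr ⟨fun h => (hm _ h).1 rfl, hLn⟩
  have hN' : (a :: L').Nodup := List.nodup_cons.mpr ⟨fun h => (hm' _ h).1 rfl, hLn'⟩
  have hin : ∀ p ∈ a :: L, p ∈ O := by
    intro p hp
    rcases List.mem_cons.mp hp with rfl | hp
    · exact h1
    · exact (hm p hp).2
  have hin' : ∀ p ∈ a :: L', p ∈ O' := by
    intro p hp
    rcases List.mem_cons.mp hp with rfl | hp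
    · exact h1'
    · exact (hm' p hp).2
  have hNx : ((a :: L) ++ [b]).Nodup := by
    rw [List.nodup_append]
    refine ⟨hN, List.nodup_singleton b, ?_⟩
    intro p hp q hq
    rw [List.mem_singleton] at hq
    subst hq
    exact fun h => h2 (h ▸ hin p hp)
  have hNx' : ((a :: L') ++ [b]).Nodup := by
    rw [List.nodup_append]
    refine ⟨hN', List.nodup_singleton b, ?_⟩
    intro p hp q hq
    rw [List.mem_singleton] at hq
    subst hq
    exact fun h => h2' (h ▸ hin' p hp)
  have hno : ∀ {O : Finset GolayPt} {L : List GolayPt}, O ∈ octads → L.Nodup → L.length = 5 →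
      (∀ p ∈ L, p ∈ O) → b ∉ O → ¬ ∃ o ∈ octads, (∀ z ∈ L, z ∈ o) ∧ b ∈ o := by
    intro O L hO hL hl hin hb
    rintro ⟨o, ho, hz, hbo⟩
    have h5 : 5 ≤ (O ∩ o).card := by
      have hsub : L.toFinset ⊆ O ∩ o := by
        intro p hp
        rw [List.mem_toFinset] at hp
        exact Finset.mem_inter.mpr ⟨hin p hp, hz p hp⟩
      have := Finset.card_le_card hsub
      rwa [List.toFinset_card_of_nodup hL, hl] at this
    have := Cfsg.Agent.Lib.Helper93.octad_eq_of_inter_ge hO ho h5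
    exact hb (this ▸ hbo)
  obtain ⟨g, hg, hmap, hgb⟩ := Cfsg.Agent.Lib.Helper27.SixPt.six_trans hNx hNx'
    (by simp [hLl]) (by simp [hLl'])
    (iff_of_false (hno hO hN (by simp [hLl]) hin h2) (hno hO' hN' (by simp [hLl']) hin' h2'))
  simp only [List.map_cons, List.cons.injEq] at hmap
  refine ⟨g, hg, hmap.1, hgb, ?_⟩
  refine smul_eq_of_five hg hO hO' _ hN (by simp [hLl]) hin ?_
  intro p hp
  apply hin'
  rcases List.mem_cons.mp hp with rfl | hp
  · rw [hmap.1]; exact List.mem_cons_self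
  · exact List.mem_cons_of_mem _ (by
      rw [← hmap.2]
      exact List.mem_map.mpr ⟨p, hp, rfl⟩)

theorem oct00_setup {O : Finset GolayPt} (hO : O ∈ octads) (h1 : none ∉ O) (h2 : some 0 ∉ O) :
    ∃ a b c d : GolayPt, ∃ Q ∈ octads, ([none, some 0, a, b, c] ++ [d]).Nodup ∧
      (∀ z ∈ [none, some 0, a, b, c], z ∈ Q) ∧ d ∈ Q ∧ a ∈ O ∧ b ∈ O ∧ c ∈ O ∧ d ∈ O := by
  classical
  obtain ⟨L, hLn, hLl, hLm⟩ := exists_list_in O 3 (by rw [hO.2]; norm_num)
  obtain ⟨a, b, c, rfl⟩ := List.length_eq_three.mp hLl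
  have ha : a ∈ O := hLm a (by simp)
  have hb : b ∈ O := hLm b (by simp)
  have hc : c ∈ O := hLm c (by simp)
  have hN : ([none, some 0, a, b, c] : List GolayPt).Nodup := by
    rw [List.nodup_cons, List.nodup_cons]
    refine ⟨?_, ?_, hLn⟩
    · simp only [List.mem_cons, List.not_mem_nil, or_false, not_or]
      exact ⟨by simp, fun h => h1 (h ▸ ha), fun h => h1 (h ▸ hb), fun h => h1 (h ▸ hc)⟩
    · simp only [List.mem_cons, List.not_mem_nil, or_false, not_or]
      exact ⟨fun h => h2 (h ▸ ha), fun h => h2 (h ▸ hb), fun h => h2 (h ▸ hc)⟩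
  have hcard : ([none, some 0, a, b, c] : List GolayPt).toFinset.card = 5 := by
    rw [List.toFinset_card_of_nodup hN]; rfl
  obtain ⟨Q, hQ, hsub⟩ := Cfsg.Agent.Lib.Helper93.octad_exists hcard
  have hzQ : ∀ z ∈ [none, some 0, a, b, c], z ∈ Q := fun z hz =>
    hsub (List.mem_toFinset.mpr hz)
  have hne : Q ≠ O := fun h => h1 (h ▸ hzQ none (by simp))
  have h3 : ([a, b, c] : List GolayPt).toFinset ⊆ Q ∩ O := by
    intro z hz
    rw [List.mem_toFinset] at hz
    exact Finset.mem_inter.mpr ⟨hzQ z (by simp only [List.mem_cons] at hz ⊢; tauto), hLm z hz⟩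
  have h3c : ([a, b, c] : List GolayPt).toFinset.card = 3 := by
    rw [List.toFinset_card_of_nodup hLn]; rfl
  have hlt : ([a, b, c] : List GolayPt).toFinset.card < (Q ∩ O).card := by
    have := Finset.card_le_card h3
    rcases Cfsg.Agent.Lib.Helper93.octad_inter hQ hO hne with h | h | h <;> omega
  obtain ⟨d, hd, hdn⟩ := Finset.exists_mem_notMem_of_card_lt_card hlt
  rw [Finset.mem_inter] at hd
  rw [List.mem_toFinset] at hdn
  refine ⟨a, b, c, d, Q, hQ, ?_, hzQ, hd.1, ha, hb, hc, hd.2⟩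
  rw [List.nodup_append]
  refine ⟨hN, List.nodup_singleton d, ?_⟩
  intro p hp q hq
  rw [List.mem_singleton] at hq
  subst hq
  intro hpq
  subst hpq
  simp only [List.mem_cons, List.not_mem_nil, or_false] at hp hdn
  rcases hp with rfl | rfl | h
  · exact h1 hd.2
  · exact h2 hd.2
  · exact hdn h

/-- Octads avoiding both base points. -/
theorem exists_fix_oct00 {O O' : Finset GolayPt} (hO : O ∈ octads) (hO' : O' ∈ octads)
    (h1 : none ∉ O) (h2 : some 0 ∉ O) (h1' : none ∉ O') (h2' : some 0 ∉ O') :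
    ∃ π ∈ M24, π none = none ∧ π (some 0) = some 0 ∧ π • O = O' := by
  classical
  obtain ⟨a, b, c, d, Q, hQ, hN, hzQ, hdQ, ha, hb, hc, hd⟩ := oct00_setup hO h1 h2
  obtain ⟨a', b', c', d', Q', hQ', hN', hzQ', hdQ', ha', hb', hc', hd'⟩ := oct00_setup hO' h1' h2'
  obtain ⟨g, hg, hmap, hgd⟩ := Cfsg.Agent.Lib.Helper27.SixPt.six_trans hN hN' rfl rfl
    (iff_of_true ⟨Q, hQ, hzQ, hdQ⟩ ⟨Q', hQ', hzQ', hdQ'⟩)
  simp only [List.map_cons, List.map_nil, List.cons.injEq, and_true] at hmap
  obtain ⟨hg1, hg2, hga, hgb, hgc⟩ := hmap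
  have hgO : g • O ∈ octads := Cfsg.Agent.Lib.Helper7.smul_mem_octads hg hO
  have hn1 : none ∉ g • O := by
    intro h
    obtain ⟨y, hy, hy'⟩ := Finset.mem_smul_finset.mp h
    have : y = none := g.injective (by rw [hg1]; exact hy')
    exact h1 (this ▸ hy)
  have hmem : ∀ {p : GolayPt}, p ∈ O → g p ∈ g • O := fun hp =>
    Finset.smul_mem_smul_finset (a := g) hp
  have hLn' : ([a', b', c', d'] : List GolayPt).Nodup := by
    have := hN'
    simp only [List.cons_append, List.nil_append, List.nodup_cons] at this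
    simp only [List.nodup_cons]
    simp only [List.mem_cons, not_or] at this ⊢
    tauto
  have hT4 : ([a', b', c', d'] : List GolayPt).toFinset.card = 4 := by
    rw [List.toFinset_card_of_nodup hLn']; rfl
  have hTQ : ([a', b', c', d'] : List GolayPt).toFinset ⊆ Q' := by
    intro z hz
    rw [List.mem_toFinset] at hz
    simp only [List.mem_cons, List.not_mem_nil, or_false] at hz
    rcases hz with rfl | rfl | rfl | rfl
    · exact hzQ' _ (by simp)
    · exact hzQ' _ (by simp)
    · exact hzQ' _ (by simp)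
    · exact hdQ'
  have hTO' : ([a', b', c', d'] : List GolayPt).toFinset ⊆ O' := by
    intro z hz
    rw [List.mem_toFinset] at hz
    simp only [List.mem_cons, List.not_mem_nil, or_false] at hz
    rcases hz with rfl | rfl | rfl | rfl <;> assumption
  have hTgO : ([a', b', c', d'] : List GolayPt).toFinset ⊆ g • O := by
    intro z hz
    rw [List.mem_toFinset] at hz
    simp only [List.mem_cons, List.not_mem_nil, or_false] at hz
    rcases hz with rfl | rfl | rfl | rfl
    · rw [← hga]; exact hmem ha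
    · rw [← hgb]; exact hmem hb
    · rw [← hgc]; exact hmem hc
    · rw [← hgd]; exact hmem hd
  have hnQ : none ∈ Q' := hzQ' _ (by simp)
  have hzQ0 : some 0 ∈ Q' := hzQ' _ (by simp)
  have hi1 : Q' ∩ O' = ([a', b', c', d'] : List GolayPt).toFinset :=
    Cfsg.Agent.Lib.Helper93.octad_inter_eq_of_subset hO' hQ' (fun h => h1' (h ▸ hnQ)) hT4 hTO' hTQ
  have hi2 : Q' ∩ g • O = ([a', b', c', d'] : List GolayPt).toFinset :=
    Cfsg.Agent.Lib.Helper93.octad_inter_eq_of_subset hgO hQ' (fun h => hn1 (h ▸ hnQ)) hT4 hTgO hTQ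
  obtain ⟨y₀, hy₀, hy₀n⟩ := Finset.exists_mem_notMem_of_card_lt_card
    (s := ([a', b', c', d'] : List GolayPt).toFinset) (t := g • O) (by rw [hT4, hgO.2]; norm_num)
  obtain ⟨x₀, hx₀, hx₀n⟩ := Finset.exists_mem_notMem_of_card_lt_card
    (s := ([a', b', c', d'] : List GolayPt).toFinset) (t := O') (by rw [hT4, hO'.2]; norm_num)
  have hyQ : y₀ ∉ Q' := fun h => hy₀n (hi2 ▸ Finset.mem_inter.mpr ⟨h, hy₀⟩)
  have hxQ : x₀ ∉ Q' := fun h => hx₀n (hi1 ▸ Finset.mem_inter.mpr ⟨h, hx₀⟩)
  obtain ⟨k, hk, hky⟩ := Cfsg.Agent.S1554.pointwise_trans hQ' hyQ hxQ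
  have hkfix : ∀ z ∈ Q', k z = z := fun z hz =>
    (mem_fixingSubgroup_iff _).mp hk.2 z (Finset.mem_coe.mpr hz)
  refine ⟨k * g, Subgroup.mul_mem _ hk.1 hg, ?_, ?_, ?_⟩
  · rw [Equiv.Perm.mul_apply, hg1]; exact hkfix _ hnQ
  · rw [Equiv.Perm.mul_apply, hg2]; exact hkfix _ hzQ0
  · rw [mul_smul]
    have hN5 : ([a', b', c', d', y₀] : List GolayPt).Nodup := by
      have : ([a', b', c', d', y₀] : List GolayPt) = [a', b', c', d'] ++ [y₀] := rfl
      rw [this, List.nodup_append]
      refine ⟨hLn', List.nodup_singleton _, ?_⟩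
      intro p hp q hq
      rw [List.mem_singleton] at hq
      subst hq
      intro hpq
      subst hpq
      exact hy₀n (List.mem_toFinset.mpr hp)
    refine smul_eq_of_five hk.1 hgO hO' _ hN5 rfl ?_ ?_
    · intro p hp
      simp only [List.mem_cons, List.not_mem_nil, or_false] at hp
      rcases hp with rfl | rfl | rfl | rfl | rfl
      · exact hTgO (by simp)
      · exact hTgO (by simp)
      · exact hTgO (by simp)
      · exact hTgO (by simp)
      · exact hy₀
    · intro p hp
      simp only [List.mem_cons, List.not_mem_nil, or_false] at hp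
      rcases hp with rfl | rfl | rfl | rfl | rfl
      · rw [hkfix _ (hTQ (by simp))]; exact ha'
      · rw [hkfix _ (hTQ (by simp))]; exact hb'
      · rw [hkfix _ (hTQ (by simp))]; exact hc'
      · rw [hkfix _ (hTQ (by simp))]; exact hd'
      · rw [hky]; exact hx₀

end Cfsg.Agent.Lib.Helper92
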