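import Cfsg.Agent.Lib.Helper92.LeechCo3
import Cfsg.Agent.Lib.Helper92.OrbR5a
import Cfsg.Agent.Lib.Helper92.OrbR5b
import Cfsg.Agent.Lib.Helper92.OrbR5c
import Cfsg.Agent.Lib.Helper92.OrbR5d

set_option autoImplicit false

open scoped Pointwise

namespace Cfsg.Agent.Lib.Helper92

open Cfsg Cfsg.Spor Cfsg.Agent.Lib.Helper7

/-! ### The orbits of the stabiliser of a vector of type 3 and one of the `11178` vectors -/

/-- The standard point. -/
def x0L : List ℤ := [4, 0, 0, 0, 0, 0, 0, 0, 0, 0, 0, 0, 0, 0, 0, 0, 0, 0, 0, 0, 0, 0, 0, -4]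

theorem rank5_aux {u x : leechLattice} {g₁ : Co0}
    (e1 : ((g₁ • u : leechLattice) : GolayPt → ℤ) = vecOf u0L)
    (e2 : ((g₁ • x : leechLattice) : GolayPt → ℤ) = vecOf x0L)
    {B : List (List ℤ)} {x0 : List ℤ} {N : ℕ} (d : ℤ)
    (hmain : (∀ y ∈ XSet [(u0L, -16), (x0L, d)], ∃ g : Co0, FixB B g ∧
      ∃ h0 : vecOf x0 ∈ leechLattice, g • (⟨vecOf x0, h0⟩ : leechLattice) = y) ∧
      (XSet [(u0L, -16), (x0L, d)]).ncard = N)
    (mu : u0L ∈ B) (mx : x0L ∈ B) :
    {y : leechLattice | y ∈ {x : leechLattice | sqNorm (x : GolayPt → ℤ) = 32 ∧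
        dotInt (u : GolayPt → ℤ) (x : GolayPt → ℤ) = -16} ∧
        dotInt (x : GolayPt → ℤ) (y : GolayPt → ℤ) = d}.ncard = N ∧
    ∀ y ∈ {y : leechLattice | y ∈ {x : leechLattice | sqNorm (x : GolayPt → ℤ) = 32 ∧
        dotInt (u : GolayPt → ℤ) (x : GolayPt → ℤ) = -16} ∧
        dotInt (x : GolayPt → ℤ) (y : GolayPt → ℤ) = d},
      MulAction.orbit ↥(MulAction.stabilizer ↥Co0 u ⊓ MulAction.stabilizer ↥Co0 x) y =
        {y : leechLattice | y ∈ {x : leechLattice | sqNorm (x : GolayPt → ℤ) = 32 ∧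
          dotInt (u : GolayPt → ℤ) (x : GolayPt → ℤ) = -16} ∧
          dotInt (x : GolayPt → ℤ) (y : GolayPt → ℤ) = d} := by
  have hS : ∀ y : leechLattice, y ∈ {y : leechLattice | y ∈ {x : leechLattice |
      sqNorm (x : GolayPt → ℤ) = 32 ∧ dotInt (u : GolayPt → ℤ) (x : GolayPt → ℤ) = -16} ∧
      dotInt (x : GolayPt → ℤ) (y : GolayPt → ℤ) = d} ↔
      g₁ • y ∈ XSet [(u0L, -16), (x0L, d)] := by
    intro y
    rw [xset_two, dot_smul_of_eq e1, dot_smul_of_eq e2, co0_smul_sqNorm]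
    constructor
    · rintro ⟨⟨a, b⟩, c⟩
      exact ⟨a, b, c⟩
    · rintro ⟨a, b, c⟩
      exact ⟨⟨a, b⟩, c⟩
  obtain ⟨n, t⟩ := xset_trans hmain g₁ hS
  refine ⟨n, fun y hy => orbit2_eq ?_ ?_ hy⟩
  · rintro g h1 h2 z ⟨⟨a, b⟩, c⟩
    refine ⟨⟨?_, ?_⟩, ?_⟩
    · rw [co0_smul_sqNorm]
      exact a
    · have := co0_smul_dotInt g u z
      rw [h1] at this
      exact this.trans b
    · have := co0_smul_dotInt g x z
      rw [h2] at this
      exact this.trans c
  · intro z hz z' hz'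
    obtain ⟨k, hk, e⟩ := t z hz z' hz'
    exact ⟨g₁⁻¹ * k * g₁, fix_conj hk mu e1, fix_conj hk mx e2, e⟩

/-- The stabiliser of a vector of type 3 and one of the `11178` minimal vectors with inner
product `-16` with it has four further orbits, of lengths `352`, `1100`, `4125` and `5600`. -/
theorem co3_rank5 (u x : leechLattice) (hu : sqNorm (u : GolayPt → ℤ) = 48)
    (hx : x ∈ {x : leechLattice | sqNorm (x : GolayPt → ℤ) = 32 ∧
      dotInt (u : GolayPt → ℤ) (x : GolayPt → ℤ) = -16}) :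
    ∃ y₁ ∈ {x : leechLattice | sqNorm (x : GolayPt → ℤ) = 32 ∧
      dotInt (u : GolayPt → ℤ) (x : GolayPt → ℤ) = -16},
    ∃ y₂ ∈ {x : leechLattice | sqNorm (x : GolayPt → ℤ) = 32 ∧
      dotInt (u : GolayPt → ℤ) (x : GolayPt → ℤ) = -16},
    ∃ y₃ ∈ {x : leechLattice | sqNorm (x : GolayPt → ℤ) = 32 ∧
      dotInt (u : GolayPt → ℤ) (x : GolayPt → ℤ) = -16},
    ∃ y₄ ∈ {x : leechLattice | sqNorm (x : GolayPt → ℤ) = 32 ∧
      dotInt (u : GolayPt → ℤ) (x : GolayPt → ℤ) = -16},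
    (MulAction.orbit ↥(MulAction.stabilizer ↥Co0 u ⊓ MulAction.stabilizer ↥Co0 x) y₁).ncard =
      352 ∧
    (MulAction.orbit ↥(MulAction.stabilizer ↥Co0 u ⊓ MulAction.stabilizer ↥Co0 x) y₂).ncard =
      1100 ∧
    (MulAction.orbit ↥(MulAction.stabilizer ↥Co0 u ⊓ MulAction.stabilizer ↥Co0 x) y₃).ncard =
      4125 ∧
    (MulAction.orbit ↥(MulAction.stabilizer ↥Co0 u ⊓ MulAction.stabilizer ↥Co0 x) y₄).ncard =
      5600 ∧
    {x : leechLattice | sqNorm (x : GolayPt → ℤ) = 32 ∧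
      dotInt (u : GolayPt → ℤ) (x : GolayPt → ℤ) = -16} = {x} ∪
      MulAction.orbit ↥(MulAction.stabilizer ↥Co0 u ⊓ MulAction.stabilizer ↥Co0 x) y₁ ∪
      MulAction.orbit ↥(MulAction.stabilizer ↥Co0 u ⊓ MulAction.stabilizer ↥Co0 x) y₂ ∪
      MulAction.orbit ↥(MulAction.stabilizer ↥Co0 u ⊓ MulAction.stabilizer ↥Co0 x) y₃ ∪
      MulAction.orbit ↥(MulAction.stabilizer ↥Co0 u ⊓ MulAction.stabilizer ↥Co0 x) y₄ := by
  obtain ⟨g₀, hg₀⟩ := exists_to_u0 u hu
  have hx0 : g₀ • x ∈ XSet co3aconds := by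
    rw [show co3aconds = [(u0L, -16)] from rfl, xset_one, dot_smul_of_eq hg₀, co0_smul_sqNorm]
    exact hx
  obtain ⟨k, hk, e2⟩ := to_std co3a_main g₀ x hx0
  have e1 := fix_inv_mul hk (show u0L ∈ co3aB from List.mem_cons_self) hg₀
  generalize k⁻¹ * g₀ = g₁ at e1 e2
  have e2' : ((g₁ • x : leechLattice) : GolayPt → ℤ) = vecOf x0L := e2
  obtain ⟨n1, o1⟩ := rank5_aux e1 e2' (-8) r5d_main (B := r5dB) List.mem_cons_self
    (List.mem_cons_of_mem _ List.mem_cons_self)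
  obtain ⟨n2, o2⟩ := rank5_aux e1 e2' 16 r5a_main (B := r5aB) List.mem_cons_self
    (List.mem_cons_of_mem _ List.mem_cons_self)
  obtain ⟨n3, o3⟩ := rank5_aux e1 e2' 0 r5c_main (B := r5cB) List.mem_cons_self
    (List.mem_cons_of_mem _ List.mem_cons_self)
  obtain ⟨n4, o4⟩ := rank5_aux e1 e2' 8 r5b_main (B := r5bB) List.mem_cons_self
    (List.mem_cons_of_mem _ List.mem_cons_self)
  obtain ⟨y₁, hy₁⟩ := Set.nonempty_of_ncard_ne_zero (by rw [n1]; norm_num)
  obtain ⟨y₂, hy₂⟩ := Set.nonempty_of_ncard_ne_zero (by rw [n2]; norm_num)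
  obtain ⟨y₃, hy₃⟩ := Set.nonempty_of_ncard_ne_zero (by rw [n3]; norm_num)
  obtain ⟨y₄, hy₄⟩ := Set.nonempty_of_ncard_ne_zero (by rw [n4]; norm_num)
  obtain ⟨nX, -⟩ := co3_orbit u hu
  have hfin : {x : leechLattice | sqNorm (x : GolayPt → ℤ) = 32 ∧
      dotInt (u : GolayPt → ℤ) (x : GolayPt → ℤ) = -16}.Finite :=
    Set.finite_of_ncard_ne_zero (by rw [nX]; norm_num)
  have hxx : dotInt (x : GolayPt → ℤ) (x : GolayPt → ℤ) = 32 := by
    rw [dotInt_self]
    exact hx.1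
  refine ⟨y₁, hy₁.1, y₂, hy₂.1, y₃, hy₃.1, y₄, hy₄.1, ?_, ?_, ?_, ?_, ?_⟩
  · rw [o1 y₁ hy₁, n1]
  · rw [o2 y₂ hy₂, n2]
  · rw [o3 y₃ hy₃, n3]
  · rw [o4 y₄ hy₄, n4]
  · rw [o1 y₁ hy₁, o2 y₂ hy₂, o3 y₃ hy₃, o4 y₄ hy₄]
    symm
    have hsub : ∀ d : ℤ, {y : leechLattice | y ∈ {x : leechLattice |
        sqNorm (x : GolayPt → ℤ) = 32 ∧ dotInt (u : GolayPt → ℤ) (x : GolayPt → ℤ) = -16} ∧
        dotInt (x : GolayPt → ℤ) (y : GolayPt → ℤ) = d} ⊆ {x : leechLattice |
        sqNorm (x : GolayPt → ℤ) = 32 ∧ dotInt (u : GolayPt → ℤ) (x : GolayPt → ℤ) = -16} :=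
      fun d y hy => hy.1
    have hs0 : ({x} : Set leechLattice) ⊆ {x : leechLattice |
        sqNorm (x : GolayPt → ℤ) = 32 ∧ dotInt (u : GolayPt → ℤ) (x : GolayPt → ℤ) = -16} := by
      intro y hy
      rw [Set.mem_singleton_iff.mp hy]
      exact hx
    have c1 := ncard_union_add (Set.ncard_singleton x) n1 (Set.finite_singleton x)
      (hfin.subset (hsub _)) (Set.disjoint_left.mpr (fun y h1 h2 => by
        rw [Set.mem_singleton_iff.mp h1] at h2
        have := h2.2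
        omega))
    have c2 := ncard_union_add c1 n2 ((Set.finite_singleton x).union (hfin.subset (hsub _)))
      (hfin.subset (hsub _)) (Set.disjoint_left.mpr (fun y h1 h2 => by
        have b := h2.2
        rcases h1 with h1 | h1
        · rw [Set.mem_singleton_iff.mp h1] at b
          omega
        · have a := h1.2
          omega))
    have c3 := ncard_union_add c2 n3 (((Set.finite_singleton x).union
      (hfin.subset (hsub _))).union (hfin.subset (hsub _)))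
      (hfin.subset (hsub _)) (Set.disjoint_left.mpr (fun y h1 h2 => by
        have b := h2.2
        rcases h1 with (h1 | h1) | h1
        · rw [Set.mem_singleton_iff.mp h1] at b
          omega
        · have a := h1.2
          omega
        · have a := h1.2
          omega))
    have c4 := ncard_union_add c3 n4 ((((Set.finite_singleton x).union
      (hfin.subset (hsub _))).union (hfin.subset (hsub _))).union (hfin.subset (hsub _)))
      (hfin.subset (hsub _)) (Set.disjoint_left.mpr (fun y h1 h2 => by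
        have b := h2.2
        rcases h1 with ((h1 | h1) | h1) | h1
        · rw [Set.mem_singleton_iff.mp h1] at b
          omega
        · have a := h1.2
          omega
        · have a := h1.2
          omega
        · have a := h1.2
          omega))
    refine Set.eq_of_subset_of_ncard_le ?_ ?_ hfin
    · exact Set.union_subset (Set.union_subset (Set.union_subset (Set.union_subset hs0
        (hsub _)) (hsub _)) (hsub _)) (hsub _)
    · rw [c4, nX]

end Cfsg.Agent.Lib.Helper92
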