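import Cfsg.Agent.Lib.Helper92.LeechMin
import Cfsg.Agent.Lib.Helper92.LeechPos
import Cfsg.Prelude.Def_Spor_Conway

set_option autoImplicit false

open scoped Pointwise

namespace Cfsg.Agent.Lib.Helper92

open Cfsg Cfsg.Spor Cfsg.Agent.Lib.Helper7

/-! ### Equivalence under the stabiliser of `leechU` in the automorphism group -/

/-- `y` is the image of `x` under an automorphism of the lattice fixing `leechU`. -/
def SRel (x y : GolayPt → ℤ) : Prop :=
  ∃ g : Equiv.Perm leechLattice, g ∈ Co0 ∧ g leechU = leechU ∧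
    ∃ hx : x ∈ leechLattice, ((g ⟨x, hx⟩ : leechLattice) : GolayPt → ℤ) = y

theorem SRel.mem_left {x y : GolayPt → ℤ} (h : SRel x y) : x ∈ leechLattice := by
  obtain ⟨g, -, -, hx, -⟩ := h
  exact hx

theorem SRel.mem_right {x y : GolayPt → ℤ} (h : SRel x y) : y ∈ leechLattice := by
  obtain ⟨g, -, -, hx, rfl⟩ := h
  exact (g ⟨x, hx⟩).2

theorem SRel.refl {x : GolayPt → ℤ} (hx : x ∈ leechLattice) : SRel x x :=
  ⟨1, Co0.one_mem, rfl, hx, rfl⟩

theorem SRel.symm {x y : GolayPt → ℤ} (h : SRel x y) : SRel y x := by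
  obtain ⟨g, hg, hu, hx, rfl⟩ := h
  refine ⟨g⁻¹, Co0.inv_mem hg, ?_, (g ⟨x, hx⟩).2, ?_⟩
  · rw [Equiv.Perm.inv_eq_iff_eq]
    exact hu.symm
  · have : g⁻¹ (g ⟨x, hx⟩) = ⟨x, hx⟩ := Equiv.symm_apply_apply g _
    exact congrArg Subtype.val this

theorem SRel.trans {x y z : GolayPt → ℤ} (h : SRel x y) (h' : SRel y z) : SRel x z := by
  obtain ⟨g, hg, hu, hx, rfl⟩ := h
  obtain ⟨g', hg', hu', hy, rfl⟩ := h'
  exact ⟨g' * g, Co0.mul_mem hg' hg, by rw [Equiv.Perm.mul_apply, hu, hu'], hx, rfl⟩

theorem signVec_vecU {c : GolayPt → ZMod 2} (h1 : c none = 0) (h2 : c (some 0) = 0) :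
    signVec c vecU = vecU := by
  funext p
  unfold signVec sgn vecU
  by_cases hp : p = none ∨ p = some 0
  · rcases hp with rfl | rfl
    · simp [h1]
    · simp [h2]
  · simp [hp]

theorem SRel.sign {c : GolayPt → ZMod 2} (hc : c ∈ golayCode) (h1 : c none = 0)
    (h2 : c (some 0) = 0) {x : GolayPt → ℤ} (hx : x ∈ leechLattice) : SRel x (signVec c x) :=
  ⟨signCo c hc, signCo_mem c hc, Subtype.ext (signVec_vecU h1 h2), hx, rfl⟩

theorem permVec_vecU {π : Equiv.Perm GolayPt} (h1 : π none = none) (h2 : π (some 0) = some 0) :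
    permVec π vecU = vecU := by
  funext p
  unfold permVec vecU
  have e1 : π.symm p = none ↔ p = none := by
    rw [Equiv.symm_apply_eq, h1]
  have e2 : π.symm p = some 0 ↔ p = some 0 := by
    rw [Equiv.symm_apply_eq, h2]
  simp only [e1, e2]

theorem SRel.perm {π : Equiv.Perm GolayPt} (hπ : π ∈ M24) (h1 : π none = none)
    (h2 : π (some 0) = some 0) {x : GolayPt → ℤ} (hx : x ∈ leechLattice) :
    SRel x (permVec π x) :=
  ⟨permCo π hπ, permCo_mem π hπ, Subtype.ext (permVec_vecU h1 h2), hx, rfl⟩

/-! ### The fusing element -/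

/-- A permutation in `M24` carrying `1` to the extra point and `2` to `0`. -/
noncomputable def piF : Equiv.Perm GolayPt :=
  evalW [shiftPerm, Cfsg.projInv, Cfsg.cubeTwist] [0, 0, 1, 0, 1]

/-- Packed table of the inverse of `piF`. -/
def tFinv : ℕ := invT (evalT [tA, tB, tC] [0, 0, 1, 0, 1])

theorem piF_mem : piF ∈ M24 := by
  apply evalW_mem
  intro σ hσ
  simp only [List.mem_cons, List.not_mem_nil, or_false] at hσ
  rcases hσ with rfl | rfl | rfl
  · exact shiftPerm_mem
  · exact projInv_mem
  · exact cubeTwist_mem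

theorem repT_piF_inv : RepT piF⁻¹ tFinv :=
  (repT_evalW (List.Forall₂.cons repT_shift (List.Forall₂.cons repT_projInv
    (List.Forall₂.cons repT_cubeTwist List.Forall₂.nil))) _).inv

/-- The fusing map on vectors. -/
noncomputable def gVec (x : GolayPt → ℤ) : GolayPt → ℤ := permVec piF (xiVec x)

/-- The fusing map on lists. -/
def gL (l : List ℤ) : List ℤ := permL tFinv (xiL l)

theorem gVec_vecOf (l : List ℤ) : gVec (vecOf l) = vecOf (gL l) := by
  unfold gVec gL
  rw [xiVec_vecOf, permVec_vecOf repT_piF_inv]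

/-- The list of `vecU`. -/
def uL : List ℤ := [4, 0, 0, 0, 0, 0, 0, 0, 0, 0, 0, 0, 0, 0, 0, 0, 0, 0, 0, 0, 0, 0, 0, 4]

theorem vecU_eq : vecU = vecOf uL := by
  funext p
  have h : ∀ j < 24, vecU (pt j) = uL.getD j 0 := by
    unfold vecU
    decide +kernel
  have := h (idx p) (idx_lt p)
  rw [pt_idx] at this
  exact this

theorem gL_uL : gL uL = uL := by decide +kernel

theorem gVec_vecU : gVec vecU = vecU := by
  rw [vecU_eq, gVec_vecOf, gL_uL]

theorem SRel.gstep {x : GolayPt → ℤ} (hx : x ∈ leechLattice) : SRel x (gVec x) :=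
  ⟨permCo piF piF_mem * xiCo, Co0.mul_mem (permCo_mem _ _) xiCo_mem,
    Subtype.ext gVec_vecU, hx, rfl⟩

/-! ### Small facts on indices -/

theorem idx_eq_iff {p : GolayPt} {j : ℕ} (hj : j < 24) : idx p = j ↔ p = pt j := by
  constructor
  · intro h
    rw [← h, pt_idx]
  · intro h
    rw [h, idx_pt hj]

theorem pt_23 : pt 23 = none := by decide

theorem pt_0 : pt 0 = some 0 := by decide

theorem pt_1 : pt 1 = some 1 := by decide

theorem pt_2 : pt 2 = some 2 := by decide

theorem idx_none : idx none = 23 := rfl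

theorem idx_zero : idx (some 0) = 0 := by
  rw [idx_eq_iff (by norm_num), pt_0]

theorem vecOf_none (l : List ℤ) : vecOf l none = l.getD 23 0 := rfl

theorem vecOf_zero (l : List ℤ) : vecOf l (some 0) = l.getD 0 0 := by
  unfold vecOf
  rw [idx_zero]

theorem symm_fix {π : Equiv.Perm GolayPt} {p : GolayPt} (h : π p = p) : π.symm p = p := by
  rw [Equiv.symm_apply_eq, h]

/-! ### Odd vectors: sign changes -/

theorem odd_sign {w w' : GolayPt → ℤ} (hodd : ∀ i, w i % 2 = 1)
    (habs : ∀ i, w' i = w i ∨ w' i = -w i) :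
    signVec (bitWord w + bitWord w') w = w' ∧
      ∀ i, w' i = w i → (bitWord w + bitWord w') i = 0 := by
  constructor
  · funext i
    unfold signVec sgn
    simp only [Pi.add_apply, bitWord, cast_half]
    have h1 := hodd i
    rcases habs i with h | h
    · rw [h]
      have : (if w i % 4 = 2 ∨ w i % 4 = 3 then (1 : ZMod 2) else 0) +
          (if w i % 4 = 2 ∨ w i % 4 = 3 then (1 : ZMod 2) else 0) = 0 :=
        CharTwo.add_self_eq_zero _
      rw [this]
      simp
    · rw [h]
      by_cases h3 : w i % 4 = 3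
      · have h4 : ¬ ((-w i) % 4 = 2 ∨ (-w i) % 4 = 3) := by omega
        simp [h3, h4]
      · have h4 : (-w i) % 4 = 3 := by omega
        have h5 : ¬ (w i % 4 = 2 ∨ w i % 4 = 3) := by omega
        simp [h4, h5]
  · intro i h
    simp only [Pi.add_apply, bitWord]
    rw [h]
    exact CharTwo.add_self_eq_zero _

/-- Odd minimal vectors with the same entries at the two base points are equivalent. -/
theorem norm_C {w w' : GolayPt → ℤ} (hw : w ∈ leechLattice) (hw' : w' ∈ leechLattice)
    (hn : sqNorm w = 32) (hn' : sqNorm w' = 32) (ho : w none % 2 = 1)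
    (h1 : w none = w' none) (h2 : w (some 0) = w' (some 0)) : SRel w w' := by
  obtain ⟨j, hj, hr⟩ := min_odd hw hn ho
  obtain ⟨j', hj', hr'⟩ := min_odd hw' hn' (h1 ▸ ho)
  have hπ : ∃ π ∈ M24, π none = none ∧ π (some 0) = some 0 ∧ π j = j' := by
    by_cases hjn : j = none
    · have : j' = none := by
        by_contra hc
        have h3 := hr' none (Ne.symm hc)
        rw [hjn, h1] at hj
        omega
      exact ⟨1, M24.one_mem, rfl, rfl, by rw [hjn, this]; rfl⟩
    · by_cases hj0 : j = some 0
      · have : j' = some 0 := by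
          by_contra hc
          have h3 := hr' (some 0) (Ne.symm hc)
          rw [hj0, h2] at hj
          omega
        exact ⟨1, M24.one_mem, rfl, rfl, by rw [hj0, this]; rfl⟩
      · have hj'n : j' ≠ none := by
          intro hc
          rw [hc] at hj'
          have h3 := hr none (Ne.symm hjn)
          omega
        have hj'0 : j' ≠ some 0 := by
          intro hc
          rw [hc] at hj'
          have h3 := hr (some 0) (Ne.symm hj0)
          omega
        exact exists_fix_map1 hjn hj0 hj'n hj'0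
  obtain ⟨π, hπm, hπ1, hπ2, hπj⟩ := hπ
  have hw₁ : permVec π w ∈ leechLattice := permVec_mem hπm hw
  have hs1 : π.symm none = none := symm_fix hπ1
  have hs2 : π.symm (some 0) = some 0 := symm_fix hπ2
  have hsj : π.symm j' = j := by rw [Equiv.symm_apply_eq, hπj]
  have habs : ∀ i, w' i = permVec π w i ∨ w' i = -permVec π w i := by
    intro i
    unfold permVec
    by_cases hi : i = j'
    · rw [hi, hsj]
      rcases hj with h | h <;> rcases hj' with h' | h' <;> rw [h, h'] <;> norm_num
    · have h3 : π.symm i ≠ j := fun h => hi (by rw [← hπj, ← h, Equiv.apply_symm_apply])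
      rcases hr _ h3 with h | h <;> rcases hr' i hi with h' | h' <;> rw [h, h'] <;> norm_num
  have hodd : ∀ i, permVec π w i % 2 = 1 := by
    intro i
    unfold permVec
    by_cases h3 : π.symm i = j
    · rw [h3]
      rcases hj with h | h <;> rw [h] <;> norm_num
    · rcases hr _ h3 with h | h <;> rw [h] <;> norm_num
  obtain ⟨e1, e2⟩ := odd_sign hodd habs
  have hc : bitWord (permVec π w) + bitWord w' ∈ golayCode :=
    golayCode.add_mem (bitWord_mem hw₁) (bitWord_mem hw')
  have hr1 := SRel.perm hπm hπ1 hπ2 hw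
  have hr2 := SRel.sign hc (e2 none (by unfold permVec; rw [hs1]; exact h1.symm))
    (e2 (some 0) (by unfold permVec; rw [hs2]; exact h2.symm)) hw₁
  rw [e1] at hr2
  exact hr1.trans hr2

/-! ### Even vectors in standard position: sign changes from a table -/

/-- The list with magnitude `mag` at the positions of `ol`, signs from the bits of `k`. -/
def patL (ol : List ℕ) (mag : ℤ) (k : ℕ) : List ℤ :=
  (List.range 24).map (fun j =>
    if ol.idxOf j < ol.length then (if k.testBit (ol.idxOf j) then -mag else mag) else 0)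

/-- Absolute values, except at the two base points. -/
def absL (l : List ℤ) : List ℤ :=
  (List.range 24).map (fun j =>
    if j = 23 ∨ j = 0 then l.getD j 0 else (if l.getD j 0 < 0 then -l.getD j 0 else l.getD j 0))

/-- Index of the first non-zero entry away from the base points. -/
def jstar (a : List ℤ) : ℕ :=
  ((List.range 24).find? (fun j => j != 23 && j != 0 && a.getD j 0 != 0)).getD 24

/-- Correct the coordinate sum modulo `8` by one sign change. -/
def fixL (a : List ℤ) : List ℤ :=
  if ((List.range 24).map (fun j => a.getD j 0)).sum % 8 = 0 then a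
  else (List.range 24).map (fun j => if j = jstar a then -a.getD j 0 else a.getD j 0)

/-- Correctness of a table of sign changes. -/
def tabOK (ol : List ℕ) (mag : ℤ) (wt : List ℕ) : Bool :=
  (List.range (2 ^ ol.length)).all (fun k =>
    decide (((List.range 24).map (fun j => (patL ol mag k).getD j 0)).sum % 8 ≠ 0) ||
      (isCode (wt.getD k 0) && decide (wt.getD k 0 < 2 ^ 24) && !(wt.getD k 0).testBit 23 &&
        !(wt.getD k 0).testBit 0 &&
        decide (signL (wt.getD k 0) (patL ol mag k) = fixL (absL (patL ol mag k)))))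

/-- The standard vector of a family, before the correction of the sum. -/
def stdV (ol : List ℕ) (mag a b : ℤ) : GolayPt → ℤ := fun p =>
  if p = none then a else if p = some 0 then b else if idx p ∈ ol then mag else 0

/-- The standard vector of a family. -/
def stdW (ol : List ℕ) (mag a b : ℤ) : GolayPt → ℤ := vecOf (fixL (toL (stdV ol mag a b)))

theorem toL_vecOf_map (F : ℕ → ℤ) : toL (vecOf ((List.range 24).map F)) = (List.range 24).map F := by
  unfold toL
  exact List.map_congr_left (fun j hj => by rw [vecOf_map, idx_pt (List.mem_range.mp hj)])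

theorem sign_std (ol : List ℕ) (mag : ℤ) (hmag : 0 < mag) (wt : List ℕ)
    (htab : tabOK ol mag wt = true) {w₁ : GolayPt → ℤ} (hw₁ : w₁ ∈ leechLattice)
    (heven : w₁ none % 2 = 0) (hin : ∀ q, idx q ∈ ol → (w₁ q = mag ∨ w₁ q = -mag))
    (hout : ∀ q, idx q ∉ ol → w₁ q = 0) :
    SRel w₁ (stdW ol mag (w₁ none) (w₁ (some 0))) := by
  obtain ⟨k, hk⟩ : ∃ k, k = ofBits (fun m => decide (w₁ (pt (ol.getD m 0)) < 0)) ol.length :=
    ⟨_, rfl⟩
  have hklt : k < 2 ^ ol.length := by rw [hk]; exact ofBits_lt _ _
  have hglue : ∀ q, w₁ q = (patL ol mag k).getD (idx q) 0 := by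
    intro q
    unfold patL
    rw [getD_map_range24 _ (idx_lt q)]
    by_cases hq : idx q ∈ ol
    · have hlt : ol.idxOf (idx q) < ol.length := List.idxOf_lt_length_iff.mpr hq
      rw [if_pos hlt, hk, testBit_ofBits]
      have hget : ol.getD (ol.idxOf (idx q)) 0 = idx q := by
        rw [List.getD_eq_getElem _ _ hlt]
        exact List.getElem_idxOf hlt
      rw [hget, pt_idx]
      simp only [hlt, decide_true, Bool.true_and, decide_eq_true_eq]
      rcases hin q hq with h | h
      · rw [h, if_neg (not_lt.mpr hmag.le)]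
      · rw [h, if_pos (by omega)]
    · have hlt : ¬ ol.idxOf (idx q) < ol.length := fun h => hq (List.idxOf_lt_length_iff.mp h)
      rw [if_neg hlt]
      exact hout q hq
  have hglue' : w₁ = vecOf (patL ol mag k) := funext hglue
  have hsum : ((List.range 24).map (fun j => (patL ol mag k).getD j 0)).sum % 8 = 0 := by
    have hs := sum_vecOf (patL ol mag k) id
    simp only [id] at hs
    rw [← hs, ← hglue']
    obtain ⟨m, hm2, hm8, -⟩ := (mem_leechLattice_iff w₁).mp hw₁
    have hm := hm2 none
    unfold Int.ModEq at hm hm8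
    omega
  have hrow := all_range htab k hklt
  rw [Bool.or_eq_true] at hrow
  rcases hrow with hrow | hrow
  · rw [decide_eq_true_eq] at hrow
    exact absurd hsum hrow
  rw [Bool.and_eq_true, Bool.and_eq_true, Bool.and_eq_true, Bool.and_eq_true] at hrow
  obtain ⟨⟨⟨⟨hcode, hlt⟩, hb23⟩, hb0⟩, heq⟩ := hrow
  rw [decide_eq_true_eq] at hlt heq
  have hc : wordOf (wt.getD k 0) ∈ golayCode := (wordOf_mem_golayCode_iff hlt).mpr hcode
  have hc1 : wordOf (wt.getD k 0) none = 0 := by
    unfold wordOf
    rw [idx_none]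
    simpa using hb23
  have hc2 : wordOf (wt.getD k 0) (some 0) = 0 := by
    unfold wordOf
    rw [idx_zero]
    simpa using hb0
  have hr2 := SRel.sign hc hc1 hc2 hw₁
  have hv : vecOf (absL (patL ol mag k)) = stdV ol mag (w₁ none) (w₁ (some 0)) := by
    funext q
    unfold absL stdV
    rw [vecOf_map, ← hglue q]
    by_cases hqn : q = none
    · rw [if_pos hqn, if_pos (Or.inl (by rw [hqn]; rfl)), hqn]
    · rw [if_neg hqn]
      by_cases hq0 : q = some 0
      · rw [if_pos hq0, if_pos (Or.inr (by rw [hq0]; exact idx_zero)), hq0]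
      · rw [if_neg hq0]
        have h23 : idx q ≠ 23 := fun h => hqn (by rw [(idx_eq_iff (by norm_num)).mp h, pt_23])
        have h0 : idx q ≠ 0 := fun h => hq0 (by rw [(idx_eq_iff (by norm_num)).mp h, pt_0])
        rw [if_neg (by tauto)]
        by_cases hq : idx q ∈ ol
        · rw [if_pos hq]
          rcases hin q hq with h | h
          · rw [h, if_neg (not_lt.mpr hmag.le)]
          · rw [h, if_pos (by omega)]; ring
        · rw [if_neg hq, hout q hq]
          simp
  have habs : absL (patL ol mag k) = toL (stdV ol mag (w₁ none) (w₁ (some 0))) := by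
    rw [← hv]
    exact (toL_vecOf_map _).symm
  have hfin : signVec (wordOf (wt.getD k 0)) w₁ = stdW ol mag (w₁ none) (w₁ (some 0)) := by
    unfold stdW
    rw [← habs, ← heq, ← signVec_vecOf, ← hglue']
  rw [hfin] at hr2
  exact hr2

theorem norm_std (ol : List ℕ) (mag : ℤ) (hmag : 0 < mag) (wt : List ℕ)
    (htab : tabOK ol mag wt = true) {w : GolayPt → ℤ} (hw : w ∈ leechLattice)
    (heven : w none % 2 = 0) (hval : ∀ p, w p = 0 ∨ w p = mag ∨ w p = -mag)
    {π : Equiv.Perm GolayPt} (hπ : π ∈ M24) (h1 : π none = none) (h2 : π (some 0) = some 0)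
    (hS : ∀ p, w p ≠ 0 ↔ idx (π p) ∈ ol) :
    SRel w (stdW ol mag (w none) (w (some 0))) := by
  have hw₁ : permVec π w ∈ leechLattice := permVec_mem hπ hw
  have hr1 : SRel w (permVec π w) := SRel.perm hπ h1 h2 hw
  have e1 : permVec π w none = w none := by unfold permVec; rw [symm_fix h1]
  have e2 : permVec π w (some 0) = w (some 0) := by unfold permVec; rw [symm_fix h2]
  have hin : ∀ q, idx q ∈ ol → (permVec π w q = mag ∨ permVec π w q = -mag) := by
    intro q hq
    have := (hS (π.symm q)).mpr (by rw [Equiv.apply_symm_apply]; exact hq)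
    rcases hval (π.symm q) with h | h | h
    · exact absurd h this
    · exact Or.inl h
    · exact Or.inr h
  have hout : ∀ q, idx q ∉ ol → permVec π w q = 0 := by
    intro q hq
    by_contra hc
    exact hq (by have := (hS (π.symm q)).mp hc; rwa [Equiv.apply_symm_apply] at this)
  have hr2 := sign_std ol mag hmag wt htab hw₁ (by rw [e1]; exact heven) hin hout
  rw [e1, e2] at hr2
  exact hr1.trans hr2

end Cfsg.Agent.Lib.Helper92
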