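import Cfsg.Agent.Lib.Helper92.LeechCountBox

set_option autoImplicit false

namespace Cfsg.Agent.Lib.Helper92

open Cfsg Cfsg.Agent.Lib.Helper7 Cfsg.Agent.Lib.Helper92.DP

/-! ### The shapes of the vectors of sum of squares 48 -/

/-- A list of coordinate values. -/
def box3 : List ℤ := [0, 2, -2]

set_option maxRecDepth 100000 in
theorem FEb_box3_0 : FEb box3 0 12 = 0 :=
  (FEb_eval box3 12 0 12 le_rfl).trans (by decide +kernel)

set_option maxRecDepth 100000 in
theorem FEb_box3_8 : FEb box3 8 12 = 0 :=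
  (FEb_eval box3 12 8 12 le_rfl).trans (by decide +kernel)

set_option maxRecDepth 100000 in
theorem FEb_box3_12 : FEb box3 12 12 = 2048 :=
  (FEb_eval box3 12 12 12 le_rfl).trans (by decide +kernel)

set_option maxRecDepth 100000 in
theorem FEb_box3_16 : FEb box3 16 12 = 0 :=
  (FEb_eval box3 12 16 12 le_rfl).trans (by decide +kernel)

set_option maxRecDepth 100000 in
theorem FEb_box3_24 : FEb box3 24 12 = 0 :=
  (FEb_eval box3 12 24 12 le_rfl).trans (by decide +kernel)

set_option maxRecDepth 100000 in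
theorem FOb_box3_0 : FOb box3 0 3 = 0 :=
  (FOb_eval box3 3 0 3 le_rfl).trans (by decide +kernel)

set_option maxRecDepth 100000 in
theorem FOb_box3_8 : FOb box3 8 3 = 0 :=
  (FOb_eval box3 3 8 3 le_rfl).trans (by decide +kernel)

set_option maxRecDepth 100000 in
theorem FOb_box3_12 : FOb box3 12 3 = 0 :=
  (FOb_eval box3 3 12 3 le_rfl).trans (by decide +kernel)

set_option maxRecDepth 100000 in
theorem FOb_box3_16 : FOb box3 16 3 = 0 :=
  (FOb_eval box3 3 16 3 le_rfl).trans (by decide +kernel)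

set_option maxRecDepth 100000 in
theorem FOb_box3_24 : FOb box3 24 3 = 0 :=
  (FOb_eval box3 3 24 3 le_rfl).trans (by decide +kernel)

theorem count_box3 :
    {x : GolayPt → ℤ | x ∈ leechLattice ∧ sqNorm x = 48 ∧ inBox box3 x}.ncard = 5275648 :=
  count_formula_box box3 (by decide) 48 12 3 (by norm_num) (by norm_num)
    0 0 2048 0 0 0 0 0 0 0
    FEb_box3_0 FEb_box3_8 FEb_box3_12 FEb_box3_16 FEb_box3_24 FOb_box3_0 FOb_box3_8 FOb_box3_12 FOb_box3_16 FOb_box3_24

/-- A list of coordinate values. -/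
def box13 : List ℤ := [1, -1, 3, -3]

set_option maxRecDepth 100000 in
theorem FEb_box13_0 : FEb box13 0 12 = 0 :=
  (FEb_eval box13 12 0 12 le_rfl).trans (by decide +kernel)

set_option maxRecDepth 100000 in
theorem FEb_box13_8 : FEb box13 8 12 = 0 :=
  (FEb_eval box13 12 8 12 le_rfl).trans (by decide +kernel)

set_option maxRecDepth 100000 in
theorem FEb_box13_12 : FEb box13 12 12 = 0 :=
  (FEb_eval box13 12 12 12 le_rfl).trans (by decide +kernel)

set_option maxRecDepth 100000 in
theorem FEb_box13_16 : FEb box13 16 12 = 0 :=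
  (FEb_eval box13 12 16 12 le_rfl).trans (by decide +kernel)

set_option maxRecDepth 100000 in
theorem FEb_box13_24 : FEb box13 24 12 = 0 :=
  (FEb_eval box13 12 24 12 le_rfl).trans (by decide +kernel)

set_option maxRecDepth 100000 in
theorem FOb_box13_0 : FOb box13 0 3 = 2024 :=
  (FOb_eval box13 3 0 3 le_rfl).trans (by decide +kernel)

set_option maxRecDepth 100000 in
theorem FOb_box13_8 : FOb box13 8 3 = 2024 :=
  (FOb_eval box13 3 8 3 le_rfl).trans (by decide +kernel)

set_option maxRecDepth 100000 in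
theorem FOb_box13_12 : FOb box13 12 3 = 2024 :=
  (FOb_eval box13 3 12 3 le_rfl).trans (by decide +kernel)

set_option maxRecDepth 100000 in
theorem FOb_box13_16 : FOb box13 16 3 = 2024 :=
  (FOb_eval box13 3 16 3 le_rfl).trans (by decide +kernel)

set_option maxRecDepth 100000 in
theorem FOb_box13_24 : FOb box13 24 3 = 2024 :=
  (FOb_eval box13 3 24 3 le_rfl).trans (by decide +kernel)

theorem count_box13 :
    {x : GolayPt → ℤ | x ∈ leechLattice ∧ sqNorm x = 48 ∧ inBox box13 x}.ncard = 8290304 :=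
  count_formula_box box13 (by decide) 48 12 3 (by norm_num) (by norm_num)
    0 0 0 0 0 2024 2024 2024 2024 2024
    FEb_box13_0 FEb_box13_8 FEb_box13_12 FEb_box13_16 FEb_box13_24 FOb_box13_0 FOb_box13_8 FOb_box13_12 FOb_box13_16 FOb_box13_24

/-- A list of coordinate values. -/
def box5 : List ℤ := [0, 2, -2, 4, -4]

set_option maxRecDepth 100000 in
theorem FEb_box5_0 : FEb box5 0 12 = 0 :=
  (FEb_eval box5 12 0 12 le_rfl).trans (by decide +kernel)

set_option maxRecDepth 100000 in
theorem FEb_box5_8 : FEb box5 8 12 = 4096 :=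
  (FEb_eval box5 12 8 12 le_rfl).trans (by decide +kernel)

set_option maxRecDepth 100000 in
theorem FEb_box5_12 : FEb box5 12 12 = 2048 :=
  (FEb_eval box5 12 12 12 le_rfl).trans (by decide +kernel)

set_option maxRecDepth 100000 in
theorem FEb_box5_16 : FEb box5 16 12 = 0 :=
  (FEb_eval box5 12 16 12 le_rfl).trans (by decide +kernel)

set_option maxRecDepth 100000 in
theorem FEb_box5_24 : FEb box5 24 12 = 0 :=
  (FEb_eval box5 12 24 12 le_rfl).trans (by decide +kernel)

set_option maxRecDepth 100000 in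
theorem FOb_box5_0 : FOb box5 0 3 = 0 :=
  (FOb_eval box5 3 0 3 le_rfl).trans (by decide +kernel)

set_option maxRecDepth 100000 in
theorem FOb_box5_8 : FOb box5 8 3 = 0 :=
  (FOb_eval box5 3 8 3 le_rfl).trans (by decide +kernel)

set_option maxRecDepth 100000 in
theorem FOb_box5_12 : FOb box5 12 3 = 0 :=
  (FOb_eval box5 3 12 3 le_rfl).trans (by decide +kernel)

set_option maxRecDepth 100000 in
theorem FOb_box5_16 : FOb box5 16 3 = 0 :=
  (FOb_eval box5 3 16 3 le_rfl).trans (by decide +kernel)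

set_option maxRecDepth 100000 in
theorem FOb_box5_24 : FOb box5 24 3 = 0 :=
  (FOb_eval box5 3 24 3 le_rfl).trans (by decide +kernel)

theorem count_box5 :
    {x : GolayPt → ℤ | x ∈ leechLattice ∧ sqNorm x = 48 ∧ inBox box5 x}.ncard = 8384512 :=
  count_formula_box box5 (by decide) 48 12 3 (by norm_num) (by norm_num)
    0 4096 2048 0 0 0 0 0 0 0
    FEb_box5_0 FEb_box5_8 FEb_box5_12 FEb_box5_16 FEb_box5_24 FOb_box5_0 FOb_box5_8 FOb_box5_12 FOb_box5_16 FOb_box5_24

/-- A list of coordinate values. -/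
def box15 : List ℤ := [1, -1, 5, -5]

set_option maxRecDepth 100000 in
theorem FEb_box15_0 : FEb box15 0 12 = 0 :=
  (FEb_eval box15 12 0 12 le_rfl).trans (by decide +kernel)

set_option maxRecDepth 100000 in
theorem FEb_box15_8 : FEb box15 8 12 = 0 :=
  (FEb_eval box15 12 8 12 le_rfl).trans (by decide +kernel)

set_option maxRecDepth 100000 in
theorem FEb_box15_12 : FEb box15 12 12 = 0 :=
  (FEb_eval box15 12 12 12 le_rfl).trans (by decide +kernel)

set_option maxRecDepth 100000 in
theorem FEb_box15_16 : FEb box15 16 12 = 0 :=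
  (FEb_eval box15 12 16 12 le_rfl).trans (by decide +kernel)

set_option maxRecDepth 100000 in
theorem FEb_box15_24 : FEb box15 24 12 = 0 :=
  (FEb_eval box15 12 24 12 le_rfl).trans (by decide +kernel)

set_option maxRecDepth 100000 in
theorem FOb_box15_0 : FOb box15 0 3 = 24 :=
  (FOb_eval box15 3 0 3 le_rfl).trans (by decide +kernel)

set_option maxRecDepth 100000 in
theorem FOb_box15_8 : FOb box15 8 3 = 24 :=
  (FOb_eval box15 3 8 3 le_rfl).trans (by decide +kernel)

set_option maxRecDepth 100000 in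
theorem FOb_box15_12 : FOb box15 12 3 = 24 :=
  (FOb_eval box15 3 12 3 le_rfl).trans (by decide +kernel)

set_option maxRecDepth 100000 in
theorem FOb_box15_16 : FOb box15 16 3 = 24 :=
  (FOb_eval box15 3 16 3 le_rfl).trans (by decide +kernel)

set_option maxRecDepth 100000 in
theorem FOb_box15_24 : FOb box15 24 3 = 24 :=
  (FOb_eval box15 3 24 3 le_rfl).trans (by decide +kernel)

theorem count_box15 :
    {x : GolayPt → ℤ | x ∈ leechLattice ∧ sqNorm x = 48 ∧ inBox box15 x}.ncard = 98304 :=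
  count_formula_box box15 (by decide) 48 12 3 (by norm_num) (by norm_num)
    0 0 0 0 0 24 24 24 24 24
    FEb_box15_0 FEb_box15_8 FEb_box15_12 FEb_box15_16 FEb_box15_24 FOb_box15_0 FOb_box15_8 FOb_box15_12 FOb_box15_16 FOb_box15_24

theorem parity_of_mem {x : GolayPt → ℤ} (hx : x ∈ leechLattice) (i j : GolayPt) :
    x i % 2 = x j % 2 := by
  rw [mem_leechLattice_iff] at hx
  obtain ⟨m, h2, -, -⟩ := hx
  have hi := h2 i
  have hj := h2 j
  unfold Int.ModEq at hi hj
  omega

/-- The excess of an odd vector: the sum of `x i ^ 2 - 1`. -/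
theorem sum_excess (x : GolayPt → ℤ) : ∑ i, (x i ^ 2 - 1) = sqNorm x - 24 := by
  unfold sqNorm
  rw [Finset.sum_sub_distrib, Finset.sum_const, Finset.card_univ, card_golayPt]
  simp

theorem excess_nonneg {x : GolayPt → ℤ} (hodd : ∀ i, x i % 2 = 1) (i : GolayPt) :
    0 ≤ x i ^ 2 - 1 := by
  have h1 : x i ≠ 0 := by
    intro h
    have := hodd i
    rw [h] at this
    omega
  have h3 : x i ^ 2 ≠ 0 := pow_ne_zero 2 h1
  have := sq_nonneg (x i)
  omega

theorem excess_le {x : GolayPt → ℤ} (hodd : ∀ i, x i % 2 = 1) (S : Finset GolayPt) :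
    ∑ i ∈ S, (x i ^ 2 - 1) ≤ sqNorm x - 24 := by
  rw [← sum_excess]
  exact Finset.sum_le_sum_of_subset_of_nonneg (Finset.subset_univ S)
    (fun i _ _ => excess_nonneg hodd i)

theorem abs_three {a : ℤ} : |a| = 3 ↔ a = 3 ∨ a = -3 := by
  constructor
  · intro h
    rcases abs_cases a with ⟨h1, _⟩ | ⟨h1, _⟩ <;> omega
  · rintro (h | h) <;> rw [h] <;> rfl

theorem abs_four {a : ℤ} : |a| = 4 ↔ a = 4 ∨ a = -4 := by
  constructor
  · intro h
    rcases abs_cases a with ⟨h1, _⟩ | ⟨h1, _⟩ <;> omega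
  · rintro (h | h) <;> rw [h] <;> rfl

theorem abs_five {a : ℤ} : |a| = 5 ↔ a = 5 ∨ a = -5 := by
  constructor
  · intro h
    rcases abs_cases a with ⟨h1, _⟩ | ⟨h1, _⟩ <;> omega
  · rintro (h | h) <;> rw [h] <;> rfl

theorem sq_le_one {a : ℤ} (h : a ^ 2 ≤ 1) (hodd : a % 2 = 1) : a = 1 ∨ a = -1 := by
  have h1 : a ≤ 1 := by nlinarith
  have h2 : -1 ≤ a := by nlinarith
  omega

theorem shape3_iff {x : GolayPt → ℤ} (hx : x ∈ leechLattice) (hn : sqNorm x = 48) :
    (∃ i j k, i ≠ j ∧ j ≠ k ∧ i ≠ k ∧ |x i| = 3 ∧ |x j| = 3 ∧ |x k| = 3) ↔ inBox box13 x := by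
  classical
  constructor
  · rintro ⟨i, j, k, hij, hjk, hik, hi, hj, hk⟩
    rw [abs_three] at hi hj hk
    have hodd : ∀ l, x l % 2 = 1 := by
      intro l
      have := parity_of_mem hx l i
      rcases hi with h | h <;> rw [h] at this <;> omega
    intro l
    show x l ∈ [1, -1, 3, -3]
    simp only [List.mem_cons, List.not_mem_nil, or_false]
    by_cases hl : l = i ∨ l = j ∨ l = k
    · rcases hl with rfl | rfl | rfl
      · rcases hi with h | h <;> simp [h]
      · rcases hj with h | h <;> simp [h]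
      · rcases hk with h | h <;> simp [h]
    · push Not at hl
      have h4 := excess_le hodd {i, j, k, l}
      rw [Finset.sum_insert (by simp [hij, hik, Ne.symm hl.1]),
        Finset.sum_insert (by simp [hjk, Ne.symm hl.2.1]),
        Finset.sum_insert (by simp [Ne.symm hl.2.2]), Finset.sum_singleton, hn] at h4
      have e1 : x i ^ 2 = 9 := by rcases hi with h | h <;> rw [h] <;> norm_num
      have e2 : x j ^ 2 = 9 := by rcases hj with h | h <;> rw [h] <;> norm_num
      have e3 : x k ^ 2 = 9 := by rcases hk with h | h <;> rw [h] <;> norm_num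
      rcases sq_le_one (by omega) (hodd l) with h | h <;> simp [h]
  · intro hb
    have hval : ∀ l, x l = 1 ∨ x l = -1 ∨ x l = 3 ∨ x l = -3 := by
      intro l
      have := hb l
      simpa [box13] using this
    have hsum := sum_excess x
    rw [hn] at hsum
    have hf : ∀ l, x l ^ 2 - 1 = if (x l = 3 ∨ x l = -3) then 8 else 0 := by
      intro l
      rcases hval l with h | h | h | h <;> rw [h] <;> norm_num
    simp only [hf] at hsum
    rw [Finset.sum_ite, Finset.sum_const, Finset.sum_const_zero, add_zero, nsmul_eq_mul] at hsum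
    have hc : (Finset.univ.filter (fun l => x l = 3 ∨ x l = -3)).card = 3 := by
      omega
    obtain ⟨i, j, k, hij, hik, hjk, hT⟩ := Finset.card_eq_three.mp hc
    have hmem : ∀ l, l ∈ ({i, j, k} : Finset GolayPt) → |x l| = 3 := by
      intro l hl
      rw [← hT] at hl
      exact abs_three.mpr (Finset.mem_filter.mp hl).2
    exact ⟨i, j, k, hij, hjk, hik, hmem i (by simp), hmem j (by simp), hmem k (by simp)⟩

theorem shape5_iff {x : GolayPt → ℤ} (hx : x ∈ leechLattice) (hn : sqNorm x = 48) :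
    (∃ i, |x i| = 5) ↔ inBox box15 x := by
  classical
  constructor
  · rintro ⟨i, hi⟩
    rw [abs_five] at hi
    have hodd : ∀ l, x l % 2 = 1 := by
      intro l
      have := parity_of_mem hx l i
      rcases hi with h | h <;> rw [h] at this <;> omega
    intro l
    show x l ∈ [1, -1, 5, -5]
    simp only [List.mem_cons, List.not_mem_nil, or_false]
    by_cases hl : l = i
    · subst hl
      rcases hi with h | h <;> simp [h]
    · have h4 := excess_le hodd {i, l}
      rw [Finset.sum_insert (by simp [Ne.symm hl]), Finset.sum_singleton, hn] at h4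
      have e1 : x i ^ 2 = 25 := by rcases hi with h | h <;> rw [h] <;> norm_num
      rcases sq_le_one (by omega) (hodd l) with h | h <;> simp [h]
  · intro hb
    by_contra hc
    push Not at hc
    have hval : ∀ l, x l ^ 2 = 1 := by
      intro l
      have h1 := hb l
      have h2 := hc l
      rw [Ne, abs_five] at h2
      have h3 : x l = 1 ∨ x l = -1 ∨ x l = 5 ∨ x l = -5 := by simpa [box15] using h1
      rcases h3 with h | h | h | h
      · rw [h]; norm_num
      · rw [h]; norm_num
      · exact absurd (Or.inl h) h2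
      · exact absurd (Or.inr h) h2
    unfold sqNorm at hn
    simp only [hval] at hn
    rw [Finset.sum_const, Finset.card_univ, card_golayPt] at hn
    norm_num at hn

theorem shape4_iff {x : GolayPt → ℤ} (hx : x ∈ leechLattice) (hn : sqNorm x = 48) :
    (∃ i, |x i| = 4) ↔ inBox box5 x ∧ ¬ inBox box3 x := by
  classical
  constructor
  · rintro ⟨i, hi⟩
    rw [abs_four] at hi
    have heven : ∀ l, x l % 2 = 0 := by
      intro l
      have := parity_of_mem hx l i
      rcases hi with h | h <;> rw [h] at this <;> omega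
    constructor
    · intro l
      show x l ∈ [0, 2, -2, 4, -4]
      simp only [List.mem_cons, List.not_mem_nil, or_false]
      by_cases hl : l = i
      · subst hl
        rcases hi with h | h <;> simp [h]
      · have h4 : ∑ t ∈ ({i, l} : Finset GolayPt), x t ^ 2 ≤ sqNorm x :=
          Finset.sum_le_sum_of_subset_of_nonneg (Finset.subset_univ _)
            (fun t _ _ => sq_nonneg (x t))
        rw [Finset.sum_insert (by simp [Ne.symm hl]), Finset.sum_singleton, hn] at h4
        have e1 : x i ^ 2 = 16 := by rcases hi with h | h <;> rw [h] <;> norm_num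
        have h5 : x l ^ 2 ≤ 32 := by omega
        have h6 : x l ≤ 5 := by nlinarith
        have h7 : -5 ≤ x l := by nlinarith
        have h8 := heven l
        have : x l = 0 ∨ x l = 2 ∨ x l = -2 ∨ x l = 4 ∨ x l = -4 := by omega
        exact this
    · intro hb
      have h1 := hb i
      have h2 : x i = 0 ∨ x i = 2 ∨ x i = -2 := by simpa [box3] using h1
      rcases hi with h | h <;> rw [h] at h2 <;> omega
  · rintro ⟨h5, h3⟩
    unfold inBox at h3
    push Not at h3
    obtain ⟨i, hi⟩ := h3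
    refine ⟨i, abs_four.mpr ?_⟩
    have h1 : x i = 0 ∨ x i = 2 ∨ x i = -2 ∨ x i = 4 ∨ x i = -4 := by simpa [box5] using h5 i
    have h2 : ¬ (x i = 0 ∨ x i = 2 ∨ x i = -2) := by simpa [box3] using hi
    rcases h1 with h | h | h | h | h
    · exact absurd (Or.inl h) h2
    · exact absurd (Or.inr (Or.inl h)) h2
    · exact absurd (Or.inr (Or.inr h)) h2
    · exact Or.inl h
    · exact Or.inr h

/-- The shape census of the lattice vectors of sum of squares `48`. -/
theorem shape_census :
    {x : GolayPt → ℤ | x ∈ leechLattice ∧ sqNorm x = 48 ∧ ∀ i, x i = 0 ∨ x i = 2 ∨ x i = -2}.ncard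
        = 5275648 ∧
      {x : GolayPt → ℤ | x ∈ leechLattice ∧ sqNorm x = 48 ∧
        ∃ i j k, i ≠ j ∧ j ≠ k ∧ i ≠ k ∧ |x i| = 3 ∧ |x j| = 3 ∧ |x k| = 3}.ncard = 8290304 ∧
      {x : GolayPt → ℤ | x ∈ leechLattice ∧ sqNorm x = 48 ∧ ∃ i, |x i| = 4}.ncard = 3108864 ∧
      {x : GolayPt → ℤ | x ∈ leechLattice ∧ sqNorm x = 48 ∧ ∃ i, |x i| = 5}.ncard = 98304 := by
  refine ⟨?_, ?_, ?_, ?_⟩
  · have e : {x : GolayPt → ℤ | x ∈ leechLattice ∧ sqNorm x = 48 ∧
        ∀ i, x i = 0 ∨ x i = 2 ∨ x i = -2} =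
        {x : GolayPt → ℤ | x ∈ leechLattice ∧ sqNorm x = 48 ∧ inBox box3 x} := by
      ext x
      simp [inBox, box3]
    rw [e, count_box3]
  · have e : {x : GolayPt → ℤ | x ∈ leechLattice ∧ sqNorm x = 48 ∧
        ∃ i j k, i ≠ j ∧ j ≠ k ∧ i ≠ k ∧ |x i| = 3 ∧ |x j| = 3 ∧ |x k| = 3} =
        {x : GolayPt → ℤ | x ∈ leechLattice ∧ sqNorm x = 48 ∧ inBox box13 x} := by
      ext x
      constructor
      · rintro ⟨h1, h2, h3⟩; exact ⟨h1, h2, (shape3_iff h1 h2).mp h3⟩
      · rintro ⟨h1, h2, h3⟩; exact ⟨h1, h2, (shape3_iff h1 h2).mpr h3⟩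
    rw [e, count_box13]
  · have e : {x : GolayPt → ℤ | x ∈ leechLattice ∧ sqNorm x = 48 ∧ ∃ i, |x i| = 4} =
        {x : GolayPt → ℤ | x ∈ leechLattice ∧ sqNorm x = 48 ∧ inBox box5 x} \
          {x : GolayPt → ℤ | x ∈ leechLattice ∧ sqNorm x = 48 ∧ inBox box3 x} := by
      ext x
      constructor
      · rintro ⟨h1, h2, h3⟩
        have := (shape4_iff h1 h2).mp h3
        exact ⟨⟨h1, h2, this.1⟩, fun h => this.2 h.2.2⟩
      · rintro ⟨⟨h1, h2, h3⟩, h4⟩
        exact ⟨h1, h2, (shape4_iff h1 h2).mpr ⟨h3, fun h => h4 ⟨h1, h2, h⟩⟩⟩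
    have hsub : {x : GolayPt → ℤ | x ∈ leechLattice ∧ sqNorm x = 48 ∧ inBox box3 x} ⊆
        {x : GolayPt → ℤ | x ∈ leechLattice ∧ sqNorm x = 48 ∧ inBox box5 x} := by
      rintro x ⟨h1, h2, h3⟩
      refine ⟨h1, h2, fun i => ?_⟩
      have := h3 i
      simp only [box3, box5, List.mem_cons, List.not_mem_nil, or_false] at this ⊢
      tauto
    rw [e, Set.ncard_sdiff hsub (finite_inBox box3 _ (fun x hx => hx.2.2)), count_box5, count_box3]
  · have e : {x : GolayPt → ℤ | x ∈ leechLattice ∧ sqNorm x = 48 ∧ ∃ i, |x i| = 5} =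
        {x : GolayPt → ℤ | x ∈ leechLattice ∧ sqNorm x = 48 ∧ inBox box15 x} := by
      ext x
      constructor
      · rintro ⟨h1, h2, h3⟩; exact ⟨h1, h2, (shape5_iff h1 h2).mp h3⟩
      · rintro ⟨h1, h2, h3⟩; exact ⟨h1, h2, (shape5_iff h1 h2).mpr h3⟩
    rw [e, count_box15]

end Cfsg.Agent.Lib.Helper92
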