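import Cfsg.Agent.Lib.Helper92.LeechFuse

set_option autoImplicit false

open scoped Pointwise

namespace Cfsg.Agent.Lib.Helper92

open Cfsg Cfsg.Spor Cfsg.Agent.Lib.Helper7

/-! ### Equivalence under the automorphism group -/

/-- `y` is the image of `x` under an automorphism of the lattice. -/
def CRel (x y : GolayPt → ℤ) : Prop :=
  ∃ g : Equiv.Perm leechLattice, g ∈ Co0 ∧
    ∃ hx : x ∈ leechLattice, ((g ⟨x, hx⟩ : leechLattice) : GolayPt → ℤ) = y

theorem SRel.toC {x y : GolayPt → ℤ} (h : SRel x y) : CRel x y := by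
  obtain ⟨g, hg, -, hx, e⟩ := h
  exact ⟨g, hg, hx, e⟩

theorem CRel.mem_left {x y : GolayPt → ℤ} (h : CRel x y) : x ∈ leechLattice := by
  obtain ⟨g, -, hx, -⟩ := h
  exact hx

theorem CRel.mem_right {x y : GolayPt → ℤ} (h : CRel x y) : y ∈ leechLattice := by
  obtain ⟨g, -, hx, rfl⟩ := h
  exact (g ⟨x, hx⟩).2

theorem CRel.sqNorm_eq {x y : GolayPt → ℤ} (h : CRel x y) : sqNorm y = sqNorm x := by
  obtain ⟨g, hg, hx, rfl⟩ := h
  exact co0_sqNorm hg ⟨x, hx⟩

theorem CRel.refl {x : GolayPt → ℤ} (hx : x ∈ leechLattice) : CRel x x :=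
  ⟨1, Co0.one_mem, hx, rfl⟩

theorem CRel.symm {x y : GolayPt → ℤ} (h : CRel x y) : CRel y x := by
  obtain ⟨g, hg, hx, rfl⟩ := h
  refine ⟨g⁻¹, Co0.inv_mem hg, (g ⟨x, hx⟩).2, ?_⟩
  have : g⁻¹ (g ⟨x, hx⟩) = ⟨x, hx⟩ := Equiv.symm_apply_apply g _
  exact congrArg Subtype.val this

theorem CRel.trans {x y z : GolayPt → ℤ} (h : CRel x y) (h' : CRel y z) : CRel x z := by
  obtain ⟨g, hg, hx, rfl⟩ := h
  obtain ⟨g', hg', hy, rfl⟩ := h'
  exact ⟨g' * g, Co0.mul_mem hg' hg, hx, rfl⟩

theorem CRel.sign {c : GolayPt → ZMod 2} (hc : c ∈ golayCode) {x : GolayPt → ℤ}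
    (hx : x ∈ leechLattice) : CRel x (signVec c x) :=
  ⟨signCo c hc, signCo_mem c hc, hx, rfl⟩

theorem CRel.perm {π : Equiv.Perm GolayPt} (hπ : π ∈ M24) {x : GolayPt → ℤ}
    (hx : x ∈ leechLattice) : CRel x (permVec π x) :=
  ⟨permCo π hπ, permCo_mem π hπ, hx, rfl⟩

theorem CRel.neg {x : GolayPt → ℤ} (hx : x ∈ leechLattice) : CRel x (-x) :=
  ⟨negCo, negCo_mem, hx, rfl⟩

/-! ### Every minimal vector is equivalent to `vecU` -/

theorem exists_code2 (s t : ZMod 2) : ∃ c ∈ golayCode, c none = s ∧ c (some 0) = t := by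
  obtain ⟨c₁, hc₁, h11, h12⟩ := exists_sep none (some 0) (by simp)
  obtain ⟨c₂, hc₂, h21, h22⟩ := exists_sep (some 0) none (by simp)
  refine ⟨s • c₂ + t • c₁, golayCode.add_mem (golayCode.smul_mem s hc₂) (golayCode.smul_mem t hc₁),
    ?_, ?_⟩
  · simp [h11, h22]
  · simp [h12, h21]

theorem crel_neg2 {x : GolayPt → ℤ} (hx : x ∈ leechLattice) :
    ∃ y, CRel x y ∧ y none = -|x none| ∧ y (some 0) = -|x (some 0)| ∧
      ∀ p, p ≠ none → p ≠ some 0 → (y p = x p ∨ y p = -x p) := by
  obtain ⟨c, hc, h1, h2⟩ := exists_code2 (if 0 < x none then 1 else 0)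
    (if 0 < x (some 0) then 1 else 0)
  refine ⟨signVec c x, CRel.sign hc hx, ?_, ?_, ?_⟩
  · unfold signVec sgn
    rw [h1]
    by_cases h : 0 < x none
    · rw [if_pos h, if_pos rfl, abs_of_pos h]; ring
    · rw [if_neg h, if_neg (by decide), abs_of_nonpos (not_lt.mp h)]; ring
  · unfold signVec sgn
    rw [h2]
    by_cases h : 0 < x (some 0)
    · rw [if_pos h, if_pos rfl, abs_of_pos h]; ring
    · rw [if_neg h, if_neg (by decide), abs_of_nonpos (not_lt.mp h)]; ring
  · intro p _ _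
    unfold signVec sgn
    by_cases h : c p = 1
    · right; rw [if_pos h]; ring
    · left; rw [if_neg h]; ring

theorem crel_A {w : GolayPt → ℤ} (hw : w ∈ leechLattice) (hn : sqNorm w = 32)
    (hA : ∀ i, w i % 4 = 0) : CRel w vecU := by
  obtain ⟨i, j, hij, hi, hj, hz⟩ := min_A hn hA
  obtain ⟨π, hπ, hmap⟩ := Cfsg.Agent.Lib.Helper26.M24_lists_map (L := [i, j])
    (L' := [none, some 0]) (by simp [hij]) (by simp) rfl (by simp)
  simp only [List.map_cons, List.map_nil, List.cons.injEq, and_true] at hmap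
  obtain ⟨h1, h2⟩ := hmap
  have hw₁ : permVec π w ∈ leechLattice := permVec_mem hπ hw
  have e1 : π.symm none = i := by rw [Equiv.symm_apply_eq, h1]
  have e2 : π.symm (some 0) = j := by rw [Equiv.symm_apply_eq, h2]
  obtain ⟨y, hy, y1, y2, y3⟩ := crel_neg2 hw₁
  have hyv : -y = vecU := by
    funext p
    unfold vecU
    by_cases hp1 : p = none
    · rw [if_pos (Or.inl hp1), hp1, Pi.neg_apply, y1]
      unfold permVec
      rw [e1]
      rcases hi with h | h <;> rw [h] <;> norm_num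
    · by_cases hp2 : p = some 0
      · rw [if_pos (Or.inr hp2), hp2, Pi.neg_apply, y2]
        unfold permVec
        rw [e2]
        rcases hj with h | h <;> rw [h] <;> norm_num
      · rw [if_neg (by tauto), Pi.neg_apply]
        have hz' : permVec π w p = 0 := by
          unfold permVec
          apply hz
          · intro h
            exact hp1 (by rw [← h1, ← h, Equiv.apply_symm_apply])
          · intro h
            exact hp2 (by rw [← h2, ← h, Equiv.apply_symm_apply])
        rcases y3 p hp1 hp2 with h | h <;> rw [h, hz'] <;> norm_num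
  have r := ((CRel.perm hπ hw).trans hy).trans (CRel.neg hy.mem_right)
  rw [hyv] at r
  exact r

theorem exists_oct11 : ∃ O ∈ octads, none ∈ O ∧ some 0 ∈ O := by
  obtain ⟨o, ho, hsub⟩ := Cfsg.Agent.Lib.Helper93.octad_exists
    (s := ({none, some 0, some 1, some 2, some 3} : Finset GolayPt)) (by decide)
  exact ⟨o, ho, hsub (by simp), hsub (by simp)⟩

/-- Every minimal vector is equivalent, under the automorphism group, to a minimal vector with
inner product `-16` with `vecU`, unless all its entries are divisible by `4`. -/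
theorem crel_to16 {w : GolayPt → ℤ} (hw : w ∈ leechLattice) (hn : sqNorm w = 32)
    (hA : ¬ ∀ i, w i % 4 = 0) : ∃ y, CRel w y ∧ dotInt vecU y = -16 := by
  classical
  by_cases ho : w none % 2 = 1
  · obtain ⟨j, hj, hr⟩ := min_odd hw hn ho
    obtain ⟨π, hπ, hmap⟩ := Cfsg.Agent.Lib.Helper26.M24_lists_map (L := [j])
      (L' := [none]) (by simp) (by simp) rfl (by simp)
    simp only [List.map_cons, List.map_nil, List.cons.injEq, and_true] at hmap
    have hw₁ : permVec π w ∈ leechLattice := permVec_mem hπ hw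
    have e1 : π.symm none = j := by rw [Equiv.symm_apply_eq, hmap]
    have e2 : π.symm (some 0) ≠ j := by
      intro h
      rw [Equiv.symm_apply_eq, hmap] at h
      exact absurd h (by simp)
    obtain ⟨y, hy, y1, y2, -⟩ := crel_neg2 hw₁
    refine ⟨y, (CRel.perm hπ hw).trans hy, ?_⟩
    rw [dot_vecU, y1, y2]
    unfold permVec
    rw [e1]
    rcases hj with h | h <;> rcases hr _ e2 with h' | h' <;> rw [h, h'] <;> norm_num
  · have he : w none % 2 = 0 := by omega
    obtain ⟨hO, hOv⟩ := min_B hw hn he hA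
    obtain ⟨O', hO', hn1, hn2⟩ := exists_oct11
    obtain ⟨π, hπ, hπO⟩ := octad_transitive hO hO'
    have hw₁ : permVec π w ∈ leechLattice := permVec_mem hπ hw
    have hin : ∀ p, p ∈ O' → (w (π.symm p) = 2 ∨ w (π.symm p) = -2) := by
      intro p hp
      apply (hOv _).1
      rw [← hπO] at hp
      obtain ⟨q, hq, rfl⟩ := Finset.mem_smul_finset.mp hp
      have : π.symm (π • q) = q := Equiv.symm_apply_apply π q
      rw [this]
      exact hq
    obtain ⟨y, hy, y1, y2, -⟩ := crel_neg2 hw₁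
    refine ⟨y, (CRel.perm hπ hw).trans hy, ?_⟩
    rw [dot_vecU, y1, y2]
    unfold permVec
    rcases hin none hn1 with h | h <;> rcases hin (some 0) hn2 with h' | h' <;> rw [h, h'] <;>
      norm_num

/-- The automorphism group is transitive on minimal vectors. -/
theorem crel_min {w : GolayPt → ℤ} (hw : w ∈ leechLattice) (hn : sqNorm w = 32) :
    CRel w vecU := by
  by_cases hA : ∀ i, w i % 4 = 0
  · exact crel_A hw hn hA
  · obtain ⟨y, hy, hd⟩ := crel_to16 hw hn hA
    have hyn : sqNorm y = 32 := by rw [hy.sqNorm_eq, hn]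
    have r := toBase16 hy.mem_right hyn hd
    obtain ⟨hr1, hr2, -, -, hr5⟩ := inKey_of_chk rep16_key
    exact (hy.trans r.toC).trans (crel_A hr1 hr2 (hr5.mpr rfl))

end Cfsg.Agent.Lib.Helper92
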