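import Cfsg.Agent.Lib.Helper92.LeechMaskOrb

set_option autoImplicit false

open scoped Pointwise

namespace Cfsg.Agent.Lib.Helper92

open Cfsg Cfsg.Spor Cfsg.Agent.Lib.Helper7

/-! ### Fast comparisons -/

/-- Equality test on integers. -/
def intEqB : ℤ → ℤ → Bool
  | Int.ofNat a, Int.ofNat b => Nat.beq a b
  | Int.negSucc a, Int.negSucc b => Nat.beq a b
  | _, _ => false

theorem intEqB_iff (a b : ℤ) : intEqB a b = true ↔ a = b := by
  cases a <;> cases b <;> simp [intEqB]

/-- Equality test on lists of integers. -/
def listEqB : List ℤ → List ℤ → Bool
  | [], [] => true
  | a :: as, b :: bs => intEqB a b && listEqB as bs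
  | _, _ => false

theorem listEqB_iff : ∀ (l l' : List ℤ), listEqB l l' = true ↔ l = l'
  | [], [] => by simp [listEqB]
  | [], _ :: _ => by simp [listEqB]
  | _ :: _, [] => by simp [listEqB]
  | a :: as, b :: bs => by
    simp only [listEqB, Bool.and_eq_true, intEqB_iff, listEqB_iff as bs, List.cons.injEq]

/-- Inner product of two lists. -/
def dotL : List ℤ → List ℤ → ℤ
  | a :: as, b :: bs => a * b + dotL as bs
  | _, _ => 0

theorem dotL_eq : ∀ (n : ℕ) (l l' : List ℤ), l.length = n → l'.length = n →
    dotL l l' = ((List.range n).map (fun j => l.getD j 0 * l'.getD j 0)).sum := by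
  intro n
  induction n with
  | zero =>
    intro l l' h h'
    rw [List.length_eq_zero_iff] at h h'
    subst h h'
    rfl
  | succ n ih =>
    intro l l' h h'
    match l, l', h, h' with
    | a :: as, b :: bs, h, h' =>
      simp only [List.length_cons, Nat.add_right_cancel_iff] at h h'
      rw [List.range_succ_eq_map, List.map_cons, List.sum_cons, List.map_map]
      simp only [dotL, List.getD_cons_zero]
      rw [ih as bs h h']
      rfl

theorem dotL_vecOf {l l' : List ℤ} (h : l.length = 24) (h' : l'.length = 24) :
    dotInt (vecOf l) (vecOf l') = dotL l l' := by
  rw [dotInt_vecOf, dotL_eq 24 l l' h h']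

theorem length_toL (x : GolayPt → ℤ) : (toL x).length = 24 := by
  unfold toL
  rw [List.length_map, List.length_range]

theorem toL_vecOf {l : List ℤ} (h : l.length = 24) : toL (vecOf l) = l := by
  have e : toL (vecOf l) = (List.range 24).map (fun j => l.getD j 0) := by
    unfold toL
    exact List.map_congr_left (fun j hj => vecOf_pt l (List.mem_range.mp hj))
  rw [e]
  apply List.ext_getElem
  · rw [List.length_map, List.length_range, h]
  · intro i h1 h2
    rw [List.getElem_map, List.getElem_range, List.getD_eq_getElem _ _ h2]

/-! ### Primitive maps -/

/-- The primitive maps: a coordinate permutation (packed table of the inverse, with a word in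
the generators), a sign change (mask, with its information bits), and the two extra maps. -/
inductive Prim
  | P (t : ℕ) (w : List ℕ)
  | S (m k : ℕ)
  | X
  | Y

/-- The map on lists of a primitive. -/
def Prim.fn : Prim → List ℤ → List ℤ
  | .P t _ => permL t
  | .S m _ => signL m
  | .X => xiL
  | .Y => xiInvL

/-- The check that the data of a primitive is consistent. -/
def Prim.valid : Prim → Bool
  | .P t w => Nat.beq (invT (evalT T5 w)) t
  | .S m k => Nat.beq (enc k) m
  | .X => true
  | .Y => true

theorem Prim.good {p : Prim} (h : p.valid = true) : Good p.fn := by
  cases p with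
  | P t w => exact good_perm_of_eq w (Nat.eq_of_beq_eq_true h)
  | S m k => exact good_sign_of_eq k (Nat.eq_of_beq_eq_true h)
  | X => exact good_xi
  | Y => exact good_xiInv

/-- Apply the primitives one after the other, checking the given intermediate results. -/
def chain : List Prim → List ℤ → List (List ℤ) → Option (List ℤ)
  | [], v, [] => some v
  | p :: ps, v, m :: ms => if listEqB (p.fn v) m then chain ps m ms else none
  | _, _, _ => none

theorem chain_eq : ∀ (ps : List Prim) (v : List ℤ) (ms : List (List ℤ)) (v' : List ℤ),
    chain ps v ms = some v' → opsApp (ps.map Prim.fn) v = v'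
  | [], v, [], v', h => by
    simp only [chain, Option.some.injEq] at h
    rw [← h]
    rfl
  | [], v, _ :: _, v', h => by simp [chain] at h
  | _ :: _, v, [], v', h => by simp [chain] at h
  | p :: ps, v, m :: ms, v', h => by
    simp only [chain] at h
    by_cases he : listEqB (p.fn v) m = true
    · rw [if_pos he] at h
      have e := (listEqB_iff _ _).mp he
      have := chain_eq ps m ms v' h
      rw [← this, ← e]
      rfl
    · rw [if_neg he] at h
      simp at h

/-- The check that a generator is made of valid primitives and fixes the base vectors. -/
def genOK (B : List (List ℤ)) (g : List Prim) (mids : List (List (List ℤ))) : Bool :=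
  g.all Prim.valid && Nat.beq mids.length B.length &&
    (B.zip mids).all (fun bm => match chain g bm.1 bm.2 with
      | some v => listEqB v bm.1
      | none => false)

theorem genOK_sound {B : List (List ℤ)} {g : List Prim} {mids : List (List (List ℤ))}
    (h : genOK B g mids = true) : GoodFix B (opsApp (g.map Prim.fn)) := by
  unfold genOK at h
  rw [Bool.and_eq_true, Bool.and_eq_true] at h
  obtain ⟨⟨h1, h2⟩, h3⟩ := h
  have hgood : Good (opsApp (g.map Prim.fn)) := by
    apply good_opsApp
    intro f hf
    obtain ⟨p, hp, rfl⟩ := List.mem_map.mp hf
    exact Prim.good (List.all_eq_true.mp h1 p hp)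
  refine GoodFix.of_good hgood (fun b hb => ?_)
  have hlen : mids.length = B.length := Nat.eq_of_beq_eq_true h2
  obtain ⟨i, hi, rfl⟩ := List.mem_iff_getElem.mp hb
  have hmem : (B[i], mids[i]'(by omega)) ∈ B.zip mids := by
    have : (B.zip mids)[i]'(by rw [List.length_zip]; omega) = (B[i], mids[i]'(by omega)) :=
      List.getElem_zip
    rw [← this]
    exact List.getElem_mem _
  have := List.all_eq_true.mp h3 _ hmem
  simp only at this
  cases hc : chain g B[i] (mids[i]'(by omega)) with
  | none => rw [hc] at this; simp at this
  | some v =>
    rw [hc] at this
    simp only at this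
    have e := (listEqB_iff _ _).mp this
    exact (chain_eq _ _ _ _ hc).trans e

/-! ### The machine visiting vectors -/

/-- Instructions: apply a generator to the top of the stack (with the intermediate results)
and push the result; pop; record the top of the stack. -/
inductive Ins
  | push (i : ℕ) (mids : List (List ℤ))
  | pop
  | mark

/-- The machine visiting vectors. -/
def runV (gens : List (List Prim)) :
    List Ins → List (List ℤ) → List (List ℤ) → Option (List (List ℤ))
  | [], _, acc => some acc
  | Ins.push i mids :: is, top :: st, acc =>
    match gens[i]? with
    | some g =>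
      match chain g top mids with
      | some v => runV gens is (v :: top :: st) acc
      | none => none
    | none => none
  | Ins.pop :: is, _ :: st, acc => runV gens is st acc
  | Ins.mark :: is, top :: st, acc => runV gens is (top :: st) (top :: acc)
  | _ :: _, [], _ => none

theorem runV_sound {B : List (List ℤ)} {gens : List (List Prim)}
    (hg : ∀ g ∈ gens, GoodFix B (opsApp (g.map Prim.fn))) (x : GolayPt → ℤ) :
    ∀ (is : List Ins) (st acc res : List (List ℤ)), runV gens is st acc = some res →
      (∀ v ∈ st, VRel B x (vecOf v)) → (∀ v ∈ acc, VRel B x (vecOf v)) →
      ∀ v ∈ res, VRel B x (vecOf v) := by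
  intro is
  induction is with
  | nil =>
    intro st acc res h _ hacc
    simp only [runV, Option.some.injEq] at h
    rw [← h]
    exact hacc
  | cons ins is ih =>
    intro st acc res h hst hacc
    cases st with
    | nil => cases ins <;> simp [runV] at h
    | cons top st =>
      cases ins with
      | pop =>
        simp only [runV] at h
        exact ih st acc res h (fun v hv => hst v (List.mem_cons_of_mem _ hv)) hacc
      | mark =>
        simp only [runV] at h
        refine ih (top :: st) (top :: acc) res h hst ?_
        intro v hv
        rcases List.mem_cons.mp hv with rfl | hv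
        · exact hst _ List.mem_cons_self
        · exact hacc v hv
      | push i mids =>
        simp only [runV] at h
        cases hgi : gens[i]? with
        | none => rw [hgi] at h; simp at h
        | some g =>
          rw [hgi] at h
          simp only at h
          cases hc : chain g top mids with
          | none => rw [hc] at h; simp at h
          | some v =>
            rw [hc] at h
            simp only at h
            have hgm : g ∈ gens := List.mem_of_getElem? hgi
            have htop := hst top List.mem_cons_self
            have hv : VRel B x (vecOf v) := by
              rw [← chain_eq _ _ _ _ hc]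
              exact htop.trans ((hg g hgm).vrel htop.mem_right)
            refine ih (v :: top :: st) acc res h ?_ hacc
            intro v' hv'
            rcases List.mem_cons.mp hv' with rfl | hv'
            · exact hv
            · exact hst v' hv'

end Cfsg.Agent.Lib.Helper92
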