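import Cfsg.Agent.Lib.Helper92.OutCo2F
import Cfsg.Agent.Lib.Helper92.LeechNonsplit

set_option autoImplicit false

open scoped Pointwise

namespace Cfsg.Agent.Lib.Helper92.OC1

open Cfsg Cfsg.Spor Cfsg.Agent.Lib.Helper7 Cfsg.Agent.Lib.Helper92 Cfsg.Agent.Lib.Helper92.OC2

/-! ### Two further elements of the centraliser of the element of order `11` -/

/-- The primitives of the sign change on the dodecad of the squares and of the element of
order `22`. -/
def eDP : List Prim := [Prim.S 340831 83]

def tauP : List Prim :=
  [Prim.P 969952412052033243847481939299780672 [2, 2]] ++ hIP ++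
    [Prim.P 983980910369077368051240746380176906 [4, 0, 2, 2, 3, 3, 4, 0, 0, 4, 4, 0, 4]]

theorem eDP_valid : eDP.all Prim.valid = true := by decide +kernel

theorem tauP_valid : tauP.all Prim.valid = true := by decide +kernel

/-- The two elements. -/
noncomputable def eDE : Co0 := Classical.choose (exists_acts eDP eDP_valid)

noncomputable def tauE : Co0 := Classical.choose (exists_acts tauP tauP_valid)

/-- Their maps. -/
def eDL : List ℤ → List ℤ := opsApp (eDP.map Prim.fn)

def tauL : List ℤ → List ℤ := opsApp (tauP.map Prim.fn)

theorem eDE_acts : Acts eDE eDL := Classical.choose_spec (exists_acts eDP eDP_valid)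

theorem tauE_acts : Acts tauE tauL := Classical.choose_spec (exists_acts tauP tauP_valid)

/-! ### Words in the extended set of letters -/

/-- The primitives of the letters: `25` is the sign change, `26` the element of order `22`, the
others are as before. -/
def letP2 (k : ℕ) : List Prim := if k = 25 then eDP else if k = 26 then tauP else letP k

/-- The maps of the letters. -/
def letL2 (k : ℕ) : List ℤ → List ℤ := opsApp ((letP2 k).map Prim.fn)

/-- The letters. -/
noncomputable def letE2 (k : ℕ) : Co0 := if k = 25 then eDE else if k = 26 then tauE else letE k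

theorem letE2_acts (k : ℕ) : Acts (letE2 k) (letL2 k) := by
  unfold letE2 letL2 letP2
  by_cases h25 : k = 25
  · rw [if_pos h25, if_pos h25]
    exact eDE_acts
  · rw [if_neg h25, if_neg h25]
    by_cases h26 : k = 26
    · rw [if_pos h26, if_pos h26]
      exact tauE_acts
    · rw [if_neg h26, if_neg h26]
      exact letE_acts k

/-- The primitives of a word. -/
def wP2 (w : List ℕ) : List Prim := (w.reverse.map letP2).flatten

theorem wL2_eq (w : List ℕ) (l : List ℤ) :
    wL letL2 w l = opsApp ((wP2 w).map Prim.fn) l := by
  induction w with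
  | nil => rfl
  | cons k w ih =>
    have e : wP2 (k :: w) = wP2 w ++ letP2 k := by
      unfold wP2
      rw [List.reverse_cons, List.map_append, List.flatten_append]
      simp
    rw [e, List.map_append, opsApp_append, ← ih]
    rfl

/-- The check that a word maps a list to a list which differs from it at one coordinate and
from its opposite at another coordinate. -/
def pmChk (w : List ℕ) (v : List ℤ) (mids : List (List ℤ)) (j j' : ℕ) : Bool :=
  match chain (wP2 w) v mids with
  | some v' => !(intEqB (v'.getD j 0) (v.getD j 0)) && !(intEqB (v'.getD j' 0) (-(v.getD j' 0)))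
      && decide (j < 24) && decide (j' < 24)
  | none => false

theorem ne_pm_of_chk {w : List ℕ} {v : List ℤ} {mids : List (List ℤ)} {j j' : ℕ}
    (hv : vecOf v ∈ leechLattice) (h : pmChk w v mids j j' = true) :
    wE letE2 w ≠ 1 ∧ wE letE2 w ≠ negElt := by
  unfold pmChk at h
  cases hc : chain (wP2 w) v mids with
  | none =>
    rw [hc] at h
    simp at h
  | some v' =>
    rw [hc] at h
    simp only [Bool.and_eq_true, Bool.not_eq_true', decide_eq_true_eq] at h
    obtain ⟨⟨⟨c1, c2⟩, hj⟩, hj'⟩ := h
    have h1 := wE_acts letE2_acts w v hv
    rw [wL2_eq, chain_eq _ _ _ _ hc] at h1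
    constructor
    · intro e
      rw [e, one_smul] at h1
      have h2 : vecOf v (pt j) = vecOf v' (pt j) := congrFun h1 (pt j)
      rw [vecOf_pt _ hj, vecOf_pt _ hj] at h2
      rw [(intEqB_iff _ _).mpr h2.symm] at c1
      exact absurd c1 (by simp)
    · intro e
      rw [e, negElt_smul] at h1
      have h2 : -(vecOf v (pt j')) = vecOf v' (pt j') := congrFun h1 (pt j')
      rw [vecOf_pt _ hj', vecOf_pt _ hj'] at h2
      rw [(intEqB_iff _ _).mpr h2.symm] at c2
      exact absurd c2 (by simp)

end Cfsg.Agent.Lib.Helper92.OC1
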