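import Cfsg.Agent.Lib.Helper92.OutCo1A

set_option autoImplicit false

open scoped Pointwise

namespace Cfsg.Agent.Lib.Helper92.OC1

open Cfsg Cfsg.Spor Cfsg.Agent.Lib.Helper7 Cfsg.Agent.Lib.Helper92 Cfsg.Agent.Lib.Helper92.OC2

/-! ### Relations between the new elements -/

/-- The negation on lists. -/
def negL (l : List ℤ) : List ℤ := (List.range 24).map (fun j => -(l.getD j 0))

theorem negElt_acts : Acts negElt negL := by
  intro l h
  rw [negElt_smul]
  funext p
  show -(vecOf l p) = vecOf (negL l) p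
  unfold negL
  rw [vecOf_map]
  rfl

theorem tau_n : tauE * nE = nE * tauE :=
  eq_of_chk (tauE_acts.mul nE_acts) (nE_acts.mul tauE_acts) (by decide +kernel)

theorem e_n : eDE * nE = nE * eDE :=
  eq_of_chk (eDE_acts.mul nE_acts) (nE_acts.mul eDE_acts) (by decide +kernel)

theorem e_sq : eDE * eDE = 1 := eq_one_of_chk (eDE_acts.mul eDE_acts) (by decide +kernel)

theorem ze_sq : zE * eDE * (zE * eDE) = negElt :=
  eq_of_chk ((zE_acts.mul eDE_acts).mul (zE_acts.mul eDE_acts)) negElt_acts (by decide +kernel)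

theorem smul_of_acts {g : Co0} {f : List ℤ → List ℤ} (hg : Acts g f) {l l' : List ℤ}
    (h : vecOf l ∈ leechLattice) (h' : vecOf l' ∈ leechLattice) (e : f l = l') :
    g • (⟨vecOf l, h⟩ : leechLattice) = ⟨vecOf l', h'⟩ :=
  Subtype.ext ((hg l h).trans (congrArg vecOf e))

/-- The six elements of the centraliser of the element of order `11`, up to its powers and
the sign. -/
noncomputable def kap (i : ℕ) : Co0 :=
  match i with
  | 0 => 1
  | 1 => eDE
  | 2 => tauE
  | 3 => tauE * eDE
  | 4 => eDE * tauE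
  | _ => eDE * tauE * eDE

/-- Their maps. -/
def kapF (i : ℕ) : List ℤ → List ℤ :=
  match i with
  | 0 => fun l => l
  | 1 => eDL
  | 2 => tauL
  | 3 => fun l => tauL (eDL l)
  | 4 => fun l => eDL (tauL l)
  | _ => fun l => eDL (tauL (eDL l))

theorem kap_acts (i : ℕ) : Acts (kap i) (kapF i) := by
  match i with
  | 0 => exact acts_one
  | 1 => exact eDE_acts
  | 2 => exact tauE_acts
  | 3 => exact tauE_acts.mul eDE_acts
  | 4 => exact eDE_acts.mul tauE_acts
  | (i + 5) => exact (eDE_acts.mul tauE_acts).mul eDE_acts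

theorem kap_n (i : ℕ) : kap i * nE = nE * kap i := by
  have h1 := tau_n
  have h2 := e_n
  match i with
  | 0 => show 1 * nE = nE * 1; rw [one_mul, mul_one]
  | 1 => exact e_n
  | 2 => exact tau_n
  | 3 =>
    show tauE * eDE * nE = nE * (tauE * eDE)
    rw [mul_assoc, h2, ← mul_assoc, h1, mul_assoc]
  | 4 =>
    show eDE * tauE * nE = nE * (eDE * tauE)
    rw [mul_assoc, h1, ← mul_assoc, h2, mul_assoc]
  | (i + 5) =>
    show eDE * tauE * eDE * nE = nE * (eDE * tauE * eDE)
    rw [mul_assoc, h2, ← mul_assoc, mul_assoc eDE, h1, ← mul_assoc, h2]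
    simp only [mul_assoc]

/-- The images of the first base vector. -/
def kapV (i : ℕ) : List ℤ :=
  match i with
  | 0 => vL 4 4 0 0
  | 1 => vL (-4) 4 0 0
  | 2 => vL 1 (-3) 1 1
  | 3 => vL (-3) (-1) 1 (-1)
  | 4 => vL (-1) (-3) (-1) 1
  | _ => vL 3 (-1) (-1) (-1)

theorem kapV_mem : ∀ i < 6, leechB (kapV i) = true := by decide +kernel

theorem kapV_eq : ∀ i < 6, listEqB (kapF i a0L) (kapV i) = true := by decide +kernel

theorem kap_crx {i : ℕ} (hi : i < 6) :
    ((kap i • crx : leechLattice) : GolayPt → ℤ) = vecOf (kapV i) :=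
  ((kap_acts i) a0L a0L_mem).trans (congrArg vecOf ((listEqB_iff _ _).mp (kapV_eq i hi)))

theorem vecOf_negL (l : List ℤ) : vecOf (negL l) = -vecOf l := by
  funext p
  show vecOf (negL l) p = -(vecOf l p)
  unfold negL
  rw [vecOf_map]
  rfl

/-- The integral solutions of the conditions on a minimal vector fixed by the element of
order `11`. -/
theorem fix_cases (A B C D : ℤ) (hn : dotL (vL A B C D) (vL A B C D) = 32)
    (hd1 : (8 : ℤ) ∣ dotL w3L (vL A B C D)) (hd2 : (8 : ℤ) ∣ dotL (kapV 4) (vL A B C D)) :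
    ∃ i < 6, vL A B C D = kapV i ∨ vL A B C D = negL (kapV i) := by
  simp only [vL, w3L, kapV, dotL] at hn hd1 hd2
  have hq : A * A + B * B + 11 * (C * C) + 11 * (D * D) = 32 := by linarith
  have hC1 : -1 ≤ C ∧ C ≤ 1 := by
    constructor <;>
      nlinarith [mul_self_nonneg A, mul_self_nonneg B, mul_self_nonneg D, mul_self_nonneg C]
  have hD1 : -1 ≤ D ∧ D ≤ 1 := by
    constructor <;>
      nlinarith [mul_self_nonneg A, mul_self_nonneg B, mul_self_nonneg D, mul_self_nonneg C]
  have hA1 : -5 ≤ A ∧ A ≤ 5 := by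
    constructor <;>
      nlinarith [mul_self_nonneg A, mul_self_nonneg B, mul_self_nonneg D, mul_self_nonneg C]
  have hB1 : -5 ≤ B ∧ B ≤ 5 := by
    constructor <;>
      nlinarith [mul_self_nonneg A, mul_self_nonneg B, mul_self_nonneg D, mul_self_nonneg C]
  obtain ⟨c1, c2⟩ := hC1
  obtain ⟨d1, d2⟩ := hD1
  obtain ⟨a1, a2⟩ := hA1
  obtain ⟨b1, b2⟩ := hB1
  clear hn
  interval_cases C <;> interval_cases D <;> interval_cases A <;> interval_cases B <;>
    first
    | omega
    | exact ⟨0, by norm_num, Or.inl rfl⟩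
    | exact ⟨0, by norm_num, Or.inr rfl⟩
    | exact ⟨1, by norm_num, Or.inl rfl⟩
    | exact ⟨1, by norm_num, Or.inr rfl⟩
    | exact ⟨2, by norm_num, Or.inl rfl⟩
    | exact ⟨2, by norm_num, Or.inr rfl⟩
    | exact ⟨3, by norm_num, Or.inl rfl⟩
    | exact ⟨3, by norm_num, Or.inr rfl⟩
    | exact ⟨4, by norm_num, Or.inl rfl⟩
    | exact ⟨4, by norm_num, Or.inr rfl⟩
    | exact ⟨5, by norm_num, Or.inl rfl⟩
    | exact ⟨5, by norm_num, Or.inr rfl⟩

theorem negElt_comm (g : Co0) : g * negElt = negElt * g :=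
  Subgroup.mem_center_iff.mp negElt_mem_center g

/-- The centraliser of the element of order `11` in the group of the lattice. -/
theorem cent_all (c : Co0) (hcn : c * nE = nE * c) :
    ∃ i < 6, ∃ m : ℕ, c = kap i * nE ^ m ∨ c = negElt * (kap i * nE ^ m) := by
  have : Finite Co0 := Nat.finite_of_card_ne_zero (by rw [card_co0]; norm_num)
  have hfix : nE • (c • crx) = c • crx := by rw [← mul_smul, ← hcn, mul_smul, nE_fix]
  have hn0 : sqNorm ((c • crx : leechLattice) : GolayPt → ℤ) = 32 :=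
    (co0_smul_sqNorm c crx).trans crx_norm
  obtain ⟨yv, hyv⟩ : ∃ yv : GolayPt → ℤ, yv = ((c • crx : leechLattice) : GolayPt → ℤ) :=
    ⟨_, rfl⟩
  have hperm : ∀ q, yv (sgP q) = yv q := by
    intro q
    have h1 := congrFun (congrArg Subtype.val hfix) (sgP q)
    change permVec sgP ((c • crx : leechLattice) : GolayPt → ℤ) (sgP q) = _ at h1
    unfold permVec at h1
    rw [Equiv.symm_apply_apply] at h1
    rw [hyv]
    exact h1.symm
  have hv := orbit_const yv hperm
  generalize yv (pt 0) = A at hv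
  generalize yv (pt 23) = B at hv
  generalize yv (pt 1) = C at hv
  generalize yv (pt 5) = D at hv
  have hn := hn0
  rw [← hyv, hv, sqNorm_vecOf_dotL (by rfl)] at hn
  have hd1 : (8 : ℤ) ∣ dotInt (vecOf w3L) yv := by
    rw [hyv]
    exact dotInt_dvd w3L_mem (c • crx).2
  have hd2 : (8 : ℤ) ∣ dotInt (vecOf (kapV 4)) yv := by
    rw [hyv]
    exact dotInt_dvd (leechB_sound (kapV_mem 4 (by norm_num))) (c • crx).2
  rw [hv, dotL_vecOf (by rfl) (by rfl)] at hd1 hd2
  obtain ⟨i, hi, hcase⟩ := fix_cases A B C D hn hd1 hd2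
  have hcn' : Commute c nE := hcn
  have hkn : Commute (kap i)⁻¹ nE := Commute.inv_left (kap_n i)
  refine ⟨i, hi, ?_⟩
  rcases hcase with h | h
  · have e : c • crx = kap i • crx := by
      apply Subtype.ext
      rw [← hyv, hv, h]
      exact (kap_crx hi).symm
    have hd : ((kap i)⁻¹ * c) • crx = crx := by rw [mul_smul, e, inv_smul_smul]
    have hdn : (kap i)⁻¹ * c * nE = nE * ((kap i)⁻¹ * c) := (hkn.mul_left hcn').eq
    obtain ⟨m, hm⟩ := Cfsg.Agent.Lib.Helper27.AutTower.exists_pow_of_mem_zpowers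
      (cent_nE zE_sq zn_rel _ hd hdn)
    exact ⟨m, Or.inl (by rw [← hm, mul_inv_cancel_left])⟩
  · have e : c • crx = negElt • (kap i • crx) := by
      apply Subtype.ext
      rw [negElt_smul, ← hyv, hv, h, vecOf_negL, kap_crx hi]
    have hd : ((kap i)⁻¹ * (negElt * c)) • crx = crx := by
      rw [mul_smul, mul_smul, e, ← mul_smul negElt negElt, negElt_mul_self, one_smul,
        inv_smul_smul]
    have hnn : Commute negElt nE := (negElt_comm nE).symm
    have hdn : (kap i)⁻¹ * (negElt * c) * nE = nE * ((kap i)⁻¹ * (negElt * c)) :=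
      (hkn.mul_left (hnn.mul_left hcn')).eq
    obtain ⟨m, hm⟩ := Cfsg.Agent.Lib.Helper27.AutTower.exists_pow_of_mem_zpowers
      (cent_nE zE_sq zn_rel _ hd hdn)
    refine ⟨m, Or.inr ?_⟩
    rw [← hm, mul_inv_cancel_left, ← mul_assoc, negElt_mul_self, one_mul]

/-! ### Generation -/

theorem e_crx : eDE • crx = crz :=
  smul_of_acts eDE_acts a0L_mem nxL_mem ((listEqB_iff _ _).mp (by decide +kernel))

/-- The three elements generate the group of the lattice. -/
theorem gen_co0 : Subgroup.closure ({xE, zE, eDE} : Set Co0) = ⊤ := by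
  classical
  have : Finite Co0 := Nat.finite_of_card_ne_zero (by rw [card_co0]; norm_num)
  have D := co1_data crx crx_norm
  generalize hM : Subgroup.closure ({xE, zE, eDE} : Set Co0) = M
  have hSM : MulAction.stabilizer Co0 crx ≤ M := by
    rw [← FG_eq, ← hM]
    unfold FG
    apply Subgroup.closure_mono
    intro y hy
    rcases hy with rfl | rfl
    · exact Set.mem_insert _ _
    · exact Set.mem_insert_of_mem _ (Set.mem_insert _ _)
  have heM : eDE ∈ M := by
    rw [← hM]
    exact Subgroup.subset_closure (by simp)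
  have c1 : Nat.card Co0 = 196560 * Nat.card ↥(MulAction.stabilizer Co0 crx) := by
    rw [D.card, ncard_min]
  have cM1 := card_sub_orbit M crx (orbOf M crx) (fun y => Iff.rfl)
  have eS : M ⊓ MulAction.stabilizer Co0 crx = MulAction.stabilizer Co0 crx :=
    inf_eq_right.mpr hSM
  rw [eS] at cM1
  have hpos : 0 < Nat.card ↥(MulAction.stabilizer Co0 crx) := Nat.card_pos
  have d1 : (orbOf M crx).ncard ∣ 196560 := by
    have h := Subgroup.card_subgroup_dvd_card M
    rw [cM1, c1] at h
    exact Nat.dvd_of_mul_dvd_mul_right hpos h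
  have hOX : orbOf M crx ⊆ {y : leechLattice | sqNorm (y : GolayPt → ℤ) = 32} := by
    rintro y ⟨g, -, rfl⟩
    exact (co0_smul_sqNorm g crx).trans crx_norm
  obtain ⟨I, hI, hmem, -, hcard⟩ := D.ncard_inv (orbOf M crx) hOX (by
    rintro g hg y ⟨k, hk, rfl⟩
    exact ⟨g * k, M.mul_mem (hSM (MulAction.mem_stabilizer_iff.mpr hg)) hk, mul_smul _ _ _⟩)
  have h32 : (32 : ℤ) ∈ I := by
    have h1 : crx ∈ orbOf M crx := ⟨1, M.one_mem, one_smul _ _⟩
    have h2 := (hmem crx crx_norm).mp h1
    have h3 : dotC crx crx = 32 := (dotInt_self _).trans crx_norm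
    rw [h3] at h2
    exact h2
  have h0 : (0 : ℤ) ∈ I := by
    have h1 : crz ∈ orbOf M crx := ⟨eDE, heM, e_crx⟩
    have h2 := (hmem crz crz_norm).mp h1
    have h3 : dotC crx crz = 0 := crx_crz
    rw [h3] at h2
    exact h2
  rcases co1_prim I (Finset.mem_powerset.mpr hI) h32 (by rw [← hcard]; exact d1) with h | h | h
  · rw [h] at h0
    exact absurd h0 (by decide)
  · rw [h] at h0
    exact absurd h0 (by decide)
  · rw [Subgroup.eq_top_iff']
    intro g
    have hgn : sqNorm ((g • crx : leechLattice) : GolayPt → ℤ) = 32 :=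
      (co0_smul_sqNorm g crx).trans crx_norm
    have hg : g • crx ∈ orbOf M crx := (hmem _ hgn).mpr (h ▸ D.hcols _ hgn)
    obtain ⟨k, hk, e⟩ := hg
    have hs : k⁻¹ * g ∈ MulAction.stabilizer Co0 crx := by
      rw [MulAction.mem_stabilizer_iff, mul_smul, inv_smul_eq_iff, e]
    have := M.mul_mem hk (hSM hs)
    rwa [mul_inv_cancel_left] at this

end Cfsg.Agent.Lib.Helper92.OC1
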