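import Cfsg.Agent.Lib.Helper92.OutCo1B
import Cfsg.Agent.Lib.Helper92.LeechCo1Simple

set_option autoImplicit false

open scoped Pointwise

namespace Cfsg.Agent.Lib.Helper92.OC1

open Cfsg Cfsg.Spor Cfsg.Agent.Lib.Helper7 Cfsg.Agent.Lib.Helper92 Cfsg.Agent.Lib.Helper92.OC2

/-! ### The quotient by the centre -/

/-- The quotient map. -/
noncomputable abbrev pr : Co0 →* Co1 := QuotientGroup.mk' (Subgroup.center Co0)

theorem pr_eq_one {g : Co0} : pr g = 1 ↔ g = 1 ∨ g = negElt := by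
  rw [show pr g = (g : Co0 ⧸ Subgroup.center Co0) from rfl, QuotientGroup.eq_one_iff]
  constructor
  · exact center_co0 g
  · rintro (rfl | rfl)
    · exact Subgroup.one_mem _
    · exact negElt_mem_center

theorem pr_surj : Function.Surjective pr := QuotientGroup.mk'_surjective _

theorem pr_neg : pr negElt = 1 := pr_eq_one.mpr (Or.inr rfl)

theorem C1_card : Nat.card Co1 = 4157776806543360000 := co1_isCo1.2

instance C1_finite : Finite Co1 := Nat.finite_of_card_ne_zero (by rw [C1_card]; norm_num)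

theorem fix_ne_neg {g : Co0} (h : g • crx = crx) : g ≠ negElt := by
  rintro rfl
  have h1 := congrFun (congrArg Subtype.val h) (pt 0)
  rw [negElt_smul] at h1
  have h2 : vecOf a0L (pt 0) = 4 := by
    rw [vecOf_pt _ (by norm_num)]
    rfl
  change -(vecOf a0L (pt 0)) = vecOf a0L (pt 0) at h1
  rw [h2] at h1
  norm_num at h1

/-- The images of the four elements. -/
noncomputable def Xb : Co1 := pr xE

noncomputable def Nb : Co1 := pr nE

noncomputable def Zb : Co1 := pr zE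

noncomputable def Eb : Co1 := pr eDE

theorem Xb_order : orderOf Xb = 23 := by
  apply orderOf_eq_prime
  · show pr xE ^ 23 = 1
    rw [← map_pow, xE_pow23, map_one]
  · intro h
    rcases pr_eq_one.mp h with e | e
    · exact xE_ne e
    · exact fix_ne_neg xE_fix e

theorem Nb_order : orderOf Nb = 11 := by
  apply orderOf_eq_prime
  · show pr nE ^ 11 = 1
    rw [← map_pow, nE_pow11, map_one]
  · intro h
    rcases pr_eq_one.mp h with e | e
    · exact nE_ne e
    · exact fix_ne_neg nE_fix e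

theorem Nb_pow11 : Nb ^ 11 = 1 := by
  rw [← Nb_order]
  exact pow_orderOf_eq_one Nb

theorem hq23 : ¬ 23 ^ 2 ∣ Nat.card Co1 := by
  rw [C1_card]
  norm_num

theorem hq11 : ¬ 11 ^ 2 ∣ Nat.card Co1 := by
  rw [C1_card]
  norm_num

theorem hNXb : Nb * Xb * Nb⁻¹ = Xb ^ 9 := by
  show pr nE * pr xE * (pr nE)⁻¹ = pr xE ^ 9
  rw [← map_inv, ← map_mul, ← map_mul, nx_rel, map_pow]

theorem hZb2 : Zb * Zb = 1 := by
  show pr zE * pr zE = 1
  rw [← map_mul, zE_sq, map_one]

theorem zn_inv : zE * nE * zE⁻¹ = nE⁻¹ := by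
  have hzi : zE⁻¹ = zE := inv_eq_of_mul_eq_one_right zE_sq
  rw [hzi]
  exact eq_inv_of_mul_eq_one_left zn_rel

theorem hZNb : Zb * Nb * Zb⁻¹ = Nb⁻¹ := by
  show pr zE * pr nE * (pr zE)⁻¹ = (pr nE)⁻¹
  rw [← map_inv, ← map_mul, ← map_mul, zn_inv, map_inv]

theorem hEb2 : Eb * Eb = 1 := by
  show pr eDE * pr eDE = 1
  rw [← map_mul, e_sq, map_one]

theorem hENb : Eb * Nb = Nb * Eb := by
  show pr eDE * pr nE = pr nE * pr eDE
  rw [← map_mul, ← map_mul, e_n]

theorem hZEb : Zb * Eb * (Zb * Eb) = 1 := by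
  show pr zE * pr eDE * (pr zE * pr eDE) = 1
  rw [← map_mul, ← map_mul, ze_sq, pr_neg]

theorem hXZb : (Xb * Zb) ^ 14 = 1 := by
  show (pr xE * pr zE) ^ 14 = 1
  rw [← map_mul, ← map_pow, xz_rel, map_one]

theorem hXZb2 : (Xb * Zb * Xb ^ 3 * Zb * Xb ^ 2 * Zb) ^ 14 = 1 := by
  show (pr xE * pr zE * pr xE ^ 3 * pr zE * pr xE ^ 2 * pr zE) ^ 14 = 1
  simp only [← map_mul, ← map_pow]
  rw [xz_rel2, map_one]

theorem neg_pow11 : negElt ^ 11 = negElt := by
  have h : negElt ^ 2 = 1 := by rw [pow_two, negElt_mul_self]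
  have e : negElt ^ 11 = (negElt ^ 2) ^ 5 * negElt := by
    rw [← pow_mul, ← pow_succ]
  rw [e, h, one_pow, one_mul]

/-- A conjugate of the element of order `11` is not the opposite of an element of order
dividing `11`. -/
theorem conj_ne_neg (w u : Co0) (hu : u ^ 11 = 1) : w * nE * w⁻¹ ≠ negElt * u := by
  intro h
  have h1 : (w * nE * w⁻¹) ^ 11 = 1 := by rw [conj_pow, nE_pow11, mul_one, mul_inv_cancel]
  have hc : Commute negElt u := (negElt_comm u).symm
  rw [h, hc.mul_pow, neg_pow11, hu, mul_one] at h1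
  exact one_ne_negElt h1.symm

/-- The elements of the quotient which commute with the element of order `11`. -/
theorem lift_commute (V : Co1) (hV : V * Nb = Nb * V) :
    ∃ i < 6, ∃ m : ℕ, V = pr (kap i) * Nb ^ m := by
  obtain ⟨v, rfl⟩ := pr_surj V
  have h1 : pr (v * nE * v⁻¹ * nE⁻¹) = 1 := by
    rw [map_mul, map_mul, map_mul, map_inv, map_inv]
    have : pr v * pr nE = pr nE * pr v := hV
    rw [this]
    group
  have hcomm : v * nE = nE * v := by
    rcases pr_eq_one.mp h1 with e | e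
    · have : v * nE * v⁻¹ = nE := by
        rw [← mul_inv_eq_one]
        exact e
      calc v * nE = v * nE * v⁻¹ * v := by group
        _ = nE * v := by rw [this]
    · exfalso
      apply conj_ne_neg v nE nE_pow11
      rw [← e]
      group
  obtain ⟨i, hi, m, h | h⟩ := cent_all v hcomm
  · exact ⟨i, hi, m, by rw [h, map_mul, map_pow]; rfl⟩
  · exact ⟨i, hi, m, by rw [h, map_mul, pr_neg, one_mul, map_mul, map_pow]; rfl⟩

/-- The elements of the quotient which invert the element of order `11`. -/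
theorem lift_invert (W : Co1) (hW : W * Nb * W⁻¹ = Nb⁻¹) :
    ∃ i < 6, ∃ m : ℕ, W = Zb * pr (kap i) * Nb ^ m := by
  have hc : (Zb * W) * Nb = Nb * (Zb * W) := by
    have h1 : W * Nb = Nb⁻¹ * W := by
      rw [← hW]
      group
    have h2 : Zb * Nb⁻¹ = Nb * Zb := by
      have h3 : Zb * Nb⁻¹ * Zb⁻¹ = Nb := by
        have e : Zb * Nb⁻¹ * Zb⁻¹ = (Zb * Nb * Zb⁻¹)⁻¹ := by group
        rw [e, hZNb, inv_inv]
      calc Zb * Nb⁻¹ = Zb * Nb⁻¹ * Zb⁻¹ * Zb := by group
        _ = Nb * Zb := by rw [h3]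
    calc Zb * W * Nb = Zb * (W * Nb) := by group
      _ = Zb * (Nb⁻¹ * W) := by rw [h1]
      _ = Zb * Nb⁻¹ * W := by group
      _ = Nb * Zb * W := by rw [h2]
      _ = Nb * (Zb * W) := by group
  obtain ⟨i, hi, m, h⟩ := lift_commute (Zb * W) hc
  refine ⟨i, hi, m, ?_⟩
  have e : W = Zb * (Zb * W) := by rw [← mul_assoc, hZb2, one_mul]
  rw [e, h, mul_assoc]

/-- Conjugation by a power of the element of order `11` removes its power. -/
theorem conj_normalise {G : Type*} [Group G] {n z κ : G} (hn : n ^ 11 = 1)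
    (hzn : z * n * z⁻¹ = n⁻¹) (hκ : κ * n = n * κ) (m : ℕ) :
    n ^ (6 * m) * (z * κ * n ^ m) * (n ^ (6 * m))⁻¹ = z * κ := by
  have h : ∀ a : ℕ, z * n ^ a * z⁻¹ = (n ^ a)⁻¹ := fun a => by rw [← conj_pow, hzn, inv_pow]
  have h1 : n ^ (6 * m) * z = z * (n ^ (6 * m))⁻¹ := by
    have h2 : z * n ^ (6 * m) = (n ^ (6 * m))⁻¹ * z := by
      rw [← h (6 * m)]
      group
    calc n ^ (6 * m) * z = n ^ (6 * m) * (z * n ^ (6 * m)) * (n ^ (6 * m))⁻¹ := by group
      _ = n ^ (6 * m) * ((n ^ (6 * m))⁻¹ * z) * (n ^ (6 * m))⁻¹ := by rw [h2]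
      _ = z * (n ^ (6 * m))⁻¹ := by group
  have hκc : Commute κ n := hκ
  have hκ' : (n ^ (6 * m))⁻¹ * κ = κ * (n ^ (6 * m))⁻¹ := ((hκc.pow_right (6 * m)).inv_right).eq.symm
  have h11 : n ^ m = n ^ (6 * m) * n ^ (6 * m) := by
    rw [← pow_add]
    have e : 6 * m + 6 * m = m + 11 * m := by ring
    rw [e, pow_add, pow_mul, hn, one_pow, mul_one]
  calc n ^ (6 * m) * (z * κ * n ^ m) * (n ^ (6 * m))⁻¹
      = (n ^ (6 * m) * z) * κ * n ^ m * (n ^ (6 * m))⁻¹ := by group
    _ = z * ((n ^ (6 * m))⁻¹ * κ) * n ^ m * (n ^ (6 * m))⁻¹ := by rw [h1]; group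
    _ = z * (κ * (n ^ (6 * m))⁻¹) * n ^ m * (n ^ (6 * m))⁻¹ := by rw [hκ']
    _ = z * κ * ((n ^ (6 * m))⁻¹ * (n ^ (6 * m) * n ^ (6 * m)) * (n ^ (6 * m))⁻¹) := by
      rw [← h11]; group
    _ = z * κ := by group

theorem hKNb (i : ℕ) : pr (kap i) * Nb = Nb * pr (kap i) := by
  show pr (kap i) * pr nE = pr nE * pr (kap i)
  rw [← map_mul, ← map_mul, kap_n]

/-- An automorphism which fixes the images of the two generators of the stabiliser fixes
the image of the stabiliser. -/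
theorem fix_stab (γ : MulAut Co1) (hX : γ Xb = Xb) (hZ : γ Zb = Zb) (s : Co0)
    (hs : s • crx = crx) : γ (pr s) = pr s := by
  have hle : FG ≤ ((γ.toMonoidHom.comp pr).eqLocus pr) := by
    unfold FG
    rw [Subgroup.closure_le]
    rintro y (rfl | rfl)
    · exact hX
    · exact hZ
  have hmem : s ∈ FG := by
    rw [FG_eq]
    exact MulAction.mem_stabilizer_iff.mpr hs
  exact hle hmem

/-- The images of the three elements generate the quotient. -/
theorem gen_co1 : Subgroup.closure ({Xb, Zb, Eb} : Set Co1) = ⊤ := by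
  have h := congrArg (Subgroup.map pr) gen_co0
  rw [MonoidHom.map_closure, Subgroup.map_top_of_surjective pr pr_surj] at h
  have e : (pr '' ({xE, zE, eDE} : Set Co0) : Set Co1) = {Xb, Zb, Eb} := by
    rw [Set.image_insert_eq, Set.image_pair]
    rfl
  rw [e] at h
  exact h

/-- An automorphism which fixes the three generators is trivial. -/
theorem eq_one_of_fix (γ : MulAut Co1) (hX : γ Xb = Xb) (hZ : γ Zb = Zb) (hE : γ Eb = Eb) :
    γ = 1 := by
  have h : (γ.toMonoidHom : Co1 →* Co1) = MonoidHom.id Co1 := by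
    apply MonoidHom.eq_of_eqOn_dense gen_co1
    intro y hy
    rcases hy with rfl | rfl | rfl
    · exact hX
    · exact hZ
    · exact hE
  ext y
  exact congrArg (fun f : Co1 →* Co1 => f y) h

end Cfsg.Agent.Lib.Helper92.OC1
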