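import Cfsg.Agent.Lib.Helper92.OutCo1A

set_option autoImplicit false

namespace Cfsg.Agent.Lib.Helper92.OC1

open Cfsg Cfsg.Spor Cfsg.Agent.Lib.Helper7 Cfsg.Agent.Lib.Helper92 Cfsg.Agent.Lib.Helper92.OC2

set_option maxRecDepth 100000 in
def c1e1M : List (List ℤ) :=
  [[Int.ofNat 4, Int.ofNat 0, Int.ofNat 0, Int.ofNat 0, Int.ofNat 0, Int.ofNat 0, Int.ofNat 0, Int.ofNat 0, Int.ofNat 0, Int.ofNat 0, Int.ofNat 0, Int.ofNat 0, Int.ofNat 0, Int.ofNat 0, Int.ofNat 0, Int.ofNat 0, Int.ofNat 0, Int.ofNat 0, Int.ofNat 0, Int.ofNat 0, Int.ofNat 0, Int.ofNat 0, Int.ofNat 0, Int.ofNat 4],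
  [Int.ofNat 4, Int.ofNat 0, Int.ofNat 0, Int.ofNat 0, Int.ofNat 0, Int.ofNat 0, Int.ofNat 0, Int.ofNat 0, Int.ofNat 0, Int.ofNat 0, Int.ofNat 0, Int.ofNat 0, Int.ofNat 0, Int.ofNat 0, Int.ofNat 0, Int.ofNat 0, Int.ofNat 0, Int.ofNat 0, Int.ofNat 0, Int.ofNat 0, Int.ofNat 0, Int.ofNat 0, Int.ofNat 0, Int.ofNat 4],
  [Int.negSucc 3, Int.ofNat 0, Int.ofNat 0, Int.ofNat 0, Int.ofNat 0, Int.ofNat 0, Int.ofNat 0, Int.ofNat 0, Int.ofNat 0, Int.ofNat 0, Int.ofNat 0, Int.ofNat 0, Int.ofNat 0, Int.ofNat 0, Int.ofNat 0, Int.ofNat 0, Int.ofNat 0, Int.ofNat 0, Int.ofNat 0, Int.ofNat 0, Int.ofNat 0, Int.ofNat 0, Int.ofNat 0, Int.ofNat 4],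
  [Int.ofNat 0, Int.negSucc 3, Int.ofNat 0, Int.ofNat 0, Int.ofNat 0, Int.ofNat 0, Int.ofNat 0, Int.ofNat 0, Int.ofNat 0, Int.ofNat 0, Int.ofNat 0, Int.ofNat 0, Int.ofNat 0, Int.ofNat 0, Int.ofNat 0, Int.ofNat 0, Int.ofNat 0, Int.ofNat 0, Int.ofNat 0, Int.ofNat 0, Int.ofNat 0, Int.ofNat 0, Int.ofNat 0, Int.ofNat 4],
  [Int.ofNat 0, Int.ofNat 4, Int.ofNat 0, Int.ofNat 0, Int.ofNat 0, Int.ofNat 0, Int.ofNat 0, Int.ofNat 0, Int.ofNat 0, Int.ofNat 0, Int.ofNat 0, Int.ofNat 0, Int.ofNat 0, Int.ofNat 0, Int.ofNat 0, Int.ofNat 0, Int.ofNat 0, Int.ofNat 0, Int.ofNat 0, Int.ofNat 0, Int.ofNat 0, Int.ofNat 0, Int.ofNat 0, Int.negSucc 3],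
  [Int.ofNat 0, Int.ofNat 0, Int.ofNat 0, Int.ofNat 0, Int.ofNat 0, Int.ofNat 0, Int.ofNat 0, Int.ofNat 0, Int.ofNat 0, Int.ofNat 0, Int.ofNat 0, Int.ofNat 0, Int.ofNat 0, Int.ofNat 0, Int.ofNat 0, Int.ofNat 0, Int.ofNat 0, Int.ofNat 0, Int.ofNat 0, Int.ofNat 0, Int.ofNat 0, Int.ofNat 4, Int.ofNat 0, Int.negSucc 3],
  [Int.negSucc 1, Int.negSucc 1, Int.negSucc 1, Int.ofNat 0, Int.ofNat 0, Int.ofNat 0, Int.negSucc 1, Int.negSucc 1, Int.ofNat 0, Int.ofNat 0, Int.ofNat 0, Int.ofNat 0, Int.ofNat 0, Int.ofNat 0, Int.ofNat 0, Int.ofNat 0, Int.ofNat 0, Int.ofNat 0, Int.ofNat 0, Int.negSucc 1, Int.ofNat 0, Int.ofNat 2, Int.ofNat 0, Int.ofNat 2],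
  [Int.negSucc 1, Int.negSucc 1, Int.ofNat 0, Int.ofNat 0, Int.ofNat 0, Int.negSucc 1, Int.negSucc 1, Int.ofNat 0, Int.ofNat 0, Int.ofNat 0, Int.ofNat 0, Int.ofNat 0, Int.ofNat 0, Int.ofNat 0, Int.ofNat 0, Int.ofNat 0, Int.ofNat 0, Int.ofNat 0, Int.negSucc 1, Int.ofNat 0, Int.ofNat 2, Int.ofNat 0, Int.negSucc 1, Int.ofNat 2],
  [Int.ofNat 1, Int.ofNat 1, Int.negSucc 0, Int.ofNat 1, Int.ofNat 1, Int.negSucc 0, Int.negSucc 0, Int.ofNat 1, Int.ofNat 1, Int.negSucc 0, Int.negSucc 0, Int.ofNat 1, Int.ofNat 1, Int.ofNat 1, Int.ofNat 1, Int.negSucc 0, Int.ofNat 1, Int.ofNat 1, Int.negSucc 0, Int.ofNat 1, Int.ofNat 1, Int.ofNat 1, Int.negSucc 0, Int.negSucc 2],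
  [Int.ofNat 1, Int.ofNat 1, Int.ofNat 1, Int.ofNat 1, Int.ofNat 1, Int.ofNat 1, Int.ofNat 1, Int.ofNat 1, Int.ofNat 1, Int.ofNat 1, Int.ofNat 1, Int.ofNat 1, Int.ofNat 1, Int.ofNat 1, Int.ofNat 1, Int.ofNat 1, Int.ofNat 1, Int.ofNat 1, Int.ofNat 1, Int.ofNat 1, Int.ofNat 1, Int.ofNat 1, Int.ofNat 1, Int.negSucc 2],
  [Int.ofNat 1, Int.ofNat 1, Int.ofNat 1, Int.ofNat 1, Int.ofNat 1, Int.ofNat 1, Int.ofNat 1, Int.ofNat 1, Int.ofNat 1, Int.ofNat 1, Int.ofNat 1, Int.ofNat 1, Int.ofNat 1, Int.ofNat 1, Int.ofNat 1, Int.ofNat 1, Int.ofNat 1, Int.ofNat 1, Int.ofNat 1, Int.ofNat 1, Int.ofNat 1, Int.ofNat 1, Int.ofNat 1, Int.negSucc 2],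
  [Int.ofNat 1, Int.ofNat 1, Int.negSucc 0, Int.ofNat 1, Int.ofNat 1, Int.negSucc 0, Int.negSucc 0, Int.ofNat 1, Int.ofNat 1, Int.negSucc 0, Int.negSucc 0, Int.ofNat 1, Int.ofNat 1, Int.ofNat 1, Int.ofNat 1, Int.negSucc 0, Int.ofNat 1, Int.ofNat 1, Int.negSucc 0, Int.ofNat 1, Int.ofNat 1, Int.ofNat 1, Int.negSucc 0, Int.negSucc 2],
  [Int.negSucc 1, Int.negSucc 1, Int.ofNat 0, Int.ofNat 0, Int.ofNat 0, Int.negSucc 1, Int.negSucc 1, Int.ofNat 0, Int.ofNat 0, Int.ofNat 0, Int.ofNat 0, Int.ofNat 0, Int.ofNat 0, Int.ofNat 0, Int.ofNat 0, Int.ofNat 0, Int.ofNat 0, Int.ofNat 0, Int.negSucc 1, Int.ofNat 0, Int.ofNat 2, Int.ofNat 0, Int.negSucc 1, Int.ofNat 2],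
  [Int.negSucc 1, Int.negSucc 1, Int.negSucc 1, Int.ofNat 0, Int.ofNat 0, Int.ofNat 0, Int.negSucc 1, Int.negSucc 1, Int.ofNat 0, Int.ofNat 0, Int.ofNat 0, Int.ofNat 0, Int.ofNat 0, Int.ofNat 0, Int.ofNat 0, Int.ofNat 0, Int.ofNat 0, Int.ofNat 0, Int.ofNat 0, Int.negSucc 1, Int.ofNat 0, Int.ofNat 2, Int.ofNat 0, Int.ofNat 2],
  [Int.ofNat 0, Int.ofNat 0, Int.ofNat 0, Int.ofNat 0, Int.ofNat 0, Int.ofNat 0, Int.ofNat 0, Int.ofNat 0, Int.ofNat 0, Int.ofNat 0, Int.ofNat 0, Int.ofNat 0, Int.ofNat 0, Int.ofNat 0, Int.ofNat 0, Int.ofNat 0, Int.ofNat 0, Int.ofNat 0, Int.ofNat 0, Int.ofNat 0, Int.ofNat 0, Int.ofNat 4, Int.ofNat 0, Int.negSucc 3],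
  [Int.ofNat 0, Int.ofNat 4, Int.ofNat 0, Int.ofNat 0, Int.ofNat 0, Int.ofNat 0, Int.ofNat 0, Int.ofNat 0, Int.ofNat 0, Int.ofNat 0, Int.ofNat 0, Int.ofNat 0, Int.ofNat 0, Int.ofNat 0, Int.ofNat 0, Int.ofNat 0, Int.ofNat 0, Int.ofNat 0, Int.ofNat 0, Int.ofNat 0, Int.ofNat 0, Int.ofNat 0, Int.ofNat 0, Int.negSucc 3],
  [Int.ofNat 0, Int.negSucc 3, Int.ofNat 0, Int.ofNat 0, Int.ofNat 0, Int.ofNat 0, Int.ofNat 0, Int.ofNat 0, Int.ofNat 0, Int.ofNat 0, Int.ofNat 0, Int.ofNat 0, Int.ofNat 0, Int.ofNat 0, Int.ofNat 0, Int.ofNat 0, Int.ofNat 0, Int.ofNat 0, Int.ofNat 0, Int.ofNat 0, Int.ofNat 0, Int.ofNat 0, Int.ofNat 0, Int.ofNat 4],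
  [Int.negSucc 3, Int.ofNat 0, Int.ofNat 0, Int.ofNat 0, Int.ofNat 0, Int.ofNat 0, Int.ofNat 0, Int.ofNat 0, Int.ofNat 0, Int.ofNat 0, Int.ofNat 0, Int.ofNat 0, Int.ofNat 0, Int.ofNat 0, Int.ofNat 0, Int.ofNat 0, Int.ofNat 0, Int.ofNat 0, Int.ofNat 0, Int.ofNat 0, Int.ofNat 0, Int.ofNat 0, Int.ofNat 0, Int.ofNat 4],
  [Int.ofNat 4, Int.ofNat 0, Int.ofNat 0, Int.ofNat 0, Int.ofNat 0, Int.ofNat 0, Int.ofNat 0, Int.ofNat 0, Int.ofNat 0, Int.ofNat 0, Int.ofNat 0, Int.ofNat 0, Int.ofNat 0, Int.ofNat 0, Int.ofNat 0, Int.ofNat 0, Int.ofNat 0, Int.ofNat 0, Int.ofNat 0, Int.ofNat 0, Int.ofNat 0, Int.ofNat 0, Int.ofNat 0, Int.ofNat 4],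
  [Int.negSucc 3, Int.ofNat 0, Int.ofNat 0, Int.ofNat 0, Int.ofNat 0, Int.ofNat 0, Int.ofNat 0, Int.ofNat 0, Int.ofNat 0, Int.ofNat 0, Int.ofNat 0, Int.ofNat 0, Int.ofNat 0, Int.ofNat 0, Int.ofNat 0, Int.ofNat 0, Int.ofNat 0, Int.ofNat 0, Int.ofNat 0, Int.ofNat 0, Int.ofNat 0, Int.ofNat 0, Int.ofNat 0, Int.ofNat 4],
  [Int.ofNat 4, Int.ofNat 0, Int.ofNat 0, Int.ofNat 0, Int.ofNat 0, Int.ofNat 0, Int.ofNat 0, Int.ofNat 0, Int.ofNat 0, Int.ofNat 0, Int.ofNat 0, Int.ofNat 0, Int.ofNat 0, Int.ofNat 0, Int.ofNat 0, Int.ofNat 0, Int.ofNat 0, Int.ofNat 0, Int.ofNat 0, Int.ofNat 0, Int.ofNat 0, Int.ofNat 0, Int.ofNat 0, Int.negSucc 3],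
  [Int.negSucc 3, Int.ofNat 0, Int.ofNat 0, Int.ofNat 0, Int.ofNat 0, Int.ofNat 0, Int.ofNat 0, Int.ofNat 0, Int.ofNat 0, Int.ofNat 0, Int.ofNat 0, Int.ofNat 0, Int.ofNat 0, Int.ofNat 0, Int.ofNat 0, Int.ofNat 0, Int.ofNat 0, Int.ofNat 0, Int.ofNat 0, Int.ofNat 0, Int.ofNat 0, Int.ofNat 0, Int.ofNat 0, Int.negSucc 3],
  [Int.ofNat 0, Int.negSucc 3, Int.ofNat 0, Int.ofNat 0, Int.ofNat 0, Int.ofNat 0, Int.ofNat 0, Int.ofNat 0, Int.ofNat 0, Int.ofNat 0, Int.ofNat 0, Int.ofNat 0, Int.ofNat 0, Int.ofNat 0, Int.ofNat 0, Int.ofNat 0, Int.ofNat 0, Int.ofNat 0, Int.ofNat 0, Int.ofNat 0, Int.ofNat 0, Int.ofNat 0, Int.ofNat 0, Int.negSucc 3],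
  [Int.negSucc 3, Int.ofNat 0, Int.negSucc 3, Int.ofNat 0, Int.ofNat 0, Int.ofNat 0, Int.ofNat 0, Int.ofNat 0, Int.ofNat 0, Int.ofNat 0, Int.ofNat 0, Int.ofNat 0, Int.ofNat 0, Int.ofNat 0, Int.ofNat 0, Int.ofNat 0, Int.ofNat 0, Int.ofNat 0, Int.ofNat 0, Int.ofNat 0, Int.ofNat 0, Int.ofNat 0, Int.ofNat 0, Int.ofNat 0],
  [Int.ofNat 0, Int.ofNat 0, Int.ofNat 0, Int.ofNat 0, Int.ofNat 0, Int.ofNat 0, Int.ofNat 0, Int.ofNat 0, Int.ofNat 0, Int.ofNat 0, Int.ofNat 0, Int.ofNat 0, Int.ofNat 0, Int.ofNat 0, Int.ofNat 0, Int.ofNat 0, Int.ofNat 0, Int.ofNat 0, Int.ofNat 0, Int.ofNat 0, Int.negSucc 3, Int.ofNat 0, Int.negSucc 3, Int.ofNat 0],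
  [Int.ofNat 0, Int.ofNat 0, Int.ofNat 0, Int.ofNat 0, Int.ofNat 2, Int.ofNat 0, Int.ofNat 0, Int.ofNat 0, Int.ofNat 0, Int.ofNat 2, Int.ofNat 2, Int.ofNat 0, Int.ofNat 0, Int.ofNat 2, Int.ofNat 0, Int.ofNat 2, Int.ofNat 2, Int.ofNat 0, Int.ofNat 0, Int.ofNat 0, Int.negSucc 1, Int.ofNat 0, Int.negSucc 1, Int.ofNat 0],
  [Int.ofNat 0, Int.ofNat 0, Int.ofNat 2, Int.ofNat 0, Int.ofNat 0, Int.ofNat 0, Int.ofNat 0, Int.ofNat 2, Int.ofNat 0, Int.ofNat 2, Int.negSucc 1, Int.ofNat 0, Int.ofNat 2, Int.ofNat 2, Int.negSucc 1, Int.ofNat 2, Int.ofNat 0, Int.ofNat 0, Int.ofNat 0, Int.ofNat 0, Int.ofNat 0, Int.ofNat 0, Int.ofNat 0, Int.ofNat 0],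
  [Int.ofNat 1, Int.ofNat 1, Int.negSucc 0, Int.ofNat 1, Int.negSucc 0, Int.ofNat 1, Int.negSucc 0, Int.ofNat 1, Int.negSucc 0, Int.ofNat 1, Int.negSucc 2, Int.negSucc 0, Int.ofNat 1, Int.ofNat 1, Int.negSucc 0, Int.ofNat 1, Int.negSucc 0, Int.ofNat 1, Int.negSucc 0, Int.negSucc 0, Int.negSucc 0, Int.negSucc 0, Int.negSucc 0, Int.ofNat 1],
  [Int.ofNat 1, Int.ofNat 1, Int.ofNat 1, Int.ofNat 1, Int.negSucc 0, Int.negSucc 0, Int.ofNat 1, Int.ofNat 1, Int.negSucc 0, Int.negSucc 0, Int.ofNat 3, Int.negSucc 0, Int.ofNat 1, Int.ofNat 1, Int.negSucc 0, Int.negSucc 0, Int.negSucc 0, Int.ofNat 1, Int.ofNat 1, Int.negSucc 0, Int.negSucc 0, Int.negSucc 0, Int.ofNat 1, Int.ofNat 1],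
  [Int.negSucc 0, Int.negSucc 0, Int.ofNat 1, Int.negSucc 0, Int.negSucc 0, Int.ofNat 1, Int.negSucc 0, Int.ofNat 1, Int.ofNat 1, Int.negSucc 0, Int.ofNat 1, Int.negSucc 0, Int.ofNat 1, Int.ofNat 1, Int.ofNat 1, Int.ofNat 3, Int.negSucc 0, Int.negSucc 0, Int.negSucc 0, Int.negSucc 0, Int.ofNat 1, Int.ofNat 1, Int.ofNat 1, Int.ofNat 1],
  [Int.negSucc 0, Int.negSucc 0, Int.negSucc 0, Int.negSucc 0, Int.negSucc 0, Int.negSucc 0, Int.ofNat 1, Int.ofNat 1, Int.ofNat 1, Int.ofNat 1, Int.negSucc 0, Int.negSucc 0, Int.ofNat 1, Int.ofNat 1, Int.ofNat 1, Int.negSucc 2, Int.negSucc 0, Int.negSucc 0, Int.ofNat 1, Int.negSucc 0, Int.ofNat 1, Int.ofNat 1, Int.negSucc 0, Int.ofNat 1],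
  [Int.ofNat 0, Int.ofNat 0, Int.ofNat 0, Int.ofNat 0, Int.ofNat 0, Int.ofNat 0, Int.ofNat 0, Int.ofNat 0, Int.ofNat 0, Int.ofNat 2, Int.ofNat 0, Int.negSucc 1, Int.ofNat 0, Int.ofNat 2, Int.ofNat 2, Int.negSucc 1, Int.ofNat 0, Int.ofNat 0, Int.ofNat 0, Int.negSucc 1, Int.ofNat 2, Int.ofNat 0, Int.ofNat 0, Int.negSucc 1],
  [Int.ofNat 0, Int.ofNat 0, Int.ofNat 0, Int.ofNat 0, Int.ofNat 0, Int.ofNat 0, Int.ofNat 0, Int.ofNat 0, Int.ofNat 0, Int.ofNat 0, Int.ofNat 0, Int.negSucc 1, Int.ofNat 0, Int.ofNat 2, Int.ofNat 0, Int.negSucc 1, Int.ofNat 2, Int.negSucc 1, Int.ofNat 0, Int.ofNat 0, Int.ofNat 0, Int.ofNat 2, Int.ofNat 2, Int.negSucc 1],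
  [Int.negSucc 0, Int.negSucc 0, Int.negSucc 0, Int.ofNat 1, Int.negSucc 2, Int.ofNat 1, Int.negSucc 0, Int.negSucc 0, Int.ofNat 1, Int.ofNat 1, Int.ofNat 1, Int.negSucc 0, Int.ofNat 1, Int.negSucc 0, Int.ofNat 1, Int.negSucc 0, Int.negSucc 0, Int.negSucc 0, Int.ofNat 1, Int.negSucc 0, Int.ofNat 1, Int.ofNat 1, Int.negSucc 0, Int.ofNat 1],
  [Int.ofNat 1, Int.ofNat 1, Int.negSucc 0, Int.negSucc 0, Int.negSucc 0, Int.negSucc 0, Int.ofNat 1, Int.negSucc 2, Int.ofNat 1, Int.negSucc 0, Int.negSucc 0, Int.ofNat 1, Int.ofNat 1, Int.ofNat 1, Int.negSucc 0, Int.ofNat 1, Int.negSucc 0, Int.ofNat 1, Int.negSucc 0, Int.negSucc 0, Int.negSucc 0, Int.ofNat 1, Int.negSucc 0, Int.ofNat 1],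
  [Int.ofNat 0, Int.ofNat 0, Int.ofNat 2, Int.ofNat 0, Int.ofNat 0, Int.ofNat 0, Int.ofNat 2, Int.negSucc 1, Int.ofNat 0, Int.ofNat 0, Int.ofNat 0, Int.ofNat 0, Int.ofNat 0, Int.ofNat 2, Int.ofNat 0, Int.ofNat 2, Int.ofNat 0, Int.ofNat 2, Int.negSucc 1, Int.ofNat 0, Int.ofNat 0, Int.ofNat 2, Int.ofNat 0, Int.ofNat 0],
  [Int.ofNat 0, Int.ofNat 2, Int.ofNat 0, Int.ofNat 0, Int.ofNat 0, Int.ofNat 2, Int.negSucc 1, Int.ofNat 0, Int.ofNat 0, Int.ofNat 0, Int.ofNat 0, Int.ofNat 0, Int.ofNat 2, Int.ofNat 0, Int.ofNat 2, Int.ofNat 0, Int.ofNat 2, Int.negSucc 1, Int.ofNat 0, Int.ofNat 0, Int.ofNat 2, Int.ofNat 0, Int.ofNat 0, Int.ofNat 0],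
  [Int.ofNat 0, Int.ofNat 2, Int.ofNat 0, Int.ofNat 0, Int.ofNat 0, Int.ofNat 2, Int.negSucc 1, Int.ofNat 0, Int.ofNat 0, Int.ofNat 0, Int.ofNat 0, Int.ofNat 0, Int.ofNat 2, Int.ofNat 0, Int.ofNat 2, Int.ofNat 0, Int.ofNat 2, Int.negSucc 1, Int.ofNat 0, Int.ofNat 0, Int.ofNat 2, Int.ofNat 0, Int.ofNat 0, Int.ofNat 0],
  [Int.ofNat 0, Int.negSucc 1, Int.ofNat 0, Int.ofNat 0, Int.ofNat 0, Int.ofNat 2, Int.ofNat 2, Int.ofNat 0, Int.ofNat 0, Int.ofNat 0, Int.ofNat 0, Int.ofNat 0, Int.negSucc 1, Int.ofNat 0, Int.ofNat 2, Int.ofNat 0, Int.negSucc 1, Int.negSucc 1, Int.ofNat 0, Int.ofNat 0, Int.ofNat 2, Int.ofNat 0, Int.ofNat 0, Int.ofNat 0],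
  [Int.ofNat 0, Int.ofNat 0, Int.ofNat 0, Int.ofNat 0, Int.negSucc 1, Int.ofNat 0, Int.ofNat 0, Int.ofNat 0, Int.ofNat 2, Int.ofNat 2, Int.negSucc 1, Int.ofNat 0, Int.ofNat 0, Int.ofNat 0, Int.ofNat 0, Int.ofNat 0, Int.ofNat 0, Int.ofNat 0, Int.ofNat 2, Int.ofNat 2, Int.ofNat 0, Int.negSucc 1, Int.negSucc 1, Int.ofNat 0],
  [Int.ofNat 0, Int.ofNat 0, Int.ofNat 0, Int.ofNat 0, Int.negSucc 1, Int.ofNat 0, Int.ofNat 0, Int.ofNat 0, Int.ofNat 2, Int.negSucc 1, Int.ofNat 2, Int.ofNat 0, Int.ofNat 0, Int.ofNat 0, Int.ofNat 0, Int.ofNat 0, Int.ofNat 0, Int.ofNat 0, Int.negSucc 1, Int.ofNat 2, Int.ofNat 0, Int.ofNat 2, Int.negSucc 1, Int.ofNat 0],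
  [Int.negSucc 1, Int.ofNat 0, Int.ofNat 0, Int.ofNat 0, Int.ofNat 0, Int.negSucc 1, Int.ofNat 0, Int.ofNat 0, Int.ofNat 0, Int.ofNat 2, Int.negSucc 1, Int.ofNat 2, Int.ofNat 0, Int.ofNat 0, Int.ofNat 0, Int.ofNat 0, Int.ofNat 0, Int.ofNat 0, Int.ofNat 0, Int.negSucc 1, Int.ofNat 2, Int.ofNat 0, Int.ofNat 2, Int.ofNat 0],
  [Int.ofNat 1, Int.negSucc 0, Int.negSucc 0, Int.ofNat 1, Int.negSucc 0, Int.negSucc 0, Int.ofNat 1, Int.ofNat 1, Int.negSucc 0, Int.ofNat 1, Int.negSucc 2, Int.ofNat 1, Int.negSucc 0, Int.negSucc 0, Int.ofNat 1, Int.negSucc 0, Int.negSucc 0, Int.ofNat 1, Int.negSucc 0, Int.negSucc 0, Int.ofNat 1, Int.ofNat 1, Int.ofNat 1, Int.negSucc 0],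
  [Int.ofNat 1, Int.negSucc 0, Int.negSucc 0, Int.ofNat 1, Int.ofNat 1, Int.negSucc 0, Int.ofNat 1, Int.negSucc 2, Int.ofNat 1, Int.negSucc 0, Int.negSucc 0, Int.ofNat 1, Int.negSucc 0, Int.negSucc 0, Int.ofNat 1, Int.negSucc 0, Int.negSucc 0, Int.ofNat 1, Int.ofNat 1, Int.ofNat 1, Int.ofNat 1, Int.negSucc 0, Int.negSucc 0, Int.negSucc 0],
  [Int.negSucc 1, Int.ofNat 0, Int.ofNat 0, Int.ofNat 0, Int.ofNat 2, Int.negSucc 1, Int.ofNat 2, Int.negSucc 1, Int.ofNat 0, Int.ofNat 0, Int.ofNat 0, Int.ofNat 0, Int.negSucc 1, Int.ofNat 0, Int.ofNat 0, Int.ofNat 0, Int.ofNat 0, Int.ofNat 0, Int.ofNat 0, Int.ofNat 2, Int.ofNat 2, Int.ofNat 0, Int.ofNat 0, Int.ofNat 0],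
  [Int.negSucc 1, Int.ofNat 2, Int.ofNat 2, Int.ofNat 0, Int.ofNat 0, Int.negSucc 1, Int.ofNat 0, Int.ofNat 0, Int.negSucc 1, Int.ofNat 0, Int.ofNat 2, Int.ofNat 0, Int.ofNat 0, Int.ofNat 0, Int.ofNat 0, Int.ofNat 0, Int.ofNat 0, Int.ofNat 0, Int.ofNat 0, Int.ofNat 0, Int.ofNat 0, Int.negSucc 1, Int.ofNat 2, Int.ofNat 0],
  [Int.ofNat 3, Int.negSucc 0, Int.negSucc 0, Int.ofNat 1, Int.negSucc 0, Int.negSucc 0, Int.ofNat 1, Int.ofNat 1, Int.negSucc 0, Int.negSucc 0, Int.ofNat 1, Int.ofNat 1, Int.ofNat 1, Int.negSucc 0, Int.ofNat 1, Int.negSucc 0, Int.negSucc 0, Int.ofNat 1, Int.ofNat 1, Int.ofNat 1, Int.negSucc 0, Int.negSucc 0, Int.ofNat 1, Int.ofNat 1],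
  [Int.ofNat 3, Int.negSucc 0, Int.ofNat 1, Int.ofNat 1, Int.negSucc 0, Int.ofNat 1, Int.negSucc 0, Int.ofNat 1, Int.negSucc 0, Int.ofNat 1, Int.negSucc 0, Int.ofNat 1, Int.ofNat 1, Int.negSucc 0, Int.ofNat 1, Int.ofNat 1, Int.negSucc 0, Int.ofNat 1, Int.negSucc 0, Int.ofNat 1, Int.negSucc 0, Int.negSucc 0, Int.negSucc 0, Int.ofNat 1],
  [Int.ofNat 1, Int.negSucc 0, Int.ofNat 1, Int.ofNat 1, Int.negSucc 0, Int.ofNat 1, Int.ofNat 1, Int.negSucc 0, Int.ofNat 1, Int.negSucc 0, Int.ofNat 1, Int.negSucc 0, Int.negSucc 0, Int.negSucc 0, Int.negSucc 0, Int.negSucc 0, Int.ofNat 1, Int.ofNat 1, Int.negSucc 0, Int.ofNat 1, Int.ofNat 3, Int.ofNat 1, Int.negSucc 0, Int.ofNat 1],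
  [Int.ofNat 1, Int.negSucc 0, Int.negSucc 0, Int.ofNat 1, Int.negSucc 0, Int.negSucc 0, Int.negSucc 0, Int.negSucc 0, Int.ofNat 1, Int.ofNat 1, Int.negSucc 0, Int.negSucc 0, Int.negSucc 0, Int.negSucc 0, Int.negSucc 0, Int.ofNat 1, Int.ofNat 1, Int.ofNat 1, Int.ofNat 1, Int.ofNat 1, Int.ofNat 3, Int.ofNat 1, Int.ofNat 1, Int.ofNat 1],
  [Int.negSucc 0, Int.ofNat 1, Int.ofNat 1, Int.ofNat 1, Int.negSucc 0, Int.negSucc 0, Int.negSucc 0, Int.negSucc 0, Int.ofNat 1, Int.negSucc 0, Int.negSucc 2, Int.negSucc 0, Int.negSucc 0, Int.negSucc 0, Int.negSucc 0, Int.negSucc 0, Int.ofNat 1, Int.ofNat 1, Int.ofNat 1, Int.ofNat 1, Int.ofNat 1, Int.ofNat 1, Int.ofNat 1, Int.negSucc 0],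
  [Int.negSucc 0, Int.ofNat 1, Int.negSucc 0, Int.ofNat 1, Int.ofNat 1, Int.ofNat 1, Int.ofNat 1, Int.negSucc 0, Int.ofNat 1, Int.negSucc 0, Int.negSucc 0, Int.ofNat 1, Int.ofNat 1, Int.negSucc 0, Int.ofNat 1, Int.negSucc 0, Int.negSucc 0, Int.negSucc 0, Int.negSucc 0, Int.ofNat 1, Int.negSucc 2, Int.ofNat 1, Int.negSucc 0, Int.negSucc 0],
  [Int.ofNat 0, Int.negSucc 1, Int.ofNat 0, Int.ofNat 0, Int.ofNat 2, Int.ofNat 0, Int.ofNat 0, Int.negSucc 1, Int.ofNat 0, Int.ofNat 2, Int.ofNat 2, Int.ofNat 0, Int.ofNat 0, Int.ofNat 0, Int.ofNat 0, Int.ofNat 2, Int.ofNat 0, Int.negSucc 1, Int.negSucc 1, Int.ofNat 0, Int.ofNat 0, Int.ofNat 0, Int.ofNat 0, Int.ofNat 0],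
  [Int.ofNat 0, Int.ofNat 0, Int.ofNat 0, Int.ofNat 0, Int.negSucc 1, Int.ofNat 0, Int.ofNat 0, Int.ofNat 2, Int.ofNat 0, Int.ofNat 0, Int.negSucc 1, Int.ofNat 0, Int.ofNat 2, Int.ofNat 2, Int.ofNat 0, Int.ofNat 0, Int.ofNat 0, Int.ofNat 0, Int.ofNat 2, Int.ofNat 0, Int.negSucc 1, Int.negSucc 1, Int.ofNat 0, Int.ofNat 0],
  [Int.ofNat 0, Int.ofNat 0, Int.ofNat 0, Int.ofNat 0, Int.negSucc 1, Int.ofNat 0, Int.ofNat 0, Int.ofNat 2, Int.negSucc 1, Int.ofNat 2, Int.ofNat 0, Int.negSucc 1, Int.ofNat 0, Int.ofNat 2, Int.ofNat 0, Int.ofNat 2, Int.ofNat 0, Int.ofNat 0, Int.ofNat 0, Int.ofNat 0, Int.ofNat 0, Int.negSucc 1, Int.ofNat 0, Int.ofNat 0],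
  [Int.ofNat 0, Int.ofNat 0, Int.ofNat 0, Int.negSucc 1, Int.ofNat 0, Int.ofNat 0, Int.ofNat 2, Int.negSucc 1, Int.ofNat 2, Int.ofNat 0, Int.negSucc 1, Int.ofNat 0, Int.ofNat 2, Int.ofNat 0, Int.ofNat 2, Int.ofNat 0, Int.ofNat 0, Int.ofNat 0, Int.ofNat 0, Int.ofNat 0, Int.negSucc 1, Int.ofNat 0, Int.ofNat 0, Int.ofNat 0],
  [Int.ofNat 0, Int.ofNat 0, Int.ofNat 0, Int.negSucc 1, Int.ofNat 0, Int.ofNat 0, Int.ofNat 2, Int.ofNat 2, Int.ofNat 2, Int.ofNat 0, Int.ofNat 2, Int.ofNat 0, Int.ofNat 2, Int.ofNat 0, Int.ofNat 2, Int.ofNat 0, Int.ofNat 0, Int.ofNat 0, Int.ofNat 0, Int.ofNat 0, Int.negSucc 1, Int.ofNat 0, Int.ofNat 0, Int.ofNat 0],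
  [Int.ofNat 0, Int.ofNat 0, Int.ofNat 0, Int.ofNat 2, Int.ofNat 0, Int.ofNat 0, Int.negSucc 1, Int.ofNat 2, Int.negSucc 1, Int.ofNat 0, Int.ofNat 2, Int.ofNat 0, Int.negSucc 1, Int.ofNat 0, Int.ofNat 2, Int.ofNat 0, Int.ofNat 0, Int.ofNat 0, Int.ofNat 0, Int.ofNat 0, Int.negSucc 1, Int.ofNat 0, Int.ofNat 0, Int.ofNat 0],
  [Int.ofNat 0, Int.ofNat 0, Int.ofNat 0, Int.ofNat 0, Int.ofNat 0, Int.ofNat 0, Int.ofNat 0, Int.ofNat 0, Int.negSucc 1, Int.ofNat 0, Int.ofNat 0, Int.ofNat 0, Int.ofNat 0, Int.ofNat 2, Int.ofNat 0, Int.ofNat 2, Int.ofNat 2, Int.ofNat 0, Int.ofNat 2, Int.negSucc 1, Int.negSucc 1, Int.negSucc 1, Int.ofNat 0, Int.ofNat 0],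
  [Int.ofNat 0, Int.ofNat 0, Int.ofNat 0, Int.ofNat 0, Int.ofNat 0, Int.ofNat 0, Int.ofNat 0, Int.ofNat 0, Int.negSucc 1, Int.ofNat 0, Int.ofNat 0, Int.ofNat 0, Int.ofNat 0, Int.ofNat 2, Int.ofNat 0, Int.ofNat 2, Int.ofNat 2, Int.ofNat 0, Int.negSucc 1, Int.negSucc 1, Int.negSucc 1, Int.ofNat 2, Int.ofNat 0, Int.ofNat 0],
  [Int.ofNat 0, Int.ofNat 0, Int.ofNat 0, Int.ofNat 0, Int.ofNat 0, Int.ofNat 0, Int.ofNat 0, Int.ofNat 0, Int.ofNat 0, Int.negSucc 1, Int.ofNat 0, Int.ofNat 0, Int.ofNat 0, Int.ofNat 0, Int.ofNat 2, Int.ofNat 0, Int.ofNat 2, Int.ofNat 2, Int.ofNat 0, Int.negSucc 1, Int.negSucc 1, Int.negSucc 1, Int.ofNat 2, Int.ofNat 0],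
  [Int.ofNat 0, Int.ofNat 0, Int.ofNat 0, Int.negSucc 1, Int.negSucc 1, Int.negSucc 1, Int.ofNat 2, Int.ofNat 2, Int.ofNat 0, Int.ofNat 0, Int.ofNat 2, Int.ofNat 0, Int.ofNat 0, Int.negSucc 1, Int.ofNat 0, Int.ofNat 2, Int.ofNat 0, Int.ofNat 0, Int.ofNat 0, Int.ofNat 0, Int.ofNat 0, Int.ofNat 0, Int.ofNat 0, Int.ofNat 0],
  [Int.negSucc 1, Int.negSucc 1, Int.negSucc 1, Int.ofNat 2, Int.ofNat 2, Int.ofNat 0, Int.ofNat 0, Int.ofNat 2, Int.ofNat 0, Int.ofNat 0, Int.negSucc 1, Int.ofNat 0, Int.ofNat 2, Int.ofNat 0, Int.ofNat 0, Int.ofNat 0, Int.ofNat 0, Int.ofNat 0, Int.ofNat 0, Int.ofNat 0, Int.ofNat 0, Int.ofNat 0, Int.ofNat 0, Int.ofNat 0],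
  [Int.negSucc 0, Int.negSucc 0, Int.negSucc 0, Int.ofNat 1, Int.ofNat 1, Int.negSucc 0, Int.negSucc 0, Int.ofNat 1, Int.negSucc 0, Int.ofNat 1, Int.negSucc 0, Int.negSucc 0, Int.ofNat 1, Int.negSucc 0, Int.negSucc 0, Int.ofNat 1, Int.negSucc 0, Int.negSucc 0, Int.negSucc 0, Int.negSucc 0, Int.ofNat 1, Int.negSucc 0, Int.negSucc 0, Int.negSucc 2],
  [Int.negSucc 0, Int.negSucc 0, Int.ofNat 1, Int.ofNat 1, Int.negSucc 0, Int.ofNat 1, Int.negSucc 0, Int.negSucc 0, Int.ofNat 1, Int.negSucc 0, Int.ofNat 1, Int.negSucc 0, Int.ofNat 1, Int.negSucc 0, Int.negSucc 0, Int.ofNat 1, Int.negSucc 0, Int.negSucc 0, Int.negSucc 0, Int.negSucc 0, Int.negSucc 0, Int.negSucc 0, Int.negSucc 0, Int.negSucc 2],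
  [Int.negSucc 0, Int.negSucc 0, Int.negSucc 2, Int.ofNat 1, Int.ofNat 1, Int.ofNat 1, Int.ofNat 1, Int.ofNat 1, Int.ofNat 1, Int.negSucc 0, Int.ofNat 1, Int.negSucc 0, Int.ofNat 1, Int.ofNat 1, Int.negSucc 0, Int.ofNat 1, Int.ofNat 1, Int.negSucc 0, Int.negSucc 0, Int.ofNat 1, Int.negSucc 0, Int.ofNat 1, Int.ofNat 1, Int.ofNat 1],
  [Int.negSucc 0, Int.negSucc 0, Int.ofNat 3, Int.ofNat 1, Int.ofNat 1, Int.negSucc 0, Int.negSucc 0, Int.ofNat 1, Int.ofNat 1, Int.ofNat 1, Int.negSucc 0, Int.negSucc 0, Int.ofNat 1, Int.ofNat 1, Int.negSucc 0, Int.negSucc 0, Int.ofNat 1, Int.negSucc 0, Int.ofNat 1, Int.ofNat 1, Int.negSucc 0, Int.ofNat 1, Int.negSucc 0, Int.ofNat 1],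
  [Int.negSucc 0, Int.negSucc 0, Int.ofNat 1, Int.ofNat 1, Int.ofNat 1, Int.ofNat 3, Int.ofNat 1, Int.negSucc 0, Int.negSucc 0, Int.ofNat 1, Int.ofNat 1, Int.ofNat 1, Int.negSucc 0, Int.negSucc 0, Int.ofNat 1, Int.negSucc 0, Int.negSucc 0, Int.negSucc 0, Int.ofNat 1, Int.negSucc 0, Int.negSucc 0, Int.ofNat 1, Int.ofNat 1, Int.ofNat 1],
  [Int.negSucc 0, Int.negSucc 0, Int.negSucc 0, Int.ofNat 1, Int.ofNat 1, Int.negSucc 2, Int.negSucc 0, Int.negSucc 0, Int.negSucc 0, Int.negSucc 0, Int.negSucc 0, Int.ofNat 1, Int.negSucc 0, Int.negSucc 0, Int.ofNat 1, Int.ofNat 1, Int.negSucc 0, Int.negSucc 0, Int.negSucc 0, Int.negSucc 0, Int.negSucc 0, Int.ofNat 1, Int.negSucc 0, Int.ofNat 1],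
  [Int.ofNat 0, Int.ofNat 0, Int.ofNat 0, Int.ofNat 2, Int.ofNat 2, Int.negSucc 1, Int.ofNat 0, Int.ofNat 0, Int.ofNat 0, Int.ofNat 0, Int.ofNat 0, Int.ofNat 2, Int.ofNat 0, Int.ofNat 0, Int.ofNat 2, Int.ofNat 2, Int.ofNat 0, Int.ofNat 0, Int.ofNat 0, Int.ofNat 0, Int.ofNat 0, Int.ofNat 2, Int.ofNat 0, Int.negSucc 1],
  [Int.ofNat 0, Int.ofNat 0, Int.ofNat 0, Int.ofNat 2, Int.ofNat 0, Int.ofNat 2, Int.ofNat 0, Int.negSucc 1, Int.ofNat 0, Int.ofNat 0, Int.ofNat 0, Int.ofNat 0, Int.ofNat 0, Int.ofNat 0, Int.ofNat 0, Int.ofNat 2, Int.ofNat 0, Int.ofNat 2, Int.ofNat 2, Int.ofNat 0, Int.ofNat 0, Int.ofNat 0, Int.ofNat 2, Int.negSucc 1],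
  [Int.negSucc 0, Int.negSucc 0, Int.negSucc 0, Int.negSucc 0, Int.negSucc 0, Int.negSucc 0, Int.ofNat 1, Int.negSucc 0, Int.negSucc 0, Int.negSucc 0, Int.negSucc 0, Int.negSucc 0, Int.negSucc 0, Int.negSucc 0, Int.negSucc 2, Int.ofNat 1, Int.negSucc 0, Int.negSucc 0, Int.ofNat 1, Int.ofNat 1, Int.negSucc 0, Int.ofNat 1, Int.ofNat 1, Int.ofNat 1],
  [Int.negSucc 0, Int.ofNat 1, Int.ofNat 1, Int.negSucc 0, Int.negSucc 0, Int.negSucc 0, Int.negSucc 0, Int.negSucc 0, Int.negSucc 0, Int.ofNat 1, Int.negSucc 0, Int.negSucc 0, Int.negSucc 0, Int.negSucc 0, Int.negSucc 0, Int.negSucc 0, Int.negSucc 0, Int.negSucc 2, Int.ofNat 1, Int.negSucc 0, Int.negSucc 0, Int.ofNat 1, Int.ofNat 1, Int.ofNat 1],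
  [Int.ofNat 2, Int.ofNat 0, Int.ofNat 0, Int.ofNat 2, Int.ofNat 0, Int.ofNat 2, Int.ofNat 0, Int.ofNat 0, Int.ofNat 0, Int.ofNat 2, Int.ofNat 0, Int.ofNat 0, Int.ofNat 0, Int.ofNat 0, Int.ofNat 2, Int.ofNat 0, Int.ofNat 0, Int.ofNat 0, Int.ofNat 2, Int.ofNat 0, Int.ofNat 0, Int.ofNat 2, Int.ofNat 2, Int.ofNat 0],
  [Int.ofNat 0, Int.ofNat 0, Int.ofNat 2, Int.ofNat 0, Int.ofNat 2, Int.ofNat 0, Int.ofNat 0, Int.ofNat 0, Int.ofNat 2, Int.ofNat 0, Int.ofNat 0, Int.ofNat 0, Int.ofNat 0, Int.ofNat 2, Int.ofNat 0, Int.ofNat 0, Int.ofNat 0, Int.ofNat 2, Int.ofNat 0, Int.ofNat 0, Int.ofNat 2, Int.ofNat 2, Int.ofNat 2, Int.ofNat 0],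
  [Int.ofNat 0, Int.ofNat 0, Int.negSucc 1, Int.ofNat 0, Int.ofNat 2, Int.ofNat 0, Int.ofNat 0, Int.ofNat 0, Int.ofNat 2, Int.ofNat 0, Int.ofNat 0, Int.ofNat 0, Int.ofNat 0, Int.ofNat 2, Int.ofNat 0, Int.ofNat 0, Int.ofNat 0, Int.ofNat 2, Int.ofNat 0, Int.ofNat 0, Int.ofNat 2, Int.negSucc 1, Int.ofNat 2, Int.ofNat 0],
  [Int.ofNat 0, Int.ofNat 0, Int.ofNat 2, Int.ofNat 0, Int.negSucc 1, Int.ofNat 0, Int.ofNat 0, Int.ofNat 0, Int.negSucc 1, Int.ofNat 0, Int.ofNat 0, Int.ofNat 0, Int.ofNat 0, Int.negSucc 1, Int.ofNat 0, Int.ofNat 0, Int.ofNat 0, Int.ofNat 2, Int.ofNat 0, Int.ofNat 0, Int.ofNat 2, Int.negSucc 1, Int.ofNat 2, Int.ofNat 0],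
  [Int.ofNat 0, Int.ofNat 2, Int.ofNat 0, Int.ofNat 0, Int.ofNat 2, Int.ofNat 0, Int.ofNat 0, Int.negSucc 1, Int.ofNat 2, Int.ofNat 0, Int.ofNat 0, Int.ofNat 2, Int.negSucc 1, Int.ofNat 0, Int.ofNat 0, Int.ofNat 0, Int.ofNat 0, Int.negSucc 1, Int.ofNat 0, Int.ofNat 0, Int.negSucc 1, Int.ofNat 0, Int.ofNat 0, Int.ofNat 0],
  [Int.ofNat 0, Int.ofNat 2, Int.ofNat 0, Int.ofNat 0, Int.ofNat 2, Int.ofNat 0, Int.ofNat 0, Int.ofNat 2, Int.ofNat 2, Int.ofNat 0, Int.ofNat 0, Int.negSucc 1, Int.negSucc 1, Int.ofNat 0, Int.ofNat 0, Int.ofNat 0, Int.ofNat 0, Int.negSucc 1, Int.ofNat 0, Int.ofNat 0, Int.negSucc 1, Int.ofNat 0, Int.ofNat 0, Int.ofNat 0],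
  [Int.ofNat 0, Int.ofNat 0, Int.ofNat 2, Int.ofNat 0, Int.ofNat 0, Int.ofNat 2, Int.ofNat 0, Int.ofNat 0, Int.ofNat 2, Int.ofNat 2, Int.ofNat 0, Int.ofNat 0, Int.negSucc 1, Int.negSucc 1, Int.ofNat 0, Int.ofNat 0, Int.ofNat 0, Int.ofNat 0, Int.negSucc 1, Int.ofNat 0, Int.ofNat 0, Int.negSucc 1, Int.ofNat 0, Int.ofNat 0],
  [Int.ofNat 1, Int.ofNat 1, Int.negSucc 0, Int.negSucc 0, Int.ofNat 1, Int.ofNat 1, Int.ofNat 1, Int.ofNat 1, Int.ofNat 3, Int.ofNat 1, Int.negSucc 0, Int.ofNat 1, Int.negSucc 0, Int.negSucc 0, Int.negSucc 0, Int.negSucc 0, Int.ofNat 1, Int.negSucc 0, Int.negSucc 0, Int.ofNat 1, Int.negSucc 0, Int.negSucc 0, Int.ofNat 1, Int.ofNat 1],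
  [Int.negSucc 0, Int.ofNat 1, Int.ofNat 1, Int.ofNat 1, Int.ofNat 1, Int.ofNat 3, Int.ofNat 1, Int.negSucc 0, Int.ofNat 1, Int.negSucc 0, Int.negSucc 0, Int.negSucc 0, Int.negSucc 0, Int.ofNat 1, Int.negSucc 0, Int.negSucc 0, Int.ofNat 1, Int.negSucc 0, Int.negSucc 0, Int.ofNat 1, Int.ofNat 1, Int.ofNat 1, Int.negSucc 0, Int.ofNat 1],
  [Int.ofNat 2, Int.ofNat 0, Int.ofNat 0, Int.ofNat 0, Int.ofNat 0, Int.ofNat 2, Int.ofNat 0, Int.negSucc 1, Int.ofNat 2, Int.ofNat 0, Int.ofNat 0, Int.ofNat 0, Int.ofNat 0, Int.ofNat 0, Int.negSucc 1, Int.ofNat 0, Int.ofNat 0, Int.negSucc 1, Int.ofNat 0, Int.ofNat 0, Int.ofNat 2, Int.ofNat 0, Int.negSucc 1, Int.ofNat 0],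
  [Int.ofNat 2, Int.ofNat 0, Int.ofNat 0, Int.ofNat 0, Int.ofNat 0, Int.negSucc 1, Int.ofNat 0, Int.ofNat 0, Int.ofNat 0, Int.ofNat 0, Int.ofNat 2, Int.negSucc 1, Int.ofNat 0, Int.ofNat 0, Int.negSucc 1, Int.ofNat 0, Int.ofNat 2, Int.negSucc 1, Int.ofNat 0, Int.ofNat 0, Int.ofNat 0, Int.ofNat 2, Int.ofNat 0, Int.ofNat 0],
  [Int.negSucc 0, Int.ofNat 1, Int.ofNat 1, Int.ofNat 3, Int.negSucc 0, Int.ofNat 1, Int.negSucc 0, Int.negSucc 0, Int.ofNat 1, Int.negSucc 0, Int.ofNat 1, Int.negSucc 0, Int.ofNat 1, Int.negSucc 0, Int.ofNat 1, Int.negSucc 0, Int.ofNat 1, Int.ofNat 1, Int.ofNat 1, Int.negSucc 0, Int.negSucc 0, Int.ofNat 1, Int.negSucc 0, Int.ofNat 1],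
  [Int.negSucc 0, Int.ofNat 1, Int.negSucc 0, Int.ofNat 3, Int.negSucc 0, Int.negSucc 0, Int.ofNat 1, Int.negSucc 0, Int.ofNat 1, Int.ofNat 1, Int.negSucc 0, Int.negSucc 0, Int.ofNat 1, Int.negSucc 0, Int.ofNat 1, Int.ofNat 1, Int.ofNat 1, Int.ofNat 1, Int.negSucc 0, Int.negSucc 0, Int.negSucc 0, Int.ofNat 1, Int.ofNat 1, Int.ofNat 1],
  [Int.negSucc 0, Int.negSucc 0, Int.ofNat 3, Int.ofNat 1, Int.ofNat 1, Int.negSucc 0, Int.negSucc 0, Int.ofNat 1, Int.ofNat 1, Int.ofNat 1, Int.negSucc 0, Int.negSucc 0, Int.ofNat 1, Int.ofNat 1, Int.negSucc 0, Int.negSucc 0, Int.ofNat 1, Int.negSucc 0, Int.ofNat 1, Int.ofNat 1, Int.negSucc 0, Int.ofNat 1, Int.negSucc 0, Int.ofNat 1],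
  [Int.negSucc 0, Int.negSucc 0, Int.negSucc 2, Int.ofNat 1, Int.ofNat 1, Int.ofNat 1, Int.ofNat 1, Int.ofNat 1, Int.ofNat 1, Int.negSucc 0, Int.ofNat 1, Int.negSucc 0, Int.ofNat 1, Int.ofNat 1, Int.negSucc 0, Int.ofNat 1, Int.ofNat 1, Int.negSucc 0, Int.negSucc 0, Int.ofNat 1, Int.negSucc 0, Int.ofNat 1, Int.ofNat 1, Int.ofNat 1],
  [Int.negSucc 0, Int.negSucc 0, Int.ofNat 1, Int.ofNat 1, Int.negSucc 0, Int.ofNat 1, Int.negSucc 0, Int.negSucc 0, Int.ofNat 1, Int.negSucc 0, Int.ofNat 1, Int.negSucc 0, Int.ofNat 1, Int.negSucc 0, Int.negSucc 0, Int.ofNat 1, Int.negSucc 0, Int.negSucc 0, Int.negSucc 0, Int.negSucc 0, Int.negSucc 0, Int.negSucc 0, Int.negSucc 0, Int.negSucc 2],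
  [Int.negSucc 0, Int.negSucc 0, Int.negSucc 0, Int.ofNat 1, Int.ofNat 1, Int.negSucc 0, Int.negSucc 0, Int.ofNat 1, Int.negSucc 0, Int.ofNat 1, Int.negSucc 0, Int.negSucc 0, Int.ofNat 1, Int.negSucc 0, Int.negSucc 0, Int.ofNat 1, Int.negSucc 0, Int.negSucc 0, Int.negSucc 0, Int.negSucc 0, Int.ofNat 1, Int.negSucc 0, Int.negSucc 0, Int.negSucc 2],
  [Int.negSucc 1, Int.negSucc 1, Int.negSucc 1, Int.ofNat 2, Int.ofNat 2, Int.ofNat 0, Int.ofNat 0, Int.ofNat 2, Int.ofNat 0, Int.ofNat 0, Int.negSucc 1, Int.ofNat 0, Int.ofNat 2, Int.ofNat 0, Int.ofNat 0, Int.ofNat 0, Int.ofNat 0, Int.ofNat 0, Int.ofNat 0, Int.ofNat 0, Int.ofNat 0, Int.ofNat 0, Int.ofNat 0, Int.ofNat 0],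
  [Int.ofNat 0, Int.ofNat 0, Int.ofNat 0, Int.negSucc 1, Int.negSucc 1, Int.negSucc 1, Int.ofNat 2, Int.ofNat 2, Int.ofNat 0, Int.ofNat 0, Int.ofNat 2, Int.ofNat 0, Int.ofNat 0, Int.negSucc 1, Int.ofNat 0, Int.ofNat 2, Int.ofNat 0, Int.ofNat 0, Int.ofNat 0, Int.ofNat 0, Int.ofNat 0, Int.ofNat 0, Int.ofNat 0, Int.ofNat 0],
  [Int.ofNat 0, Int.ofNat 0, Int.ofNat 0, Int.ofNat 0, Int.ofNat 0, Int.ofNat 0, Int.ofNat 0, Int.ofNat 0, Int.ofNat 0, Int.negSucc 1, Int.ofNat 0, Int.ofNat 0, Int.ofNat 0, Int.ofNat 0, Int.ofNat 2, Int.ofNat 0, Int.ofNat 2, Int.ofNat 2, Int.ofNat 0, Int.negSucc 1, Int.negSucc 1, Int.negSucc 1, Int.ofNat 2, Int.ofNat 0],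
  [Int.ofNat 0, Int.ofNat 0, Int.ofNat 0, Int.ofNat 0, Int.ofNat 0, Int.ofNat 0, Int.ofNat 0, Int.ofNat 0, Int.negSucc 1, Int.ofNat 0, Int.ofNat 0, Int.ofNat 0, Int.ofNat 0, Int.ofNat 2, Int.ofNat 0, Int.ofNat 2, Int.ofNat 2, Int.ofNat 0, Int.negSucc 1, Int.negSucc 1, Int.negSucc 1, Int.ofNat 2, Int.ofNat 0, Int.ofNat 0],
  [Int.ofNat 0, Int.ofNat 0, Int.ofNat 0, Int.ofNat 0, Int.ofNat 0, Int.ofNat 0, Int.ofNat 0, Int.ofNat 0, Int.negSucc 1, Int.ofNat 0, Int.ofNat 0, Int.ofNat 0, Int.ofNat 0, Int.ofNat 2, Int.ofNat 0, Int.ofNat 2, Int.ofNat 2, Int.ofNat 0, Int.ofNat 2, Int.negSucc 1, Int.negSucc 1, Int.negSucc 1, Int.ofNat 0, Int.ofNat 0],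
  [Int.ofNat 0, Int.ofNat 0, Int.ofNat 0, Int.ofNat 0, Int.ofNat 0, Int.ofNat 0, Int.ofNat 0, Int.ofNat 0, Int.ofNat 2, Int.ofNat 0, Int.ofNat 0, Int.ofNat 0, Int.ofNat 0, Int.negSucc 1, Int.ofNat 0, Int.ofNat 2, Int.negSucc 1, Int.ofNat 0, Int.negSucc 1, Int.negSucc 1, Int.negSucc 1, Int.negSucc 1, Int.ofNat 0, Int.ofNat 0],
  [Int.ofNat 0, Int.ofNat 0, Int.ofNat 0, Int.ofNat 2, Int.ofNat 0, Int.ofNat 0, Int.negSucc 1, Int.negSucc 1, Int.negSucc 1, Int.ofNat 0, Int.negSucc 1, Int.ofNat 0, Int.negSucc 1, Int.ofNat 0, Int.negSucc 1, Int.ofNat 0, Int.ofNat 0, Int.ofNat 0, Int.ofNat 0, Int.ofNat 0, Int.ofNat 2, Int.ofNat 0, Int.ofNat 0, Int.ofNat 0],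
  [Int.ofNat 0, Int.ofNat 0, Int.ofNat 0, Int.ofNat 2, Int.ofNat 0, Int.ofNat 0, Int.negSucc 1, Int.ofNat 2, Int.negSucc 1, Int.ofNat 0, Int.ofNat 2, Int.ofNat 0, Int.negSucc 1, Int.ofNat 0, Int.negSucc 1, Int.ofNat 0, Int.ofNat 0, Int.ofNat 0, Int.ofNat 0, Int.ofNat 0, Int.ofNat 2, Int.ofNat 0, Int.ofNat 0, Int.ofNat 0],
  [Int.ofNat 0, Int.ofNat 0, Int.ofNat 0, Int.ofNat 0, Int.ofNat 2, Int.ofNat 0, Int.ofNat 0, Int.negSucc 1, Int.ofNat 2, Int.negSucc 1, Int.ofNat 0, Int.ofNat 2, Int.ofNat 0, Int.negSucc 1, Int.ofNat 0, Int.negSucc 1, Int.ofNat 0, Int.ofNat 0, Int.ofNat 0, Int.ofNat 0, Int.ofNat 0, Int.ofNat 2, Int.ofNat 0, Int.ofNat 0],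
  [Int.ofNat 0, Int.ofNat 0, Int.ofNat 0, Int.ofNat 0, Int.ofNat 2, Int.ofNat 0, Int.ofNat 0, Int.negSucc 1, Int.ofNat 0, Int.ofNat 0, Int.ofNat 2, Int.ofNat 0, Int.negSucc 1, Int.negSucc 1, Int.ofNat 0, Int.ofNat 0, Int.ofNat 0, Int.ofNat 0, Int.negSucc 1, Int.ofNat 0, Int.ofNat 2, Int.ofNat 2, Int.ofNat 0, Int.ofNat 0],
  [Int.ofNat 0, Int.ofNat 2, Int.ofNat 0, Int.ofNat 0, Int.negSucc 1, Int.ofNat 0, Int.ofNat 0, Int.ofNat 2, Int.ofNat 0, Int.negSucc 1, Int.negSucc 1, Int.ofNat 0, Int.ofNat 0, Int.ofNat 0, Int.ofNat 0, Int.negSucc 1, Int.ofNat 0, Int.ofNat 2, Int.ofNat 2, Int.ofNat 0, Int.ofNat 0, Int.ofNat 0, Int.ofNat 0, Int.ofNat 0],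
  [Int.ofNat 1, Int.negSucc 0, Int.ofNat 1, Int.negSucc 0, Int.negSucc 0, Int.negSucc 0, Int.negSucc 0, Int.ofNat 1, Int.negSucc 0, Int.ofNat 1, Int.ofNat 1, Int.negSucc 0, Int.negSucc 0, Int.ofNat 1, Int.negSucc 0, Int.ofNat 1, Int.ofNat 1, Int.ofNat 1, Int.ofNat 1, Int.negSucc 0, Int.ofNat 3, Int.negSucc 0, Int.ofNat 1, Int.ofNat 1],
  [Int.ofNat 1, Int.negSucc 0, Int.negSucc 0, Int.negSucc 0, Int.ofNat 1, Int.ofNat 1, Int.ofNat 1, Int.ofNat 1, Int.negSucc 0, Int.ofNat 1, Int.ofNat 3, Int.ofNat 1, Int.ofNat 1, Int.ofNat 1, Int.ofNat 1, Int.ofNat 1, Int.negSucc 0, Int.negSucc 0, Int.negSucc 0, Int.negSucc 0, Int.negSucc 0, Int.negSucc 0, Int.negSucc 0, Int.ofNat 1],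
  [Int.negSucc 0, Int.ofNat 1, Int.ofNat 1, Int.negSucc 0, Int.ofNat 1, Int.ofNat 1, Int.ofNat 1, Int.ofNat 1, Int.negSucc 0, Int.negSucc 0, Int.ofNat 1, Int.ofNat 1, Int.ofNat 1, Int.ofNat 1, Int.ofNat 1, Int.negSucc 0, Int.negSucc 0, Int.negSucc 0, Int.negSucc 0, Int.negSucc 0, Int.negSucc 2, Int.negSucc 0, Int.negSucc 0, Int.negSucc 0],
  [Int.negSucc 0, Int.ofNat 1, Int.negSucc 0, Int.negSucc 0, Int.ofNat 1, Int.negSucc 0, Int.negSucc 0, Int.ofNat 1, Int.negSucc 0, Int.ofNat 1, Int.negSucc 0, Int.ofNat 1, Int.ofNat 1, Int.ofNat 1, Int.ofNat 1, Int.ofNat 1, Int.negSucc 0, Int.negSucc 0, Int.ofNat 1, Int.negSucc 0, Int.negSucc 2, Int.negSucc 0, Int.ofNat 1, Int.negSucc 0],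
  [Int.negSucc 0, Int.negSucc 2, Int.negSucc 0, Int.ofNat 1, Int.negSucc 0, Int.negSucc 0, Int.negSucc 0, Int.ofNat 1, Int.negSucc 0, Int.negSucc 0, Int.ofNat 1, Int.ofNat 1, Int.negSucc 0, Int.ofNat 1, Int.ofNat 1, Int.negSucc 0, Int.ofNat 1, Int.ofNat 1, Int.negSucc 0, Int.ofNat 1, Int.negSucc 0, Int.ofNat 1, Int.ofNat 1, Int.negSucc 0],
  [Int.negSucc 0, Int.negSucc 2, Int.ofNat 1, Int.ofNat 1, Int.negSucc 0, Int.ofNat 1, Int.ofNat 1, Int.ofNat 1, Int.negSucc 0, Int.ofNat 1, Int.negSucc 0, Int.ofNat 1, Int.negSucc 0, Int.ofNat 1, Int.ofNat 1, Int.ofNat 1, Int.ofNat 1, Int.ofNat 1, Int.ofNat 1, Int.ofNat 1, Int.negSucc 0, Int.ofNat 1, Int.negSucc 0, Int.negSucc 0],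
  [Int.negSucc 0, Int.ofNat 1, Int.negSucc 2, Int.negSucc 0, Int.negSucc 0, Int.negSucc 0, Int.negSucc 0, Int.negSucc 0, Int.negSucc 0, Int.ofNat 1, Int.negSucc 0, Int.ofNat 1, Int.negSucc 0, Int.ofNat 1, Int.negSucc 0, Int.ofNat 1, Int.ofNat 1, Int.negSucc 0, Int.ofNat 1, Int.negSucc 0, Int.negSucc 0, Int.negSucc 0, Int.negSucc 0, Int.negSucc 0],
  [Int.negSucc 0, Int.ofNat 1, Int.negSucc 0, Int.negSucc 0, Int.negSucc 2, Int.negSucc 0, Int.ofNat 1, Int.negSucc 0, Int.ofNat 1, Int.negSucc 0, Int.negSucc 0, Int.negSucc 0, Int.negSucc 0, Int.ofNat 1, Int.negSucc 0, Int.ofNat 1, Int.ofNat 1, Int.ofNat 1, Int.negSucc 0, Int.negSucc 0, Int.negSucc 0, Int.negSucc 0, Int.negSucc 0, Int.negSucc 0],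
  [Int.ofNat 0, Int.negSucc 1, Int.ofNat 0, Int.ofNat 0, Int.negSucc 1, Int.ofNat 0, Int.ofNat 2, Int.ofNat 0, Int.ofNat 2, Int.ofNat 0, Int.ofNat 0, Int.ofNat 0, Int.ofNat 0, Int.ofNat 2, Int.ofNat 0, Int.ofNat 2, Int.ofNat 2, Int.ofNat 2, Int.ofNat 0, Int.ofNat 0, Int.ofNat 0, Int.ofNat 0, Int.ofNat 0, Int.ofNat 0],
  [Int.ofNat 0, Int.ofNat 0, Int.ofNat 0, Int.ofNat 0, Int.negSucc 1, Int.ofNat 0, Int.ofNat 0, Int.negSucc 1, Int.ofNat 0, Int.ofNat 2, Int.ofNat 0, Int.ofNat 2, Int.ofNat 0, Int.ofNat 0, Int.ofNat 0, Int.ofNat 0, Int.ofNat 2, Int.ofNat 0, Int.ofNat 2, Int.ofNat 2, Int.ofNat 2, Int.ofNat 0, Int.ofNat 0, Int.ofNat 0],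
  [Int.ofNat 0, Int.ofNat 0, Int.ofNat 0, Int.ofNat 0, Int.negSucc 1, Int.ofNat 0, Int.ofNat 0, Int.negSucc 1, Int.negSucc 1, Int.ofNat 0, Int.negSucc 1, Int.ofNat 0, Int.negSucc 1, Int.ofNat 0, Int.ofNat 0, Int.negSucc 1, Int.ofNat 2, Int.ofNat 0, Int.ofNat 0, Int.ofNat 2, Int.ofNat 0, Int.ofNat 0, Int.ofNat 0, Int.ofNat 0],
  [Int.ofNat 0, Int.ofNat 0, Int.ofNat 0, Int.negSucc 1, Int.ofNat 0, Int.ofNat 0, Int.negSucc 1, Int.negSucc 1, Int.ofNat 0, Int.negSucc 1, Int.ofNat 0, Int.negSucc 1, Int.ofNat 0, Int.ofNat 0, Int.negSucc 1, Int.ofNat 2, Int.ofNat 0, Int.ofNat 0, Int.ofNat 2, Int.ofNat 0, Int.ofNat 0, Int.ofNat 0, Int.ofNat 0, Int.ofNat 0],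
  [Int.ofNat 0, Int.ofNat 0, Int.ofNat 0, Int.negSucc 1, Int.ofNat 0, Int.ofNat 0, Int.negSucc 1, Int.ofNat 2, Int.ofNat 0, Int.ofNat 2, Int.ofNat 0, Int.ofNat 2, Int.ofNat 0, Int.ofNat 0, Int.negSucc 1, Int.ofNat 2, Int.ofNat 0, Int.ofNat 0, Int.negSucc 1, Int.ofNat 0, Int.ofNat 0, Int.ofNat 0, Int.ofNat 0, Int.ofNat 0],
  [Int.ofNat 0, Int.ofNat 0, Int.ofNat 0, Int.ofNat 2, Int.ofNat 0, Int.ofNat 0, Int.ofNat 2, Int.ofNat 2, Int.ofNat 0, Int.negSucc 1, Int.ofNat 0, Int.ofNat 2, Int.ofNat 0, Int.ofNat 0, Int.negSucc 1, Int.ofNat 2, Int.ofNat 0, Int.ofNat 0, Int.ofNat 2, Int.ofNat 0, Int.ofNat 0, Int.ofNat 0, Int.ofNat 0, Int.ofNat 0],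
  [Int.ofNat 0, Int.ofNat 0, Int.ofNat 2, Int.ofNat 2, Int.ofNat 0, Int.negSucc 1, Int.ofNat 0, Int.ofNat 0, Int.ofNat 0, Int.ofNat 0, Int.ofNat 0, Int.ofNat 0, Int.ofNat 0, Int.ofNat 2, Int.ofNat 2, Int.ofNat 2, Int.ofNat 0, Int.ofNat 0, Int.negSucc 1, Int.ofNat 2, Int.ofNat 0, Int.ofNat 0, Int.ofNat 0, Int.ofNat 0],
  [Int.ofNat 0, Int.ofNat 0, Int.negSucc 1, Int.ofNat 2, Int.ofNat 0, Int.negSucc 1, Int.ofNat 0, Int.ofNat 0, Int.ofNat 0, Int.ofNat 0, Int.ofNat 0, Int.ofNat 0, Int.ofNat 0, Int.ofNat 2, Int.ofNat 2, Int.ofNat 2, Int.ofNat 0, Int.ofNat 0, Int.ofNat 2, Int.ofNat 2, Int.ofNat 0, Int.ofNat 0, Int.ofNat 0, Int.ofNat 0],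
  [Int.ofNat 0, Int.ofNat 0, Int.ofNat 0, Int.negSucc 1, Int.ofNat 2, Int.ofNat 0, Int.negSucc 1, Int.ofNat 0, Int.ofNat 0, Int.ofNat 0, Int.ofNat 0, Int.ofNat 0, Int.ofNat 0, Int.ofNat 0, Int.ofNat 2, Int.ofNat 2, Int.ofNat 2, Int.ofNat 0, Int.ofNat 0, Int.ofNat 2, Int.ofNat 2, Int.ofNat 0, Int.ofNat 0, Int.ofNat 0],
  [Int.ofNat 0, Int.ofNat 0, Int.ofNat 0, Int.negSucc 1, Int.ofNat 0, Int.ofNat 0, Int.negSucc 1, Int.ofNat 0, Int.ofNat 0, Int.negSucc 1, Int.negSucc 1, Int.ofNat 0, Int.ofNat 0, Int.negSucc 1, Int.ofNat 2, Int.ofNat 0, Int.ofNat 0, Int.ofNat 0, Int.ofNat 0, Int.ofNat 2, Int.ofNat 0, Int.ofNat 0, Int.negSucc 1, Int.ofNat 0],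
  [Int.negSucc 1, Int.ofNat 0, Int.ofNat 0, Int.negSucc 1, Int.ofNat 0, Int.ofNat 0, Int.negSucc 1, Int.negSucc 1, Int.ofNat 0, Int.ofNat 0, Int.negSucc 1, Int.ofNat 2, Int.ofNat 0, Int.ofNat 0, Int.ofNat 0, Int.ofNat 0, Int.ofNat 2, Int.ofNat 0, Int.ofNat 0, Int.negSucc 1, Int.ofNat 0, Int.ofNat 0, Int.ofNat 0, Int.ofNat 0],
  [Int.ofNat 1, Int.negSucc 0, Int.negSucc 0, Int.negSucc 0, Int.negSucc 0, Int.ofNat 1, Int.ofNat 1, Int.ofNat 1, Int.negSucc 0, Int.ofNat 1, Int.negSucc 0, Int.ofNat 1, Int.negSucc 0, Int.negSucc 0, Int.ofNat 1, Int.ofNat 1, Int.ofNat 1, Int.ofNat 1, Int.negSucc 0, Int.ofNat 1, Int.ofNat 1, Int.ofNat 3, Int.negSucc 0, Int.negSucc 0],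
  [Int.ofNat 1, Int.ofNat 1, Int.negSucc 0, Int.negSucc 0, Int.negSucc 0, Int.ofNat 1, Int.negSucc 0, Int.negSucc 0, Int.negSucc 0, Int.negSucc 0, Int.ofNat 1, Int.ofNat 1, Int.ofNat 1, Int.ofNat 1, Int.negSucc 0, Int.ofNat 1, Int.negSucc 0, Int.ofNat 1, Int.negSucc 0, Int.ofNat 1, Int.ofNat 3, Int.ofNat 1, Int.ofNat 1, Int.negSucc 0],
  [Int.negSucc 0, Int.negSucc 0, Int.ofNat 1, Int.negSucc 0, Int.negSucc 0, Int.ofNat 1, Int.negSucc 0, Int.negSucc 0, Int.negSucc 0, Int.negSucc 2, Int.negSucc 0, Int.ofNat 1, Int.ofNat 1, Int.ofNat 1, Int.negSucc 0, Int.negSucc 0, Int.negSucc 0, Int.ofNat 1, Int.negSucc 0, Int.ofNat 1, Int.ofNat 1, Int.ofNat 1, Int.ofNat 1, Int.ofNat 1],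
  [Int.negSucc 0, Int.negSucc 0, Int.negSucc 0, Int.negSucc 0, Int.negSucc 0, Int.negSucc 0, Int.ofNat 1, Int.negSucc 0, Int.negSucc 0, Int.ofNat 3, Int.ofNat 1, Int.ofNat 1, Int.ofNat 1, Int.ofNat 1, Int.negSucc 0, Int.ofNat 1, Int.negSucc 0, Int.ofNat 1, Int.ofNat 1, Int.ofNat 1, Int.ofNat 1, Int.ofNat 1, Int.negSucc 0, Int.ofNat 1],
  [Int.negSucc 0, Int.ofNat 1, Int.negSucc 0, Int.ofNat 3, Int.negSucc 0, Int.negSucc 0, Int.ofNat 1, Int.negSucc 0, Int.ofNat 1, Int.ofNat 1, Int.negSucc 0, Int.negSucc 0, Int.ofNat 1, Int.negSucc 0, Int.ofNat 1, Int.ofNat 1, Int.ofNat 1, Int.ofNat 1, Int.negSucc 0, Int.negSucc 0, Int.negSucc 0, Int.ofNat 1, Int.ofNat 1, Int.ofNat 1],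
  [Int.negSucc 0, Int.ofNat 1, Int.ofNat 1, Int.ofNat 3, Int.negSucc 0, Int.ofNat 1, Int.negSucc 0, Int.negSucc 0, Int.ofNat 1, Int.negSucc 0, Int.ofNat 1, Int.negSucc 0, Int.ofNat 1, Int.negSucc 0, Int.ofNat 1, Int.negSucc 0, Int.ofNat 1, Int.ofNat 1, Int.ofNat 1, Int.negSucc 0, Int.negSucc 0, Int.ofNat 1, Int.negSucc 0, Int.ofNat 1],
  [Int.ofNat 2, Int.ofNat 0, Int.ofNat 0, Int.ofNat 0, Int.ofNat 0, Int.negSucc 1, Int.ofNat 0, Int.ofNat 0, Int.ofNat 0, Int.ofNat 0, Int.ofNat 2, Int.negSucc 1, Int.ofNat 0, Int.ofNat 0, Int.negSucc 1, Int.ofNat 0, Int.ofNat 2, Int.negSucc 1, Int.ofNat 0, Int.ofNat 0, Int.ofNat 0, Int.ofNat 2, Int.ofNat 0, Int.ofNat 0],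
  [Int.ofNat 2, Int.ofNat 0, Int.ofNat 0, Int.ofNat 0, Int.ofNat 0, Int.ofNat 2, Int.ofNat 0, Int.negSucc 1, Int.ofNat 2, Int.ofNat 0, Int.ofNat 0, Int.ofNat 0, Int.ofNat 0, Int.ofNat 0, Int.negSucc 1, Int.ofNat 0, Int.ofNat 0, Int.negSucc 1, Int.ofNat 0, Int.ofNat 0, Int.ofNat 2, Int.ofNat 0, Int.negSucc 1, Int.ofNat 0],
  [Int.negSucc 0, Int.ofNat 1, Int.ofNat 1, Int.ofNat 1, Int.ofNat 1, Int.ofNat 3, Int.ofNat 1, Int.negSucc 0, Int.ofNat 1, Int.negSucc 0, Int.negSucc 0, Int.negSucc 0, Int.negSucc 0, Int.ofNat 1, Int.negSucc 0, Int.negSucc 0, Int.ofNat 1, Int.negSucc 0, Int.negSucc 0, Int.ofNat 1, Int.ofNat 1, Int.ofNat 1, Int.negSucc 0, Int.ofNat 1],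
  [Int.ofNat 1, Int.ofNat 1, Int.negSucc 0, Int.negSucc 0, Int.ofNat 1, Int.ofNat 1, Int.ofNat 1, Int.ofNat 1, Int.ofNat 3, Int.ofNat 1, Int.negSucc 0, Int.ofNat 1, Int.negSucc 0, Int.negSucc 0, Int.negSucc 0, Int.negSucc 0, Int.ofNat 1, Int.negSucc 0, Int.negSucc 0, Int.ofNat 1, Int.negSucc 0, Int.negSucc 0, Int.ofNat 1, Int.ofNat 1],
  [Int.ofNat 0, Int.ofNat 0, Int.ofNat 2, Int.ofNat 0, Int.ofNat 0, Int.ofNat 2, Int.ofNat 0, Int.ofNat 0, Int.ofNat 2, Int.ofNat 2, Int.ofNat 0, Int.ofNat 0, Int.negSucc 1, Int.negSucc 1, Int.ofNat 0, Int.ofNat 0, Int.ofNat 0, Int.ofNat 0, Int.negSucc 1, Int.ofNat 0, Int.ofNat 0, Int.negSucc 1, Int.ofNat 0, Int.ofNat 0],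
  [Int.ofNat 0, Int.ofNat 2, Int.ofNat 0, Int.ofNat 0, Int.ofNat 2, Int.ofNat 0, Int.ofNat 0, Int.ofNat 2, Int.ofNat 2, Int.ofNat 0, Int.ofNat 0, Int.negSucc 1, Int.negSucc 1, Int.ofNat 0, Int.ofNat 0, Int.ofNat 0, Int.ofNat 0, Int.negSucc 1, Int.ofNat 0, Int.ofNat 0, Int.negSucc 1, Int.ofNat 0, Int.ofNat 0, Int.ofNat 0],
  [Int.ofNat 0, Int.ofNat 2, Int.ofNat 0, Int.ofNat 0, Int.ofNat 2, Int.ofNat 0, Int.ofNat 0, Int.negSucc 1, Int.ofNat 2, Int.ofNat 0, Int.ofNat 0, Int.ofNat 2, Int.negSucc 1, Int.ofNat 0, Int.ofNat 0, Int.ofNat 0, Int.ofNat 0, Int.negSucc 1, Int.ofNat 0, Int.ofNat 0, Int.negSucc 1, Int.ofNat 0, Int.ofNat 0, Int.ofNat 0],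
  [Int.ofNat 0, Int.negSucc 1, Int.ofNat 0, Int.ofNat 0, Int.negSucc 1, Int.ofNat 0, Int.ofNat 0, Int.negSucc 1, Int.negSucc 1, Int.ofNat 0, Int.ofNat 0, Int.ofNat 2, Int.ofNat 2, Int.ofNat 0, Int.ofNat 0, Int.ofNat 0, Int.ofNat 0, Int.negSucc 1, Int.ofNat 0, Int.ofNat 0, Int.negSucc 1, Int.ofNat 0, Int.ofNat 0, Int.ofNat 0],
  [Int.ofNat 0, Int.ofNat 0, Int.ofNat 2, Int.ofNat 0, Int.negSucc 1, Int.ofNat 0, Int.ofNat 0, Int.ofNat 0, Int.negSucc 1, Int.ofNat 0, Int.ofNat 0, Int.ofNat 0, Int.ofNat 0, Int.negSucc 1, Int.ofNat 0, Int.ofNat 0, Int.ofNat 0, Int.negSucc 1, Int.ofNat 0, Int.ofNat 0, Int.negSucc 1, Int.ofNat 2, Int.negSucc 1, Int.ofNat 0],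
  [Int.ofNat 0, Int.ofNat 0, Int.negSucc 1, Int.ofNat 0, Int.negSucc 1, Int.ofNat 0, Int.ofNat 0, Int.ofNat 0, Int.negSucc 1, Int.ofNat 0, Int.ofNat 0, Int.ofNat 0, Int.ofNat 0, Int.negSucc 1, Int.ofNat 0, Int.ofNat 0, Int.ofNat 0, Int.negSucc 1, Int.ofNat 0, Int.ofNat 0, Int.negSucc 1, Int.negSucc 1, Int.negSucc 1, Int.ofNat 0],
  [Int.negSucc 1, Int.ofNat 0, Int.ofNat 0, Int.negSucc 1, Int.ofNat 0, Int.negSucc 1, Int.ofNat 0, Int.ofNat 0, Int.ofNat 0, Int.negSucc 1, Int.ofNat 0, Int.ofNat 0, Int.ofNat 0, Int.ofNat 0, Int.negSucc 1, Int.ofNat 0, Int.ofNat 0, Int.ofNat 0, Int.negSucc 1, Int.ofNat 0, Int.ofNat 0, Int.negSucc 1, Int.negSucc 1, Int.ofNat 0],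
  [Int.ofNat 1, Int.negSucc 0, Int.negSucc 0, Int.ofNat 1, Int.ofNat 1, Int.ofNat 1, Int.ofNat 1, Int.ofNat 1, Int.ofNat 1, Int.negSucc 0, Int.ofNat 1, Int.ofNat 1, Int.ofNat 1, Int.ofNat 1, Int.ofNat 1, Int.ofNat 1, Int.ofNat 1, Int.ofNat 3, Int.negSucc 0, Int.ofNat 1, Int.ofNat 1, Int.negSucc 0, Int.negSucc 0, Int.negSucc 0],
  [Int.ofNat 1, Int.ofNat 1, Int.ofNat 1, Int.ofNat 1, Int.ofNat 1, Int.ofNat 1, Int.negSucc 0, Int.ofNat 1, Int.ofNat 1, Int.ofNat 1, Int.ofNat 1, Int.ofNat 1, Int.ofNat 1, Int.ofNat 1, Int.ofNat 3, Int.negSucc 0, Int.ofNat 1, Int.ofNat 1, Int.negSucc 0, Int.negSucc 0, Int.ofNat 1, Int.negSucc 0, Int.negSucc 0, Int.negSucc 0],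
  [Int.ofNat 0, Int.ofNat 0, Int.ofNat 0, Int.negSucc 1, Int.ofNat 0, Int.negSucc 1, Int.ofNat 0, Int.ofNat 2, Int.ofNat 0, Int.ofNat 0, Int.ofNat 0, Int.ofNat 0, Int.ofNat 0, Int.ofNat 0, Int.ofNat 0, Int.negSucc 1, Int.ofNat 0, Int.negSucc 1, Int.negSucc 1, Int.ofNat 0, Int.ofNat 0, Int.ofNat 0, Int.negSucc 1, Int.ofNat 2],
  [Int.ofNat 0, Int.ofNat 0, Int.ofNat 0, Int.negSucc 1, Int.negSucc 1, Int.ofNat 2, Int.ofNat 0, Int.ofNat 0, Int.ofNat 0, Int.ofNat 0, Int.ofNat 0, Int.negSucc 1, Int.ofNat 0, Int.ofNat 0, Int.negSucc 1, Int.negSucc 1, Int.ofNat 0, Int.ofNat 0, Int.ofNat 0, Int.ofNat 0, Int.ofNat 0, Int.negSucc 1, Int.ofNat 0, Int.ofNat 2],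
  [Int.ofNat 1, Int.ofNat 1, Int.ofNat 1, Int.negSucc 0, Int.negSucc 0, Int.ofNat 3, Int.ofNat 1, Int.ofNat 1, Int.ofNat 1, Int.ofNat 1, Int.ofNat 1, Int.negSucc 0, Int.ofNat 1, Int.ofNat 1, Int.negSucc 0, Int.negSucc 0, Int.ofNat 1, Int.ofNat 1, Int.ofNat 1, Int.ofNat 1, Int.ofNat 1, Int.negSucc 0, Int.ofNat 1, Int.negSucc 0],
  [Int.ofNat 1, Int.ofNat 1, Int.negSucc 0, Int.negSucc 0, Int.negSucc 0, Int.negSucc 2, Int.negSucc 0, Int.ofNat 1, Int.ofNat 1, Int.negSucc 0, Int.negSucc 0, Int.negSucc 0, Int.ofNat 1, Int.ofNat 1, Int.negSucc 0, Int.ofNat 1, Int.ofNat 1, Int.ofNat 1, Int.negSucc 0, Int.ofNat 1, Int.ofNat 1, Int.negSucc 0, Int.negSucc 0, Int.negSucc 0],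
  [Int.negSucc 2, Int.ofNat 1, Int.negSucc 0, Int.negSucc 0, Int.ofNat 1, Int.negSucc 0, Int.ofNat 1, Int.negSucc 0, Int.ofNat 1, Int.negSucc 0, Int.ofNat 1, Int.negSucc 0, Int.negSucc 0, Int.ofNat 1, Int.negSucc 0, Int.negSucc 0, Int.ofNat 1, Int.negSucc 0, Int.ofNat 1, Int.negSucc 0, Int.ofNat 1, Int.ofNat 1, Int.ofNat 1, Int.negSucc 0],
  [Int.negSucc 2, Int.ofNat 1, Int.ofNat 1, Int.negSucc 0, Int.ofNat 1, Int.ofNat 1, Int.negSucc 0, Int.negSucc 0, Int.ofNat 1, Int.ofNat 1, Int.negSucc 0, Int.negSucc 0, Int.negSucc 0, Int.ofNat 1, Int.negSucc 0, Int.ofNat 1, Int.ofNat 1, Int.negSucc 0, Int.negSucc 0, Int.negSucc 0, Int.ofNat 1, Int.ofNat 1, Int.negSucc 0, Int.negSucc 0],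
  [Int.ofNat 2, Int.negSucc 1, Int.negSucc 1, Int.ofNat 0, Int.ofNat 0, Int.ofNat 2, Int.ofNat 0, Int.ofNat 0, Int.ofNat 2, Int.ofNat 0, Int.negSucc 1, Int.ofNat 0, Int.ofNat 0, Int.ofNat 0, Int.ofNat 0, Int.ofNat 0, Int.ofNat 0, Int.ofNat 0, Int.ofNat 0, Int.ofNat 0, Int.ofNat 0, Int.ofNat 2, Int.negSucc 1, Int.ofNat 0],
  [Int.ofNat 2, Int.ofNat 0, Int.ofNat 0, Int.ofNat 0, Int.negSucc 1, Int.ofNat 2, Int.negSucc 1, Int.ofNat 2, Int.ofNat 0, Int.ofNat 0, Int.ofNat 0, Int.ofNat 0, Int.ofNat 2, Int.ofNat 0, Int.ofNat 0, Int.ofNat 0, Int.ofNat 0, Int.ofNat 0, Int.ofNat 0, Int.negSucc 1, Int.negSucc 1, Int.ofNat 0, Int.ofNat 0, Int.ofNat 0],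
  [Int.negSucc 0, Int.ofNat 1, Int.ofNat 1, Int.negSucc 0, Int.negSucc 0, Int.ofNat 1, Int.negSucc 0, Int.ofNat 3, Int.negSucc 0, Int.ofNat 1, Int.ofNat 1, Int.negSucc 0, Int.ofNat 1, Int.ofNat 1, Int.negSucc 0, Int.ofNat 1, Int.ofNat 1, Int.negSucc 0, Int.negSucc 0, Int.negSucc 0, Int.negSucc 0, Int.ofNat 1, Int.ofNat 1, Int.ofNat 1],
  [Int.negSucc 0, Int.ofNat 1, Int.ofNat 1, Int.negSucc 0, Int.ofNat 1, Int.ofNat 1, Int.negSucc 0, Int.negSucc 0, Int.ofNat 1, Int.negSucc 0, Int.ofNat 3, Int.negSucc 0, Int.ofNat 1, Int.ofNat 1, Int.negSucc 0, Int.ofNat 1, Int.ofNat 1, Int.negSucc 0, Int.ofNat 1, Int.ofNat 1, Int.negSucc 0, Int.negSucc 0, Int.negSucc 0, Int.ofNat 1],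
  [Int.ofNat 2, Int.ofNat 0, Int.ofNat 0, Int.ofNat 0, Int.ofNat 0, Int.ofNat 2, Int.ofNat 0, Int.ofNat 0, Int.ofNat 0, Int.negSucc 1, Int.ofNat 2, Int.negSucc 1, Int.ofNat 0, Int.ofNat 0, Int.ofNat 0, Int.ofNat 0, Int.ofNat 0, Int.ofNat 0, Int.ofNat 0, Int.ofNat 2, Int.negSucc 1, Int.ofNat 0, Int.negSucc 1, Int.ofNat 0],
  [Int.ofNat 0, Int.ofNat 0, Int.ofNat 0, Int.ofNat 0, Int.ofNat 2, Int.ofNat 0, Int.ofNat 0, Int.ofNat 0, Int.negSucc 1, Int.ofNat 2, Int.negSucc 1, Int.ofNat 0, Int.ofNat 0, Int.ofNat 0, Int.ofNat 0, Int.ofNat 0, Int.ofNat 0, Int.ofNat 0, Int.ofNat 2, Int.negSucc 1, Int.ofNat 0, Int.negSucc 1, Int.ofNat 2, Int.ofNat 0],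
  [Int.ofNat 0, Int.ofNat 0, Int.ofNat 0, Int.ofNat 0, Int.ofNat 2, Int.ofNat 0, Int.ofNat 0, Int.ofNat 0, Int.negSucc 1, Int.negSucc 1, Int.ofNat 2, Int.ofNat 0, Int.ofNat 0, Int.ofNat 0, Int.ofNat 0, Int.ofNat 0, Int.ofNat 0, Int.ofNat 0, Int.negSucc 1, Int.negSucc 1, Int.ofNat 0, Int.ofNat 2, Int.ofNat 2, Int.ofNat 0],
  [Int.ofNat 0, Int.ofNat 0, Int.ofNat 0, Int.ofNat 0, Int.negSucc 1, Int.ofNat 0, Int.ofNat 0, Int.ofNat 0, Int.ofNat 2, Int.ofNat 2, Int.ofNat 2, Int.ofNat 0, Int.ofNat 0, Int.ofNat 0, Int.ofNat 0, Int.ofNat 0, Int.ofNat 0, Int.ofNat 0, Int.ofNat 2, Int.negSucc 1, Int.ofNat 0, Int.ofNat 2, Int.ofNat 2, Int.ofNat 0],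
  [Int.ofNat 0, Int.ofNat 2, Int.ofNat 0, Int.ofNat 0, Int.ofNat 0, Int.ofNat 2, Int.negSucc 1, Int.ofNat 0, Int.ofNat 0, Int.ofNat 0, Int.ofNat 0, Int.ofNat 0, Int.ofNat 2, Int.ofNat 0, Int.ofNat 2, Int.ofNat 0, Int.ofNat 2, Int.negSucc 1, Int.ofNat 0, Int.ofNat 0, Int.ofNat 2, Int.ofNat 0, Int.ofNat 0, Int.ofNat 0],
  [Int.ofNat 0, Int.ofNat 2, Int.ofNat 0, Int.ofNat 0, Int.ofNat 0, Int.ofNat 2, Int.negSucc 1, Int.ofNat 0, Int.ofNat 0, Int.ofNat 0, Int.ofNat 0, Int.ofNat 0, Int.ofNat 2, Int.ofNat 0, Int.ofNat 2, Int.ofNat 0, Int.ofNat 2, Int.negSucc 1, Int.ofNat 0, Int.ofNat 0, Int.ofNat 2, Int.ofNat 0, Int.ofNat 0, Int.ofNat 0],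
  [Int.ofNat 0, Int.ofNat 0, Int.ofNat 2, Int.ofNat 0, Int.ofNat 0, Int.ofNat 0, Int.ofNat 2, Int.negSucc 1, Int.ofNat 0, Int.ofNat 0, Int.ofNat 0, Int.ofNat 0, Int.ofNat 0, Int.ofNat 2, Int.ofNat 0, Int.ofNat 2, Int.ofNat 0, Int.ofNat 2, Int.negSucc 1, Int.ofNat 0, Int.ofNat 0, Int.ofNat 2, Int.ofNat 0, Int.ofNat 0],
  [Int.ofNat 1, Int.ofNat 1, Int.negSucc 0, Int.negSucc 0, Int.negSucc 0, Int.negSucc 0, Int.ofNat 1, Int.negSucc 2, Int.ofNat 1, Int.negSucc 0, Int.negSucc 0, Int.ofNat 1, Int.ofNat 1, Int.ofNat 1, Int.negSucc 0, Int.ofNat 1, Int.negSucc 0, Int.ofNat 1, Int.negSucc 0, Int.negSucc 0, Int.negSucc 0, Int.ofNat 1, Int.negSucc 0, Int.ofNat 1],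
  [Int.negSucc 0, Int.negSucc 0, Int.negSucc 0, Int.ofNat 1, Int.negSucc 2, Int.ofNat 1, Int.negSucc 0, Int.negSucc 0, Int.ofNat 1, Int.ofNat 1, Int.ofNat 1, Int.negSucc 0, Int.ofNat 1, Int.negSucc 0, Int.ofNat 1, Int.negSucc 0, Int.negSucc 0, Int.negSucc 0, Int.ofNat 1, Int.negSucc 0, Int.ofNat 1, Int.ofNat 1, Int.negSucc 0, Int.ofNat 1],
  [Int.ofNat 0, Int.ofNat 0, Int.ofNat 0, Int.ofNat 0, Int.ofNat 0, Int.ofNat 0, Int.ofNat 0, Int.ofNat 0, Int.ofNat 0, Int.ofNat 0, Int.ofNat 0, Int.negSucc 1, Int.ofNat 0, Int.ofNat 2, Int.ofNat 0, Int.negSucc 1, Int.ofNat 2, Int.negSucc 1, Int.ofNat 0, Int.ofNat 0, Int.ofNat 0, Int.ofNat 2, Int.ofNat 2, Int.negSucc 1],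
  [Int.ofNat 0, Int.ofNat 0, Int.ofNat 0, Int.ofNat 0, Int.ofNat 0, Int.ofNat 0, Int.ofNat 0, Int.ofNat 0, Int.ofNat 0, Int.ofNat 2, Int.ofNat 0, Int.negSucc 1, Int.ofNat 0, Int.ofNat 2, Int.ofNat 2, Int.negSucc 1, Int.ofNat 0, Int.ofNat 0, Int.ofNat 0, Int.negSucc 1, Int.ofNat 2, Int.ofNat 0, Int.ofNat 0, Int.negSucc 1],
  [Int.negSucc 0, Int.negSucc 0, Int.negSucc 0, Int.negSucc 0, Int.negSucc 0, Int.negSucc 0, Int.ofNat 1, Int.ofNat 1, Int.ofNat 1, Int.ofNat 1, Int.negSucc 0, Int.negSucc 0, Int.ofNat 1, Int.ofNat 1, Int.ofNat 1, Int.negSucc 2, Int.negSucc 0, Int.negSucc 0, Int.ofNat 1, Int.negSucc 0, Int.ofNat 1, Int.ofNat 1, Int.negSucc 0, Int.ofNat 1],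
  [Int.negSucc 0, Int.negSucc 0, Int.ofNat 1, Int.negSucc 0, Int.negSucc 0, Int.ofNat 1, Int.negSucc 0, Int.ofNat 1, Int.ofNat 1, Int.negSucc 0, Int.ofNat 1, Int.negSucc 0, Int.ofNat 1, Int.ofNat 1, Int.ofNat 1, Int.ofNat 3, Int.negSucc 0, Int.negSucc 0, Int.negSucc 0, Int.negSucc 0, Int.ofNat 1, Int.ofNat 1, Int.ofNat 1, Int.ofNat 1],
  [Int.ofNat 1, Int.ofNat 1, Int.negSucc 0, Int.negSucc 0, Int.negSucc 0, Int.ofNat 1, Int.negSucc 0, Int.ofNat 1, Int.negSucc 0, Int.ofNat 1, Int.ofNat 1, Int.negSucc 0, Int.negSucc 0, Int.negSucc 0, Int.negSucc 0, Int.ofNat 1, Int.ofNat 3, Int.negSucc 0, Int.ofNat 1, Int.ofNat 1, Int.negSucc 0, Int.ofNat 1, Int.ofNat 1, Int.ofNat 1],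
  [Int.ofNat 1, Int.ofNat 1, Int.ofNat 1, Int.negSucc 0, Int.negSucc 0, Int.negSucc 0, Int.ofNat 1, Int.ofNat 1, Int.negSucc 0, Int.negSucc 0, Int.negSucc 0, Int.negSucc 0, Int.negSucc 0, Int.negSucc 0, Int.negSucc 0, Int.negSucc 0, Int.ofNat 3, Int.negSucc 0, Int.negSucc 0, Int.ofNat 1, Int.negSucc 0, Int.ofNat 1, Int.negSucc 0, Int.ofNat 1],
  [Int.ofNat 1, Int.ofNat 1, Int.ofNat 1, Int.ofNat 1, Int.negSucc 0, Int.ofNat 1, Int.negSucc 0, Int.negSucc 0, Int.ofNat 1, Int.ofNat 1, Int.ofNat 1, Int.ofNat 1, Int.ofNat 1, Int.negSucc 0, Int.ofNat 1, Int.ofNat 1, Int.ofNat 3, Int.ofNat 1, Int.ofNat 1, Int.negSucc 0, Int.ofNat 1, Int.negSucc 0, Int.negSucc 0, Int.ofNat 1],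
  [Int.ofNat 1, Int.ofNat 1, Int.negSucc 0, Int.ofNat 1, Int.ofNat 1, Int.negSucc 0, Int.ofNat 1, Int.ofNat 1, Int.ofNat 3, Int.ofNat 1, Int.negSucc 0, Int.negSucc 0, Int.ofNat 1, Int.ofNat 1, Int.ofNat 1, Int.ofNat 1, Int.negSucc 0, Int.ofNat 1, Int.negSucc 0, Int.negSucc 0, Int.ofNat 1, Int.ofNat 1, Int.ofNat 1, Int.ofNat 1],
  [Int.ofNat 0, Int.ofNat 0, Int.ofNat 2, Int.ofNat 0, Int.ofNat 0, Int.negSucc 1, Int.ofNat 0, Int.ofNat 0, Int.ofNat 2, Int.ofNat 0, Int.negSucc 1, Int.negSucc 1, Int.ofNat 0, Int.ofNat 0, Int.ofNat 0, Int.ofNat 0, Int.negSucc 1, Int.ofNat 0, Int.negSucc 1, Int.negSucc 1, Int.ofNat 0, Int.ofNat 0, Int.ofNat 0, Int.ofNat 0],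
  [Int.ofNat 0, Int.ofNat 0, Int.ofNat 0, Int.ofNat 0, Int.ofNat 0, Int.ofNat 2, Int.ofNat 0, Int.ofNat 0, Int.negSucc 1, Int.ofNat 0, Int.ofNat 0, Int.ofNat 2, Int.ofNat 0, Int.negSucc 1, Int.negSucc 1, Int.ofNat 0, Int.ofNat 0, Int.ofNat 0, Int.ofNat 0, Int.negSucc 1, Int.ofNat 0, Int.negSucc 1, Int.negSucc 1, Int.ofNat 0],
  [Int.ofNat 0, Int.ofNat 0, Int.ofNat 0, Int.ofNat 0, Int.ofNat 2, Int.ofNat 2, Int.ofNat 2, Int.ofNat 2, Int.negSucc 1, Int.ofNat 0, Int.ofNat 0, Int.ofNat 2, Int.ofNat 0, Int.ofNat 0, Int.negSucc 1, Int.ofNat 0, Int.ofNat 2, Int.ofNat 0, Int.ofNat 0, Int.ofNat 0, Int.ofNat 0, Int.ofNat 0, Int.ofNat 0, Int.ofNat 0],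
  [Int.ofNat 0, Int.ofNat 0, Int.ofNat 0, Int.ofNat 2, Int.ofNat 2, Int.ofNat 2, Int.ofNat 2, Int.negSucc 1, Int.ofNat 0, Int.ofNat 0, Int.ofNat 2, Int.ofNat 0, Int.ofNat 0, Int.negSucc 1, Int.ofNat 0, Int.ofNat 2, Int.ofNat 0, Int.ofNat 0, Int.ofNat 0, Int.ofNat 0, Int.ofNat 0, Int.ofNat 0, Int.ofNat 0, Int.ofNat 0],
  [Int.ofNat 0, Int.ofNat 0, Int.ofNat 0, Int.ofNat 2, Int.ofNat 2, Int.ofNat 2, Int.ofNat 2, Int.ofNat 2, Int.ofNat 0, Int.ofNat 0, Int.negSucc 1, Int.ofNat 0, Int.ofNat 0, Int.negSucc 1, Int.ofNat 0, Int.ofNat 2, Int.ofNat 0, Int.ofNat 0, Int.ofNat 0, Int.ofNat 0, Int.ofNat 0, Int.ofNat 0, Int.ofNat 0, Int.ofNat 0],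
  [Int.ofNat 0, Int.ofNat 0, Int.ofNat 0, Int.negSucc 1, Int.negSucc 1, Int.ofNat 2, Int.negSucc 1, Int.ofNat 2, Int.ofNat 0, Int.ofNat 0, Int.negSucc 1, Int.ofNat 0, Int.ofNat 0, Int.ofNat 2, Int.ofNat 0, Int.ofNat 2, Int.ofNat 0, Int.ofNat 0, Int.ofNat 0, Int.ofNat 0, Int.ofNat 0, Int.ofNat 0, Int.ofNat 0, Int.ofNat 0],
  [Int.ofNat 0, Int.ofNat 0, Int.ofNat 0, Int.ofNat 2, Int.ofNat 0, Int.ofNat 0, Int.ofNat 0, Int.ofNat 2, Int.ofNat 0, Int.ofNat 2, Int.ofNat 0, Int.ofNat 0, Int.ofNat 0, Int.ofNat 2, Int.ofNat 0, Int.negSucc 1, Int.negSucc 1, Int.negSucc 1, Int.ofNat 0, Int.negSucc 1, Int.ofNat 0, Int.ofNat 0, Int.ofNat 0, Int.ofNat 0],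
  [Int.ofNat 0, Int.ofNat 0, Int.ofNat 0, Int.ofNat 2, Int.ofNat 0, Int.ofNat 0, Int.ofNat 0, Int.negSucc 1, Int.ofNat 0, Int.negSucc 1, Int.ofNat 0, Int.ofNat 0, Int.ofNat 0, Int.ofNat 2, Int.ofNat 0, Int.negSucc 1, Int.negSucc 1, Int.negSucc 1, Int.ofNat 0, Int.negSucc 1, Int.ofNat 0, Int.ofNat 0, Int.ofNat 0, Int.ofNat 0],
  [Int.ofNat 0, Int.ofNat 0, Int.ofNat 0, Int.ofNat 0, Int.ofNat 2, Int.ofNat 0, Int.ofNat 0, Int.ofNat 0, Int.negSucc 1, Int.ofNat 0, Int.negSucc 1, Int.ofNat 0, Int.ofNat 0, Int.ofNat 0, Int.ofNat 2, Int.ofNat 0, Int.negSucc 1, Int.negSucc 1, Int.negSucc 1, Int.ofNat 0, Int.negSucc 1, Int.ofNat 0, Int.ofNat 0, Int.ofNat 0],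
  [Int.ofNat 0, Int.ofNat 0, Int.ofNat 0, Int.ofNat 0, Int.ofNat 2, Int.ofNat 0, Int.ofNat 0, Int.ofNat 0, Int.ofNat 0, Int.ofNat 2, Int.ofNat 0, Int.ofNat 2, Int.ofNat 2, Int.ofNat 0, Int.ofNat 2, Int.ofNat 2, Int.negSucc 1, Int.negSucc 1, Int.ofNat 0, Int.ofNat 0, Int.ofNat 0, Int.ofNat 0, Int.ofNat 0, Int.ofNat 0],
  [Int.ofNat 0, Int.ofNat 2, Int.ofNat 0, Int.ofNat 0, Int.ofNat 0, Int.ofNat 0, Int.ofNat 2, Int.ofNat 0, Int.ofNat 2, Int.ofNat 2, Int.ofNat 0, Int.ofNat 2, Int.ofNat 2, Int.negSucc 1, Int.negSucc 1, Int.ofNat 0, Int.ofNat 0, Int.ofNat 0, Int.ofNat 0, Int.ofNat 0, Int.ofNat 0, Int.ofNat 0, Int.ofNat 0, Int.ofNat 0],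
  [Int.ofNat 1, Int.negSucc 0, Int.ofNat 1, Int.ofNat 1, Int.ofNat 1, Int.ofNat 1, Int.ofNat 1, Int.negSucc 0, Int.negSucc 0, Int.ofNat 1, Int.negSucc 0, Int.negSucc 0, Int.negSucc 0, Int.negSucc 0, Int.negSucc 0, Int.negSucc 0, Int.ofNat 1, Int.ofNat 1, Int.negSucc 2, Int.negSucc 0, Int.negSucc 0, Int.negSucc 0, Int.ofNat 1, Int.ofNat 1],
  [Int.ofNat 1, Int.ofNat 1, Int.ofNat 1, Int.ofNat 1, Int.negSucc 2, Int.negSucc 0, Int.ofNat 1, Int.negSucc 0, Int.negSucc 0, Int.negSucc 0, Int.negSucc 0, Int.ofNat 1, Int.ofNat 1, Int.ofNat 1, Int.ofNat 1, Int.negSucc 0, Int.negSucc 0, Int.negSucc 0, Int.negSucc 0, Int.negSucc 0, Int.negSucc 0, Int.ofNat 1, Int.negSucc 0, Int.ofNat 1],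
  [Int.ofNat 1, Int.ofNat 1, Int.ofNat 1, Int.ofNat 1, Int.negSucc 0, Int.negSucc 0, Int.ofNat 1, Int.negSucc 0, Int.negSucc 0, Int.ofNat 1, Int.ofNat 1, Int.ofNat 1, Int.ofNat 1, Int.ofNat 3, Int.ofNat 1, Int.ofNat 1, Int.ofNat 1, Int.negSucc 0, Int.negSucc 0, Int.negSucc 0, Int.ofNat 1, Int.ofNat 1, Int.ofNat 1, Int.ofNat 1],
  [Int.ofNat 1, Int.ofNat 1, Int.negSucc 0, Int.ofNat 1, Int.negSucc 0, Int.ofNat 1, Int.negSucc 0, Int.negSucc 0, Int.negSucc 0, Int.negSucc 0, Int.negSucc 0, Int.ofNat 1, Int.ofNat 1, Int.ofNat 3, Int.ofNat 1, Int.negSucc 0, Int.ofNat 1, Int.negSucc 0, Int.ofNat 1, Int.negSucc 0, Int.ofNat 1, Int.ofNat 1, Int.negSucc 0, Int.ofNat 1],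
  [Int.ofNat 1, Int.ofNat 1, Int.ofNat 1, Int.negSucc 0, Int.ofNat 1, Int.negSucc 0, Int.negSucc 0, Int.negSucc 0, Int.negSucc 0, Int.ofNat 1, Int.negSucc 0, Int.negSucc 0, Int.negSucc 0, Int.ofNat 1, Int.ofNat 1, Int.negSucc 0, Int.negSucc 0, Int.ofNat 1, Int.negSucc 0, Int.ofNat 1, Int.ofNat 1, Int.ofNat 1, Int.ofNat 3, Int.ofNat 1],
  [Int.ofNat 1, Int.ofNat 1, Int.negSucc 0, Int.negSucc 0, Int.ofNat 1, Int.ofNat 1, Int.ofNat 1, Int.negSucc 0, Int.negSucc 0, Int.negSucc 0, Int.ofNat 1, Int.negSucc 0, Int.negSucc 0, Int.ofNat 1, Int.ofNat 1, Int.ofNat 1, Int.negSucc 0, Int.ofNat 1, Int.ofNat 1, Int.ofNat 1, Int.ofNat 1, Int.ofNat 1, Int.negSucc 2, Int.ofNat 1],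
  [Int.ofNat 0, Int.ofNat 0, Int.ofNat 2, Int.negSucc 1, Int.ofNat 2, Int.ofNat 0, Int.ofNat 0, Int.negSucc 1, Int.ofNat 0, Int.negSucc 1, Int.ofNat 0, Int.ofNat 0, Int.ofNat 0, Int.ofNat 2, Int.ofNat 0, Int.ofNat 0, Int.ofNat 0, Int.ofNat 0, Int.ofNat 2, Int.ofNat 0, Int.ofNat 0, Int.ofNat 0, Int.negSucc 1, Int.ofNat 0],
  [Int.ofNat 0, Int.ofNat 2, Int.ofNat 0, Int.negSucc 1, Int.ofNat 2, Int.ofNat 0, Int.ofNat 0, Int.ofNat 0, Int.ofNat 0, Int.ofNat 0, Int.negSucc 1, Int.ofNat 0, Int.ofNat 0, Int.negSucc 1, Int.ofNat 0, Int.ofNat 0, Int.ofNat 2, Int.ofNat 0, Int.ofNat 2, Int.negSucc 1, Int.ofNat 0, Int.ofNat 0, Int.ofNat 0, Int.ofNat 0],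
  [Int.ofNat 1, Int.negSucc 0, Int.ofNat 1, Int.negSucc 0, Int.ofNat 1, Int.ofNat 1, Int.ofNat 1, Int.ofNat 1, Int.negSucc 0, Int.ofNat 1, Int.negSucc 0, Int.negSucc 0, Int.negSucc 0, Int.negSucc 2, Int.ofNat 1, Int.ofNat 1, Int.ofNat 1, Int.ofNat 1, Int.ofNat 1, Int.negSucc 0, Int.ofNat 1, Int.ofNat 1, Int.negSucc 0, Int.ofNat 1],
  [Int.ofNat 1, Int.ofNat 1, Int.negSucc 0, Int.ofNat 1, Int.negSucc 0, Int.ofNat 1, Int.negSucc 0, Int.ofNat 1, Int.ofNat 1, Int.ofNat 1, Int.ofNat 1, Int.negSucc 0, Int.ofNat 1, Int.negSucc 0, Int.negSucc 0, Int.negSucc 0, Int.negSucc 2, Int.ofNat 1, Int.ofNat 1, Int.ofNat 1, Int.ofNat 1, Int.ofNat 1, Int.negSucc 0, Int.ofNat 1],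
  [Int.ofNat 0, Int.ofNat 0, Int.ofNat 2, Int.ofNat 0, Int.ofNat 2, Int.ofNat 0, Int.negSucc 1, Int.ofNat 0, Int.ofNat 0, Int.ofNat 0, Int.ofNat 0, Int.negSucc 1, Int.ofNat 0, Int.ofNat 2, Int.negSucc 1, Int.negSucc 1, Int.ofNat 0, Int.ofNat 0, Int.ofNat 0, Int.ofNat 0, Int.ofNat 0, Int.ofNat 0, Int.ofNat 2, Int.ofNat 0],
  [Int.ofNat 0, Int.ofNat 2, Int.ofNat 0, Int.ofNat 2, Int.ofNat 0, Int.negSucc 1, Int.ofNat 0, Int.ofNat 0, Int.ofNat 0, Int.ofNat 0, Int.negSucc 1, Int.ofNat 0, Int.ofNat 2, Int.negSucc 1, Int.negSucc 1, Int.ofNat 0, Int.ofNat 0, Int.ofNat 0, Int.ofNat 0, Int.ofNat 0, Int.ofNat 0, Int.ofNat 2, Int.ofNat 0, Int.ofNat 0],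
  [Int.ofNat 0, Int.ofNat 2, Int.ofNat 0, Int.ofNat 2, Int.ofNat 0, Int.negSucc 1, Int.ofNat 0, Int.ofNat 0, Int.ofNat 0, Int.ofNat 0, Int.ofNat 2, Int.ofNat 0, Int.ofNat 2, Int.negSucc 1, Int.negSucc 1, Int.ofNat 0, Int.ofNat 0, Int.ofNat 0, Int.ofNat 0, Int.ofNat 0, Int.ofNat 0, Int.negSucc 1, Int.ofNat 0, Int.ofNat 0],
  [Int.ofNat 0, Int.negSucc 1, Int.ofNat 0, Int.negSucc 1, Int.ofNat 0, Int.negSucc 1, Int.ofNat 0, Int.ofNat 0, Int.ofNat 0, Int.ofNat 0, Int.ofNat 2, Int.ofNat 0, Int.negSucc 1, Int.ofNat 2, Int.negSucc 1, Int.ofNat 0, Int.ofNat 0, Int.ofNat 0, Int.ofNat 0, Int.ofNat 0, Int.ofNat 0, Int.negSucc 1, Int.ofNat 0, Int.ofNat 0],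
  [Int.ofNat 0, Int.ofNat 0, Int.ofNat 0, Int.ofNat 0, Int.ofNat 0, Int.ofNat 0, Int.ofNat 0, Int.ofNat 2, Int.ofNat 0, Int.negSucc 1, Int.ofNat 0, Int.ofNat 0, Int.negSucc 1, Int.ofNat 0, Int.ofNat 0, Int.negSucc 1, Int.ofNat 2, Int.ofNat 0, Int.negSucc 1, Int.ofNat 0, Int.ofNat 0, Int.negSucc 1, Int.negSucc 1, Int.ofNat 0],
  [Int.ofNat 0, Int.ofNat 0, Int.ofNat 0, Int.ofNat 0, Int.ofNat 0, Int.ofNat 0, Int.ofNat 0, Int.negSucc 1, Int.ofNat 0, Int.ofNat 2, Int.ofNat 0, Int.ofNat 0, Int.negSucc 1, Int.ofNat 0, Int.ofNat 0, Int.negSucc 1, Int.ofNat 2, Int.ofNat 0, Int.ofNat 2, Int.ofNat 0, Int.ofNat 0, Int.ofNat 2, Int.negSucc 1, Int.ofNat 0],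
  [Int.negSucc 1, Int.ofNat 0, Int.ofNat 0, Int.ofNat 0, Int.ofNat 0, Int.ofNat 0, Int.ofNat 0, Int.ofNat 0, Int.negSucc 1, Int.ofNat 0, Int.ofNat 2, Int.ofNat 0, Int.ofNat 0, Int.negSucc 1, Int.ofNat 0, Int.ofNat 0, Int.negSucc 1, Int.ofNat 2, Int.ofNat 0, Int.ofNat 2, Int.ofNat 0, Int.ofNat 0, Int.ofNat 2, Int.ofNat 0],
  [Int.ofNat 1, Int.negSucc 0, Int.negSucc 0, Int.negSucc 0, Int.ofNat 1, Int.negSucc 0, Int.negSucc 0, Int.negSucc 0, Int.negSucc 0, Int.negSucc 0, Int.ofNat 1, Int.ofNat 1, Int.ofNat 1, Int.negSucc 0, Int.negSucc 0, Int.negSucc 0, Int.negSucc 0, Int.ofNat 1, Int.ofNat 1, Int.ofNat 1, Int.negSucc 0, Int.negSucc 0, Int.ofNat 3, Int.negSucc 0],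
  [Int.negSucc 0, Int.ofNat 1, Int.negSucc 0, Int.negSucc 0, Int.negSucc 0, Int.negSucc 0, Int.negSucc 0, Int.ofNat 1, Int.ofNat 1, Int.ofNat 1, Int.negSucc 0, Int.negSucc 0, Int.negSucc 0, Int.negSucc 0, Int.ofNat 1, Int.ofNat 1, Int.ofNat 1, Int.negSucc 0, Int.negSucc 0, Int.ofNat 3, Int.ofNat 1, Int.negSucc 0, Int.negSucc 0, Int.negSucc 0],
  [Int.ofNat 0, Int.negSucc 1, Int.ofNat 0, Int.ofNat 0, Int.ofNat 0, Int.ofNat 0, Int.negSucc 1, Int.ofNat 0, Int.ofNat 2, Int.ofNat 0, Int.negSucc 1, Int.ofNat 0, Int.ofNat 0, Int.ofNat 0, Int.ofNat 2, Int.ofNat 0, Int.ofNat 2, Int.ofNat 0, Int.ofNat 0, Int.ofNat 2, Int.ofNat 0, Int.negSucc 1, Int.ofNat 0, Int.ofNat 0],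
  [Int.ofNat 0, Int.negSucc 1, Int.ofNat 0, Int.ofNat 0, Int.ofNat 0, Int.ofNat 0, Int.ofNat 0, Int.negSucc 1, Int.ofNat 0, Int.ofNat 0, Int.ofNat 0, Int.ofNat 0, Int.ofNat 0, Int.ofNat 2, Int.ofNat 0, Int.ofNat 0, Int.ofNat 2, Int.ofNat 2, Int.negSucc 1, Int.ofNat 0, Int.negSucc 1, Int.ofNat 0, Int.ofNat 2, Int.ofNat 0],
  [Int.negSucc 0, Int.ofNat 1, Int.negSucc 0, Int.negSucc 0, Int.negSucc 2, Int.negSucc 0, Int.ofNat 1, Int.negSucc 0, Int.ofNat 1, Int.ofNat 1, Int.ofNat 1, Int.ofNat 1, Int.ofNat 1, Int.negSucc 0, Int.negSucc 0, Int.ofNat 1, Int.negSucc 0, Int.ofNat 1, Int.negSucc 0, Int.ofNat 1, Int.negSucc 0, Int.ofNat 1, Int.negSucc 0, Int.negSucc 0],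
  [Int.negSucc 0, Int.ofNat 1, Int.ofNat 1, Int.negSucc 0, Int.negSucc 2, Int.ofNat 1, Int.negSucc 0, Int.negSucc 0, Int.ofNat 1, Int.negSucc 0, Int.negSucc 0, Int.ofNat 1, Int.ofNat 1, Int.negSucc 0, Int.negSucc 0, Int.negSucc 0, Int.negSucc 0, Int.ofNat 1, Int.ofNat 1, Int.ofNat 1, Int.negSucc 0, Int.ofNat 1, Int.ofNat 1, Int.negSucc 0],
  [Int.ofNat 1, Int.negSucc 0, Int.negSucc 0, Int.negSucc 0, Int.negSucc 0, Int.ofNat 1, Int.ofNat 1, Int.ofNat 1, Int.ofNat 1, Int.ofNat 1, Int.negSucc 0, Int.negSucc 2, Int.negSucc 0, Int.ofNat 1, Int.ofNat 1, Int.negSucc 0, Int.negSucc 0, Int.ofNat 1, Int.ofNat 1, Int.negSucc 0, Int.negSucc 0, Int.ofNat 1, Int.negSucc 0, Int.negSucc 0],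
  [Int.ofNat 1, Int.negSucc 0, Int.ofNat 1, Int.negSucc 0, Int.negSucc 0, Int.negSucc 0, Int.negSucc 0, Int.ofNat 1, Int.ofNat 1, Int.negSucc 0, Int.ofNat 1, Int.negSucc 2, Int.negSucc 0, Int.ofNat 1, Int.ofNat 1, Int.ofNat 1, Int.negSucc 0, Int.ofNat 1, Int.negSucc 0, Int.negSucc 0, Int.negSucc 0, Int.ofNat 1, Int.ofNat 1, Int.negSucc 0],
  [Int.negSucc 0, Int.ofNat 1, Int.negSucc 0, Int.negSucc 0, Int.negSucc 0, Int.negSucc 0, Int.negSucc 0, Int.ofNat 1, Int.ofNat 3, Int.negSucc 0, Int.ofNat 1, Int.negSucc 0, Int.ofNat 1, Int.ofNat 1, Int.ofNat 1, Int.ofNat 1, Int.negSucc 0, Int.ofNat 1, Int.ofNat 1, Int.negSucc 0, Int.negSucc 0, Int.ofNat 1, Int.ofNat 1, Int.ofNat 1],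
  [Int.negSucc 0, Int.ofNat 1, Int.negSucc 0, Int.negSucc 0, Int.negSucc 0, Int.ofNat 1, Int.ofNat 1, Int.negSucc 0, Int.negSucc 0, Int.ofNat 1, Int.ofNat 1, Int.negSucc 0, Int.ofNat 3, Int.negSucc 0, Int.ofNat 1, Int.ofNat 1, Int.ofNat 1, Int.negSucc 0, Int.negSucc 0, Int.ofNat 1, Int.ofNat 1, Int.negSucc 0, Int.ofNat 1, Int.ofNat 1],
  [Int.ofNat 1, Int.negSucc 0, Int.ofNat 1, Int.negSucc 0, Int.negSucc 0, Int.ofNat 1, Int.ofNat 1, Int.negSucc 0, Int.negSucc 0, Int.negSucc 0, Int.negSucc 0, Int.negSucc 0, Int.ofNat 3, Int.negSucc 0, Int.ofNat 1, Int.negSucc 0, Int.ofNat 1, Int.negSucc 0, Int.negSucc 0, Int.ofNat 1, Int.negSucc 0, Int.negSucc 0, Int.ofNat 1, Int.negSucc 0],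
  [Int.negSucc 0, Int.negSucc 0, Int.ofNat 1, Int.ofNat 1, Int.negSucc 0, Int.ofNat 1, Int.negSucc 0, Int.negSucc 0, Int.ofNat 1, Int.ofNat 1, Int.negSucc 0, Int.negSucc 0, Int.negSucc 0, Int.negSucc 0, Int.negSucc 0, Int.ofNat 3, Int.negSucc 0, Int.ofNat 1, Int.negSucc 0, Int.ofNat 1, Int.negSucc 0, Int.negSucc 0, Int.ofNat 1, Int.negSucc 0],
  [Int.ofNat 0, Int.ofNat 0, Int.negSucc 1, Int.ofNat 0, Int.ofNat 0, Int.ofNat 0, Int.ofNat 0, Int.ofNat 0, Int.ofNat 2, Int.ofNat 0, Int.negSucc 1, Int.ofNat 0, Int.ofNat 0, Int.ofNat 0, Int.negSucc 1, Int.ofNat 2, Int.ofNat 0, Int.ofNat 0, Int.ofNat 0, Int.ofNat 2, Int.negSucc 1, Int.ofNat 0, Int.ofNat 2, Int.ofNat 0],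
  [Int.ofNat 0, Int.negSucc 1, Int.ofNat 0, Int.ofNat 0, Int.ofNat 0, Int.ofNat 0, Int.ofNat 0, Int.ofNat 2, Int.ofNat 0, Int.negSucc 1, Int.ofNat 0, Int.ofNat 0, Int.ofNat 0, Int.negSucc 1, Int.ofNat 2, Int.ofNat 0, Int.ofNat 0, Int.ofNat 0, Int.ofNat 2, Int.negSucc 1, Int.ofNat 0, Int.ofNat 2, Int.ofNat 0, Int.ofNat 0],
  [Int.ofNat 0, Int.negSucc 1, Int.ofNat 0, Int.ofNat 0, Int.ofNat 0, Int.ofNat 0, Int.ofNat 0, Int.negSucc 1, Int.ofNat 0, Int.ofNat 2, Int.ofNat 0, Int.ofNat 0, Int.ofNat 0, Int.negSucc 1, Int.ofNat 2, Int.ofNat 0, Int.ofNat 0, Int.ofNat 0, Int.negSucc 1, Int.negSucc 1, Int.ofNat 0, Int.negSucc 1, Int.ofNat 0, Int.ofNat 0],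
  [Int.ofNat 0, Int.ofNat 2, Int.ofNat 0, Int.ofNat 0, Int.ofNat 0, Int.ofNat 0, Int.ofNat 0, Int.negSucc 1, Int.ofNat 0, Int.negSucc 1, Int.ofNat 0, Int.ofNat 0, Int.ofNat 0, Int.ofNat 2, Int.ofNat 2, Int.ofNat 0, Int.ofNat 0, Int.ofNat 0, Int.ofNat 2, Int.negSucc 1, Int.ofNat 0, Int.negSucc 1, Int.ofNat 0, Int.ofNat 0],
  [Int.ofNat 0, Int.ofNat 0, Int.ofNat 0, Int.ofNat 0, Int.ofNat 0, Int.negSucc 1, Int.negSucc 1, Int.ofNat 2, Int.ofNat 0, Int.ofNat 0, Int.ofNat 0, Int.ofNat 0, Int.negSucc 1, Int.negSucc 1, Int.ofNat 2, Int.ofNat 0, Int.ofNat 0, Int.ofNat 0, Int.ofNat 2, Int.ofNat 0, Int.ofNat 0, Int.ofNat 0, Int.ofNat 2, Int.ofNat 0],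
  [Int.ofNat 0, Int.ofNat 0, Int.ofNat 0, Int.ofNat 0, Int.ofNat 0, Int.negSucc 1, Int.negSucc 1, Int.negSucc 1, Int.ofNat 0, Int.ofNat 0, Int.ofNat 0, Int.ofNat 0, Int.negSucc 1, Int.negSucc 1, Int.ofNat 2, Int.ofNat 0, Int.ofNat 0, Int.ofNat 0, Int.negSucc 1, Int.ofNat 0, Int.ofNat 0, Int.ofNat 0, Int.ofNat 2, Int.ofNat 0],
  [Int.ofNat 2, Int.ofNat 0, Int.ofNat 0, Int.ofNat 0, Int.ofNat 0, Int.ofNat 0, Int.negSucc 1, Int.negSucc 1, Int.negSucc 1, Int.ofNat 0, Int.ofNat 0, Int.ofNat 0, Int.ofNat 0, Int.negSucc 1, Int.negSucc 1, Int.ofNat 2, Int.ofNat 0, Int.ofNat 0, Int.ofNat 0, Int.negSucc 1, Int.ofNat 0, Int.ofNat 0, Int.ofNat 0, Int.ofNat 0],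
  [Int.negSucc 0, Int.ofNat 1, Int.ofNat 1, Int.ofNat 1, Int.ofNat 1, Int.ofNat 1, Int.ofNat 1, Int.ofNat 1, Int.negSucc 0, Int.negSucc 0, Int.negSucc 0, Int.ofNat 1, Int.ofNat 1, Int.negSucc 0, Int.negSucc 0, Int.ofNat 1, Int.ofNat 1, Int.ofNat 1, Int.ofNat 1, Int.ofNat 1, Int.negSucc 0, Int.ofNat 3, Int.ofNat 1, Int.ofNat 1],
  [Int.ofNat 1, Int.ofNat 1, Int.ofNat 1, Int.ofNat 1, Int.ofNat 1, Int.negSucc 0, Int.negSucc 0, Int.negSucc 0, Int.ofNat 1, Int.ofNat 1, Int.negSucc 0, Int.negSucc 0, Int.ofNat 1, Int.ofNat 1, Int.ofNat 1, Int.ofNat 1, Int.ofNat 1, Int.negSucc 0, Int.ofNat 3, Int.ofNat 1, Int.negSucc 0, Int.ofNat 1, Int.ofNat 1, Int.ofNat 1],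
  [Int.ofNat 1, Int.ofNat 1, Int.ofNat 1, Int.ofNat 1, Int.negSucc 0, Int.negSucc 0, Int.negSucc 0, Int.negSucc 0, Int.negSucc 0, Int.ofNat 1, Int.negSucc 0, Int.negSucc 2, Int.negSucc 0, Int.negSucc 0, Int.ofNat 1, Int.ofNat 1, Int.negSucc 0, Int.negSucc 0, Int.ofNat 1, Int.ofNat 1, Int.negSucc 0, Int.ofNat 1, Int.negSucc 0, Int.ofNat 1],
  [Int.ofNat 1, Int.negSucc 0, Int.negSucc 0, Int.ofNat 1, Int.ofNat 1, Int.negSucc 0, Int.ofNat 1, Int.negSucc 0, Int.negSucc 0, Int.negSucc 0, Int.negSucc 0, Int.negSucc 0, Int.ofNat 1, Int.negSucc 0, Int.negSucc 0, Int.ofNat 1, Int.negSucc 0, Int.ofNat 1, Int.ofNat 1, Int.negSucc 2, Int.ofNat 1, Int.negSucc 0, Int.ofNat 1, Int.ofNat 1],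
  [Int.negSucc 0, Int.ofNat 1, Int.ofNat 1, Int.ofNat 1, Int.ofNat 1, Int.negSucc 0, Int.ofNat 3, Int.ofNat 1, Int.negSucc 0, Int.negSucc 0, Int.negSucc 0, Int.negSucc 0, Int.ofNat 1, Int.negSucc 0, Int.negSucc 0, Int.ofNat 1, Int.negSucc 0, Int.ofNat 1, Int.ofNat 1, Int.negSucc 0, Int.ofNat 1, Int.ofNat 1, Int.ofNat 1, Int.negSucc 0],
  [Int.negSucc 0, Int.ofNat 1, Int.negSucc 0, Int.ofNat 1, Int.ofNat 1, Int.ofNat 1, Int.negSucc 2, Int.ofNat 1, Int.negSucc 0, Int.ofNat 1, Int.ofNat 1, Int.negSucc 0, Int.ofNat 1, Int.negSucc 0, Int.negSucc 0, Int.negSucc 0, Int.negSucc 0, Int.ofNat 1, Int.negSucc 0, Int.negSucc 0, Int.ofNat 1, Int.ofNat 1, Int.negSucc 0, Int.negSucc 0],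
  [Int.ofNat 1, Int.ofNat 1, Int.ofNat 1, Int.ofNat 1, Int.negSucc 0, Int.negSucc 0, Int.negSucc 0, Int.negSucc 0, Int.ofNat 1, Int.ofNat 1, Int.ofNat 1, Int.ofNat 1, Int.negSucc 2, Int.ofNat 1, Int.negSucc 0, Int.ofNat 1, Int.negSucc 0, Int.negSucc 0, Int.negSucc 0, Int.negSucc 0, Int.negSucc 0, Int.ofNat 1, Int.negSucc 0, Int.negSucc 0],
  [Int.ofNat 1, Int.ofNat 1, Int.negSucc 0, Int.ofNat 1, Int.negSucc 0, Int.ofNat 1, Int.ofNat 1, Int.negSucc 0, Int.ofNat 1, Int.negSucc 0, Int.negSucc 0, Int.ofNat 1, Int.negSucc 2, Int.ofNat 1, Int.negSucc 0, Int.negSucc 0, Int.negSucc 0, Int.negSucc 0, Int.ofNat 1, Int.negSucc 0, Int.negSucc 0, Int.ofNat 1, Int.ofNat 1, Int.negSucc 0],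
  [Int.negSucc 0, Int.negSucc 0, Int.ofNat 1, Int.ofNat 1, Int.negSucc 0, Int.ofNat 1, Int.ofNat 1, Int.negSucc 0, Int.ofNat 1, Int.ofNat 1, Int.ofNat 1, Int.ofNat 1, Int.negSucc 2, Int.ofNat 1, Int.negSucc 0, Int.ofNat 1, Int.negSucc 0, Int.negSucc 0, Int.ofNat 1, Int.negSucc 0, Int.ofNat 1, Int.ofNat 1, Int.ofNat 1, Int.ofNat 1],
  [Int.negSucc 0, Int.ofNat 1, Int.ofNat 1, Int.ofNat 1, Int.ofNat 1, Int.ofNat 1, Int.negSucc 0, Int.ofNat 1, Int.negSucc 0, Int.negSucc 2, Int.negSucc 0, Int.negSucc 0, Int.ofNat 1, Int.ofNat 1, Int.negSucc 0, Int.ofNat 1, Int.ofNat 1, Int.ofNat 1, Int.negSucc 0, Int.ofNat 1, Int.ofNat 1, Int.ofNat 1, Int.negSucc 0, Int.ofNat 1],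
  [Int.ofNat 2, Int.ofNat 0, Int.ofNat 0, Int.ofNat 0, Int.ofNat 0, Int.ofNat 0, Int.negSucc 1, Int.ofNat 0, Int.ofNat 0, Int.negSucc 1, Int.ofNat 0, Int.ofNat 0, Int.ofNat 2, Int.ofNat 0, Int.negSucc 1, Int.ofNat 2, Int.ofNat 0, Int.ofNat 0, Int.ofNat 0, Int.ofNat 0, Int.ofNat 2, Int.ofNat 0, Int.negSucc 1, Int.ofNat 0],
  [Int.ofNat 2, Int.ofNat 0, Int.negSucc 1, Int.ofNat 2, Int.ofNat 0, Int.ofNat 0, Int.ofNat 0, Int.ofNat 0, Int.ofNat 0, Int.negSucc 1, Int.ofNat 0, Int.ofNat 0, Int.negSucc 1, Int.ofNat 0, Int.ofNat 0, Int.ofNat 2, Int.ofNat 0, Int.negSucc 1, Int.ofNat 2, Int.ofNat 0, Int.ofNat 0, Int.ofNat 0, Int.ofNat 0, Int.ofNat 0],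
  [Int.negSucc 1, Int.ofNat 0, Int.ofNat 2, Int.ofNat 2, Int.ofNat 0, Int.ofNat 0, Int.ofNat 0, Int.ofNat 0, Int.ofNat 0, Int.negSucc 1, Int.ofNat 0, Int.ofNat 0, Int.negSucc 1, Int.ofNat 0, Int.ofNat 0, Int.ofNat 2, Int.ofNat 0, Int.negSucc 1, Int.ofNat 2, Int.ofNat 0, Int.ofNat 0, Int.ofNat 0, Int.ofNat 0, Int.ofNat 0],
  [Int.ofNat 0, Int.ofNat 2, Int.ofNat 2, Int.ofNat 0, Int.ofNat 0, Int.ofNat 0, Int.ofNat 0, Int.ofNat 0, Int.negSucc 1, Int.ofNat 0, Int.ofNat 0, Int.negSucc 1, Int.ofNat 0, Int.ofNat 0, Int.ofNat 2, Int.ofNat 0, Int.negSucc 1, Int.ofNat 2, Int.ofNat 0, Int.ofNat 0, Int.ofNat 0, Int.ofNat 0, Int.negSucc 1, Int.ofNat 0],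
  [Int.ofNat 0, Int.ofNat 2, Int.negSucc 1, Int.ofNat 0, Int.ofNat 0, Int.ofNat 0, Int.ofNat 0, Int.ofNat 0, Int.negSucc 1, Int.ofNat 0, Int.ofNat 0, Int.ofNat 2, Int.ofNat 0, Int.ofNat 0, Int.ofNat 2, Int.ofNat 0, Int.negSucc 1, Int.ofNat 2, Int.ofNat 0, Int.ofNat 0, Int.ofNat 0, Int.ofNat 0, Int.negSucc 1, Int.ofNat 0],
  [Int.ofNat 0, Int.negSucc 1, Int.ofNat 2, Int.ofNat 0, Int.ofNat 0, Int.ofNat 0, Int.ofNat 0, Int.ofNat 0, Int.ofNat 2, Int.ofNat 0, Int.ofNat 0, Int.ofNat 2, Int.ofNat 0, Int.ofNat 0, Int.ofNat 2, Int.ofNat 0, Int.ofNat 2, Int.ofNat 2, Int.ofNat 0, Int.ofNat 0, Int.ofNat 0, Int.ofNat 0, Int.negSucc 1, Int.ofNat 0],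
  [Int.ofNat 0, Int.negSucc 1, Int.ofNat 2, Int.ofNat 0, Int.ofNat 2, Int.ofNat 0, Int.ofNat 0, Int.ofNat 0, Int.ofNat 0, Int.ofNat 0, Int.ofNat 2, Int.ofNat 2, Int.ofNat 0, Int.ofNat 0, Int.ofNat 0, Int.ofNat 0, Int.ofNat 0, Int.ofNat 0, Int.ofNat 2, Int.ofNat 0, Int.ofNat 2, Int.ofNat 0, Int.negSucc 1, Int.ofNat 0],
  [Int.ofNat 0, Int.negSucc 1, Int.negSucc 1, Int.ofNat 0, Int.ofNat 2, Int.ofNat 0, Int.ofNat 0, Int.ofNat 0, Int.ofNat 0, Int.ofNat 0, Int.negSucc 1, Int.negSucc 1, Int.ofNat 0, Int.ofNat 0, Int.ofNat 0, Int.ofNat 0, Int.ofNat 0, Int.ofNat 0, Int.negSucc 1, Int.ofNat 0, Int.ofNat 2, Int.ofNat 0, Int.negSucc 1, Int.ofNat 0],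
  [Int.negSucc 1, Int.ofNat 0, Int.negSucc 1, Int.negSucc 1, Int.ofNat 0, Int.ofNat 2, Int.ofNat 0, Int.ofNat 0, Int.ofNat 0, Int.ofNat 0, Int.ofNat 0, Int.negSucc 1, Int.negSucc 1, Int.ofNat 0, Int.ofNat 0, Int.ofNat 0, Int.ofNat 0, Int.ofNat 0, Int.ofNat 0, Int.negSucc 1, Int.ofNat 0, Int.ofNat 2, Int.ofNat 0, Int.ofNat 0],
  [Int.ofNat 0, Int.negSucc 1, Int.ofNat 0, Int.negSucc 1, Int.ofNat 0, Int.ofNat 2, Int.ofNat 0, Int.ofNat 0, Int.ofNat 2, Int.ofNat 0, Int.ofNat 0, Int.ofNat 0, Int.ofNat 0, Int.ofNat 0, Int.ofNat 0, Int.ofNat 0, Int.ofNat 0, Int.ofNat 0, Int.ofNat 2, Int.negSucc 1, Int.ofNat 0, Int.ofNat 2, Int.ofNat 0, Int.negSucc 1],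
  [Int.negSucc 1, Int.ofNat 0, Int.ofNat 2, Int.ofNat 0, Int.ofNat 0, Int.ofNat 2, Int.ofNat 0, Int.ofNat 0, Int.ofNat 0, Int.ofNat 0, Int.ofNat 0, Int.ofNat 0, Int.ofNat 0, Int.ofNat 0, Int.ofNat 0, Int.ofNat 2, Int.negSucc 1, Int.ofNat 0, Int.ofNat 2, Int.ofNat 0, Int.ofNat 0, Int.negSucc 1, Int.ofNat 0, Int.negSucc 1],
  [Int.ofNat 1, Int.negSucc 0, Int.negSucc 2, Int.negSucc 0, Int.ofNat 1, Int.ofNat 1, Int.ofNat 1, Int.ofNat 1, Int.negSucc 0, Int.negSucc 0, Int.negSucc 0, Int.negSucc 0, Int.negSucc 0, Int.ofNat 1, Int.negSucc 0, Int.ofNat 1, Int.negSucc 0, Int.negSucc 0, Int.ofNat 1, Int.ofNat 1, Int.negSucc 0, Int.negSucc 0, Int.ofNat 1, Int.ofNat 1],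
  [Int.ofNat 1, Int.ofNat 1, Int.ofNat 1, Int.negSucc 0, Int.ofNat 1, Int.ofNat 1, Int.negSucc 2, Int.negSucc 0, Int.negSucc 0, Int.ofNat 1, Int.negSucc 0, Int.negSucc 0, Int.negSucc 0, Int.negSucc 0, Int.ofNat 1, Int.ofNat 1, Int.negSucc 0, Int.negSucc 0, Int.negSucc 0, Int.negSucc 0, Int.negSucc 0, Int.ofNat 1, Int.ofNat 1, Int.ofNat 1],
  [Int.ofNat 1, Int.ofNat 1, Int.ofNat 1, Int.negSucc 0, Int.ofNat 1, Int.ofNat 1, Int.negSucc 0, Int.ofNat 1, Int.ofNat 1, Int.ofNat 1, Int.negSucc 0, Int.ofNat 1, Int.ofNat 1, Int.negSucc 0, Int.ofNat 1, Int.ofNat 1, Int.negSucc 0, Int.negSucc 0, Int.ofNat 1, Int.ofNat 1, Int.negSucc 0, Int.ofNat 3, Int.ofNat 1, Int.ofNat 1],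
  [Int.ofNat 1, Int.ofNat 1, Int.negSucc 0, Int.negSucc 0, Int.ofNat 1, Int.negSucc 0, Int.ofNat 1, Int.ofNat 1, Int.ofNat 1, Int.negSucc 0, Int.ofNat 1, Int.ofNat 1, Int.ofNat 1, Int.negSucc 0, Int.ofNat 1, Int.negSucc 0, Int.negSucc 0, Int.negSucc 0, Int.negSucc 0, Int.ofNat 1, Int.negSucc 0, Int.ofNat 3, Int.negSucc 0, Int.ofNat 1],
  [Int.negSucc 0, Int.negSucc 0, Int.negSucc 0, Int.negSucc 0, Int.negSucc 0, Int.negSucc 0, Int.ofNat 1, Int.negSucc 0, Int.negSucc 0, Int.ofNat 3, Int.ofNat 1, Int.ofNat 1, Int.ofNat 1, Int.ofNat 1, Int.negSucc 0, Int.ofNat 1, Int.negSucc 0, Int.ofNat 1, Int.ofNat 1, Int.ofNat 1, Int.ofNat 1, Int.ofNat 1, Int.negSucc 0, Int.ofNat 1],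
  [Int.negSucc 0, Int.negSucc 0, Int.ofNat 1, Int.negSucc 0, Int.negSucc 0, Int.ofNat 1, Int.negSucc 0, Int.negSucc 0, Int.negSucc 0, Int.negSucc 2, Int.negSucc 0, Int.ofNat 1, Int.ofNat 1, Int.ofNat 1, Int.negSucc 0, Int.negSucc 0, Int.negSucc 0, Int.ofNat 1, Int.negSucc 0, Int.ofNat 1, Int.ofNat 1, Int.ofNat 1, Int.ofNat 1, Int.ofNat 1],
  [Int.ofNat 1, Int.ofNat 1, Int.negSucc 0, Int.negSucc 0, Int.negSucc 0, Int.ofNat 1, Int.negSucc 0, Int.negSucc 0, Int.negSucc 0, Int.negSucc 0, Int.ofNat 1, Int.ofNat 1, Int.ofNat 1, Int.ofNat 1, Int.negSucc 0, Int.ofNat 1, Int.negSucc 0, Int.ofNat 1, Int.negSucc 0, Int.ofNat 1, Int.ofNat 3, Int.ofNat 1, Int.ofNat 1, Int.negSucc 0],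
  [Int.ofNat 1, Int.negSucc 0, Int.negSucc 0, Int.negSucc 0, Int.negSucc 0, Int.ofNat 1, Int.ofNat 1, Int.ofNat 1, Int.negSucc 0, Int.ofNat 1, Int.negSucc 0, Int.ofNat 1, Int.negSucc 0, Int.negSucc 0, Int.ofNat 1, Int.ofNat 1, Int.ofNat 1, Int.ofNat 1, Int.negSucc 0, Int.ofNat 1, Int.ofNat 1, Int.ofNat 3, Int.negSucc 0, Int.negSucc 0],
  [Int.negSucc 1, Int.ofNat 0, Int.ofNat 0, Int.negSucc 1, Int.ofNat 0, Int.ofNat 0, Int.negSucc 1, Int.negSucc 1, Int.ofNat 0, Int.ofNat 0, Int.negSucc 1, Int.ofNat 2, Int.ofNat 0, Int.ofNat 0, Int.ofNat 0, Int.ofNat 0, Int.ofNat 2, Int.ofNat 0, Int.ofNat 0, Int.negSucc 1, Int.ofNat 0, Int.ofNat 0, Int.ofNat 0, Int.ofNat 0],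
  [Int.ofNat 0, Int.ofNat 0, Int.ofNat 0, Int.negSucc 1, Int.ofNat 0, Int.ofNat 0, Int.negSucc 1, Int.ofNat 0, Int.ofNat 0, Int.negSucc 1, Int.negSucc 1, Int.ofNat 0, Int.ofNat 0, Int.negSucc 1, Int.ofNat 2, Int.ofNat 0, Int.ofNat 0, Int.ofNat 0, Int.ofNat 0, Int.ofNat 2, Int.ofNat 0, Int.ofNat 0, Int.negSucc 1, Int.ofNat 0],
  [Int.ofNat 0, Int.ofNat 0, Int.ofNat 0, Int.negSucc 1, Int.ofNat 2, Int.ofNat 0, Int.negSucc 1, Int.ofNat 0, Int.ofNat 0, Int.ofNat 0, Int.ofNat 0, Int.ofNat 0, Int.ofNat 0, Int.ofNat 0, Int.ofNat 2, Int.ofNat 2, Int.ofNat 2, Int.ofNat 0, Int.ofNat 0, Int.ofNat 2, Int.ofNat 2, Int.ofNat 0, Int.ofNat 0, Int.ofNat 0],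
  [Int.ofNat 0, Int.ofNat 0, Int.negSucc 1, Int.ofNat 2, Int.ofNat 0, Int.negSucc 1, Int.ofNat 0, Int.ofNat 0, Int.ofNat 0, Int.ofNat 0, Int.ofNat 0, Int.ofNat 0, Int.ofNat 0, Int.ofNat 2, Int.ofNat 2, Int.ofNat 2, Int.ofNat 0, Int.ofNat 0, Int.ofNat 2, Int.ofNat 2, Int.ofNat 0, Int.ofNat 0, Int.ofNat 0, Int.ofNat 0],
  [Int.ofNat 0, Int.ofNat 0, Int.ofNat 2, Int.ofNat 2, Int.ofNat 0, Int.negSucc 1, Int.ofNat 0, Int.ofNat 0, Int.ofNat 0, Int.ofNat 0, Int.ofNat 0, Int.ofNat 0, Int.ofNat 0, Int.ofNat 2, Int.ofNat 2, Int.ofNat 2, Int.ofNat 0, Int.ofNat 0, Int.negSucc 1, Int.ofNat 2, Int.ofNat 0, Int.ofNat 0, Int.ofNat 0, Int.ofNat 0],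
  [Int.ofNat 0, Int.ofNat 0, Int.negSucc 1, Int.negSucc 1, Int.ofNat 0, Int.negSucc 1, Int.ofNat 0, Int.ofNat 0, Int.ofNat 0, Int.ofNat 0, Int.ofNat 0, Int.ofNat 0, Int.ofNat 0, Int.negSucc 1, Int.ofNat 2, Int.ofNat 2, Int.ofNat 0, Int.ofNat 0, Int.ofNat 2, Int.ofNat 2, Int.ofNat 0, Int.ofNat 0, Int.ofNat 0, Int.ofNat 0],
  [Int.ofNat 0, Int.ofNat 0, Int.ofNat 0, Int.ofNat 2, Int.ofNat 0, Int.ofNat 0, Int.ofNat 2, Int.negSucc 1, Int.ofNat 0, Int.negSucc 1, Int.ofNat 0, Int.negSucc 1, Int.ofNat 0, Int.ofNat 0, Int.ofNat 2, Int.negSucc 1, Int.ofNat 0, Int.ofNat 0, Int.ofNat 2, Int.ofNat 0, Int.ofNat 0, Int.ofNat 0, Int.ofNat 0, Int.ofNat 0],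
  [Int.ofNat 0, Int.ofNat 0, Int.ofNat 0, Int.ofNat 2, Int.ofNat 0, Int.ofNat 0, Int.ofNat 2, Int.ofNat 2, Int.ofNat 0, Int.ofNat 2, Int.ofNat 0, Int.ofNat 2, Int.ofNat 0, Int.ofNat 0, Int.ofNat 2, Int.negSucc 1, Int.ofNat 0, Int.ofNat 0, Int.negSucc 1, Int.ofNat 0, Int.ofNat 0, Int.ofNat 0, Int.ofNat 0, Int.ofNat 0],
  [Int.ofNat 0, Int.ofNat 0, Int.ofNat 0, Int.ofNat 0, Int.ofNat 2, Int.ofNat 0, Int.ofNat 0, Int.ofNat 2, Int.ofNat 2, Int.ofNat 0, Int.ofNat 2, Int.ofNat 0, Int.ofNat 2, Int.ofNat 0, Int.ofNat 0, Int.ofNat 2, Int.negSucc 1, Int.ofNat 0, Int.ofNat 0, Int.negSucc 1, Int.ofNat 0, Int.ofNat 0, Int.ofNat 0, Int.ofNat 0],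
  [Int.ofNat 0, Int.ofNat 0, Int.ofNat 0, Int.ofNat 0, Int.ofNat 2, Int.ofNat 0, Int.ofNat 0, Int.ofNat 2, Int.ofNat 0, Int.negSucc 1, Int.ofNat 0, Int.negSucc 1, Int.ofNat 0, Int.ofNat 0, Int.ofNat 0, Int.ofNat 0, Int.negSucc 1, Int.ofNat 0, Int.negSucc 1, Int.negSucc 1, Int.negSucc 1, Int.ofNat 0, Int.ofNat 0, Int.ofNat 0],
  [Int.ofNat 0, Int.ofNat 2, Int.ofNat 0, Int.ofNat 0, Int.ofNat 2, Int.ofNat 0, Int.negSucc 1, Int.ofNat 0, Int.negSucc 1, Int.ofNat 0, Int.ofNat 0, Int.ofNat 0, Int.ofNat 0, Int.negSucc 1, Int.ofNat 0, Int.negSucc 1, Int.negSucc 1, Int.negSucc 1, Int.ofNat 0, Int.ofNat 0, Int.ofNat 0, Int.ofNat 0, Int.ofNat 0, Int.ofNat 0],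
  [Int.ofNat 1, Int.negSucc 0, Int.ofNat 1, Int.ofNat 1, Int.ofNat 3, Int.ofNat 1, Int.negSucc 0, Int.ofNat 1, Int.negSucc 0, Int.ofNat 1, Int.ofNat 1, Int.ofNat 1, Int.ofNat 1, Int.negSucc 0, Int.ofNat 1, Int.negSucc 0, Int.negSucc 0, Int.negSucc 0, Int.ofNat 1, Int.ofNat 1, Int.ofNat 1, Int.ofNat 1, Int.ofNat 1, Int.ofNat 1],
  [Int.ofNat 1, Int.negSucc 0, Int.ofNat 3, Int.ofNat 1, Int.ofNat 1, Int.ofNat 1, Int.ofNat 1, Int.ofNat 1, Int.ofNat 1, Int.negSucc 0, Int.ofNat 1, Int.negSucc 0, Int.ofNat 1, Int.negSucc 0, Int.ofNat 1, Int.negSucc 0, Int.negSucc 0, Int.ofNat 1, Int.negSucc 0, Int.ofNat 1, Int.ofNat 1, Int.ofNat 1, Int.ofNat 1, Int.ofNat 1],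
  [Int.ofNat 1, Int.ofNat 3, Int.negSucc 0, Int.negSucc 0, Int.ofNat 1, Int.negSucc 0, Int.negSucc 0, Int.negSucc 0, Int.ofNat 1, Int.negSucc 0, Int.ofNat 1, Int.negSucc 0, Int.ofNat 1, Int.negSucc 0, Int.negSucc 0, Int.negSucc 0, Int.negSucc 0, Int.negSucc 0, Int.negSucc 0, Int.negSucc 0, Int.ofNat 1, Int.negSucc 0, Int.ofNat 1, Int.ofNat 1],
  [Int.ofNat 1, Int.ofNat 3, Int.ofNat 1, Int.negSucc 0, Int.ofNat 1, Int.ofNat 1, Int.ofNat 1, Int.negSucc 0, Int.ofNat 1, Int.ofNat 1, Int.negSucc 0, Int.negSucc 0, Int.ofNat 1, Int.negSucc 0, Int.negSucc 0, Int.ofNat 1, Int.negSucc 0, Int.negSucc 0, Int.ofNat 1, Int.negSucc 0, Int.ofNat 1, Int.negSucc 0, Int.negSucc 0, Int.ofNat 1],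
  [Int.ofNat 1, Int.ofNat 1, Int.negSucc 0, Int.ofNat 1, Int.negSucc 0, Int.ofNat 1, Int.negSucc 0, Int.negSucc 0, Int.negSucc 0, Int.negSucc 0, Int.negSucc 0, Int.ofNat 1, Int.ofNat 1, Int.ofNat 3, Int.ofNat 1, Int.negSucc 0, Int.ofNat 1, Int.negSucc 0, Int.ofNat 1, Int.negSucc 0, Int.ofNat 1, Int.ofNat 1, Int.negSucc 0, Int.ofNat 1],
  [Int.ofNat 1, Int.ofNat 1, Int.ofNat 1, Int.ofNat 1, Int.negSucc 0, Int.negSucc 0, Int.ofNat 1, Int.negSucc 0, Int.negSucc 0, Int.ofNat 1, Int.ofNat 1, Int.ofNat 1, Int.ofNat 1, Int.ofNat 3, Int.ofNat 1, Int.ofNat 1, Int.ofNat 1, Int.negSucc 0, Int.negSucc 0, Int.negSucc 0, Int.ofNat 1, Int.ofNat 1, Int.ofNat 1, Int.ofNat 1],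
  [Int.ofNat 1, Int.ofNat 1, Int.ofNat 1, Int.ofNat 1, Int.negSucc 2, Int.negSucc 0, Int.ofNat 1, Int.negSucc 0, Int.negSucc 0, Int.negSucc 0, Int.negSucc 0, Int.ofNat 1, Int.ofNat 1, Int.ofNat 1, Int.ofNat 1, Int.negSucc 0, Int.negSucc 0, Int.negSucc 0, Int.negSucc 0, Int.negSucc 0, Int.negSucc 0, Int.ofNat 1, Int.negSucc 0, Int.ofNat 1],
  [Int.ofNat 1, Int.negSucc 0, Int.ofNat 1, Int.ofNat 1, Int.ofNat 1, Int.ofNat 1, Int.ofNat 1, Int.negSucc 0, Int.negSucc 0, Int.ofNat 1, Int.negSucc 0, Int.negSucc 0, Int.negSucc 0, Int.negSucc 0, Int.negSucc 0, Int.negSucc 0, Int.ofNat 1, Int.ofNat 1, Int.negSucc 2, Int.negSucc 0, Int.negSucc 0, Int.negSucc 0, Int.ofNat 1, Int.ofNat 1],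
  [Int.ofNat 0, Int.ofNat 2, Int.ofNat 0, Int.ofNat 0, Int.ofNat 0, Int.ofNat 0, Int.ofNat 2, Int.ofNat 0, Int.ofNat 2, Int.ofNat 2, Int.ofNat 0, Int.ofNat 2, Int.ofNat 2, Int.negSucc 1, Int.negSucc 1, Int.ofNat 0, Int.ofNat 0, Int.ofNat 0, Int.ofNat 0, Int.ofNat 0, Int.ofNat 0, Int.ofNat 0, Int.ofNat 0, Int.ofNat 0],
  [Int.ofNat 0, Int.ofNat 0, Int.ofNat 0, Int.ofNat 0, Int.ofNat 2, Int.ofNat 0, Int.ofNat 0, Int.ofNat 0, Int.ofNat 0, Int.ofNat 2, Int.ofNat 0, Int.ofNat 2, Int.ofNat 2, Int.ofNat 0, Int.ofNat 2, Int.ofNat 2, Int.negSucc 1, Int.negSucc 1, Int.ofNat 0, Int.ofNat 0, Int.ofNat 0, Int.ofNat 0, Int.ofNat 0, Int.ofNat 0],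
  [Int.ofNat 0, Int.ofNat 0, Int.ofNat 0, Int.ofNat 0, Int.ofNat 2, Int.ofNat 0, Int.ofNat 0, Int.ofNat 0, Int.negSucc 1, Int.ofNat 0, Int.negSucc 1, Int.ofNat 0, Int.ofNat 0, Int.ofNat 0, Int.ofNat 2, Int.ofNat 0, Int.negSucc 1, Int.negSucc 1, Int.negSucc 1, Int.ofNat 0, Int.negSucc 1, Int.ofNat 0, Int.ofNat 0, Int.ofNat 0],
  [Int.ofNat 0, Int.ofNat 0, Int.ofNat 0, Int.ofNat 2, Int.ofNat 0, Int.ofNat 0, Int.ofNat 0, Int.negSucc 1, Int.ofNat 0, Int.negSucc 1, Int.ofNat 0, Int.ofNat 0, Int.ofNat 0, Int.ofNat 2, Int.ofNat 0, Int.negSucc 1, Int.negSucc 1, Int.negSucc 1, Int.ofNat 0, Int.negSucc 1, Int.ofNat 0, Int.ofNat 0, Int.ofNat 0, Int.ofNat 0],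
  [Int.ofNat 0, Int.ofNat 0, Int.ofNat 0, Int.ofNat 2, Int.ofNat 0, Int.ofNat 0, Int.ofNat 0, Int.ofNat 2, Int.ofNat 0, Int.ofNat 2, Int.ofNat 0, Int.ofNat 0, Int.ofNat 0, Int.ofNat 2, Int.ofNat 0, Int.negSucc 1, Int.negSucc 1, Int.negSucc 1, Int.ofNat 0, Int.negSucc 1, Int.ofNat 0, Int.ofNat 0, Int.ofNat 0, Int.ofNat 0]]

set_option maxRecDepth 100000 in
theorem c1e1_chk : pmChk (List.replicate 14 [1, 0, 25]).flatten nxL c1e1M 0 0 = true := by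
  decide +kernel

theorem c1e1_ne : wE letE2 (List.replicate 14 [1, 0, 25]).flatten ≠ 1 ∧ wE letE2 (List.replicate 14 [1, 0, 25]).flatten ≠ negElt :=
  ne_pm_of_chk nxL_mem c1e1_chk

set_option maxRecDepth 100000 in
def c1e2M : List (List ℤ) :=
  [[Int.ofNat 4, Int.ofNat 0, Int.ofNat 0, Int.ofNat 0, Int.ofNat 0, Int.ofNat 0, Int.ofNat 0, Int.ofNat 0, Int.ofNat 0, Int.ofNat 0, Int.ofNat 0, Int.ofNat 0, Int.ofNat 0, Int.ofNat 0, Int.ofNat 0, Int.ofNat 0, Int.ofNat 0, Int.ofNat 0, Int.ofNat 0, Int.ofNat 0, Int.ofNat 0, Int.ofNat 0, Int.ofNat 0, Int.ofNat 4],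
  [Int.ofNat 4, Int.ofNat 0, Int.ofNat 0, Int.ofNat 0, Int.ofNat 0, Int.ofNat 0, Int.ofNat 0, Int.ofNat 0, Int.ofNat 0, Int.ofNat 0, Int.ofNat 0, Int.ofNat 0, Int.ofNat 0, Int.ofNat 0, Int.ofNat 0, Int.ofNat 0, Int.ofNat 0, Int.ofNat 0, Int.ofNat 0, Int.ofNat 0, Int.ofNat 0, Int.ofNat 0, Int.ofNat 0, Int.ofNat 4],
  [Int.negSucc 3, Int.ofNat 0, Int.ofNat 0, Int.ofNat 0, Int.ofNat 0, Int.ofNat 0, Int.ofNat 0, Int.ofNat 0, Int.ofNat 0, Int.ofNat 0, Int.ofNat 0, Int.ofNat 0, Int.ofNat 0, Int.ofNat 0, Int.ofNat 0, Int.ofNat 0, Int.ofNat 0, Int.ofNat 0, Int.ofNat 0, Int.ofNat 0, Int.ofNat 0, Int.ofNat 0, Int.ofNat 0, Int.ofNat 4],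
  [Int.ofNat 0, Int.negSucc 3, Int.ofNat 0, Int.ofNat 0, Int.ofNat 0, Int.ofNat 0, Int.ofNat 0, Int.ofNat 0, Int.ofNat 0, Int.ofNat 0, Int.ofNat 0, Int.ofNat 0, Int.ofNat 0, Int.ofNat 0, Int.ofNat 0, Int.ofNat 0, Int.ofNat 0, Int.ofNat 0, Int.ofNat 0, Int.ofNat 0, Int.ofNat 0, Int.ofNat 0, Int.ofNat 0, Int.ofNat 4],
  [Int.ofNat 0, Int.ofNat 4, Int.ofNat 0, Int.ofNat 0, Int.ofNat 0, Int.ofNat 0, Int.ofNat 0, Int.ofNat 0, Int.ofNat 0, Int.ofNat 0, Int.ofNat 0, Int.ofNat 0, Int.ofNat 0, Int.ofNat 0, Int.ofNat 0, Int.ofNat 0, Int.ofNat 0, Int.ofNat 0, Int.ofNat 0, Int.ofNat 0, Int.ofNat 0, Int.ofNat 0, Int.ofNat 0, Int.negSucc 3],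
  [Int.ofNat 0, Int.ofNat 0, Int.ofNat 0, Int.ofNat 0, Int.ofNat 0, Int.ofNat 0, Int.ofNat 0, Int.ofNat 0, Int.ofNat 0, Int.ofNat 0, Int.ofNat 0, Int.ofNat 0, Int.ofNat 0, Int.ofNat 0, Int.ofNat 0, Int.ofNat 0, Int.ofNat 0, Int.ofNat 0, Int.ofNat 0, Int.ofNat 0, Int.ofNat 0, Int.ofNat 4, Int.ofNat 0, Int.negSucc 3],
  [Int.negSucc 1, Int.negSucc 1, Int.negSucc 1, Int.ofNat 0, Int.ofNat 0, Int.ofNat 0, Int.negSucc 1, Int.negSucc 1, Int.ofNat 0, Int.ofNat 0, Int.ofNat 0, Int.ofNat 0, Int.ofNat 0, Int.ofNat 0, Int.ofNat 0, Int.ofNat 0, Int.ofNat 0, Int.ofNat 0, Int.ofNat 0, Int.negSucc 1, Int.ofNat 0, Int.ofNat 2, Int.ofNat 0, Int.ofNat 2],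
  [Int.negSucc 1, Int.negSucc 1, Int.ofNat 0, Int.ofNat 0, Int.ofNat 0, Int.negSucc 1, Int.negSucc 1, Int.ofNat 0, Int.ofNat 0, Int.ofNat 0, Int.ofNat 0, Int.ofNat 0, Int.ofNat 0, Int.ofNat 0, Int.ofNat 0, Int.ofNat 0, Int.ofNat 0, Int.ofNat 0, Int.negSucc 1, Int.ofNat 0, Int.ofNat 2, Int.ofNat 0, Int.negSucc 1, Int.ofNat 2],
  [Int.ofNat 1, Int.ofNat 1, Int.negSucc 0, Int.ofNat 1, Int.ofNat 1, Int.negSucc 0, Int.negSucc 0, Int.ofNat 1, Int.ofNat 1, Int.negSucc 0, Int.negSucc 0, Int.ofNat 1, Int.ofNat 1, Int.ofNat 1, Int.ofNat 1, Int.negSucc 0, Int.ofNat 1, Int.ofNat 1, Int.negSucc 0, Int.ofNat 1, Int.ofNat 1, Int.ofNat 1, Int.negSucc 0, Int.negSucc 2],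
  [Int.ofNat 1, Int.ofNat 1, Int.ofNat 1, Int.ofNat 1, Int.ofNat 1, Int.ofNat 1, Int.ofNat 1, Int.ofNat 1, Int.ofNat 1, Int.ofNat 1, Int.ofNat 1, Int.ofNat 1, Int.ofNat 1, Int.ofNat 1, Int.ofNat 1, Int.ofNat 1, Int.ofNat 1, Int.ofNat 1, Int.ofNat 1, Int.ofNat 1, Int.ofNat 1, Int.ofNat 1, Int.ofNat 1, Int.negSucc 2],
  [Int.ofNat 1, Int.ofNat 1, Int.ofNat 1, Int.ofNat 1, Int.ofNat 1, Int.ofNat 1, Int.ofNat 1, Int.ofNat 1, Int.ofNat 1, Int.ofNat 1, Int.ofNat 1, Int.ofNat 1, Int.ofNat 1, Int.ofNat 1, Int.ofNat 1, Int.ofNat 1, Int.ofNat 1, Int.ofNat 1, Int.ofNat 1, Int.ofNat 1, Int.ofNat 1, Int.ofNat 1, Int.ofNat 1, Int.negSucc 2],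
  [Int.ofNat 1, Int.ofNat 1, Int.negSucc 0, Int.ofNat 1, Int.ofNat 1, Int.negSucc 0, Int.negSucc 0, Int.ofNat 1, Int.ofNat 1, Int.negSucc 0, Int.negSucc 0, Int.ofNat 1, Int.ofNat 1, Int.ofNat 1, Int.ofNat 1, Int.negSucc 0, Int.ofNat 1, Int.ofNat 1, Int.negSucc 0, Int.ofNat 1, Int.ofNat 1, Int.ofNat 1, Int.negSucc 0, Int.negSucc 2],
  [Int.negSucc 1, Int.negSucc 1, Int.ofNat 0, Int.ofNat 0, Int.ofNat 0, Int.negSucc 1, Int.negSucc 1, Int.ofNat 0, Int.ofNat 0, Int.ofNat 0, Int.ofNat 0, Int.ofNat 0, Int.ofNat 0, Int.ofNat 0, Int.ofNat 0, Int.ofNat 0, Int.ofNat 0, Int.ofNat 0, Int.negSucc 1, Int.ofNat 0, Int.ofNat 2, Int.ofNat 0, Int.negSucc 1, Int.ofNat 2],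
  [Int.negSucc 1, Int.negSucc 1, Int.negSucc 1, Int.ofNat 0, Int.ofNat 0, Int.ofNat 0, Int.negSucc 1, Int.negSucc 1, Int.ofNat 0, Int.ofNat 0, Int.ofNat 0, Int.ofNat 0, Int.ofNat 0, Int.ofNat 0, Int.ofNat 0, Int.ofNat 0, Int.ofNat 0, Int.ofNat 0, Int.ofNat 0, Int.negSucc 1, Int.ofNat 0, Int.ofNat 2, Int.ofNat 0, Int.ofNat 2],
  [Int.ofNat 0, Int.ofNat 0, Int.ofNat 0, Int.ofNat 0, Int.ofNat 0, Int.ofNat 0, Int.ofNat 0, Int.ofNat 0, Int.ofNat 0, Int.ofNat 0, Int.ofNat 0, Int.ofNat 0, Int.ofNat 0, Int.ofNat 0, Int.ofNat 0, Int.ofNat 0, Int.ofNat 0, Int.ofNat 0, Int.ofNat 0, Int.ofNat 0, Int.ofNat 0, Int.ofNat 4, Int.ofNat 0, Int.negSucc 3],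
  [Int.ofNat 0, Int.ofNat 4, Int.ofNat 0, Int.ofNat 0, Int.ofNat 0, Int.ofNat 0, Int.ofNat 0, Int.ofNat 0, Int.ofNat 0, Int.ofNat 0, Int.ofNat 0, Int.ofNat 0, Int.ofNat 0, Int.ofNat 0, Int.ofNat 0, Int.ofNat 0, Int.ofNat 0, Int.ofNat 0, Int.ofNat 0, Int.ofNat 0, Int.ofNat 0, Int.ofNat 0, Int.ofNat 0, Int.negSucc 3],
  [Int.ofNat 0, Int.negSucc 3, Int.ofNat 0, Int.ofNat 0, Int.ofNat 0, Int.ofNat 0, Int.ofNat 0, Int.ofNat 0, Int.ofNat 0, Int.ofNat 0, Int.ofNat 0, Int.ofNat 0, Int.ofNat 0, Int.ofNat 0, Int.ofNat 0, Int.ofNat 0, Int.ofNat 0, Int.ofNat 0, Int.ofNat 0, Int.ofNat 0, Int.ofNat 0, Int.ofNat 0, Int.ofNat 0, Int.ofNat 4],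
  [Int.negSucc 3, Int.ofNat 0, Int.ofNat 0, Int.ofNat 0, Int.ofNat 0, Int.ofNat 0, Int.ofNat 0, Int.ofNat 0, Int.ofNat 0, Int.ofNat 0, Int.ofNat 0, Int.ofNat 0, Int.ofNat 0, Int.ofNat 0, Int.ofNat 0, Int.ofNat 0, Int.ofNat 0, Int.ofNat 0, Int.ofNat 0, Int.ofNat 0, Int.ofNat 0, Int.ofNat 0, Int.ofNat 0, Int.ofNat 4],
  [Int.ofNat 4, Int.ofNat 0, Int.ofNat 0, Int.ofNat 0, Int.ofNat 0, Int.ofNat 0, Int.ofNat 0, Int.ofNat 0, Int.ofNat 0, Int.ofNat 0, Int.ofNat 0, Int.ofNat 0, Int.ofNat 0, Int.ofNat 0, Int.ofNat 0, Int.ofNat 0, Int.ofNat 0, Int.ofNat 0, Int.ofNat 0, Int.ofNat 0, Int.ofNat 0, Int.ofNat 0, Int.ofNat 0, Int.ofNat 4],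
  [Int.negSucc 3, Int.ofNat 0, Int.ofNat 0, Int.ofNat 0, Int.ofNat 0, Int.ofNat 0, Int.ofNat 0, Int.ofNat 0, Int.ofNat 0, Int.ofNat 0, Int.ofNat 0, Int.ofNat 0, Int.ofNat 0, Int.ofNat 0, Int.ofNat 0, Int.ofNat 0, Int.ofNat 0, Int.ofNat 0, Int.ofNat 0, Int.ofNat 0, Int.ofNat 0, Int.ofNat 0, Int.ofNat 0, Int.ofNat 4],
  [Int.ofNat 4, Int.ofNat 0, Int.ofNat 0, Int.ofNat 0, Int.ofNat 0, Int.ofNat 0, Int.ofNat 0, Int.ofNat 0, Int.ofNat 0, Int.ofNat 0, Int.ofNat 0, Int.ofNat 0, Int.ofNat 0, Int.ofNat 0, Int.ofNat 0, Int.ofNat 0, Int.ofNat 0, Int.ofNat 0, Int.ofNat 0, Int.ofNat 0, Int.ofNat 0, Int.ofNat 0, Int.ofNat 0, Int.negSucc 3],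
  [Int.negSucc 3, Int.ofNat 0, Int.ofNat 0, Int.ofNat 0, Int.ofNat 0, Int.ofNat 0, Int.ofNat 0, Int.ofNat 0, Int.ofNat 0, Int.ofNat 0, Int.ofNat 0, Int.ofNat 0, Int.ofNat 0, Int.ofNat 0, Int.ofNat 0, Int.ofNat 0, Int.ofNat 0, Int.ofNat 0, Int.ofNat 0, Int.ofNat 0, Int.ofNat 0, Int.ofNat 0, Int.ofNat 0, Int.negSucc 3],
  [Int.ofNat 0, Int.negSucc 3, Int.ofNat 0, Int.ofNat 0, Int.ofNat 0, Int.ofNat 0, Int.ofNat 0, Int.ofNat 0, Int.ofNat 0, Int.ofNat 0, Int.ofNat 0, Int.ofNat 0, Int.ofNat 0, Int.ofNat 0, Int.ofNat 0, Int.ofNat 0, Int.ofNat 0, Int.ofNat 0, Int.ofNat 0, Int.ofNat 0, Int.ofNat 0, Int.ofNat 0, Int.ofNat 0, Int.negSucc 3],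
  [Int.negSucc 3, Int.ofNat 0, Int.negSucc 3, Int.ofNat 0, Int.ofNat 0, Int.ofNat 0, Int.ofNat 0, Int.ofNat 0, Int.ofNat 0, Int.ofNat 0, Int.ofNat 0, Int.ofNat 0, Int.ofNat 0, Int.ofNat 0, Int.ofNat 0, Int.ofNat 0, Int.ofNat 0, Int.ofNat 0, Int.ofNat 0, Int.ofNat 0, Int.ofNat 0, Int.ofNat 0, Int.ofNat 0, Int.ofNat 0],
  [Int.ofNat 0, Int.ofNat 0, Int.ofNat 0, Int.ofNat 0, Int.ofNat 0, Int.ofNat 0, Int.ofNat 0, Int.ofNat 0, Int.ofNat 0, Int.ofNat 0, Int.ofNat 0, Int.ofNat 0, Int.ofNat 0, Int.ofNat 0, Int.ofNat 0, Int.ofNat 0, Int.ofNat 0, Int.ofNat 0, Int.ofNat 0, Int.ofNat 0, Int.negSucc 3, Int.ofNat 0, Int.negSucc 3, Int.ofNat 0],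
  [Int.ofNat 0, Int.ofNat 0, Int.ofNat 0, Int.ofNat 0, Int.ofNat 2, Int.ofNat 0, Int.ofNat 0, Int.ofNat 0, Int.ofNat 0, Int.ofNat 2, Int.ofNat 2, Int.ofNat 0, Int.ofNat 0, Int.ofNat 2, Int.ofNat 0, Int.ofNat 2, Int.ofNat 2, Int.ofNat 0, Int.ofNat 0, Int.ofNat 0, Int.negSucc 1, Int.ofNat 0, Int.negSucc 1, Int.ofNat 0],
  [Int.ofNat 0, Int.ofNat 0, Int.ofNat 2, Int.ofNat 0, Int.ofNat 0, Int.ofNat 0, Int.ofNat 0, Int.ofNat 2, Int.ofNat 0, Int.ofNat 2, Int.negSucc 1, Int.ofNat 0, Int.ofNat 2, Int.ofNat 2, Int.negSucc 1, Int.ofNat 2, Int.ofNat 0, Int.ofNat 0, Int.ofNat 0, Int.ofNat 0, Int.ofNat 0, Int.ofNat 0, Int.ofNat 0, Int.ofNat 0],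
  [Int.ofNat 1, Int.ofNat 1, Int.negSucc 0, Int.ofNat 1, Int.negSucc 0, Int.ofNat 1, Int.negSucc 0, Int.ofNat 1, Int.negSucc 0, Int.ofNat 1, Int.negSucc 2, Int.negSucc 0, Int.ofNat 1, Int.ofNat 1, Int.negSucc 0, Int.ofNat 1, Int.negSucc 0, Int.ofNat 1, Int.negSucc 0, Int.negSucc 0, Int.negSucc 0, Int.negSucc 0, Int.negSucc 0, Int.ofNat 1],
  [Int.ofNat 1, Int.ofNat 1, Int.ofNat 1, Int.ofNat 1, Int.negSucc 0, Int.negSucc 0, Int.ofNat 1, Int.ofNat 1, Int.negSucc 0, Int.negSucc 0, Int.ofNat 3, Int.negSucc 0, Int.ofNat 1, Int.ofNat 1, Int.negSucc 0, Int.negSucc 0, Int.negSucc 0, Int.ofNat 1, Int.ofNat 1, Int.negSucc 0, Int.negSucc 0, Int.negSucc 0, Int.ofNat 1, Int.ofNat 1],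
  [Int.ofNat 1, Int.ofNat 1, Int.negSucc 0, Int.negSucc 0, Int.negSucc 0, Int.ofNat 1, Int.negSucc 0, Int.ofNat 1, Int.negSucc 0, Int.ofNat 1, Int.ofNat 1, Int.negSucc 0, Int.negSucc 0, Int.negSucc 0, Int.negSucc 0, Int.ofNat 1, Int.ofNat 3, Int.negSucc 0, Int.ofNat 1, Int.ofNat 1, Int.negSucc 0, Int.ofNat 1, Int.ofNat 1, Int.ofNat 1],
  [Int.ofNat 1, Int.ofNat 1, Int.ofNat 1, Int.negSucc 0, Int.negSucc 0, Int.negSucc 0, Int.ofNat 1, Int.ofNat 1, Int.negSucc 0, Int.negSucc 0, Int.negSucc 0, Int.negSucc 0, Int.negSucc 0, Int.negSucc 0, Int.negSucc 0, Int.negSucc 0, Int.ofNat 3, Int.negSucc 0, Int.negSucc 0, Int.ofNat 1, Int.negSucc 0, Int.ofNat 1, Int.negSucc 0, Int.ofNat 1],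
  [Int.ofNat 1, Int.ofNat 1, Int.ofNat 1, Int.ofNat 1, Int.negSucc 0, Int.ofNat 1, Int.negSucc 0, Int.negSucc 0, Int.ofNat 1, Int.ofNat 1, Int.ofNat 1, Int.ofNat 1, Int.ofNat 1, Int.negSucc 0, Int.ofNat 1, Int.ofNat 1, Int.ofNat 3, Int.ofNat 1, Int.ofNat 1, Int.negSucc 0, Int.ofNat 1, Int.negSucc 0, Int.negSucc 0, Int.ofNat 1],
  [Int.ofNat 1, Int.ofNat 1, Int.negSucc 0, Int.ofNat 1, Int.ofNat 1, Int.negSucc 0, Int.ofNat 1, Int.ofNat 1, Int.ofNat 3, Int.ofNat 1, Int.negSucc 0, Int.negSucc 0, Int.ofNat 1, Int.ofNat 1, Int.ofNat 1, Int.ofNat 1, Int.negSucc 0, Int.ofNat 1, Int.negSucc 0, Int.negSucc 0, Int.ofNat 1, Int.ofNat 1, Int.ofNat 1, Int.ofNat 1],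
  [Int.ofNat 0, Int.ofNat 0, Int.ofNat 2, Int.ofNat 0, Int.ofNat 0, Int.negSucc 1, Int.ofNat 0, Int.ofNat 0, Int.ofNat 2, Int.ofNat 0, Int.negSucc 1, Int.negSucc 1, Int.ofNat 0, Int.ofNat 0, Int.ofNat 0, Int.ofNat 0, Int.negSucc 1, Int.ofNat 0, Int.negSucc 1, Int.negSucc 1, Int.ofNat 0, Int.ofNat 0, Int.ofNat 0, Int.ofNat 0],
  [Int.ofNat 0, Int.ofNat 0, Int.ofNat 0, Int.ofNat 0, Int.ofNat 0, Int.ofNat 2, Int.ofNat 0, Int.ofNat 0, Int.negSucc 1, Int.ofNat 0, Int.ofNat 0, Int.ofNat 2, Int.ofNat 0, Int.negSucc 1, Int.negSucc 1, Int.ofNat 0, Int.ofNat 0, Int.ofNat 0, Int.ofNat 0, Int.negSucc 1, Int.ofNat 0, Int.negSucc 1, Int.negSucc 1, Int.ofNat 0],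
  [Int.ofNat 0, Int.ofNat 0, Int.ofNat 0, Int.ofNat 0, Int.ofNat 2, Int.ofNat 2, Int.ofNat 2, Int.ofNat 2, Int.negSucc 1, Int.ofNat 0, Int.ofNat 0, Int.ofNat 2, Int.ofNat 0, Int.ofNat 0, Int.negSucc 1, Int.ofNat 0, Int.ofNat 2, Int.ofNat 0, Int.ofNat 0, Int.ofNat 0, Int.ofNat 0, Int.ofNat 0, Int.ofNat 0, Int.ofNat 0],
  [Int.ofNat 0, Int.ofNat 0, Int.ofNat 0, Int.ofNat 2, Int.ofNat 2, Int.ofNat 2, Int.ofNat 2, Int.negSucc 1, Int.ofNat 0, Int.ofNat 0, Int.ofNat 2, Int.ofNat 0, Int.ofNat 0, Int.negSucc 1, Int.ofNat 0, Int.ofNat 2, Int.ofNat 0, Int.ofNat 0, Int.ofNat 0, Int.ofNat 0, Int.ofNat 0, Int.ofNat 0, Int.ofNat 0, Int.ofNat 0],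
  [Int.ofNat 0, Int.ofNat 0, Int.ofNat 0, Int.ofNat 2, Int.ofNat 2, Int.ofNat 2, Int.ofNat 2, Int.ofNat 2, Int.ofNat 0, Int.ofNat 0, Int.negSucc 1, Int.ofNat 0, Int.ofNat 0, Int.negSucc 1, Int.ofNat 0, Int.ofNat 2, Int.ofNat 0, Int.ofNat 0, Int.ofNat 0, Int.ofNat 0, Int.ofNat 0, Int.ofNat 0, Int.ofNat 0, Int.ofNat 0],
  [Int.ofNat 0, Int.ofNat 0, Int.ofNat 0, Int.negSucc 1, Int.negSucc 1, Int.ofNat 2, Int.negSucc 1, Int.ofNat 2, Int.ofNat 0, Int.ofNat 0, Int.negSucc 1, Int.ofNat 0, Int.ofNat 0, Int.ofNat 2, Int.ofNat 0, Int.ofNat 2, Int.ofNat 0, Int.ofNat 0, Int.ofNat 0, Int.ofNat 0, Int.ofNat 0, Int.ofNat 0, Int.ofNat 0, Int.ofNat 0],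
  [Int.ofNat 0, Int.ofNat 0, Int.ofNat 0, Int.ofNat 2, Int.ofNat 0, Int.ofNat 0, Int.ofNat 0, Int.ofNat 2, Int.ofNat 0, Int.ofNat 2, Int.ofNat 0, Int.ofNat 0, Int.ofNat 0, Int.ofNat 2, Int.ofNat 0, Int.negSucc 1, Int.negSucc 1, Int.negSucc 1, Int.ofNat 0, Int.negSucc 1, Int.ofNat 0, Int.ofNat 0, Int.ofNat 0, Int.ofNat 0],
  [Int.ofNat 0, Int.ofNat 0, Int.ofNat 0, Int.ofNat 2, Int.ofNat 0, Int.ofNat 0, Int.ofNat 0, Int.negSucc 1, Int.ofNat 0, Int.negSucc 1, Int.ofNat 0, Int.ofNat 0, Int.ofNat 0, Int.ofNat 2, Int.ofNat 0, Int.negSucc 1, Int.negSucc 1, Int.negSucc 1, Int.ofNat 0, Int.negSucc 1, Int.ofNat 0, Int.ofNat 0, Int.ofNat 0, Int.ofNat 0],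
  [Int.ofNat 0, Int.ofNat 0, Int.ofNat 0, Int.ofNat 0, Int.ofNat 2, Int.ofNat 0, Int.ofNat 0, Int.ofNat 0, Int.negSucc 1, Int.ofNat 0, Int.negSucc 1, Int.ofNat 0, Int.ofNat 0, Int.ofNat 0, Int.ofNat 2, Int.ofNat 0, Int.negSucc 1, Int.negSucc 1, Int.negSucc 1, Int.ofNat 0, Int.negSucc 1, Int.ofNat 0, Int.ofNat 0, Int.ofNat 0],
  [Int.ofNat 0, Int.ofNat 0, Int.ofNat 0, Int.ofNat 0, Int.ofNat 2, Int.ofNat 0, Int.ofNat 0, Int.ofNat 0, Int.ofNat 0, Int.ofNat 2, Int.ofNat 0, Int.ofNat 2, Int.ofNat 2, Int.ofNat 0, Int.ofNat 2, Int.ofNat 2, Int.negSucc 1, Int.negSucc 1, Int.ofNat 0, Int.ofNat 0, Int.ofNat 0, Int.ofNat 0, Int.ofNat 0, Int.ofNat 0],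
  [Int.ofNat 0, Int.ofNat 2, Int.ofNat 0, Int.ofNat 0, Int.ofNat 0, Int.ofNat 0, Int.ofNat 2, Int.ofNat 0, Int.ofNat 2, Int.ofNat 2, Int.ofNat 0, Int.ofNat 2, Int.ofNat 2, Int.negSucc 1, Int.negSucc 1, Int.ofNat 0, Int.ofNat 0, Int.ofNat 0, Int.ofNat 0, Int.ofNat 0, Int.ofNat 0, Int.ofNat 0, Int.ofNat 0, Int.ofNat 0],
  [Int.ofNat 1, Int.negSucc 0, Int.ofNat 1, Int.ofNat 1, Int.ofNat 1, Int.ofNat 1, Int.ofNat 1, Int.negSucc 0, Int.negSucc 0, Int.ofNat 1, Int.negSucc 0, Int.negSucc 0, Int.negSucc 0, Int.negSucc 0, Int.negSucc 0, Int.negSucc 0, Int.ofNat 1, Int.ofNat 1, Int.negSucc 2, Int.negSucc 0, Int.negSucc 0, Int.negSucc 0, Int.ofNat 1, Int.ofNat 1],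
  [Int.ofNat 1, Int.ofNat 1, Int.ofNat 1, Int.ofNat 1, Int.negSucc 2, Int.negSucc 0, Int.ofNat 1, Int.negSucc 0, Int.negSucc 0, Int.negSucc 0, Int.negSucc 0, Int.ofNat 1, Int.ofNat 1, Int.ofNat 1, Int.ofNat 1, Int.negSucc 0, Int.negSucc 0, Int.negSucc 0, Int.negSucc 0, Int.negSucc 0, Int.negSucc 0, Int.ofNat 1, Int.negSucc 0, Int.ofNat 1],
  [Int.ofNat 1, Int.ofNat 1, Int.ofNat 1, Int.ofNat 1, Int.negSucc 0, Int.negSucc 0, Int.ofNat 1, Int.negSucc 0, Int.negSucc 0, Int.ofNat 1, Int.ofNat 1, Int.ofNat 1, Int.ofNat 1, Int.ofNat 3, Int.ofNat 1, Int.ofNat 1, Int.ofNat 1, Int.negSucc 0, Int.negSucc 0, Int.negSucc 0, Int.ofNat 1, Int.ofNat 1, Int.ofNat 1, Int.ofNat 1],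
  [Int.ofNat 1, Int.ofNat 1, Int.negSucc 0, Int.ofNat 1, Int.negSucc 0, Int.ofNat 1, Int.negSucc 0, Int.negSucc 0, Int.negSucc 0, Int.negSucc 0, Int.negSucc 0, Int.ofNat 1, Int.ofNat 1, Int.ofNat 3, Int.ofNat 1, Int.negSucc 0, Int.ofNat 1, Int.negSucc 0, Int.ofNat 1, Int.negSucc 0, Int.ofNat 1, Int.ofNat 1, Int.negSucc 0, Int.ofNat 1],
  [Int.negSucc 0, Int.ofNat 1, Int.negSucc 0, Int.ofNat 1, Int.negSucc 0, Int.ofNat 1, Int.ofNat 1, Int.ofNat 3, Int.ofNat 1, Int.ofNat 1, Int.negSucc 0, Int.ofNat 1, Int.negSucc 0, Int.ofNat 1, Int.negSucc 0, Int.negSucc 0, Int.negSucc 0, Int.negSucc 0, Int.negSucc 0, Int.ofNat 1, Int.ofNat 1, Int.negSucc 0, Int.ofNat 1, Int.ofNat 1],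
  [Int.negSucc 0, Int.ofNat 1, Int.ofNat 1, Int.ofNat 1, Int.negSucc 0, Int.negSucc 0, Int.negSucc 0, Int.ofNat 3, Int.ofNat 1, Int.negSucc 0, Int.ofNat 1, Int.ofNat 1, Int.negSucc 0, Int.ofNat 1, Int.negSucc 0, Int.ofNat 1, Int.negSucc 0, Int.negSucc 0, Int.ofNat 1, Int.ofNat 1, Int.ofNat 1, Int.negSucc 0, Int.negSucc 0, Int.ofNat 1],
  [Int.ofNat 2, Int.ofNat 0, Int.ofNat 0, Int.ofNat 2, Int.ofNat 0, Int.ofNat 0, Int.negSucc 1, Int.ofNat 2, Int.ofNat 0, Int.negSucc 1, Int.ofNat 0, Int.ofNat 0, Int.negSucc 1, Int.ofNat 2, Int.ofNat 0, Int.ofNat 0, Int.ofNat 0, Int.ofNat 0, Int.ofNat 0, Int.ofNat 0, Int.ofNat 0, Int.negSucc 1, Int.ofNat 0, Int.ofNat 0],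
  [Int.ofNat 2, Int.ofNat 0, Int.negSucc 1, Int.ofNat 2, Int.ofNat 0, Int.negSucc 1, Int.ofNat 0, Int.ofNat 0, Int.ofNat 0, Int.negSucc 1, Int.ofNat 2, Int.ofNat 0, Int.ofNat 0, Int.negSucc 1, Int.ofNat 0, Int.ofNat 0, Int.ofNat 2, Int.ofNat 0, Int.ofNat 0, Int.ofNat 0, Int.ofNat 0, Int.ofNat 0, Int.ofNat 0, Int.ofNat 0],
  [Int.negSucc 1, Int.ofNat 0, Int.ofNat 2, Int.ofNat 2, Int.ofNat 0, Int.negSucc 1, Int.ofNat 0, Int.ofNat 0, Int.ofNat 0, Int.negSucc 1, Int.ofNat 2, Int.ofNat 0, Int.ofNat 0, Int.negSucc 1, Int.ofNat 0, Int.ofNat 0, Int.ofNat 2, Int.ofNat 0, Int.ofNat 0, Int.ofNat 0, Int.ofNat 0, Int.ofNat 0, Int.ofNat 0, Int.ofNat 0],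
  [Int.ofNat 0, Int.ofNat 0, Int.ofNat 0, Int.negSucc 1, Int.ofNat 0, Int.ofNat 2, Int.ofNat 2, Int.ofNat 0, Int.negSucc 1, Int.ofNat 0, Int.ofNat 0, Int.ofNat 0, Int.negSucc 1, Int.ofNat 2, Int.ofNat 0, Int.ofNat 0, Int.negSucc 1, Int.ofNat 0, Int.ofNat 0, Int.ofNat 2, Int.ofNat 0, Int.ofNat 0, Int.ofNat 0, Int.ofNat 0],
  [Int.ofNat 0, Int.ofNat 0, Int.ofNat 0, Int.negSucc 1, Int.ofNat 0, Int.ofNat 2, Int.ofNat 0, Int.negSucc 1, Int.ofNat 0, Int.ofNat 0, Int.ofNat 0, Int.ofNat 2, Int.ofNat 0, Int.ofNat 2, Int.ofNat 0, Int.ofNat 0, Int.negSucc 1, Int.ofNat 0, Int.ofNat 2, Int.ofNat 0, Int.ofNat 0, Int.negSucc 1, Int.ofNat 0, Int.ofNat 0],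
  [Int.ofNat 0, Int.ofNat 0, Int.negSucc 1, Int.ofNat 0, Int.ofNat 2, Int.ofNat 0, Int.negSucc 1, Int.ofNat 0, Int.ofNat 0, Int.ofNat 0, Int.ofNat 2, Int.ofNat 0, Int.ofNat 2, Int.ofNat 0, Int.ofNat 0, Int.negSucc 1, Int.ofNat 0, Int.ofNat 2, Int.ofNat 0, Int.ofNat 0, Int.negSucc 1, Int.ofNat 0, Int.ofNat 0, Int.ofNat 0],
  [Int.ofNat 0, Int.ofNat 0, Int.ofNat 2, Int.ofNat 0, Int.ofNat 2, Int.ofNat 0, Int.negSucc 1, Int.ofNat 0, Int.ofNat 0, Int.ofNat 0, Int.negSucc 1, Int.ofNat 0, Int.ofNat 2, Int.ofNat 0, Int.ofNat 0, Int.negSucc 1, Int.ofNat 0, Int.ofNat 2, Int.ofNat 0, Int.ofNat 0, Int.negSucc 1, Int.ofNat 0, Int.ofNat 0, Int.ofNat 0],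
  [Int.ofNat 0, Int.ofNat 0, Int.negSucc 1, Int.ofNat 0, Int.negSucc 1, Int.ofNat 0, Int.ofNat 2, Int.ofNat 0, Int.ofNat 0, Int.ofNat 0, Int.negSucc 1, Int.ofNat 0, Int.negSucc 1, Int.ofNat 0, Int.ofNat 0, Int.negSucc 1, Int.ofNat 0, Int.ofNat 2, Int.ofNat 0, Int.ofNat 0, Int.negSucc 1, Int.ofNat 0, Int.ofNat 0, Int.ofNat 0],
  [Int.ofNat 0, Int.ofNat 0, Int.ofNat 0, Int.negSucc 1, Int.ofNat 2, Int.ofNat 0, Int.ofNat 0, Int.ofNat 0, Int.negSucc 1, Int.ofNat 0, Int.ofNat 0, Int.negSucc 1, Int.ofNat 0, Int.ofNat 0, Int.ofNat 0, Int.ofNat 0, Int.negSucc 1, Int.negSucc 1, Int.ofNat 0, Int.ofNat 2, Int.ofNat 0, Int.negSucc 1, Int.ofNat 0, Int.ofNat 0],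
  [Int.ofNat 0, Int.ofNat 0, Int.ofNat 0, Int.negSucc 1, Int.ofNat 2, Int.ofNat 0, Int.ofNat 0, Int.ofNat 0, Int.negSucc 1, Int.ofNat 0, Int.ofNat 0, Int.ofNat 2, Int.ofNat 0, Int.ofNat 0, Int.ofNat 0, Int.ofNat 0, Int.negSucc 1, Int.negSucc 1, Int.ofNat 0, Int.ofNat 2, Int.ofNat 0, Int.ofNat 2, Int.ofNat 0, Int.ofNat 0],
  [Int.ofNat 0, Int.ofNat 0, Int.ofNat 0, Int.ofNat 0, Int.negSucc 1, Int.ofNat 2, Int.ofNat 0, Int.ofNat 0, Int.ofNat 0, Int.negSucc 1, Int.ofNat 0, Int.ofNat 0, Int.ofNat 2, Int.ofNat 0, Int.ofNat 0, Int.ofNat 0, Int.ofNat 0, Int.negSucc 1, Int.negSucc 1, Int.ofNat 0, Int.ofNat 2, Int.ofNat 0, Int.ofNat 2, Int.ofNat 0],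
  [Int.ofNat 0, Int.ofNat 0, Int.ofNat 0, Int.ofNat 0, Int.negSucc 1, Int.ofNat 2, Int.ofNat 0, Int.ofNat 0, Int.ofNat 0, Int.negSucc 1, Int.ofNat 0, Int.ofNat 0, Int.ofNat 2, Int.ofNat 0, Int.ofNat 0, Int.ofNat 0, Int.ofNat 0, Int.negSucc 1, Int.negSucc 1, Int.ofNat 0, Int.ofNat 2, Int.ofNat 0, Int.ofNat 2, Int.ofNat 0],
  [Int.ofNat 0, Int.negSucc 1, Int.ofNat 2, Int.ofNat 0, Int.ofNat 0, Int.ofNat 0, Int.negSucc 1, Int.ofNat 0, Int.ofNat 0, Int.ofNat 2, Int.ofNat 0, Int.ofNat 0, Int.ofNat 0, Int.ofNat 0, Int.negSucc 1, Int.negSucc 1, Int.ofNat 0, Int.ofNat 2, Int.ofNat 0, Int.ofNat 2, Int.ofNat 0, Int.ofNat 0, Int.ofNat 0, Int.ofNat 0],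
  [Int.ofNat 0, Int.ofNat 2, Int.negSucc 1, Int.ofNat 0, Int.ofNat 0, Int.ofNat 0, Int.negSucc 1, Int.ofNat 0, Int.ofNat 0, Int.ofNat 2, Int.ofNat 0, Int.ofNat 0, Int.ofNat 0, Int.ofNat 0, Int.negSucc 1, Int.negSucc 1, Int.ofNat 0, Int.ofNat 2, Int.ofNat 0, Int.ofNat 2, Int.ofNat 0, Int.ofNat 0, Int.ofNat 0, Int.ofNat 0],
  [Int.ofNat 0, Int.negSucc 1, Int.ofNat 0, Int.ofNat 0, Int.ofNat 0, Int.ofNat 0, Int.negSucc 1, Int.ofNat 0, Int.ofNat 0, Int.ofNat 0, Int.ofNat 0, Int.ofNat 2, Int.ofNat 2, Int.ofNat 0, Int.ofNat 0, Int.negSucc 1, Int.ofNat 0, Int.negSucc 1, Int.ofNat 2, Int.ofNat 0, Int.ofNat 0, Int.ofNat 0, Int.ofNat 2, Int.ofNat 0],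
  [Int.negSucc 0, Int.ofNat 1, Int.negSucc 0, Int.ofNat 1, Int.negSucc 0, Int.ofNat 1, Int.negSucc 0, Int.ofNat 1, Int.negSucc 2, Int.ofNat 1, Int.ofNat 1, Int.negSucc 0, Int.negSucc 0, Int.negSucc 0, Int.ofNat 1, Int.negSucc 0, Int.negSucc 0, Int.negSucc 0, Int.negSucc 0, Int.ofNat 1, Int.ofNat 1, Int.ofNat 1, Int.ofNat 1, Int.negSucc 0],
  [Int.negSucc 0, Int.ofNat 1, Int.ofNat 1, Int.ofNat 1, Int.negSucc 0, Int.negSucc 0, Int.ofNat 1, Int.ofNat 1, Int.negSucc 2, Int.negSucc 0, Int.negSucc 0, Int.negSucc 0, Int.negSucc 0, Int.negSucc 0, Int.ofNat 1, Int.ofNat 1, Int.negSucc 0, Int.negSucc 0, Int.ofNat 1, Int.ofNat 1, Int.ofNat 1, Int.ofNat 1, Int.negSucc 0, Int.negSucc 0],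
  [Int.ofNat 1, Int.negSucc 0, Int.negSucc 0, Int.ofNat 1, Int.ofNat 1, Int.ofNat 1, Int.ofNat 1, Int.negSucc 0, Int.negSucc 0, Int.negSucc 0, Int.negSucc 0, Int.negSucc 0, Int.ofNat 1, Int.ofNat 1, Int.negSucc 2, Int.ofNat 1, Int.negSucc 0, Int.negSucc 0, Int.negSucc 0, Int.ofNat 1, Int.negSucc 0, Int.ofNat 1, Int.ofNat 1, Int.negSucc 0],
  [Int.ofNat 1, Int.negSucc 0, Int.ofNat 1, Int.ofNat 1, Int.ofNat 1, Int.negSucc 0, Int.negSucc 0, Int.negSucc 0, Int.negSucc 0, Int.ofNat 1, Int.ofNat 1, Int.negSucc 0, Int.ofNat 1, Int.ofNat 1, Int.negSucc 2, Int.negSucc 0, Int.negSucc 0, Int.negSucc 0, Int.ofNat 1, Int.ofNat 1, Int.negSucc 0, Int.ofNat 1, Int.negSucc 0, Int.negSucc 0],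
  [Int.negSucc 0, Int.ofNat 1, Int.negSucc 0, Int.ofNat 3, Int.ofNat 1, Int.ofNat 1, Int.negSucc 0, Int.negSucc 0, Int.negSucc 0, Int.ofNat 1, Int.ofNat 1, Int.negSucc 0, Int.ofNat 1, Int.ofNat 1, Int.negSucc 0, Int.negSucc 0, Int.negSucc 0, Int.ofNat 1, Int.ofNat 1, Int.ofNat 1, Int.negSucc 0, Int.ofNat 1, Int.negSucc 0, Int.ofNat 1],
  [Int.negSucc 0, Int.ofNat 1, Int.negSucc 0, Int.ofNat 3, Int.negSucc 0, Int.ofNat 1, Int.ofNat 1, Int.ofNat 1, Int.negSucc 0, Int.ofNat 1, Int.negSucc 0, Int.ofNat 1, Int.negSucc 0, Int.ofNat 1, Int.ofNat 1, Int.negSucc 0, Int.ofNat 1, Int.negSucc 0, Int.ofNat 1, Int.negSucc 0, Int.ofNat 1, Int.negSucc 0, Int.negSucc 0, Int.ofNat 1],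
  [Int.ofNat 1, Int.negSucc 0, Int.ofNat 1, Int.ofNat 1, Int.negSucc 0, Int.negSucc 0, Int.ofNat 1, Int.ofNat 1, Int.negSucc 0, Int.ofNat 1, Int.negSucc 0, Int.ofNat 1, Int.negSucc 0, Int.ofNat 1, Int.negSucc 0, Int.negSucc 0, Int.ofNat 1, Int.negSucc 2, Int.ofNat 1, Int.negSucc 0, Int.ofNat 1, Int.negSucc 0, Int.negSucc 0, Int.negSucc 0],
  [Int.ofNat 1, Int.negSucc 0, Int.negSucc 0, Int.ofNat 1, Int.negSucc 0, Int.ofNat 1, Int.ofNat 1, Int.negSucc 0, Int.negSucc 0, Int.ofNat 1, Int.ofNat 1, Int.negSucc 0, Int.ofNat 1, Int.negSucc 0, Int.ofNat 1, Int.negSucc 0, Int.ofNat 1, Int.negSucc 0, Int.negSucc 0, Int.ofNat 1, Int.negSucc 2, Int.ofNat 1, Int.negSucc 0, Int.negSucc 0],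
  [Int.negSucc 1, Int.ofNat 0, Int.ofNat 0, Int.ofNat 0, Int.ofNat 0, Int.ofNat 0, Int.ofNat 0, Int.negSucc 1, Int.ofNat 0, Int.ofNat 2, Int.ofNat 2, Int.ofNat 0, Int.ofNat 2, Int.ofNat 0, Int.ofNat 0, Int.ofNat 0, Int.ofNat 2, Int.negSucc 1, Int.ofNat 0, Int.ofNat 0, Int.negSucc 1, Int.ofNat 0, Int.ofNat 0, Int.ofNat 0],
  [Int.ofNat 0, Int.ofNat 0, Int.ofNat 0, Int.ofNat 0, Int.ofNat 0, Int.ofNat 0, Int.negSucc 1, Int.ofNat 0, Int.ofNat 2, Int.ofNat 2, Int.ofNat 0, Int.ofNat 2, Int.ofNat 0, Int.ofNat 0, Int.ofNat 0, Int.ofNat 2, Int.negSucc 1, Int.ofNat 0, Int.ofNat 0, Int.negSucc 1, Int.ofNat 0, Int.ofNat 0, Int.negSucc 1, Int.ofNat 0],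
  [Int.ofNat 0, Int.ofNat 0, Int.ofNat 0, Int.ofNat 0, Int.ofNat 0, Int.ofNat 0, Int.negSucc 1, Int.ofNat 0, Int.ofNat 2, Int.negSucc 1, Int.ofNat 0, Int.negSucc 1, Int.ofNat 0, Int.ofNat 0, Int.ofNat 0, Int.ofNat 2, Int.negSucc 1, Int.ofNat 0, Int.ofNat 0, Int.negSucc 1, Int.ofNat 0, Int.ofNat 0, Int.negSucc 1, Int.ofNat 0],
  [Int.ofNat 0, Int.ofNat 0, Int.ofNat 0, Int.ofNat 0, Int.ofNat 0, Int.ofNat 0, Int.ofNat 2, Int.ofNat 0, Int.negSucc 1, Int.ofNat 2, Int.ofNat 0, Int.negSucc 1, Int.ofNat 0, Int.ofNat 0, Int.ofNat 0, Int.ofNat 2, Int.ofNat 2, Int.ofNat 0, Int.ofNat 0, Int.negSucc 1, Int.ofNat 0, Int.ofNat 0, Int.negSucc 1, Int.ofNat 0],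
  [Int.ofNat 0, Int.negSucc 1, Int.negSucc 1, Int.ofNat 2, Int.ofNat 0, Int.ofNat 2, Int.negSucc 1, Int.ofNat 0, Int.ofNat 0, Int.ofNat 0, Int.ofNat 2, Int.ofNat 0, Int.ofNat 0, Int.ofNat 0, Int.ofNat 0, Int.ofNat 0, Int.ofNat 0, Int.ofNat 0, Int.ofNat 0, Int.ofNat 2, Int.negSucc 1, Int.ofNat 0, Int.ofNat 0, Int.ofNat 0],
  [Int.ofNat 0, Int.negSucc 1, Int.ofNat 2, Int.ofNat 2, Int.ofNat 0, Int.ofNat 2, Int.negSucc 1, Int.ofNat 0, Int.ofNat 0, Int.ofNat 0, Int.negSucc 1, Int.ofNat 0, Int.ofNat 0, Int.ofNat 0, Int.ofNat 0, Int.ofNat 0, Int.ofNat 0, Int.ofNat 0, Int.ofNat 0, Int.ofNat 2, Int.negSucc 1, Int.ofNat 0, Int.ofNat 0, Int.ofNat 0],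
  [Int.ofNat 0, Int.ofNat 0, Int.negSucc 1, Int.ofNat 2, Int.ofNat 2, Int.ofNat 0, Int.ofNat 2, Int.negSucc 1, Int.ofNat 0, Int.ofNat 0, Int.ofNat 0, Int.negSucc 1, Int.ofNat 0, Int.ofNat 0, Int.ofNat 0, Int.ofNat 0, Int.ofNat 0, Int.ofNat 0, Int.ofNat 0, Int.ofNat 0, Int.ofNat 2, Int.negSucc 1, Int.ofNat 0, Int.ofNat 0],
  [Int.negSucc 0, Int.negSucc 0, Int.ofNat 1, Int.ofNat 1, Int.ofNat 1, Int.negSucc 0, Int.ofNat 3, Int.negSucc 0, Int.ofNat 1, Int.negSucc 0, Int.negSucc 0, Int.negSucc 0, Int.ofNat 1, Int.negSucc 0, Int.negSucc 0, Int.negSucc 0, Int.negSucc 0, Int.negSucc 0, Int.ofNat 1, Int.ofNat 1, Int.ofNat 1, Int.negSucc 0, Int.negSucc 0, Int.negSucc 0],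
  [Int.ofNat 1, Int.ofNat 1, Int.negSucc 0, Int.ofNat 3, Int.negSucc 0, Int.ofNat 1, Int.negSucc 0, Int.negSucc 0, Int.negSucc 0, Int.ofNat 1, Int.negSucc 0, Int.negSucc 0, Int.negSucc 0, Int.negSucc 0, Int.negSucc 0, Int.ofNat 1, Int.ofNat 1, Int.ofNat 1, Int.negSucc 0, Int.negSucc 0, Int.negSucc 0, Int.negSucc 0, Int.ofNat 1, Int.negSucc 0],
  [Int.negSucc 0, Int.negSucc 0, Int.ofNat 1, Int.ofNat 1, Int.negSucc 0, Int.negSucc 0, Int.ofNat 1, Int.ofNat 1, Int.ofNat 1, Int.ofNat 1, Int.negSucc 0, Int.ofNat 1, Int.ofNat 1, Int.negSucc 0, Int.negSucc 2, Int.ofNat 1, Int.ofNat 1, Int.negSucc 0, Int.ofNat 1, Int.ofNat 1, Int.negSucc 0, Int.ofNat 1, Int.ofNat 1, Int.ofNat 1],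
  [Int.negSucc 0, Int.ofNat 1, Int.negSucc 0, Int.ofNat 1, Int.ofNat 1, Int.ofNat 1, Int.ofNat 1, Int.negSucc 0, Int.ofNat 1, Int.negSucc 0, Int.negSucc 0, Int.negSucc 0, Int.ofNat 1, Int.ofNat 1, Int.ofNat 1, Int.ofNat 1, Int.ofNat 1, Int.negSucc 2, Int.negSucc 0, Int.ofNat 1, Int.ofNat 1, Int.negSucc 0, Int.ofNat 1, Int.ofNat 1],
  [Int.ofNat 1, Int.negSucc 0, Int.ofNat 1, Int.ofNat 1, Int.negSucc 0, Int.ofNat 1, Int.ofNat 1, Int.negSucc 0, Int.ofNat 1, Int.negSucc 0, Int.negSucc 0, Int.negSucc 0, Int.ofNat 1, Int.negSucc 0, Int.ofNat 1, Int.ofNat 1, Int.negSucc 0, Int.negSucc 2, Int.negSucc 0, Int.ofNat 1, Int.ofNat 1, Int.negSucc 0, Int.negSucc 0, Int.negSucc 0],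
  [Int.ofNat 1, Int.negSucc 0, Int.negSucc 0, Int.ofNat 1, Int.negSucc 0, Int.negSucc 0, Int.negSucc 0, Int.negSucc 0, Int.ofNat 1, Int.ofNat 1, Int.ofNat 1, Int.negSucc 0, Int.ofNat 1, Int.negSucc 0, Int.ofNat 1, Int.negSucc 0, Int.negSucc 0, Int.negSucc 2, Int.ofNat 1, Int.ofNat 1, Int.ofNat 1, Int.negSucc 0, Int.ofNat 1, Int.negSucc 0],
  [Int.negSucc 0, Int.ofNat 1, Int.ofNat 1, Int.negSucc 0, Int.negSucc 0, Int.ofNat 1, Int.ofNat 1, Int.negSucc 0, Int.negSucc 0, Int.ofNat 1, Int.ofNat 1, Int.negSucc 0, Int.ofNat 1, Int.ofNat 1, Int.ofNat 1, Int.negSucc 0, Int.ofNat 1, Int.negSucc 0, Int.negSucc 2, Int.ofNat 1, Int.negSucc 0, Int.negSucc 0, Int.negSucc 0, Int.negSucc 0],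
  [Int.negSucc 0, Int.ofNat 1, Int.negSucc 0, Int.negSucc 0, Int.negSucc 0, Int.negSucc 0, Int.negSucc 0, Int.negSucc 0, Int.negSucc 0, Int.negSucc 0, Int.negSucc 0, Int.negSucc 0, Int.ofNat 1, Int.ofNat 1, Int.ofNat 1, Int.ofNat 1, Int.ofNat 1, Int.negSucc 0, Int.ofNat 3, Int.ofNat 1, Int.negSucc 0, Int.negSucc 0, Int.ofNat 1, Int.negSucc 0],
  [Int.ofNat 0, Int.negSucc 1, Int.ofNat 0, Int.ofNat 0, Int.negSucc 1, Int.ofNat 0, Int.ofNat 0, Int.ofNat 0, Int.negSucc 1, Int.ofNat 0, Int.ofNat 0, Int.negSucc 1, Int.ofNat 0, Int.ofNat 0, Int.ofNat 2, Int.ofNat 2, Int.ofNat 0, Int.ofNat 0, Int.ofNat 2, Int.ofNat 2, Int.ofNat 0, Int.ofNat 0, Int.ofNat 0, Int.ofNat 0],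
  [Int.ofNat 0, Int.ofNat 2, Int.ofNat 0, Int.ofNat 0, Int.ofNat 0, Int.ofNat 0, Int.negSucc 1, Int.ofNat 0, Int.ofNat 0, Int.ofNat 0, Int.ofNat 0, Int.ofNat 2, Int.negSucc 1, Int.ofNat 0, Int.ofNat 0, Int.ofNat 2, Int.ofNat 0, Int.negSucc 1, Int.negSucc 1, Int.ofNat 0, Int.ofNat 0, Int.ofNat 0, Int.ofNat 2, Int.ofNat 0],
  [Int.ofNat 1, Int.negSucc 0, Int.ofNat 1, Int.ofNat 1, Int.negSucc 0, Int.ofNat 1, Int.negSucc 0, Int.ofNat 1, Int.ofNat 1, Int.negSucc 0, Int.negSucc 0, Int.ofNat 3, Int.negSucc 0, Int.negSucc 0, Int.ofNat 1, Int.ofNat 1, Int.negSucc 0, Int.negSucc 0, Int.negSucc 0, Int.ofNat 1, Int.negSucc 0, Int.ofNat 1, Int.ofNat 1, Int.ofNat 1],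
  [Int.negSucc 0, Int.ofNat 1, Int.ofNat 1, Int.ofNat 1, Int.negSucc 0, Int.ofNat 1, Int.ofNat 1, Int.negSucc 0, Int.ofNat 1, Int.negSucc 0, Int.ofNat 1, Int.ofNat 1, Int.negSucc 0, Int.negSucc 0, Int.ofNat 3, Int.negSucc 0, Int.negSucc 0, Int.ofNat 1, Int.ofNat 1, Int.negSucc 0, Int.negSucc 0, Int.negSucc 0, Int.ofNat 1, Int.ofNat 1],
  [Int.ofNat 2, Int.ofNat 0, Int.ofNat 0, Int.negSucc 1, Int.ofNat 0, Int.negSucc 1, Int.ofNat 2, Int.ofNat 0, Int.ofNat 0, Int.ofNat 0, Int.ofNat 2, Int.ofNat 0, Int.negSucc 1, Int.ofNat 0, Int.ofNat 0, Int.ofNat 0, Int.ofNat 0, Int.negSucc 1, Int.ofNat 0, Int.ofNat 0, Int.ofNat 0, Int.ofNat 0, Int.ofNat 2, Int.ofNat 0],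
  [Int.ofNat 0, Int.ofNat 0, Int.negSucc 1, Int.ofNat 0, Int.negSucc 1, Int.ofNat 2, Int.ofNat 0, Int.ofNat 0, Int.ofNat 0, Int.ofNat 2, Int.ofNat 0, Int.negSucc 1, Int.ofNat 0, Int.ofNat 0, Int.ofNat 0, Int.ofNat 0, Int.negSucc 1, Int.ofNat 0, Int.ofNat 0, Int.ofNat 0, Int.ofNat 0, Int.ofNat 2, Int.ofNat 2, Int.ofNat 0],
  [Int.ofNat 0, Int.ofNat 0, Int.ofNat 2, Int.ofNat 0, Int.negSucc 1, Int.ofNat 2, Int.ofNat 0, Int.ofNat 0, Int.ofNat 0, Int.negSucc 1, Int.ofNat 0, Int.ofNat 2, Int.ofNat 0, Int.ofNat 0, Int.ofNat 0, Int.ofNat 0, Int.negSucc 1, Int.ofNat 0, Int.ofNat 0, Int.ofNat 0, Int.ofNat 0, Int.negSucc 1, Int.ofNat 2, Int.ofNat 0],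
  [Int.ofNat 0, Int.ofNat 0, Int.negSucc 1, Int.ofNat 0, Int.ofNat 2, Int.ofNat 2, Int.ofNat 0, Int.ofNat 0, Int.ofNat 0, Int.ofNat 2, Int.ofNat 0, Int.ofNat 2, Int.ofNat 0, Int.ofNat 0, Int.ofNat 0, Int.ofNat 0, Int.ofNat 2, Int.ofNat 0, Int.ofNat 0, Int.ofNat 0, Int.ofNat 0, Int.negSucc 1, Int.ofNat 2, Int.ofNat 0],
  [Int.ofNat 0, Int.ofNat 2, Int.ofNat 2, Int.ofNat 0, Int.ofNat 0, Int.ofNat 2, Int.ofNat 0, Int.ofNat 0, Int.ofNat 0, Int.ofNat 2, Int.ofNat 2, Int.negSucc 1, Int.negSucc 1, Int.ofNat 0, Int.ofNat 0, Int.ofNat 0, Int.ofNat 0, Int.ofNat 2, Int.ofNat 0, Int.ofNat 0, Int.ofNat 0, Int.ofNat 0, Int.ofNat 0, Int.ofNat 0],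
  [Int.ofNat 0, Int.ofNat 2, Int.negSucc 1, Int.ofNat 0, Int.ofNat 0, Int.ofNat 2, Int.ofNat 0, Int.ofNat 0, Int.ofNat 0, Int.negSucc 1, Int.negSucc 1, Int.ofNat 2, Int.negSucc 1, Int.ofNat 0, Int.ofNat 0, Int.ofNat 0, Int.ofNat 0, Int.ofNat 2, Int.ofNat 0, Int.ofNat 0, Int.ofNat 0, Int.ofNat 0, Int.ofNat 0, Int.ofNat 0],
  [Int.ofNat 0, Int.ofNat 0, Int.ofNat 2, Int.negSucc 1, Int.ofNat 0, Int.ofNat 0, Int.ofNat 2, Int.ofNat 0, Int.ofNat 0, Int.ofNat 0, Int.negSucc 1, Int.negSucc 1, Int.ofNat 2, Int.negSucc 1, Int.ofNat 0, Int.ofNat 0, Int.ofNat 0, Int.ofNat 0, Int.ofNat 2, Int.ofNat 0, Int.ofNat 0, Int.ofNat 0, Int.ofNat 0, Int.ofNat 0],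
  [Int.ofNat 1, Int.ofNat 1, Int.negSucc 0, Int.negSucc 0, Int.ofNat 1, Int.ofNat 1, Int.ofNat 1, Int.negSucc 0, Int.negSucc 0, Int.ofNat 1, Int.negSucc 0, Int.negSucc 2, Int.ofNat 1, Int.negSucc 0, Int.ofNat 1, Int.ofNat 1, Int.ofNat 1, Int.ofNat 1, Int.ofNat 1, Int.negSucc 0, Int.ofNat 1, Int.negSucc 0, Int.ofNat 1, Int.ofNat 1],
  [Int.negSucc 0, Int.ofNat 1, Int.ofNat 1, Int.ofNat 1, Int.negSucc 0, Int.negSucc 0, Int.ofNat 1, Int.negSucc 0, Int.negSucc 2, Int.ofNat 1, Int.negSucc 0, Int.ofNat 1, Int.ofNat 1, Int.ofNat 1, Int.ofNat 1, Int.ofNat 1, Int.negSucc 0, Int.ofNat 1, Int.negSucc 0, Int.ofNat 1, Int.ofNat 1, Int.ofNat 1, Int.negSucc 0, Int.ofNat 1],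
  [Int.ofNat 2, Int.ofNat 0, Int.ofNat 0, Int.ofNat 0, Int.ofNat 0, Int.negSucc 1, Int.ofNat 0, Int.negSucc 1, Int.negSucc 1, Int.ofNat 0, Int.negSucc 1, Int.ofNat 2, Int.ofNat 2, Int.ofNat 2, Int.ofNat 0, Int.ofNat 0, Int.ofNat 0, Int.ofNat 0, Int.ofNat 0, Int.ofNat 0, Int.ofNat 0, Int.ofNat 0, Int.ofNat 0, Int.ofNat 0],
  [Int.ofNat 2, Int.ofNat 0, Int.ofNat 0, Int.ofNat 0, Int.ofNat 0, Int.negSucc 1, Int.ofNat 0, Int.negSucc 1, Int.ofNat 2, Int.ofNat 2, Int.ofNat 0, Int.ofNat 0, Int.ofNat 0, Int.ofNat 0, Int.ofNat 0, Int.ofNat 0, Int.negSucc 1, Int.ofNat 0, Int.ofNat 0, Int.ofNat 2, Int.ofNat 0, Int.negSucc 1, Int.ofNat 0, Int.ofNat 0],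
  [Int.negSucc 0, Int.ofNat 1, Int.ofNat 1, Int.ofNat 1, Int.ofNat 1, Int.negSucc 0, Int.ofNat 1, Int.negSucc 0, Int.ofNat 1, Int.ofNat 1, Int.negSucc 0, Int.negSucc 0, Int.negSucc 0, Int.ofNat 1, Int.ofNat 1, Int.negSucc 0, Int.negSucc 0, Int.ofNat 1, Int.negSucc 0, Int.ofNat 3, Int.negSucc 0, Int.negSucc 0, Int.ofNat 1, Int.ofNat 1],
  [Int.negSucc 0, Int.ofNat 1, Int.negSucc 0, Int.ofNat 1, Int.ofNat 1, Int.ofNat 1, Int.negSucc 0, Int.negSucc 0, Int.ofNat 1, Int.negSucc 0, Int.ofNat 1, Int.negSucc 0, Int.negSucc 0, Int.ofNat 1, Int.ofNat 1, Int.ofNat 1, Int.negSucc 0, Int.ofNat 1, Int.ofNat 1, Int.ofNat 3, Int.negSucc 0, Int.negSucc 0, Int.negSucc 0, Int.ofNat 1],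
  [Int.negSucc 0, Int.negSucc 0, Int.negSucc 0, Int.negSucc 0, Int.ofNat 1, Int.ofNat 1, Int.ofNat 1, Int.ofNat 1, Int.negSucc 0, Int.negSucc 0, Int.negSucc 0, Int.negSucc 0, Int.ofNat 3, Int.negSucc 0, Int.ofNat 1, Int.negSucc 0, Int.ofNat 1, Int.ofNat 1, Int.ofNat 1, Int.ofNat 1, Int.ofNat 1, Int.negSucc 0, Int.ofNat 1, Int.ofNat 1],
  [Int.negSucc 0, Int.negSucc 0, Int.ofNat 1, Int.negSucc 0, Int.ofNat 1, Int.negSucc 0, Int.negSucc 0, Int.ofNat 1, Int.negSucc 0, Int.ofNat 1, Int.ofNat 1, Int.negSucc 0, Int.ofNat 3, Int.negSucc 0, Int.ofNat 1, Int.ofNat 1, Int.ofNat 1, Int.ofNat 1, Int.negSucc 0, Int.ofNat 1, Int.ofNat 1, Int.negSucc 0, Int.negSucc 0, Int.ofNat 1],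
  [Int.ofNat 1, Int.ofNat 1, Int.negSucc 0, Int.negSucc 0, Int.ofNat 1, Int.negSucc 0, Int.negSucc 0, Int.ofNat 1, Int.negSucc 0, Int.negSucc 0, Int.negSucc 0, Int.negSucc 0, Int.ofNat 3, Int.negSucc 0, Int.ofNat 1, Int.negSucc 0, Int.ofNat 1, Int.ofNat 1, Int.negSucc 0, Int.ofNat 1, Int.negSucc 0, Int.negSucc 0, Int.negSucc 0, Int.negSucc 0],
  [Int.ofNat 1, Int.negSucc 0, Int.negSucc 0, Int.negSucc 0, Int.negSucc 0, Int.negSucc 0, Int.ofNat 1, Int.negSucc 0, Int.ofNat 1, Int.ofNat 3, Int.ofNat 1, Int.ofNat 1, Int.negSucc 0, Int.negSucc 0, Int.ofNat 1, Int.negSucc 0, Int.negSucc 0, Int.negSucc 0, Int.ofNat 1, Int.negSucc 0, Int.negSucc 0, Int.negSucc 0, Int.ofNat 1, Int.negSucc 0],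
  [Int.negSucc 1, Int.ofNat 0, Int.ofNat 0, Int.ofNat 0, Int.ofNat 0, Int.ofNat 0, Int.ofNat 2, Int.ofNat 0, Int.ofNat 0, Int.ofNat 2, Int.ofNat 0, Int.ofNat 0, Int.negSucc 1, Int.ofNat 0, Int.ofNat 2, Int.negSucc 1, Int.ofNat 0, Int.ofNat 0, Int.ofNat 0, Int.ofNat 0, Int.negSucc 1, Int.ofNat 0, Int.ofNat 2, Int.ofNat 0],
  [Int.negSucc 1, Int.ofNat 0, Int.ofNat 2, Int.negSucc 1, Int.ofNat 0, Int.ofNat 0, Int.ofNat 0, Int.ofNat 0, Int.ofNat 0, Int.ofNat 2, Int.ofNat 0, Int.ofNat 0, Int.ofNat 2, Int.ofNat 0, Int.ofNat 0, Int.negSucc 1, Int.ofNat 0, Int.ofNat 2, Int.negSucc 1, Int.ofNat 0, Int.ofNat 0, Int.ofNat 0, Int.ofNat 0, Int.ofNat 0],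
  [Int.ofNat 2, Int.ofNat 0, Int.negSucc 1, Int.negSucc 1, Int.ofNat 0, Int.ofNat 0, Int.ofNat 0, Int.ofNat 0, Int.ofNat 0, Int.ofNat 2, Int.ofNat 0, Int.ofNat 0, Int.ofNat 2, Int.ofNat 0, Int.ofNat 0, Int.negSucc 1, Int.ofNat 0, Int.ofNat 2, Int.negSucc 1, Int.ofNat 0, Int.ofNat 0, Int.ofNat 0, Int.ofNat 0, Int.ofNat 0],
  [Int.ofNat 0, Int.negSucc 1, Int.negSucc 1, Int.ofNat 0, Int.ofNat 0, Int.ofNat 0, Int.ofNat 0, Int.ofNat 0, Int.ofNat 2, Int.ofNat 0, Int.ofNat 0, Int.ofNat 2, Int.ofNat 0, Int.ofNat 0, Int.negSucc 1, Int.ofNat 0, Int.ofNat 2, Int.negSucc 1, Int.ofNat 0, Int.ofNat 0, Int.ofNat 0, Int.ofNat 0, Int.ofNat 2, Int.ofNat 0],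
  [Int.ofNat 0, Int.negSucc 1, Int.ofNat 2, Int.ofNat 0, Int.ofNat 0, Int.ofNat 0, Int.ofNat 0, Int.ofNat 0, Int.ofNat 2, Int.ofNat 0, Int.ofNat 0, Int.negSucc 1, Int.ofNat 0, Int.ofNat 0, Int.negSucc 1, Int.ofNat 0, Int.ofNat 2, Int.negSucc 1, Int.ofNat 0, Int.ofNat 0, Int.ofNat 0, Int.ofNat 0, Int.ofNat 2, Int.ofNat 0],
  [Int.ofNat 0, Int.ofNat 2, Int.negSucc 1, Int.ofNat 0, Int.ofNat 0, Int.ofNat 0, Int.ofNat 0, Int.ofNat 0, Int.negSucc 1, Int.ofNat 0, Int.ofNat 0, Int.negSucc 1, Int.ofNat 0, Int.ofNat 0, Int.negSucc 1, Int.ofNat 0, Int.negSucc 1, Int.negSucc 1, Int.ofNat 0, Int.ofNat 0, Int.ofNat 0, Int.ofNat 0, Int.ofNat 2, Int.ofNat 0],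
  [Int.ofNat 0, Int.ofNat 2, Int.negSucc 1, Int.ofNat 0, Int.negSucc 1, Int.ofNat 0, Int.ofNat 0, Int.ofNat 0, Int.ofNat 0, Int.ofNat 0, Int.negSucc 1, Int.negSucc 1, Int.ofNat 0, Int.ofNat 0, Int.ofNat 0, Int.ofNat 0, Int.ofNat 0, Int.ofNat 0, Int.negSucc 1, Int.ofNat 0, Int.negSucc 1, Int.ofNat 0, Int.ofNat 2, Int.ofNat 0],
  [Int.ofNat 0, Int.ofNat 2, Int.ofNat 2, Int.ofNat 0, Int.negSucc 1, Int.ofNat 0, Int.ofNat 0, Int.ofNat 0, Int.ofNat 0, Int.ofNat 0, Int.ofNat 2, Int.ofNat 2, Int.ofNat 0, Int.ofNat 0, Int.ofNat 0, Int.ofNat 0, Int.ofNat 0, Int.ofNat 0, Int.ofNat 2, Int.ofNat 0, Int.negSucc 1, Int.ofNat 0, Int.ofNat 2, Int.ofNat 0],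
  [Int.ofNat 2, Int.ofNat 0, Int.ofNat 2, Int.ofNat 2, Int.ofNat 0, Int.negSucc 1, Int.ofNat 0, Int.ofNat 0, Int.ofNat 0, Int.ofNat 0, Int.ofNat 0, Int.ofNat 2, Int.ofNat 2, Int.ofNat 0, Int.ofNat 0, Int.ofNat 0, Int.ofNat 0, Int.ofNat 0, Int.ofNat 0, Int.ofNat 2, Int.ofNat 0, Int.negSucc 1, Int.ofNat 0, Int.ofNat 0],
  [Int.ofNat 0, Int.ofNat 2, Int.ofNat 0, Int.ofNat 2, Int.ofNat 0, Int.negSucc 1, Int.ofNat 0, Int.ofNat 0, Int.negSucc 1, Int.ofNat 0, Int.ofNat 0, Int.ofNat 0, Int.ofNat 0, Int.ofNat 0, Int.ofNat 0, Int.ofNat 0, Int.ofNat 0, Int.ofNat 0, Int.negSucc 1, Int.ofNat 2, Int.ofNat 0, Int.negSucc 1, Int.ofNat 0, Int.ofNat 2],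
  [Int.ofNat 2, Int.ofNat 0, Int.negSucc 1, Int.ofNat 0, Int.ofNat 0, Int.negSucc 1, Int.ofNat 0, Int.ofNat 0, Int.ofNat 0, Int.ofNat 0, Int.ofNat 0, Int.ofNat 0, Int.ofNat 0, Int.ofNat 0, Int.ofNat 0, Int.negSucc 1, Int.ofNat 2, Int.ofNat 0, Int.negSucc 1, Int.ofNat 0, Int.ofNat 0, Int.ofNat 2, Int.ofNat 0, Int.ofNat 2],
  [Int.negSucc 0, Int.ofNat 1, Int.ofNat 3, Int.ofNat 1, Int.negSucc 0, Int.negSucc 0, Int.negSucc 0, Int.negSucc 0, Int.ofNat 1, Int.ofNat 1, Int.ofNat 1, Int.ofNat 1, Int.ofNat 1, Int.negSucc 0, Int.ofNat 1, Int.negSucc 0, Int.ofNat 1, Int.ofNat 1, Int.negSucc 0, Int.negSucc 0, Int.ofNat 1, Int.ofNat 1, Int.negSucc 0, Int.negSucc 0],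
  [Int.negSucc 0, Int.negSucc 0, Int.negSucc 0, Int.ofNat 1, Int.negSucc 0, Int.negSucc 0, Int.ofNat 3, Int.ofNat 1, Int.ofNat 1, Int.negSucc 0, Int.ofNat 1, Int.ofNat 1, Int.ofNat 1, Int.ofNat 1, Int.negSucc 0, Int.negSucc 0, Int.ofNat 1, Int.ofNat 1, Int.ofNat 1, Int.ofNat 1, Int.ofNat 1, Int.negSucc 0, Int.negSucc 0, Int.negSucc 0],
  [Int.negSucc 0, Int.negSucc 0, Int.negSucc 0, Int.ofNat 1, Int.negSucc 0, Int.negSucc 0, Int.ofNat 1, Int.negSucc 0, Int.negSucc 0, Int.negSucc 0, Int.ofNat 1, Int.negSucc 0, Int.negSucc 0, Int.ofNat 1, Int.negSucc 0, Int.negSucc 0, Int.ofNat 1, Int.ofNat 1, Int.negSucc 0, Int.negSucc 0, Int.ofNat 1, Int.negSucc 2, Int.negSucc 0, Int.negSucc 0],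
  [Int.negSucc 0, Int.negSucc 0, Int.ofNat 1, Int.ofNat 1, Int.negSucc 0, Int.ofNat 1, Int.negSucc 0, Int.negSucc 0, Int.negSucc 0, Int.ofNat 1, Int.negSucc 0, Int.negSucc 0, Int.negSucc 0, Int.ofNat 1, Int.negSucc 0, Int.ofNat 1, Int.ofNat 1, Int.ofNat 1, Int.ofNat 1, Int.negSucc 0, Int.ofNat 1, Int.negSucc 2, Int.ofNat 1, Int.negSucc 0],
  [Int.ofNat 1, Int.negSucc 0, Int.ofNat 1, Int.negSucc 2, Int.ofNat 1, Int.ofNat 1, Int.negSucc 0, Int.ofNat 1, Int.negSucc 0, Int.negSucc 0, Int.ofNat 1, Int.ofNat 1, Int.negSucc 0, Int.ofNat 1, Int.negSucc 0, Int.negSucc 0, Int.negSucc 0, Int.negSucc 0, Int.ofNat 1, Int.ofNat 1, Int.ofNat 1, Int.negSucc 0, Int.negSucc 0, Int.negSucc 0],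
  [Int.ofNat 1, Int.negSucc 0, Int.negSucc 0, Int.negSucc 2, Int.ofNat 1, Int.negSucc 0, Int.ofNat 1, Int.ofNat 1, Int.negSucc 0, Int.ofNat 1, Int.negSucc 0, Int.ofNat 1, Int.negSucc 0, Int.ofNat 1, Int.negSucc 0, Int.ofNat 1, Int.negSucc 0, Int.negSucc 0, Int.negSucc 0, Int.ofNat 1, Int.ofNat 1, Int.negSucc 0, Int.ofNat 1, Int.negSucc 0],
  [Int.negSucc 1, Int.ofNat 0, Int.ofNat 0, Int.ofNat 0, Int.ofNat 0, Int.ofNat 2, Int.ofNat 0, Int.ofNat 0, Int.ofNat 0, Int.ofNat 0, Int.negSucc 1, Int.ofNat 2, Int.ofNat 0, Int.ofNat 0, Int.ofNat 2, Int.ofNat 0, Int.negSucc 1, Int.ofNat 2, Int.ofNat 0, Int.ofNat 0, Int.ofNat 0, Int.negSucc 1, Int.ofNat 0, Int.ofNat 0],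
  [Int.negSucc 1, Int.ofNat 0, Int.ofNat 0, Int.ofNat 0, Int.ofNat 0, Int.negSucc 1, Int.ofNat 0, Int.ofNat 2, Int.negSucc 1, Int.ofNat 0, Int.ofNat 0, Int.ofNat 0, Int.ofNat 0, Int.ofNat 0, Int.ofNat 2, Int.ofNat 0, Int.ofNat 0, Int.ofNat 2, Int.ofNat 0, Int.ofNat 0, Int.negSucc 1, Int.ofNat 0, Int.ofNat 2, Int.ofNat 0],
  [Int.ofNat 1, Int.negSucc 0, Int.negSucc 0, Int.negSucc 0, Int.negSucc 0, Int.negSucc 2, Int.negSucc 0, Int.ofNat 1, Int.negSucc 0, Int.ofNat 1, Int.ofNat 1, Int.ofNat 1, Int.ofNat 1, Int.negSucc 0, Int.ofNat 1, Int.ofNat 1, Int.negSucc 0, Int.ofNat 1, Int.ofNat 1, Int.negSucc 0, Int.negSucc 0, Int.negSucc 0, Int.ofNat 1, Int.negSucc 0],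
  [Int.negSucc 0, Int.negSucc 0, Int.ofNat 1, Int.ofNat 1, Int.negSucc 0, Int.negSucc 0, Int.negSucc 0, Int.negSucc 0, Int.negSucc 2, Int.negSucc 0, Int.ofNat 1, Int.negSucc 0, Int.ofNat 1, Int.ofNat 1, Int.ofNat 1, Int.ofNat 1, Int.negSucc 0, Int.ofNat 1, Int.ofNat 1, Int.negSucc 0, Int.ofNat 1, Int.ofNat 1, Int.negSucc 0, Int.negSucc 0],
  [Int.ofNat 0, Int.ofNat 0, Int.negSucc 1, Int.ofNat 0, Int.ofNat 0, Int.negSucc 1, Int.ofNat 0, Int.ofNat 0, Int.negSucc 1, Int.negSucc 1, Int.ofNat 0, Int.ofNat 0, Int.ofNat 2, Int.ofNat 2, Int.ofNat 0, Int.ofNat 0, Int.ofNat 0, Int.ofNat 0, Int.ofNat 2, Int.ofNat 0, Int.ofNat 0, Int.ofNat 2, Int.ofNat 0, Int.ofNat 0],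
  [Int.ofNat 0, Int.negSucc 1, Int.ofNat 0, Int.ofNat 0, Int.negSucc 1, Int.ofNat 0, Int.ofNat 0, Int.negSucc 1, Int.negSucc 1, Int.ofNat 0, Int.ofNat 0, Int.ofNat 2, Int.ofNat 2, Int.ofNat 0, Int.ofNat 0, Int.ofNat 0, Int.ofNat 0, Int.ofNat 2, Int.ofNat 0, Int.ofNat 0, Int.ofNat 2, Int.ofNat 0, Int.ofNat 0, Int.ofNat 0],
  [Int.ofNat 0, Int.negSucc 1, Int.ofNat 0, Int.ofNat 0, Int.negSucc 1, Int.ofNat 0, Int.ofNat 0, Int.ofNat 2, Int.negSucc 1, Int.ofNat 0, Int.ofNat 0, Int.negSucc 1, Int.ofNat 2, Int.ofNat 0, Int.ofNat 0, Int.ofNat 0, Int.ofNat 0, Int.ofNat 2, Int.ofNat 0, Int.ofNat 0, Int.ofNat 2, Int.ofNat 0, Int.ofNat 0, Int.ofNat 0],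
  [Int.ofNat 0, Int.ofNat 2, Int.ofNat 0, Int.ofNat 0, Int.ofNat 2, Int.ofNat 0, Int.ofNat 0, Int.ofNat 2, Int.ofNat 2, Int.ofNat 0, Int.ofNat 0, Int.negSucc 1, Int.negSucc 1, Int.ofNat 0, Int.ofNat 0, Int.ofNat 0, Int.ofNat 0, Int.ofNat 2, Int.ofNat 0, Int.ofNat 0, Int.ofNat 2, Int.ofNat 0, Int.ofNat 0, Int.ofNat 0],
  [Int.ofNat 0, Int.ofNat 0, Int.negSucc 1, Int.ofNat 0, Int.ofNat 2, Int.ofNat 0, Int.ofNat 0, Int.ofNat 0, Int.ofNat 2, Int.ofNat 0, Int.ofNat 0, Int.ofNat 0, Int.ofNat 0, Int.ofNat 2, Int.ofNat 0, Int.ofNat 0, Int.ofNat 0, Int.ofNat 2, Int.ofNat 0, Int.ofNat 0, Int.ofNat 2, Int.negSucc 1, Int.ofNat 2, Int.ofNat 0],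
  [Int.ofNat 0, Int.ofNat 0, Int.ofNat 2, Int.ofNat 0, Int.ofNat 2, Int.ofNat 0, Int.ofNat 0, Int.ofNat 0, Int.ofNat 2, Int.ofNat 0, Int.ofNat 0, Int.ofNat 0, Int.ofNat 0, Int.ofNat 2, Int.ofNat 0, Int.ofNat 0, Int.ofNat 0, Int.ofNat 2, Int.ofNat 0, Int.ofNat 0, Int.ofNat 2, Int.ofNat 2, Int.ofNat 2, Int.ofNat 0],
  [Int.ofNat 2, Int.ofNat 0, Int.ofNat 0, Int.ofNat 2, Int.ofNat 0, Int.ofNat 2, Int.ofNat 0, Int.ofNat 0, Int.ofNat 0, Int.ofNat 2, Int.ofNat 0, Int.ofNat 0, Int.ofNat 0, Int.ofNat 0, Int.ofNat 2, Int.ofNat 0, Int.ofNat 0, Int.ofNat 0, Int.ofNat 2, Int.ofNat 0, Int.ofNat 0, Int.ofNat 2, Int.ofNat 2, Int.ofNat 0],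
  [Int.negSucc 0, Int.ofNat 1, Int.ofNat 1, Int.negSucc 0, Int.negSucc 0, Int.negSucc 0, Int.negSucc 0, Int.negSucc 0, Int.negSucc 0, Int.ofNat 1, Int.negSucc 0, Int.negSucc 0, Int.negSucc 0, Int.negSucc 0, Int.negSucc 0, Int.negSucc 0, Int.negSucc 0, Int.negSucc 2, Int.ofNat 1, Int.negSucc 0, Int.negSucc 0, Int.ofNat 1, Int.ofNat 1, Int.ofNat 1],
  [Int.negSucc 0, Int.negSucc 0, Int.negSucc 0, Int.negSucc 0, Int.negSucc 0, Int.negSucc 0, Int.ofNat 1, Int.negSucc 0, Int.negSucc 0, Int.negSucc 0, Int.negSucc 0, Int.negSucc 0, Int.negSucc 0, Int.negSucc 0, Int.negSucc 2, Int.ofNat 1, Int.negSucc 0, Int.negSucc 0, Int.ofNat 1, Int.ofNat 1, Int.negSucc 0, Int.ofNat 1, Int.ofNat 1, Int.ofNat 1],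
  [Int.ofNat 0, Int.ofNat 0, Int.ofNat 0, Int.ofNat 2, Int.ofNat 0, Int.ofNat 2, Int.ofNat 0, Int.negSucc 1, Int.ofNat 0, Int.ofNat 0, Int.ofNat 0, Int.ofNat 0, Int.ofNat 0, Int.ofNat 0, Int.ofNat 0, Int.ofNat 2, Int.ofNat 0, Int.ofNat 2, Int.ofNat 2, Int.ofNat 0, Int.ofNat 0, Int.ofNat 0, Int.ofNat 2, Int.negSucc 1],
  [Int.ofNat 0, Int.ofNat 0, Int.ofNat 0, Int.ofNat 2, Int.ofNat 2, Int.negSucc 1, Int.ofNat 0, Int.ofNat 0, Int.ofNat 0, Int.ofNat 0, Int.ofNat 0, Int.ofNat 2, Int.ofNat 0, Int.ofNat 0, Int.ofNat 2, Int.ofNat 2, Int.ofNat 0, Int.ofNat 0, Int.ofNat 0, Int.ofNat 0, Int.ofNat 0, Int.ofNat 2, Int.ofNat 0, Int.negSucc 1],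
  [Int.negSucc 0, Int.negSucc 0, Int.negSucc 0, Int.ofNat 1, Int.ofNat 1, Int.negSucc 2, Int.negSucc 0, Int.negSucc 0, Int.negSucc 0, Int.negSucc 0, Int.negSucc 0, Int.ofNat 1, Int.negSucc 0, Int.negSucc 0, Int.ofNat 1, Int.ofNat 1, Int.negSucc 0, Int.negSucc 0, Int.negSucc 0, Int.negSucc 0, Int.negSucc 0, Int.ofNat 1, Int.negSucc 0, Int.ofNat 1],
  [Int.negSucc 0, Int.negSucc 0, Int.ofNat 1, Int.ofNat 1, Int.ofNat 1, Int.ofNat 3, Int.ofNat 1, Int.negSucc 0, Int.negSucc 0, Int.ofNat 1, Int.ofNat 1, Int.ofNat 1, Int.negSucc 0, Int.negSucc 0, Int.ofNat 1, Int.negSucc 0, Int.negSucc 0, Int.negSucc 0, Int.ofNat 1, Int.negSucc 0, Int.negSucc 0, Int.ofNat 1, Int.ofNat 1, Int.ofNat 1],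
  [Int.ofNat 1, Int.negSucc 0, Int.ofNat 1, Int.ofNat 1, Int.negSucc 0, Int.ofNat 1, Int.ofNat 1, Int.negSucc 0, Int.ofNat 1, Int.negSucc 0, Int.ofNat 1, Int.negSucc 0, Int.negSucc 0, Int.negSucc 0, Int.negSucc 0, Int.negSucc 0, Int.ofNat 1, Int.ofNat 1, Int.negSucc 0, Int.ofNat 1, Int.ofNat 3, Int.ofNat 1, Int.negSucc 0, Int.ofNat 1],
  [Int.ofNat 1, Int.negSucc 0, Int.negSucc 0, Int.ofNat 1, Int.negSucc 0, Int.negSucc 0, Int.negSucc 0, Int.negSucc 0, Int.ofNat 1, Int.ofNat 1, Int.negSucc 0, Int.negSucc 0, Int.negSucc 0, Int.negSucc 0, Int.negSucc 0, Int.ofNat 1, Int.ofNat 1, Int.ofNat 1, Int.ofNat 1, Int.ofNat 1, Int.ofNat 3, Int.ofNat 1, Int.ofNat 1, Int.ofNat 1],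
  [Int.negSucc 0, Int.ofNat 1, Int.ofNat 1, Int.ofNat 1, Int.negSucc 0, Int.negSucc 0, Int.negSucc 0, Int.negSucc 0, Int.ofNat 1, Int.negSucc 0, Int.negSucc 2, Int.negSucc 0, Int.negSucc 0, Int.negSucc 0, Int.negSucc 0, Int.negSucc 0, Int.ofNat 1, Int.ofNat 1, Int.ofNat 1, Int.ofNat 1, Int.ofNat 1, Int.ofNat 1, Int.ofNat 1, Int.negSucc 0],
  [Int.negSucc 0, Int.ofNat 1, Int.negSucc 0, Int.ofNat 1, Int.ofNat 1, Int.ofNat 1, Int.ofNat 1, Int.negSucc 0, Int.ofNat 1, Int.negSucc 0, Int.negSucc 0, Int.ofNat 1, Int.ofNat 1, Int.negSucc 0, Int.ofNat 1, Int.negSucc 0, Int.negSucc 0, Int.negSucc 0, Int.negSucc 0, Int.ofNat 1, Int.negSucc 2, Int.ofNat 1, Int.negSucc 0, Int.negSucc 0],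
  [Int.ofNat 0, Int.negSucc 1, Int.ofNat 0, Int.ofNat 0, Int.ofNat 2, Int.ofNat 0, Int.ofNat 0, Int.negSucc 1, Int.ofNat 0, Int.ofNat 2, Int.ofNat 2, Int.ofNat 0, Int.ofNat 0, Int.ofNat 0, Int.ofNat 0, Int.ofNat 2, Int.ofNat 0, Int.negSucc 1, Int.negSucc 1, Int.ofNat 0, Int.ofNat 0, Int.ofNat 0, Int.ofNat 0, Int.ofNat 0],
  [Int.ofNat 0, Int.ofNat 0, Int.ofNat 0, Int.ofNat 0, Int.negSucc 1, Int.ofNat 0, Int.ofNat 0, Int.ofNat 2, Int.ofNat 0, Int.ofNat 0, Int.negSucc 1, Int.ofNat 0, Int.ofNat 2, Int.ofNat 2, Int.ofNat 0, Int.ofNat 0, Int.ofNat 0, Int.ofNat 0, Int.ofNat 2, Int.ofNat 0, Int.negSucc 1, Int.negSucc 1, Int.ofNat 0, Int.ofNat 0],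
  [Int.ofNat 0, Int.ofNat 0, Int.ofNat 0, Int.ofNat 0, Int.negSucc 1, Int.ofNat 0, Int.ofNat 0, Int.ofNat 2, Int.negSucc 1, Int.ofNat 2, Int.ofNat 0, Int.negSucc 1, Int.ofNat 0, Int.ofNat 2, Int.ofNat 0, Int.ofNat 2, Int.ofNat 0, Int.ofNat 0, Int.ofNat 0, Int.ofNat 0, Int.ofNat 0, Int.negSucc 1, Int.ofNat 0, Int.ofNat 0],
  [Int.ofNat 0, Int.ofNat 0, Int.ofNat 0, Int.negSucc 1, Int.ofNat 0, Int.ofNat 0, Int.ofNat 2, Int.negSucc 1, Int.ofNat 2, Int.ofNat 0, Int.negSucc 1, Int.ofNat 0, Int.ofNat 2, Int.ofNat 0, Int.ofNat 2, Int.ofNat 0, Int.ofNat 0, Int.ofNat 0, Int.ofNat 0, Int.ofNat 0, Int.negSucc 1, Int.ofNat 0, Int.ofNat 0, Int.ofNat 0],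
  [Int.ofNat 0, Int.ofNat 0, Int.ofNat 0, Int.negSucc 1, Int.ofNat 0, Int.ofNat 0, Int.ofNat 2, Int.ofNat 2, Int.ofNat 2, Int.ofNat 0, Int.ofNat 2, Int.ofNat 0, Int.ofNat 2, Int.ofNat 0, Int.ofNat 2, Int.ofNat 0, Int.ofNat 0, Int.ofNat 0, Int.ofNat 0, Int.ofNat 0, Int.negSucc 1, Int.ofNat 0, Int.ofNat 0, Int.ofNat 0],
  [Int.ofNat 0, Int.ofNat 0, Int.ofNat 0, Int.ofNat 2, Int.ofNat 0, Int.ofNat 0, Int.negSucc 1, Int.ofNat 2, Int.negSucc 1, Int.ofNat 0, Int.ofNat 2, Int.ofNat 0, Int.negSucc 1, Int.ofNat 0, Int.ofNat 2, Int.ofNat 0, Int.ofNat 0, Int.ofNat 0, Int.ofNat 0, Int.ofNat 0, Int.negSucc 1, Int.ofNat 0, Int.ofNat 0, Int.ofNat 0],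
  [Int.ofNat 0, Int.ofNat 0, Int.ofNat 0, Int.ofNat 0, Int.ofNat 0, Int.ofNat 0, Int.ofNat 0, Int.ofNat 0, Int.negSucc 1, Int.ofNat 0, Int.ofNat 0, Int.ofNat 0, Int.ofNat 0, Int.ofNat 2, Int.ofNat 0, Int.ofNat 2, Int.ofNat 2, Int.ofNat 0, Int.ofNat 2, Int.negSucc 1, Int.negSucc 1, Int.negSucc 1, Int.ofNat 0, Int.ofNat 0],
  [Int.ofNat 0, Int.ofNat 0, Int.ofNat 0, Int.ofNat 0, Int.ofNat 0, Int.ofNat 0, Int.ofNat 0, Int.ofNat 0, Int.negSucc 1, Int.ofNat 0, Int.ofNat 0, Int.ofNat 0, Int.ofNat 0, Int.ofNat 2, Int.ofNat 0, Int.ofNat 2, Int.ofNat 2, Int.ofNat 0, Int.negSucc 1, Int.negSucc 1, Int.negSucc 1, Int.ofNat 2, Int.ofNat 0, Int.ofNat 0],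
  [Int.ofNat 0, Int.ofNat 0, Int.ofNat 0, Int.ofNat 0, Int.ofNat 0, Int.ofNat 0, Int.ofNat 0, Int.ofNat 0, Int.ofNat 0, Int.negSucc 1, Int.ofNat 0, Int.ofNat 0, Int.ofNat 0, Int.ofNat 0, Int.ofNat 2, Int.ofNat 0, Int.ofNat 2, Int.ofNat 2, Int.ofNat 0, Int.negSucc 1, Int.negSucc 1, Int.negSucc 1, Int.ofNat 2, Int.ofNat 0],
  [Int.ofNat 0, Int.ofNat 0, Int.ofNat 0, Int.negSucc 1, Int.negSucc 1, Int.negSucc 1, Int.ofNat 2, Int.ofNat 2, Int.ofNat 0, Int.ofNat 0, Int.ofNat 2, Int.ofNat 0, Int.ofNat 0, Int.negSucc 1, Int.ofNat 0, Int.ofNat 2, Int.ofNat 0, Int.ofNat 0, Int.ofNat 0, Int.ofNat 0, Int.ofNat 0, Int.ofNat 0, Int.ofNat 0, Int.ofNat 0],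
  [Int.negSucc 1, Int.negSucc 1, Int.negSucc 1, Int.ofNat 2, Int.ofNat 2, Int.ofNat 0, Int.ofNat 0, Int.ofNat 2, Int.ofNat 0, Int.ofNat 0, Int.negSucc 1, Int.ofNat 0, Int.ofNat 2, Int.ofNat 0, Int.ofNat 0, Int.ofNat 0, Int.ofNat 0, Int.ofNat 0, Int.ofNat 0, Int.ofNat 0, Int.ofNat 0, Int.ofNat 0, Int.ofNat 0, Int.ofNat 0],
  [Int.negSucc 0, Int.negSucc 0, Int.negSucc 0, Int.ofNat 1, Int.ofNat 1, Int.negSucc 0, Int.negSucc 0, Int.ofNat 1, Int.negSucc 0, Int.ofNat 1, Int.negSucc 0, Int.negSucc 0, Int.ofNat 1, Int.negSucc 0, Int.negSucc 0, Int.ofNat 1, Int.negSucc 0, Int.negSucc 0, Int.negSucc 0, Int.negSucc 0, Int.ofNat 1, Int.negSucc 0, Int.negSucc 0, Int.negSucc 2],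
  [Int.negSucc 0, Int.negSucc 0, Int.ofNat 1, Int.ofNat 1, Int.negSucc 0, Int.ofNat 1, Int.negSucc 0, Int.negSucc 0, Int.ofNat 1, Int.negSucc 0, Int.ofNat 1, Int.negSucc 0, Int.ofNat 1, Int.negSucc 0, Int.negSucc 0, Int.ofNat 1, Int.negSucc 0, Int.negSucc 0, Int.negSucc 0, Int.negSucc 0, Int.negSucc 0, Int.negSucc 0, Int.negSucc 0, Int.negSucc 2],
  [Int.negSucc 0, Int.negSucc 0, Int.negSucc 2, Int.ofNat 1, Int.ofNat 1, Int.ofNat 1, Int.ofNat 1, Int.ofNat 1, Int.ofNat 1, Int.negSucc 0, Int.ofNat 1, Int.negSucc 0, Int.ofNat 1, Int.ofNat 1, Int.negSucc 0, Int.ofNat 1, Int.ofNat 1, Int.negSucc 0, Int.negSucc 0, Int.ofNat 1, Int.negSucc 0, Int.ofNat 1, Int.ofNat 1, Int.ofNat 1],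
  [Int.negSucc 0, Int.negSucc 0, Int.ofNat 3, Int.ofNat 1, Int.ofNat 1, Int.negSucc 0, Int.negSucc 0, Int.ofNat 1, Int.ofNat 1, Int.ofNat 1, Int.negSucc 0, Int.negSucc 0, Int.ofNat 1, Int.ofNat 1, Int.negSucc 0, Int.negSucc 0, Int.ofNat 1, Int.negSucc 0, Int.ofNat 1, Int.ofNat 1, Int.negSucc 0, Int.ofNat 1, Int.negSucc 0, Int.ofNat 1],
  [Int.ofNat 3, Int.negSucc 0, Int.ofNat 1, Int.ofNat 1, Int.negSucc 0, Int.ofNat 1, Int.negSucc 0, Int.ofNat 1, Int.negSucc 0, Int.ofNat 1, Int.negSucc 0, Int.ofNat 1, Int.ofNat 1, Int.negSucc 0, Int.ofNat 1, Int.ofNat 1, Int.negSucc 0, Int.ofNat 1, Int.negSucc 0, Int.ofNat 1, Int.negSucc 0, Int.negSucc 0, Int.negSucc 0, Int.ofNat 1],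
  [Int.ofNat 3, Int.negSucc 0, Int.negSucc 0, Int.ofNat 1, Int.negSucc 0, Int.negSucc 0, Int.ofNat 1, Int.ofNat 1, Int.negSucc 0, Int.negSucc 0, Int.ofNat 1, Int.ofNat 1, Int.ofNat 1, Int.negSucc 0, Int.ofNat 1, Int.negSucc 0, Int.negSucc 0, Int.ofNat 1, Int.ofNat 1, Int.ofNat 1, Int.negSucc 0, Int.negSucc 0, Int.ofNat 1, Int.ofNat 1],
  [Int.negSucc 1, Int.ofNat 2, Int.ofNat 2, Int.ofNat 0, Int.ofNat 0, Int.negSucc 1, Int.ofNat 0, Int.ofNat 0, Int.negSucc 1, Int.ofNat 0, Int.ofNat 2, Int.ofNat 0, Int.ofNat 0, Int.ofNat 0, Int.ofNat 0, Int.ofNat 0, Int.ofNat 0, Int.ofNat 0, Int.ofNat 0, Int.ofNat 0, Int.ofNat 0, Int.negSucc 1, Int.ofNat 2, Int.ofNat 0],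
  [Int.negSucc 1, Int.ofNat 0, Int.ofNat 0, Int.ofNat 0, Int.ofNat 2, Int.negSucc 1, Int.ofNat 2, Int.negSucc 1, Int.ofNat 0, Int.ofNat 0, Int.ofNat 0, Int.ofNat 0, Int.negSucc 1, Int.ofNat 0, Int.ofNat 0, Int.ofNat 0, Int.ofNat 0, Int.ofNat 0, Int.ofNat 0, Int.ofNat 2, Int.ofNat 2, Int.ofNat 0, Int.ofNat 0, Int.ofNat 0],
  [Int.ofNat 1, Int.negSucc 0, Int.negSucc 0, Int.ofNat 1, Int.ofNat 1, Int.negSucc 0, Int.ofNat 1, Int.negSucc 2, Int.ofNat 1, Int.negSucc 0, Int.negSucc 0, Int.ofNat 1, Int.negSucc 0, Int.negSucc 0, Int.ofNat 1, Int.negSucc 0, Int.negSucc 0, Int.ofNat 1, Int.ofNat 1, Int.ofNat 1, Int.ofNat 1, Int.negSucc 0, Int.negSucc 0, Int.negSucc 0],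
  [Int.ofNat 1, Int.negSucc 0, Int.negSucc 0, Int.ofNat 1, Int.negSucc 0, Int.negSucc 0, Int.ofNat 1, Int.ofNat 1, Int.negSucc 0, Int.ofNat 1, Int.negSucc 2, Int.ofNat 1, Int.negSucc 0, Int.negSucc 0, Int.ofNat 1, Int.negSucc 0, Int.negSucc 0, Int.ofNat 1, Int.negSucc 0, Int.negSucc 0, Int.ofNat 1, Int.ofNat 1, Int.ofNat 1, Int.negSucc 0],
  [Int.negSucc 1, Int.ofNat 0, Int.ofNat 0, Int.ofNat 0, Int.ofNat 0, Int.negSucc 1, Int.ofNat 0, Int.ofNat 0, Int.ofNat 0, Int.ofNat 2, Int.negSucc 1, Int.ofNat 2, Int.ofNat 0, Int.ofNat 0, Int.ofNat 0, Int.ofNat 0, Int.ofNat 0, Int.ofNat 0, Int.ofNat 0, Int.negSucc 1, Int.ofNat 2, Int.ofNat 0, Int.ofNat 2, Int.ofNat 0],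
  [Int.ofNat 0, Int.ofNat 0, Int.ofNat 0, Int.ofNat 0, Int.negSucc 1, Int.ofNat 0, Int.ofNat 0, Int.ofNat 0, Int.ofNat 2, Int.negSucc 1, Int.ofNat 2, Int.ofNat 0, Int.ofNat 0, Int.ofNat 0, Int.ofNat 0, Int.ofNat 0, Int.ofNat 0, Int.ofNat 0, Int.negSucc 1, Int.ofNat 2, Int.ofNat 0, Int.ofNat 2, Int.negSucc 1, Int.ofNat 0],
  [Int.ofNat 0, Int.ofNat 0, Int.ofNat 0, Int.ofNat 0, Int.negSucc 1, Int.ofNat 0, Int.ofNat 0, Int.ofNat 0, Int.ofNat 2, Int.ofNat 2, Int.negSucc 1, Int.ofNat 0, Int.ofNat 0, Int.ofNat 0, Int.ofNat 0, Int.ofNat 0, Int.ofNat 0, Int.ofNat 0, Int.ofNat 2, Int.ofNat 2, Int.ofNat 0, Int.negSucc 1, Int.negSucc 1, Int.ofNat 0],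
  [Int.ofNat 0, Int.ofNat 0, Int.ofNat 0, Int.ofNat 0, Int.ofNat 2, Int.ofNat 0, Int.ofNat 0, Int.ofNat 0, Int.negSucc 1, Int.negSucc 1, Int.negSucc 1, Int.ofNat 0, Int.ofNat 0, Int.ofNat 0, Int.ofNat 0, Int.ofNat 0, Int.ofNat 0, Int.ofNat 0, Int.negSucc 1, Int.ofNat 2, Int.ofNat 0, Int.negSucc 1, Int.negSucc 1, Int.ofNat 0],
  [Int.ofNat 0, Int.negSucc 1, Int.ofNat 0, Int.ofNat 0, Int.ofNat 0, Int.negSucc 1, Int.ofNat 2, Int.ofNat 0, Int.ofNat 0, Int.ofNat 0, Int.ofNat 0, Int.ofNat 0, Int.negSucc 1, Int.ofNat 0, Int.negSucc 1, Int.ofNat 0, Int.negSucc 1, Int.ofNat 2, Int.ofNat 0, Int.ofNat 0, Int.negSucc 1, Int.ofNat 0, Int.ofNat 0, Int.ofNat 0],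
  [Int.ofNat 0, Int.negSucc 1, Int.ofNat 0, Int.ofNat 0, Int.ofNat 0, Int.negSucc 1, Int.ofNat 2, Int.ofNat 0, Int.ofNat 0, Int.ofNat 0, Int.ofNat 0, Int.ofNat 0, Int.negSucc 1, Int.ofNat 0, Int.negSucc 1, Int.ofNat 0, Int.negSucc 1, Int.ofNat 2, Int.ofNat 0, Int.ofNat 0, Int.negSucc 1, Int.ofNat 0, Int.ofNat 0, Int.ofNat 0],
  [Int.ofNat 0, Int.ofNat 0, Int.negSucc 1, Int.ofNat 0, Int.ofNat 0, Int.ofNat 0, Int.negSucc 1, Int.ofNat 2, Int.ofNat 0, Int.ofNat 0, Int.ofNat 0, Int.ofNat 0, Int.ofNat 0, Int.negSucc 1, Int.ofNat 0, Int.negSucc 1, Int.ofNat 0, Int.negSucc 1, Int.ofNat 2, Int.ofNat 0, Int.ofNat 0, Int.negSucc 1, Int.ofNat 0, Int.ofNat 0],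
  [Int.negSucc 0, Int.negSucc 0, Int.ofNat 1, Int.ofNat 1, Int.ofNat 1, Int.ofNat 1, Int.negSucc 0, Int.ofNat 3, Int.negSucc 0, Int.ofNat 1, Int.ofNat 1, Int.negSucc 0, Int.negSucc 0, Int.negSucc 0, Int.ofNat 1, Int.negSucc 0, Int.ofNat 1, Int.negSucc 0, Int.ofNat 1, Int.ofNat 1, Int.ofNat 1, Int.negSucc 0, Int.ofNat 1, Int.negSucc 0],
  [Int.ofNat 1, Int.ofNat 1, Int.ofNat 1, Int.negSucc 0, Int.ofNat 3, Int.negSucc 0, Int.ofNat 1, Int.ofNat 1, Int.negSucc 0, Int.negSucc 0, Int.negSucc 0, Int.ofNat 1, Int.negSucc 0, Int.ofNat 1, Int.negSucc 0, Int.ofNat 1, Int.ofNat 1, Int.ofNat 1, Int.negSucc 0, Int.ofNat 1, Int.negSucc 0, Int.negSucc 0, Int.ofNat 1, Int.negSucc 0],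
  [Int.ofNat 0, Int.ofNat 0, Int.ofNat 0, Int.ofNat 0, Int.ofNat 0, Int.ofNat 0, Int.ofNat 0, Int.ofNat 0, Int.ofNat 0, Int.ofNat 0, Int.ofNat 0, Int.ofNat 2, Int.ofNat 0, Int.negSucc 1, Int.ofNat 0, Int.ofNat 2, Int.negSucc 1, Int.ofNat 2, Int.ofNat 0, Int.ofNat 0, Int.ofNat 0, Int.negSucc 1, Int.negSucc 1, Int.ofNat 2],
  [Int.ofNat 0, Int.ofNat 0, Int.ofNat 0, Int.ofNat 0, Int.ofNat 0, Int.ofNat 0, Int.ofNat 0, Int.ofNat 0, Int.ofNat 0, Int.negSucc 1, Int.ofNat 0, Int.ofNat 2, Int.ofNat 0, Int.negSucc 1, Int.negSucc 1, Int.ofNat 2, Int.ofNat 0, Int.ofNat 0, Int.ofNat 0, Int.ofNat 2, Int.negSucc 1, Int.ofNat 0, Int.ofNat 0, Int.ofNat 2],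
  [Int.ofNat 1, Int.ofNat 1, Int.ofNat 1, Int.ofNat 1, Int.ofNat 1, Int.ofNat 1, Int.negSucc 0, Int.negSucc 0, Int.negSucc 0, Int.negSucc 0, Int.ofNat 1, Int.ofNat 1, Int.negSucc 0, Int.negSucc 0, Int.negSucc 0, Int.ofNat 3, Int.ofNat 1, Int.ofNat 1, Int.negSucc 0, Int.ofNat 1, Int.negSucc 0, Int.negSucc 0, Int.ofNat 1, Int.negSucc 0],
  [Int.ofNat 1, Int.ofNat 1, Int.negSucc 0, Int.ofNat 1, Int.ofNat 1, Int.negSucc 0, Int.ofNat 1, Int.negSucc 0, Int.negSucc 0, Int.ofNat 1, Int.negSucc 0, Int.ofNat 1, Int.negSucc 0, Int.negSucc 0, Int.negSucc 0, Int.negSucc 2, Int.ofNat 1, Int.ofNat 1, Int.ofNat 1, Int.ofNat 1, Int.negSucc 0, Int.negSucc 0, Int.negSucc 0, Int.negSucc 0],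
  [Int.negSucc 0, Int.ofNat 1, Int.ofNat 1, Int.negSucc 0, Int.negSucc 2, Int.ofNat 1, Int.negSucc 0, Int.negSucc 0, Int.ofNat 1, Int.negSucc 0, Int.negSucc 0, Int.ofNat 1, Int.ofNat 1, Int.negSucc 0, Int.negSucc 0, Int.negSucc 0, Int.negSucc 0, Int.ofNat 1, Int.ofNat 1, Int.ofNat 1, Int.negSucc 0, Int.ofNat 1, Int.ofNat 1, Int.negSucc 0],
  [Int.negSucc 0, Int.ofNat 1, Int.negSucc 0, Int.negSucc 0, Int.negSucc 2, Int.negSucc 0, Int.ofNat 1, Int.negSucc 0, Int.ofNat 1, Int.ofNat 1, Int.ofNat 1, Int.ofNat 1, Int.ofNat 1, Int.negSucc 0, Int.negSucc 0, Int.ofNat 1, Int.negSucc 0, Int.ofNat 1, Int.negSucc 0, Int.ofNat 1, Int.negSucc 0, Int.ofNat 1, Int.negSucc 0, Int.negSucc 0],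
  [Int.ofNat 0, Int.negSucc 1, Int.ofNat 0, Int.ofNat 0, Int.ofNat 0, Int.ofNat 0, Int.ofNat 0, Int.negSucc 1, Int.ofNat 0, Int.ofNat 0, Int.ofNat 0, Int.ofNat 0, Int.ofNat 0, Int.ofNat 2, Int.ofNat 0, Int.ofNat 0, Int.ofNat 2, Int.ofNat 2, Int.negSucc 1, Int.ofNat 0, Int.negSucc 1, Int.ofNat 0, Int.ofNat 2, Int.ofNat 0],
  [Int.ofNat 0, Int.negSucc 1, Int.ofNat 0, Int.ofNat 0, Int.ofNat 0, Int.ofNat 0, Int.negSucc 1, Int.ofNat 0, Int.ofNat 2, Int.ofNat 0, Int.negSucc 1, Int.ofNat 0, Int.ofNat 0, Int.ofNat 0, Int.ofNat 2, Int.ofNat 0, Int.ofNat 2, Int.ofNat 0, Int.ofNat 0, Int.ofNat 2, Int.ofNat 0, Int.negSucc 1, Int.ofNat 0, Int.ofNat 0],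
  [Int.negSucc 0, Int.ofNat 1, Int.negSucc 0, Int.negSucc 0, Int.negSucc 0, Int.negSucc 0, Int.negSucc 0, Int.ofNat 1, Int.ofNat 1, Int.ofNat 1, Int.negSucc 0, Int.negSucc 0, Int.negSucc 0, Int.negSucc 0, Int.ofNat 1, Int.ofNat 1, Int.ofNat 1, Int.negSucc 0, Int.negSucc 0, Int.ofNat 3, Int.ofNat 1, Int.negSucc 0, Int.negSucc 0, Int.negSucc 0],
  [Int.ofNat 1, Int.negSucc 0, Int.negSucc 0, Int.negSucc 0, Int.ofNat 1, Int.negSucc 0, Int.negSucc 0, Int.negSucc 0, Int.negSucc 0, Int.negSucc 0, Int.ofNat 1, Int.ofNat 1, Int.ofNat 1, Int.negSucc 0, Int.negSucc 0, Int.negSucc 0, Int.negSucc 0, Int.ofNat 1, Int.ofNat 1, Int.ofNat 1, Int.negSucc 0, Int.negSucc 0, Int.ofNat 3, Int.negSucc 0],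
  [Int.negSucc 1, Int.ofNat 0, Int.ofNat 0, Int.ofNat 0, Int.ofNat 0, Int.ofNat 0, Int.ofNat 0, Int.ofNat 0, Int.negSucc 1, Int.ofNat 0, Int.ofNat 2, Int.ofNat 0, Int.ofNat 0, Int.negSucc 1, Int.ofNat 0, Int.ofNat 0, Int.negSucc 1, Int.ofNat 2, Int.ofNat 0, Int.ofNat 2, Int.ofNat 0, Int.ofNat 0, Int.ofNat 2, Int.ofNat 0],
  [Int.ofNat 0, Int.ofNat 0, Int.ofNat 0, Int.ofNat 0, Int.ofNat 0, Int.ofNat 0, Int.ofNat 0, Int.negSucc 1, Int.ofNat 0, Int.ofNat 2, Int.ofNat 0, Int.ofNat 0, Int.negSucc 1, Int.ofNat 0, Int.ofNat 0, Int.negSucc 1, Int.ofNat 2, Int.ofNat 0, Int.ofNat 2, Int.ofNat 0, Int.ofNat 0, Int.ofNat 2, Int.negSucc 1, Int.ofNat 0],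
  [Int.ofNat 0, Int.ofNat 0, Int.ofNat 0, Int.ofNat 0, Int.ofNat 0, Int.ofNat 0, Int.ofNat 0, Int.ofNat 2, Int.ofNat 0, Int.negSucc 1, Int.ofNat 0, Int.ofNat 0, Int.negSucc 1, Int.ofNat 0, Int.ofNat 0, Int.negSucc 1, Int.ofNat 2, Int.ofNat 0, Int.negSucc 1, Int.ofNat 0, Int.ofNat 0, Int.negSucc 1, Int.negSucc 1, Int.ofNat 0],
  [Int.ofNat 0, Int.ofNat 0, Int.ofNat 0, Int.ofNat 0, Int.ofNat 0, Int.ofNat 0, Int.ofNat 0, Int.ofNat 2, Int.ofNat 0, Int.ofNat 2, Int.ofNat 0, Int.ofNat 0, Int.ofNat 2, Int.ofNat 0, Int.ofNat 0, Int.negSucc 1, Int.negSucc 1, Int.ofNat 0, Int.ofNat 2, Int.ofNat 0, Int.ofNat 0, Int.negSucc 1, Int.negSucc 1, Int.ofNat 0],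
  [Int.ofNat 0, Int.negSucc 1, Int.ofNat 0, Int.negSucc 1, Int.ofNat 0, Int.ofNat 2, Int.ofNat 0, Int.ofNat 0, Int.ofNat 0, Int.ofNat 0, Int.negSucc 1, Int.ofNat 0, Int.negSucc 1, Int.ofNat 2, Int.ofNat 2, Int.ofNat 0, Int.ofNat 0, Int.ofNat 0, Int.ofNat 0, Int.ofNat 0, Int.ofNat 0, Int.ofNat 2, Int.ofNat 0, Int.ofNat 0],
  [Int.ofNat 0, Int.negSucc 1, Int.ofNat 0, Int.negSucc 1, Int.ofNat 0, Int.ofNat 2, Int.ofNat 0, Int.ofNat 0, Int.ofNat 0, Int.ofNat 0, Int.ofNat 2, Int.ofNat 0, Int.negSucc 1, Int.ofNat 2, Int.ofNat 2, Int.ofNat 0, Int.ofNat 0, Int.ofNat 0, Int.ofNat 0, Int.ofNat 0, Int.ofNat 0, Int.negSucc 1, Int.ofNat 0, Int.ofNat 0],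
  [Int.ofNat 0, Int.ofNat 0, Int.negSucc 1, Int.ofNat 0, Int.negSucc 1, Int.ofNat 0, Int.ofNat 2, Int.ofNat 0, Int.ofNat 0, Int.ofNat 0, Int.ofNat 0, Int.ofNat 2, Int.ofNat 0, Int.negSucc 1, Int.ofNat 2, Int.ofNat 2, Int.ofNat 0, Int.ofNat 0, Int.ofNat 0, Int.ofNat 0, Int.ofNat 0, Int.ofNat 0, Int.negSucc 1, Int.ofNat 0],
  [Int.negSucc 0, Int.negSucc 0, Int.ofNat 1, Int.negSucc 0, Int.ofNat 1, Int.negSucc 0, Int.ofNat 1, Int.negSucc 0, Int.negSucc 0, Int.negSucc 0, Int.negSucc 0, Int.ofNat 1, Int.negSucc 0, Int.ofNat 1, Int.ofNat 1, Int.ofNat 1, Int.ofNat 3, Int.negSucc 0, Int.negSucc 0, Int.negSucc 0, Int.negSucc 0, Int.negSucc 0, Int.ofNat 1, Int.negSucc 0],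
  [Int.negSucc 0, Int.ofNat 1, Int.negSucc 0, Int.ofNat 1, Int.negSucc 0, Int.negSucc 0, Int.negSucc 0, Int.negSucc 0, Int.ofNat 1, Int.negSucc 0, Int.ofNat 1, Int.ofNat 1, Int.ofNat 1, Int.ofNat 3, Int.negSucc 0, Int.negSucc 0, Int.negSucc 0, Int.negSucc 0, Int.negSucc 0, Int.ofNat 1, Int.negSucc 0, Int.negSucc 0, Int.ofNat 1, Int.negSucc 0],
  [Int.ofNat 0, Int.negSucc 1, Int.ofNat 0, Int.ofNat 2, Int.negSucc 1, Int.ofNat 0, Int.ofNat 0, Int.ofNat 0, Int.ofNat 0, Int.ofNat 0, Int.ofNat 2, Int.ofNat 0, Int.ofNat 0, Int.ofNat 2, Int.ofNat 0, Int.ofNat 0, Int.negSucc 1, Int.ofNat 0, Int.negSucc 1, Int.ofNat 2, Int.ofNat 0, Int.ofNat 0, Int.ofNat 0, Int.ofNat 0],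
  [Int.ofNat 0, Int.ofNat 0, Int.negSucc 1, Int.ofNat 2, Int.negSucc 1, Int.ofNat 0, Int.ofNat 0, Int.ofNat 2, Int.ofNat 0, Int.ofNat 2, Int.ofNat 0, Int.ofNat 0, Int.ofNat 0, Int.negSucc 1, Int.ofNat 0, Int.ofNat 0, Int.ofNat 0, Int.ofNat 0, Int.negSucc 1, Int.ofNat 0, Int.ofNat 0, Int.ofNat 0, Int.ofNat 2, Int.ofNat 0],
  [Int.negSucc 0, Int.negSucc 0, Int.ofNat 1, Int.ofNat 1, Int.negSucc 0, Int.negSucc 0, Int.negSucc 0, Int.ofNat 1, Int.ofNat 1, Int.ofNat 1, Int.negSucc 0, Int.ofNat 1, Int.ofNat 1, Int.negSucc 0, Int.negSucc 0, Int.negSucc 0, Int.ofNat 1, Int.negSucc 0, Int.negSucc 0, Int.negSucc 0, Int.negSucc 0, Int.negSucc 0, Int.ofNat 3, Int.negSucc 0],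
  [Int.negSucc 0, Int.negSucc 0, Int.negSucc 0, Int.ofNat 1, Int.negSucc 0, Int.ofNat 1, Int.ofNat 1, Int.ofNat 1, Int.ofNat 1, Int.negSucc 0, Int.ofNat 1, Int.ofNat 1, Int.ofNat 1, Int.negSucc 0, Int.negSucc 0, Int.ofNat 1, Int.ofNat 1, Int.negSucc 0, Int.ofNat 1, Int.negSucc 0, Int.negSucc 0, Int.negSucc 0, Int.negSucc 2, Int.negSucc 0],
  [Int.negSucc 0, Int.negSucc 0, Int.negSucc 0, Int.negSucc 0, Int.ofNat 1, Int.ofNat 1, Int.negSucc 0, Int.negSucc 0, Int.ofNat 1, Int.ofNat 1, Int.negSucc 2, Int.ofNat 1, Int.negSucc 0, Int.negSucc 0, Int.ofNat 1, Int.ofNat 1, Int.ofNat 1, Int.negSucc 0, Int.negSucc 0, Int.ofNat 1, Int.ofNat 1, Int.ofNat 1, Int.negSucc 0, Int.negSucc 0],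
  [Int.negSucc 0, Int.negSucc 0, Int.ofNat 1, Int.negSucc 0, Int.ofNat 1, Int.negSucc 0, Int.ofNat 1, Int.negSucc 0, Int.ofNat 1, Int.negSucc 0, Int.ofNat 3, Int.ofNat 1, Int.negSucc 0, Int.negSucc 0, Int.ofNat 1, Int.negSucc 0, Int.ofNat 1, Int.negSucc 0, Int.ofNat 1, Int.ofNat 1, Int.ofNat 1, Int.ofNat 1, Int.ofNat 1, Int.negSucc 0],
  [Int.ofNat 0, Int.ofNat 0, Int.negSucc 1, Int.ofNat 0, Int.ofNat 0, Int.ofNat 0, Int.ofNat 0, Int.negSucc 1, Int.ofNat 0, Int.negSucc 1, Int.ofNat 2, Int.ofNat 0, Int.negSucc 1, Int.negSucc 1, Int.ofNat 2, Int.negSucc 1, Int.ofNat 0, Int.ofNat 0, Int.ofNat 0, Int.ofNat 0, Int.ofNat 0, Int.ofNat 0, Int.ofNat 0, Int.ofNat 0],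
  [Int.ofNat 0, Int.ofNat 0, Int.ofNat 0, Int.ofNat 0, Int.negSucc 1, Int.ofNat 0, Int.ofNat 0, Int.ofNat 0, Int.ofNat 0, Int.negSucc 1, Int.negSucc 1, Int.ofNat 0, Int.ofNat 0, Int.negSucc 1, Int.ofNat 0, Int.negSucc 1, Int.negSucc 1, Int.ofNat 0, Int.ofNat 0, Int.ofNat 0, Int.ofNat 2, Int.ofNat 0, Int.ofNat 2, Int.ofNat 0],
  [Int.ofNat 0, Int.ofNat 0, Int.ofNat 0, Int.ofNat 0, Int.ofNat 0, Int.ofNat 0, Int.ofNat 0, Int.ofNat 0, Int.ofNat 0, Int.ofNat 0, Int.ofNat 0, Int.ofNat 0, Int.ofNat 0, Int.ofNat 0, Int.ofNat 0, Int.ofNat 0, Int.ofNat 0, Int.ofNat 0, Int.ofNat 0, Int.ofNat 0, Int.ofNat 4, Int.ofNat 0, Int.ofNat 4, Int.ofNat 0],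
  [Int.ofNat 4, Int.ofNat 0, Int.ofNat 4, Int.ofNat 0, Int.ofNat 0, Int.ofNat 0, Int.ofNat 0, Int.ofNat 0, Int.ofNat 0, Int.ofNat 0, Int.ofNat 0, Int.ofNat 0, Int.ofNat 0, Int.ofNat 0, Int.ofNat 0, Int.ofNat 0, Int.ofNat 0, Int.ofNat 0, Int.ofNat 0, Int.ofNat 0, Int.ofNat 0, Int.ofNat 0, Int.ofNat 0, Int.ofNat 0],
  [Int.ofNat 0, Int.ofNat 4, Int.ofNat 0, Int.ofNat 0, Int.ofNat 0, Int.ofNat 0, Int.ofNat 0, Int.ofNat 0, Int.ofNat 0, Int.ofNat 0, Int.ofNat 0, Int.ofNat 0, Int.ofNat 0, Int.ofNat 0, Int.ofNat 0, Int.ofNat 0, Int.ofNat 0, Int.ofNat 0, Int.ofNat 0, Int.ofNat 0, Int.ofNat 0, Int.ofNat 0, Int.ofNat 0, Int.ofNat 4],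
  [Int.ofNat 4, Int.ofNat 0, Int.ofNat 0, Int.ofNat 0, Int.ofNat 0, Int.ofNat 0, Int.ofNat 0, Int.ofNat 0, Int.ofNat 0, Int.ofNat 0, Int.ofNat 0, Int.ofNat 0, Int.ofNat 0, Int.ofNat 0, Int.ofNat 0, Int.ofNat 0, Int.ofNat 0, Int.ofNat 0, Int.ofNat 0, Int.ofNat 0, Int.ofNat 0, Int.ofNat 0, Int.ofNat 0, Int.ofNat 4],
  [Int.negSucc 3, Int.ofNat 0, Int.ofNat 0, Int.ofNat 0, Int.ofNat 0, Int.ofNat 0, Int.ofNat 0, Int.ofNat 0, Int.ofNat 0, Int.ofNat 0, Int.ofNat 0, Int.ofNat 0, Int.ofNat 0, Int.ofNat 0, Int.ofNat 0, Int.ofNat 0, Int.ofNat 0, Int.ofNat 0, Int.ofNat 0, Int.ofNat 0, Int.ofNat 0, Int.ofNat 0, Int.ofNat 0, Int.ofNat 4],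
  [Int.ofNat 4, Int.ofNat 0, Int.ofNat 0, Int.ofNat 0, Int.ofNat 0, Int.ofNat 0, Int.ofNat 0, Int.ofNat 0, Int.ofNat 0, Int.ofNat 0, Int.ofNat 0, Int.ofNat 0, Int.ofNat 0, Int.ofNat 0, Int.ofNat 0, Int.ofNat 0, Int.ofNat 0, Int.ofNat 0, Int.ofNat 0, Int.ofNat 0, Int.ofNat 0, Int.ofNat 0, Int.ofNat 0, Int.ofNat 4],
  [Int.ofNat 4, Int.ofNat 0, Int.ofNat 0, Int.ofNat 0, Int.ofNat 0, Int.ofNat 0, Int.ofNat 0, Int.ofNat 0, Int.ofNat 0, Int.ofNat 0, Int.ofNat 0, Int.ofNat 0, Int.ofNat 0, Int.ofNat 0, Int.ofNat 0, Int.ofNat 0, Int.ofNat 0, Int.ofNat 0, Int.ofNat 0, Int.ofNat 0, Int.ofNat 0, Int.ofNat 0, Int.ofNat 0, Int.ofNat 4],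
  [Int.negSucc 3, Int.ofNat 0, Int.ofNat 0, Int.ofNat 0, Int.ofNat 0, Int.ofNat 0, Int.ofNat 0, Int.ofNat 0, Int.ofNat 0, Int.ofNat 0, Int.ofNat 0, Int.ofNat 0, Int.ofNat 0, Int.ofNat 0, Int.ofNat 0, Int.ofNat 0, Int.ofNat 0, Int.ofNat 0, Int.ofNat 0, Int.ofNat 0, Int.ofNat 0, Int.ofNat 0, Int.ofNat 0, Int.ofNat 4],
  [Int.ofNat 0, Int.negSucc 3, Int.ofNat 0, Int.ofNat 0, Int.ofNat 0, Int.ofNat 0, Int.ofNat 0, Int.ofNat 0, Int.ofNat 0, Int.ofNat 0, Int.ofNat 0, Int.ofNat 0, Int.ofNat 0, Int.ofNat 0, Int.ofNat 0, Int.ofNat 0, Int.ofNat 0, Int.ofNat 0, Int.ofNat 0, Int.ofNat 0, Int.ofNat 0, Int.ofNat 0, Int.ofNat 0, Int.ofNat 4],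
  [Int.ofNat 0, Int.ofNat 4, Int.ofNat 0, Int.ofNat 0, Int.ofNat 0, Int.ofNat 0, Int.ofNat 0, Int.ofNat 0, Int.ofNat 0, Int.ofNat 0, Int.ofNat 0, Int.ofNat 0, Int.ofNat 0, Int.ofNat 0, Int.ofNat 0, Int.ofNat 0, Int.ofNat 0, Int.ofNat 0, Int.ofNat 0, Int.ofNat 0, Int.ofNat 0, Int.ofNat 0, Int.ofNat 0, Int.negSucc 3],
  [Int.ofNat 0, Int.ofNat 0, Int.ofNat 0, Int.ofNat 0, Int.ofNat 0, Int.ofNat 0, Int.ofNat 0, Int.ofNat 0, Int.ofNat 0, Int.ofNat 0, Int.ofNat 0, Int.ofNat 0, Int.ofNat 0, Int.ofNat 0, Int.ofNat 0, Int.ofNat 0, Int.ofNat 0, Int.ofNat 0, Int.ofNat 0, Int.ofNat 0, Int.ofNat 0, Int.ofNat 4, Int.ofNat 0, Int.negSucc 3],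
  [Int.negSucc 1, Int.negSucc 1, Int.negSucc 1, Int.ofNat 0, Int.ofNat 0, Int.ofNat 0, Int.negSucc 1, Int.negSucc 1, Int.ofNat 0, Int.ofNat 0, Int.ofNat 0, Int.ofNat 0, Int.ofNat 0, Int.ofNat 0, Int.ofNat 0, Int.ofNat 0, Int.ofNat 0, Int.ofNat 0, Int.ofNat 0, Int.negSucc 1, Int.ofNat 0, Int.ofNat 2, Int.ofNat 0, Int.ofNat 2],
  [Int.negSucc 1, Int.negSucc 1, Int.ofNat 0, Int.ofNat 0, Int.ofNat 0, Int.negSucc 1, Int.negSucc 1, Int.ofNat 0, Int.ofNat 0, Int.ofNat 0, Int.ofNat 0, Int.ofNat 0, Int.ofNat 0, Int.ofNat 0, Int.ofNat 0, Int.ofNat 0, Int.ofNat 0, Int.ofNat 0, Int.negSucc 1, Int.ofNat 0, Int.ofNat 2, Int.ofNat 0, Int.negSucc 1, Int.ofNat 2],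
  [Int.ofNat 1, Int.ofNat 1, Int.negSucc 0, Int.ofNat 1, Int.ofNat 1, Int.negSucc 0, Int.negSucc 0, Int.ofNat 1, Int.ofNat 1, Int.negSucc 0, Int.negSucc 0, Int.ofNat 1, Int.ofNat 1, Int.ofNat 1, Int.ofNat 1, Int.negSucc 0, Int.ofNat 1, Int.ofNat 1, Int.negSucc 0, Int.ofNat 1, Int.ofNat 1, Int.ofNat 1, Int.negSucc 0, Int.negSucc 2],
  [Int.ofNat 1, Int.ofNat 1, Int.ofNat 1, Int.ofNat 1, Int.ofNat 1, Int.ofNat 1, Int.ofNat 1, Int.ofNat 1, Int.ofNat 1, Int.ofNat 1, Int.ofNat 1, Int.ofNat 1, Int.ofNat 1, Int.ofNat 1, Int.ofNat 1, Int.ofNat 1, Int.ofNat 1, Int.ofNat 1, Int.ofNat 1, Int.ofNat 1, Int.ofNat 1, Int.ofNat 1, Int.ofNat 1, Int.negSucc 2],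
  [Int.ofNat 1, Int.ofNat 1, Int.ofNat 1, Int.ofNat 1, Int.ofNat 1, Int.ofNat 1, Int.ofNat 1, Int.ofNat 1, Int.ofNat 1, Int.ofNat 1, Int.ofNat 1, Int.ofNat 1, Int.ofNat 1, Int.ofNat 1, Int.ofNat 1, Int.ofNat 1, Int.ofNat 1, Int.ofNat 1, Int.ofNat 1, Int.ofNat 1, Int.ofNat 1, Int.ofNat 1, Int.ofNat 1, Int.negSucc 2],
  [Int.ofNat 1, Int.ofNat 1, Int.negSucc 0, Int.ofNat 1, Int.ofNat 1, Int.negSucc 0, Int.negSucc 0, Int.ofNat 1, Int.ofNat 1, Int.negSucc 0, Int.negSucc 0, Int.ofNat 1, Int.ofNat 1, Int.ofNat 1, Int.ofNat 1, Int.negSucc 0, Int.ofNat 1, Int.ofNat 1, Int.negSucc 0, Int.ofNat 1, Int.ofNat 1, Int.ofNat 1, Int.negSucc 0, Int.negSucc 2],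
  [Int.negSucc 1, Int.negSucc 1, Int.ofNat 0, Int.ofNat 0, Int.ofNat 0, Int.negSucc 1, Int.negSucc 1, Int.ofNat 0, Int.ofNat 0, Int.ofNat 0, Int.ofNat 0, Int.ofNat 0, Int.ofNat 0, Int.ofNat 0, Int.ofNat 0, Int.ofNat 0, Int.ofNat 0, Int.ofNat 0, Int.negSucc 1, Int.ofNat 0, Int.ofNat 2, Int.ofNat 0, Int.negSucc 1, Int.ofNat 2],
  [Int.negSucc 1, Int.negSucc 1, Int.negSucc 1, Int.ofNat 0, Int.ofNat 0, Int.ofNat 0, Int.negSucc 1, Int.negSucc 1, Int.ofNat 0, Int.ofNat 0, Int.ofNat 0, Int.ofNat 0, Int.ofNat 0, Int.ofNat 0, Int.ofNat 0, Int.ofNat 0, Int.ofNat 0, Int.ofNat 0, Int.ofNat 0, Int.negSucc 1, Int.ofNat 0, Int.ofNat 2, Int.ofNat 0, Int.ofNat 2],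
  [Int.ofNat 0, Int.ofNat 0, Int.ofNat 0, Int.ofNat 0, Int.ofNat 0, Int.ofNat 0, Int.ofNat 0, Int.ofNat 0, Int.ofNat 0, Int.ofNat 0, Int.ofNat 0, Int.ofNat 0, Int.ofNat 0, Int.ofNat 0, Int.ofNat 0, Int.ofNat 0, Int.ofNat 0, Int.ofNat 0, Int.ofNat 0, Int.ofNat 0, Int.ofNat 0, Int.ofNat 4, Int.ofNat 0, Int.negSucc 3],
  [Int.ofNat 0, Int.ofNat 4, Int.ofNat 0, Int.ofNat 0, Int.ofNat 0, Int.ofNat 0, Int.ofNat 0, Int.ofNat 0, Int.ofNat 0, Int.ofNat 0, Int.ofNat 0, Int.ofNat 0, Int.ofNat 0, Int.ofNat 0, Int.ofNat 0, Int.ofNat 0, Int.ofNat 0, Int.ofNat 0, Int.ofNat 0, Int.ofNat 0, Int.ofNat 0, Int.ofNat 0, Int.ofNat 0, Int.negSucc 3],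
  [Int.ofNat 0, Int.negSucc 3, Int.ofNat 0, Int.ofNat 0, Int.ofNat 0, Int.ofNat 0, Int.ofNat 0, Int.ofNat 0, Int.ofNat 0, Int.ofNat 0, Int.ofNat 0, Int.ofNat 0, Int.ofNat 0, Int.ofNat 0, Int.ofNat 0, Int.ofNat 0, Int.ofNat 0, Int.ofNat 0, Int.ofNat 0, Int.ofNat 0, Int.ofNat 0, Int.ofNat 0, Int.ofNat 0, Int.ofNat 4],
  [Int.negSucc 3, Int.ofNat 0, Int.ofNat 0, Int.ofNat 0, Int.ofNat 0, Int.ofNat 0, Int.ofNat 0, Int.ofNat 0, Int.ofNat 0, Int.ofNat 0, Int.ofNat 0, Int.ofNat 0, Int.ofNat 0, Int.ofNat 0, Int.ofNat 0, Int.ofNat 0, Int.ofNat 0, Int.ofNat 0, Int.ofNat 0, Int.ofNat 0, Int.ofNat 0, Int.ofNat 0, Int.ofNat 0, Int.ofNat 4],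
  [Int.ofNat 4, Int.ofNat 0, Int.ofNat 0, Int.ofNat 0, Int.ofNat 0, Int.ofNat 0, Int.ofNat 0, Int.ofNat 0, Int.ofNat 0, Int.ofNat 0, Int.ofNat 0, Int.ofNat 0, Int.ofNat 0, Int.ofNat 0, Int.ofNat 0, Int.ofNat 0, Int.ofNat 0, Int.ofNat 0, Int.ofNat 0, Int.ofNat 0, Int.ofNat 0, Int.ofNat 0, Int.ofNat 0, Int.ofNat 4],
  [Int.negSucc 3, Int.ofNat 0, Int.ofNat 0, Int.ofNat 0, Int.ofNat 0, Int.ofNat 0, Int.ofNat 0, Int.ofNat 0, Int.ofNat 0, Int.ofNat 0, Int.ofNat 0, Int.ofNat 0, Int.ofNat 0, Int.ofNat 0, Int.ofNat 0, Int.ofNat 0, Int.ofNat 0, Int.ofNat 0, Int.ofNat 0, Int.ofNat 0, Int.ofNat 0, Int.ofNat 0, Int.ofNat 0, Int.ofNat 4],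
  [Int.ofNat 4, Int.ofNat 0, Int.ofNat 0, Int.ofNat 0, Int.ofNat 0, Int.ofNat 0, Int.ofNat 0, Int.ofNat 0, Int.ofNat 0, Int.ofNat 0, Int.ofNat 0, Int.ofNat 0, Int.ofNat 0, Int.ofNat 0, Int.ofNat 0, Int.ofNat 0, Int.ofNat 0, Int.ofNat 0, Int.ofNat 0, Int.ofNat 0, Int.ofNat 0, Int.ofNat 0, Int.ofNat 0, Int.negSucc 3],
  [Int.negSucc 3, Int.ofNat 0, Int.ofNat 0, Int.ofNat 0, Int.ofNat 0, Int.ofNat 0, Int.ofNat 0, Int.ofNat 0, Int.ofNat 0, Int.ofNat 0, Int.ofNat 0, Int.ofNat 0, Int.ofNat 0, Int.ofNat 0, Int.ofNat 0, Int.ofNat 0, Int.ofNat 0, Int.ofNat 0, Int.ofNat 0, Int.ofNat 0, Int.ofNat 0, Int.ofNat 0, Int.ofNat 0, Int.negSucc 3],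
  [Int.ofNat 0, Int.negSucc 3, Int.ofNat 0, Int.ofNat 0, Int.ofNat 0, Int.ofNat 0, Int.ofNat 0, Int.ofNat 0, Int.ofNat 0, Int.ofNat 0, Int.ofNat 0, Int.ofNat 0, Int.ofNat 0, Int.ofNat 0, Int.ofNat 0, Int.ofNat 0, Int.ofNat 0, Int.ofNat 0, Int.ofNat 0, Int.ofNat 0, Int.ofNat 0, Int.ofNat 0, Int.ofNat 0, Int.negSucc 3],
  [Int.negSucc 3, Int.ofNat 0, Int.negSucc 3, Int.ofNat 0, Int.ofNat 0, Int.ofNat 0, Int.ofNat 0, Int.ofNat 0, Int.ofNat 0, Int.ofNat 0, Int.ofNat 0, Int.ofNat 0, Int.ofNat 0, Int.ofNat 0, Int.ofNat 0, Int.ofNat 0, Int.ofNat 0, Int.ofNat 0, Int.ofNat 0, Int.ofNat 0, Int.ofNat 0, Int.ofNat 0, Int.ofNat 0, Int.ofNat 0],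
  [Int.ofNat 0, Int.ofNat 0, Int.ofNat 0, Int.ofNat 0, Int.ofNat 0, Int.ofNat 0, Int.ofNat 0, Int.ofNat 0, Int.ofNat 0, Int.ofNat 0, Int.ofNat 0, Int.ofNat 0, Int.ofNat 0, Int.ofNat 0, Int.ofNat 0, Int.ofNat 0, Int.ofNat 0, Int.ofNat 0, Int.ofNat 0, Int.ofNat 0, Int.negSucc 3, Int.ofNat 0, Int.negSucc 3, Int.ofNat 0],
  [Int.ofNat 0, Int.ofNat 0, Int.ofNat 0, Int.ofNat 0, Int.ofNat 2, Int.ofNat 0, Int.ofNat 0, Int.ofNat 0, Int.ofNat 0, Int.ofNat 2, Int.ofNat 2, Int.ofNat 0, Int.ofNat 0, Int.ofNat 2, Int.ofNat 0, Int.ofNat 2, Int.ofNat 2, Int.ofNat 0, Int.ofNat 0, Int.ofNat 0, Int.negSucc 1, Int.ofNat 0, Int.negSucc 1, Int.ofNat 0],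
  [Int.ofNat 0, Int.ofNat 0, Int.ofNat 2, Int.ofNat 0, Int.ofNat 0, Int.ofNat 0, Int.ofNat 0, Int.ofNat 2, Int.ofNat 0, Int.ofNat 2, Int.negSucc 1, Int.ofNat 0, Int.ofNat 2, Int.ofNat 2, Int.negSucc 1, Int.ofNat 2, Int.ofNat 0, Int.ofNat 0, Int.ofNat 0, Int.ofNat 0, Int.ofNat 0, Int.ofNat 0, Int.ofNat 0, Int.ofNat 0],
  [Int.ofNat 1, Int.ofNat 1, Int.negSucc 0, Int.ofNat 1, Int.negSucc 0, Int.ofNat 1, Int.negSucc 0, Int.ofNat 1, Int.negSucc 0, Int.ofNat 1, Int.negSucc 2, Int.negSucc 0, Int.ofNat 1, Int.ofNat 1, Int.negSucc 0, Int.ofNat 1, Int.negSucc 0, Int.ofNat 1, Int.negSucc 0, Int.negSucc 0, Int.negSucc 0, Int.negSucc 0, Int.negSucc 0, Int.ofNat 1],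
  [Int.ofNat 1, Int.ofNat 1, Int.ofNat 1, Int.ofNat 1, Int.negSucc 0, Int.negSucc 0, Int.ofNat 1, Int.ofNat 1, Int.negSucc 0, Int.negSucc 0, Int.ofNat 3, Int.negSucc 0, Int.ofNat 1, Int.ofNat 1, Int.negSucc 0, Int.negSucc 0, Int.negSucc 0, Int.ofNat 1, Int.ofNat 1, Int.negSucc 0, Int.negSucc 0, Int.negSucc 0, Int.ofNat 1, Int.ofNat 1],
  [Int.ofNat 1, Int.ofNat 1, Int.negSucc 0, Int.negSucc 0, Int.negSucc 0, Int.ofNat 1, Int.negSucc 0, Int.ofNat 1, Int.negSucc 0, Int.ofNat 1, Int.ofNat 1, Int.negSucc 0, Int.negSucc 0, Int.negSucc 0, Int.negSucc 0, Int.ofNat 1, Int.ofNat 3, Int.negSucc 0, Int.ofNat 1, Int.ofNat 1, Int.negSucc 0, Int.ofNat 1, Int.ofNat 1, Int.ofNat 1],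
  [Int.ofNat 1, Int.ofNat 1, Int.ofNat 1, Int.negSucc 0, Int.negSucc 0, Int.negSucc 0, Int.ofNat 1, Int.ofNat 1, Int.negSucc 0, Int.negSucc 0, Int.negSucc 0, Int.negSucc 0, Int.negSucc 0, Int.negSucc 0, Int.negSucc 0, Int.negSucc 0, Int.ofNat 3, Int.negSucc 0, Int.negSucc 0, Int.ofNat 1, Int.negSucc 0, Int.ofNat 1, Int.negSucc 0, Int.ofNat 1],
  [Int.ofNat 1, Int.ofNat 1, Int.ofNat 1, Int.ofNat 1, Int.negSucc 0, Int.ofNat 1, Int.negSucc 0, Int.negSucc 0, Int.ofNat 1, Int.ofNat 1, Int.ofNat 1, Int.ofNat 1, Int.ofNat 1, Int.negSucc 0, Int.ofNat 1, Int.ofNat 1, Int.ofNat 3, Int.ofNat 1, Int.ofNat 1, Int.negSucc 0, Int.ofNat 1, Int.negSucc 0, Int.negSucc 0, Int.ofNat 1],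
  [Int.ofNat 1, Int.ofNat 1, Int.negSucc 0, Int.ofNat 1, Int.ofNat 1, Int.negSucc 0, Int.ofNat 1, Int.ofNat 1, Int.ofNat 3, Int.ofNat 1, Int.negSucc 0, Int.negSucc 0, Int.ofNat 1, Int.ofNat 1, Int.ofNat 1, Int.ofNat 1, Int.negSucc 0, Int.ofNat 1, Int.negSucc 0, Int.negSucc 0, Int.ofNat 1, Int.ofNat 1, Int.ofNat 1, Int.ofNat 1],
  [Int.ofNat 0, Int.ofNat 0, Int.ofNat 2, Int.ofNat 0, Int.ofNat 0, Int.negSucc 1, Int.ofNat 0, Int.ofNat 0, Int.ofNat 2, Int.ofNat 0, Int.negSucc 1, Int.negSucc 1, Int.ofNat 0, Int.ofNat 0, Int.ofNat 0, Int.ofNat 0, Int.negSucc 1, Int.ofNat 0, Int.negSucc 1, Int.negSucc 1, Int.ofNat 0, Int.ofNat 0, Int.ofNat 0, Int.ofNat 0],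
  [Int.ofNat 0, Int.ofNat 0, Int.ofNat 0, Int.ofNat 0, Int.ofNat 0, Int.ofNat 2, Int.ofNat 0, Int.ofNat 0, Int.negSucc 1, Int.ofNat 0, Int.ofNat 0, Int.ofNat 2, Int.ofNat 0, Int.negSucc 1, Int.negSucc 1, Int.ofNat 0, Int.ofNat 0, Int.ofNat 0, Int.ofNat 0, Int.negSucc 1, Int.ofNat 0, Int.negSucc 1, Int.negSucc 1, Int.ofNat 0],
  [Int.ofNat 0, Int.ofNat 0, Int.ofNat 0, Int.ofNat 0, Int.ofNat 2, Int.ofNat 2, Int.ofNat 2, Int.ofNat 2, Int.negSucc 1, Int.ofNat 0, Int.ofNat 0, Int.ofNat 2, Int.ofNat 0, Int.ofNat 0, Int.negSucc 1, Int.ofNat 0, Int.ofNat 2, Int.ofNat 0, Int.ofNat 0, Int.ofNat 0, Int.ofNat 0, Int.ofNat 0, Int.ofNat 0, Int.ofNat 0],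
  [Int.ofNat 0, Int.ofNat 0, Int.ofNat 0, Int.ofNat 2, Int.ofNat 2, Int.ofNat 2, Int.ofNat 2, Int.negSucc 1, Int.ofNat 0, Int.ofNat 0, Int.ofNat 2, Int.ofNat 0, Int.ofNat 0, Int.negSucc 1, Int.ofNat 0, Int.ofNat 2, Int.ofNat 0, Int.ofNat 0, Int.ofNat 0, Int.ofNat 0, Int.ofNat 0, Int.ofNat 0, Int.ofNat 0, Int.ofNat 0],
  [Int.ofNat 0, Int.ofNat 0, Int.ofNat 0, Int.ofNat 2, Int.ofNat 2, Int.ofNat 2, Int.ofNat 2, Int.ofNat 2, Int.ofNat 0, Int.ofNat 0, Int.negSucc 1, Int.ofNat 0, Int.ofNat 0, Int.negSucc 1, Int.ofNat 0, Int.ofNat 2, Int.ofNat 0, Int.ofNat 0, Int.ofNat 0, Int.ofNat 0, Int.ofNat 0, Int.ofNat 0, Int.ofNat 0, Int.ofNat 0],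
  [Int.ofNat 0, Int.ofNat 0, Int.ofNat 0, Int.negSucc 1, Int.negSucc 1, Int.ofNat 2, Int.negSucc 1, Int.ofNat 2, Int.ofNat 0, Int.ofNat 0, Int.negSucc 1, Int.ofNat 0, Int.ofNat 0, Int.ofNat 2, Int.ofNat 0, Int.ofNat 2, Int.ofNat 0, Int.ofNat 0, Int.ofNat 0, Int.ofNat 0, Int.ofNat 0, Int.ofNat 0, Int.ofNat 0, Int.ofNat 0],
  [Int.ofNat 0, Int.ofNat 0, Int.ofNat 0, Int.ofNat 2, Int.ofNat 0, Int.ofNat 0, Int.ofNat 0, Int.ofNat 2, Int.ofNat 0, Int.ofNat 2, Int.ofNat 0, Int.ofNat 0, Int.ofNat 0, Int.ofNat 2, Int.ofNat 0, Int.negSucc 1, Int.negSucc 1, Int.negSucc 1, Int.ofNat 0, Int.negSucc 1, Int.ofNat 0, Int.ofNat 0, Int.ofNat 0, Int.ofNat 0],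
  [Int.ofNat 0, Int.ofNat 0, Int.ofNat 0, Int.ofNat 2, Int.ofNat 0, Int.ofNat 0, Int.ofNat 0, Int.negSucc 1, Int.ofNat 0, Int.negSucc 1, Int.ofNat 0, Int.ofNat 0, Int.ofNat 0, Int.ofNat 2, Int.ofNat 0, Int.negSucc 1, Int.negSucc 1, Int.negSucc 1, Int.ofNat 0, Int.negSucc 1, Int.ofNat 0, Int.ofNat 0, Int.ofNat 0, Int.ofNat 0],
  [Int.ofNat 0, Int.ofNat 0, Int.ofNat 0, Int.ofNat 0, Int.ofNat 2, Int.ofNat 0, Int.ofNat 0, Int.ofNat 0, Int.negSucc 1, Int.ofNat 0, Int.negSucc 1, Int.ofNat 0, Int.ofNat 0, Int.ofNat 0, Int.ofNat 2, Int.ofNat 0, Int.negSucc 1, Int.negSucc 1, Int.negSucc 1, Int.ofNat 0, Int.negSucc 1, Int.ofNat 0, Int.ofNat 0, Int.ofNat 0],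
  [Int.ofNat 0, Int.ofNat 0, Int.ofNat 0, Int.ofNat 0, Int.ofNat 2, Int.ofNat 0, Int.ofNat 0, Int.ofNat 0, Int.ofNat 0, Int.ofNat 2, Int.ofNat 0, Int.ofNat 2, Int.ofNat 2, Int.ofNat 0, Int.ofNat 2, Int.ofNat 2, Int.negSucc 1, Int.negSucc 1, Int.ofNat 0, Int.ofNat 0, Int.ofNat 0, Int.ofNat 0, Int.ofNat 0, Int.ofNat 0],
  [Int.ofNat 0, Int.ofNat 2, Int.ofNat 0, Int.ofNat 0, Int.ofNat 0, Int.ofNat 0, Int.ofNat 2, Int.ofNat 0, Int.ofNat 2, Int.ofNat 2, Int.ofNat 0, Int.ofNat 2, Int.ofNat 2, Int.negSucc 1, Int.negSucc 1, Int.ofNat 0, Int.ofNat 0, Int.ofNat 0, Int.ofNat 0, Int.ofNat 0, Int.ofNat 0, Int.ofNat 0, Int.ofNat 0, Int.ofNat 0],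
  [Int.ofNat 1, Int.negSucc 0, Int.ofNat 1, Int.ofNat 1, Int.ofNat 1, Int.ofNat 1, Int.ofNat 1, Int.negSucc 0, Int.negSucc 0, Int.ofNat 1, Int.negSucc 0, Int.negSucc 0, Int.negSucc 0, Int.negSucc 0, Int.negSucc 0, Int.negSucc 0, Int.ofNat 1, Int.ofNat 1, Int.negSucc 2, Int.negSucc 0, Int.negSucc 0, Int.negSucc 0, Int.ofNat 1, Int.ofNat 1],
  [Int.ofNat 1, Int.ofNat 1, Int.ofNat 1, Int.ofNat 1, Int.negSucc 2, Int.negSucc 0, Int.ofNat 1, Int.negSucc 0, Int.negSucc 0, Int.negSucc 0, Int.negSucc 0, Int.ofNat 1, Int.ofNat 1, Int.ofNat 1, Int.ofNat 1, Int.negSucc 0, Int.negSucc 0, Int.negSucc 0, Int.negSucc 0, Int.negSucc 0, Int.negSucc 0, Int.ofNat 1, Int.negSucc 0, Int.ofNat 1],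
  [Int.ofNat 1, Int.ofNat 1, Int.ofNat 1, Int.ofNat 1, Int.negSucc 0, Int.negSucc 0, Int.ofNat 1, Int.negSucc 0, Int.negSucc 0, Int.ofNat 1, Int.ofNat 1, Int.ofNat 1, Int.ofNat 1, Int.ofNat 3, Int.ofNat 1, Int.ofNat 1, Int.ofNat 1, Int.negSucc 0, Int.negSucc 0, Int.negSucc 0, Int.ofNat 1, Int.ofNat 1, Int.ofNat 1, Int.ofNat 1],
  [Int.ofNat 1, Int.ofNat 1, Int.negSucc 0, Int.ofNat 1, Int.negSucc 0, Int.ofNat 1, Int.negSucc 0, Int.negSucc 0, Int.negSucc 0, Int.negSucc 0, Int.negSucc 0, Int.ofNat 1, Int.ofNat 1, Int.ofNat 3, Int.ofNat 1, Int.negSucc 0, Int.ofNat 1, Int.negSucc 0, Int.ofNat 1, Int.negSucc 0, Int.ofNat 1, Int.ofNat 1, Int.negSucc 0, Int.ofNat 1],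
  [Int.negSucc 0, Int.ofNat 1, Int.negSucc 0, Int.ofNat 1, Int.negSucc 0, Int.ofNat 1, Int.ofNat 1, Int.ofNat 3, Int.ofNat 1, Int.ofNat 1, Int.negSucc 0, Int.ofNat 1, Int.negSucc 0, Int.ofNat 1, Int.negSucc 0, Int.negSucc 0, Int.negSucc 0, Int.negSucc 0, Int.negSucc 0, Int.ofNat 1, Int.ofNat 1, Int.negSucc 0, Int.ofNat 1, Int.ofNat 1],
  [Int.negSucc 0, Int.ofNat 1, Int.ofNat 1, Int.ofNat 1, Int.negSucc 0, Int.negSucc 0, Int.negSucc 0, Int.ofNat 3, Int.ofNat 1, Int.negSucc 0, Int.ofNat 1, Int.ofNat 1, Int.negSucc 0, Int.ofNat 1, Int.negSucc 0, Int.ofNat 1, Int.negSucc 0, Int.negSucc 0, Int.ofNat 1, Int.ofNat 1, Int.ofNat 1, Int.negSucc 0, Int.negSucc 0, Int.ofNat 1],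
  [Int.ofNat 2, Int.ofNat 0, Int.ofNat 0, Int.ofNat 2, Int.ofNat 0, Int.ofNat 0, Int.negSucc 1, Int.ofNat 2, Int.ofNat 0, Int.negSucc 1, Int.ofNat 0, Int.ofNat 0, Int.negSucc 1, Int.ofNat 2, Int.ofNat 0, Int.ofNat 0, Int.ofNat 0, Int.ofNat 0, Int.ofNat 0, Int.ofNat 0, Int.ofNat 0, Int.negSucc 1, Int.ofNat 0, Int.ofNat 0],
  [Int.ofNat 2, Int.ofNat 0, Int.negSucc 1, Int.ofNat 2, Int.ofNat 0, Int.negSucc 1, Int.ofNat 0, Int.ofNat 0, Int.ofNat 0, Int.negSucc 1, Int.ofNat 2, Int.ofNat 0, Int.ofNat 0, Int.negSucc 1, Int.ofNat 0, Int.ofNat 0, Int.ofNat 2, Int.ofNat 0, Int.ofNat 0, Int.ofNat 0, Int.ofNat 0, Int.ofNat 0, Int.ofNat 0, Int.ofNat 0],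
  [Int.negSucc 1, Int.ofNat 0, Int.ofNat 2, Int.ofNat 2, Int.ofNat 0, Int.negSucc 1, Int.ofNat 0, Int.ofNat 0, Int.ofNat 0, Int.negSucc 1, Int.ofNat 2, Int.ofNat 0, Int.ofNat 0, Int.negSucc 1, Int.ofNat 0, Int.ofNat 0, Int.ofNat 2, Int.ofNat 0, Int.ofNat 0, Int.ofNat 0, Int.ofNat 0, Int.ofNat 0, Int.ofNat 0, Int.ofNat 0],
  [Int.ofNat 0, Int.ofNat 0, Int.ofNat 0, Int.negSucc 1, Int.ofNat 0, Int.ofNat 2, Int.ofNat 2, Int.ofNat 0, Int.negSucc 1, Int.ofNat 0, Int.ofNat 0, Int.ofNat 0, Int.negSucc 1, Int.ofNat 2, Int.ofNat 0, Int.ofNat 0, Int.negSucc 1, Int.ofNat 0, Int.ofNat 0, Int.ofNat 2, Int.ofNat 0, Int.ofNat 0, Int.ofNat 0, Int.ofNat 0],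
  [Int.ofNat 0, Int.ofNat 0, Int.ofNat 0, Int.negSucc 1, Int.ofNat 0, Int.ofNat 2, Int.ofNat 0, Int.negSucc 1, Int.ofNat 0, Int.ofNat 0, Int.ofNat 0, Int.ofNat 2, Int.ofNat 0, Int.ofNat 2, Int.ofNat 0, Int.ofNat 0, Int.negSucc 1, Int.ofNat 0, Int.ofNat 2, Int.ofNat 0, Int.ofNat 0, Int.negSucc 1, Int.ofNat 0, Int.ofNat 0],
  [Int.ofNat 0, Int.ofNat 0, Int.negSucc 1, Int.ofNat 0, Int.ofNat 2, Int.ofNat 0, Int.negSucc 1, Int.ofNat 0, Int.ofNat 0, Int.ofNat 0, Int.ofNat 2, Int.ofNat 0, Int.ofNat 2, Int.ofNat 0, Int.ofNat 0, Int.negSucc 1, Int.ofNat 0, Int.ofNat 2, Int.ofNat 0, Int.ofNat 0, Int.negSucc 1, Int.ofNat 0, Int.ofNat 0, Int.ofNat 0],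
  [Int.ofNat 0, Int.ofNat 0, Int.ofNat 2, Int.ofNat 0, Int.ofNat 2, Int.ofNat 0, Int.negSucc 1, Int.ofNat 0, Int.ofNat 0, Int.ofNat 0, Int.negSucc 1, Int.ofNat 0, Int.ofNat 2, Int.ofNat 0, Int.ofNat 0, Int.negSucc 1, Int.ofNat 0, Int.ofNat 2, Int.ofNat 0, Int.ofNat 0, Int.negSucc 1, Int.ofNat 0, Int.ofNat 0, Int.ofNat 0]]

set_option maxRecDepth 100000 in
theorem c1e2_chk : pmChk (List.replicate 14 [2, 0, 25]).flatten nxL c1e2M 0 0 = true := by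
  decide +kernel

theorem c1e2_ne : wE letE2 (List.replicate 14 [2, 0, 25]).flatten ≠ 1 ∧ wE letE2 (List.replicate 14 [2, 0, 25]).flatten ≠ negElt :=
  ne_pm_of_chk nxL_mem c1e2_chk

set_option maxRecDepth 100000 in
def c1e3M : List (List ℤ) :=
  [[Int.ofNat 4, Int.ofNat 0, Int.ofNat 0, Int.ofNat 0, Int.ofNat 0, Int.ofNat 0, Int.ofNat 0, Int.ofNat 0, Int.ofNat 0, Int.ofNat 0, Int.ofNat 0, Int.ofNat 0, Int.ofNat 0, Int.ofNat 0, Int.ofNat 0, Int.ofNat 0, Int.ofNat 0, Int.ofNat 0, Int.ofNat 0, Int.ofNat 0, Int.ofNat 0, Int.ofNat 0, Int.ofNat 0, Int.ofNat 4],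
  [Int.ofNat 4, Int.ofNat 0, Int.ofNat 0, Int.ofNat 0, Int.ofNat 0, Int.ofNat 0, Int.ofNat 0, Int.ofNat 0, Int.ofNat 0, Int.ofNat 0, Int.ofNat 0, Int.ofNat 0, Int.ofNat 0, Int.ofNat 0, Int.ofNat 0, Int.ofNat 0, Int.ofNat 0, Int.ofNat 0, Int.ofNat 0, Int.ofNat 0, Int.ofNat 0, Int.ofNat 0, Int.ofNat 0, Int.ofNat 4],
  [Int.negSucc 3, Int.ofNat 0, Int.ofNat 0, Int.ofNat 0, Int.ofNat 0, Int.ofNat 0, Int.ofNat 0, Int.ofNat 0, Int.ofNat 0, Int.ofNat 0, Int.ofNat 0, Int.ofNat 0, Int.ofNat 0, Int.ofNat 0, Int.ofNat 0, Int.ofNat 0, Int.ofNat 0, Int.ofNat 0, Int.ofNat 0, Int.ofNat 0, Int.ofNat 0, Int.ofNat 0, Int.ofNat 0, Int.ofNat 4],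
  [Int.ofNat 0, Int.negSucc 3, Int.ofNat 0, Int.ofNat 0, Int.ofNat 0, Int.ofNat 0, Int.ofNat 0, Int.ofNat 0, Int.ofNat 0, Int.ofNat 0, Int.ofNat 0, Int.ofNat 0, Int.ofNat 0, Int.ofNat 0, Int.ofNat 0, Int.ofNat 0, Int.ofNat 0, Int.ofNat 0, Int.ofNat 0, Int.ofNat 0, Int.ofNat 0, Int.ofNat 0, Int.ofNat 0, Int.ofNat 4],
  [Int.ofNat 0, Int.ofNat 4, Int.ofNat 0, Int.ofNat 0, Int.ofNat 0, Int.ofNat 0, Int.ofNat 0, Int.ofNat 0, Int.ofNat 0, Int.ofNat 0, Int.ofNat 0, Int.ofNat 0, Int.ofNat 0, Int.ofNat 0, Int.ofNat 0, Int.ofNat 0, Int.ofNat 0, Int.ofNat 0, Int.ofNat 0, Int.ofNat 0, Int.ofNat 0, Int.ofNat 0, Int.ofNat 0, Int.negSucc 3],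
  [Int.ofNat 0, Int.ofNat 0, Int.ofNat 0, Int.ofNat 0, Int.ofNat 0, Int.ofNat 0, Int.ofNat 0, Int.ofNat 0, Int.ofNat 0, Int.ofNat 0, Int.ofNat 0, Int.ofNat 0, Int.ofNat 0, Int.ofNat 0, Int.ofNat 0, Int.ofNat 0, Int.ofNat 0, Int.ofNat 0, Int.ofNat 0, Int.ofNat 0, Int.ofNat 0, Int.ofNat 4, Int.ofNat 0, Int.negSucc 3],
  [Int.negSucc 1, Int.negSucc 1, Int.negSucc 1, Int.ofNat 0, Int.ofNat 0, Int.ofNat 0, Int.negSucc 1, Int.negSucc 1, Int.ofNat 0, Int.ofNat 0, Int.ofNat 0, Int.ofNat 0, Int.ofNat 0, Int.ofNat 0, Int.ofNat 0, Int.ofNat 0, Int.ofNat 0, Int.ofNat 0, Int.ofNat 0, Int.negSucc 1, Int.ofNat 0, Int.ofNat 2, Int.ofNat 0, Int.ofNat 2],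
  [Int.negSucc 1, Int.negSucc 1, Int.ofNat 0, Int.ofNat 0, Int.ofNat 0, Int.negSucc 1, Int.negSucc 1, Int.ofNat 0, Int.ofNat 0, Int.ofNat 0, Int.ofNat 0, Int.ofNat 0, Int.ofNat 0, Int.ofNat 0, Int.ofNat 0, Int.ofNat 0, Int.ofNat 0, Int.ofNat 0, Int.negSucc 1, Int.ofNat 0, Int.ofNat 2, Int.ofNat 0, Int.negSucc 1, Int.ofNat 2],
  [Int.ofNat 1, Int.ofNat 1, Int.negSucc 0, Int.ofNat 1, Int.ofNat 1, Int.negSucc 0, Int.negSucc 0, Int.ofNat 1, Int.ofNat 1, Int.negSucc 0, Int.negSucc 0, Int.ofNat 1, Int.ofNat 1, Int.ofNat 1, Int.ofNat 1, Int.negSucc 0, Int.ofNat 1, Int.ofNat 1, Int.negSucc 0, Int.ofNat 1, Int.ofNat 1, Int.ofNat 1, Int.negSucc 0, Int.negSucc 2],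
  [Int.ofNat 1, Int.ofNat 1, Int.ofNat 1, Int.ofNat 1, Int.ofNat 1, Int.ofNat 1, Int.ofNat 1, Int.ofNat 1, Int.ofNat 1, Int.ofNat 1, Int.ofNat 1, Int.ofNat 1, Int.ofNat 1, Int.ofNat 1, Int.ofNat 1, Int.ofNat 1, Int.ofNat 1, Int.ofNat 1, Int.ofNat 1, Int.ofNat 1, Int.ofNat 1, Int.ofNat 1, Int.ofNat 1, Int.negSucc 2],
  [Int.ofNat 1, Int.ofNat 1, Int.ofNat 1, Int.ofNat 1, Int.ofNat 1, Int.ofNat 1, Int.ofNat 1, Int.ofNat 1, Int.ofNat 1, Int.ofNat 1, Int.ofNat 1, Int.ofNat 1, Int.ofNat 1, Int.ofNat 1, Int.ofNat 1, Int.ofNat 1, Int.ofNat 1, Int.ofNat 1, Int.ofNat 1, Int.ofNat 1, Int.ofNat 1, Int.ofNat 1, Int.ofNat 1, Int.negSucc 2],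
  [Int.ofNat 1, Int.ofNat 1, Int.negSucc 0, Int.ofNat 1, Int.ofNat 1, Int.negSucc 0, Int.negSucc 0, Int.ofNat 1, Int.ofNat 1, Int.negSucc 0, Int.negSucc 0, Int.ofNat 1, Int.ofNat 1, Int.ofNat 1, Int.ofNat 1, Int.negSucc 0, Int.ofNat 1, Int.ofNat 1, Int.negSucc 0, Int.ofNat 1, Int.ofNat 1, Int.ofNat 1, Int.negSucc 0, Int.negSucc 2],
  [Int.negSucc 1, Int.negSucc 1, Int.ofNat 0, Int.ofNat 0, Int.ofNat 0, Int.negSucc 1, Int.negSucc 1, Int.ofNat 0, Int.ofNat 0, Int.ofNat 0, Int.ofNat 0, Int.ofNat 0, Int.ofNat 0, Int.ofNat 0, Int.ofNat 0, Int.ofNat 0, Int.ofNat 0, Int.ofNat 0, Int.negSucc 1, Int.ofNat 0, Int.ofNat 2, Int.ofNat 0, Int.negSucc 1, Int.ofNat 2],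
  [Int.negSucc 1, Int.negSucc 1, Int.negSucc 1, Int.ofNat 0, Int.ofNat 0, Int.ofNat 0, Int.negSucc 1, Int.negSucc 1, Int.ofNat 0, Int.ofNat 0, Int.ofNat 0, Int.ofNat 0, Int.ofNat 0, Int.ofNat 0, Int.ofNat 0, Int.ofNat 0, Int.ofNat 0, Int.ofNat 0, Int.ofNat 0, Int.negSucc 1, Int.ofNat 0, Int.ofNat 2, Int.ofNat 0, Int.ofNat 2],
  [Int.ofNat 0, Int.ofNat 0, Int.ofNat 0, Int.ofNat 0, Int.ofNat 0, Int.ofNat 0, Int.ofNat 0, Int.ofNat 0, Int.ofNat 0, Int.ofNat 0, Int.ofNat 0, Int.ofNat 0, Int.ofNat 0, Int.ofNat 0, Int.ofNat 0, Int.ofNat 0, Int.ofNat 0, Int.ofNat 0, Int.ofNat 0, Int.ofNat 0, Int.ofNat 0, Int.ofNat 4, Int.ofNat 0, Int.negSucc 3],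
  [Int.ofNat 0, Int.ofNat 4, Int.ofNat 0, Int.ofNat 0, Int.ofNat 0, Int.ofNat 0, Int.ofNat 0, Int.ofNat 0, Int.ofNat 0, Int.ofNat 0, Int.ofNat 0, Int.ofNat 0, Int.ofNat 0, Int.ofNat 0, Int.ofNat 0, Int.ofNat 0, Int.ofNat 0, Int.ofNat 0, Int.ofNat 0, Int.ofNat 0, Int.ofNat 0, Int.ofNat 0, Int.ofNat 0, Int.negSucc 3],
  [Int.ofNat 0, Int.negSucc 3, Int.ofNat 0, Int.ofNat 0, Int.ofNat 0, Int.ofNat 0, Int.ofNat 0, Int.ofNat 0, Int.ofNat 0, Int.ofNat 0, Int.ofNat 0, Int.ofNat 0, Int.ofNat 0, Int.ofNat 0, Int.ofNat 0, Int.ofNat 0, Int.ofNat 0, Int.ofNat 0, Int.ofNat 0, Int.ofNat 0, Int.ofNat 0, Int.ofNat 0, Int.ofNat 0, Int.ofNat 4],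
  [Int.negSucc 3, Int.ofNat 0, Int.ofNat 0, Int.ofNat 0, Int.ofNat 0, Int.ofNat 0, Int.ofNat 0, Int.ofNat 0, Int.ofNat 0, Int.ofNat 0, Int.ofNat 0, Int.ofNat 0, Int.ofNat 0, Int.ofNat 0, Int.ofNat 0, Int.ofNat 0, Int.ofNat 0, Int.ofNat 0, Int.ofNat 0, Int.ofNat 0, Int.ofNat 0, Int.ofNat 0, Int.ofNat 0, Int.ofNat 4],
  [Int.ofNat 4, Int.ofNat 0, Int.ofNat 0, Int.ofNat 0, Int.ofNat 0, Int.ofNat 0, Int.ofNat 0, Int.ofNat 0, Int.ofNat 0, Int.ofNat 0, Int.ofNat 0, Int.ofNat 0, Int.ofNat 0, Int.ofNat 0, Int.ofNat 0, Int.ofNat 0, Int.ofNat 0, Int.ofNat 0, Int.ofNat 0, Int.ofNat 0, Int.ofNat 0, Int.ofNat 0, Int.ofNat 0, Int.ofNat 4],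
  [Int.negSucc 3, Int.ofNat 0, Int.ofNat 0, Int.ofNat 0, Int.ofNat 0, Int.ofNat 0, Int.ofNat 0, Int.ofNat 0, Int.ofNat 0, Int.ofNat 0, Int.ofNat 0, Int.ofNat 0, Int.ofNat 0, Int.ofNat 0, Int.ofNat 0, Int.ofNat 0, Int.ofNat 0, Int.ofNat 0, Int.ofNat 0, Int.ofNat 0, Int.ofNat 0, Int.ofNat 0, Int.ofNat 0, Int.ofNat 4],
  [Int.ofNat 4, Int.ofNat 0, Int.ofNat 0, Int.ofNat 0, Int.ofNat 0, Int.ofNat 0, Int.ofNat 0, Int.ofNat 0, Int.ofNat 0, Int.ofNat 0, Int.ofNat 0, Int.ofNat 0, Int.ofNat 0, Int.ofNat 0, Int.ofNat 0, Int.ofNat 0, Int.ofNat 0, Int.ofNat 0, Int.ofNat 0, Int.ofNat 0, Int.ofNat 0, Int.ofNat 0, Int.ofNat 0, Int.negSucc 3],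
  [Int.negSucc 3, Int.ofNat 0, Int.ofNat 0, Int.ofNat 0, Int.ofNat 0, Int.ofNat 0, Int.ofNat 0, Int.ofNat 0, Int.ofNat 0, Int.ofNat 0, Int.ofNat 0, Int.ofNat 0, Int.ofNat 0, Int.ofNat 0, Int.ofNat 0, Int.ofNat 0, Int.ofNat 0, Int.ofNat 0, Int.ofNat 0, Int.ofNat 0, Int.ofNat 0, Int.ofNat 0, Int.ofNat 0, Int.negSucc 3],
  [Int.ofNat 0, Int.negSucc 3, Int.ofNat 0, Int.ofNat 0, Int.ofNat 0, Int.ofNat 0, Int.ofNat 0, Int.ofNat 0, Int.ofNat 0, Int.ofNat 0, Int.ofNat 0, Int.ofNat 0, Int.ofNat 0, Int.ofNat 0, Int.ofNat 0, Int.ofNat 0, Int.ofNat 0, Int.ofNat 0, Int.ofNat 0, Int.ofNat 0, Int.ofNat 0, Int.ofNat 0, Int.ofNat 0, Int.negSucc 3],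
  [Int.negSucc 3, Int.ofNat 0, Int.negSucc 3, Int.ofNat 0, Int.ofNat 0, Int.ofNat 0, Int.ofNat 0, Int.ofNat 0, Int.ofNat 0, Int.ofNat 0, Int.ofNat 0, Int.ofNat 0, Int.ofNat 0, Int.ofNat 0, Int.ofNat 0, Int.ofNat 0, Int.ofNat 0, Int.ofNat 0, Int.ofNat 0, Int.ofNat 0, Int.ofNat 0, Int.ofNat 0, Int.ofNat 0, Int.ofNat 0],
  [Int.ofNat 0, Int.ofNat 0, Int.ofNat 0, Int.ofNat 0, Int.ofNat 0, Int.ofNat 0, Int.ofNat 0, Int.ofNat 0, Int.ofNat 0, Int.ofNat 0, Int.ofNat 0, Int.ofNat 0, Int.ofNat 0, Int.ofNat 0, Int.ofNat 0, Int.ofNat 0, Int.ofNat 0, Int.ofNat 0, Int.ofNat 0, Int.ofNat 0, Int.negSucc 3, Int.ofNat 0, Int.negSucc 3, Int.ofNat 0],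
  [Int.ofNat 0, Int.ofNat 0, Int.ofNat 0, Int.ofNat 0, Int.ofNat 2, Int.ofNat 0, Int.ofNat 0, Int.ofNat 0, Int.ofNat 0, Int.ofNat 2, Int.ofNat 2, Int.ofNat 0, Int.ofNat 0, Int.ofNat 2, Int.ofNat 0, Int.ofNat 2, Int.ofNat 2, Int.ofNat 0, Int.ofNat 0, Int.ofNat 0, Int.negSucc 1, Int.ofNat 0, Int.negSucc 1, Int.ofNat 0],
  [Int.ofNat 0, Int.ofNat 0, Int.ofNat 2, Int.ofNat 0, Int.ofNat 0, Int.ofNat 0, Int.ofNat 0, Int.ofNat 2, Int.ofNat 0, Int.ofNat 2, Int.negSucc 1, Int.ofNat 0, Int.ofNat 2, Int.ofNat 2, Int.negSucc 1, Int.ofNat 2, Int.ofNat 0, Int.ofNat 0, Int.ofNat 0, Int.ofNat 0, Int.ofNat 0, Int.ofNat 0, Int.ofNat 0, Int.ofNat 0],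
  [Int.ofNat 1, Int.ofNat 1, Int.negSucc 0, Int.ofNat 1, Int.negSucc 0, Int.ofNat 1, Int.negSucc 0, Int.ofNat 1, Int.negSucc 0, Int.ofNat 1, Int.negSucc 2, Int.negSucc 0, Int.ofNat 1, Int.ofNat 1, Int.negSucc 0, Int.ofNat 1, Int.negSucc 0, Int.ofNat 1, Int.negSucc 0, Int.negSucc 0, Int.negSucc 0, Int.negSucc 0, Int.negSucc 0, Int.ofNat 1],
  [Int.ofNat 1, Int.ofNat 1, Int.ofNat 1, Int.ofNat 1, Int.negSucc 0, Int.negSucc 0, Int.ofNat 1, Int.ofNat 1, Int.negSucc 0, Int.negSucc 0, Int.ofNat 3, Int.negSucc 0, Int.ofNat 1, Int.ofNat 1, Int.negSucc 0, Int.negSucc 0, Int.negSucc 0, Int.ofNat 1, Int.ofNat 1, Int.negSucc 0, Int.negSucc 0, Int.negSucc 0, Int.ofNat 1, Int.ofNat 1],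
  [Int.ofNat 1, Int.negSucc 0, Int.negSucc 0, Int.ofNat 1, Int.ofNat 3, Int.negSucc 0, Int.ofNat 1, Int.ofNat 1, Int.negSucc 0, Int.ofNat 1, Int.ofNat 1, Int.negSucc 0, Int.negSucc 0, Int.ofNat 1, Int.ofNat 1, Int.ofNat 1, Int.ofNat 1, Int.negSucc 0, Int.negSucc 0, Int.negSucc 0, Int.ofNat 1, Int.negSucc 0, Int.negSucc 0, Int.ofNat 1],
  [Int.ofNat 1, Int.negSucc 0, Int.ofNat 1, Int.ofNat 1, Int.ofNat 3, Int.ofNat 1, Int.negSucc 0, Int.ofNat 1, Int.negSucc 0, Int.negSucc 0, Int.negSucc 0, Int.negSucc 0, Int.negSucc 0, Int.ofNat 1, Int.ofNat 1, Int.negSucc 0, Int.ofNat 1, Int.negSucc 0, Int.ofNat 1, Int.negSucc 0, Int.ofNat 1, Int.negSucc 0, Int.ofNat 1, Int.ofNat 1],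
  [Int.ofNat 0, Int.ofNat 2, Int.ofNat 0, Int.ofNat 0, Int.ofNat 0, Int.ofNat 0, Int.ofNat 0, Int.ofNat 2, Int.ofNat 0, Int.ofNat 0, Int.ofNat 0, Int.ofNat 0, Int.ofNat 0, Int.negSucc 1, Int.ofNat 0, Int.ofNat 0, Int.negSucc 1, Int.negSucc 1, Int.ofNat 2, Int.ofNat 0, Int.ofNat 2, Int.ofNat 0, Int.negSucc 1, Int.ofNat 0],
  [Int.ofNat 0, Int.ofNat 2, Int.ofNat 0, Int.ofNat 0, Int.ofNat 0, Int.ofNat 0, Int.ofNat 2, Int.ofNat 0, Int.negSucc 1, Int.ofNat 0, Int.ofNat 2, Int.ofNat 0, Int.ofNat 0, Int.ofNat 0, Int.negSucc 1, Int.ofNat 0, Int.negSucc 1, Int.ofNat 0, Int.ofNat 0, Int.negSucc 1, Int.ofNat 0, Int.ofNat 2, Int.ofNat 0, Int.ofNat 0],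
  [Int.ofNat 1, Int.negSucc 0, Int.ofNat 1, Int.ofNat 1, Int.ofNat 1, Int.ofNat 1, Int.ofNat 1, Int.negSucc 0, Int.negSucc 0, Int.negSucc 0, Int.ofNat 1, Int.ofNat 1, Int.ofNat 1, Int.ofNat 1, Int.negSucc 0, Int.negSucc 0, Int.negSucc 0, Int.ofNat 1, Int.ofNat 1, Int.negSucc 2, Int.negSucc 0, Int.ofNat 1, Int.ofNat 1, Int.ofNat 1],
  [Int.negSucc 0, Int.ofNat 1, Int.ofNat 1, Int.ofNat 1, Int.negSucc 0, Int.ofNat 1, Int.ofNat 1, Int.ofNat 1, Int.ofNat 1, Int.ofNat 1, Int.negSucc 0, Int.negSucc 0, Int.negSucc 0, Int.ofNat 1, Int.ofNat 1, Int.ofNat 1, Int.ofNat 1, Int.negSucc 0, Int.negSucc 0, Int.negSucc 0, Int.ofNat 1, Int.ofNat 1, Int.negSucc 2, Int.ofNat 1],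
  [Int.ofNat 2, Int.ofNat 0, Int.ofNat 0, Int.ofNat 0, Int.ofNat 0, Int.ofNat 0, Int.ofNat 0, Int.ofNat 0, Int.ofNat 2, Int.ofNat 0, Int.negSucc 1, Int.ofNat 0, Int.ofNat 0, Int.ofNat 2, Int.ofNat 0, Int.ofNat 0, Int.ofNat 2, Int.negSucc 1, Int.ofNat 0, Int.negSucc 1, Int.ofNat 0, Int.ofNat 0, Int.negSucc 1, Int.ofNat 0],
  [Int.ofNat 0, Int.ofNat 0, Int.ofNat 0, Int.ofNat 0, Int.ofNat 0, Int.ofNat 0, Int.ofNat 0, Int.ofNat 2, Int.ofNat 0, Int.negSucc 1, Int.ofNat 0, Int.ofNat 0, Int.ofNat 2, Int.ofNat 0, Int.ofNat 0, Int.ofNat 2, Int.negSucc 1, Int.ofNat 0, Int.negSucc 1, Int.ofNat 0, Int.ofNat 0, Int.negSucc 1, Int.ofNat 2, Int.ofNat 0],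
  [Int.ofNat 0, Int.ofNat 0, Int.ofNat 0, Int.ofNat 0, Int.ofNat 0, Int.ofNat 0, Int.ofNat 0, Int.negSucc 1, Int.ofNat 0, Int.ofNat 2, Int.ofNat 0, Int.ofNat 0, Int.ofNat 2, Int.ofNat 0, Int.ofNat 0, Int.ofNat 2, Int.negSucc 1, Int.ofNat 0, Int.ofNat 2, Int.ofNat 0, Int.ofNat 0, Int.ofNat 2, Int.ofNat 2, Int.ofNat 0],
  [Int.ofNat 0, Int.ofNat 0, Int.ofNat 0, Int.ofNat 0, Int.ofNat 0, Int.ofNat 0, Int.ofNat 0, Int.negSucc 1, Int.ofNat 0, Int.negSucc 1, Int.ofNat 0, Int.ofNat 0, Int.negSucc 1, Int.ofNat 0, Int.ofNat 0, Int.ofNat 2, Int.ofNat 2, Int.ofNat 0, Int.negSucc 1, Int.ofNat 0, Int.ofNat 0, Int.ofNat 2, Int.ofNat 2, Int.ofNat 0],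
  [Int.ofNat 0, Int.ofNat 2, Int.ofNat 0, Int.ofNat 2, Int.ofNat 0, Int.negSucc 1, Int.ofNat 0, Int.ofNat 0, Int.ofNat 0, Int.ofNat 0, Int.ofNat 2, Int.ofNat 0, Int.ofNat 2, Int.negSucc 1, Int.negSucc 1, Int.ofNat 0, Int.ofNat 0, Int.ofNat 0, Int.ofNat 0, Int.ofNat 0, Int.ofNat 0, Int.negSucc 1, Int.ofNat 0, Int.ofNat 0],
  [Int.ofNat 0, Int.ofNat 2, Int.ofNat 0, Int.ofNat 2, Int.ofNat 0, Int.negSucc 1, Int.ofNat 0, Int.ofNat 0, Int.ofNat 0, Int.ofNat 0, Int.negSucc 1, Int.ofNat 0, Int.ofNat 2, Int.negSucc 1, Int.negSucc 1, Int.ofNat 0, Int.ofNat 0, Int.ofNat 0, Int.ofNat 0, Int.ofNat 0, Int.ofNat 0, Int.ofNat 2, Int.ofNat 0, Int.ofNat 0],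
  [Int.ofNat 0, Int.ofNat 0, Int.ofNat 2, Int.ofNat 0, Int.ofNat 2, Int.ofNat 0, Int.negSucc 1, Int.ofNat 0, Int.ofNat 0, Int.ofNat 0, Int.ofNat 0, Int.negSucc 1, Int.ofNat 0, Int.ofNat 2, Int.negSucc 1, Int.negSucc 1, Int.ofNat 0, Int.ofNat 0, Int.ofNat 0, Int.ofNat 0, Int.ofNat 0, Int.ofNat 0, Int.ofNat 2, Int.ofNat 0],
  [Int.ofNat 1, Int.ofNat 1, Int.negSucc 0, Int.ofNat 1, Int.negSucc 0, Int.ofNat 1, Int.negSucc 0, Int.ofNat 1, Int.ofNat 1, Int.ofNat 1, Int.ofNat 1, Int.negSucc 0, Int.ofNat 1, Int.negSucc 0, Int.negSucc 0, Int.negSucc 0, Int.negSucc 2, Int.ofNat 1, Int.ofNat 1, Int.ofNat 1, Int.ofNat 1, Int.ofNat 1, Int.negSucc 0, Int.ofNat 1],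
  [Int.ofNat 1, Int.negSucc 0, Int.ofNat 1, Int.negSucc 0, Int.ofNat 1, Int.ofNat 1, Int.ofNat 1, Int.ofNat 1, Int.negSucc 0, Int.ofNat 1, Int.negSucc 0, Int.negSucc 0, Int.negSucc 0, Int.negSucc 2, Int.ofNat 1, Int.ofNat 1, Int.ofNat 1, Int.ofNat 1, Int.ofNat 1, Int.negSucc 0, Int.ofNat 1, Int.ofNat 1, Int.negSucc 0, Int.ofNat 1],
  [Int.ofNat 0, Int.ofNat 2, Int.ofNat 0, Int.negSucc 1, Int.ofNat 2, Int.ofNat 0, Int.ofNat 0, Int.ofNat 0, Int.ofNat 0, Int.ofNat 0, Int.negSucc 1, Int.ofNat 0, Int.ofNat 0, Int.negSucc 1, Int.ofNat 0, Int.ofNat 0, Int.ofNat 2, Int.ofNat 0, Int.ofNat 2, Int.negSucc 1, Int.ofNat 0, Int.ofNat 0, Int.ofNat 0, Int.ofNat 0],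
  [Int.ofNat 0, Int.ofNat 0, Int.ofNat 2, Int.negSucc 1, Int.ofNat 2, Int.ofNat 0, Int.ofNat 0, Int.negSucc 1, Int.ofNat 0, Int.negSucc 1, Int.ofNat 0, Int.ofNat 0, Int.ofNat 0, Int.ofNat 2, Int.ofNat 0, Int.ofNat 0, Int.ofNat 0, Int.ofNat 0, Int.ofNat 2, Int.ofNat 0, Int.ofNat 0, Int.ofNat 0, Int.negSucc 1, Int.ofNat 0],
  [Int.ofNat 1, Int.ofNat 1, Int.negSucc 0, Int.negSucc 0, Int.ofNat 1, Int.ofNat 1, Int.ofNat 1, Int.negSucc 0, Int.negSucc 0, Int.negSucc 0, Int.ofNat 1, Int.negSucc 0, Int.negSucc 0, Int.ofNat 1, Int.ofNat 1, Int.ofNat 1, Int.negSucc 0, Int.ofNat 1, Int.ofNat 1, Int.ofNat 1, Int.ofNat 1, Int.ofNat 1, Int.negSucc 2, Int.ofNat 1],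
  [Int.ofNat 1, Int.ofNat 1, Int.ofNat 1, Int.negSucc 0, Int.ofNat 1, Int.negSucc 0, Int.negSucc 0, Int.negSucc 0, Int.negSucc 0, Int.ofNat 1, Int.negSucc 0, Int.negSucc 0, Int.negSucc 0, Int.ofNat 1, Int.ofNat 1, Int.negSucc 0, Int.negSucc 0, Int.ofNat 1, Int.negSucc 0, Int.ofNat 1, Int.ofNat 1, Int.ofNat 1, Int.ofNat 3, Int.ofNat 1],
  [Int.negSucc 0, Int.negSucc 0, Int.ofNat 1, Int.negSucc 0, Int.negSucc 0, Int.ofNat 1, Int.negSucc 0, Int.ofNat 1, Int.ofNat 1, Int.negSucc 0, Int.ofNat 1, Int.negSucc 0, Int.ofNat 1, Int.ofNat 1, Int.ofNat 1, Int.ofNat 3, Int.negSucc 0, Int.negSucc 0, Int.negSucc 0, Int.negSucc 0, Int.ofNat 1, Int.ofNat 1, Int.ofNat 1, Int.ofNat 1],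
  [Int.negSucc 0, Int.negSucc 0, Int.negSucc 0, Int.negSucc 0, Int.negSucc 0, Int.negSucc 0, Int.ofNat 1, Int.ofNat 1, Int.ofNat 1, Int.ofNat 1, Int.negSucc 0, Int.negSucc 0, Int.ofNat 1, Int.ofNat 1, Int.ofNat 1, Int.negSucc 2, Int.negSucc 0, Int.negSucc 0, Int.ofNat 1, Int.negSucc 0, Int.ofNat 1, Int.ofNat 1, Int.negSucc 0, Int.ofNat 1],
  [Int.ofNat 0, Int.ofNat 0, Int.ofNat 0, Int.ofNat 0, Int.ofNat 0, Int.ofNat 0, Int.ofNat 0, Int.ofNat 0, Int.ofNat 0, Int.ofNat 2, Int.ofNat 0, Int.negSucc 1, Int.ofNat 0, Int.ofNat 2, Int.ofNat 2, Int.negSucc 1, Int.ofNat 0, Int.ofNat 0, Int.ofNat 0, Int.negSucc 1, Int.ofNat 2, Int.ofNat 0, Int.ofNat 0, Int.negSucc 1],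
  [Int.ofNat 0, Int.ofNat 0, Int.ofNat 0, Int.ofNat 0, Int.ofNat 0, Int.ofNat 0, Int.ofNat 0, Int.ofNat 0, Int.ofNat 0, Int.ofNat 0, Int.ofNat 0, Int.negSucc 1, Int.ofNat 0, Int.ofNat 2, Int.ofNat 0, Int.negSucc 1, Int.ofNat 2, Int.negSucc 1, Int.ofNat 0, Int.ofNat 0, Int.ofNat 0, Int.ofNat 2, Int.ofNat 2, Int.negSucc 1],
  [Int.negSucc 0, Int.negSucc 0, Int.negSucc 0, Int.ofNat 1, Int.negSucc 2, Int.ofNat 1, Int.negSucc 0, Int.negSucc 0, Int.ofNat 1, Int.ofNat 1, Int.ofNat 1, Int.negSucc 0, Int.ofNat 1, Int.negSucc 0, Int.ofNat 1, Int.negSucc 0, Int.negSucc 0, Int.negSucc 0, Int.ofNat 1, Int.negSucc 0, Int.ofNat 1, Int.ofNat 1, Int.negSucc 0, Int.ofNat 1],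
  [Int.ofNat 1, Int.ofNat 1, Int.negSucc 0, Int.negSucc 0, Int.negSucc 0, Int.negSucc 0, Int.ofNat 1, Int.negSucc 2, Int.ofNat 1, Int.negSucc 0, Int.negSucc 0, Int.ofNat 1, Int.ofNat 1, Int.ofNat 1, Int.negSucc 0, Int.ofNat 1, Int.negSucc 0, Int.ofNat 1, Int.negSucc 0, Int.negSucc 0, Int.negSucc 0, Int.ofNat 1, Int.negSucc 0, Int.ofNat 1],
  [Int.ofNat 0, Int.ofNat 0, Int.ofNat 2, Int.ofNat 0, Int.ofNat 0, Int.ofNat 0, Int.ofNat 2, Int.negSucc 1, Int.ofNat 0, Int.ofNat 0, Int.ofNat 0, Int.ofNat 0, Int.ofNat 0, Int.ofNat 2, Int.ofNat 0, Int.ofNat 2, Int.ofNat 0, Int.ofNat 2, Int.negSucc 1, Int.ofNat 0, Int.ofNat 0, Int.ofNat 2, Int.ofNat 0, Int.ofNat 0],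
  [Int.ofNat 0, Int.ofNat 2, Int.ofNat 0, Int.ofNat 0, Int.ofNat 0, Int.ofNat 2, Int.negSucc 1, Int.ofNat 0, Int.ofNat 0, Int.ofNat 0, Int.ofNat 0, Int.ofNat 0, Int.ofNat 2, Int.ofNat 0, Int.ofNat 2, Int.ofNat 0, Int.ofNat 2, Int.negSucc 1, Int.ofNat 0, Int.ofNat 0, Int.ofNat 2, Int.ofNat 0, Int.ofNat 0, Int.ofNat 0],
  [Int.ofNat 0, Int.ofNat 2, Int.ofNat 0, Int.ofNat 0, Int.ofNat 0, Int.ofNat 2, Int.negSucc 1, Int.ofNat 0, Int.ofNat 0, Int.ofNat 0, Int.ofNat 0, Int.ofNat 0, Int.ofNat 2, Int.ofNat 0, Int.ofNat 2, Int.ofNat 0, Int.ofNat 2, Int.negSucc 1, Int.ofNat 0, Int.ofNat 0, Int.ofNat 2, Int.ofNat 0, Int.ofNat 0, Int.ofNat 0],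
  [Int.ofNat 0, Int.negSucc 1, Int.ofNat 0, Int.ofNat 0, Int.ofNat 0, Int.ofNat 2, Int.ofNat 2, Int.ofNat 0, Int.ofNat 0, Int.ofNat 0, Int.ofNat 0, Int.ofNat 0, Int.negSucc 1, Int.ofNat 0, Int.ofNat 2, Int.ofNat 0, Int.negSucc 1, Int.negSucc 1, Int.ofNat 0, Int.ofNat 0, Int.ofNat 2, Int.ofNat 0, Int.ofNat 0, Int.ofNat 0],
  [Int.ofNat 0, Int.ofNat 0, Int.ofNat 0, Int.ofNat 0, Int.negSucc 1, Int.ofNat 0, Int.ofNat 0, Int.ofNat 0, Int.ofNat 2, Int.ofNat 2, Int.negSucc 1, Int.ofNat 0, Int.ofNat 0, Int.ofNat 0, Int.ofNat 0, Int.ofNat 0, Int.ofNat 0, Int.ofNat 0, Int.ofNat 2, Int.ofNat 2, Int.ofNat 0, Int.negSucc 1, Int.negSucc 1, Int.ofNat 0],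
  [Int.ofNat 0, Int.ofNat 0, Int.ofNat 0, Int.ofNat 0, Int.negSucc 1, Int.ofNat 0, Int.ofNat 0, Int.ofNat 0, Int.ofNat 2, Int.negSucc 1, Int.ofNat 2, Int.ofNat 0, Int.ofNat 0, Int.ofNat 0, Int.ofNat 0, Int.ofNat 0, Int.ofNat 0, Int.ofNat 0, Int.negSucc 1, Int.ofNat 2, Int.ofNat 0, Int.ofNat 2, Int.negSucc 1, Int.ofNat 0],
  [Int.negSucc 1, Int.ofNat 0, Int.ofNat 0, Int.ofNat 0, Int.ofNat 0, Int.negSucc 1, Int.ofNat 0, Int.ofNat 0, Int.ofNat 0, Int.ofNat 2, Int.negSucc 1, Int.ofNat 2, Int.ofNat 0, Int.ofNat 0, Int.ofNat 0, Int.ofNat 0, Int.ofNat 0, Int.ofNat 0, Int.ofNat 0, Int.negSucc 1, Int.ofNat 2, Int.ofNat 0, Int.ofNat 2, Int.ofNat 0],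
  [Int.ofNat 1, Int.negSucc 0, Int.negSucc 0, Int.ofNat 1, Int.negSucc 0, Int.negSucc 0, Int.ofNat 1, Int.ofNat 1, Int.negSucc 0, Int.ofNat 1, Int.negSucc 2, Int.ofNat 1, Int.negSucc 0, Int.negSucc 0, Int.ofNat 1, Int.negSucc 0, Int.negSucc 0, Int.ofNat 1, Int.negSucc 0, Int.negSucc 0, Int.ofNat 1, Int.ofNat 1, Int.ofNat 1, Int.negSucc 0],
  [Int.ofNat 1, Int.negSucc 0, Int.negSucc 0, Int.ofNat 1, Int.ofNat 1, Int.negSucc 0, Int.ofNat 1, Int.negSucc 2, Int.ofNat 1, Int.negSucc 0, Int.negSucc 0, Int.ofNat 1, Int.negSucc 0, Int.negSucc 0, Int.ofNat 1, Int.negSucc 0, Int.negSucc 0, Int.ofNat 1, Int.ofNat 1, Int.ofNat 1, Int.ofNat 1, Int.negSucc 0, Int.negSucc 0, Int.negSucc 0],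
  [Int.negSucc 1, Int.ofNat 0, Int.ofNat 0, Int.ofNat 0, Int.ofNat 2, Int.negSucc 1, Int.ofNat 2, Int.negSucc 1, Int.ofNat 0, Int.ofNat 0, Int.ofNat 0, Int.ofNat 0, Int.negSucc 1, Int.ofNat 0, Int.ofNat 0, Int.ofNat 0, Int.ofNat 0, Int.ofNat 0, Int.ofNat 0, Int.ofNat 2, Int.ofNat 2, Int.ofNat 0, Int.ofNat 0, Int.ofNat 0],
  [Int.negSucc 1, Int.ofNat 2, Int.ofNat 2, Int.ofNat 0, Int.ofNat 0, Int.negSucc 1, Int.ofNat 0, Int.ofNat 0, Int.negSucc 1, Int.ofNat 0, Int.ofNat 2, Int.ofNat 0, Int.ofNat 0, Int.ofNat 0, Int.ofNat 0, Int.ofNat 0, Int.ofNat 0, Int.ofNat 0, Int.ofNat 0, Int.ofNat 0, Int.ofNat 0, Int.negSucc 1, Int.ofNat 2, Int.ofNat 0],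
  [Int.ofNat 3, Int.negSucc 0, Int.negSucc 0, Int.ofNat 1, Int.negSucc 0, Int.negSucc 0, Int.ofNat 1, Int.ofNat 1, Int.negSucc 0, Int.negSucc 0, Int.ofNat 1, Int.ofNat 1, Int.ofNat 1, Int.negSucc 0, Int.ofNat 1, Int.negSucc 0, Int.negSucc 0, Int.ofNat 1, Int.ofNat 1, Int.ofNat 1, Int.negSucc 0, Int.negSucc 0, Int.ofNat 1, Int.ofNat 1],
  [Int.ofNat 3, Int.negSucc 0, Int.ofNat 1, Int.ofNat 1, Int.negSucc 0, Int.ofNat 1, Int.negSucc 0, Int.ofNat 1, Int.negSucc 0, Int.ofNat 1, Int.negSucc 0, Int.ofNat 1, Int.ofNat 1, Int.negSucc 0, Int.ofNat 1, Int.ofNat 1, Int.negSucc 0, Int.ofNat 1, Int.negSucc 0, Int.ofNat 1, Int.negSucc 0, Int.negSucc 0, Int.negSucc 0, Int.ofNat 1],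
  [Int.ofNat 1, Int.ofNat 1, Int.negSucc 0, Int.ofNat 1, Int.negSucc 0, Int.ofNat 1, Int.negSucc 0, Int.negSucc 0, Int.negSucc 0, Int.negSucc 0, Int.negSucc 0, Int.ofNat 1, Int.ofNat 1, Int.ofNat 3, Int.ofNat 1, Int.negSucc 0, Int.ofNat 1, Int.negSucc 0, Int.ofNat 1, Int.negSucc 0, Int.ofNat 1, Int.ofNat 1, Int.negSucc 0, Int.ofNat 1],
  [Int.ofNat 1, Int.ofNat 1, Int.ofNat 1, Int.ofNat 1, Int.negSucc 0, Int.negSucc 0, Int.ofNat 1, Int.negSucc 0, Int.negSucc 0, Int.ofNat 1, Int.ofNat 1, Int.ofNat 1, Int.ofNat 1, Int.ofNat 3, Int.ofNat 1, Int.ofNat 1, Int.ofNat 1, Int.negSucc 0, Int.negSucc 0, Int.negSucc 0, Int.ofNat 1, Int.ofNat 1, Int.ofNat 1, Int.ofNat 1],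
  [Int.ofNat 1, Int.ofNat 1, Int.ofNat 1, Int.ofNat 1, Int.negSucc 2, Int.negSucc 0, Int.ofNat 1, Int.negSucc 0, Int.negSucc 0, Int.negSucc 0, Int.negSucc 0, Int.ofNat 1, Int.ofNat 1, Int.ofNat 1, Int.ofNat 1, Int.negSucc 0, Int.negSucc 0, Int.negSucc 0, Int.negSucc 0, Int.negSucc 0, Int.negSucc 0, Int.ofNat 1, Int.negSucc 0, Int.ofNat 1],
  [Int.ofNat 1, Int.negSucc 0, Int.ofNat 1, Int.ofNat 1, Int.ofNat 1, Int.ofNat 1, Int.ofNat 1, Int.negSucc 0, Int.negSucc 0, Int.ofNat 1, Int.negSucc 0, Int.negSucc 0, Int.negSucc 0, Int.negSucc 0, Int.negSucc 0, Int.negSucc 0, Int.ofNat 1, Int.ofNat 1, Int.negSucc 2, Int.negSucc 0, Int.negSucc 0, Int.negSucc 0, Int.ofNat 1, Int.ofNat 1],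
  [Int.ofNat 0, Int.ofNat 2, Int.ofNat 0, Int.ofNat 0, Int.ofNat 0, Int.ofNat 0, Int.ofNat 2, Int.ofNat 0, Int.ofNat 2, Int.ofNat 2, Int.ofNat 0, Int.ofNat 2, Int.ofNat 2, Int.negSucc 1, Int.negSucc 1, Int.ofNat 0, Int.ofNat 0, Int.ofNat 0, Int.ofNat 0, Int.ofNat 0, Int.ofNat 0, Int.ofNat 0, Int.ofNat 0, Int.ofNat 0],
  [Int.ofNat 0, Int.ofNat 0, Int.ofNat 0, Int.ofNat 0, Int.ofNat 2, Int.ofNat 0, Int.ofNat 0, Int.ofNat 0, Int.ofNat 0, Int.ofNat 2, Int.ofNat 0, Int.ofNat 2, Int.ofNat 2, Int.ofNat 0, Int.ofNat 2, Int.ofNat 2, Int.negSucc 1, Int.negSucc 1, Int.ofNat 0, Int.ofNat 0, Int.ofNat 0, Int.ofNat 0, Int.ofNat 0, Int.ofNat 0],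
  [Int.ofNat 0, Int.ofNat 0, Int.ofNat 0, Int.ofNat 0, Int.ofNat 2, Int.ofNat 0, Int.ofNat 0, Int.ofNat 0, Int.negSucc 1, Int.ofNat 0, Int.negSucc 1, Int.ofNat 0, Int.ofNat 0, Int.ofNat 0, Int.ofNat 2, Int.ofNat 0, Int.negSucc 1, Int.negSucc 1, Int.negSucc 1, Int.ofNat 0, Int.negSucc 1, Int.ofNat 0, Int.ofNat 0, Int.ofNat 0],
  [Int.ofNat 0, Int.ofNat 0, Int.ofNat 0, Int.ofNat 2, Int.ofNat 0, Int.ofNat 0, Int.ofNat 0, Int.negSucc 1, Int.ofNat 0, Int.negSucc 1, Int.ofNat 0, Int.ofNat 0, Int.ofNat 0, Int.ofNat 2, Int.ofNat 0, Int.negSucc 1, Int.negSucc 1, Int.negSucc 1, Int.ofNat 0, Int.negSucc 1, Int.ofNat 0, Int.ofNat 0, Int.ofNat 0, Int.ofNat 0],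
  [Int.ofNat 0, Int.ofNat 0, Int.ofNat 0, Int.ofNat 2, Int.ofNat 0, Int.ofNat 0, Int.ofNat 0, Int.ofNat 2, Int.ofNat 0, Int.ofNat 2, Int.ofNat 0, Int.ofNat 0, Int.ofNat 0, Int.ofNat 2, Int.ofNat 0, Int.negSucc 1, Int.negSucc 1, Int.negSucc 1, Int.ofNat 0, Int.negSucc 1, Int.ofNat 0, Int.ofNat 0, Int.ofNat 0, Int.ofNat 0],
  [Int.ofNat 0, Int.ofNat 0, Int.ofNat 0, Int.negSucc 1, Int.ofNat 0, Int.ofNat 0, Int.ofNat 0, Int.ofNat 2, Int.ofNat 0, Int.negSucc 1, Int.ofNat 0, Int.ofNat 0, Int.ofNat 0, Int.negSucc 1, Int.ofNat 0, Int.negSucc 1, Int.ofNat 2, Int.negSucc 1, Int.ofNat 0, Int.negSucc 1, Int.ofNat 0, Int.ofNat 0, Int.ofNat 0, Int.ofNat 0],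
  [Int.ofNat 0, Int.ofNat 0, Int.ofNat 0, Int.negSucc 1, Int.negSucc 1, Int.negSucc 1, Int.negSucc 1, Int.negSucc 1, Int.ofNat 0, Int.ofNat 0, Int.ofNat 2, Int.ofNat 0, Int.ofNat 0, Int.ofNat 2, Int.ofNat 0, Int.negSucc 1, Int.ofNat 0, Int.ofNat 0, Int.ofNat 0, Int.ofNat 0, Int.ofNat 0, Int.ofNat 0, Int.ofNat 0, Int.ofNat 0],
  [Int.ofNat 0, Int.ofNat 0, Int.ofNat 0, Int.negSucc 1, Int.negSucc 1, Int.negSucc 1, Int.negSucc 1, Int.ofNat 2, Int.ofNat 0, Int.ofNat 0, Int.negSucc 1, Int.ofNat 0, Int.ofNat 0, Int.ofNat 2, Int.ofNat 0, Int.negSucc 1, Int.ofNat 0, Int.ofNat 0, Int.ofNat 0, Int.ofNat 0, Int.ofNat 0, Int.ofNat 0, Int.ofNat 0, Int.ofNat 0],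
  [Int.ofNat 0, Int.ofNat 0, Int.ofNat 0, Int.ofNat 0, Int.negSucc 1, Int.negSucc 1, Int.negSucc 1, Int.negSucc 1, Int.ofNat 2, Int.ofNat 0, Int.ofNat 0, Int.negSucc 1, Int.ofNat 0, Int.ofNat 0, Int.ofNat 2, Int.ofNat 0, Int.negSucc 1, Int.ofNat 0, Int.ofNat 0, Int.ofNat 0, Int.ofNat 0, Int.ofNat 0, Int.ofNat 0, Int.ofNat 0],
  [Int.ofNat 0, Int.ofNat 0, Int.ofNat 0, Int.ofNat 0, Int.ofNat 0, Int.negSucc 1, Int.ofNat 0, Int.ofNat 0, Int.ofNat 2, Int.ofNat 0, Int.ofNat 0, Int.negSucc 1, Int.ofNat 0, Int.ofNat 2, Int.ofNat 2, Int.ofNat 0, Int.ofNat 0, Int.ofNat 0, Int.ofNat 0, Int.ofNat 2, Int.ofNat 0, Int.ofNat 2, Int.ofNat 2, Int.ofNat 0],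
  [Int.ofNat 0, Int.ofNat 0, Int.negSucc 1, Int.ofNat 0, Int.ofNat 0, Int.ofNat 2, Int.ofNat 0, Int.ofNat 0, Int.negSucc 1, Int.ofNat 0, Int.ofNat 2, Int.ofNat 2, Int.ofNat 0, Int.ofNat 0, Int.ofNat 0, Int.ofNat 0, Int.ofNat 2, Int.ofNat 0, Int.ofNat 2, Int.ofNat 2, Int.ofNat 0, Int.ofNat 0, Int.ofNat 0, Int.ofNat 0],
  [Int.negSucc 0, Int.negSucc 0, Int.ofNat 1, Int.negSucc 0, Int.negSucc 0, Int.ofNat 1, Int.negSucc 0, Int.negSucc 0, Int.negSucc 2, Int.negSucc 0, Int.ofNat 1, Int.ofNat 1, Int.negSucc 0, Int.negSucc 0, Int.negSucc 0, Int.negSucc 0, Int.ofNat 1, Int.negSucc 0, Int.ofNat 1, Int.ofNat 1, Int.negSucc 0, Int.negSucc 0, Int.negSucc 0, Int.negSucc 0],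
  [Int.negSucc 0, Int.negSucc 0, Int.negSucc 0, Int.negSucc 0, Int.ofNat 1, Int.negSucc 0, Int.ofNat 1, Int.ofNat 1, Int.negSucc 0, Int.negSucc 0, Int.negSucc 0, Int.negSucc 0, Int.negSucc 0, Int.ofNat 1, Int.negSucc 0, Int.negSucc 0, Int.negSucc 2, Int.negSucc 0, Int.negSucc 0, Int.ofNat 1, Int.negSucc 0, Int.ofNat 1, Int.ofNat 1, Int.negSucc 0],
  [Int.negSucc 0, Int.negSucc 0, Int.negSucc 0, Int.ofNat 1, Int.ofNat 1, Int.ofNat 1, Int.negSucc 0, Int.negSucc 0, Int.ofNat 1, Int.ofNat 1, Int.ofNat 1, Int.ofNat 1, Int.ofNat 1, Int.ofNat 1, Int.ofNat 1, Int.ofNat 1, Int.negSucc 2, Int.ofNat 1, Int.ofNat 1, Int.negSucc 0, Int.ofNat 1, Int.negSucc 0, Int.ofNat 1, Int.negSucc 0],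
  [Int.negSucc 0, Int.negSucc 0, Int.ofNat 1, Int.ofNat 1, Int.ofNat 1, Int.negSucc 0, Int.ofNat 1, Int.negSucc 0, Int.ofNat 1, Int.negSucc 0, Int.negSucc 0, Int.ofNat 1, Int.ofNat 1, Int.ofNat 1, Int.ofNat 1, Int.negSucc 0, Int.negSucc 2, Int.ofNat 1, Int.negSucc 0, Int.negSucc 0, Int.ofNat 1, Int.negSucc 0, Int.negSucc 0, Int.negSucc 0],
  [Int.ofNat 1, Int.negSucc 0, Int.negSucc 0, Int.ofNat 1, Int.negSucc 0, Int.negSucc 0, Int.negSucc 0, Int.negSucc 0, Int.ofNat 1, Int.ofNat 1, Int.ofNat 1, Int.negSucc 0, Int.ofNat 1, Int.negSucc 0, Int.ofNat 1, Int.negSucc 0, Int.negSucc 0, Int.negSucc 2, Int.ofNat 1, Int.ofNat 1, Int.ofNat 1, Int.negSucc 0, Int.ofNat 1, Int.negSucc 0],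
  [Int.ofNat 1, Int.negSucc 0, Int.ofNat 1, Int.ofNat 1, Int.negSucc 0, Int.ofNat 1, Int.ofNat 1, Int.negSucc 0, Int.ofNat 1, Int.negSucc 0, Int.negSucc 0, Int.negSucc 0, Int.ofNat 1, Int.negSucc 0, Int.ofNat 1, Int.ofNat 1, Int.negSucc 0, Int.negSucc 2, Int.negSucc 0, Int.ofNat 1, Int.ofNat 1, Int.negSucc 0, Int.negSucc 0, Int.negSucc 0],
  [Int.negSucc 0, Int.ofNat 1, Int.negSucc 0, Int.ofNat 1, Int.ofNat 1, Int.ofNat 1, Int.ofNat 1, Int.negSucc 0, Int.ofNat 1, Int.negSucc 0, Int.negSucc 0, Int.negSucc 0, Int.ofNat 1, Int.ofNat 1, Int.ofNat 1, Int.ofNat 1, Int.ofNat 1, Int.negSucc 2, Int.negSucc 0, Int.ofNat 1, Int.ofNat 1, Int.negSucc 0, Int.ofNat 1, Int.ofNat 1],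
  [Int.negSucc 0, Int.negSucc 0, Int.ofNat 1, Int.ofNat 1, Int.negSucc 0, Int.negSucc 0, Int.ofNat 1, Int.ofNat 1, Int.ofNat 1, Int.ofNat 1, Int.negSucc 0, Int.ofNat 1, Int.ofNat 1, Int.negSucc 0, Int.negSucc 2, Int.ofNat 1, Int.ofNat 1, Int.negSucc 0, Int.ofNat 1, Int.ofNat 1, Int.negSucc 0, Int.ofNat 1, Int.ofNat 1, Int.ofNat 1],
  [Int.ofNat 1, Int.ofNat 1, Int.negSucc 0, Int.ofNat 3, Int.negSucc 0, Int.ofNat 1, Int.negSucc 0, Int.negSucc 0, Int.negSucc 0, Int.ofNat 1, Int.negSucc 0, Int.negSucc 0, Int.negSucc 0, Int.negSucc 0, Int.negSucc 0, Int.ofNat 1, Int.ofNat 1, Int.ofNat 1, Int.negSucc 0, Int.negSucc 0, Int.negSucc 0, Int.negSucc 0, Int.ofNat 1, Int.negSucc 0],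
  [Int.negSucc 0, Int.negSucc 0, Int.ofNat 1, Int.ofNat 1, Int.ofNat 1, Int.negSucc 0, Int.ofNat 3, Int.negSucc 0, Int.ofNat 1, Int.negSucc 0, Int.negSucc 0, Int.negSucc 0, Int.ofNat 1, Int.negSucc 0, Int.negSucc 0, Int.negSucc 0, Int.negSucc 0, Int.negSucc 0, Int.ofNat 1, Int.ofNat 1, Int.ofNat 1, Int.negSucc 0, Int.negSucc 0, Int.negSucc 0],
  [Int.ofNat 0, Int.ofNat 0, Int.negSucc 1, Int.ofNat 2, Int.ofNat 2, Int.ofNat 0, Int.ofNat 2, Int.negSucc 1, Int.ofNat 0, Int.ofNat 0, Int.ofNat 0, Int.negSucc 1, Int.ofNat 0, Int.ofNat 0, Int.ofNat 0, Int.ofNat 0, Int.ofNat 0, Int.ofNat 0, Int.ofNat 0, Int.ofNat 0, Int.ofNat 2, Int.negSucc 1, Int.ofNat 0, Int.ofNat 0],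
  [Int.ofNat 0, Int.negSucc 1, Int.ofNat 2, Int.ofNat 2, Int.ofNat 0, Int.ofNat 2, Int.negSucc 1, Int.ofNat 0, Int.ofNat 0, Int.ofNat 0, Int.negSucc 1, Int.ofNat 0, Int.ofNat 0, Int.ofNat 0, Int.ofNat 0, Int.ofNat 0, Int.ofNat 0, Int.ofNat 0, Int.ofNat 0, Int.ofNat 2, Int.negSucc 1, Int.ofNat 0, Int.ofNat 0, Int.ofNat 0],
  [Int.ofNat 0, Int.negSucc 1, Int.negSucc 1, Int.ofNat 2, Int.ofNat 0, Int.ofNat 2, Int.negSucc 1, Int.ofNat 0, Int.ofNat 0, Int.ofNat 0, Int.ofNat 2, Int.ofNat 0, Int.ofNat 0, Int.ofNat 0, Int.ofNat 0, Int.ofNat 0, Int.ofNat 0, Int.ofNat 0, Int.ofNat 0, Int.ofNat 2, Int.negSucc 1, Int.ofNat 0, Int.ofNat 0, Int.ofNat 0],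
  [Int.ofNat 0, Int.ofNat 2, Int.ofNat 2, Int.negSucc 1, Int.ofNat 0, Int.ofNat 2, Int.ofNat 2, Int.ofNat 0, Int.ofNat 0, Int.ofNat 0, Int.ofNat 2, Int.ofNat 0, Int.ofNat 0, Int.ofNat 0, Int.ofNat 0, Int.ofNat 0, Int.ofNat 0, Int.ofNat 0, Int.ofNat 0, Int.ofNat 2, Int.negSucc 1, Int.ofNat 0, Int.ofNat 0, Int.ofNat 0],
  [Int.ofNat 0, Int.ofNat 0, Int.ofNat 0, Int.ofNat 0, Int.ofNat 0, Int.ofNat 0, Int.ofNat 2, Int.ofNat 0, Int.negSucc 1, Int.ofNat 2, Int.ofNat 0, Int.ofNat 2, Int.ofNat 0, Int.ofNat 0, Int.ofNat 0, Int.negSucc 1, Int.ofNat 2, Int.ofNat 0, Int.ofNat 0, Int.ofNat 2, Int.ofNat 0, Int.ofNat 0, Int.ofNat 2, Int.ofNat 0],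
  [Int.ofNat 0, Int.ofNat 0, Int.ofNat 0, Int.ofNat 0, Int.ofNat 0, Int.ofNat 0, Int.ofNat 2, Int.ofNat 0, Int.negSucc 1, Int.negSucc 1, Int.ofNat 0, Int.negSucc 1, Int.ofNat 0, Int.ofNat 0, Int.ofNat 0, Int.negSucc 1, Int.ofNat 2, Int.ofNat 0, Int.ofNat 0, Int.ofNat 2, Int.ofNat 0, Int.ofNat 0, Int.ofNat 2, Int.ofNat 0],
  [Int.ofNat 2, Int.ofNat 0, Int.ofNat 0, Int.ofNat 0, Int.ofNat 0, Int.ofNat 0, Int.ofNat 0, Int.ofNat 2, Int.ofNat 0, Int.negSucc 1, Int.negSucc 1, Int.ofNat 0, Int.negSucc 1, Int.ofNat 0, Int.ofNat 0, Int.ofNat 0, Int.negSucc 1, Int.ofNat 2, Int.ofNat 0, Int.ofNat 0, Int.ofNat 2, Int.ofNat 0, Int.ofNat 0, Int.ofNat 0],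
  [Int.negSucc 0, Int.ofNat 1, Int.ofNat 1, Int.negSucc 0, Int.ofNat 1, Int.negSucc 0, Int.negSucc 0, Int.ofNat 1, Int.ofNat 1, Int.negSucc 0, Int.negSucc 0, Int.ofNat 1, Int.negSucc 0, Int.ofNat 1, Int.negSucc 0, Int.ofNat 1, Int.negSucc 0, Int.ofNat 1, Int.ofNat 1, Int.negSucc 0, Int.ofNat 3, Int.negSucc 0, Int.ofNat 1, Int.ofNat 1],
  [Int.negSucc 0, Int.ofNat 1, Int.negSucc 0, Int.negSucc 0, Int.ofNat 1, Int.ofNat 1, Int.negSucc 0, Int.negSucc 0, Int.ofNat 1, Int.negSucc 0, Int.ofNat 1, Int.negSucc 0, Int.ofNat 1, Int.negSucc 0, Int.ofNat 1, Int.ofNat 1, Int.negSucc 0, Int.ofNat 3, Int.negSucc 0, Int.ofNat 1, Int.negSucc 0, Int.ofNat 1, Int.ofNat 1, Int.ofNat 1],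
  [Int.ofNat 1, Int.negSucc 0, Int.ofNat 1, Int.negSucc 2, Int.ofNat 1, Int.negSucc 0, Int.negSucc 0, Int.negSucc 0, Int.ofNat 1, Int.negSucc 0, Int.ofNat 1, Int.negSucc 0, Int.ofNat 1, Int.negSucc 0, Int.negSucc 0, Int.ofNat 1, Int.negSucc 0, Int.ofNat 1, Int.negSucc 0, Int.ofNat 1, Int.negSucc 0, Int.ofNat 1, Int.ofNat 1, Int.negSucc 0],
  [Int.ofNat 1, Int.negSucc 0, Int.ofNat 1, Int.negSucc 2, Int.negSucc 0, Int.negSucc 0, Int.ofNat 1, Int.ofNat 1, Int.ofNat 1, Int.negSucc 0, Int.negSucc 0, Int.ofNat 1, Int.negSucc 0, Int.negSucc 0, Int.ofNat 1, Int.ofNat 1, Int.ofNat 1, Int.negSucc 0, Int.negSucc 0, Int.negSucc 0, Int.ofNat 1, Int.negSucc 0, Int.ofNat 1, Int.negSucc 0],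
  [Int.negSucc 0, Int.ofNat 1, Int.negSucc 0, Int.negSucc 0, Int.negSucc 0, Int.ofNat 1, Int.ofNat 1, Int.ofNat 1, Int.ofNat 1, Int.negSucc 0, Int.negSucc 0, Int.ofNat 1, Int.negSucc 0, Int.negSucc 0, Int.ofNat 3, Int.ofNat 1, Int.ofNat 1, Int.ofNat 1, Int.negSucc 0, Int.negSucc 0, Int.ofNat 1, Int.negSucc 0, Int.ofNat 1, Int.ofNat 1],
  [Int.negSucc 0, Int.ofNat 1, Int.ofNat 1, Int.negSucc 0, Int.negSucc 0, Int.negSucc 0, Int.negSucc 0, Int.ofNat 1, Int.ofNat 1, Int.ofNat 1, Int.ofNat 1, Int.ofNat 1, Int.negSucc 0, Int.negSucc 0, Int.ofNat 3, Int.negSucc 0, Int.ofNat 1, Int.ofNat 1, Int.ofNat 1, Int.negSucc 0, Int.ofNat 1, Int.negSucc 0, Int.negSucc 0, Int.ofNat 1],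
  [Int.negSucc 0, Int.negSucc 0, Int.negSucc 0, Int.negSucc 0, Int.ofNat 1, Int.ofNat 1, Int.ofNat 1, Int.ofNat 1, Int.negSucc 0, Int.negSucc 0, Int.negSucc 0, Int.negSucc 0, Int.ofNat 3, Int.negSucc 0, Int.ofNat 1, Int.negSucc 0, Int.ofNat 1, Int.ofNat 1, Int.ofNat 1, Int.ofNat 1, Int.ofNat 1, Int.negSucc 0, Int.ofNat 1, Int.ofNat 1],
  [Int.negSucc 0, Int.negSucc 0, Int.ofNat 1, Int.negSucc 0, Int.ofNat 1, Int.negSucc 0, Int.negSucc 0, Int.ofNat 1, Int.negSucc 0, Int.ofNat 1, Int.ofNat 1, Int.negSucc 0, Int.ofNat 3, Int.negSucc 0, Int.ofNat 1, Int.ofNat 1, Int.ofNat 1, Int.ofNat 1, Int.negSucc 0, Int.ofNat 1, Int.ofNat 1, Int.negSucc 0, Int.negSucc 0, Int.ofNat 1],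
  [Int.ofNat 1, Int.ofNat 1, Int.negSucc 0, Int.negSucc 0, Int.ofNat 1, Int.negSucc 0, Int.negSucc 0, Int.ofNat 1, Int.negSucc 0, Int.negSucc 0, Int.negSucc 0, Int.negSucc 0, Int.ofNat 3, Int.negSucc 0, Int.ofNat 1, Int.negSucc 0, Int.ofNat 1, Int.ofNat 1, Int.negSucc 0, Int.ofNat 1, Int.negSucc 0, Int.negSucc 0, Int.negSucc 0, Int.negSucc 0],
  [Int.ofNat 1, Int.negSucc 0, Int.negSucc 0, Int.negSucc 0, Int.negSucc 0, Int.negSucc 0, Int.ofNat 1, Int.negSucc 0, Int.ofNat 1, Int.ofNat 3, Int.ofNat 1, Int.ofNat 1, Int.negSucc 0, Int.negSucc 0, Int.ofNat 1, Int.negSucc 0, Int.negSucc 0, Int.negSucc 0, Int.ofNat 1, Int.negSucc 0, Int.negSucc 0, Int.negSucc 0, Int.ofNat 1, Int.negSucc 0],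
  [Int.negSucc 1, Int.ofNat 0, Int.ofNat 0, Int.ofNat 0, Int.ofNat 0, Int.ofNat 0, Int.ofNat 2, Int.ofNat 0, Int.ofNat 0, Int.ofNat 2, Int.ofNat 0, Int.ofNat 0, Int.negSucc 1, Int.ofNat 0, Int.ofNat 2, Int.negSucc 1, Int.ofNat 0, Int.ofNat 0, Int.ofNat 0, Int.ofNat 0, Int.negSucc 1, Int.ofNat 0, Int.ofNat 2, Int.ofNat 0],
  [Int.negSucc 1, Int.ofNat 0, Int.ofNat 2, Int.negSucc 1, Int.ofNat 0, Int.ofNat 0, Int.ofNat 0, Int.ofNat 0, Int.ofNat 0, Int.ofNat 2, Int.ofNat 0, Int.ofNat 0, Int.ofNat 2, Int.ofNat 0, Int.ofNat 0, Int.negSucc 1, Int.ofNat 0, Int.ofNat 2, Int.negSucc 1, Int.ofNat 0, Int.ofNat 0, Int.ofNat 0, Int.ofNat 0, Int.ofNat 0],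
  [Int.ofNat 2, Int.ofNat 0, Int.negSucc 1, Int.negSucc 1, Int.ofNat 0, Int.ofNat 0, Int.ofNat 0, Int.ofNat 0, Int.ofNat 0, Int.ofNat 2, Int.ofNat 0, Int.ofNat 0, Int.ofNat 2, Int.ofNat 0, Int.ofNat 0, Int.negSucc 1, Int.ofNat 0, Int.ofNat 2, Int.negSucc 1, Int.ofNat 0, Int.ofNat 0, Int.ofNat 0, Int.ofNat 0, Int.ofNat 0],
  [Int.ofNat 0, Int.negSucc 1, Int.negSucc 1, Int.ofNat 0, Int.ofNat 0, Int.ofNat 0, Int.ofNat 0, Int.ofNat 0, Int.ofNat 2, Int.ofNat 0, Int.ofNat 0, Int.ofNat 2, Int.ofNat 0, Int.ofNat 0, Int.negSucc 1, Int.ofNat 0, Int.ofNat 2, Int.negSucc 1, Int.ofNat 0, Int.ofNat 0, Int.ofNat 0, Int.ofNat 0, Int.ofNat 2, Int.ofNat 0],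
  [Int.ofNat 0, Int.negSucc 1, Int.ofNat 2, Int.ofNat 0, Int.ofNat 0, Int.ofNat 0, Int.ofNat 0, Int.ofNat 0, Int.ofNat 2, Int.ofNat 0, Int.ofNat 0, Int.negSucc 1, Int.ofNat 0, Int.ofNat 0, Int.negSucc 1, Int.ofNat 0, Int.ofNat 2, Int.negSucc 1, Int.ofNat 0, Int.ofNat 0, Int.ofNat 0, Int.ofNat 0, Int.ofNat 2, Int.ofNat 0],
  [Int.ofNat 0, Int.ofNat 2, Int.negSucc 1, Int.ofNat 0, Int.ofNat 0, Int.ofNat 0, Int.ofNat 0, Int.ofNat 0, Int.negSucc 1, Int.ofNat 0, Int.ofNat 0, Int.negSucc 1, Int.ofNat 0, Int.ofNat 0, Int.negSucc 1, Int.ofNat 0, Int.negSucc 1, Int.negSucc 1, Int.ofNat 0, Int.ofNat 0, Int.ofNat 0, Int.ofNat 0, Int.ofNat 2, Int.ofNat 0],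
  [Int.ofNat 0, Int.ofNat 2, Int.negSucc 1, Int.ofNat 0, Int.negSucc 1, Int.ofNat 0, Int.ofNat 0, Int.ofNat 0, Int.ofNat 0, Int.ofNat 0, Int.negSucc 1, Int.negSucc 1, Int.ofNat 0, Int.ofNat 0, Int.ofNat 0, Int.ofNat 0, Int.ofNat 0, Int.ofNat 0, Int.negSucc 1, Int.ofNat 0, Int.negSucc 1, Int.ofNat 0, Int.ofNat 2, Int.ofNat 0],
  [Int.ofNat 0, Int.ofNat 2, Int.ofNat 2, Int.ofNat 0, Int.negSucc 1, Int.ofNat 0, Int.ofNat 0, Int.ofNat 0, Int.ofNat 0, Int.ofNat 0, Int.ofNat 2, Int.ofNat 2, Int.ofNat 0, Int.ofNat 0, Int.ofNat 0, Int.ofNat 0, Int.ofNat 0, Int.ofNat 0, Int.ofNat 2, Int.ofNat 0, Int.negSucc 1, Int.ofNat 0, Int.ofNat 2, Int.ofNat 0],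
  [Int.ofNat 2, Int.ofNat 0, Int.ofNat 2, Int.ofNat 2, Int.ofNat 0, Int.negSucc 1, Int.ofNat 0, Int.ofNat 0, Int.ofNat 0, Int.ofNat 0, Int.ofNat 0, Int.ofNat 2, Int.ofNat 2, Int.ofNat 0, Int.ofNat 0, Int.ofNat 0, Int.ofNat 0, Int.ofNat 0, Int.ofNat 0, Int.ofNat 2, Int.ofNat 0, Int.negSucc 1, Int.ofNat 0, Int.ofNat 0],
  [Int.ofNat 0, Int.ofNat 2, Int.ofNat 0, Int.ofNat 2, Int.ofNat 0, Int.negSucc 1, Int.ofNat 0, Int.ofNat 0, Int.negSucc 1, Int.ofNat 0, Int.ofNat 0, Int.ofNat 0, Int.ofNat 0, Int.ofNat 0, Int.ofNat 0, Int.ofNat 0, Int.ofNat 0, Int.ofNat 0, Int.negSucc 1, Int.ofNat 2, Int.ofNat 0, Int.negSucc 1, Int.ofNat 0, Int.ofNat 2],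
  [Int.ofNat 2, Int.ofNat 0, Int.negSucc 1, Int.ofNat 0, Int.ofNat 0, Int.negSucc 1, Int.ofNat 0, Int.ofNat 0, Int.ofNat 0, Int.ofNat 0, Int.ofNat 0, Int.ofNat 0, Int.ofNat 0, Int.ofNat 0, Int.ofNat 0, Int.negSucc 1, Int.ofNat 2, Int.ofNat 0, Int.negSucc 1, Int.ofNat 0, Int.ofNat 0, Int.ofNat 2, Int.ofNat 0, Int.ofNat 2],
  [Int.negSucc 0, Int.ofNat 1, Int.ofNat 3, Int.ofNat 1, Int.negSucc 0, Int.negSucc 0, Int.negSucc 0, Int.negSucc 0, Int.ofNat 1, Int.ofNat 1, Int.ofNat 1, Int.ofNat 1, Int.ofNat 1, Int.negSucc 0, Int.ofNat 1, Int.negSucc 0, Int.ofNat 1, Int.ofNat 1, Int.negSucc 0, Int.negSucc 0, Int.ofNat 1, Int.ofNat 1, Int.negSucc 0, Int.negSucc 0],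
  [Int.negSucc 0, Int.negSucc 0, Int.negSucc 0, Int.ofNat 1, Int.negSucc 0, Int.negSucc 0, Int.ofNat 3, Int.ofNat 1, Int.ofNat 1, Int.negSucc 0, Int.ofNat 1, Int.ofNat 1, Int.ofNat 1, Int.ofNat 1, Int.negSucc 0, Int.negSucc 0, Int.ofNat 1, Int.ofNat 1, Int.ofNat 1, Int.ofNat 1, Int.ofNat 1, Int.negSucc 0, Int.negSucc 0, Int.negSucc 0],
  [Int.negSucc 0, Int.negSucc 0, Int.negSucc 0, Int.ofNat 1, Int.negSucc 0, Int.negSucc 0, Int.ofNat 1, Int.negSucc 0, Int.negSucc 0, Int.negSucc 0, Int.ofNat 1, Int.negSucc 0, Int.negSucc 0, Int.ofNat 1, Int.negSucc 0, Int.negSucc 0, Int.ofNat 1, Int.ofNat 1, Int.negSucc 0, Int.negSucc 0, Int.ofNat 1, Int.negSucc 2, Int.negSucc 0, Int.negSucc 0],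
  [Int.negSucc 0, Int.negSucc 0, Int.ofNat 1, Int.ofNat 1, Int.negSucc 0, Int.ofNat 1, Int.negSucc 0, Int.negSucc 0, Int.negSucc 0, Int.ofNat 1, Int.negSucc 0, Int.negSucc 0, Int.negSucc 0, Int.ofNat 1, Int.negSucc 0, Int.ofNat 1, Int.ofNat 1, Int.ofNat 1, Int.ofNat 1, Int.negSucc 0, Int.ofNat 1, Int.negSucc 2, Int.ofNat 1, Int.negSucc 0],
  [Int.ofNat 1, Int.ofNat 1, Int.negSucc 2, Int.negSucc 0, Int.negSucc 0, Int.ofNat 1, Int.ofNat 1, Int.negSucc 0, Int.negSucc 0, Int.negSucc 0, Int.ofNat 1, Int.ofNat 1, Int.negSucc 0, Int.negSucc 0, Int.ofNat 1, Int.ofNat 1, Int.negSucc 0, Int.ofNat 1, Int.negSucc 0, Int.negSucc 0, Int.ofNat 1, Int.negSucc 0, Int.ofNat 1, Int.negSucc 0],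
  [Int.ofNat 1, Int.ofNat 1, Int.ofNat 3, Int.negSucc 0, Int.negSucc 0, Int.negSucc 0, Int.negSucc 0, Int.negSucc 0, Int.negSucc 0, Int.ofNat 1, Int.negSucc 0, Int.ofNat 1, Int.negSucc 0, Int.negSucc 0, Int.ofNat 1, Int.negSucc 0, Int.negSucc 0, Int.ofNat 1, Int.ofNat 1, Int.negSucc 0, Int.ofNat 1, Int.negSucc 0, Int.negSucc 0, Int.negSucc 0],
  [Int.ofNat 1, Int.ofNat 1, Int.negSucc 0, Int.negSucc 0, Int.ofNat 1, Int.negSucc 0, Int.ofNat 1, Int.ofNat 1, Int.negSucc 0, Int.ofNat 1, Int.negSucc 0, Int.ofNat 1, Int.negSucc 0, Int.ofNat 1, Int.ofNat 1, Int.negSucc 0, Int.ofNat 1, Int.ofNat 1, Int.ofNat 1, Int.ofNat 1, Int.ofNat 1, Int.ofNat 1, Int.ofNat 1, Int.ofNat 3],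
  [Int.ofNat 1, Int.ofNat 1, Int.ofNat 1, Int.negSucc 0, Int.negSucc 0, Int.ofNat 1, Int.ofNat 1, Int.negSucc 0, Int.ofNat 1, Int.negSucc 0, Int.ofNat 1, Int.ofNat 1, Int.negSucc 0, Int.ofNat 1, Int.ofNat 1, Int.negSucc 0, Int.ofNat 1, Int.ofNat 1, Int.ofNat 1, Int.ofNat 1, Int.negSucc 0, Int.ofNat 1, Int.ofNat 1, Int.ofNat 3],
  [Int.ofNat 2, Int.ofNat 2, Int.ofNat 2, Int.negSucc 1, Int.negSucc 1, Int.ofNat 0, Int.ofNat 0, Int.negSucc 1, Int.ofNat 0, Int.ofNat 0, Int.ofNat 2, Int.ofNat 0, Int.negSucc 1, Int.ofNat 0, Int.ofNat 0, Int.ofNat 0, Int.ofNat 0, Int.ofNat 0, Int.ofNat 0, Int.ofNat 0, Int.ofNat 0, Int.ofNat 0, Int.ofNat 0, Int.ofNat 0],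
  [Int.ofNat 0, Int.ofNat 0, Int.ofNat 0, Int.ofNat 2, Int.ofNat 2, Int.ofNat 2, Int.negSucc 1, Int.negSucc 1, Int.ofNat 0, Int.ofNat 0, Int.negSucc 1, Int.ofNat 0, Int.ofNat 0, Int.ofNat 2, Int.ofNat 0, Int.negSucc 1, Int.ofNat 0, Int.ofNat 0, Int.ofNat 0, Int.ofNat 0, Int.ofNat 0, Int.ofNat 0, Int.ofNat 0, Int.ofNat 0],
  [Int.ofNat 0, Int.ofNat 0, Int.ofNat 0, Int.ofNat 0, Int.ofNat 0, Int.ofNat 0, Int.ofNat 0, Int.ofNat 0, Int.ofNat 0, Int.ofNat 2, Int.ofNat 0, Int.ofNat 0, Int.ofNat 0, Int.ofNat 0, Int.negSucc 1, Int.ofNat 0, Int.negSucc 1, Int.negSucc 1, Int.ofNat 0, Int.ofNat 2, Int.ofNat 2, Int.ofNat 2, Int.negSucc 1, Int.ofNat 0],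
  [Int.ofNat 0, Int.ofNat 0, Int.ofNat 0, Int.ofNat 0, Int.ofNat 0, Int.ofNat 0, Int.ofNat 0, Int.ofNat 0, Int.ofNat 2, Int.ofNat 0, Int.ofNat 0, Int.ofNat 0, Int.ofNat 0, Int.negSucc 1, Int.ofNat 0, Int.negSucc 1, Int.negSucc 1, Int.ofNat 0, Int.ofNat 2, Int.ofNat 2, Int.ofNat 2, Int.negSucc 1, Int.ofNat 0, Int.ofNat 0],
  [Int.ofNat 0, Int.ofNat 0, Int.ofNat 0, Int.ofNat 0, Int.ofNat 0, Int.ofNat 0, Int.ofNat 0, Int.ofNat 0, Int.ofNat 2, Int.ofNat 0, Int.ofNat 0, Int.ofNat 0, Int.ofNat 0, Int.negSucc 1, Int.ofNat 0, Int.negSucc 1, Int.negSucc 1, Int.ofNat 0, Int.negSucc 1, Int.ofNat 2, Int.ofNat 2, Int.ofNat 2, Int.ofNat 0, Int.ofNat 0],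
  [Int.ofNat 0, Int.ofNat 0, Int.ofNat 0, Int.ofNat 0, Int.ofNat 0, Int.ofNat 0, Int.ofNat 0, Int.ofNat 0, Int.negSucc 1, Int.ofNat 0, Int.ofNat 0, Int.ofNat 0, Int.ofNat 0, Int.ofNat 2, Int.ofNat 0, Int.negSucc 1, Int.ofNat 2, Int.ofNat 0, Int.ofNat 2, Int.ofNat 2, Int.ofNat 2, Int.ofNat 2, Int.ofNat 0, Int.ofNat 0],
  [Int.ofNat 0, Int.ofNat 0, Int.ofNat 0, Int.negSucc 1, Int.ofNat 0, Int.ofNat 0, Int.ofNat 2, Int.ofNat 2, Int.ofNat 2, Int.ofNat 0, Int.ofNat 2, Int.ofNat 0, Int.ofNat 2, Int.ofNat 0, Int.ofNat 2, Int.ofNat 0, Int.ofNat 0, Int.ofNat 0, Int.ofNat 0, Int.ofNat 0, Int.negSucc 1, Int.ofNat 0, Int.ofNat 0, Int.ofNat 0],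
  [Int.ofNat 0, Int.ofNat 0, Int.ofNat 0, Int.negSucc 1, Int.ofNat 0, Int.ofNat 0, Int.ofNat 2, Int.negSucc 1, Int.ofNat 2, Int.ofNat 0, Int.negSucc 1, Int.ofNat 0, Int.ofNat 2, Int.ofNat 0, Int.ofNat 2, Int.ofNat 0, Int.ofNat 0, Int.ofNat 0, Int.ofNat 0, Int.ofNat 0, Int.negSucc 1, Int.ofNat 0, Int.ofNat 0, Int.ofNat 0],
  [Int.ofNat 0, Int.ofNat 0, Int.ofNat 0, Int.ofNat 0, Int.negSucc 1, Int.ofNat 0, Int.ofNat 0, Int.ofNat 2, Int.negSucc 1, Int.ofNat 2, Int.ofNat 0, Int.negSucc 1, Int.ofNat 0, Int.ofNat 2, Int.ofNat 0, Int.ofNat 2, Int.ofNat 0, Int.ofNat 0, Int.ofNat 0, Int.ofNat 0, Int.ofNat 0, Int.negSucc 1, Int.ofNat 0, Int.ofNat 0],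
  [Int.ofNat 0, Int.ofNat 0, Int.ofNat 0, Int.ofNat 0, Int.negSucc 1, Int.ofNat 0, Int.ofNat 0, Int.ofNat 2, Int.ofNat 0, Int.ofNat 0, Int.negSucc 1, Int.ofNat 0, Int.ofNat 2, Int.ofNat 2, Int.ofNat 0, Int.ofNat 0, Int.ofNat 0, Int.ofNat 0, Int.ofNat 2, Int.ofNat 0, Int.negSucc 1, Int.negSucc 1, Int.ofNat 0, Int.ofNat 0],
  [Int.ofNat 0, Int.negSucc 1, Int.ofNat 0, Int.ofNat 0, Int.ofNat 2, Int.ofNat 0, Int.ofNat 0, Int.negSucc 1, Int.ofNat 0, Int.ofNat 2, Int.ofNat 2, Int.ofNat 0, Int.ofNat 0, Int.ofNat 0, Int.ofNat 0, Int.ofNat 2, Int.ofNat 0, Int.negSucc 1, Int.negSucc 1, Int.ofNat 0, Int.ofNat 0, Int.ofNat 0, Int.ofNat 0, Int.ofNat 0],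
  [Int.negSucc 0, Int.ofNat 1, Int.negSucc 0, Int.ofNat 1, Int.ofNat 1, Int.ofNat 1, Int.ofNat 1, Int.negSucc 0, Int.ofNat 1, Int.negSucc 0, Int.negSucc 0, Int.ofNat 1, Int.ofNat 1, Int.negSucc 0, Int.ofNat 1, Int.negSucc 0, Int.negSucc 0, Int.negSucc 0, Int.negSucc 0, Int.ofNat 1, Int.negSucc 2, Int.ofNat 1, Int.negSucc 0, Int.negSucc 0],
  [Int.negSucc 0, Int.ofNat 1, Int.ofNat 1, Int.ofNat 1, Int.negSucc 0, Int.negSucc 0, Int.negSucc 0, Int.negSucc 0, Int.ofNat 1, Int.negSucc 0, Int.negSucc 2, Int.negSucc 0, Int.negSucc 0, Int.negSucc 0, Int.negSucc 0, Int.negSucc 0, Int.ofNat 1, Int.ofNat 1, Int.ofNat 1, Int.ofNat 1, Int.ofNat 1, Int.ofNat 1, Int.ofNat 1, Int.negSucc 0],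
  [Int.ofNat 1, Int.negSucc 0, Int.negSucc 0, Int.ofNat 1, Int.negSucc 0, Int.negSucc 0, Int.negSucc 0, Int.negSucc 0, Int.ofNat 1, Int.ofNat 1, Int.negSucc 0, Int.negSucc 0, Int.negSucc 0, Int.negSucc 0, Int.negSucc 0, Int.ofNat 1, Int.ofNat 1, Int.ofNat 1, Int.ofNat 1, Int.ofNat 1, Int.ofNat 3, Int.ofNat 1, Int.ofNat 1, Int.ofNat 1],
  [Int.ofNat 1, Int.negSucc 0, Int.ofNat 1, Int.ofNat 1, Int.negSucc 0, Int.ofNat 1, Int.ofNat 1, Int.negSucc 0, Int.ofNat 1, Int.negSucc 0, Int.ofNat 1, Int.negSucc 0, Int.negSucc 0, Int.negSucc 0, Int.negSucc 0, Int.negSucc 0, Int.ofNat 1, Int.ofNat 1, Int.negSucc 0, Int.ofNat 1, Int.ofNat 3, Int.ofNat 1, Int.negSucc 0, Int.ofNat 1],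
  [Int.ofNat 1, Int.ofNat 1, Int.ofNat 1, Int.negSucc 0, Int.ofNat 1, Int.negSucc 0, Int.negSucc 0, Int.negSucc 0, Int.negSucc 0, Int.ofNat 1, Int.negSucc 0, Int.negSucc 0, Int.negSucc 0, Int.ofNat 1, Int.ofNat 1, Int.negSucc 0, Int.negSucc 0, Int.ofNat 1, Int.negSucc 0, Int.ofNat 1, Int.ofNat 1, Int.ofNat 1, Int.ofNat 3, Int.ofNat 1],
  [Int.ofNat 1, Int.ofNat 1, Int.negSucc 0, Int.negSucc 0, Int.ofNat 1, Int.ofNat 1, Int.ofNat 1, Int.negSucc 0, Int.negSucc 0, Int.negSucc 0, Int.ofNat 1, Int.negSucc 0, Int.negSucc 0, Int.ofNat 1, Int.ofNat 1, Int.ofNat 1, Int.negSucc 0, Int.ofNat 1, Int.ofNat 1, Int.ofNat 1, Int.ofNat 1, Int.ofNat 1, Int.negSucc 2, Int.ofNat 1],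
  [Int.ofNat 0, Int.ofNat 0, Int.ofNat 2, Int.negSucc 1, Int.ofNat 2, Int.ofNat 0, Int.ofNat 0, Int.negSucc 1, Int.ofNat 0, Int.negSucc 1, Int.ofNat 0, Int.ofNat 0, Int.ofNat 0, Int.ofNat 2, Int.ofNat 0, Int.ofNat 0, Int.ofNat 0, Int.ofNat 0, Int.ofNat 2, Int.ofNat 0, Int.ofNat 0, Int.ofNat 0, Int.negSucc 1, Int.ofNat 0],
  [Int.ofNat 0, Int.ofNat 2, Int.ofNat 0, Int.negSucc 1, Int.ofNat 2, Int.ofNat 0, Int.ofNat 0, Int.ofNat 0, Int.ofNat 0, Int.ofNat 0, Int.negSucc 1, Int.ofNat 0, Int.ofNat 0, Int.negSucc 1, Int.ofNat 0, Int.ofNat 0, Int.ofNat 2, Int.ofNat 0, Int.ofNat 2, Int.negSucc 1, Int.ofNat 0, Int.ofNat 0, Int.ofNat 0, Int.ofNat 0],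
  [Int.ofNat 1, Int.negSucc 0, Int.ofNat 1, Int.negSucc 0, Int.ofNat 1, Int.ofNat 1, Int.ofNat 1, Int.ofNat 1, Int.negSucc 0, Int.ofNat 1, Int.negSucc 0, Int.negSucc 0, Int.negSucc 0, Int.negSucc 2, Int.ofNat 1, Int.ofNat 1, Int.ofNat 1, Int.ofNat 1, Int.ofNat 1, Int.negSucc 0, Int.ofNat 1, Int.ofNat 1, Int.negSucc 0, Int.ofNat 1],
  [Int.ofNat 1, Int.ofNat 1, Int.negSucc 0, Int.ofNat 1, Int.negSucc 0, Int.ofNat 1, Int.negSucc 0, Int.ofNat 1, Int.ofNat 1, Int.ofNat 1, Int.ofNat 1, Int.negSucc 0, Int.ofNat 1, Int.negSucc 0, Int.negSucc 0, Int.negSucc 0, Int.negSucc 2, Int.ofNat 1, Int.ofNat 1, Int.ofNat 1, Int.ofNat 1, Int.ofNat 1, Int.negSucc 0, Int.ofNat 1],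
  [Int.ofNat 0, Int.ofNat 0, Int.ofNat 2, Int.ofNat 0, Int.ofNat 2, Int.ofNat 0, Int.negSucc 1, Int.ofNat 0, Int.ofNat 0, Int.ofNat 0, Int.ofNat 0, Int.negSucc 1, Int.ofNat 0, Int.ofNat 2, Int.negSucc 1, Int.negSucc 1, Int.ofNat 0, Int.ofNat 0, Int.ofNat 0, Int.ofNat 0, Int.ofNat 0, Int.ofNat 0, Int.ofNat 2, Int.ofNat 0],
  [Int.ofNat 0, Int.ofNat 2, Int.ofNat 0, Int.ofNat 2, Int.ofNat 0, Int.negSucc 1, Int.ofNat 0, Int.ofNat 0, Int.ofNat 0, Int.ofNat 0, Int.negSucc 1, Int.ofNat 0, Int.ofNat 2, Int.negSucc 1, Int.negSucc 1, Int.ofNat 0, Int.ofNat 0, Int.ofNat 0, Int.ofNat 0, Int.ofNat 0, Int.ofNat 0, Int.ofNat 2, Int.ofNat 0, Int.ofNat 0],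
  [Int.ofNat 0, Int.ofNat 2, Int.ofNat 0, Int.ofNat 2, Int.ofNat 0, Int.negSucc 1, Int.ofNat 0, Int.ofNat 0, Int.ofNat 0, Int.ofNat 0, Int.ofNat 2, Int.ofNat 0, Int.ofNat 2, Int.negSucc 1, Int.negSucc 1, Int.ofNat 0, Int.ofNat 0, Int.ofNat 0, Int.ofNat 0, Int.ofNat 0, Int.ofNat 0, Int.negSucc 1, Int.ofNat 0, Int.ofNat 0],
  [Int.ofNat 0, Int.negSucc 1, Int.ofNat 0, Int.negSucc 1, Int.ofNat 0, Int.negSucc 1, Int.ofNat 0, Int.ofNat 0, Int.ofNat 0, Int.ofNat 0, Int.ofNat 2, Int.ofNat 0, Int.negSucc 1, Int.ofNat 2, Int.negSucc 1, Int.ofNat 0, Int.ofNat 0, Int.ofNat 0, Int.ofNat 0, Int.ofNat 0, Int.ofNat 0, Int.negSucc 1, Int.ofNat 0, Int.ofNat 0],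
  [Int.ofNat 0, Int.ofNat 0, Int.ofNat 0, Int.ofNat 0, Int.ofNat 0, Int.ofNat 0, Int.ofNat 0, Int.ofNat 2, Int.ofNat 0, Int.negSucc 1, Int.ofNat 0, Int.ofNat 0, Int.negSucc 1, Int.ofNat 0, Int.ofNat 0, Int.negSucc 1, Int.ofNat 2, Int.ofNat 0, Int.negSucc 1, Int.ofNat 0, Int.ofNat 0, Int.negSucc 1, Int.negSucc 1, Int.ofNat 0],
  [Int.ofNat 0, Int.ofNat 0, Int.ofNat 0, Int.ofNat 0, Int.ofNat 0, Int.ofNat 0, Int.ofNat 0, Int.negSucc 1, Int.ofNat 0, Int.ofNat 2, Int.ofNat 0, Int.ofNat 0, Int.negSucc 1, Int.ofNat 0, Int.ofNat 0, Int.negSucc 1, Int.ofNat 2, Int.ofNat 0, Int.ofNat 2, Int.ofNat 0, Int.ofNat 0, Int.ofNat 2, Int.negSucc 1, Int.ofNat 0],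
  [Int.negSucc 1, Int.ofNat 0, Int.ofNat 0, Int.ofNat 0, Int.ofNat 0, Int.ofNat 0, Int.ofNat 0, Int.ofNat 0, Int.negSucc 1, Int.ofNat 0, Int.ofNat 2, Int.ofNat 0, Int.ofNat 0, Int.negSucc 1, Int.ofNat 0, Int.ofNat 0, Int.negSucc 1, Int.ofNat 2, Int.ofNat 0, Int.ofNat 2, Int.ofNat 0, Int.ofNat 0, Int.ofNat 2, Int.ofNat 0],
  [Int.ofNat 1, Int.negSucc 0, Int.negSucc 0, Int.negSucc 0, Int.ofNat 1, Int.negSucc 0, Int.negSucc 0, Int.negSucc 0, Int.negSucc 0, Int.negSucc 0, Int.ofNat 1, Int.ofNat 1, Int.ofNat 1, Int.negSucc 0, Int.negSucc 0, Int.negSucc 0, Int.negSucc 0, Int.ofNat 1, Int.ofNat 1, Int.ofNat 1, Int.negSucc 0, Int.negSucc 0, Int.ofNat 3, Int.negSucc 0],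
  [Int.negSucc 0, Int.ofNat 1, Int.negSucc 0, Int.negSucc 0, Int.negSucc 0, Int.negSucc 0, Int.negSucc 0, Int.ofNat 1, Int.ofNat 1, Int.ofNat 1, Int.negSucc 0, Int.negSucc 0, Int.negSucc 0, Int.negSucc 0, Int.ofNat 1, Int.ofNat 1, Int.ofNat 1, Int.negSucc 0, Int.negSucc 0, Int.ofNat 3, Int.ofNat 1, Int.negSucc 0, Int.negSucc 0, Int.negSucc 0],
  [Int.ofNat 0, Int.negSucc 1, Int.ofNat 0, Int.ofNat 0, Int.ofNat 0, Int.ofNat 0, Int.negSucc 1, Int.ofNat 0, Int.ofNat 2, Int.ofNat 0, Int.negSucc 1, Int.ofNat 0, Int.ofNat 0, Int.ofNat 0, Int.ofNat 2, Int.ofNat 0, Int.ofNat 2, Int.ofNat 0, Int.ofNat 0, Int.ofNat 2, Int.ofNat 0, Int.negSucc 1, Int.ofNat 0, Int.ofNat 0],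
  [Int.ofNat 0, Int.negSucc 1, Int.ofNat 0, Int.ofNat 0, Int.ofNat 0, Int.ofNat 0, Int.ofNat 0, Int.negSucc 1, Int.ofNat 0, Int.ofNat 0, Int.ofNat 0, Int.ofNat 0, Int.ofNat 0, Int.ofNat 2, Int.ofNat 0, Int.ofNat 0, Int.ofNat 2, Int.ofNat 2, Int.negSucc 1, Int.ofNat 0, Int.negSucc 1, Int.ofNat 0, Int.ofNat 2, Int.ofNat 0],
  [Int.negSucc 0, Int.ofNat 1, Int.negSucc 0, Int.negSucc 0, Int.negSucc 2, Int.negSucc 0, Int.ofNat 1, Int.negSucc 0, Int.ofNat 1, Int.ofNat 1, Int.ofNat 1, Int.ofNat 1, Int.ofNat 1, Int.negSucc 0, Int.negSucc 0, Int.ofNat 1, Int.negSucc 0, Int.ofNat 1, Int.negSucc 0, Int.ofNat 1, Int.negSucc 0, Int.ofNat 1, Int.negSucc 0, Int.negSucc 0],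
  [Int.negSucc 0, Int.ofNat 1, Int.ofNat 1, Int.negSucc 0, Int.negSucc 2, Int.ofNat 1, Int.negSucc 0, Int.negSucc 0, Int.ofNat 1, Int.negSucc 0, Int.negSucc 0, Int.ofNat 1, Int.ofNat 1, Int.negSucc 0, Int.negSucc 0, Int.negSucc 0, Int.negSucc 0, Int.ofNat 1, Int.ofNat 1, Int.ofNat 1, Int.negSucc 0, Int.ofNat 1, Int.ofNat 1, Int.negSucc 0],
  [Int.negSucc 0, Int.ofNat 1, Int.ofNat 1, Int.ofNat 1, Int.negSucc 0, Int.negSucc 0, Int.ofNat 1, Int.ofNat 1, Int.negSucc 2, Int.negSucc 0, Int.negSucc 0, Int.negSucc 0, Int.negSucc 0, Int.negSucc 0, Int.ofNat 1, Int.ofNat 1, Int.negSucc 0, Int.negSucc 0, Int.ofNat 1, Int.ofNat 1, Int.ofNat 1, Int.ofNat 1, Int.negSucc 0, Int.negSucc 0],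
  [Int.negSucc 0, Int.ofNat 1, Int.negSucc 0, Int.ofNat 1, Int.negSucc 0, Int.ofNat 1, Int.negSucc 0, Int.ofNat 1, Int.negSucc 2, Int.ofNat 1, Int.ofNat 1, Int.negSucc 0, Int.negSucc 0, Int.negSucc 0, Int.ofNat 1, Int.negSucc 0, Int.negSucc 0, Int.negSucc 0, Int.negSucc 0, Int.ofNat 1, Int.ofNat 1, Int.ofNat 1, Int.ofNat 1, Int.negSucc 0],
  [Int.ofNat 0, Int.negSucc 1, Int.ofNat 0, Int.ofNat 0, Int.ofNat 0, Int.ofNat 0, Int.negSucc 1, Int.ofNat 0, Int.ofNat 0, Int.ofNat 0, Int.ofNat 0, Int.ofNat 2, Int.ofNat 2, Int.ofNat 0, Int.ofNat 0, Int.negSucc 1, Int.ofNat 0, Int.negSucc 1, Int.ofNat 2, Int.ofNat 0, Int.ofNat 0, Int.ofNat 0, Int.ofNat 2, Int.ofNat 0],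
  [Int.ofNat 0, Int.ofNat 2, Int.negSucc 1, Int.ofNat 0, Int.ofNat 0, Int.ofNat 0, Int.negSucc 1, Int.ofNat 0, Int.ofNat 0, Int.ofNat 2, Int.ofNat 0, Int.ofNat 0, Int.ofNat 0, Int.ofNat 0, Int.negSucc 1, Int.negSucc 1, Int.ofNat 0, Int.ofNat 2, Int.ofNat 0, Int.ofNat 2, Int.ofNat 0, Int.ofNat 0, Int.ofNat 0, Int.ofNat 0],
  [Int.ofNat 0, Int.negSucc 1, Int.ofNat 2, Int.ofNat 0, Int.ofNat 0, Int.ofNat 0, Int.negSucc 1, Int.ofNat 0, Int.ofNat 0, Int.ofNat 2, Int.ofNat 0, Int.ofNat 0, Int.ofNat 0, Int.ofNat 0, Int.negSucc 1, Int.negSucc 1, Int.ofNat 0, Int.ofNat 2, Int.ofNat 0, Int.ofNat 2, Int.ofNat 0, Int.ofNat 0, Int.ofNat 0, Int.ofNat 0],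
  [Int.ofNat 0, Int.ofNat 0, Int.ofNat 0, Int.ofNat 0, Int.negSucc 1, Int.ofNat 2, Int.ofNat 0, Int.ofNat 0, Int.ofNat 0, Int.negSucc 1, Int.ofNat 0, Int.ofNat 0, Int.ofNat 2, Int.ofNat 0, Int.ofNat 0, Int.ofNat 0, Int.ofNat 0, Int.negSucc 1, Int.negSucc 1, Int.ofNat 0, Int.ofNat 2, Int.ofNat 0, Int.ofNat 2, Int.ofNat 0],
  [Int.ofNat 0, Int.ofNat 0, Int.ofNat 0, Int.ofNat 0, Int.negSucc 1, Int.ofNat 2, Int.ofNat 0, Int.ofNat 0, Int.ofNat 0, Int.negSucc 1, Int.ofNat 0, Int.ofNat 0, Int.ofNat 2, Int.ofNat 0, Int.ofNat 0, Int.ofNat 0, Int.ofNat 0, Int.negSucc 1, Int.negSucc 1, Int.ofNat 0, Int.ofNat 2, Int.ofNat 0, Int.ofNat 2, Int.ofNat 0],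
  [Int.ofNat 0, Int.ofNat 0, Int.ofNat 0, Int.negSucc 1, Int.ofNat 2, Int.ofNat 0, Int.ofNat 0, Int.ofNat 0, Int.negSucc 1, Int.ofNat 0, Int.ofNat 0, Int.ofNat 2, Int.ofNat 0, Int.ofNat 0, Int.ofNat 0, Int.ofNat 0, Int.negSucc 1, Int.negSucc 1, Int.ofNat 0, Int.ofNat 2, Int.ofNat 0, Int.ofNat 2, Int.ofNat 0, Int.ofNat 0],
  [Int.ofNat 0, Int.ofNat 0, Int.ofNat 0, Int.negSucc 1, Int.ofNat 2, Int.ofNat 0, Int.ofNat 0, Int.ofNat 0, Int.negSucc 1, Int.ofNat 0, Int.ofNat 0, Int.negSucc 1, Int.ofNat 0, Int.ofNat 0, Int.ofNat 0, Int.ofNat 0, Int.negSucc 1, Int.negSucc 1, Int.ofNat 0, Int.ofNat 2, Int.ofNat 0, Int.negSucc 1, Int.ofNat 0, Int.ofNat 0],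
  [Int.ofNat 0, Int.ofNat 0, Int.ofNat 0, Int.ofNat 2, Int.negSucc 1, Int.ofNat 0, Int.ofNat 0, Int.ofNat 0, Int.ofNat 2, Int.ofNat 0, Int.ofNat 0, Int.negSucc 1, Int.ofNat 0, Int.ofNat 0, Int.ofNat 0, Int.ofNat 0, Int.ofNat 2, Int.negSucc 1, Int.ofNat 0, Int.ofNat 2, Int.ofNat 0, Int.negSucc 1, Int.ofNat 0, Int.ofNat 0],
  [Int.ofNat 0, Int.ofNat 0, Int.negSucc 1, Int.ofNat 0, Int.negSucc 1, Int.ofNat 0, Int.ofNat 2, Int.ofNat 0, Int.ofNat 0, Int.ofNat 0, Int.ofNat 2, Int.ofNat 0, Int.negSucc 1, Int.ofNat 0, Int.ofNat 0, Int.ofNat 2, Int.ofNat 0, Int.negSucc 1, Int.ofNat 0, Int.ofNat 0, Int.ofNat 2, Int.ofNat 0, Int.ofNat 0, Int.ofNat 0],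
  [Int.ofNat 0, Int.ofNat 0, Int.ofNat 2, Int.ofNat 0, Int.negSucc 1, Int.ofNat 0, Int.ofNat 2, Int.ofNat 0, Int.ofNat 0, Int.ofNat 0, Int.negSucc 1, Int.ofNat 0, Int.negSucc 1, Int.ofNat 0, Int.ofNat 0, Int.ofNat 2, Int.ofNat 0, Int.negSucc 1, Int.ofNat 0, Int.ofNat 0, Int.ofNat 2, Int.ofNat 0, Int.ofNat 0, Int.ofNat 0],
  [Int.ofNat 0, Int.ofNat 0, Int.ofNat 0, Int.ofNat 2, Int.ofNat 0, Int.negSucc 1, Int.ofNat 0, Int.ofNat 2, Int.ofNat 0, Int.ofNat 0, Int.ofNat 0, Int.negSucc 1, Int.ofNat 0, Int.negSucc 1, Int.ofNat 0, Int.ofNat 0, Int.ofNat 2, Int.ofNat 0, Int.negSucc 1, Int.ofNat 0, Int.ofNat 0, Int.ofNat 2, Int.ofNat 0, Int.ofNat 0],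
  [Int.ofNat 0, Int.ofNat 0, Int.ofNat 0, Int.ofNat 2, Int.ofNat 0, Int.negSucc 1, Int.negSucc 1, Int.ofNat 0, Int.ofNat 2, Int.ofNat 0, Int.ofNat 0, Int.ofNat 0, Int.ofNat 2, Int.negSucc 1, Int.ofNat 0, Int.ofNat 0, Int.ofNat 2, Int.ofNat 0, Int.ofNat 0, Int.negSucc 1, Int.ofNat 0, Int.ofNat 0, Int.ofNat 0, Int.ofNat 0],
  [Int.ofNat 2, Int.ofNat 0, Int.negSucc 1, Int.negSucc 1, Int.ofNat 0, Int.ofNat 2, Int.ofNat 0, Int.ofNat 0, Int.ofNat 0, Int.ofNat 2, Int.negSucc 1, Int.ofNat 0, Int.ofNat 0, Int.ofNat 2, Int.ofNat 0, Int.ofNat 0, Int.negSucc 1, Int.ofNat 0, Int.ofNat 0, Int.ofNat 0, Int.ofNat 0, Int.ofNat 0, Int.ofNat 0, Int.ofNat 0],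
  [Int.negSucc 1, Int.ofNat 0, Int.ofNat 2, Int.negSucc 1, Int.ofNat 0, Int.ofNat 2, Int.ofNat 0, Int.ofNat 0, Int.ofNat 0, Int.ofNat 2, Int.negSucc 1, Int.ofNat 0, Int.ofNat 0, Int.ofNat 2, Int.ofNat 0, Int.ofNat 0, Int.negSucc 1, Int.ofNat 0, Int.ofNat 0, Int.ofNat 0, Int.ofNat 0, Int.ofNat 0, Int.ofNat 0, Int.ofNat 0],
  [Int.negSucc 1, Int.ofNat 0, Int.ofNat 0, Int.negSucc 1, Int.ofNat 0, Int.ofNat 0, Int.ofNat 2, Int.negSucc 1, Int.ofNat 0, Int.ofNat 2, Int.ofNat 0, Int.ofNat 0, Int.ofNat 2, Int.negSucc 1, Int.ofNat 0, Int.ofNat 0, Int.ofNat 0, Int.ofNat 0, Int.ofNat 0, Int.ofNat 0, Int.ofNat 0, Int.ofNat 2, Int.ofNat 0, Int.ofNat 0],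
  [Int.ofNat 1, Int.negSucc 0, Int.negSucc 0, Int.negSucc 0, Int.ofNat 1, Int.ofNat 1, Int.ofNat 1, Int.negSucc 2, Int.negSucc 0, Int.ofNat 1, Int.negSucc 0, Int.negSucc 0, Int.ofNat 1, Int.negSucc 0, Int.ofNat 1, Int.negSucc 0, Int.ofNat 1, Int.ofNat 1, Int.negSucc 0, Int.negSucc 0, Int.negSucc 0, Int.ofNat 1, Int.ofNat 1, Int.negSucc 0],
  [Int.ofNat 1, Int.negSucc 0, Int.ofNat 1, Int.negSucc 0, Int.ofNat 1, Int.negSucc 0, Int.negSucc 0, Int.negSucc 2, Int.negSucc 0, Int.negSucc 0, Int.ofNat 1, Int.negSucc 0, Int.ofNat 1, Int.negSucc 0, Int.ofNat 1, Int.ofNat 1, Int.ofNat 1, Int.ofNat 1, Int.ofNat 1, Int.negSucc 0, Int.negSucc 0, Int.ofNat 1, Int.negSucc 0, Int.negSucc 0],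
  [Int.negSucc 0, Int.negSucc 0, Int.ofNat 1, Int.ofNat 1, Int.ofNat 1, Int.negSucc 0, Int.ofNat 1, Int.negSucc 0, Int.ofNat 1, Int.negSucc 0, Int.negSucc 0, Int.ofNat 1, Int.ofNat 1, Int.ofNat 1, Int.ofNat 1, Int.negSucc 0, Int.negSucc 2, Int.ofNat 1, Int.negSucc 0, Int.negSucc 0, Int.ofNat 1, Int.negSucc 0, Int.negSucc 0, Int.negSucc 0],
  [Int.negSucc 0, Int.negSucc 0, Int.negSucc 0, Int.ofNat 1, Int.ofNat 1, Int.ofNat 1, Int.negSucc 0, Int.negSucc 0, Int.ofNat 1, Int.ofNat 1, Int.ofNat 1, Int.ofNat 1, Int.ofNat 1, Int.ofNat 1, Int.ofNat 1, Int.ofNat 1, Int.negSucc 2, Int.ofNat 1, Int.ofNat 1, Int.negSucc 0, Int.ofNat 1, Int.negSucc 0, Int.ofNat 1, Int.negSucc 0],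
  [Int.negSucc 0, Int.negSucc 0, Int.negSucc 0, Int.negSucc 0, Int.ofNat 1, Int.negSucc 0, Int.ofNat 1, Int.ofNat 1, Int.negSucc 0, Int.negSucc 0, Int.negSucc 0, Int.negSucc 0, Int.negSucc 0, Int.ofNat 1, Int.negSucc 0, Int.negSucc 0, Int.negSucc 2, Int.negSucc 0, Int.negSucc 0, Int.ofNat 1, Int.negSucc 0, Int.ofNat 1, Int.ofNat 1, Int.negSucc 0],
  [Int.negSucc 0, Int.negSucc 0, Int.ofNat 1, Int.negSucc 0, Int.negSucc 0, Int.ofNat 1, Int.negSucc 0, Int.negSucc 0, Int.negSucc 2, Int.negSucc 0, Int.ofNat 1, Int.ofNat 1, Int.negSucc 0, Int.negSucc 0, Int.negSucc 0, Int.negSucc 0, Int.ofNat 1, Int.negSucc 0, Int.ofNat 1, Int.ofNat 1, Int.negSucc 0, Int.negSucc 0, Int.negSucc 0, Int.negSucc 0],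
  [Int.ofNat 0, Int.ofNat 0, Int.negSucc 1, Int.ofNat 0, Int.ofNat 0, Int.ofNat 2, Int.ofNat 0, Int.ofNat 0, Int.negSucc 1, Int.ofNat 0, Int.ofNat 2, Int.ofNat 2, Int.ofNat 0, Int.ofNat 0, Int.ofNat 0, Int.ofNat 0, Int.ofNat 2, Int.ofNat 0, Int.ofNat 2, Int.ofNat 2, Int.ofNat 0, Int.ofNat 0, Int.ofNat 0, Int.ofNat 0],
  [Int.ofNat 0, Int.ofNat 0, Int.ofNat 0, Int.ofNat 0, Int.ofNat 0, Int.negSucc 1, Int.ofNat 0, Int.ofNat 0, Int.ofNat 2, Int.ofNat 0, Int.ofNat 0, Int.negSucc 1, Int.ofNat 0, Int.ofNat 2, Int.ofNat 2, Int.ofNat 0, Int.ofNat 0, Int.ofNat 0, Int.ofNat 0, Int.ofNat 2, Int.ofNat 0, Int.ofNat 2, Int.ofNat 2, Int.ofNat 0],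
  [Int.ofNat 0, Int.ofNat 0, Int.ofNat 0, Int.ofNat 0, Int.negSucc 1, Int.negSucc 1, Int.negSucc 1, Int.negSucc 1, Int.ofNat 2, Int.ofNat 0, Int.ofNat 0, Int.negSucc 1, Int.ofNat 0, Int.ofNat 0, Int.ofNat 2, Int.ofNat 0, Int.negSucc 1, Int.ofNat 0, Int.ofNat 0, Int.ofNat 0, Int.ofNat 0, Int.ofNat 0, Int.ofNat 0, Int.ofNat 0],
  [Int.ofNat 0, Int.ofNat 0, Int.ofNat 0, Int.negSucc 1, Int.negSucc 1, Int.negSucc 1, Int.negSucc 1, Int.ofNat 2, Int.ofNat 0, Int.ofNat 0, Int.negSucc 1, Int.ofNat 0, Int.ofNat 0, Int.ofNat 2, Int.ofNat 0, Int.negSucc 1, Int.ofNat 0, Int.ofNat 0, Int.ofNat 0, Int.ofNat 0, Int.ofNat 0, Int.ofNat 0, Int.ofNat 0, Int.ofNat 0],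
  [Int.ofNat 0, Int.ofNat 0, Int.ofNat 0, Int.negSucc 1, Int.negSucc 1, Int.negSucc 1, Int.negSucc 1, Int.negSucc 1, Int.ofNat 0, Int.ofNat 0, Int.ofNat 2, Int.ofNat 0, Int.ofNat 0, Int.ofNat 2, Int.ofNat 0, Int.negSucc 1, Int.ofNat 0, Int.ofNat 0, Int.ofNat 0, Int.ofNat 0, Int.ofNat 0, Int.ofNat 0, Int.ofNat 0, Int.ofNat 0],
  [Int.ofNat 0, Int.ofNat 0, Int.ofNat 0, Int.ofNat 2, Int.ofNat 2, Int.negSucc 1, Int.ofNat 2, Int.negSucc 1, Int.ofNat 0, Int.ofNat 0, Int.ofNat 2, Int.ofNat 0, Int.ofNat 0, Int.negSucc 1, Int.ofNat 0, Int.negSucc 1, Int.ofNat 0, Int.ofNat 0, Int.ofNat 0, Int.ofNat 0, Int.ofNat 0, Int.ofNat 0, Int.ofNat 0, Int.ofNat 0],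
  [Int.ofNat 0, Int.ofNat 0, Int.ofNat 0, Int.negSucc 1, Int.ofNat 0, Int.ofNat 0, Int.ofNat 0, Int.negSucc 1, Int.ofNat 0, Int.negSucc 1, Int.ofNat 0, Int.ofNat 0, Int.ofNat 0, Int.negSucc 1, Int.ofNat 0, Int.ofNat 2, Int.ofNat 2, Int.ofNat 2, Int.ofNat 0, Int.ofNat 2, Int.ofNat 0, Int.ofNat 0, Int.ofNat 0, Int.ofNat 0],
  [Int.ofNat 0, Int.ofNat 0, Int.ofNat 0, Int.negSucc 1, Int.ofNat 0, Int.ofNat 0, Int.ofNat 0, Int.ofNat 2, Int.ofNat 0, Int.ofNat 2, Int.ofNat 0, Int.ofNat 0, Int.ofNat 0, Int.negSucc 1, Int.ofNat 0, Int.ofNat 2, Int.ofNat 2, Int.ofNat 2, Int.ofNat 0, Int.ofNat 2, Int.ofNat 0, Int.ofNat 0, Int.ofNat 0, Int.ofNat 0],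
  [Int.ofNat 0, Int.ofNat 0, Int.ofNat 0, Int.ofNat 0, Int.negSucc 1, Int.ofNat 0, Int.ofNat 0, Int.ofNat 0, Int.ofNat 2, Int.ofNat 0, Int.ofNat 2, Int.ofNat 0, Int.ofNat 0, Int.ofNat 0, Int.negSucc 1, Int.ofNat 0, Int.ofNat 2, Int.ofNat 2, Int.ofNat 2, Int.ofNat 0, Int.ofNat 2, Int.ofNat 0, Int.ofNat 0, Int.ofNat 0],
  [Int.ofNat 0, Int.ofNat 0, Int.ofNat 0, Int.ofNat 0, Int.negSucc 1, Int.ofNat 0, Int.ofNat 0, Int.ofNat 0, Int.ofNat 0, Int.negSucc 1, Int.ofNat 0, Int.negSucc 1, Int.negSucc 1, Int.ofNat 0, Int.negSucc 1, Int.negSucc 1, Int.ofNat 2, Int.ofNat 2, Int.ofNat 0, Int.ofNat 0, Int.ofNat 0, Int.ofNat 0, Int.ofNat 0, Int.ofNat 0],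
  [Int.ofNat 0, Int.negSucc 1, Int.ofNat 0, Int.ofNat 0, Int.ofNat 0, Int.ofNat 0, Int.negSucc 1, Int.ofNat 0, Int.negSucc 1, Int.negSucc 1, Int.ofNat 0, Int.negSucc 1, Int.negSucc 1, Int.ofNat 2, Int.ofNat 2, Int.ofNat 0, Int.ofNat 0, Int.ofNat 0, Int.ofNat 0, Int.ofNat 0, Int.ofNat 0, Int.ofNat 0, Int.ofNat 0, Int.ofNat 0],
  [Int.negSucc 0, Int.ofNat 1, Int.negSucc 0, Int.negSucc 0, Int.negSucc 0, Int.negSucc 0, Int.negSucc 0, Int.ofNat 1, Int.ofNat 1, Int.negSucc 0, Int.ofNat 1, Int.ofNat 1, Int.ofNat 1, Int.ofNat 1, Int.ofNat 1, Int.ofNat 1, Int.negSucc 0, Int.negSucc 0, Int.ofNat 3, Int.ofNat 1, Int.ofNat 1, Int.ofNat 1, Int.negSucc 0, Int.negSucc 0],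
  [Int.negSucc 0, Int.negSucc 0, Int.negSucc 0, Int.negSucc 0, Int.ofNat 3, Int.ofNat 1, Int.negSucc 0, Int.ofNat 1, Int.ofNat 1, Int.ofNat 1, Int.ofNat 1, Int.negSucc 0, Int.negSucc 0, Int.negSucc 0, Int.negSucc 0, Int.ofNat 1, Int.ofNat 1, Int.ofNat 1, Int.ofNat 1, Int.ofNat 1, Int.ofNat 1, Int.negSucc 0, Int.ofNat 1, Int.negSucc 0],
  [Int.negSucc 0, Int.negSucc 0, Int.negSucc 0, Int.negSucc 0, Int.ofNat 1, Int.ofNat 1, Int.negSucc 0, Int.ofNat 1, Int.ofNat 1, Int.negSucc 0, Int.negSucc 0, Int.negSucc 0, Int.negSucc 0, Int.negSucc 2, Int.negSucc 0, Int.negSucc 0, Int.negSucc 0, Int.ofNat 1, Int.ofNat 1, Int.ofNat 1, Int.negSucc 0, Int.negSucc 0, Int.negSucc 0, Int.negSucc 0],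
  [Int.negSucc 0, Int.negSucc 0, Int.ofNat 1, Int.negSucc 0, Int.ofNat 1, Int.negSucc 0, Int.ofNat 1, Int.ofNat 1, Int.ofNat 1, Int.ofNat 1, Int.ofNat 1, Int.negSucc 0, Int.negSucc 0, Int.negSucc 2, Int.negSucc 0, Int.ofNat 1, Int.negSucc 0, Int.ofNat 1, Int.negSucc 0, Int.ofNat 1, Int.negSucc 0, Int.negSucc 0, Int.ofNat 1, Int.negSucc 0],
  [Int.negSucc 0, Int.negSucc 0, Int.negSucc 0, Int.negSucc 0, Int.ofNat 1, Int.ofNat 1, Int.negSucc 0, Int.negSucc 0, Int.ofNat 1, Int.ofNat 1, Int.negSucc 2, Int.ofNat 1, Int.negSucc 0, Int.negSucc 0, Int.ofNat 1, Int.ofNat 1, Int.ofNat 1, Int.negSucc 0, Int.negSucc 0, Int.ofNat 1, Int.ofNat 1, Int.ofNat 1, Int.negSucc 0, Int.negSucc 0],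
  [Int.negSucc 0, Int.negSucc 0, Int.ofNat 1, Int.negSucc 0, Int.ofNat 1, Int.negSucc 0, Int.ofNat 1, Int.negSucc 0, Int.ofNat 1, Int.negSucc 0, Int.ofNat 3, Int.ofNat 1, Int.negSucc 0, Int.negSucc 0, Int.ofNat 1, Int.negSucc 0, Int.ofNat 1, Int.negSucc 0, Int.ofNat 1, Int.ofNat 1, Int.ofNat 1, Int.ofNat 1, Int.ofNat 1, Int.negSucc 0],
  [Int.ofNat 0, Int.ofNat 0, Int.negSucc 1, Int.ofNat 0, Int.ofNat 0, Int.ofNat 0, Int.ofNat 0, Int.negSucc 1, Int.ofNat 0, Int.negSucc 1, Int.ofNat 2, Int.ofNat 0, Int.negSucc 1, Int.negSucc 1, Int.ofNat 2, Int.negSucc 1, Int.ofNat 0, Int.ofNat 0, Int.ofNat 0, Int.ofNat 0, Int.ofNat 0, Int.ofNat 0, Int.ofNat 0, Int.ofNat 0],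
  [Int.ofNat 0, Int.ofNat 0, Int.ofNat 0, Int.ofNat 0, Int.negSucc 1, Int.ofNat 0, Int.ofNat 0, Int.ofNat 0, Int.ofNat 0, Int.negSucc 1, Int.negSucc 1, Int.ofNat 0, Int.ofNat 0, Int.negSucc 1, Int.ofNat 0, Int.negSucc 1, Int.negSucc 1, Int.ofNat 0, Int.ofNat 0, Int.ofNat 0, Int.ofNat 2, Int.ofNat 0, Int.ofNat 2, Int.ofNat 0],
  [Int.ofNat 0, Int.ofNat 0, Int.ofNat 0, Int.ofNat 0, Int.ofNat 0, Int.ofNat 0, Int.ofNat 0, Int.ofNat 0, Int.ofNat 0, Int.ofNat 0, Int.ofNat 0, Int.ofNat 0, Int.ofNat 0, Int.ofNat 0, Int.ofNat 0, Int.ofNat 0, Int.ofNat 0, Int.ofNat 0, Int.ofNat 0, Int.ofNat 0, Int.ofNat 4, Int.ofNat 0, Int.ofNat 4, Int.ofNat 0],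
  [Int.ofNat 4, Int.ofNat 0, Int.ofNat 4, Int.ofNat 0, Int.ofNat 0, Int.ofNat 0, Int.ofNat 0, Int.ofNat 0, Int.ofNat 0, Int.ofNat 0, Int.ofNat 0, Int.ofNat 0, Int.ofNat 0, Int.ofNat 0, Int.ofNat 0, Int.ofNat 0, Int.ofNat 0, Int.ofNat 0, Int.ofNat 0, Int.ofNat 0, Int.ofNat 0, Int.ofNat 0, Int.ofNat 0, Int.ofNat 0],
  [Int.ofNat 0, Int.ofNat 4, Int.ofNat 0, Int.ofNat 0, Int.ofNat 0, Int.ofNat 0, Int.ofNat 0, Int.ofNat 0, Int.ofNat 0, Int.ofNat 0, Int.ofNat 0, Int.ofNat 0, Int.ofNat 0, Int.ofNat 0, Int.ofNat 0, Int.ofNat 0, Int.ofNat 0, Int.ofNat 0, Int.ofNat 0, Int.ofNat 0, Int.ofNat 0, Int.ofNat 0, Int.ofNat 0, Int.ofNat 4],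
  [Int.ofNat 4, Int.ofNat 0, Int.ofNat 0, Int.ofNat 0, Int.ofNat 0, Int.ofNat 0, Int.ofNat 0, Int.ofNat 0, Int.ofNat 0, Int.ofNat 0, Int.ofNat 0, Int.ofNat 0, Int.ofNat 0, Int.ofNat 0, Int.ofNat 0, Int.ofNat 0, Int.ofNat 0, Int.ofNat 0, Int.ofNat 0, Int.ofNat 0, Int.ofNat 0, Int.ofNat 0, Int.ofNat 0, Int.ofNat 4],
  [Int.negSucc 3, Int.ofNat 0, Int.ofNat 0, Int.ofNat 0, Int.ofNat 0, Int.ofNat 0, Int.ofNat 0, Int.ofNat 0, Int.ofNat 0, Int.ofNat 0, Int.ofNat 0, Int.ofNat 0, Int.ofNat 0, Int.ofNat 0, Int.ofNat 0, Int.ofNat 0, Int.ofNat 0, Int.ofNat 0, Int.ofNat 0, Int.ofNat 0, Int.ofNat 0, Int.ofNat 0, Int.ofNat 0, Int.ofNat 4],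
  [Int.ofNat 4, Int.ofNat 0, Int.ofNat 0, Int.ofNat 0, Int.ofNat 0, Int.ofNat 0, Int.ofNat 0, Int.ofNat 0, Int.ofNat 0, Int.ofNat 0, Int.ofNat 0, Int.ofNat 0, Int.ofNat 0, Int.ofNat 0, Int.ofNat 0, Int.ofNat 0, Int.ofNat 0, Int.ofNat 0, Int.ofNat 0, Int.ofNat 0, Int.ofNat 0, Int.ofNat 0, Int.ofNat 0, Int.ofNat 4],
  [Int.ofNat 4, Int.ofNat 0, Int.ofNat 0, Int.ofNat 0, Int.ofNat 0, Int.ofNat 0, Int.ofNat 0, Int.ofNat 0, Int.ofNat 0, Int.ofNat 0, Int.ofNat 0, Int.ofNat 0, Int.ofNat 0, Int.ofNat 0, Int.ofNat 0, Int.ofNat 0, Int.ofNat 0, Int.ofNat 0, Int.ofNat 0, Int.ofNat 0, Int.ofNat 0, Int.ofNat 0, Int.ofNat 0, Int.ofNat 4],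
  [Int.negSucc 3, Int.ofNat 0, Int.ofNat 0, Int.ofNat 0, Int.ofNat 0, Int.ofNat 0, Int.ofNat 0, Int.ofNat 0, Int.ofNat 0, Int.ofNat 0, Int.ofNat 0, Int.ofNat 0, Int.ofNat 0, Int.ofNat 0, Int.ofNat 0, Int.ofNat 0, Int.ofNat 0, Int.ofNat 0, Int.ofNat 0, Int.ofNat 0, Int.ofNat 0, Int.ofNat 0, Int.ofNat 0, Int.ofNat 4],
  [Int.ofNat 0, Int.negSucc 3, Int.ofNat 0, Int.ofNat 0, Int.ofNat 0, Int.ofNat 0, Int.ofNat 0, Int.ofNat 0, Int.ofNat 0, Int.ofNat 0, Int.ofNat 0, Int.ofNat 0, Int.ofNat 0, Int.ofNat 0, Int.ofNat 0, Int.ofNat 0, Int.ofNat 0, Int.ofNat 0, Int.ofNat 0, Int.ofNat 0, Int.ofNat 0, Int.ofNat 0, Int.ofNat 0, Int.ofNat 4],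
  [Int.ofNat 0, Int.ofNat 4, Int.ofNat 0, Int.ofNat 0, Int.ofNat 0, Int.ofNat 0, Int.ofNat 0, Int.ofNat 0, Int.ofNat 0, Int.ofNat 0, Int.ofNat 0, Int.ofNat 0, Int.ofNat 0, Int.ofNat 0, Int.ofNat 0, Int.ofNat 0, Int.ofNat 0, Int.ofNat 0, Int.ofNat 0, Int.ofNat 0, Int.ofNat 0, Int.ofNat 0, Int.ofNat 0, Int.negSucc 3],
  [Int.ofNat 0, Int.ofNat 0, Int.ofNat 0, Int.ofNat 0, Int.ofNat 0, Int.ofNat 0, Int.ofNat 0, Int.ofNat 0, Int.ofNat 0, Int.ofNat 0, Int.ofNat 0, Int.ofNat 0, Int.ofNat 0, Int.ofNat 0, Int.ofNat 0, Int.ofNat 0, Int.ofNat 0, Int.ofNat 0, Int.ofNat 0, Int.ofNat 0, Int.ofNat 0, Int.ofNat 4, Int.ofNat 0, Int.negSucc 3],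
  [Int.negSucc 1, Int.negSucc 1, Int.negSucc 1, Int.ofNat 0, Int.ofNat 0, Int.ofNat 0, Int.negSucc 1, Int.negSucc 1, Int.ofNat 0, Int.ofNat 0, Int.ofNat 0, Int.ofNat 0, Int.ofNat 0, Int.ofNat 0, Int.ofNat 0, Int.ofNat 0, Int.ofNat 0, Int.ofNat 0, Int.ofNat 0, Int.negSucc 1, Int.ofNat 0, Int.ofNat 2, Int.ofNat 0, Int.ofNat 2],
  [Int.negSucc 1, Int.negSucc 1, Int.ofNat 0, Int.ofNat 0, Int.ofNat 0, Int.negSucc 1, Int.negSucc 1, Int.ofNat 0, Int.ofNat 0, Int.ofNat 0, Int.ofNat 0, Int.ofNat 0, Int.ofNat 0, Int.ofNat 0, Int.ofNat 0, Int.ofNat 0, Int.ofNat 0, Int.ofNat 0, Int.negSucc 1, Int.ofNat 0, Int.ofNat 2, Int.ofNat 0, Int.negSucc 1, Int.ofNat 2],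
  [Int.ofNat 1, Int.ofNat 1, Int.negSucc 0, Int.ofNat 1, Int.ofNat 1, Int.negSucc 0, Int.negSucc 0, Int.ofNat 1, Int.ofNat 1, Int.negSucc 0, Int.negSucc 0, Int.ofNat 1, Int.ofNat 1, Int.ofNat 1, Int.ofNat 1, Int.negSucc 0, Int.ofNat 1, Int.ofNat 1, Int.negSucc 0, Int.ofNat 1, Int.ofNat 1, Int.ofNat 1, Int.negSucc 0, Int.negSucc 2],
  [Int.ofNat 1, Int.ofNat 1, Int.ofNat 1, Int.ofNat 1, Int.ofNat 1, Int.ofNat 1, Int.ofNat 1, Int.ofNat 1, Int.ofNat 1, Int.ofNat 1, Int.ofNat 1, Int.ofNat 1, Int.ofNat 1, Int.ofNat 1, Int.ofNat 1, Int.ofNat 1, Int.ofNat 1, Int.ofNat 1, Int.ofNat 1, Int.ofNat 1, Int.ofNat 1, Int.ofNat 1, Int.ofNat 1, Int.negSucc 2],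
  [Int.ofNat 1, Int.ofNat 1, Int.ofNat 1, Int.ofNat 1, Int.ofNat 1, Int.ofNat 1, Int.ofNat 1, Int.ofNat 1, Int.ofNat 1, Int.ofNat 1, Int.ofNat 1, Int.ofNat 1, Int.ofNat 1, Int.ofNat 1, Int.ofNat 1, Int.ofNat 1, Int.ofNat 1, Int.ofNat 1, Int.ofNat 1, Int.ofNat 1, Int.ofNat 1, Int.ofNat 1, Int.ofNat 1, Int.negSucc 2],
  [Int.ofNat 1, Int.ofNat 1, Int.negSucc 0, Int.ofNat 1, Int.ofNat 1, Int.negSucc 0, Int.negSucc 0, Int.ofNat 1, Int.ofNat 1, Int.negSucc 0, Int.negSucc 0, Int.ofNat 1, Int.ofNat 1, Int.ofNat 1, Int.ofNat 1, Int.negSucc 0, Int.ofNat 1, Int.ofNat 1, Int.negSucc 0, Int.ofNat 1, Int.ofNat 1, Int.ofNat 1, Int.negSucc 0, Int.negSucc 2],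
  [Int.negSucc 1, Int.negSucc 1, Int.ofNat 0, Int.ofNat 0, Int.ofNat 0, Int.negSucc 1, Int.negSucc 1, Int.ofNat 0, Int.ofNat 0, Int.ofNat 0, Int.ofNat 0, Int.ofNat 0, Int.ofNat 0, Int.ofNat 0, Int.ofNat 0, Int.ofNat 0, Int.ofNat 0, Int.ofNat 0, Int.negSucc 1, Int.ofNat 0, Int.ofNat 2, Int.ofNat 0, Int.negSucc 1, Int.ofNat 2],
  [Int.negSucc 1, Int.negSucc 1, Int.negSucc 1, Int.ofNat 0, Int.ofNat 0, Int.ofNat 0, Int.negSucc 1, Int.negSucc 1, Int.ofNat 0, Int.ofNat 0, Int.ofNat 0, Int.ofNat 0, Int.ofNat 0, Int.ofNat 0, Int.ofNat 0, Int.ofNat 0, Int.ofNat 0, Int.ofNat 0, Int.ofNat 0, Int.negSucc 1, Int.ofNat 0, Int.ofNat 2, Int.ofNat 0, Int.ofNat 2],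
  [Int.ofNat 0, Int.ofNat 0, Int.ofNat 0, Int.ofNat 0, Int.ofNat 0, Int.ofNat 0, Int.ofNat 0, Int.ofNat 0, Int.ofNat 0, Int.ofNat 0, Int.ofNat 0, Int.ofNat 0, Int.ofNat 0, Int.ofNat 0, Int.ofNat 0, Int.ofNat 0, Int.ofNat 0, Int.ofNat 0, Int.ofNat 0, Int.ofNat 0, Int.ofNat 0, Int.ofNat 4, Int.ofNat 0, Int.negSucc 3],
  [Int.ofNat 0, Int.ofNat 4, Int.ofNat 0, Int.ofNat 0, Int.ofNat 0, Int.ofNat 0, Int.ofNat 0, Int.ofNat 0, Int.ofNat 0, Int.ofNat 0, Int.ofNat 0, Int.ofNat 0, Int.ofNat 0, Int.ofNat 0, Int.ofNat 0, Int.ofNat 0, Int.ofNat 0, Int.ofNat 0, Int.ofNat 0, Int.ofNat 0, Int.ofNat 0, Int.ofNat 0, Int.ofNat 0, Int.negSucc 3],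
  [Int.ofNat 0, Int.negSucc 3, Int.ofNat 0, Int.ofNat 0, Int.ofNat 0, Int.ofNat 0, Int.ofNat 0, Int.ofNat 0, Int.ofNat 0, Int.ofNat 0, Int.ofNat 0, Int.ofNat 0, Int.ofNat 0, Int.ofNat 0, Int.ofNat 0, Int.ofNat 0, Int.ofNat 0, Int.ofNat 0, Int.ofNat 0, Int.ofNat 0, Int.ofNat 0, Int.ofNat 0, Int.ofNat 0, Int.ofNat 4],
  [Int.negSucc 3, Int.ofNat 0, Int.ofNat 0, Int.ofNat 0, Int.ofNat 0, Int.ofNat 0, Int.ofNat 0, Int.ofNat 0, Int.ofNat 0, Int.ofNat 0, Int.ofNat 0, Int.ofNat 0, Int.ofNat 0, Int.ofNat 0, Int.ofNat 0, Int.ofNat 0, Int.ofNat 0, Int.ofNat 0, Int.ofNat 0, Int.ofNat 0, Int.ofNat 0, Int.ofNat 0, Int.ofNat 0, Int.ofNat 4],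
  [Int.ofNat 4, Int.ofNat 0, Int.ofNat 0, Int.ofNat 0, Int.ofNat 0, Int.ofNat 0, Int.ofNat 0, Int.ofNat 0, Int.ofNat 0, Int.ofNat 0, Int.ofNat 0, Int.ofNat 0, Int.ofNat 0, Int.ofNat 0, Int.ofNat 0, Int.ofNat 0, Int.ofNat 0, Int.ofNat 0, Int.ofNat 0, Int.ofNat 0, Int.ofNat 0, Int.ofNat 0, Int.ofNat 0, Int.ofNat 4],
  [Int.negSucc 3, Int.ofNat 0, Int.ofNat 0, Int.ofNat 0, Int.ofNat 0, Int.ofNat 0, Int.ofNat 0, Int.ofNat 0, Int.ofNat 0, Int.ofNat 0, Int.ofNat 0, Int.ofNat 0, Int.ofNat 0, Int.ofNat 0, Int.ofNat 0, Int.ofNat 0, Int.ofNat 0, Int.ofNat 0, Int.ofNat 0, Int.ofNat 0, Int.ofNat 0, Int.ofNat 0, Int.ofNat 0, Int.ofNat 4],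
  [Int.ofNat 4, Int.ofNat 0, Int.ofNat 0, Int.ofNat 0, Int.ofNat 0, Int.ofNat 0, Int.ofNat 0, Int.ofNat 0, Int.ofNat 0, Int.ofNat 0, Int.ofNat 0, Int.ofNat 0, Int.ofNat 0, Int.ofNat 0, Int.ofNat 0, Int.ofNat 0, Int.ofNat 0, Int.ofNat 0, Int.ofNat 0, Int.ofNat 0, Int.ofNat 0, Int.ofNat 0, Int.ofNat 0, Int.negSucc 3],
  [Int.negSucc 3, Int.ofNat 0, Int.ofNat 0, Int.ofNat 0, Int.ofNat 0, Int.ofNat 0, Int.ofNat 0, Int.ofNat 0, Int.ofNat 0, Int.ofNat 0, Int.ofNat 0, Int.ofNat 0, Int.ofNat 0, Int.ofNat 0, Int.ofNat 0, Int.ofNat 0, Int.ofNat 0, Int.ofNat 0, Int.ofNat 0, Int.ofNat 0, Int.ofNat 0, Int.ofNat 0, Int.ofNat 0, Int.negSucc 3],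
  [Int.ofNat 0, Int.negSucc 3, Int.ofNat 0, Int.ofNat 0, Int.ofNat 0, Int.ofNat 0, Int.ofNat 0, Int.ofNat 0, Int.ofNat 0, Int.ofNat 0, Int.ofNat 0, Int.ofNat 0, Int.ofNat 0, Int.ofNat 0, Int.ofNat 0, Int.ofNat 0, Int.ofNat 0, Int.ofNat 0, Int.ofNat 0, Int.ofNat 0, Int.ofNat 0, Int.ofNat 0, Int.ofNat 0, Int.negSucc 3],
  [Int.negSucc 3, Int.ofNat 0, Int.negSucc 3, Int.ofNat 0, Int.ofNat 0, Int.ofNat 0, Int.ofNat 0, Int.ofNat 0, Int.ofNat 0, Int.ofNat 0, Int.ofNat 0, Int.ofNat 0, Int.ofNat 0, Int.ofNat 0, Int.ofNat 0, Int.ofNat 0, Int.ofNat 0, Int.ofNat 0, Int.ofNat 0, Int.ofNat 0, Int.ofNat 0, Int.ofNat 0, Int.ofNat 0, Int.ofNat 0],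
  [Int.ofNat 0, Int.ofNat 0, Int.ofNat 0, Int.ofNat 0, Int.ofNat 0, Int.ofNat 0, Int.ofNat 0, Int.ofNat 0, Int.ofNat 0, Int.ofNat 0, Int.ofNat 0, Int.ofNat 0, Int.ofNat 0, Int.ofNat 0, Int.ofNat 0, Int.ofNat 0, Int.ofNat 0, Int.ofNat 0, Int.ofNat 0, Int.ofNat 0, Int.negSucc 3, Int.ofNat 0, Int.negSucc 3, Int.ofNat 0],
  [Int.ofNat 0, Int.ofNat 0, Int.ofNat 0, Int.ofNat 0, Int.ofNat 2, Int.ofNat 0, Int.ofNat 0, Int.ofNat 0, Int.ofNat 0, Int.ofNat 2, Int.ofNat 2, Int.ofNat 0, Int.ofNat 0, Int.ofNat 2, Int.ofNat 0, Int.ofNat 2, Int.ofNat 2, Int.ofNat 0, Int.ofNat 0, Int.ofNat 0, Int.negSucc 1, Int.ofNat 0, Int.negSucc 1, Int.ofNat 0],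
  [Int.ofNat 0, Int.ofNat 0, Int.ofNat 2, Int.ofNat 0, Int.ofNat 0, Int.ofNat 0, Int.ofNat 0, Int.ofNat 2, Int.ofNat 0, Int.ofNat 2, Int.negSucc 1, Int.ofNat 0, Int.ofNat 2, Int.ofNat 2, Int.negSucc 1, Int.ofNat 2, Int.ofNat 0, Int.ofNat 0, Int.ofNat 0, Int.ofNat 0, Int.ofNat 0, Int.ofNat 0, Int.ofNat 0, Int.ofNat 0],
  [Int.ofNat 1, Int.ofNat 1, Int.negSucc 0, Int.ofNat 1, Int.negSucc 0, Int.ofNat 1, Int.negSucc 0, Int.ofNat 1, Int.negSucc 0, Int.ofNat 1, Int.negSucc 2, Int.negSucc 0, Int.ofNat 1, Int.ofNat 1, Int.negSucc 0, Int.ofNat 1, Int.negSucc 0, Int.ofNat 1, Int.negSucc 0, Int.negSucc 0, Int.negSucc 0, Int.negSucc 0, Int.negSucc 0, Int.ofNat 1],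
  [Int.ofNat 1, Int.ofNat 1, Int.ofNat 1, Int.ofNat 1, Int.negSucc 0, Int.negSucc 0, Int.ofNat 1, Int.ofNat 1, Int.negSucc 0, Int.negSucc 0, Int.ofNat 3, Int.negSucc 0, Int.ofNat 1, Int.ofNat 1, Int.negSucc 0, Int.negSucc 0, Int.negSucc 0, Int.ofNat 1, Int.ofNat 1, Int.negSucc 0, Int.negSucc 0, Int.negSucc 0, Int.ofNat 1, Int.ofNat 1],
  [Int.ofNat 1, Int.negSucc 0, Int.negSucc 0, Int.ofNat 1, Int.ofNat 3, Int.negSucc 0, Int.ofNat 1, Int.ofNat 1, Int.negSucc 0, Int.ofNat 1, Int.ofNat 1, Int.negSucc 0, Int.negSucc 0, Int.ofNat 1, Int.ofNat 1, Int.ofNat 1, Int.ofNat 1, Int.negSucc 0, Int.negSucc 0, Int.negSucc 0, Int.ofNat 1, Int.negSucc 0, Int.negSucc 0, Int.ofNat 1],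
  [Int.ofNat 1, Int.negSucc 0, Int.ofNat 1, Int.ofNat 1, Int.ofNat 3, Int.ofNat 1, Int.negSucc 0, Int.ofNat 1, Int.negSucc 0, Int.negSucc 0, Int.negSucc 0, Int.negSucc 0, Int.negSucc 0, Int.ofNat 1, Int.ofNat 1, Int.negSucc 0, Int.ofNat 1, Int.negSucc 0, Int.ofNat 1, Int.negSucc 0, Int.ofNat 1, Int.negSucc 0, Int.ofNat 1, Int.ofNat 1],
  [Int.ofNat 0, Int.ofNat 2, Int.ofNat 0, Int.ofNat 0, Int.ofNat 0, Int.ofNat 0, Int.ofNat 0, Int.ofNat 2, Int.ofNat 0, Int.ofNat 0, Int.ofNat 0, Int.ofNat 0, Int.ofNat 0, Int.negSucc 1, Int.ofNat 0, Int.ofNat 0, Int.negSucc 1, Int.negSucc 1, Int.ofNat 2, Int.ofNat 0, Int.ofNat 2, Int.ofNat 0, Int.negSucc 1, Int.ofNat 0],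
  [Int.ofNat 0, Int.ofNat 2, Int.ofNat 0, Int.ofNat 0, Int.ofNat 0, Int.ofNat 0, Int.ofNat 2, Int.ofNat 0, Int.negSucc 1, Int.ofNat 0, Int.ofNat 2, Int.ofNat 0, Int.ofNat 0, Int.ofNat 0, Int.negSucc 1, Int.ofNat 0, Int.negSucc 1, Int.ofNat 0, Int.ofNat 0, Int.negSucc 1, Int.ofNat 0, Int.ofNat 2, Int.ofNat 0, Int.ofNat 0],
  [Int.ofNat 1, Int.negSucc 0, Int.ofNat 1, Int.ofNat 1, Int.ofNat 1, Int.ofNat 1, Int.ofNat 1, Int.negSucc 0, Int.negSucc 0, Int.negSucc 0, Int.ofNat 1, Int.ofNat 1, Int.ofNat 1, Int.ofNat 1, Int.negSucc 0, Int.negSucc 0, Int.negSucc 0, Int.ofNat 1, Int.ofNat 1, Int.negSucc 2, Int.negSucc 0, Int.ofNat 1, Int.ofNat 1, Int.ofNat 1],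
  [Int.negSucc 0, Int.ofNat 1, Int.ofNat 1, Int.ofNat 1, Int.negSucc 0, Int.ofNat 1, Int.ofNat 1, Int.ofNat 1, Int.ofNat 1, Int.ofNat 1, Int.negSucc 0, Int.negSucc 0, Int.negSucc 0, Int.ofNat 1, Int.ofNat 1, Int.ofNat 1, Int.ofNat 1, Int.negSucc 0, Int.negSucc 0, Int.negSucc 0, Int.ofNat 1, Int.ofNat 1, Int.negSucc 2, Int.ofNat 1],
  [Int.ofNat 2, Int.ofNat 0, Int.ofNat 0, Int.ofNat 0, Int.ofNat 0, Int.ofNat 0, Int.ofNat 0, Int.ofNat 0, Int.ofNat 2, Int.ofNat 0, Int.negSucc 1, Int.ofNat 0, Int.ofNat 0, Int.ofNat 2, Int.ofNat 0, Int.ofNat 0, Int.ofNat 2, Int.negSucc 1, Int.ofNat 0, Int.negSucc 1, Int.ofNat 0, Int.ofNat 0, Int.negSucc 1, Int.ofNat 0],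
  [Int.ofNat 0, Int.ofNat 0, Int.ofNat 0, Int.ofNat 0, Int.ofNat 0, Int.ofNat 0, Int.ofNat 0, Int.ofNat 2, Int.ofNat 0, Int.negSucc 1, Int.ofNat 0, Int.ofNat 0, Int.ofNat 2, Int.ofNat 0, Int.ofNat 0, Int.ofNat 2, Int.negSucc 1, Int.ofNat 0, Int.negSucc 1, Int.ofNat 0, Int.ofNat 0, Int.negSucc 1, Int.ofNat 2, Int.ofNat 0],
  [Int.ofNat 0, Int.ofNat 0, Int.ofNat 0, Int.ofNat 0, Int.ofNat 0, Int.ofNat 0, Int.ofNat 0, Int.negSucc 1, Int.ofNat 0, Int.ofNat 2, Int.ofNat 0, Int.ofNat 0, Int.ofNat 2, Int.ofNat 0, Int.ofNat 0, Int.ofNat 2, Int.negSucc 1, Int.ofNat 0, Int.ofNat 2, Int.ofNat 0, Int.ofNat 0, Int.ofNat 2, Int.ofNat 2, Int.ofNat 0],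
  [Int.ofNat 0, Int.ofNat 0, Int.ofNat 0, Int.ofNat 0, Int.ofNat 0, Int.ofNat 0, Int.ofNat 0, Int.negSucc 1, Int.ofNat 0, Int.negSucc 1, Int.ofNat 0, Int.ofNat 0, Int.negSucc 1, Int.ofNat 0, Int.ofNat 0, Int.ofNat 2, Int.ofNat 2, Int.ofNat 0, Int.negSucc 1, Int.ofNat 0, Int.ofNat 0, Int.ofNat 2, Int.ofNat 2, Int.ofNat 0],
  [Int.ofNat 0, Int.ofNat 2, Int.ofNat 0, Int.ofNat 2, Int.ofNat 0, Int.negSucc 1, Int.ofNat 0, Int.ofNat 0, Int.ofNat 0, Int.ofNat 0, Int.ofNat 2, Int.ofNat 0, Int.ofNat 2, Int.negSucc 1, Int.negSucc 1, Int.ofNat 0, Int.ofNat 0, Int.ofNat 0, Int.ofNat 0, Int.ofNat 0, Int.ofNat 0, Int.negSucc 1, Int.ofNat 0, Int.ofNat 0],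
  [Int.ofNat 0, Int.ofNat 2, Int.ofNat 0, Int.ofNat 2, Int.ofNat 0, Int.negSucc 1, Int.ofNat 0, Int.ofNat 0, Int.ofNat 0, Int.ofNat 0, Int.negSucc 1, Int.ofNat 0, Int.ofNat 2, Int.negSucc 1, Int.negSucc 1, Int.ofNat 0, Int.ofNat 0, Int.ofNat 0, Int.ofNat 0, Int.ofNat 0, Int.ofNat 0, Int.ofNat 2, Int.ofNat 0, Int.ofNat 0],
  [Int.ofNat 0, Int.ofNat 0, Int.ofNat 2, Int.ofNat 0, Int.ofNat 2, Int.ofNat 0, Int.negSucc 1, Int.ofNat 0, Int.ofNat 0, Int.ofNat 0, Int.ofNat 0, Int.negSucc 1, Int.ofNat 0, Int.ofNat 2, Int.negSucc 1, Int.negSucc 1, Int.ofNat 0, Int.ofNat 0, Int.ofNat 0, Int.ofNat 0, Int.ofNat 0, Int.ofNat 0, Int.ofNat 2, Int.ofNat 0],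
  [Int.ofNat 1, Int.ofNat 1, Int.negSucc 0, Int.ofNat 1, Int.negSucc 0, Int.ofNat 1, Int.negSucc 0, Int.ofNat 1, Int.ofNat 1, Int.ofNat 1, Int.ofNat 1, Int.negSucc 0, Int.ofNat 1, Int.negSucc 0, Int.negSucc 0, Int.negSucc 0, Int.negSucc 2, Int.ofNat 1, Int.ofNat 1, Int.ofNat 1, Int.ofNat 1, Int.ofNat 1, Int.negSucc 0, Int.ofNat 1],
  [Int.ofNat 1, Int.negSucc 0, Int.ofNat 1, Int.negSucc 0, Int.ofNat 1, Int.ofNat 1, Int.ofNat 1, Int.ofNat 1, Int.negSucc 0, Int.ofNat 1, Int.negSucc 0, Int.negSucc 0, Int.negSucc 0, Int.negSucc 2, Int.ofNat 1, Int.ofNat 1, Int.ofNat 1, Int.ofNat 1, Int.ofNat 1, Int.negSucc 0, Int.ofNat 1, Int.ofNat 1, Int.negSucc 0, Int.ofNat 1],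
  [Int.ofNat 0, Int.ofNat 2, Int.ofNat 0, Int.negSucc 1, Int.ofNat 2, Int.ofNat 0, Int.ofNat 0, Int.ofNat 0, Int.ofNat 0, Int.ofNat 0, Int.negSucc 1, Int.ofNat 0, Int.ofNat 0, Int.negSucc 1, Int.ofNat 0, Int.ofNat 0, Int.ofNat 2, Int.ofNat 0, Int.ofNat 2, Int.negSucc 1, Int.ofNat 0, Int.ofNat 0, Int.ofNat 0, Int.ofNat 0],
  [Int.ofNat 0, Int.ofNat 0, Int.ofNat 2, Int.negSucc 1, Int.ofNat 2, Int.ofNat 0, Int.ofNat 0, Int.negSucc 1, Int.ofNat 0, Int.negSucc 1, Int.ofNat 0, Int.ofNat 0, Int.ofNat 0, Int.ofNat 2, Int.ofNat 0, Int.ofNat 0, Int.ofNat 0, Int.ofNat 0, Int.ofNat 2, Int.ofNat 0, Int.ofNat 0, Int.ofNat 0, Int.negSucc 1, Int.ofNat 0],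
  [Int.ofNat 1, Int.ofNat 1, Int.negSucc 0, Int.negSucc 0, Int.ofNat 1, Int.ofNat 1, Int.ofNat 1, Int.negSucc 0, Int.negSucc 0, Int.negSucc 0, Int.ofNat 1, Int.negSucc 0, Int.negSucc 0, Int.ofNat 1, Int.ofNat 1, Int.ofNat 1, Int.negSucc 0, Int.ofNat 1, Int.ofNat 1, Int.ofNat 1, Int.ofNat 1, Int.ofNat 1, Int.negSucc 2, Int.ofNat 1],
  [Int.ofNat 1, Int.ofNat 1, Int.ofNat 1, Int.negSucc 0, Int.ofNat 1, Int.negSucc 0, Int.negSucc 0, Int.negSucc 0, Int.negSucc 0, Int.ofNat 1, Int.negSucc 0, Int.negSucc 0, Int.negSucc 0, Int.ofNat 1, Int.ofNat 1, Int.negSucc 0, Int.negSucc 0, Int.ofNat 1, Int.negSucc 0, Int.ofNat 1, Int.ofNat 1, Int.ofNat 1, Int.ofNat 3, Int.ofNat 1],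
  [Int.negSucc 0, Int.negSucc 0, Int.ofNat 1, Int.negSucc 0, Int.negSucc 0, Int.ofNat 1, Int.negSucc 0, Int.ofNat 1, Int.ofNat 1, Int.negSucc 0, Int.ofNat 1, Int.negSucc 0, Int.ofNat 1, Int.ofNat 1, Int.ofNat 1, Int.ofNat 3, Int.negSucc 0, Int.negSucc 0, Int.negSucc 0, Int.negSucc 0, Int.ofNat 1, Int.ofNat 1, Int.ofNat 1, Int.ofNat 1],
  [Int.negSucc 0, Int.negSucc 0, Int.negSucc 0, Int.negSucc 0, Int.negSucc 0, Int.negSucc 0, Int.ofNat 1, Int.ofNat 1, Int.ofNat 1, Int.ofNat 1, Int.negSucc 0, Int.negSucc 0, Int.ofNat 1, Int.ofNat 1, Int.ofNat 1, Int.negSucc 2, Int.negSucc 0, Int.negSucc 0, Int.ofNat 1, Int.negSucc 0, Int.ofNat 1, Int.ofNat 1, Int.negSucc 0, Int.ofNat 1],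
  [Int.ofNat 0, Int.ofNat 0, Int.ofNat 0, Int.ofNat 0, Int.ofNat 0, Int.ofNat 0, Int.ofNat 0, Int.ofNat 0, Int.ofNat 0, Int.ofNat 2, Int.ofNat 0, Int.negSucc 1, Int.ofNat 0, Int.ofNat 2, Int.ofNat 2, Int.negSucc 1, Int.ofNat 0, Int.ofNat 0, Int.ofNat 0, Int.negSucc 1, Int.ofNat 2, Int.ofNat 0, Int.ofNat 0, Int.negSucc 1],
  [Int.ofNat 0, Int.ofNat 0, Int.ofNat 0, Int.ofNat 0, Int.ofNat 0, Int.ofNat 0, Int.ofNat 0, Int.ofNat 0, Int.ofNat 0, Int.ofNat 0, Int.ofNat 0, Int.negSucc 1, Int.ofNat 0, Int.ofNat 2, Int.ofNat 0, Int.negSucc 1, Int.ofNat 2, Int.negSucc 1, Int.ofNat 0, Int.ofNat 0, Int.ofNat 0, Int.ofNat 2, Int.ofNat 2, Int.negSucc 1],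
  [Int.negSucc 0, Int.negSucc 0, Int.negSucc 0, Int.ofNat 1, Int.negSucc 2, Int.ofNat 1, Int.negSucc 0, Int.negSucc 0, Int.ofNat 1, Int.ofNat 1, Int.ofNat 1, Int.negSucc 0, Int.ofNat 1, Int.negSucc 0, Int.ofNat 1, Int.negSucc 0, Int.negSucc 0, Int.negSucc 0, Int.ofNat 1, Int.negSucc 0, Int.ofNat 1, Int.ofNat 1, Int.negSucc 0, Int.ofNat 1],
  [Int.ofNat 1, Int.ofNat 1, Int.negSucc 0, Int.negSucc 0, Int.negSucc 0, Int.negSucc 0, Int.ofNat 1, Int.negSucc 2, Int.ofNat 1, Int.negSucc 0, Int.negSucc 0, Int.ofNat 1, Int.ofNat 1, Int.ofNat 1, Int.negSucc 0, Int.ofNat 1, Int.negSucc 0, Int.ofNat 1, Int.negSucc 0, Int.negSucc 0, Int.negSucc 0, Int.ofNat 1, Int.negSucc 0, Int.ofNat 1],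
  [Int.ofNat 0, Int.ofNat 0, Int.ofNat 2, Int.ofNat 0, Int.ofNat 0, Int.ofNat 0, Int.ofNat 2, Int.negSucc 1, Int.ofNat 0, Int.ofNat 0, Int.ofNat 0, Int.ofNat 0, Int.ofNat 0, Int.ofNat 2, Int.ofNat 0, Int.ofNat 2, Int.ofNat 0, Int.ofNat 2, Int.negSucc 1, Int.ofNat 0, Int.ofNat 0, Int.ofNat 2, Int.ofNat 0, Int.ofNat 0],
  [Int.ofNat 0, Int.ofNat 2, Int.ofNat 0, Int.ofNat 0, Int.ofNat 0, Int.ofNat 2, Int.negSucc 1, Int.ofNat 0, Int.ofNat 0, Int.ofNat 0, Int.ofNat 0, Int.ofNat 0, Int.ofNat 2, Int.ofNat 0, Int.ofNat 2, Int.ofNat 0, Int.ofNat 2, Int.negSucc 1, Int.ofNat 0, Int.ofNat 0, Int.ofNat 2, Int.ofNat 0, Int.ofNat 0, Int.ofNat 0],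
  [Int.ofNat 0, Int.ofNat 2, Int.ofNat 0, Int.ofNat 0, Int.ofNat 0, Int.ofNat 2, Int.negSucc 1, Int.ofNat 0, Int.ofNat 0, Int.ofNat 0, Int.ofNat 0, Int.ofNat 0, Int.ofNat 2, Int.ofNat 0, Int.ofNat 2, Int.ofNat 0, Int.ofNat 2, Int.negSucc 1, Int.ofNat 0, Int.ofNat 0, Int.ofNat 2, Int.ofNat 0, Int.ofNat 0, Int.ofNat 0]]

set_option maxRecDepth 100000 in
theorem c1e3_chk : pmChk (List.replicate 14 [3, 0, 25]).flatten nxL c1e3M 0 0 = true := by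
  decide +kernel

theorem c1e3_ne : wE letE2 (List.replicate 14 [3, 0, 25]).flatten ≠ 1 ∧ wE letE2 (List.replicate 14 [3, 0, 25]).flatten ≠ negElt :=
  ne_pm_of_chk nxL_mem c1e3_chk

set_option maxRecDepth 100000 in
def c1e4M : List (List ℤ) :=
  [[Int.ofNat 4, Int.ofNat 0, Int.ofNat 0, Int.ofNat 0, Int.ofNat 0, Int.ofNat 0, Int.ofNat 0, Int.ofNat 0, Int.ofNat 0, Int.ofNat 0, Int.ofNat 0, Int.ofNat 0, Int.ofNat 0, Int.ofNat 0, Int.ofNat 0, Int.ofNat 0, Int.ofNat 0, Int.ofNat 0, Int.ofNat 0, Int.ofNat 0, Int.ofNat 0, Int.ofNat 0, Int.ofNat 0, Int.ofNat 4],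
  [Int.ofNat 4, Int.ofNat 0, Int.ofNat 0, Int.ofNat 0, Int.ofNat 0, Int.ofNat 0, Int.ofNat 0, Int.ofNat 0, Int.ofNat 0, Int.ofNat 0, Int.ofNat 0, Int.ofNat 0, Int.ofNat 0, Int.ofNat 0, Int.ofNat 0, Int.ofNat 0, Int.ofNat 0, Int.ofNat 0, Int.ofNat 0, Int.ofNat 0, Int.ofNat 0, Int.ofNat 0, Int.ofNat 0, Int.ofNat 4],
  [Int.negSucc 3, Int.ofNat 0, Int.ofNat 0, Int.ofNat 0, Int.ofNat 0, Int.ofNat 0, Int.ofNat 0, Int.ofNat 0, Int.ofNat 0, Int.ofNat 0, Int.ofNat 0, Int.ofNat 0, Int.ofNat 0, Int.ofNat 0, Int.ofNat 0, Int.ofNat 0, Int.ofNat 0, Int.ofNat 0, Int.ofNat 0, Int.ofNat 0, Int.ofNat 0, Int.ofNat 0, Int.ofNat 0, Int.ofNat 4],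
  [Int.ofNat 0, Int.negSucc 3, Int.ofNat 0, Int.ofNat 0, Int.ofNat 0, Int.ofNat 0, Int.ofNat 0, Int.ofNat 0, Int.ofNat 0, Int.ofNat 0, Int.ofNat 0, Int.ofNat 0, Int.ofNat 0, Int.ofNat 0, Int.ofNat 0, Int.ofNat 0, Int.ofNat 0, Int.ofNat 0, Int.ofNat 0, Int.ofNat 0, Int.ofNat 0, Int.ofNat 0, Int.ofNat 0, Int.ofNat 4],
  [Int.ofNat 0, Int.ofNat 4, Int.ofNat 0, Int.ofNat 0, Int.ofNat 0, Int.ofNat 0, Int.ofNat 0, Int.ofNat 0, Int.ofNat 0, Int.ofNat 0, Int.ofNat 0, Int.ofNat 0, Int.ofNat 0, Int.ofNat 0, Int.ofNat 0, Int.ofNat 0, Int.ofNat 0, Int.ofNat 0, Int.ofNat 0, Int.ofNat 0, Int.ofNat 0, Int.ofNat 0, Int.ofNat 0, Int.negSucc 3],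
  [Int.ofNat 0, Int.ofNat 0, Int.ofNat 0, Int.ofNat 0, Int.ofNat 0, Int.ofNat 0, Int.ofNat 0, Int.ofNat 0, Int.ofNat 0, Int.ofNat 0, Int.ofNat 0, Int.ofNat 0, Int.ofNat 0, Int.ofNat 0, Int.ofNat 0, Int.ofNat 0, Int.ofNat 0, Int.ofNat 0, Int.ofNat 0, Int.ofNat 0, Int.ofNat 0, Int.ofNat 4, Int.ofNat 0, Int.negSucc 3],
  [Int.negSucc 1, Int.negSucc 1, Int.negSucc 1, Int.ofNat 0, Int.ofNat 0, Int.ofNat 0, Int.negSucc 1, Int.negSucc 1, Int.ofNat 0, Int.ofNat 0, Int.ofNat 0, Int.ofNat 0, Int.ofNat 0, Int.ofNat 0, Int.ofNat 0, Int.ofNat 0, Int.ofNat 0, Int.ofNat 0, Int.ofNat 0, Int.negSucc 1, Int.ofNat 0, Int.ofNat 2, Int.ofNat 0, Int.ofNat 2],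
  [Int.negSucc 1, Int.negSucc 1, Int.ofNat 0, Int.ofNat 0, Int.ofNat 0, Int.negSucc 1, Int.negSucc 1, Int.ofNat 0, Int.ofNat 0, Int.ofNat 0, Int.ofNat 0, Int.ofNat 0, Int.ofNat 0, Int.ofNat 0, Int.ofNat 0, Int.ofNat 0, Int.ofNat 0, Int.ofNat 0, Int.negSucc 1, Int.ofNat 0, Int.ofNat 2, Int.ofNat 0, Int.negSucc 1, Int.ofNat 2],
  [Int.ofNat 1, Int.ofNat 1, Int.negSucc 0, Int.ofNat 1, Int.ofNat 1, Int.negSucc 0, Int.negSucc 0, Int.ofNat 1, Int.ofNat 1, Int.negSucc 0, Int.negSucc 0, Int.ofNat 1, Int.ofNat 1, Int.ofNat 1, Int.ofNat 1, Int.negSucc 0, Int.ofNat 1, Int.ofNat 1, Int.negSucc 0, Int.ofNat 1, Int.ofNat 1, Int.ofNat 1, Int.negSucc 0, Int.negSucc 2],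
  [Int.ofNat 1, Int.ofNat 1, Int.ofNat 1, Int.ofNat 1, Int.ofNat 1, Int.ofNat 1, Int.ofNat 1, Int.ofNat 1, Int.ofNat 1, Int.ofNat 1, Int.ofNat 1, Int.ofNat 1, Int.ofNat 1, Int.ofNat 1, Int.ofNat 1, Int.ofNat 1, Int.ofNat 1, Int.ofNat 1, Int.ofNat 1, Int.ofNat 1, Int.ofNat 1, Int.ofNat 1, Int.ofNat 1, Int.negSucc 2],
  [Int.ofNat 1, Int.ofNat 1, Int.ofNat 1, Int.ofNat 1, Int.ofNat 1, Int.ofNat 1, Int.ofNat 1, Int.ofNat 1, Int.ofNat 1, Int.ofNat 1, Int.ofNat 1, Int.ofNat 1, Int.ofNat 1, Int.ofNat 1, Int.ofNat 1, Int.ofNat 1, Int.ofNat 1, Int.ofNat 1, Int.ofNat 1, Int.ofNat 1, Int.ofNat 1, Int.ofNat 1, Int.ofNat 1, Int.negSucc 2],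
  [Int.ofNat 1, Int.ofNat 1, Int.negSucc 0, Int.ofNat 1, Int.ofNat 1, Int.negSucc 0, Int.negSucc 0, Int.ofNat 1, Int.ofNat 1, Int.negSucc 0, Int.negSucc 0, Int.ofNat 1, Int.ofNat 1, Int.ofNat 1, Int.ofNat 1, Int.negSucc 0, Int.ofNat 1, Int.ofNat 1, Int.negSucc 0, Int.ofNat 1, Int.ofNat 1, Int.ofNat 1, Int.negSucc 0, Int.negSucc 2],
  [Int.negSucc 1, Int.negSucc 1, Int.ofNat 0, Int.ofNat 0, Int.ofNat 0, Int.negSucc 1, Int.negSucc 1, Int.ofNat 0, Int.ofNat 0, Int.ofNat 0, Int.ofNat 0, Int.ofNat 0, Int.ofNat 0, Int.ofNat 0, Int.ofNat 0, Int.ofNat 0, Int.ofNat 0, Int.ofNat 0, Int.negSucc 1, Int.ofNat 0, Int.ofNat 2, Int.ofNat 0, Int.negSucc 1, Int.ofNat 2],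
  [Int.negSucc 1, Int.negSucc 1, Int.negSucc 1, Int.ofNat 0, Int.ofNat 0, Int.ofNat 0, Int.negSucc 1, Int.negSucc 1, Int.ofNat 0, Int.ofNat 0, Int.ofNat 0, Int.ofNat 0, Int.ofNat 0, Int.ofNat 0, Int.ofNat 0, Int.ofNat 0, Int.ofNat 0, Int.ofNat 0, Int.ofNat 0, Int.negSucc 1, Int.ofNat 0, Int.ofNat 2, Int.ofNat 0, Int.ofNat 2],
  [Int.ofNat 0, Int.ofNat 0, Int.ofNat 0, Int.ofNat 0, Int.ofNat 0, Int.ofNat 0, Int.ofNat 0, Int.ofNat 0, Int.ofNat 0, Int.ofNat 0, Int.ofNat 0, Int.ofNat 0, Int.ofNat 0, Int.ofNat 0, Int.ofNat 0, Int.ofNat 0, Int.ofNat 0, Int.ofNat 0, Int.ofNat 0, Int.ofNat 0, Int.ofNat 0, Int.ofNat 4, Int.ofNat 0, Int.negSucc 3],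
  [Int.ofNat 0, Int.ofNat 4, Int.ofNat 0, Int.ofNat 0, Int.ofNat 0, Int.ofNat 0, Int.ofNat 0, Int.ofNat 0, Int.ofNat 0, Int.ofNat 0, Int.ofNat 0, Int.ofNat 0, Int.ofNat 0, Int.ofNat 0, Int.ofNat 0, Int.ofNat 0, Int.ofNat 0, Int.ofNat 0, Int.ofNat 0, Int.ofNat 0, Int.ofNat 0, Int.ofNat 0, Int.ofNat 0, Int.negSucc 3],
  [Int.ofNat 0, Int.negSucc 3, Int.ofNat 0, Int.ofNat 0, Int.ofNat 0, Int.ofNat 0, Int.ofNat 0, Int.ofNat 0, Int.ofNat 0, Int.ofNat 0, Int.ofNat 0, Int.ofNat 0, Int.ofNat 0, Int.ofNat 0, Int.ofNat 0, Int.ofNat 0, Int.ofNat 0, Int.ofNat 0, Int.ofNat 0, Int.ofNat 0, Int.ofNat 0, Int.ofNat 0, Int.ofNat 0, Int.ofNat 4],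
  [Int.negSucc 3, Int.ofNat 0, Int.ofNat 0, Int.ofNat 0, Int.ofNat 0, Int.ofNat 0, Int.ofNat 0, Int.ofNat 0, Int.ofNat 0, Int.ofNat 0, Int.ofNat 0, Int.ofNat 0, Int.ofNat 0, Int.ofNat 0, Int.ofNat 0, Int.ofNat 0, Int.ofNat 0, Int.ofNat 0, Int.ofNat 0, Int.ofNat 0, Int.ofNat 0, Int.ofNat 0, Int.ofNat 0, Int.ofNat 4],
  [Int.ofNat 4, Int.ofNat 0, Int.ofNat 0, Int.ofNat 0, Int.ofNat 0, Int.ofNat 0, Int.ofNat 0, Int.ofNat 0, Int.ofNat 0, Int.ofNat 0, Int.ofNat 0, Int.ofNat 0, Int.ofNat 0, Int.ofNat 0, Int.ofNat 0, Int.ofNat 0, Int.ofNat 0, Int.ofNat 0, Int.ofNat 0, Int.ofNat 0, Int.ofNat 0, Int.ofNat 0, Int.ofNat 0, Int.ofNat 4],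
  [Int.negSucc 3, Int.ofNat 0, Int.ofNat 0, Int.ofNat 0, Int.ofNat 0, Int.ofNat 0, Int.ofNat 0, Int.ofNat 0, Int.ofNat 0, Int.ofNat 0, Int.ofNat 0, Int.ofNat 0, Int.ofNat 0, Int.ofNat 0, Int.ofNat 0, Int.ofNat 0, Int.ofNat 0, Int.ofNat 0, Int.ofNat 0, Int.ofNat 0, Int.ofNat 0, Int.ofNat 0, Int.ofNat 0, Int.ofNat 4],
  [Int.ofNat 4, Int.ofNat 0, Int.ofNat 0, Int.ofNat 0, Int.ofNat 0, Int.ofNat 0, Int.ofNat 0, Int.ofNat 0, Int.ofNat 0, Int.ofNat 0, Int.ofNat 0, Int.ofNat 0, Int.ofNat 0, Int.ofNat 0, Int.ofNat 0, Int.ofNat 0, Int.ofNat 0, Int.ofNat 0, Int.ofNat 0, Int.ofNat 0, Int.ofNat 0, Int.ofNat 0, Int.ofNat 0, Int.negSucc 3],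
  [Int.negSucc 3, Int.ofNat 0, Int.ofNat 0, Int.ofNat 0, Int.ofNat 0, Int.ofNat 0, Int.ofNat 0, Int.ofNat 0, Int.ofNat 0, Int.ofNat 0, Int.ofNat 0, Int.ofNat 0, Int.ofNat 0, Int.ofNat 0, Int.ofNat 0, Int.ofNat 0, Int.ofNat 0, Int.ofNat 0, Int.ofNat 0, Int.ofNat 0, Int.ofNat 0, Int.ofNat 0, Int.ofNat 0, Int.negSucc 3],
  [Int.ofNat 0, Int.negSucc 3, Int.ofNat 0, Int.ofNat 0, Int.ofNat 0, Int.ofNat 0, Int.ofNat 0, Int.ofNat 0, Int.ofNat 0, Int.ofNat 0, Int.ofNat 0, Int.ofNat 0, Int.ofNat 0, Int.ofNat 0, Int.ofNat 0, Int.ofNat 0, Int.ofNat 0, Int.ofNat 0, Int.ofNat 0, Int.ofNat 0, Int.ofNat 0, Int.ofNat 0, Int.ofNat 0, Int.negSucc 3],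
  [Int.negSucc 3, Int.ofNat 0, Int.negSucc 3, Int.ofNat 0, Int.ofNat 0, Int.ofNat 0, Int.ofNat 0, Int.ofNat 0, Int.ofNat 0, Int.ofNat 0, Int.ofNat 0, Int.ofNat 0, Int.ofNat 0, Int.ofNat 0, Int.ofNat 0, Int.ofNat 0, Int.ofNat 0, Int.ofNat 0, Int.ofNat 0, Int.ofNat 0, Int.ofNat 0, Int.ofNat 0, Int.ofNat 0, Int.ofNat 0],
  [Int.ofNat 0, Int.ofNat 0, Int.ofNat 0, Int.ofNat 0, Int.ofNat 0, Int.ofNat 0, Int.ofNat 0, Int.ofNat 0, Int.ofNat 0, Int.ofNat 0, Int.ofNat 0, Int.ofNat 0, Int.ofNat 0, Int.ofNat 0, Int.ofNat 0, Int.ofNat 0, Int.ofNat 0, Int.ofNat 0, Int.ofNat 0, Int.ofNat 0, Int.negSucc 3, Int.ofNat 0, Int.negSucc 3, Int.ofNat 0],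
  [Int.ofNat 0, Int.ofNat 0, Int.ofNat 0, Int.ofNat 0, Int.ofNat 2, Int.ofNat 0, Int.ofNat 0, Int.ofNat 0, Int.ofNat 0, Int.ofNat 2, Int.ofNat 2, Int.ofNat 0, Int.ofNat 0, Int.ofNat 2, Int.ofNat 0, Int.ofNat 2, Int.ofNat 2, Int.ofNat 0, Int.ofNat 0, Int.ofNat 0, Int.negSucc 1, Int.ofNat 0, Int.negSucc 1, Int.ofNat 0],
  [Int.ofNat 0, Int.ofNat 0, Int.ofNat 2, Int.ofNat 0, Int.ofNat 0, Int.ofNat 0, Int.ofNat 0, Int.ofNat 2, Int.ofNat 0, Int.ofNat 2, Int.negSucc 1, Int.ofNat 0, Int.ofNat 2, Int.ofNat 2, Int.negSucc 1, Int.ofNat 2, Int.ofNat 0, Int.ofNat 0, Int.ofNat 0, Int.ofNat 0, Int.ofNat 0, Int.ofNat 0, Int.ofNat 0, Int.ofNat 0],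
  [Int.ofNat 1, Int.ofNat 1, Int.negSucc 0, Int.ofNat 1, Int.negSucc 0, Int.ofNat 1, Int.negSucc 0, Int.ofNat 1, Int.negSucc 0, Int.ofNat 1, Int.negSucc 2, Int.negSucc 0, Int.ofNat 1, Int.ofNat 1, Int.negSucc 0, Int.ofNat 1, Int.negSucc 0, Int.ofNat 1, Int.negSucc 0, Int.negSucc 0, Int.negSucc 0, Int.negSucc 0, Int.negSucc 0, Int.ofNat 1],
  [Int.ofNat 1, Int.ofNat 1, Int.ofNat 1, Int.ofNat 1, Int.negSucc 0, Int.negSucc 0, Int.ofNat 1, Int.ofNat 1, Int.negSucc 0, Int.negSucc 0, Int.ofNat 3, Int.negSucc 0, Int.ofNat 1, Int.ofNat 1, Int.negSucc 0, Int.negSucc 0, Int.negSucc 0, Int.ofNat 1, Int.ofNat 1, Int.negSucc 0, Int.negSucc 0, Int.negSucc 0, Int.ofNat 1, Int.ofNat 1],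
  [Int.negSucc 0, Int.ofNat 1, Int.ofNat 1, Int.ofNat 1, Int.ofNat 1, Int.negSucc 0, Int.negSucc 0, Int.negSucc 0, Int.negSucc 0, Int.negSucc 0, Int.ofNat 1, Int.ofNat 3, Int.ofNat 1, Int.negSucc 0, Int.negSucc 0, Int.ofNat 1, Int.ofNat 1, Int.negSucc 0, Int.negSucc 0, Int.ofNat 1, Int.ofNat 1, Int.negSucc 0, Int.ofNat 1, Int.ofNat 1],
  [Int.negSucc 0, Int.ofNat 1, Int.negSucc 0, Int.ofNat 1, Int.ofNat 1, Int.ofNat 1, Int.ofNat 1, Int.negSucc 0, Int.negSucc 0, Int.ofNat 1, Int.negSucc 0, Int.ofNat 3, Int.ofNat 1, Int.negSucc 0, Int.negSucc 0, Int.negSucc 0, Int.ofNat 1, Int.negSucc 0, Int.ofNat 1, Int.ofNat 1, Int.ofNat 1, Int.negSucc 0, Int.negSucc 0, Int.ofNat 1],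
  [Int.ofNat 1, Int.negSucc 0, Int.ofNat 1, Int.ofNat 1, Int.ofNat 1, Int.ofNat 1, Int.ofNat 1, Int.negSucc 0, Int.negSucc 2, Int.ofNat 1, Int.negSucc 0, Int.ofNat 1, Int.negSucc 0, Int.negSucc 0, Int.negSucc 0, Int.negSucc 0, Int.ofNat 1, Int.negSucc 0, Int.negSucc 0, Int.ofNat 1, Int.ofNat 1, Int.negSucc 0, Int.negSucc 0, Int.negSucc 0],
  [Int.ofNat 1, Int.negSucc 0, Int.ofNat 1, Int.ofNat 1, Int.ofNat 1, Int.negSucc 0, Int.negSucc 0, Int.ofNat 1, Int.ofNat 1, Int.negSucc 0, Int.negSucc 0, Int.ofNat 1, Int.negSucc 2, Int.ofNat 1, Int.negSucc 0, Int.negSucc 0, Int.negSucc 0, Int.ofNat 1, Int.ofNat 1, Int.negSucc 0, Int.negSucc 0, Int.ofNat 1, Int.negSucc 0, Int.negSucc 0],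
  [Int.negSucc 0, Int.ofNat 1, Int.negSucc 0, Int.ofNat 1, Int.ofNat 1, Int.negSucc 0, Int.negSucc 0, Int.ofNat 1, Int.ofNat 1, Int.ofNat 1, Int.ofNat 1, Int.ofNat 1, Int.negSucc 2, Int.ofNat 1, Int.negSucc 0, Int.ofNat 1, Int.negSucc 0, Int.ofNat 1, Int.ofNat 1, Int.negSucc 0, Int.ofNat 1, Int.ofNat 1, Int.negSucc 0, Int.ofNat 1],
  [Int.ofNat 1, Int.ofNat 1, Int.negSucc 0, Int.negSucc 0, Int.ofNat 1, Int.negSucc 0, Int.ofNat 1, Int.ofNat 1, Int.negSucc 0, Int.negSucc 0, Int.ofNat 1, Int.ofNat 1, Int.ofNat 1, Int.ofNat 1, Int.ofNat 1, Int.negSucc 2, Int.ofNat 1, Int.negSucc 0, Int.ofNat 1, Int.negSucc 0, Int.ofNat 1, Int.ofNat 1, Int.negSucc 0, Int.ofNat 1],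
  [Int.ofNat 0, Int.ofNat 0, Int.ofNat 2, Int.ofNat 0, Int.ofNat 0, Int.ofNat 0, Int.ofNat 0, Int.ofNat 0, Int.negSucc 1, Int.ofNat 0, Int.ofNat 2, Int.ofNat 0, Int.ofNat 0, Int.ofNat 0, Int.ofNat 2, Int.negSucc 1, Int.ofNat 0, Int.ofNat 0, Int.ofNat 0, Int.negSucc 1, Int.ofNat 2, Int.ofNat 0, Int.negSucc 1, Int.ofNat 0],
  [Int.ofNat 0, Int.ofNat 2, Int.ofNat 0, Int.ofNat 0, Int.ofNat 0, Int.ofNat 0, Int.ofNat 0, Int.negSucc 1, Int.ofNat 0, Int.ofNat 2, Int.ofNat 0, Int.ofNat 0, Int.ofNat 0, Int.ofNat 2, Int.negSucc 1, Int.ofNat 0, Int.ofNat 0, Int.ofNat 0, Int.negSucc 1, Int.ofNat 2, Int.ofNat 0, Int.negSucc 1, Int.ofNat 0, Int.ofNat 0],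
  [Int.ofNat 0, Int.ofNat 2, Int.ofNat 0, Int.ofNat 0, Int.ofNat 0, Int.ofNat 0, Int.ofNat 0, Int.ofNat 2, Int.ofNat 0, Int.negSucc 1, Int.ofNat 0, Int.ofNat 0, Int.ofNat 0, Int.ofNat 2, Int.negSucc 1, Int.ofNat 0, Int.ofNat 0, Int.ofNat 0, Int.ofNat 2, Int.ofNat 2, Int.ofNat 0, Int.ofNat 2, Int.ofNat 0, Int.ofNat 0],
  [Int.ofNat 0, Int.negSucc 1, Int.ofNat 0, Int.ofNat 0, Int.ofNat 0, Int.ofNat 0, Int.ofNat 0, Int.ofNat 2, Int.ofNat 0, Int.ofNat 2, Int.ofNat 0, Int.ofNat 0, Int.ofNat 0, Int.negSucc 1, Int.negSucc 1, Int.ofNat 0, Int.ofNat 0, Int.ofNat 0, Int.negSucc 1, Int.ofNat 2, Int.ofNat 0, Int.ofNat 2, Int.ofNat 0, Int.ofNat 0],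
  [Int.ofNat 0, Int.ofNat 0, Int.ofNat 0, Int.ofNat 0, Int.ofNat 0, Int.ofNat 2, Int.ofNat 2, Int.negSucc 1, Int.ofNat 0, Int.ofNat 0, Int.ofNat 0, Int.ofNat 0, Int.ofNat 2, Int.ofNat 2, Int.negSucc 1, Int.ofNat 0, Int.ofNat 0, Int.ofNat 0, Int.negSucc 1, Int.ofNat 0, Int.ofNat 0, Int.ofNat 0, Int.negSucc 1, Int.ofNat 0],
  [Int.ofNat 0, Int.ofNat 0, Int.ofNat 0, Int.ofNat 0, Int.ofNat 0, Int.ofNat 2, Int.ofNat 2, Int.ofNat 2, Int.ofNat 0, Int.ofNat 0, Int.ofNat 0, Int.ofNat 0, Int.ofNat 2, Int.ofNat 2, Int.negSucc 1, Int.ofNat 0, Int.ofNat 0, Int.ofNat 0, Int.ofNat 2, Int.ofNat 0, Int.ofNat 0, Int.ofNat 0, Int.negSucc 1, Int.ofNat 0],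
  [Int.negSucc 1, Int.ofNat 0, Int.ofNat 0, Int.ofNat 0, Int.ofNat 0, Int.ofNat 0, Int.ofNat 2, Int.ofNat 2, Int.ofNat 2, Int.ofNat 0, Int.ofNat 0, Int.ofNat 0, Int.ofNat 0, Int.ofNat 2, Int.ofNat 2, Int.negSucc 1, Int.ofNat 0, Int.ofNat 0, Int.ofNat 0, Int.ofNat 2, Int.ofNat 0, Int.ofNat 0, Int.ofNat 0, Int.ofNat 0],
  [Int.ofNat 1, Int.negSucc 0, Int.negSucc 0, Int.negSucc 0, Int.negSucc 0, Int.negSucc 0, Int.negSucc 0, Int.negSucc 0, Int.ofNat 1, Int.ofNat 1, Int.ofNat 1, Int.negSucc 0, Int.negSucc 0, Int.ofNat 1, Int.ofNat 1, Int.negSucc 0, Int.negSucc 0, Int.negSucc 0, Int.negSucc 0, Int.negSucc 0, Int.ofNat 1, Int.negSucc 2, Int.negSucc 0, Int.negSucc 0],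
  [Int.negSucc 0, Int.negSucc 0, Int.negSucc 0, Int.negSucc 0, Int.negSucc 0, Int.ofNat 1, Int.ofNat 1, Int.ofNat 1, Int.negSucc 0, Int.negSucc 0, Int.ofNat 1, Int.ofNat 1, Int.negSucc 0, Int.negSucc 0, Int.negSucc 0, Int.negSucc 0, Int.negSucc 0, Int.ofNat 1, Int.negSucc 2, Int.negSucc 0, Int.ofNat 1, Int.negSucc 0, Int.negSucc 0, Int.negSucc 0],
  [Int.negSucc 0, Int.negSucc 0, Int.negSucc 0, Int.negSucc 0, Int.ofNat 1, Int.ofNat 1, Int.ofNat 1, Int.ofNat 1, Int.ofNat 1, Int.negSucc 0, Int.ofNat 1, Int.ofNat 3, Int.ofNat 1, Int.ofNat 1, Int.negSucc 0, Int.negSucc 0, Int.ofNat 1, Int.ofNat 1, Int.negSucc 0, Int.negSucc 0, Int.ofNat 1, Int.negSucc 0, Int.ofNat 1, Int.negSucc 0],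
  [Int.negSucc 0, Int.ofNat 1, Int.ofNat 1, Int.negSucc 0, Int.negSucc 0, Int.ofNat 1, Int.negSucc 0, Int.ofNat 1, Int.ofNat 1, Int.ofNat 1, Int.ofNat 1, Int.ofNat 1, Int.negSucc 0, Int.ofNat 1, Int.ofNat 1, Int.negSucc 0, Int.ofNat 1, Int.negSucc 0, Int.negSucc 0, Int.ofNat 3, Int.negSucc 0, Int.ofNat 1, Int.negSucc 0, Int.negSucc 0],
  [Int.ofNat 1, Int.negSucc 0, Int.negSucc 0, Int.negSucc 0, Int.negSucc 0, Int.ofNat 1, Int.negSucc 2, Int.negSucc 0, Int.ofNat 1, Int.ofNat 1, Int.ofNat 1, Int.ofNat 1, Int.negSucc 0, Int.ofNat 1, Int.ofNat 1, Int.negSucc 0, Int.ofNat 1, Int.negSucc 0, Int.negSucc 0, Int.ofNat 1, Int.negSucc 0, Int.negSucc 0, Int.negSucc 0, Int.ofNat 1],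
  [Int.ofNat 1, Int.negSucc 0, Int.ofNat 1, Int.negSucc 0, Int.negSucc 0, Int.negSucc 0, Int.ofNat 3, Int.negSucc 0, Int.ofNat 1, Int.negSucc 0, Int.negSucc 0, Int.ofNat 1, Int.negSucc 0, Int.ofNat 1, Int.ofNat 1, Int.ofNat 1, Int.ofNat 1, Int.negSucc 0, Int.ofNat 1, Int.ofNat 1, Int.negSucc 0, Int.negSucc 0, Int.ofNat 1, Int.ofNat 1],
  [Int.negSucc 0, Int.ofNat 1, Int.negSucc 0, Int.ofNat 3, Int.negSucc 0, Int.negSucc 0, Int.ofNat 1, Int.negSucc 0, Int.ofNat 1, Int.ofNat 1, Int.negSucc 0, Int.negSucc 0, Int.ofNat 1, Int.negSucc 0, Int.ofNat 1, Int.ofNat 1, Int.ofNat 1, Int.ofNat 1, Int.negSucc 0, Int.negSucc 0, Int.negSucc 0, Int.ofNat 1, Int.ofNat 1, Int.ofNat 1],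
  [Int.negSucc 0, Int.ofNat 1, Int.ofNat 1, Int.ofNat 3, Int.negSucc 0, Int.ofNat 1, Int.negSucc 0, Int.negSucc 0, Int.ofNat 1, Int.negSucc 0, Int.ofNat 1, Int.negSucc 0, Int.ofNat 1, Int.negSucc 0, Int.ofNat 1, Int.negSucc 0, Int.ofNat 1, Int.ofNat 1, Int.ofNat 1, Int.negSucc 0, Int.negSucc 0, Int.ofNat 1, Int.negSucc 0, Int.ofNat 1],
  [Int.ofNat 2, Int.ofNat 0, Int.ofNat 0, Int.ofNat 0, Int.ofNat 0, Int.negSucc 1, Int.ofNat 0, Int.ofNat 0, Int.ofNat 0, Int.ofNat 0, Int.ofNat 2, Int.negSucc 1, Int.ofNat 0, Int.ofNat 0, Int.negSucc 1, Int.ofNat 0, Int.ofNat 2, Int.negSucc 1, Int.ofNat 0, Int.ofNat 0, Int.ofNat 0, Int.ofNat 2, Int.ofNat 0, Int.ofNat 0],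
  [Int.ofNat 2, Int.ofNat 0, Int.ofNat 0, Int.ofNat 0, Int.ofNat 0, Int.ofNat 2, Int.ofNat 0, Int.negSucc 1, Int.ofNat 2, Int.ofNat 0, Int.ofNat 0, Int.ofNat 0, Int.ofNat 0, Int.ofNat 0, Int.negSucc 1, Int.ofNat 0, Int.ofNat 0, Int.negSucc 1, Int.ofNat 0, Int.ofNat 0, Int.ofNat 2, Int.ofNat 0, Int.negSucc 1, Int.ofNat 0],
  [Int.negSucc 0, Int.ofNat 1, Int.ofNat 1, Int.ofNat 1, Int.ofNat 1, Int.ofNat 3, Int.ofNat 1, Int.negSucc 0, Int.ofNat 1, Int.negSucc 0, Int.negSucc 0, Int.negSucc 0, Int.negSucc 0, Int.ofNat 1, Int.negSucc 0, Int.negSucc 0, Int.ofNat 1, Int.negSucc 0, Int.negSucc 0, Int.ofNat 1, Int.ofNat 1, Int.ofNat 1, Int.negSucc 0, Int.ofNat 1],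
  [Int.ofNat 1, Int.ofNat 1, Int.negSucc 0, Int.negSucc 0, Int.ofNat 1, Int.ofNat 1, Int.ofNat 1, Int.ofNat 1, Int.ofNat 3, Int.ofNat 1, Int.negSucc 0, Int.ofNat 1, Int.negSucc 0, Int.negSucc 0, Int.negSucc 0, Int.negSucc 0, Int.ofNat 1, Int.negSucc 0, Int.negSucc 0, Int.ofNat 1, Int.negSucc 0, Int.negSucc 0, Int.ofNat 1, Int.ofNat 1],
  [Int.ofNat 0, Int.ofNat 0, Int.ofNat 2, Int.ofNat 0, Int.ofNat 0, Int.ofNat 2, Int.ofNat 0, Int.ofNat 0, Int.ofNat 2, Int.ofNat 2, Int.ofNat 0, Int.ofNat 0, Int.negSucc 1, Int.negSucc 1, Int.ofNat 0, Int.ofNat 0, Int.ofNat 0, Int.ofNat 0, Int.negSucc 1, Int.ofNat 0, Int.ofNat 0, Int.negSucc 1, Int.ofNat 0, Int.ofNat 0],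
  [Int.ofNat 0, Int.ofNat 2, Int.ofNat 0, Int.ofNat 0, Int.ofNat 2, Int.ofNat 0, Int.ofNat 0, Int.ofNat 2, Int.ofNat 2, Int.ofNat 0, Int.ofNat 0, Int.negSucc 1, Int.negSucc 1, Int.ofNat 0, Int.ofNat 0, Int.ofNat 0, Int.ofNat 0, Int.negSucc 1, Int.ofNat 0, Int.ofNat 0, Int.negSucc 1, Int.ofNat 0, Int.ofNat 0, Int.ofNat 0],
  [Int.ofNat 0, Int.ofNat 2, Int.ofNat 0, Int.ofNat 0, Int.ofNat 2, Int.ofNat 0, Int.ofNat 0, Int.negSucc 1, Int.ofNat 2, Int.ofNat 0, Int.ofNat 0, Int.ofNat 2, Int.negSucc 1, Int.ofNat 0, Int.ofNat 0, Int.ofNat 0, Int.ofNat 0, Int.negSucc 1, Int.ofNat 0, Int.ofNat 0, Int.negSucc 1, Int.ofNat 0, Int.ofNat 0, Int.ofNat 0],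
  [Int.ofNat 0, Int.negSucc 1, Int.ofNat 0, Int.ofNat 0, Int.negSucc 1, Int.ofNat 0, Int.ofNat 0, Int.negSucc 1, Int.negSucc 1, Int.ofNat 0, Int.ofNat 0, Int.ofNat 2, Int.ofNat 2, Int.ofNat 0, Int.ofNat 0, Int.ofNat 0, Int.ofNat 0, Int.negSucc 1, Int.ofNat 0, Int.ofNat 0, Int.negSucc 1, Int.ofNat 0, Int.ofNat 0, Int.ofNat 0],
  [Int.ofNat 0, Int.ofNat 0, Int.ofNat 2, Int.ofNat 0, Int.negSucc 1, Int.ofNat 0, Int.ofNat 0, Int.ofNat 0, Int.negSucc 1, Int.ofNat 0, Int.ofNat 0, Int.ofNat 0, Int.ofNat 0, Int.negSucc 1, Int.ofNat 0, Int.ofNat 0, Int.ofNat 0, Int.negSucc 1, Int.ofNat 0, Int.ofNat 0, Int.negSucc 1, Int.ofNat 2, Int.negSucc 1, Int.ofNat 0],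
  [Int.ofNat 0, Int.ofNat 0, Int.negSucc 1, Int.ofNat 0, Int.negSucc 1, Int.ofNat 0, Int.ofNat 0, Int.ofNat 0, Int.negSucc 1, Int.ofNat 0, Int.ofNat 0, Int.ofNat 0, Int.ofNat 0, Int.negSucc 1, Int.ofNat 0, Int.ofNat 0, Int.ofNat 0, Int.negSucc 1, Int.ofNat 0, Int.ofNat 0, Int.negSucc 1, Int.negSucc 1, Int.negSucc 1, Int.ofNat 0],
  [Int.negSucc 1, Int.ofNat 0, Int.ofNat 0, Int.negSucc 1, Int.ofNat 0, Int.negSucc 1, Int.ofNat 0, Int.ofNat 0, Int.ofNat 0, Int.negSucc 1, Int.ofNat 0, Int.ofNat 0, Int.ofNat 0, Int.ofNat 0, Int.negSucc 1, Int.ofNat 0, Int.ofNat 0, Int.ofNat 0, Int.negSucc 1, Int.ofNat 0, Int.ofNat 0, Int.negSucc 1, Int.negSucc 1, Int.ofNat 0],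
  [Int.ofNat 1, Int.negSucc 0, Int.negSucc 0, Int.ofNat 1, Int.ofNat 1, Int.ofNat 1, Int.ofNat 1, Int.ofNat 1, Int.ofNat 1, Int.negSucc 0, Int.ofNat 1, Int.ofNat 1, Int.ofNat 1, Int.ofNat 1, Int.ofNat 1, Int.ofNat 1, Int.ofNat 1, Int.ofNat 3, Int.negSucc 0, Int.ofNat 1, Int.ofNat 1, Int.negSucc 0, Int.negSucc 0, Int.negSucc 0],
  [Int.ofNat 1, Int.ofNat 1, Int.ofNat 1, Int.ofNat 1, Int.ofNat 1, Int.ofNat 1, Int.negSucc 0, Int.ofNat 1, Int.ofNat 1, Int.ofNat 1, Int.ofNat 1, Int.ofNat 1, Int.ofNat 1, Int.ofNat 1, Int.ofNat 3, Int.negSucc 0, Int.ofNat 1, Int.ofNat 1, Int.negSucc 0, Int.negSucc 0, Int.ofNat 1, Int.negSucc 0, Int.negSucc 0, Int.negSucc 0],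
  [Int.ofNat 0, Int.ofNat 0, Int.ofNat 0, Int.negSucc 1, Int.ofNat 0, Int.negSucc 1, Int.ofNat 0, Int.ofNat 2, Int.ofNat 0, Int.ofNat 0, Int.ofNat 0, Int.ofNat 0, Int.ofNat 0, Int.ofNat 0, Int.ofNat 0, Int.negSucc 1, Int.ofNat 0, Int.negSucc 1, Int.negSucc 1, Int.ofNat 0, Int.ofNat 0, Int.ofNat 0, Int.negSucc 1, Int.ofNat 2],
  [Int.ofNat 0, Int.ofNat 0, Int.ofNat 0, Int.negSucc 1, Int.negSucc 1, Int.ofNat 2, Int.ofNat 0, Int.ofNat 0, Int.ofNat 0, Int.ofNat 0, Int.ofNat 0, Int.negSucc 1, Int.ofNat 0, Int.ofNat 0, Int.negSucc 1, Int.negSucc 1, Int.ofNat 0, Int.ofNat 0, Int.ofNat 0, Int.ofNat 0, Int.ofNat 0, Int.negSucc 1, Int.ofNat 0, Int.ofNat 2],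
  [Int.ofNat 1, Int.ofNat 1, Int.ofNat 1, Int.negSucc 0, Int.negSucc 0, Int.ofNat 3, Int.ofNat 1, Int.ofNat 1, Int.ofNat 1, Int.ofNat 1, Int.ofNat 1, Int.negSucc 0, Int.ofNat 1, Int.ofNat 1, Int.negSucc 0, Int.negSucc 0, Int.ofNat 1, Int.ofNat 1, Int.ofNat 1, Int.ofNat 1, Int.ofNat 1, Int.negSucc 0, Int.ofNat 1, Int.negSucc 0],
  [Int.ofNat 1, Int.ofNat 1, Int.negSucc 0, Int.negSucc 0, Int.negSucc 0, Int.negSucc 2, Int.negSucc 0, Int.ofNat 1, Int.ofNat 1, Int.negSucc 0, Int.negSucc 0, Int.negSucc 0, Int.ofNat 1, Int.ofNat 1, Int.negSucc 0, Int.ofNat 1, Int.ofNat 1, Int.ofNat 1, Int.negSucc 0, Int.ofNat 1, Int.ofNat 1, Int.negSucc 0, Int.negSucc 0, Int.negSucc 0],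
  [Int.negSucc 0, Int.negSucc 0, Int.ofNat 1, Int.negSucc 0, Int.ofNat 1, Int.negSucc 0, Int.ofNat 1, Int.ofNat 1, Int.ofNat 1, Int.ofNat 1, Int.ofNat 1, Int.negSucc 0, Int.negSucc 0, Int.negSucc 2, Int.negSucc 0, Int.ofNat 1, Int.negSucc 0, Int.ofNat 1, Int.negSucc 0, Int.ofNat 1, Int.negSucc 0, Int.negSucc 0, Int.ofNat 1, Int.negSucc 0],
  [Int.negSucc 0, Int.negSucc 0, Int.negSucc 0, Int.negSucc 0, Int.ofNat 1, Int.ofNat 1, Int.negSucc 0, Int.ofNat 1, Int.ofNat 1, Int.negSucc 0, Int.negSucc 0, Int.negSucc 0, Int.negSucc 0, Int.negSucc 2, Int.negSucc 0, Int.negSucc 0, Int.negSucc 0, Int.ofNat 1, Int.ofNat 1, Int.ofNat 1, Int.negSucc 0, Int.negSucc 0, Int.negSucc 0, Int.negSucc 0],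
  [Int.negSucc 0, Int.negSucc 0, Int.negSucc 0, Int.negSucc 0, Int.ofNat 3, Int.ofNat 1, Int.negSucc 0, Int.ofNat 1, Int.ofNat 1, Int.ofNat 1, Int.ofNat 1, Int.negSucc 0, Int.negSucc 0, Int.negSucc 0, Int.negSucc 0, Int.ofNat 1, Int.ofNat 1, Int.ofNat 1, Int.ofNat 1, Int.ofNat 1, Int.ofNat 1, Int.negSucc 0, Int.ofNat 1, Int.negSucc 0],
  [Int.negSucc 0, Int.ofNat 1, Int.negSucc 0, Int.negSucc 0, Int.negSucc 0, Int.negSucc 0, Int.negSucc 0, Int.ofNat 1, Int.ofNat 1, Int.negSucc 0, Int.ofNat 1, Int.ofNat 1, Int.ofNat 1, Int.ofNat 1, Int.ofNat 1, Int.ofNat 1, Int.negSucc 0, Int.negSucc 0, Int.ofNat 3, Int.ofNat 1, Int.ofNat 1, Int.ofNat 1, Int.negSucc 0, Int.negSucc 0],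
  [Int.ofNat 0, Int.negSucc 1, Int.ofNat 0, Int.ofNat 0, Int.ofNat 0, Int.ofNat 0, Int.negSucc 1, Int.ofNat 0, Int.negSucc 1, Int.negSucc 1, Int.ofNat 0, Int.negSucc 1, Int.negSucc 1, Int.ofNat 2, Int.ofNat 2, Int.ofNat 0, Int.ofNat 0, Int.ofNat 0, Int.ofNat 0, Int.ofNat 0, Int.ofNat 0, Int.ofNat 0, Int.ofNat 0, Int.ofNat 0],
  [Int.ofNat 0, Int.ofNat 0, Int.ofNat 0, Int.ofNat 0, Int.negSucc 1, Int.ofNat 0, Int.ofNat 0, Int.ofNat 0, Int.ofNat 0, Int.negSucc 1, Int.ofNat 0, Int.negSucc 1, Int.negSucc 1, Int.ofNat 0, Int.negSucc 1, Int.negSucc 1, Int.ofNat 2, Int.ofNat 2, Int.ofNat 0, Int.ofNat 0, Int.ofNat 0, Int.ofNat 0, Int.ofNat 0, Int.ofNat 0],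
  [Int.ofNat 0, Int.ofNat 0, Int.ofNat 0, Int.ofNat 0, Int.negSucc 1, Int.ofNat 0, Int.ofNat 0, Int.ofNat 0, Int.ofNat 2, Int.ofNat 0, Int.ofNat 2, Int.ofNat 0, Int.ofNat 0, Int.ofNat 0, Int.negSucc 1, Int.ofNat 0, Int.ofNat 2, Int.ofNat 2, Int.ofNat 2, Int.ofNat 0, Int.ofNat 2, Int.ofNat 0, Int.ofNat 0, Int.ofNat 0],
  [Int.ofNat 0, Int.ofNat 0, Int.ofNat 0, Int.negSucc 1, Int.ofNat 0, Int.ofNat 0, Int.ofNat 0, Int.ofNat 2, Int.ofNat 0, Int.ofNat 2, Int.ofNat 0, Int.ofNat 0, Int.ofNat 0, Int.negSucc 1, Int.ofNat 0, Int.ofNat 2, Int.ofNat 2, Int.ofNat 2, Int.ofNat 0, Int.ofNat 2, Int.ofNat 0, Int.ofNat 0, Int.ofNat 0, Int.ofNat 0],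
  [Int.ofNat 0, Int.ofNat 0, Int.ofNat 0, Int.negSucc 1, Int.ofNat 0, Int.ofNat 0, Int.ofNat 0, Int.negSucc 1, Int.ofNat 0, Int.negSucc 1, Int.ofNat 0, Int.ofNat 0, Int.ofNat 0, Int.negSucc 1, Int.ofNat 0, Int.ofNat 2, Int.ofNat 2, Int.ofNat 2, Int.ofNat 0, Int.ofNat 2, Int.ofNat 0, Int.ofNat 0, Int.ofNat 0, Int.ofNat 0],
  [Int.ofNat 0, Int.ofNat 0, Int.ofNat 0, Int.ofNat 2, Int.ofNat 0, Int.ofNat 0, Int.ofNat 0, Int.negSucc 1, Int.ofNat 0, Int.ofNat 2, Int.ofNat 0, Int.ofNat 0, Int.ofNat 0, Int.ofNat 2, Int.ofNat 0, Int.ofNat 2, Int.negSucc 1, Int.ofNat 2, Int.ofNat 0, Int.ofNat 2, Int.ofNat 0, Int.ofNat 0, Int.ofNat 0, Int.ofNat 0],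
  [Int.ofNat 0, Int.ofNat 0, Int.ofNat 0, Int.ofNat 2, Int.ofNat 2, Int.ofNat 2, Int.ofNat 2, Int.ofNat 2, Int.ofNat 0, Int.ofNat 0, Int.negSucc 1, Int.ofNat 0, Int.ofNat 0, Int.negSucc 1, Int.ofNat 0, Int.ofNat 2, Int.ofNat 0, Int.ofNat 0, Int.ofNat 0, Int.ofNat 0, Int.ofNat 0, Int.ofNat 0, Int.ofNat 0, Int.ofNat 0],
  [Int.ofNat 0, Int.ofNat 0, Int.ofNat 0, Int.ofNat 2, Int.ofNat 2, Int.ofNat 2, Int.ofNat 2, Int.negSucc 1, Int.ofNat 0, Int.ofNat 0, Int.ofNat 2, Int.ofNat 0, Int.ofNat 0, Int.negSucc 1, Int.ofNat 0, Int.ofNat 2, Int.ofNat 0, Int.ofNat 0, Int.ofNat 0, Int.ofNat 0, Int.ofNat 0, Int.ofNat 0, Int.ofNat 0, Int.ofNat 0],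
  [Int.ofNat 0, Int.ofNat 0, Int.ofNat 0, Int.ofNat 0, Int.ofNat 2, Int.ofNat 2, Int.ofNat 2, Int.ofNat 2, Int.negSucc 1, Int.ofNat 0, Int.ofNat 0, Int.ofNat 2, Int.ofNat 0, Int.ofNat 0, Int.negSucc 1, Int.ofNat 0, Int.ofNat 2, Int.ofNat 0, Int.ofNat 0, Int.ofNat 0, Int.ofNat 0, Int.ofNat 0, Int.ofNat 0, Int.ofNat 0],
  [Int.ofNat 0, Int.ofNat 0, Int.ofNat 0, Int.ofNat 0, Int.ofNat 0, Int.ofNat 2, Int.ofNat 0, Int.ofNat 0, Int.negSucc 1, Int.ofNat 0, Int.ofNat 0, Int.ofNat 2, Int.ofNat 0, Int.negSucc 1, Int.negSucc 1, Int.ofNat 0, Int.ofNat 0, Int.ofNat 0, Int.ofNat 0, Int.negSucc 1, Int.ofNat 0, Int.negSucc 1, Int.negSucc 1, Int.ofNat 0],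
  [Int.ofNat 0, Int.ofNat 0, Int.ofNat 2, Int.ofNat 0, Int.ofNat 0, Int.negSucc 1, Int.ofNat 0, Int.ofNat 0, Int.ofNat 2, Int.ofNat 0, Int.negSucc 1, Int.negSucc 1, Int.ofNat 0, Int.ofNat 0, Int.ofNat 0, Int.ofNat 0, Int.negSucc 1, Int.ofNat 0, Int.negSucc 1, Int.negSucc 1, Int.ofNat 0, Int.ofNat 0, Int.ofNat 0, Int.ofNat 0],
  [Int.ofNat 1, Int.ofNat 1, Int.negSucc 0, Int.ofNat 1, Int.ofNat 1, Int.negSucc 0, Int.ofNat 1, Int.ofNat 1, Int.ofNat 3, Int.ofNat 1, Int.negSucc 0, Int.negSucc 0, Int.ofNat 1, Int.ofNat 1, Int.ofNat 1, Int.ofNat 1, Int.negSucc 0, Int.ofNat 1, Int.negSucc 0, Int.negSucc 0, Int.ofNat 1, Int.ofNat 1, Int.ofNat 1, Int.ofNat 1],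
  [Int.ofNat 1, Int.ofNat 1, Int.ofNat 1, Int.ofNat 1, Int.negSucc 0, Int.ofNat 1, Int.negSucc 0, Int.negSucc 0, Int.ofNat 1, Int.ofNat 1, Int.ofNat 1, Int.ofNat 1, Int.ofNat 1, Int.negSucc 0, Int.ofNat 1, Int.ofNat 1, Int.ofNat 3, Int.ofNat 1, Int.ofNat 1, Int.negSucc 0, Int.ofNat 1, Int.negSucc 0, Int.negSucc 0, Int.ofNat 1],
  [Int.ofNat 1, Int.ofNat 1, Int.ofNat 1, Int.negSucc 0, Int.negSucc 0, Int.negSucc 0, Int.ofNat 1, Int.ofNat 1, Int.negSucc 0, Int.negSucc 0, Int.negSucc 0, Int.negSucc 0, Int.negSucc 0, Int.negSucc 0, Int.negSucc 0, Int.negSucc 0, Int.ofNat 3, Int.negSucc 0, Int.negSucc 0, Int.ofNat 1, Int.negSucc 0, Int.ofNat 1, Int.negSucc 0, Int.ofNat 1],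
  [Int.ofNat 1, Int.ofNat 1, Int.negSucc 0, Int.negSucc 0, Int.negSucc 0, Int.ofNat 1, Int.negSucc 0, Int.ofNat 1, Int.negSucc 0, Int.ofNat 1, Int.ofNat 1, Int.negSucc 0, Int.negSucc 0, Int.negSucc 0, Int.negSucc 0, Int.ofNat 1, Int.ofNat 3, Int.negSucc 0, Int.ofNat 1, Int.ofNat 1, Int.negSucc 0, Int.ofNat 1, Int.ofNat 1, Int.ofNat 1],
  [Int.ofNat 1, Int.negSucc 0, Int.negSucc 0, Int.negSucc 0, Int.ofNat 1, Int.ofNat 1, Int.negSucc 0, Int.negSucc 0, Int.ofNat 3, Int.ofNat 1, Int.ofNat 1, Int.ofNat 1, Int.ofNat 1, Int.ofNat 1, Int.negSucc 0, Int.negSucc 0, Int.ofNat 1, Int.ofNat 1, Int.negSucc 0, Int.negSucc 0, Int.negSucc 0, Int.negSucc 0, Int.ofNat 1, Int.ofNat 1],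
  [Int.ofNat 1, Int.negSucc 0, Int.ofNat 1, Int.negSucc 0, Int.ofNat 1, Int.negSucc 0, Int.ofNat 1, Int.negSucc 0, Int.ofNat 3, Int.negSucc 0, Int.negSucc 0, Int.ofNat 1, Int.ofNat 1, Int.ofNat 1, Int.negSucc 0, Int.ofNat 1, Int.ofNat 1, Int.ofNat 1, Int.ofNat 1, Int.negSucc 0, Int.negSucc 0, Int.negSucc 0, Int.negSucc 0, Int.ofNat 1],
  [Int.ofNat 0, Int.ofNat 2, Int.ofNat 0, Int.ofNat 0, Int.ofNat 0, Int.ofNat 0, Int.ofNat 2, Int.ofNat 0, Int.ofNat 0, Int.ofNat 0, Int.ofNat 0, Int.negSucc 1, Int.negSucc 1, Int.ofNat 0, Int.ofNat 0, Int.ofNat 2, Int.ofNat 0, Int.ofNat 2, Int.negSucc 1, Int.ofNat 0, Int.ofNat 0, Int.ofNat 0, Int.negSucc 1, Int.ofNat 0],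
  [Int.ofNat 0, Int.negSucc 1, Int.ofNat 2, Int.ofNat 0, Int.ofNat 0, Int.ofNat 0, Int.ofNat 2, Int.ofNat 0, Int.ofNat 0, Int.negSucc 1, Int.ofNat 0, Int.ofNat 0, Int.ofNat 0, Int.ofNat 0, Int.ofNat 2, Int.ofNat 2, Int.ofNat 0, Int.negSucc 1, Int.ofNat 0, Int.negSucc 1, Int.ofNat 0, Int.ofNat 0, Int.ofNat 0, Int.ofNat 0],
  [Int.ofNat 0, Int.ofNat 2, Int.negSucc 1, Int.ofNat 0, Int.ofNat 0, Int.ofNat 0, Int.ofNat 2, Int.ofNat 0, Int.ofNat 0, Int.negSucc 1, Int.ofNat 0, Int.ofNat 0, Int.ofNat 0, Int.ofNat 0, Int.ofNat 2, Int.ofNat 2, Int.ofNat 0, Int.negSucc 1, Int.ofNat 0, Int.negSucc 1, Int.ofNat 0, Int.ofNat 0, Int.ofNat 0, Int.ofNat 0],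
  [Int.ofNat 0, Int.ofNat 0, Int.ofNat 0, Int.ofNat 0, Int.ofNat 2, Int.negSucc 1, Int.ofNat 0, Int.ofNat 0, Int.ofNat 0, Int.ofNat 2, Int.ofNat 0, Int.ofNat 0, Int.negSucc 1, Int.ofNat 0, Int.ofNat 0, Int.ofNat 0, Int.ofNat 0, Int.ofNat 2, Int.ofNat 2, Int.ofNat 0, Int.negSucc 1, Int.ofNat 0, Int.negSucc 1, Int.ofNat 0],
  [Int.ofNat 0, Int.ofNat 0, Int.ofNat 0, Int.ofNat 0, Int.ofNat 2, Int.negSucc 1, Int.ofNat 0, Int.ofNat 0, Int.ofNat 0, Int.ofNat 2, Int.ofNat 0, Int.ofNat 0, Int.negSucc 1, Int.ofNat 0, Int.ofNat 0, Int.ofNat 0, Int.ofNat 0, Int.ofNat 2, Int.ofNat 2, Int.ofNat 0, Int.negSucc 1, Int.ofNat 0, Int.negSucc 1, Int.ofNat 0],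
  [Int.ofNat 0, Int.ofNat 0, Int.ofNat 0, Int.ofNat 2, Int.negSucc 1, Int.ofNat 0, Int.ofNat 0, Int.ofNat 0, Int.ofNat 2, Int.ofNat 0, Int.ofNat 0, Int.negSucc 1, Int.ofNat 0, Int.ofNat 0, Int.ofNat 0, Int.ofNat 0, Int.ofNat 2, Int.ofNat 2, Int.ofNat 0, Int.negSucc 1, Int.ofNat 0, Int.negSucc 1, Int.ofNat 0, Int.ofNat 0],
  [Int.ofNat 0, Int.ofNat 0, Int.ofNat 0, Int.ofNat 2, Int.negSucc 1, Int.ofNat 0, Int.ofNat 0, Int.ofNat 0, Int.ofNat 2, Int.ofNat 0, Int.ofNat 0, Int.ofNat 2, Int.ofNat 0, Int.ofNat 0, Int.ofNat 0, Int.ofNat 0, Int.ofNat 2, Int.ofNat 2, Int.ofNat 0, Int.negSucc 1, Int.ofNat 0, Int.ofNat 2, Int.ofNat 0, Int.ofNat 0],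
  [Int.ofNat 0, Int.ofNat 0, Int.ofNat 0, Int.negSucc 1, Int.ofNat 2, Int.ofNat 0, Int.ofNat 0, Int.ofNat 0, Int.negSucc 1, Int.ofNat 0, Int.ofNat 0, Int.ofNat 2, Int.ofNat 0, Int.ofNat 0, Int.ofNat 0, Int.ofNat 0, Int.negSucc 1, Int.ofNat 2, Int.ofNat 0, Int.negSucc 1, Int.ofNat 0, Int.ofNat 2, Int.ofNat 0, Int.ofNat 0],
  [Int.ofNat 0, Int.ofNat 0, Int.ofNat 2, Int.ofNat 0, Int.ofNat 2, Int.ofNat 0, Int.negSucc 1, Int.ofNat 0, Int.ofNat 0, Int.ofNat 0, Int.negSucc 1, Int.ofNat 0, Int.ofNat 2, Int.ofNat 0, Int.ofNat 0, Int.negSucc 1, Int.ofNat 0, Int.ofNat 2, Int.ofNat 0, Int.ofNat 0, Int.negSucc 1, Int.ofNat 0, Int.ofNat 0, Int.ofNat 0],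
  [Int.ofNat 0, Int.ofNat 0, Int.negSucc 1, Int.ofNat 0, Int.ofNat 2, Int.ofNat 0, Int.negSucc 1, Int.ofNat 0, Int.ofNat 0, Int.ofNat 0, Int.ofNat 2, Int.ofNat 0, Int.ofNat 2, Int.ofNat 0, Int.ofNat 0, Int.negSucc 1, Int.ofNat 0, Int.ofNat 2, Int.ofNat 0, Int.ofNat 0, Int.negSucc 1, Int.ofNat 0, Int.ofNat 0, Int.ofNat 0],
  [Int.ofNat 0, Int.ofNat 0, Int.ofNat 0, Int.negSucc 1, Int.ofNat 0, Int.ofNat 2, Int.ofNat 0, Int.negSucc 1, Int.ofNat 0, Int.ofNat 0, Int.ofNat 0, Int.ofNat 2, Int.ofNat 0, Int.ofNat 2, Int.ofNat 0, Int.ofNat 0, Int.negSucc 1, Int.ofNat 0, Int.ofNat 2, Int.ofNat 0, Int.ofNat 0, Int.negSucc 1, Int.ofNat 0, Int.ofNat 0],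
  [Int.ofNat 0, Int.ofNat 0, Int.ofNat 0, Int.negSucc 1, Int.ofNat 0, Int.ofNat 2, Int.ofNat 2, Int.ofNat 0, Int.negSucc 1, Int.ofNat 0, Int.ofNat 0, Int.ofNat 0, Int.negSucc 1, Int.ofNat 2, Int.ofNat 0, Int.ofNat 0, Int.negSucc 1, Int.ofNat 0, Int.ofNat 0, Int.ofNat 2, Int.ofNat 0, Int.ofNat 0, Int.ofNat 0, Int.ofNat 0],
  [Int.negSucc 1, Int.ofNat 0, Int.ofNat 2, Int.ofNat 2, Int.ofNat 0, Int.negSucc 1, Int.ofNat 0, Int.ofNat 0, Int.ofNat 0, Int.negSucc 1, Int.ofNat 2, Int.ofNat 0, Int.ofNat 0, Int.negSucc 1, Int.ofNat 0, Int.ofNat 0, Int.ofNat 2, Int.ofNat 0, Int.ofNat 0, Int.ofNat 0, Int.ofNat 0, Int.ofNat 0, Int.ofNat 0, Int.ofNat 0],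
  [Int.ofNat 2, Int.ofNat 0, Int.negSucc 1, Int.ofNat 2, Int.ofNat 0, Int.negSucc 1, Int.ofNat 0, Int.ofNat 0, Int.ofNat 0, Int.negSucc 1, Int.ofNat 2, Int.ofNat 0, Int.ofNat 0, Int.negSucc 1, Int.ofNat 0, Int.ofNat 0, Int.ofNat 2, Int.ofNat 0, Int.ofNat 0, Int.ofNat 0, Int.ofNat 0, Int.ofNat 0, Int.ofNat 0, Int.ofNat 0],
  [Int.ofNat 2, Int.ofNat 0, Int.ofNat 0, Int.ofNat 2, Int.ofNat 0, Int.ofNat 0, Int.negSucc 1, Int.ofNat 2, Int.ofNat 0, Int.negSucc 1, Int.ofNat 0, Int.ofNat 0, Int.negSucc 1, Int.ofNat 2, Int.ofNat 0, Int.ofNat 0, Int.ofNat 0, Int.ofNat 0, Int.ofNat 0, Int.ofNat 0, Int.ofNat 0, Int.negSucc 1, Int.ofNat 0, Int.ofNat 0],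
  [Int.negSucc 0, Int.ofNat 1, Int.ofNat 1, Int.ofNat 1, Int.negSucc 0, Int.negSucc 0, Int.negSucc 0, Int.ofNat 3, Int.ofNat 1, Int.negSucc 0, Int.ofNat 1, Int.ofNat 1, Int.negSucc 0, Int.ofNat 1, Int.negSucc 0, Int.ofNat 1, Int.negSucc 0, Int.negSucc 0, Int.ofNat 1, Int.ofNat 1, Int.ofNat 1, Int.negSucc 0, Int.negSucc 0, Int.ofNat 1],
  [Int.negSucc 0, Int.ofNat 1, Int.negSucc 0, Int.ofNat 1, Int.negSucc 0, Int.ofNat 1, Int.ofNat 1, Int.ofNat 3, Int.ofNat 1, Int.ofNat 1, Int.negSucc 0, Int.ofNat 1, Int.negSucc 0, Int.ofNat 1, Int.negSucc 0, Int.negSucc 0, Int.negSucc 0, Int.negSucc 0, Int.negSucc 0, Int.ofNat 1, Int.ofNat 1, Int.negSucc 0, Int.ofNat 1, Int.ofNat 1],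
  [Int.ofNat 1, Int.negSucc 0, Int.negSucc 0, Int.ofNat 1, Int.ofNat 3, Int.negSucc 0, Int.ofNat 1, Int.ofNat 1, Int.negSucc 0, Int.ofNat 1, Int.ofNat 1, Int.negSucc 0, Int.negSucc 0, Int.ofNat 1, Int.ofNat 1, Int.ofNat 1, Int.ofNat 1, Int.negSucc 0, Int.negSucc 0, Int.negSucc 0, Int.ofNat 1, Int.negSucc 0, Int.negSucc 0, Int.ofNat 1],
  [Int.ofNat 1, Int.negSucc 0, Int.ofNat 1, Int.ofNat 1, Int.ofNat 3, Int.ofNat 1, Int.negSucc 0, Int.ofNat 1, Int.negSucc 0, Int.negSucc 0, Int.negSucc 0, Int.negSucc 0, Int.negSucc 0, Int.ofNat 1, Int.ofNat 1, Int.negSucc 0, Int.ofNat 1, Int.negSucc 0, Int.ofNat 1, Int.negSucc 0, Int.ofNat 1, Int.negSucc 0, Int.ofNat 1, Int.ofNat 1],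
  [Int.ofNat 0, Int.ofNat 2, Int.ofNat 0, Int.ofNat 0, Int.ofNat 0, Int.ofNat 0, Int.ofNat 0, Int.ofNat 2, Int.ofNat 0, Int.ofNat 0, Int.ofNat 0, Int.ofNat 0, Int.ofNat 0, Int.negSucc 1, Int.ofNat 0, Int.ofNat 0, Int.negSucc 1, Int.negSucc 1, Int.ofNat 2, Int.ofNat 0, Int.ofNat 2, Int.ofNat 0, Int.negSucc 1, Int.ofNat 0],
  [Int.ofNat 0, Int.ofNat 2, Int.ofNat 0, Int.ofNat 0, Int.ofNat 0, Int.ofNat 0, Int.ofNat 2, Int.ofNat 0, Int.negSucc 1, Int.ofNat 0, Int.ofNat 2, Int.ofNat 0, Int.ofNat 0, Int.ofNat 0, Int.negSucc 1, Int.ofNat 0, Int.negSucc 1, Int.ofNat 0, Int.ofNat 0, Int.negSucc 1, Int.ofNat 0, Int.ofNat 2, Int.ofNat 0, Int.ofNat 0],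
  [Int.ofNat 1, Int.negSucc 0, Int.ofNat 1, Int.ofNat 1, Int.ofNat 1, Int.ofNat 1, Int.ofNat 1, Int.negSucc 0, Int.negSucc 0, Int.negSucc 0, Int.ofNat 1, Int.ofNat 1, Int.ofNat 1, Int.ofNat 1, Int.negSucc 0, Int.negSucc 0, Int.negSucc 0, Int.ofNat 1, Int.ofNat 1, Int.negSucc 2, Int.negSucc 0, Int.ofNat 1, Int.ofNat 1, Int.ofNat 1],
  [Int.negSucc 0, Int.ofNat 1, Int.ofNat 1, Int.ofNat 1, Int.negSucc 0, Int.ofNat 1, Int.ofNat 1, Int.ofNat 1, Int.ofNat 1, Int.ofNat 1, Int.negSucc 0, Int.negSucc 0, Int.negSucc 0, Int.ofNat 1, Int.ofNat 1, Int.ofNat 1, Int.ofNat 1, Int.negSucc 0, Int.negSucc 0, Int.negSucc 0, Int.ofNat 1, Int.ofNat 1, Int.negSucc 2, Int.ofNat 1],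
  [Int.ofNat 2, Int.ofNat 0, Int.ofNat 0, Int.ofNat 0, Int.ofNat 0, Int.ofNat 0, Int.ofNat 0, Int.ofNat 0, Int.ofNat 2, Int.ofNat 0, Int.negSucc 1, Int.ofNat 0, Int.ofNat 0, Int.ofNat 2, Int.ofNat 0, Int.ofNat 0, Int.ofNat 2, Int.negSucc 1, Int.ofNat 0, Int.negSucc 1, Int.ofNat 0, Int.ofNat 0, Int.negSucc 1, Int.ofNat 0],
  [Int.ofNat 0, Int.ofNat 0, Int.ofNat 0, Int.ofNat 0, Int.ofNat 0, Int.ofNat 0, Int.ofNat 0, Int.ofNat 2, Int.ofNat 0, Int.negSucc 1, Int.ofNat 0, Int.ofNat 0, Int.ofNat 2, Int.ofNat 0, Int.ofNat 0, Int.ofNat 2, Int.negSucc 1, Int.ofNat 0, Int.negSucc 1, Int.ofNat 0, Int.ofNat 0, Int.negSucc 1, Int.ofNat 2, Int.ofNat 0],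
  [Int.ofNat 0, Int.ofNat 0, Int.ofNat 0, Int.ofNat 0, Int.ofNat 0, Int.ofNat 0, Int.ofNat 0, Int.negSucc 1, Int.ofNat 0, Int.ofNat 2, Int.ofNat 0, Int.ofNat 0, Int.ofNat 2, Int.ofNat 0, Int.ofNat 0, Int.ofNat 2, Int.negSucc 1, Int.ofNat 0, Int.ofNat 2, Int.ofNat 0, Int.ofNat 0, Int.ofNat 2, Int.ofNat 2, Int.ofNat 0],
  [Int.ofNat 0, Int.ofNat 0, Int.ofNat 0, Int.ofNat 0, Int.ofNat 0, Int.ofNat 0, Int.ofNat 0, Int.negSucc 1, Int.ofNat 0, Int.negSucc 1, Int.ofNat 0, Int.ofNat 0, Int.negSucc 1, Int.ofNat 0, Int.ofNat 0, Int.ofNat 2, Int.ofNat 2, Int.ofNat 0, Int.negSucc 1, Int.ofNat 0, Int.ofNat 0, Int.ofNat 2, Int.ofNat 2, Int.ofNat 0],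
  [Int.ofNat 0, Int.ofNat 2, Int.ofNat 0, Int.ofNat 2, Int.ofNat 0, Int.negSucc 1, Int.ofNat 0, Int.ofNat 0, Int.ofNat 0, Int.ofNat 0, Int.ofNat 2, Int.ofNat 0, Int.ofNat 2, Int.negSucc 1, Int.negSucc 1, Int.ofNat 0, Int.ofNat 0, Int.ofNat 0, Int.ofNat 0, Int.ofNat 0, Int.ofNat 0, Int.negSucc 1, Int.ofNat 0, Int.ofNat 0],
  [Int.ofNat 0, Int.ofNat 2, Int.ofNat 0, Int.ofNat 2, Int.ofNat 0, Int.negSucc 1, Int.ofNat 0, Int.ofNat 0, Int.ofNat 0, Int.ofNat 0, Int.negSucc 1, Int.ofNat 0, Int.ofNat 2, Int.negSucc 1, Int.negSucc 1, Int.ofNat 0, Int.ofNat 0, Int.ofNat 0, Int.ofNat 0, Int.ofNat 0, Int.ofNat 0, Int.ofNat 2, Int.ofNat 0, Int.ofNat 0],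
  [Int.ofNat 0, Int.ofNat 0, Int.ofNat 2, Int.ofNat 0, Int.ofNat 2, Int.ofNat 0, Int.negSucc 1, Int.ofNat 0, Int.ofNat 0, Int.ofNat 0, Int.ofNat 0, Int.negSucc 1, Int.ofNat 0, Int.ofNat 2, Int.negSucc 1, Int.negSucc 1, Int.ofNat 0, Int.ofNat 0, Int.ofNat 0, Int.ofNat 0, Int.ofNat 0, Int.ofNat 0, Int.ofNat 2, Int.ofNat 0],
  [Int.ofNat 1, Int.ofNat 1, Int.negSucc 0, Int.ofNat 1, Int.negSucc 0, Int.ofNat 1, Int.negSucc 0, Int.ofNat 1, Int.ofNat 1, Int.ofNat 1, Int.ofNat 1, Int.negSucc 0, Int.ofNat 1, Int.negSucc 0, Int.negSucc 0, Int.negSucc 0, Int.negSucc 2, Int.ofNat 1, Int.ofNat 1, Int.ofNat 1, Int.ofNat 1, Int.ofNat 1, Int.negSucc 0, Int.ofNat 1],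
  [Int.ofNat 1, Int.negSucc 0, Int.ofNat 1, Int.negSucc 0, Int.ofNat 1, Int.ofNat 1, Int.ofNat 1, Int.ofNat 1, Int.negSucc 0, Int.ofNat 1, Int.negSucc 0, Int.negSucc 0, Int.negSucc 0, Int.negSucc 2, Int.ofNat 1, Int.ofNat 1, Int.ofNat 1, Int.ofNat 1, Int.ofNat 1, Int.negSucc 0, Int.ofNat 1, Int.ofNat 1, Int.negSucc 0, Int.ofNat 1],
  [Int.ofNat 0, Int.ofNat 2, Int.ofNat 0, Int.negSucc 1, Int.ofNat 2, Int.ofNat 0, Int.ofNat 0, Int.ofNat 0, Int.ofNat 0, Int.ofNat 0, Int.negSucc 1, Int.ofNat 0, Int.ofNat 0, Int.negSucc 1, Int.ofNat 0, Int.ofNat 0, Int.ofNat 2, Int.ofNat 0, Int.ofNat 2, Int.negSucc 1, Int.ofNat 0, Int.ofNat 0, Int.ofNat 0, Int.ofNat 0],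
  [Int.ofNat 0, Int.ofNat 0, Int.ofNat 2, Int.negSucc 1, Int.ofNat 2, Int.ofNat 0, Int.ofNat 0, Int.negSucc 1, Int.ofNat 0, Int.negSucc 1, Int.ofNat 0, Int.ofNat 0, Int.ofNat 0, Int.ofNat 2, Int.ofNat 0, Int.ofNat 0, Int.ofNat 0, Int.ofNat 0, Int.ofNat 2, Int.ofNat 0, Int.ofNat 0, Int.ofNat 0, Int.negSucc 1, Int.ofNat 0],
  [Int.ofNat 1, Int.ofNat 1, Int.negSucc 0, Int.negSucc 0, Int.ofNat 1, Int.ofNat 1, Int.ofNat 1, Int.negSucc 0, Int.negSucc 0, Int.negSucc 0, Int.ofNat 1, Int.negSucc 0, Int.negSucc 0, Int.ofNat 1, Int.ofNat 1, Int.ofNat 1, Int.negSucc 0, Int.ofNat 1, Int.ofNat 1, Int.ofNat 1, Int.ofNat 1, Int.ofNat 1, Int.negSucc 2, Int.ofNat 1],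
  [Int.ofNat 1, Int.ofNat 1, Int.ofNat 1, Int.negSucc 0, Int.ofNat 1, Int.negSucc 0, Int.negSucc 0, Int.negSucc 0, Int.negSucc 0, Int.ofNat 1, Int.negSucc 0, Int.negSucc 0, Int.negSucc 0, Int.ofNat 1, Int.ofNat 1, Int.negSucc 0, Int.negSucc 0, Int.ofNat 1, Int.negSucc 0, Int.ofNat 1, Int.ofNat 1, Int.ofNat 1, Int.ofNat 3, Int.ofNat 1],
  [Int.ofNat 1, Int.ofNat 1, Int.negSucc 0, Int.negSucc 0, Int.negSucc 0, Int.ofNat 1, Int.negSucc 0, Int.ofNat 1, Int.negSucc 0, Int.ofNat 1, Int.ofNat 1, Int.negSucc 0, Int.negSucc 0, Int.negSucc 0, Int.negSucc 0, Int.ofNat 1, Int.ofNat 3, Int.negSucc 0, Int.ofNat 1, Int.ofNat 1, Int.negSucc 0, Int.ofNat 1, Int.ofNat 1, Int.ofNat 1],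
  [Int.ofNat 1, Int.ofNat 1, Int.ofNat 1, Int.negSucc 0, Int.negSucc 0, Int.negSucc 0, Int.ofNat 1, Int.ofNat 1, Int.negSucc 0, Int.negSucc 0, Int.negSucc 0, Int.negSucc 0, Int.negSucc 0, Int.negSucc 0, Int.negSucc 0, Int.negSucc 0, Int.ofNat 3, Int.negSucc 0, Int.negSucc 0, Int.ofNat 1, Int.negSucc 0, Int.ofNat 1, Int.negSucc 0, Int.ofNat 1],
  [Int.ofNat 1, Int.ofNat 1, Int.ofNat 1, Int.ofNat 1, Int.negSucc 0, Int.ofNat 1, Int.negSucc 0, Int.negSucc 0, Int.ofNat 1, Int.ofNat 1, Int.ofNat 1, Int.ofNat 1, Int.ofNat 1, Int.negSucc 0, Int.ofNat 1, Int.ofNat 1, Int.ofNat 3, Int.ofNat 1, Int.ofNat 1, Int.negSucc 0, Int.ofNat 1, Int.negSucc 0, Int.negSucc 0, Int.ofNat 1],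
  [Int.ofNat 1, Int.ofNat 1, Int.negSucc 0, Int.ofNat 1, Int.ofNat 1, Int.negSucc 0, Int.ofNat 1, Int.ofNat 1, Int.ofNat 3, Int.ofNat 1, Int.negSucc 0, Int.negSucc 0, Int.ofNat 1, Int.ofNat 1, Int.ofNat 1, Int.ofNat 1, Int.negSucc 0, Int.ofNat 1, Int.negSucc 0, Int.negSucc 0, Int.ofNat 1, Int.ofNat 1, Int.ofNat 1, Int.ofNat 1],
  [Int.ofNat 0, Int.ofNat 0, Int.ofNat 2, Int.ofNat 0, Int.ofNat 0, Int.negSucc 1, Int.ofNat 0, Int.ofNat 0, Int.ofNat 2, Int.ofNat 0, Int.negSucc 1, Int.negSucc 1, Int.ofNat 0, Int.ofNat 0, Int.ofNat 0, Int.ofNat 0, Int.negSucc 1, Int.ofNat 0, Int.negSucc 1, Int.negSucc 1, Int.ofNat 0, Int.ofNat 0, Int.ofNat 0, Int.ofNat 0],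
  [Int.ofNat 0, Int.ofNat 0, Int.ofNat 0, Int.ofNat 0, Int.ofNat 0, Int.ofNat 2, Int.ofNat 0, Int.ofNat 0, Int.negSucc 1, Int.ofNat 0, Int.ofNat 0, Int.ofNat 2, Int.ofNat 0, Int.negSucc 1, Int.negSucc 1, Int.ofNat 0, Int.ofNat 0, Int.ofNat 0, Int.ofNat 0, Int.negSucc 1, Int.ofNat 0, Int.negSucc 1, Int.negSucc 1, Int.ofNat 0],
  [Int.ofNat 0, Int.ofNat 0, Int.ofNat 0, Int.ofNat 0, Int.ofNat 2, Int.ofNat 2, Int.ofNat 2, Int.ofNat 2, Int.negSucc 1, Int.ofNat 0, Int.ofNat 0, Int.ofNat 2, Int.ofNat 0, Int.ofNat 0, Int.negSucc 1, Int.ofNat 0, Int.ofNat 2, Int.ofNat 0, Int.ofNat 0, Int.ofNat 0, Int.ofNat 0, Int.ofNat 0, Int.ofNat 0, Int.ofNat 0],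
  [Int.ofNat 0, Int.ofNat 0, Int.ofNat 0, Int.ofNat 2, Int.ofNat 2, Int.ofNat 2, Int.ofNat 2, Int.negSucc 1, Int.ofNat 0, Int.ofNat 0, Int.ofNat 2, Int.ofNat 0, Int.ofNat 0, Int.negSucc 1, Int.ofNat 0, Int.ofNat 2, Int.ofNat 0, Int.ofNat 0, Int.ofNat 0, Int.ofNat 0, Int.ofNat 0, Int.ofNat 0, Int.ofNat 0, Int.ofNat 0],
  [Int.ofNat 0, Int.ofNat 0, Int.ofNat 0, Int.ofNat 2, Int.ofNat 2, Int.ofNat 2, Int.ofNat 2, Int.ofNat 2, Int.ofNat 0, Int.ofNat 0, Int.negSucc 1, Int.ofNat 0, Int.ofNat 0, Int.negSucc 1, Int.ofNat 0, Int.ofNat 2, Int.ofNat 0, Int.ofNat 0, Int.ofNat 0, Int.ofNat 0, Int.ofNat 0, Int.ofNat 0, Int.ofNat 0, Int.ofNat 0],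
  [Int.ofNat 0, Int.ofNat 0, Int.ofNat 0, Int.negSucc 1, Int.negSucc 1, Int.ofNat 2, Int.negSucc 1, Int.ofNat 2, Int.ofNat 0, Int.ofNat 0, Int.negSucc 1, Int.ofNat 0, Int.ofNat 0, Int.ofNat 2, Int.ofNat 0, Int.ofNat 2, Int.ofNat 0, Int.ofNat 0, Int.ofNat 0, Int.ofNat 0, Int.ofNat 0, Int.ofNat 0, Int.ofNat 0, Int.ofNat 0],
  [Int.ofNat 0, Int.ofNat 0, Int.ofNat 0, Int.ofNat 2, Int.ofNat 0, Int.ofNat 0, Int.ofNat 0, Int.ofNat 2, Int.ofNat 0, Int.ofNat 2, Int.ofNat 0, Int.ofNat 0, Int.ofNat 0, Int.ofNat 2, Int.ofNat 0, Int.negSucc 1, Int.negSucc 1, Int.negSucc 1, Int.ofNat 0, Int.negSucc 1, Int.ofNat 0, Int.ofNat 0, Int.ofNat 0, Int.ofNat 0],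
  [Int.ofNat 0, Int.ofNat 0, Int.ofNat 0, Int.ofNat 2, Int.ofNat 0, Int.ofNat 0, Int.ofNat 0, Int.negSucc 1, Int.ofNat 0, Int.negSucc 1, Int.ofNat 0, Int.ofNat 0, Int.ofNat 0, Int.ofNat 2, Int.ofNat 0, Int.negSucc 1, Int.negSucc 1, Int.negSucc 1, Int.ofNat 0, Int.negSucc 1, Int.ofNat 0, Int.ofNat 0, Int.ofNat 0, Int.ofNat 0],
  [Int.ofNat 0, Int.ofNat 0, Int.ofNat 0, Int.ofNat 0, Int.ofNat 2, Int.ofNat 0, Int.ofNat 0, Int.ofNat 0, Int.negSucc 1, Int.ofNat 0, Int.negSucc 1, Int.ofNat 0, Int.ofNat 0, Int.ofNat 0, Int.ofNat 2, Int.ofNat 0, Int.negSucc 1, Int.negSucc 1, Int.negSucc 1, Int.ofNat 0, Int.negSucc 1, Int.ofNat 0, Int.ofNat 0, Int.ofNat 0],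
  [Int.ofNat 0, Int.ofNat 0, Int.ofNat 0, Int.ofNat 0, Int.ofNat 2, Int.ofNat 0, Int.ofNat 0, Int.ofNat 0, Int.ofNat 0, Int.ofNat 2, Int.ofNat 0, Int.ofNat 2, Int.ofNat 2, Int.ofNat 0, Int.ofNat 2, Int.ofNat 2, Int.negSucc 1, Int.negSucc 1, Int.ofNat 0, Int.ofNat 0, Int.ofNat 0, Int.ofNat 0, Int.ofNat 0, Int.ofNat 0],
  [Int.ofNat 0, Int.ofNat 2, Int.ofNat 0, Int.ofNat 0, Int.ofNat 0, Int.ofNat 0, Int.ofNat 2, Int.ofNat 0, Int.ofNat 2, Int.ofNat 2, Int.ofNat 0, Int.ofNat 2, Int.ofNat 2, Int.negSucc 1, Int.negSucc 1, Int.ofNat 0, Int.ofNat 0, Int.ofNat 0, Int.ofNat 0, Int.ofNat 0, Int.ofNat 0, Int.ofNat 0, Int.ofNat 0, Int.ofNat 0],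
  [Int.ofNat 1, Int.negSucc 0, Int.ofNat 1, Int.ofNat 1, Int.ofNat 1, Int.ofNat 1, Int.ofNat 1, Int.negSucc 0, Int.negSucc 0, Int.ofNat 1, Int.negSucc 0, Int.negSucc 0, Int.negSucc 0, Int.negSucc 0, Int.negSucc 0, Int.negSucc 0, Int.ofNat 1, Int.ofNat 1, Int.negSucc 2, Int.negSucc 0, Int.negSucc 0, Int.negSucc 0, Int.ofNat 1, Int.ofNat 1],
  [Int.ofNat 1, Int.ofNat 1, Int.ofNat 1, Int.ofNat 1, Int.negSucc 2, Int.negSucc 0, Int.ofNat 1, Int.negSucc 0, Int.negSucc 0, Int.negSucc 0, Int.negSucc 0, Int.ofNat 1, Int.ofNat 1, Int.ofNat 1, Int.ofNat 1, Int.negSucc 0, Int.negSucc 0, Int.negSucc 0, Int.negSucc 0, Int.negSucc 0, Int.negSucc 0, Int.ofNat 1, Int.negSucc 0, Int.ofNat 1],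
  [Int.ofNat 1, Int.ofNat 1, Int.ofNat 1, Int.ofNat 1, Int.negSucc 0, Int.negSucc 0, Int.ofNat 1, Int.negSucc 0, Int.negSucc 0, Int.ofNat 1, Int.ofNat 1, Int.ofNat 1, Int.ofNat 1, Int.ofNat 3, Int.ofNat 1, Int.ofNat 1, Int.ofNat 1, Int.negSucc 0, Int.negSucc 0, Int.negSucc 0, Int.ofNat 1, Int.ofNat 1, Int.ofNat 1, Int.ofNat 1],
  [Int.ofNat 1, Int.ofNat 1, Int.negSucc 0, Int.ofNat 1, Int.negSucc 0, Int.ofNat 1, Int.negSucc 0, Int.negSucc 0, Int.negSucc 0, Int.negSucc 0, Int.negSucc 0, Int.ofNat 1, Int.ofNat 1, Int.ofNat 3, Int.ofNat 1, Int.negSucc 0, Int.ofNat 1, Int.negSucc 0, Int.ofNat 1, Int.negSucc 0, Int.ofNat 1, Int.ofNat 1, Int.negSucc 0, Int.ofNat 1],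
  [Int.negSucc 0, Int.negSucc 0, Int.ofNat 1, Int.negSucc 0, Int.negSucc 0, Int.ofNat 1, Int.negSucc 0, Int.ofNat 1, Int.ofNat 1, Int.negSucc 0, Int.ofNat 1, Int.negSucc 0, Int.ofNat 1, Int.ofNat 1, Int.ofNat 1, Int.ofNat 3, Int.negSucc 0, Int.negSucc 0, Int.negSucc 0, Int.negSucc 0, Int.ofNat 1, Int.ofNat 1, Int.ofNat 1, Int.ofNat 1],
  [Int.negSucc 0, Int.negSucc 0, Int.negSucc 0, Int.negSucc 0, Int.negSucc 0, Int.negSucc 0, Int.ofNat 1, Int.ofNat 1, Int.ofNat 1, Int.ofNat 1, Int.negSucc 0, Int.negSucc 0, Int.ofNat 1, Int.ofNat 1, Int.ofNat 1, Int.negSucc 2, Int.negSucc 0, Int.negSucc 0, Int.ofNat 1, Int.negSucc 0, Int.ofNat 1, Int.ofNat 1, Int.negSucc 0, Int.ofNat 1],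
  [Int.ofNat 0, Int.ofNat 0, Int.ofNat 0, Int.ofNat 0, Int.ofNat 0, Int.ofNat 0, Int.ofNat 0, Int.ofNat 0, Int.ofNat 0, Int.ofNat 2, Int.ofNat 0, Int.negSucc 1, Int.ofNat 0, Int.ofNat 2, Int.ofNat 2, Int.negSucc 1, Int.ofNat 0, Int.ofNat 0, Int.ofNat 0, Int.negSucc 1, Int.ofNat 2, Int.ofNat 0, Int.ofNat 0, Int.negSucc 1],
  [Int.ofNat 0, Int.ofNat 0, Int.ofNat 0, Int.ofNat 0, Int.ofNat 0, Int.ofNat 0, Int.ofNat 0, Int.ofNat 0, Int.ofNat 0, Int.ofNat 0, Int.ofNat 0, Int.negSucc 1, Int.ofNat 0, Int.ofNat 2, Int.ofNat 0, Int.negSucc 1, Int.ofNat 2, Int.negSucc 1, Int.ofNat 0, Int.ofNat 0, Int.ofNat 0, Int.ofNat 2, Int.ofNat 2, Int.negSucc 1],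
  [Int.negSucc 0, Int.negSucc 0, Int.negSucc 0, Int.ofNat 1, Int.negSucc 2, Int.ofNat 1, Int.negSucc 0, Int.negSucc 0, Int.ofNat 1, Int.ofNat 1, Int.ofNat 1, Int.negSucc 0, Int.ofNat 1, Int.negSucc 0, Int.ofNat 1, Int.negSucc 0, Int.negSucc 0, Int.negSucc 0, Int.ofNat 1, Int.negSucc 0, Int.ofNat 1, Int.ofNat 1, Int.negSucc 0, Int.ofNat 1],
  [Int.ofNat 1, Int.ofNat 1, Int.negSucc 0, Int.negSucc 0, Int.negSucc 0, Int.negSucc 0, Int.ofNat 1, Int.negSucc 2, Int.ofNat 1, Int.negSucc 0, Int.negSucc 0, Int.ofNat 1, Int.ofNat 1, Int.ofNat 1, Int.negSucc 0, Int.ofNat 1, Int.negSucc 0, Int.ofNat 1, Int.negSucc 0, Int.negSucc 0, Int.negSucc 0, Int.ofNat 1, Int.negSucc 0, Int.ofNat 1],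
  [Int.ofNat 0, Int.ofNat 0, Int.ofNat 2, Int.ofNat 0, Int.ofNat 0, Int.ofNat 0, Int.ofNat 2, Int.negSucc 1, Int.ofNat 0, Int.ofNat 0, Int.ofNat 0, Int.ofNat 0, Int.ofNat 0, Int.ofNat 2, Int.ofNat 0, Int.ofNat 2, Int.ofNat 0, Int.ofNat 2, Int.negSucc 1, Int.ofNat 0, Int.ofNat 0, Int.ofNat 2, Int.ofNat 0, Int.ofNat 0],
  [Int.ofNat 0, Int.ofNat 2, Int.ofNat 0, Int.ofNat 0, Int.ofNat 0, Int.ofNat 2, Int.negSucc 1, Int.ofNat 0, Int.ofNat 0, Int.ofNat 0, Int.ofNat 0, Int.ofNat 0, Int.ofNat 2, Int.ofNat 0, Int.ofNat 2, Int.ofNat 0, Int.ofNat 2, Int.negSucc 1, Int.ofNat 0, Int.ofNat 0, Int.ofNat 2, Int.ofNat 0, Int.ofNat 0, Int.ofNat 0],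
  [Int.ofNat 0, Int.ofNat 2, Int.ofNat 0, Int.ofNat 0, Int.ofNat 0, Int.ofNat 2, Int.negSucc 1, Int.ofNat 0, Int.ofNat 0, Int.ofNat 0, Int.ofNat 0, Int.ofNat 0, Int.ofNat 2, Int.ofNat 0, Int.ofNat 2, Int.ofNat 0, Int.ofNat 2, Int.negSucc 1, Int.ofNat 0, Int.ofNat 0, Int.ofNat 2, Int.ofNat 0, Int.ofNat 0, Int.ofNat 0],
  [Int.ofNat 0, Int.negSucc 1, Int.ofNat 0, Int.ofNat 0, Int.ofNat 0, Int.ofNat 2, Int.ofNat 2, Int.ofNat 0, Int.ofNat 0, Int.ofNat 0, Int.ofNat 0, Int.ofNat 0, Int.negSucc 1, Int.ofNat 0, Int.ofNat 2, Int.ofNat 0, Int.negSucc 1, Int.negSucc 1, Int.ofNat 0, Int.ofNat 0, Int.ofNat 2, Int.ofNat 0, Int.ofNat 0, Int.ofNat 0],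
  [Int.ofNat 0, Int.ofNat 0, Int.ofNat 0, Int.ofNat 0, Int.negSucc 1, Int.ofNat 0, Int.ofNat 0, Int.ofNat 0, Int.ofNat 2, Int.ofNat 2, Int.negSucc 1, Int.ofNat 0, Int.ofNat 0, Int.ofNat 0, Int.ofNat 0, Int.ofNat 0, Int.ofNat 0, Int.ofNat 0, Int.ofNat 2, Int.ofNat 2, Int.ofNat 0, Int.negSucc 1, Int.negSucc 1, Int.ofNat 0],
  [Int.ofNat 0, Int.ofNat 0, Int.ofNat 0, Int.ofNat 0, Int.negSucc 1, Int.ofNat 0, Int.ofNat 0, Int.ofNat 0, Int.ofNat 2, Int.negSucc 1, Int.ofNat 2, Int.ofNat 0, Int.ofNat 0, Int.ofNat 0, Int.ofNat 0, Int.ofNat 0, Int.ofNat 0, Int.ofNat 0, Int.negSucc 1, Int.ofNat 2, Int.ofNat 0, Int.ofNat 2, Int.negSucc 1, Int.ofNat 0],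
  [Int.negSucc 1, Int.ofNat 0, Int.ofNat 0, Int.ofNat 0, Int.ofNat 0, Int.negSucc 1, Int.ofNat 0, Int.ofNat 0, Int.ofNat 0, Int.ofNat 2, Int.negSucc 1, Int.ofNat 2, Int.ofNat 0, Int.ofNat 0, Int.ofNat 0, Int.ofNat 0, Int.ofNat 0, Int.ofNat 0, Int.ofNat 0, Int.negSucc 1, Int.ofNat 2, Int.ofNat 0, Int.ofNat 2, Int.ofNat 0],
  [Int.ofNat 1, Int.negSucc 0, Int.negSucc 0, Int.ofNat 1, Int.negSucc 0, Int.negSucc 0, Int.ofNat 1, Int.ofNat 1, Int.negSucc 0, Int.ofNat 1, Int.negSucc 2, Int.ofNat 1, Int.negSucc 0, Int.negSucc 0, Int.ofNat 1, Int.negSucc 0, Int.negSucc 0, Int.ofNat 1, Int.negSucc 0, Int.negSucc 0, Int.ofNat 1, Int.ofNat 1, Int.ofNat 1, Int.negSucc 0],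
  [Int.ofNat 1, Int.negSucc 0, Int.negSucc 0, Int.ofNat 1, Int.ofNat 1, Int.negSucc 0, Int.ofNat 1, Int.negSucc 2, Int.ofNat 1, Int.negSucc 0, Int.negSucc 0, Int.ofNat 1, Int.negSucc 0, Int.negSucc 0, Int.ofNat 1, Int.negSucc 0, Int.negSucc 0, Int.ofNat 1, Int.ofNat 1, Int.ofNat 1, Int.ofNat 1, Int.negSucc 0, Int.negSucc 0, Int.negSucc 0],
  [Int.negSucc 1, Int.ofNat 0, Int.ofNat 0, Int.ofNat 0, Int.ofNat 2, Int.negSucc 1, Int.ofNat 2, Int.negSucc 1, Int.ofNat 0, Int.ofNat 0, Int.ofNat 0, Int.ofNat 0, Int.negSucc 1, Int.ofNat 0, Int.ofNat 0, Int.ofNat 0, Int.ofNat 0, Int.ofNat 0, Int.ofNat 0, Int.ofNat 2, Int.ofNat 2, Int.ofNat 0, Int.ofNat 0, Int.ofNat 0],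
  [Int.negSucc 1, Int.ofNat 2, Int.ofNat 2, Int.ofNat 0, Int.ofNat 0, Int.negSucc 1, Int.ofNat 0, Int.ofNat 0, Int.negSucc 1, Int.ofNat 0, Int.ofNat 2, Int.ofNat 0, Int.ofNat 0, Int.ofNat 0, Int.ofNat 0, Int.ofNat 0, Int.ofNat 0, Int.ofNat 0, Int.ofNat 0, Int.ofNat 0, Int.ofNat 0, Int.negSucc 1, Int.ofNat 2, Int.ofNat 0],
  [Int.ofNat 3, Int.negSucc 0, Int.negSucc 0, Int.ofNat 1, Int.negSucc 0, Int.negSucc 0, Int.ofNat 1, Int.ofNat 1, Int.negSucc 0, Int.negSucc 0, Int.ofNat 1, Int.ofNat 1, Int.ofNat 1, Int.negSucc 0, Int.ofNat 1, Int.negSucc 0, Int.negSucc 0, Int.ofNat 1, Int.ofNat 1, Int.ofNat 1, Int.negSucc 0, Int.negSucc 0, Int.ofNat 1, Int.ofNat 1],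
  [Int.ofNat 3, Int.negSucc 0, Int.ofNat 1, Int.ofNat 1, Int.negSucc 0, Int.ofNat 1, Int.negSucc 0, Int.ofNat 1, Int.negSucc 0, Int.ofNat 1, Int.negSucc 0, Int.ofNat 1, Int.ofNat 1, Int.negSucc 0, Int.ofNat 1, Int.ofNat 1, Int.negSucc 0, Int.ofNat 1, Int.negSucc 0, Int.ofNat 1, Int.negSucc 0, Int.negSucc 0, Int.negSucc 0, Int.ofNat 1],
  [Int.ofNat 1, Int.ofNat 1, Int.ofNat 1, Int.negSucc 0, Int.ofNat 1, Int.negSucc 0, Int.negSucc 0, Int.negSucc 0, Int.negSucc 0, Int.ofNat 1, Int.negSucc 0, Int.negSucc 0, Int.negSucc 0, Int.ofNat 1, Int.ofNat 1, Int.negSucc 0, Int.negSucc 0, Int.ofNat 1, Int.negSucc 0, Int.ofNat 1, Int.ofNat 1, Int.ofNat 1, Int.ofNat 3, Int.ofNat 1],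
  [Int.ofNat 1, Int.ofNat 1, Int.negSucc 0, Int.negSucc 0, Int.ofNat 1, Int.ofNat 1, Int.ofNat 1, Int.negSucc 0, Int.negSucc 0, Int.negSucc 0, Int.ofNat 1, Int.negSucc 0, Int.negSucc 0, Int.ofNat 1, Int.ofNat 1, Int.ofNat 1, Int.negSucc 0, Int.ofNat 1, Int.ofNat 1, Int.ofNat 1, Int.ofNat 1, Int.ofNat 1, Int.negSucc 2, Int.ofNat 1],
  [Int.ofNat 0, Int.ofNat 0, Int.ofNat 2, Int.negSucc 1, Int.ofNat 2, Int.ofNat 0, Int.ofNat 0, Int.negSucc 1, Int.ofNat 0, Int.negSucc 1, Int.ofNat 0, Int.ofNat 0, Int.ofNat 0, Int.ofNat 2, Int.ofNat 0, Int.ofNat 0, Int.ofNat 0, Int.ofNat 0, Int.ofNat 2, Int.ofNat 0, Int.ofNat 0, Int.ofNat 0, Int.negSucc 1, Int.ofNat 0],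
  [Int.ofNat 0, Int.ofNat 2, Int.ofNat 0, Int.negSucc 1, Int.ofNat 2, Int.ofNat 0, Int.ofNat 0, Int.ofNat 0, Int.ofNat 0, Int.ofNat 0, Int.negSucc 1, Int.ofNat 0, Int.ofNat 0, Int.negSucc 1, Int.ofNat 0, Int.ofNat 0, Int.ofNat 2, Int.ofNat 0, Int.ofNat 2, Int.negSucc 1, Int.ofNat 0, Int.ofNat 0, Int.ofNat 0, Int.ofNat 0],
  [Int.ofNat 1, Int.negSucc 0, Int.ofNat 1, Int.negSucc 0, Int.ofNat 1, Int.ofNat 1, Int.ofNat 1, Int.ofNat 1, Int.negSucc 0, Int.ofNat 1, Int.negSucc 0, Int.negSucc 0, Int.negSucc 0, Int.negSucc 2, Int.ofNat 1, Int.ofNat 1, Int.ofNat 1, Int.ofNat 1, Int.ofNat 1, Int.negSucc 0, Int.ofNat 1, Int.ofNat 1, Int.negSucc 0, Int.ofNat 1],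
  [Int.ofNat 1, Int.ofNat 1, Int.negSucc 0, Int.ofNat 1, Int.negSucc 0, Int.ofNat 1, Int.negSucc 0, Int.ofNat 1, Int.ofNat 1, Int.ofNat 1, Int.ofNat 1, Int.negSucc 0, Int.ofNat 1, Int.negSucc 0, Int.negSucc 0, Int.negSucc 0, Int.negSucc 2, Int.ofNat 1, Int.ofNat 1, Int.ofNat 1, Int.ofNat 1, Int.ofNat 1, Int.negSucc 0, Int.ofNat 1],
  [Int.ofNat 0, Int.ofNat 0, Int.ofNat 2, Int.ofNat 0, Int.ofNat 2, Int.ofNat 0, Int.negSucc 1, Int.ofNat 0, Int.ofNat 0, Int.ofNat 0, Int.ofNat 0, Int.negSucc 1, Int.ofNat 0, Int.ofNat 2, Int.negSucc 1, Int.negSucc 1, Int.ofNat 0, Int.ofNat 0, Int.ofNat 0, Int.ofNat 0, Int.ofNat 0, Int.ofNat 0, Int.ofNat 2, Int.ofNat 0],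
  [Int.ofNat 0, Int.ofNat 2, Int.ofNat 0, Int.ofNat 2, Int.ofNat 0, Int.negSucc 1, Int.ofNat 0, Int.ofNat 0, Int.ofNat 0, Int.ofNat 0, Int.negSucc 1, Int.ofNat 0, Int.ofNat 2, Int.negSucc 1, Int.negSucc 1, Int.ofNat 0, Int.ofNat 0, Int.ofNat 0, Int.ofNat 0, Int.ofNat 0, Int.ofNat 0, Int.ofNat 2, Int.ofNat 0, Int.ofNat 0],
  [Int.ofNat 0, Int.ofNat 2, Int.ofNat 0, Int.ofNat 2, Int.ofNat 0, Int.negSucc 1, Int.ofNat 0, Int.ofNat 0, Int.ofNat 0, Int.ofNat 0, Int.ofNat 2, Int.ofNat 0, Int.ofNat 2, Int.negSucc 1, Int.negSucc 1, Int.ofNat 0, Int.ofNat 0, Int.ofNat 0, Int.ofNat 0, Int.ofNat 0, Int.ofNat 0, Int.negSucc 1, Int.ofNat 0, Int.ofNat 0],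
  [Int.ofNat 0, Int.negSucc 1, Int.ofNat 0, Int.negSucc 1, Int.ofNat 0, Int.negSucc 1, Int.ofNat 0, Int.ofNat 0, Int.ofNat 0, Int.ofNat 0, Int.ofNat 2, Int.ofNat 0, Int.negSucc 1, Int.ofNat 2, Int.negSucc 1, Int.ofNat 0, Int.ofNat 0, Int.ofNat 0, Int.ofNat 0, Int.ofNat 0, Int.ofNat 0, Int.negSucc 1, Int.ofNat 0, Int.ofNat 0],
  [Int.ofNat 0, Int.ofNat 0, Int.ofNat 0, Int.ofNat 0, Int.ofNat 0, Int.ofNat 0, Int.ofNat 0, Int.ofNat 2, Int.ofNat 0, Int.negSucc 1, Int.ofNat 0, Int.ofNat 0, Int.negSucc 1, Int.ofNat 0, Int.ofNat 0, Int.negSucc 1, Int.ofNat 2, Int.ofNat 0, Int.negSucc 1, Int.ofNat 0, Int.ofNat 0, Int.negSucc 1, Int.negSucc 1, Int.ofNat 0],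
  [Int.ofNat 0, Int.ofNat 0, Int.ofNat 0, Int.ofNat 0, Int.ofNat 0, Int.ofNat 0, Int.ofNat 0, Int.negSucc 1, Int.ofNat 0, Int.ofNat 2, Int.ofNat 0, Int.ofNat 0, Int.negSucc 1, Int.ofNat 0, Int.ofNat 0, Int.negSucc 1, Int.ofNat 2, Int.ofNat 0, Int.ofNat 2, Int.ofNat 0, Int.ofNat 0, Int.ofNat 2, Int.negSucc 1, Int.ofNat 0],
  [Int.negSucc 1, Int.ofNat 0, Int.ofNat 0, Int.ofNat 0, Int.ofNat 0, Int.ofNat 0, Int.ofNat 0, Int.ofNat 0, Int.negSucc 1, Int.ofNat 0, Int.ofNat 2, Int.ofNat 0, Int.ofNat 0, Int.negSucc 1, Int.ofNat 0, Int.ofNat 0, Int.negSucc 1, Int.ofNat 2, Int.ofNat 0, Int.ofNat 2, Int.ofNat 0, Int.ofNat 0, Int.ofNat 2, Int.ofNat 0],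
  [Int.ofNat 1, Int.negSucc 0, Int.negSucc 0, Int.negSucc 0, Int.ofNat 1, Int.negSucc 0, Int.negSucc 0, Int.negSucc 0, Int.negSucc 0, Int.negSucc 0, Int.ofNat 1, Int.ofNat 1, Int.ofNat 1, Int.negSucc 0, Int.negSucc 0, Int.negSucc 0, Int.negSucc 0, Int.ofNat 1, Int.ofNat 1, Int.ofNat 1, Int.negSucc 0, Int.negSucc 0, Int.ofNat 3, Int.negSucc 0],
  [Int.negSucc 0, Int.ofNat 1, Int.negSucc 0, Int.negSucc 0, Int.negSucc 0, Int.negSucc 0, Int.negSucc 0, Int.ofNat 1, Int.ofNat 1, Int.ofNat 1, Int.negSucc 0, Int.negSucc 0, Int.negSucc 0, Int.negSucc 0, Int.ofNat 1, Int.ofNat 1, Int.ofNat 1, Int.negSucc 0, Int.negSucc 0, Int.ofNat 3, Int.ofNat 1, Int.negSucc 0, Int.negSucc 0, Int.negSucc 0],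
  [Int.ofNat 0, Int.negSucc 1, Int.ofNat 0, Int.ofNat 0, Int.ofNat 0, Int.ofNat 0, Int.negSucc 1, Int.ofNat 0, Int.ofNat 2, Int.ofNat 0, Int.negSucc 1, Int.ofNat 0, Int.ofNat 0, Int.ofNat 0, Int.ofNat 2, Int.ofNat 0, Int.ofNat 2, Int.ofNat 0, Int.ofNat 0, Int.ofNat 2, Int.ofNat 0, Int.negSucc 1, Int.ofNat 0, Int.ofNat 0],
  [Int.ofNat 0, Int.negSucc 1, Int.ofNat 0, Int.ofNat 0, Int.ofNat 0, Int.ofNat 0, Int.ofNat 0, Int.negSucc 1, Int.ofNat 0, Int.ofNat 0, Int.ofNat 0, Int.ofNat 0, Int.ofNat 0, Int.ofNat 2, Int.ofNat 0, Int.ofNat 0, Int.ofNat 2, Int.ofNat 2, Int.negSucc 1, Int.ofNat 0, Int.negSucc 1, Int.ofNat 0, Int.ofNat 2, Int.ofNat 0],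
  [Int.negSucc 0, Int.ofNat 1, Int.negSucc 0, Int.negSucc 0, Int.negSucc 2, Int.negSucc 0, Int.ofNat 1, Int.negSucc 0, Int.ofNat 1, Int.ofNat 1, Int.ofNat 1, Int.ofNat 1, Int.ofNat 1, Int.negSucc 0, Int.negSucc 0, Int.ofNat 1, Int.negSucc 0, Int.ofNat 1, Int.negSucc 0, Int.ofNat 1, Int.negSucc 0, Int.ofNat 1, Int.negSucc 0, Int.negSucc 0],
  [Int.negSucc 0, Int.ofNat 1, Int.ofNat 1, Int.negSucc 0, Int.negSucc 2, Int.ofNat 1, Int.negSucc 0, Int.negSucc 0, Int.ofNat 1, Int.negSucc 0, Int.negSucc 0, Int.ofNat 1, Int.ofNat 1, Int.negSucc 0, Int.negSucc 0, Int.negSucc 0, Int.negSucc 0, Int.ofNat 1, Int.ofNat 1, Int.ofNat 1, Int.negSucc 0, Int.ofNat 1, Int.ofNat 1, Int.negSucc 0],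
  [Int.negSucc 0, Int.ofNat 1, Int.ofNat 1, Int.negSucc 0, Int.negSucc 0, Int.ofNat 1, Int.ofNat 1, Int.negSucc 0, Int.negSucc 0, Int.ofNat 1, Int.ofNat 1, Int.negSucc 0, Int.ofNat 1, Int.ofNat 1, Int.ofNat 1, Int.negSucc 0, Int.ofNat 1, Int.negSucc 0, Int.negSucc 2, Int.ofNat 1, Int.negSucc 0, Int.negSucc 0, Int.negSucc 0, Int.negSucc 0],
  [Int.negSucc 0, Int.ofNat 1, Int.negSucc 0, Int.negSucc 0, Int.negSucc 0, Int.negSucc 0, Int.negSucc 0, Int.negSucc 0, Int.negSucc 0, Int.negSucc 0, Int.negSucc 0, Int.negSucc 0, Int.ofNat 1, Int.ofNat 1, Int.ofNat 1, Int.ofNat 1, Int.ofNat 1, Int.negSucc 0, Int.ofNat 3, Int.ofNat 1, Int.negSucc 0, Int.negSucc 0, Int.ofNat 1, Int.negSucc 0],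
  [Int.ofNat 0, Int.negSucc 1, Int.ofNat 0, Int.ofNat 0, Int.negSucc 1, Int.ofNat 0, Int.ofNat 0, Int.ofNat 0, Int.negSucc 1, Int.ofNat 0, Int.ofNat 0, Int.negSucc 1, Int.ofNat 0, Int.ofNat 0, Int.ofNat 2, Int.ofNat 2, Int.ofNat 0, Int.ofNat 0, Int.ofNat 2, Int.ofNat 2, Int.ofNat 0, Int.ofNat 0, Int.ofNat 0, Int.ofNat 0],
  [Int.ofNat 0, Int.ofNat 2, Int.ofNat 0, Int.ofNat 0, Int.ofNat 0, Int.ofNat 0, Int.negSucc 1, Int.ofNat 0, Int.ofNat 0, Int.ofNat 0, Int.ofNat 0, Int.ofNat 2, Int.negSucc 1, Int.ofNat 0, Int.ofNat 0, Int.ofNat 2, Int.ofNat 0, Int.negSucc 1, Int.negSucc 1, Int.ofNat 0, Int.ofNat 0, Int.ofNat 0, Int.ofNat 2, Int.ofNat 0],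
  [Int.ofNat 1, Int.negSucc 0, Int.ofNat 1, Int.ofNat 1, Int.negSucc 0, Int.ofNat 1, Int.negSucc 0, Int.ofNat 1, Int.ofNat 1, Int.negSucc 0, Int.negSucc 0, Int.ofNat 3, Int.negSucc 0, Int.negSucc 0, Int.ofNat 1, Int.ofNat 1, Int.negSucc 0, Int.negSucc 0, Int.negSucc 0, Int.ofNat 1, Int.negSucc 0, Int.ofNat 1, Int.ofNat 1, Int.ofNat 1],
  [Int.negSucc 0, Int.ofNat 1, Int.ofNat 1, Int.ofNat 1, Int.negSucc 0, Int.ofNat 1, Int.ofNat 1, Int.negSucc 0, Int.ofNat 1, Int.negSucc 0, Int.ofNat 1, Int.ofNat 1, Int.negSucc 0, Int.negSucc 0, Int.ofNat 3, Int.negSucc 0, Int.negSucc 0, Int.ofNat 1, Int.ofNat 1, Int.negSucc 0, Int.negSucc 0, Int.negSucc 0, Int.ofNat 1, Int.ofNat 1],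
  [Int.ofNat 2, Int.ofNat 0, Int.ofNat 0, Int.negSucc 1, Int.ofNat 0, Int.negSucc 1, Int.ofNat 2, Int.ofNat 0, Int.ofNat 0, Int.ofNat 0, Int.ofNat 2, Int.ofNat 0, Int.negSucc 1, Int.ofNat 0, Int.ofNat 0, Int.ofNat 0, Int.ofNat 0, Int.negSucc 1, Int.ofNat 0, Int.ofNat 0, Int.ofNat 0, Int.ofNat 0, Int.ofNat 2, Int.ofNat 0],
  [Int.ofNat 0, Int.ofNat 0, Int.negSucc 1, Int.ofNat 0, Int.negSucc 1, Int.ofNat 2, Int.ofNat 0, Int.ofNat 0, Int.ofNat 0, Int.ofNat 2, Int.ofNat 0, Int.negSucc 1, Int.ofNat 0, Int.ofNat 0, Int.ofNat 0, Int.ofNat 0, Int.negSucc 1, Int.ofNat 0, Int.ofNat 0, Int.ofNat 0, Int.ofNat 0, Int.ofNat 2, Int.ofNat 2, Int.ofNat 0],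
  [Int.ofNat 0, Int.ofNat 0, Int.ofNat 2, Int.ofNat 0, Int.negSucc 1, Int.ofNat 2, Int.ofNat 0, Int.ofNat 0, Int.ofNat 0, Int.negSucc 1, Int.ofNat 0, Int.ofNat 2, Int.ofNat 0, Int.ofNat 0, Int.ofNat 0, Int.ofNat 0, Int.negSucc 1, Int.ofNat 0, Int.ofNat 0, Int.ofNat 0, Int.ofNat 0, Int.negSucc 1, Int.ofNat 2, Int.ofNat 0],
  [Int.ofNat 0, Int.ofNat 0, Int.negSucc 1, Int.ofNat 0, Int.ofNat 2, Int.ofNat 2, Int.ofNat 0, Int.ofNat 0, Int.ofNat 0, Int.ofNat 2, Int.ofNat 0, Int.ofNat 2, Int.ofNat 0, Int.ofNat 0, Int.ofNat 0, Int.ofNat 0, Int.ofNat 2, Int.ofNat 0, Int.ofNat 0, Int.ofNat 0, Int.ofNat 0, Int.negSucc 1, Int.ofNat 2, Int.ofNat 0],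
  [Int.ofNat 0, Int.ofNat 2, Int.ofNat 2, Int.ofNat 0, Int.ofNat 0, Int.ofNat 2, Int.ofNat 0, Int.ofNat 0, Int.ofNat 0, Int.ofNat 2, Int.ofNat 2, Int.negSucc 1, Int.negSucc 1, Int.ofNat 0, Int.ofNat 0, Int.ofNat 0, Int.ofNat 0, Int.ofNat 2, Int.ofNat 0, Int.ofNat 0, Int.ofNat 0, Int.ofNat 0, Int.ofNat 0, Int.ofNat 0],
  [Int.ofNat 0, Int.ofNat 2, Int.negSucc 1, Int.ofNat 0, Int.ofNat 0, Int.ofNat 2, Int.ofNat 0, Int.ofNat 0, Int.ofNat 0, Int.negSucc 1, Int.negSucc 1, Int.ofNat 2, Int.negSucc 1, Int.ofNat 0, Int.ofNat 0, Int.ofNat 0, Int.ofNat 0, Int.ofNat 2, Int.ofNat 0, Int.ofNat 0, Int.ofNat 0, Int.ofNat 0, Int.ofNat 0, Int.ofNat 0],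
  [Int.ofNat 0, Int.ofNat 0, Int.ofNat 2, Int.negSucc 1, Int.ofNat 0, Int.ofNat 0, Int.ofNat 2, Int.ofNat 0, Int.ofNat 0, Int.ofNat 0, Int.negSucc 1, Int.negSucc 1, Int.ofNat 2, Int.negSucc 1, Int.ofNat 0, Int.ofNat 0, Int.ofNat 0, Int.ofNat 0, Int.ofNat 2, Int.ofNat 0, Int.ofNat 0, Int.ofNat 0, Int.ofNat 0, Int.ofNat 0],
  [Int.ofNat 1, Int.ofNat 1, Int.negSucc 0, Int.negSucc 0, Int.ofNat 1, Int.ofNat 1, Int.ofNat 1, Int.negSucc 0, Int.negSucc 0, Int.ofNat 1, Int.negSucc 0, Int.negSucc 2, Int.ofNat 1, Int.negSucc 0, Int.ofNat 1, Int.ofNat 1, Int.ofNat 1, Int.ofNat 1, Int.ofNat 1, Int.negSucc 0, Int.ofNat 1, Int.negSucc 0, Int.ofNat 1, Int.ofNat 1],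
  [Int.negSucc 0, Int.ofNat 1, Int.ofNat 1, Int.ofNat 1, Int.negSucc 0, Int.negSucc 0, Int.ofNat 1, Int.negSucc 0, Int.negSucc 2, Int.ofNat 1, Int.negSucc 0, Int.ofNat 1, Int.ofNat 1, Int.ofNat 1, Int.ofNat 1, Int.ofNat 1, Int.negSucc 0, Int.ofNat 1, Int.negSucc 0, Int.ofNat 1, Int.ofNat 1, Int.ofNat 1, Int.negSucc 0, Int.ofNat 1],
  [Int.ofNat 2, Int.ofNat 0, Int.ofNat 0, Int.ofNat 0, Int.ofNat 0, Int.negSucc 1, Int.ofNat 0, Int.negSucc 1, Int.negSucc 1, Int.ofNat 0, Int.negSucc 1, Int.ofNat 2, Int.ofNat 2, Int.ofNat 2, Int.ofNat 0, Int.ofNat 0, Int.ofNat 0, Int.ofNat 0, Int.ofNat 0, Int.ofNat 0, Int.ofNat 0, Int.ofNat 0, Int.ofNat 0, Int.ofNat 0],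
  [Int.ofNat 2, Int.ofNat 0, Int.ofNat 0, Int.ofNat 0, Int.ofNat 0, Int.negSucc 1, Int.ofNat 0, Int.negSucc 1, Int.ofNat 2, Int.ofNat 2, Int.ofNat 0, Int.ofNat 0, Int.ofNat 0, Int.ofNat 0, Int.ofNat 0, Int.ofNat 0, Int.negSucc 1, Int.ofNat 0, Int.ofNat 0, Int.ofNat 2, Int.ofNat 0, Int.negSucc 1, Int.ofNat 0, Int.ofNat 0],
  [Int.negSucc 0, Int.ofNat 1, Int.ofNat 1, Int.ofNat 1, Int.ofNat 1, Int.negSucc 0, Int.ofNat 1, Int.negSucc 0, Int.ofNat 1, Int.ofNat 1, Int.negSucc 0, Int.negSucc 0, Int.negSucc 0, Int.ofNat 1, Int.ofNat 1, Int.negSucc 0, Int.negSucc 0, Int.ofNat 1, Int.negSucc 0, Int.ofNat 3, Int.negSucc 0, Int.negSucc 0, Int.ofNat 1, Int.ofNat 1],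
  [Int.negSucc 0, Int.ofNat 1, Int.negSucc 0, Int.ofNat 1, Int.ofNat 1, Int.ofNat 1, Int.negSucc 0, Int.negSucc 0, Int.ofNat 1, Int.negSucc 0, Int.ofNat 1, Int.negSucc 0, Int.negSucc 0, Int.ofNat 1, Int.ofNat 1, Int.ofNat 1, Int.negSucc 0, Int.ofNat 1, Int.ofNat 1, Int.ofNat 3, Int.negSucc 0, Int.negSucc 0, Int.negSucc 0, Int.ofNat 1],
  [Int.negSucc 0, Int.negSucc 0, Int.negSucc 0, Int.negSucc 0, Int.negSucc 0, Int.negSucc 0, Int.ofNat 1, Int.negSucc 0, Int.negSucc 0, Int.ofNat 3, Int.ofNat 1, Int.ofNat 1, Int.ofNat 1, Int.ofNat 1, Int.negSucc 0, Int.ofNat 1, Int.negSucc 0, Int.ofNat 1, Int.ofNat 1, Int.ofNat 1, Int.ofNat 1, Int.ofNat 1, Int.negSucc 0, Int.ofNat 1],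
  [Int.negSucc 0, Int.negSucc 0, Int.ofNat 1, Int.negSucc 0, Int.negSucc 0, Int.ofNat 1, Int.negSucc 0, Int.negSucc 0, Int.negSucc 0, Int.negSucc 2, Int.negSucc 0, Int.ofNat 1, Int.ofNat 1, Int.ofNat 1, Int.negSucc 0, Int.negSucc 0, Int.negSucc 0, Int.ofNat 1, Int.negSucc 0, Int.ofNat 1, Int.ofNat 1, Int.ofNat 1, Int.ofNat 1, Int.ofNat 1],
  [Int.ofNat 1, Int.ofNat 1, Int.negSucc 0, Int.negSucc 0, Int.negSucc 0, Int.ofNat 1, Int.negSucc 0, Int.negSucc 0, Int.negSucc 0, Int.negSucc 0, Int.ofNat 1, Int.ofNat 1, Int.ofNat 1, Int.ofNat 1, Int.negSucc 0, Int.ofNat 1, Int.negSucc 0, Int.ofNat 1, Int.negSucc 0, Int.ofNat 1, Int.ofNat 3, Int.ofNat 1, Int.ofNat 1, Int.negSucc 0],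
  [Int.ofNat 1, Int.negSucc 0, Int.negSucc 0, Int.negSucc 0, Int.negSucc 0, Int.ofNat 1, Int.ofNat 1, Int.ofNat 1, Int.negSucc 0, Int.ofNat 1, Int.negSucc 0, Int.ofNat 1, Int.negSucc 0, Int.negSucc 0, Int.ofNat 1, Int.ofNat 1, Int.ofNat 1, Int.ofNat 1, Int.negSucc 0, Int.ofNat 1, Int.ofNat 1, Int.ofNat 3, Int.negSucc 0, Int.negSucc 0],
  [Int.negSucc 1, Int.ofNat 0, Int.ofNat 0, Int.negSucc 1, Int.ofNat 0, Int.ofNat 0, Int.negSucc 1, Int.negSucc 1, Int.ofNat 0, Int.ofNat 0, Int.negSucc 1, Int.ofNat 2, Int.ofNat 0, Int.ofNat 0, Int.ofNat 0, Int.ofNat 0, Int.ofNat 2, Int.ofNat 0, Int.ofNat 0, Int.negSucc 1, Int.ofNat 0, Int.ofNat 0, Int.ofNat 0, Int.ofNat 0],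
  [Int.ofNat 0, Int.ofNat 0, Int.ofNat 0, Int.negSucc 1, Int.ofNat 0, Int.ofNat 0, Int.negSucc 1, Int.ofNat 0, Int.ofNat 0, Int.negSucc 1, Int.negSucc 1, Int.ofNat 0, Int.ofNat 0, Int.negSucc 1, Int.ofNat 2, Int.ofNat 0, Int.ofNat 0, Int.ofNat 0, Int.ofNat 0, Int.ofNat 2, Int.ofNat 0, Int.ofNat 0, Int.negSucc 1, Int.ofNat 0],
  [Int.ofNat 0, Int.ofNat 0, Int.ofNat 0, Int.negSucc 1, Int.ofNat 2, Int.ofNat 0, Int.negSucc 1, Int.ofNat 0, Int.ofNat 0, Int.ofNat 0, Int.ofNat 0, Int.ofNat 0, Int.ofNat 0, Int.ofNat 0, Int.ofNat 2, Int.ofNat 2, Int.ofNat 2, Int.ofNat 0, Int.ofNat 0, Int.ofNat 2, Int.ofNat 2, Int.ofNat 0, Int.ofNat 0, Int.ofNat 0],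
  [Int.ofNat 0, Int.ofNat 0, Int.negSucc 1, Int.ofNat 2, Int.ofNat 0, Int.negSucc 1, Int.ofNat 0, Int.ofNat 0, Int.ofNat 0, Int.ofNat 0, Int.ofNat 0, Int.ofNat 0, Int.ofNat 0, Int.ofNat 2, Int.ofNat 2, Int.ofNat 2, Int.ofNat 0, Int.ofNat 0, Int.ofNat 2, Int.ofNat 2, Int.ofNat 0, Int.ofNat 0, Int.ofNat 0, Int.ofNat 0],
  [Int.ofNat 0, Int.ofNat 0, Int.ofNat 2, Int.ofNat 2, Int.ofNat 0, Int.negSucc 1, Int.ofNat 0, Int.ofNat 0, Int.ofNat 0, Int.ofNat 0, Int.ofNat 0, Int.ofNat 0, Int.ofNat 0, Int.ofNat 2, Int.ofNat 2, Int.ofNat 2, Int.ofNat 0, Int.ofNat 0, Int.negSucc 1, Int.ofNat 2, Int.ofNat 0, Int.ofNat 0, Int.ofNat 0, Int.ofNat 0],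
  [Int.ofNat 0, Int.ofNat 0, Int.negSucc 1, Int.negSucc 1, Int.ofNat 0, Int.negSucc 1, Int.ofNat 0, Int.ofNat 0, Int.ofNat 0, Int.ofNat 0, Int.ofNat 0, Int.ofNat 0, Int.ofNat 0, Int.negSucc 1, Int.ofNat 2, Int.ofNat 2, Int.ofNat 0, Int.ofNat 0, Int.ofNat 2, Int.ofNat 2, Int.ofNat 0, Int.ofNat 0, Int.ofNat 0, Int.ofNat 0],
  [Int.ofNat 0, Int.ofNat 0, Int.ofNat 0, Int.ofNat 2, Int.ofNat 0, Int.ofNat 0, Int.ofNat 2, Int.negSucc 1, Int.ofNat 0, Int.negSucc 1, Int.ofNat 0, Int.negSucc 1, Int.ofNat 0, Int.ofNat 0, Int.ofNat 2, Int.negSucc 1, Int.ofNat 0, Int.ofNat 0, Int.ofNat 2, Int.ofNat 0, Int.ofNat 0, Int.ofNat 0, Int.ofNat 0, Int.ofNat 0],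
  [Int.ofNat 0, Int.ofNat 0, Int.ofNat 0, Int.ofNat 2, Int.ofNat 0, Int.ofNat 0, Int.ofNat 2, Int.ofNat 2, Int.ofNat 0, Int.ofNat 2, Int.ofNat 0, Int.ofNat 2, Int.ofNat 0, Int.ofNat 0, Int.ofNat 2, Int.negSucc 1, Int.ofNat 0, Int.ofNat 0, Int.negSucc 1, Int.ofNat 0, Int.ofNat 0, Int.ofNat 0, Int.ofNat 0, Int.ofNat 0],
  [Int.ofNat 0, Int.ofNat 0, Int.ofNat 0, Int.ofNat 0, Int.ofNat 2, Int.ofNat 0, Int.ofNat 0, Int.ofNat 2, Int.ofNat 2, Int.ofNat 0, Int.ofNat 2, Int.ofNat 0, Int.ofNat 2, Int.ofNat 0, Int.ofNat 0, Int.ofNat 2, Int.negSucc 1, Int.ofNat 0, Int.ofNat 0, Int.negSucc 1, Int.ofNat 0, Int.ofNat 0, Int.ofNat 0, Int.ofNat 0],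
  [Int.ofNat 0, Int.ofNat 0, Int.ofNat 0, Int.ofNat 0, Int.ofNat 2, Int.ofNat 0, Int.ofNat 0, Int.ofNat 2, Int.ofNat 0, Int.negSucc 1, Int.ofNat 0, Int.negSucc 1, Int.ofNat 0, Int.ofNat 0, Int.ofNat 0, Int.ofNat 0, Int.negSucc 1, Int.ofNat 0, Int.negSucc 1, Int.negSucc 1, Int.negSucc 1, Int.ofNat 0, Int.ofNat 0, Int.ofNat 0],
  [Int.ofNat 0, Int.ofNat 2, Int.ofNat 0, Int.ofNat 0, Int.ofNat 2, Int.ofNat 0, Int.negSucc 1, Int.ofNat 0, Int.negSucc 1, Int.ofNat 0, Int.ofNat 0, Int.ofNat 0, Int.ofNat 0, Int.negSucc 1, Int.ofNat 0, Int.negSucc 1, Int.negSucc 1, Int.negSucc 1, Int.ofNat 0, Int.ofNat 0, Int.ofNat 0, Int.ofNat 0, Int.ofNat 0, Int.ofNat 0],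
  [Int.ofNat 1, Int.negSucc 0, Int.ofNat 1, Int.ofNat 1, Int.ofNat 3, Int.ofNat 1, Int.negSucc 0, Int.ofNat 1, Int.negSucc 0, Int.ofNat 1, Int.ofNat 1, Int.ofNat 1, Int.ofNat 1, Int.negSucc 0, Int.ofNat 1, Int.negSucc 0, Int.negSucc 0, Int.negSucc 0, Int.ofNat 1, Int.ofNat 1, Int.ofNat 1, Int.ofNat 1, Int.ofNat 1, Int.ofNat 1],
  [Int.ofNat 1, Int.negSucc 0, Int.ofNat 3, Int.ofNat 1, Int.ofNat 1, Int.ofNat 1, Int.ofNat 1, Int.ofNat 1, Int.ofNat 1, Int.negSucc 0, Int.ofNat 1, Int.negSucc 0, Int.ofNat 1, Int.negSucc 0, Int.ofNat 1, Int.negSucc 0, Int.negSucc 0, Int.ofNat 1, Int.negSucc 0, Int.ofNat 1, Int.ofNat 1, Int.ofNat 1, Int.ofNat 1, Int.ofNat 1],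
  [Int.ofNat 1, Int.ofNat 3, Int.negSucc 0, Int.negSucc 0, Int.ofNat 1, Int.negSucc 0, Int.negSucc 0, Int.negSucc 0, Int.ofNat 1, Int.negSucc 0, Int.ofNat 1, Int.negSucc 0, Int.ofNat 1, Int.negSucc 0, Int.negSucc 0, Int.negSucc 0, Int.negSucc 0, Int.negSucc 0, Int.negSucc 0, Int.negSucc 0, Int.ofNat 1, Int.negSucc 0, Int.ofNat 1, Int.ofNat 1],
  [Int.ofNat 1, Int.ofNat 3, Int.ofNat 1, Int.negSucc 0, Int.ofNat 1, Int.ofNat 1, Int.ofNat 1, Int.negSucc 0, Int.ofNat 1, Int.ofNat 1, Int.negSucc 0, Int.negSucc 0, Int.ofNat 1, Int.negSucc 0, Int.negSucc 0, Int.ofNat 1, Int.negSucc 0, Int.negSucc 0, Int.ofNat 1, Int.negSucc 0, Int.ofNat 1, Int.negSucc 0, Int.negSucc 0, Int.ofNat 1],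
  [Int.ofNat 1, Int.ofNat 1, Int.ofNat 1, Int.ofNat 1, Int.negSucc 0, Int.negSucc 0, Int.ofNat 1, Int.ofNat 1, Int.negSucc 0, Int.negSucc 0, Int.ofNat 3, Int.negSucc 0, Int.ofNat 1, Int.ofNat 1, Int.negSucc 0, Int.negSucc 0, Int.negSucc 0, Int.ofNat 1, Int.ofNat 1, Int.negSucc 0, Int.negSucc 0, Int.negSucc 0, Int.ofNat 1, Int.ofNat 1],
  [Int.ofNat 1, Int.ofNat 1, Int.negSucc 0, Int.ofNat 1, Int.negSucc 0, Int.ofNat 1, Int.negSucc 0, Int.ofNat 1, Int.negSucc 0, Int.ofNat 1, Int.negSucc 2, Int.negSucc 0, Int.ofNat 1, Int.ofNat 1, Int.negSucc 0, Int.ofNat 1, Int.negSucc 0, Int.ofNat 1, Int.negSucc 0, Int.negSucc 0, Int.negSucc 0, Int.negSucc 0, Int.negSucc 0, Int.ofNat 1],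
  [Int.ofNat 0, Int.ofNat 0, Int.ofNat 2, Int.ofNat 0, Int.ofNat 0, Int.ofNat 0, Int.ofNat 0, Int.ofNat 2, Int.ofNat 0, Int.ofNat 2, Int.negSucc 1, Int.ofNat 0, Int.ofNat 2, Int.ofNat 2, Int.negSucc 1, Int.ofNat 2, Int.ofNat 0, Int.ofNat 0, Int.ofNat 0, Int.ofNat 0, Int.ofNat 0, Int.ofNat 0, Int.ofNat 0, Int.ofNat 0],
  [Int.ofNat 0, Int.ofNat 0, Int.ofNat 0, Int.ofNat 0, Int.ofNat 2, Int.ofNat 0, Int.ofNat 0, Int.ofNat 0, Int.ofNat 0, Int.ofNat 2, Int.ofNat 2, Int.ofNat 0, Int.ofNat 0, Int.ofNat 2, Int.ofNat 0, Int.ofNat 2, Int.ofNat 2, Int.ofNat 0, Int.ofNat 0, Int.ofNat 0, Int.negSucc 1, Int.ofNat 0, Int.negSucc 1, Int.ofNat 0],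
  [Int.ofNat 0, Int.ofNat 0, Int.ofNat 0, Int.ofNat 0, Int.ofNat 0, Int.ofNat 0, Int.ofNat 0, Int.ofNat 0, Int.ofNat 0, Int.ofNat 0, Int.ofNat 0, Int.ofNat 0, Int.ofNat 0, Int.ofNat 0, Int.ofNat 0, Int.ofNat 0, Int.ofNat 0, Int.ofNat 0, Int.ofNat 0, Int.ofNat 0, Int.negSucc 3, Int.ofNat 0, Int.negSucc 3, Int.ofNat 0],
  [Int.negSucc 3, Int.ofNat 0, Int.negSucc 3, Int.ofNat 0, Int.ofNat 0, Int.ofNat 0, Int.ofNat 0, Int.ofNat 0, Int.ofNat 0, Int.ofNat 0, Int.ofNat 0, Int.ofNat 0, Int.ofNat 0, Int.ofNat 0, Int.ofNat 0, Int.ofNat 0, Int.ofNat 0, Int.ofNat 0, Int.ofNat 0, Int.ofNat 0, Int.ofNat 0, Int.ofNat 0, Int.ofNat 0, Int.ofNat 0],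
  [Int.ofNat 0, Int.negSucc 3, Int.ofNat 0, Int.ofNat 0, Int.ofNat 0, Int.ofNat 0, Int.ofNat 0, Int.ofNat 0, Int.ofNat 0, Int.ofNat 0, Int.ofNat 0, Int.ofNat 0, Int.ofNat 0, Int.ofNat 0, Int.ofNat 0, Int.ofNat 0, Int.ofNat 0, Int.ofNat 0, Int.ofNat 0, Int.ofNat 0, Int.ofNat 0, Int.ofNat 0, Int.ofNat 0, Int.negSucc 3],
  [Int.negSucc 3, Int.ofNat 0, Int.ofNat 0, Int.ofNat 0, Int.ofNat 0, Int.ofNat 0, Int.ofNat 0, Int.ofNat 0, Int.ofNat 0, Int.ofNat 0, Int.ofNat 0, Int.ofNat 0, Int.ofNat 0, Int.ofNat 0, Int.ofNat 0, Int.ofNat 0, Int.ofNat 0, Int.ofNat 0, Int.ofNat 0, Int.ofNat 0, Int.ofNat 0, Int.ofNat 0, Int.ofNat 0, Int.negSucc 3],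
  [Int.ofNat 4, Int.ofNat 0, Int.ofNat 0, Int.ofNat 0, Int.ofNat 0, Int.ofNat 0, Int.ofNat 0, Int.ofNat 0, Int.ofNat 0, Int.ofNat 0, Int.ofNat 0, Int.ofNat 0, Int.ofNat 0, Int.ofNat 0, Int.ofNat 0, Int.ofNat 0, Int.ofNat 0, Int.ofNat 0, Int.ofNat 0, Int.ofNat 0, Int.ofNat 0, Int.ofNat 0, Int.ofNat 0, Int.negSucc 3],
  [Int.negSucc 3, Int.ofNat 0, Int.ofNat 0, Int.ofNat 0, Int.ofNat 0, Int.ofNat 0, Int.ofNat 0, Int.ofNat 0, Int.ofNat 0, Int.ofNat 0, Int.ofNat 0, Int.ofNat 0, Int.ofNat 0, Int.ofNat 0, Int.ofNat 0, Int.ofNat 0, Int.ofNat 0, Int.ofNat 0, Int.ofNat 0, Int.ofNat 0, Int.ofNat 0, Int.ofNat 0, Int.ofNat 0, Int.negSucc 3],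
  [Int.negSucc 3, Int.ofNat 0, Int.ofNat 0, Int.ofNat 0, Int.ofNat 0, Int.ofNat 0, Int.ofNat 0, Int.ofNat 0, Int.ofNat 0, Int.ofNat 0, Int.ofNat 0, Int.ofNat 0, Int.ofNat 0, Int.ofNat 0, Int.ofNat 0, Int.ofNat 0, Int.ofNat 0, Int.ofNat 0, Int.ofNat 0, Int.ofNat 0, Int.ofNat 0, Int.ofNat 0, Int.ofNat 0, Int.negSucc 3],
  [Int.ofNat 4, Int.ofNat 0, Int.ofNat 0, Int.ofNat 0, Int.ofNat 0, Int.ofNat 0, Int.ofNat 0, Int.ofNat 0, Int.ofNat 0, Int.ofNat 0, Int.ofNat 0, Int.ofNat 0, Int.ofNat 0, Int.ofNat 0, Int.ofNat 0, Int.ofNat 0, Int.ofNat 0, Int.ofNat 0, Int.ofNat 0, Int.ofNat 0, Int.ofNat 0, Int.ofNat 0, Int.ofNat 0, Int.negSucc 3],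
  [Int.ofNat 0, Int.ofNat 4, Int.ofNat 0, Int.ofNat 0, Int.ofNat 0, Int.ofNat 0, Int.ofNat 0, Int.ofNat 0, Int.ofNat 0, Int.ofNat 0, Int.ofNat 0, Int.ofNat 0, Int.ofNat 0, Int.ofNat 0, Int.ofNat 0, Int.ofNat 0, Int.ofNat 0, Int.ofNat 0, Int.ofNat 0, Int.ofNat 0, Int.ofNat 0, Int.ofNat 0, Int.ofNat 0, Int.negSucc 3],
  [Int.ofNat 0, Int.negSucc 3, Int.ofNat 0, Int.ofNat 0, Int.ofNat 0, Int.ofNat 0, Int.ofNat 0, Int.ofNat 0, Int.ofNat 0, Int.ofNat 0, Int.ofNat 0, Int.ofNat 0, Int.ofNat 0, Int.ofNat 0, Int.ofNat 0, Int.ofNat 0, Int.ofNat 0, Int.ofNat 0, Int.ofNat 0, Int.ofNat 0, Int.ofNat 0, Int.ofNat 0, Int.ofNat 0, Int.ofNat 4],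
  [Int.ofNat 0, Int.ofNat 0, Int.ofNat 0, Int.ofNat 0, Int.ofNat 0, Int.ofNat 0, Int.ofNat 0, Int.ofNat 0, Int.ofNat 0, Int.ofNat 0, Int.ofNat 0, Int.ofNat 0, Int.ofNat 0, Int.ofNat 0, Int.ofNat 0, Int.ofNat 0, Int.ofNat 0, Int.ofNat 0, Int.ofNat 0, Int.ofNat 0, Int.ofNat 0, Int.negSucc 3, Int.ofNat 0, Int.ofNat 4],
  [Int.ofNat 2, Int.ofNat 2, Int.ofNat 2, Int.ofNat 0, Int.ofNat 0, Int.ofNat 0, Int.ofNat 2, Int.ofNat 2, Int.ofNat 0, Int.ofNat 0, Int.ofNat 0, Int.ofNat 0, Int.ofNat 0, Int.ofNat 0, Int.ofNat 0, Int.ofNat 0, Int.ofNat 0, Int.ofNat 0, Int.ofNat 0, Int.ofNat 2, Int.ofNat 0, Int.negSucc 1, Int.ofNat 0, Int.negSucc 1],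
  [Int.ofNat 2, Int.ofNat 2, Int.ofNat 0, Int.ofNat 0, Int.ofNat 0, Int.ofNat 2, Int.ofNat 2, Int.ofNat 0, Int.ofNat 0, Int.ofNat 0, Int.ofNat 0, Int.ofNat 0, Int.ofNat 0, Int.ofNat 0, Int.ofNat 0, Int.ofNat 0, Int.ofNat 0, Int.ofNat 0, Int.ofNat 2, Int.ofNat 0, Int.negSucc 1, Int.ofNat 0, Int.ofNat 2, Int.negSucc 1],
  [Int.negSucc 0, Int.negSucc 0, Int.ofNat 1, Int.negSucc 0, Int.negSucc 0, Int.ofNat 1, Int.ofNat 1, Int.negSucc 0, Int.negSucc 0, Int.ofNat 1, Int.ofNat 1, Int.negSucc 0, Int.negSucc 0, Int.negSucc 0, Int.negSucc 0, Int.ofNat 1, Int.negSucc 0, Int.negSucc 0, Int.ofNat 1, Int.negSucc 0, Int.negSucc 0, Int.negSucc 0, Int.ofNat 1, Int.ofNat 3],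
  [Int.negSucc 0, Int.negSucc 0, Int.negSucc 0, Int.negSucc 0, Int.negSucc 0, Int.negSucc 0, Int.negSucc 0, Int.negSucc 0, Int.negSucc 0, Int.negSucc 0, Int.negSucc 0, Int.negSucc 0, Int.negSucc 0, Int.negSucc 0, Int.negSucc 0, Int.negSucc 0, Int.negSucc 0, Int.negSucc 0, Int.negSucc 0, Int.negSucc 0, Int.negSucc 0, Int.negSucc 0, Int.negSucc 0, Int.ofNat 3],
  [Int.negSucc 0, Int.negSucc 0, Int.negSucc 0, Int.negSucc 0, Int.negSucc 0, Int.negSucc 0, Int.negSucc 0, Int.negSucc 0, Int.negSucc 0, Int.negSucc 0, Int.negSucc 0, Int.negSucc 0, Int.negSucc 0, Int.negSucc 0, Int.negSucc 0, Int.negSucc 0, Int.negSucc 0, Int.negSucc 0, Int.negSucc 0, Int.negSucc 0, Int.negSucc 0, Int.negSucc 0, Int.negSucc 0, Int.ofNat 3],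
  [Int.negSucc 0, Int.negSucc 0, Int.ofNat 1, Int.negSucc 0, Int.negSucc 0, Int.ofNat 1, Int.ofNat 1, Int.negSucc 0, Int.negSucc 0, Int.ofNat 1, Int.ofNat 1, Int.negSucc 0, Int.negSucc 0, Int.negSucc 0, Int.negSucc 0, Int.ofNat 1, Int.negSucc 0, Int.negSucc 0, Int.ofNat 1, Int.negSucc 0, Int.negSucc 0, Int.negSucc 0, Int.ofNat 1, Int.ofNat 3],
  [Int.ofNat 2, Int.ofNat 2, Int.ofNat 0, Int.ofNat 0, Int.ofNat 0, Int.ofNat 2, Int.ofNat 2, Int.ofNat 0, Int.ofNat 0, Int.ofNat 0, Int.ofNat 0, Int.ofNat 0, Int.ofNat 0, Int.ofNat 0, Int.ofNat 0, Int.ofNat 0, Int.ofNat 0, Int.ofNat 0, Int.ofNat 2, Int.ofNat 0, Int.negSucc 1, Int.ofNat 0, Int.ofNat 2, Int.negSucc 1],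
  [Int.ofNat 2, Int.ofNat 2, Int.ofNat 2, Int.ofNat 0, Int.ofNat 0, Int.ofNat 0, Int.ofNat 2, Int.ofNat 2, Int.ofNat 0, Int.ofNat 0, Int.ofNat 0, Int.ofNat 0, Int.ofNat 0, Int.ofNat 0, Int.ofNat 0, Int.ofNat 0, Int.ofNat 0, Int.ofNat 0, Int.ofNat 0, Int.ofNat 2, Int.ofNat 0, Int.negSucc 1, Int.ofNat 0, Int.negSucc 1],
  [Int.ofNat 0, Int.ofNat 0, Int.ofNat 0, Int.ofNat 0, Int.ofNat 0, Int.ofNat 0, Int.ofNat 0, Int.ofNat 0, Int.ofNat 0, Int.ofNat 0, Int.ofNat 0, Int.ofNat 0, Int.ofNat 0, Int.ofNat 0, Int.ofNat 0, Int.ofNat 0, Int.ofNat 0, Int.ofNat 0, Int.ofNat 0, Int.ofNat 0, Int.ofNat 0, Int.negSucc 3, Int.ofNat 0, Int.ofNat 4],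
  [Int.ofNat 0, Int.negSucc 3, Int.ofNat 0, Int.ofNat 0, Int.ofNat 0, Int.ofNat 0, Int.ofNat 0, Int.ofNat 0, Int.ofNat 0, Int.ofNat 0, Int.ofNat 0, Int.ofNat 0, Int.ofNat 0, Int.ofNat 0, Int.ofNat 0, Int.ofNat 0, Int.ofNat 0, Int.ofNat 0, Int.ofNat 0, Int.ofNat 0, Int.ofNat 0, Int.ofNat 0, Int.ofNat 0, Int.ofNat 4],
  [Int.ofNat 0, Int.ofNat 4, Int.ofNat 0, Int.ofNat 0, Int.ofNat 0, Int.ofNat 0, Int.ofNat 0, Int.ofNat 0, Int.ofNat 0, Int.ofNat 0, Int.ofNat 0, Int.ofNat 0, Int.ofNat 0, Int.ofNat 0, Int.ofNat 0, Int.ofNat 0, Int.ofNat 0, Int.ofNat 0, Int.ofNat 0, Int.ofNat 0, Int.ofNat 0, Int.ofNat 0, Int.ofNat 0, Int.negSucc 3],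
  [Int.ofNat 4, Int.ofNat 0, Int.ofNat 0, Int.ofNat 0, Int.ofNat 0, Int.ofNat 0, Int.ofNat 0, Int.ofNat 0, Int.ofNat 0, Int.ofNat 0, Int.ofNat 0, Int.ofNat 0, Int.ofNat 0, Int.ofNat 0, Int.ofNat 0, Int.ofNat 0, Int.ofNat 0, Int.ofNat 0, Int.ofNat 0, Int.ofNat 0, Int.ofNat 0, Int.ofNat 0, Int.ofNat 0, Int.negSucc 3],
  [Int.negSucc 3, Int.ofNat 0, Int.ofNat 0, Int.ofNat 0, Int.ofNat 0, Int.ofNat 0, Int.ofNat 0, Int.ofNat 0, Int.ofNat 0, Int.ofNat 0, Int.ofNat 0, Int.ofNat 0, Int.ofNat 0, Int.ofNat 0, Int.ofNat 0, Int.ofNat 0, Int.ofNat 0, Int.ofNat 0, Int.ofNat 0, Int.ofNat 0, Int.ofNat 0, Int.ofNat 0, Int.ofNat 0, Int.negSucc 3],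
  [Int.ofNat 4, Int.ofNat 0, Int.ofNat 0, Int.ofNat 0, Int.ofNat 0, Int.ofNat 0, Int.ofNat 0, Int.ofNat 0, Int.ofNat 0, Int.ofNat 0, Int.ofNat 0, Int.ofNat 0, Int.ofNat 0, Int.ofNat 0, Int.ofNat 0, Int.ofNat 0, Int.ofNat 0, Int.ofNat 0, Int.ofNat 0, Int.ofNat 0, Int.ofNat 0, Int.ofNat 0, Int.ofNat 0, Int.negSucc 3],
  [Int.negSucc 3, Int.ofNat 0, Int.ofNat 0, Int.ofNat 0, Int.ofNat 0, Int.ofNat 0, Int.ofNat 0, Int.ofNat 0, Int.ofNat 0, Int.ofNat 0, Int.ofNat 0, Int.ofNat 0, Int.ofNat 0, Int.ofNat 0, Int.ofNat 0, Int.ofNat 0, Int.ofNat 0, Int.ofNat 0, Int.ofNat 0, Int.ofNat 0, Int.ofNat 0, Int.ofNat 0, Int.ofNat 0, Int.ofNat 4],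
  [Int.ofNat 4, Int.ofNat 0, Int.ofNat 0, Int.ofNat 0, Int.ofNat 0, Int.ofNat 0, Int.ofNat 0, Int.ofNat 0, Int.ofNat 0, Int.ofNat 0, Int.ofNat 0, Int.ofNat 0, Int.ofNat 0, Int.ofNat 0, Int.ofNat 0, Int.ofNat 0, Int.ofNat 0, Int.ofNat 0, Int.ofNat 0, Int.ofNat 0, Int.ofNat 0, Int.ofNat 0, Int.ofNat 0, Int.ofNat 4],
  [Int.ofNat 0, Int.ofNat 4, Int.ofNat 0, Int.ofNat 0, Int.ofNat 0, Int.ofNat 0, Int.ofNat 0, Int.ofNat 0, Int.ofNat 0, Int.ofNat 0, Int.ofNat 0, Int.ofNat 0, Int.ofNat 0, Int.ofNat 0, Int.ofNat 0, Int.ofNat 0, Int.ofNat 0, Int.ofNat 0, Int.ofNat 0, Int.ofNat 0, Int.ofNat 0, Int.ofNat 0, Int.ofNat 0, Int.ofNat 4],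
  [Int.ofNat 4, Int.ofNat 0, Int.ofNat 4, Int.ofNat 0, Int.ofNat 0, Int.ofNat 0, Int.ofNat 0, Int.ofNat 0, Int.ofNat 0, Int.ofNat 0, Int.ofNat 0, Int.ofNat 0, Int.ofNat 0, Int.ofNat 0, Int.ofNat 0, Int.ofNat 0, Int.ofNat 0, Int.ofNat 0, Int.ofNat 0, Int.ofNat 0, Int.ofNat 0, Int.ofNat 0, Int.ofNat 0, Int.ofNat 0],
  [Int.ofNat 0, Int.ofNat 0, Int.ofNat 0, Int.ofNat 0, Int.ofNat 0, Int.ofNat 0, Int.ofNat 0, Int.ofNat 0, Int.ofNat 0, Int.ofNat 0, Int.ofNat 0, Int.ofNat 0, Int.ofNat 0, Int.ofNat 0, Int.ofNat 0, Int.ofNat 0, Int.ofNat 0, Int.ofNat 0, Int.ofNat 0, Int.ofNat 0, Int.ofNat 4, Int.ofNat 0, Int.ofNat 4, Int.ofNat 0],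
  [Int.ofNat 0, Int.ofNat 0, Int.ofNat 0, Int.ofNat 0, Int.negSucc 1, Int.ofNat 0, Int.ofNat 0, Int.ofNat 0, Int.ofNat 0, Int.negSucc 1, Int.negSucc 1, Int.ofNat 0, Int.ofNat 0, Int.negSucc 1, Int.ofNat 0, Int.negSucc 1, Int.negSucc 1, Int.ofNat 0, Int.ofNat 0, Int.ofNat 0, Int.ofNat 2, Int.ofNat 0, Int.ofNat 2, Int.ofNat 0],
  [Int.ofNat 0, Int.ofNat 0, Int.negSucc 1, Int.ofNat 0, Int.ofNat 0, Int.ofNat 0, Int.ofNat 0, Int.negSucc 1, Int.ofNat 0, Int.negSucc 1, Int.ofNat 2, Int.ofNat 0, Int.negSucc 1, Int.negSucc 1, Int.ofNat 2, Int.negSucc 1, Int.ofNat 0, Int.ofNat 0, Int.ofNat 0, Int.ofNat 0, Int.ofNat 0, Int.ofNat 0, Int.ofNat 0, Int.ofNat 0],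
  [Int.negSucc 0, Int.negSucc 0, Int.ofNat 1, Int.negSucc 0, Int.ofNat 1, Int.negSucc 0, Int.ofNat 1, Int.negSucc 0, Int.ofNat 1, Int.negSucc 0, Int.ofNat 3, Int.ofNat 1, Int.negSucc 0, Int.negSucc 0, Int.ofNat 1, Int.negSucc 0, Int.ofNat 1, Int.negSucc 0, Int.ofNat 1, Int.ofNat 1, Int.ofNat 1, Int.ofNat 1, Int.ofNat 1, Int.negSucc 0],
  [Int.negSucc 0, Int.negSucc 0, Int.negSucc 0, Int.negSucc 0, Int.ofNat 1, Int.ofNat 1, Int.negSucc 0, Int.negSucc 0, Int.ofNat 1, Int.ofNat 1, Int.negSucc 2, Int.ofNat 1, Int.negSucc 0, Int.negSucc 0, Int.ofNat 1, Int.ofNat 1, Int.ofNat 1, Int.negSucc 0, Int.negSucc 0, Int.ofNat 1, Int.ofNat 1, Int.ofNat 1, Int.negSucc 0, Int.negSucc 0],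
  [Int.ofNat 1, Int.negSucc 0, Int.negSucc 0, Int.negSucc 0, Int.negSucc 0, Int.ofNat 1, Int.ofNat 1, Int.ofNat 1, Int.ofNat 1, Int.ofNat 1, Int.negSucc 0, Int.negSucc 2, Int.negSucc 0, Int.ofNat 1, Int.ofNat 1, Int.negSucc 0, Int.negSucc 0, Int.ofNat 1, Int.ofNat 1, Int.negSucc 0, Int.negSucc 0, Int.ofNat 1, Int.negSucc 0, Int.negSucc 0],
  [Int.ofNat 1, Int.negSucc 0, Int.ofNat 1, Int.negSucc 0, Int.negSucc 0, Int.negSucc 0, Int.negSucc 0, Int.ofNat 1, Int.ofNat 1, Int.negSucc 0, Int.ofNat 1, Int.negSucc 2, Int.negSucc 0, Int.ofNat 1, Int.ofNat 1, Int.ofNat 1, Int.negSucc 0, Int.ofNat 1, Int.negSucc 0, Int.negSucc 0, Int.negSucc 0, Int.ofNat 1, Int.ofNat 1, Int.negSucc 0],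
  [Int.negSucc 0, Int.ofNat 1, Int.negSucc 0, Int.negSucc 0, Int.negSucc 0, Int.negSucc 0, Int.negSucc 0, Int.ofNat 1, Int.ofNat 3, Int.negSucc 0, Int.ofNat 1, Int.negSucc 0, Int.ofNat 1, Int.ofNat 1, Int.ofNat 1, Int.ofNat 1, Int.negSucc 0, Int.ofNat 1, Int.ofNat 1, Int.negSucc 0, Int.negSucc 0, Int.ofNat 1, Int.ofNat 1, Int.ofNat 1],
  [Int.negSucc 0, Int.ofNat 1, Int.negSucc 0, Int.negSucc 0, Int.negSucc 0, Int.ofNat 1, Int.ofNat 1, Int.negSucc 0, Int.negSucc 0, Int.ofNat 1, Int.ofNat 1, Int.negSucc 0, Int.ofNat 3, Int.negSucc 0, Int.ofNat 1, Int.ofNat 1, Int.ofNat 1, Int.negSucc 0, Int.negSucc 0, Int.ofNat 1, Int.ofNat 1, Int.negSucc 0, Int.ofNat 1, Int.ofNat 1],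
  [Int.ofNat 1, Int.negSucc 0, Int.ofNat 1, Int.negSucc 0, Int.negSucc 0, Int.ofNat 1, Int.ofNat 1, Int.negSucc 0, Int.negSucc 0, Int.negSucc 0, Int.negSucc 0, Int.negSucc 0, Int.ofNat 3, Int.negSucc 0, Int.ofNat 1, Int.negSucc 0, Int.ofNat 1, Int.negSucc 0, Int.negSucc 0, Int.ofNat 1, Int.negSucc 0, Int.negSucc 0, Int.ofNat 1, Int.negSucc 0],
  [Int.negSucc 0, Int.negSucc 0, Int.ofNat 1, Int.ofNat 1, Int.negSucc 0, Int.ofNat 1, Int.negSucc 0, Int.negSucc 0, Int.ofNat 1, Int.ofNat 1, Int.negSucc 0, Int.negSucc 0, Int.negSucc 0, Int.negSucc 0, Int.negSucc 0, Int.ofNat 3, Int.negSucc 0, Int.ofNat 1, Int.negSucc 0, Int.ofNat 1, Int.negSucc 0, Int.negSucc 0, Int.ofNat 1, Int.negSucc 0],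
  [Int.ofNat 0, Int.ofNat 0, Int.negSucc 1, Int.ofNat 0, Int.ofNat 0, Int.ofNat 0, Int.ofNat 0, Int.ofNat 0, Int.ofNat 2, Int.ofNat 0, Int.negSucc 1, Int.ofNat 0, Int.ofNat 0, Int.ofNat 0, Int.negSucc 1, Int.ofNat 2, Int.ofNat 0, Int.ofNat 0, Int.ofNat 0, Int.ofNat 2, Int.negSucc 1, Int.ofNat 0, Int.ofNat 2, Int.ofNat 0],
  [Int.ofNat 0, Int.negSucc 1, Int.ofNat 0, Int.ofNat 0, Int.ofNat 0, Int.ofNat 0, Int.ofNat 0, Int.ofNat 2, Int.ofNat 0, Int.negSucc 1, Int.ofNat 0, Int.ofNat 0, Int.ofNat 0, Int.negSucc 1, Int.ofNat 2, Int.ofNat 0, Int.ofNat 0, Int.ofNat 0, Int.ofNat 2, Int.negSucc 1, Int.ofNat 0, Int.ofNat 2, Int.ofNat 0, Int.ofNat 0],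
  [Int.ofNat 0, Int.negSucc 1, Int.ofNat 0, Int.ofNat 0, Int.ofNat 0, Int.ofNat 0, Int.ofNat 0, Int.negSucc 1, Int.ofNat 0, Int.ofNat 2, Int.ofNat 0, Int.ofNat 0, Int.ofNat 0, Int.negSucc 1, Int.ofNat 2, Int.ofNat 0, Int.ofNat 0, Int.ofNat 0, Int.negSucc 1, Int.negSucc 1, Int.ofNat 0, Int.negSucc 1, Int.ofNat 0, Int.ofNat 0]]

set_option maxRecDepth 100000 in
theorem c1e4_chk : pmChk (List.replicate 14 [4, 0, 25]).flatten nxL c1e4M 0 0 = true := by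
  decide +kernel

theorem c1e4_ne : wE letE2 (List.replicate 14 [4, 0, 25]).flatten ≠ 1 ∧ wE letE2 (List.replicate 14 [4, 0, 25]).flatten ≠ negElt :=
  ne_pm_of_chk nxL_mem c1e4_chk

set_option maxRecDepth 100000 in
def c1e5M : List (List ℤ) :=
  [[Int.ofNat 4, Int.ofNat 0, Int.ofNat 0, Int.ofNat 0, Int.ofNat 0, Int.ofNat 0, Int.ofNat 0, Int.ofNat 0, Int.ofNat 0, Int.ofNat 0, Int.ofNat 0, Int.ofNat 0, Int.ofNat 0, Int.ofNat 0, Int.ofNat 0, Int.ofNat 0, Int.ofNat 0, Int.ofNat 0, Int.ofNat 0, Int.ofNat 0, Int.ofNat 0, Int.ofNat 0, Int.ofNat 0, Int.ofNat 4],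
  [Int.ofNat 4, Int.ofNat 0, Int.ofNat 0, Int.ofNat 0, Int.ofNat 0, Int.ofNat 0, Int.ofNat 0, Int.ofNat 0, Int.ofNat 0, Int.ofNat 0, Int.ofNat 0, Int.ofNat 0, Int.ofNat 0, Int.ofNat 0, Int.ofNat 0, Int.ofNat 0, Int.ofNat 0, Int.ofNat 0, Int.ofNat 0, Int.ofNat 0, Int.ofNat 0, Int.ofNat 0, Int.ofNat 0, Int.ofNat 4],
  [Int.negSucc 3, Int.ofNat 0, Int.ofNat 0, Int.ofNat 0, Int.ofNat 0, Int.ofNat 0, Int.ofNat 0, Int.ofNat 0, Int.ofNat 0, Int.ofNat 0, Int.ofNat 0, Int.ofNat 0, Int.ofNat 0, Int.ofNat 0, Int.ofNat 0, Int.ofNat 0, Int.ofNat 0, Int.ofNat 0, Int.ofNat 0, Int.ofNat 0, Int.ofNat 0, Int.ofNat 0, Int.ofNat 0, Int.ofNat 4],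
  [Int.ofNat 0, Int.negSucc 3, Int.ofNat 0, Int.ofNat 0, Int.ofNat 0, Int.ofNat 0, Int.ofNat 0, Int.ofNat 0, Int.ofNat 0, Int.ofNat 0, Int.ofNat 0, Int.ofNat 0, Int.ofNat 0, Int.ofNat 0, Int.ofNat 0, Int.ofNat 0, Int.ofNat 0, Int.ofNat 0, Int.ofNat 0, Int.ofNat 0, Int.ofNat 0, Int.ofNat 0, Int.ofNat 0, Int.ofNat 4],
  [Int.ofNat 0, Int.ofNat 4, Int.ofNat 0, Int.ofNat 0, Int.ofNat 0, Int.ofNat 0, Int.ofNat 0, Int.ofNat 0, Int.ofNat 0, Int.ofNat 0, Int.ofNat 0, Int.ofNat 0, Int.ofNat 0, Int.ofNat 0, Int.ofNat 0, Int.ofNat 0, Int.ofNat 0, Int.ofNat 0, Int.ofNat 0, Int.ofNat 0, Int.ofNat 0, Int.ofNat 0, Int.ofNat 0, Int.negSucc 3],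
  [Int.ofNat 0, Int.ofNat 0, Int.ofNat 0, Int.ofNat 0, Int.ofNat 0, Int.ofNat 0, Int.ofNat 0, Int.ofNat 0, Int.ofNat 0, Int.ofNat 0, Int.ofNat 0, Int.ofNat 0, Int.ofNat 0, Int.ofNat 0, Int.ofNat 0, Int.ofNat 0, Int.ofNat 0, Int.ofNat 0, Int.ofNat 0, Int.ofNat 0, Int.ofNat 0, Int.ofNat 4, Int.ofNat 0, Int.negSucc 3],
  [Int.negSucc 1, Int.negSucc 1, Int.negSucc 1, Int.ofNat 0, Int.ofNat 0, Int.ofNat 0, Int.negSucc 1, Int.negSucc 1, Int.ofNat 0, Int.ofNat 0, Int.ofNat 0, Int.ofNat 0, Int.ofNat 0, Int.ofNat 0, Int.ofNat 0, Int.ofNat 0, Int.ofNat 0, Int.ofNat 0, Int.ofNat 0, Int.negSucc 1, Int.ofNat 0, Int.ofNat 2, Int.ofNat 0, Int.ofNat 2],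
  [Int.negSucc 1, Int.negSucc 1, Int.ofNat 0, Int.ofNat 0, Int.ofNat 0, Int.negSucc 1, Int.negSucc 1, Int.ofNat 0, Int.ofNat 0, Int.ofNat 0, Int.ofNat 0, Int.ofNat 0, Int.ofNat 0, Int.ofNat 0, Int.ofNat 0, Int.ofNat 0, Int.ofNat 0, Int.ofNat 0, Int.negSucc 1, Int.ofNat 0, Int.ofNat 2, Int.ofNat 0, Int.negSucc 1, Int.ofNat 2],
  [Int.ofNat 1, Int.ofNat 1, Int.negSucc 0, Int.ofNat 1, Int.ofNat 1, Int.negSucc 0, Int.negSucc 0, Int.ofNat 1, Int.ofNat 1, Int.negSucc 0, Int.negSucc 0, Int.ofNat 1, Int.ofNat 1, Int.ofNat 1, Int.ofNat 1, Int.negSucc 0, Int.ofNat 1, Int.ofNat 1, Int.negSucc 0, Int.ofNat 1, Int.ofNat 1, Int.ofNat 1, Int.negSucc 0, Int.negSucc 2],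
  [Int.ofNat 1, Int.ofNat 1, Int.ofNat 1, Int.ofNat 1, Int.ofNat 1, Int.ofNat 1, Int.ofNat 1, Int.ofNat 1, Int.ofNat 1, Int.ofNat 1, Int.ofNat 1, Int.ofNat 1, Int.ofNat 1, Int.ofNat 1, Int.ofNat 1, Int.ofNat 1, Int.ofNat 1, Int.ofNat 1, Int.ofNat 1, Int.ofNat 1, Int.ofNat 1, Int.ofNat 1, Int.ofNat 1, Int.negSucc 2],
  [Int.ofNat 1, Int.ofNat 1, Int.ofNat 1, Int.ofNat 1, Int.ofNat 1, Int.ofNat 1, Int.ofNat 1, Int.ofNat 1, Int.ofNat 1, Int.ofNat 1, Int.ofNat 1, Int.ofNat 1, Int.ofNat 1, Int.ofNat 1, Int.ofNat 1, Int.ofNat 1, Int.ofNat 1, Int.ofNat 1, Int.ofNat 1, Int.ofNat 1, Int.ofNat 1, Int.ofNat 1, Int.ofNat 1, Int.negSucc 2],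
  [Int.ofNat 1, Int.ofNat 1, Int.negSucc 0, Int.ofNat 1, Int.ofNat 1, Int.negSucc 0, Int.negSucc 0, Int.ofNat 1, Int.ofNat 1, Int.negSucc 0, Int.negSucc 0, Int.ofNat 1, Int.ofNat 1, Int.ofNat 1, Int.ofNat 1, Int.negSucc 0, Int.ofNat 1, Int.ofNat 1, Int.negSucc 0, Int.ofNat 1, Int.ofNat 1, Int.ofNat 1, Int.negSucc 0, Int.negSucc 2],
  [Int.negSucc 1, Int.negSucc 1, Int.ofNat 0, Int.ofNat 0, Int.ofNat 0, Int.negSucc 1, Int.negSucc 1, Int.ofNat 0, Int.ofNat 0, Int.ofNat 0, Int.ofNat 0, Int.ofNat 0, Int.ofNat 0, Int.ofNat 0, Int.ofNat 0, Int.ofNat 0, Int.ofNat 0, Int.ofNat 0, Int.negSucc 1, Int.ofNat 0, Int.ofNat 2, Int.ofNat 0, Int.negSucc 1, Int.ofNat 2],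
  [Int.negSucc 1, Int.negSucc 1, Int.negSucc 1, Int.ofNat 0, Int.ofNat 0, Int.ofNat 0, Int.negSucc 1, Int.negSucc 1, Int.ofNat 0, Int.ofNat 0, Int.ofNat 0, Int.ofNat 0, Int.ofNat 0, Int.ofNat 0, Int.ofNat 0, Int.ofNat 0, Int.ofNat 0, Int.ofNat 0, Int.ofNat 0, Int.negSucc 1, Int.ofNat 0, Int.ofNat 2, Int.ofNat 0, Int.ofNat 2],
  [Int.ofNat 0, Int.ofNat 0, Int.ofNat 0, Int.ofNat 0, Int.ofNat 0, Int.ofNat 0, Int.ofNat 0, Int.ofNat 0, Int.ofNat 0, Int.ofNat 0, Int.ofNat 0, Int.ofNat 0, Int.ofNat 0, Int.ofNat 0, Int.ofNat 0, Int.ofNat 0, Int.ofNat 0, Int.ofNat 0, Int.ofNat 0, Int.ofNat 0, Int.ofNat 0, Int.ofNat 4, Int.ofNat 0, Int.negSucc 3],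
  [Int.ofNat 0, Int.ofNat 4, Int.ofNat 0, Int.ofNat 0, Int.ofNat 0, Int.ofNat 0, Int.ofNat 0, Int.ofNat 0, Int.ofNat 0, Int.ofNat 0, Int.ofNat 0, Int.ofNat 0, Int.ofNat 0, Int.ofNat 0, Int.ofNat 0, Int.ofNat 0, Int.ofNat 0, Int.ofNat 0, Int.ofNat 0, Int.ofNat 0, Int.ofNat 0, Int.ofNat 0, Int.ofNat 0, Int.negSucc 3],
  [Int.ofNat 0, Int.negSucc 3, Int.ofNat 0, Int.ofNat 0, Int.ofNat 0, Int.ofNat 0, Int.ofNat 0, Int.ofNat 0, Int.ofNat 0, Int.ofNat 0, Int.ofNat 0, Int.ofNat 0, Int.ofNat 0, Int.ofNat 0, Int.ofNat 0, Int.ofNat 0, Int.ofNat 0, Int.ofNat 0, Int.ofNat 0, Int.ofNat 0, Int.ofNat 0, Int.ofNat 0, Int.ofNat 0, Int.ofNat 4],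
  [Int.negSucc 3, Int.ofNat 0, Int.ofNat 0, Int.ofNat 0, Int.ofNat 0, Int.ofNat 0, Int.ofNat 0, Int.ofNat 0, Int.ofNat 0, Int.ofNat 0, Int.ofNat 0, Int.ofNat 0, Int.ofNat 0, Int.ofNat 0, Int.ofNat 0, Int.ofNat 0, Int.ofNat 0, Int.ofNat 0, Int.ofNat 0, Int.ofNat 0, Int.ofNat 0, Int.ofNat 0, Int.ofNat 0, Int.ofNat 4],
  [Int.ofNat 4, Int.ofNat 0, Int.ofNat 0, Int.ofNat 0, Int.ofNat 0, Int.ofNat 0, Int.ofNat 0, Int.ofNat 0, Int.ofNat 0, Int.ofNat 0, Int.ofNat 0, Int.ofNat 0, Int.ofNat 0, Int.ofNat 0, Int.ofNat 0, Int.ofNat 0, Int.ofNat 0, Int.ofNat 0, Int.ofNat 0, Int.ofNat 0, Int.ofNat 0, Int.ofNat 0, Int.ofNat 0, Int.ofNat 4],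
  [Int.negSucc 3, Int.ofNat 0, Int.ofNat 0, Int.ofNat 0, Int.ofNat 0, Int.ofNat 0, Int.ofNat 0, Int.ofNat 0, Int.ofNat 0, Int.ofNat 0, Int.ofNat 0, Int.ofNat 0, Int.ofNat 0, Int.ofNat 0, Int.ofNat 0, Int.ofNat 0, Int.ofNat 0, Int.ofNat 0, Int.ofNat 0, Int.ofNat 0, Int.ofNat 0, Int.ofNat 0, Int.ofNat 0, Int.ofNat 4],
  [Int.ofNat 4, Int.ofNat 0, Int.ofNat 0, Int.ofNat 0, Int.ofNat 0, Int.ofNat 0, Int.ofNat 0, Int.ofNat 0, Int.ofNat 0, Int.ofNat 0, Int.ofNat 0, Int.ofNat 0, Int.ofNat 0, Int.ofNat 0, Int.ofNat 0, Int.ofNat 0, Int.ofNat 0, Int.ofNat 0, Int.ofNat 0, Int.ofNat 0, Int.ofNat 0, Int.ofNat 0, Int.ofNat 0, Int.negSucc 3],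
  [Int.negSucc 3, Int.ofNat 0, Int.ofNat 0, Int.ofNat 0, Int.ofNat 0, Int.ofNat 0, Int.ofNat 0, Int.ofNat 0, Int.ofNat 0, Int.ofNat 0, Int.ofNat 0, Int.ofNat 0, Int.ofNat 0, Int.ofNat 0, Int.ofNat 0, Int.ofNat 0, Int.ofNat 0, Int.ofNat 0, Int.ofNat 0, Int.ofNat 0, Int.ofNat 0, Int.ofNat 0, Int.ofNat 0, Int.negSucc 3],
  [Int.ofNat 0, Int.negSucc 3, Int.ofNat 0, Int.ofNat 0, Int.ofNat 0, Int.ofNat 0, Int.ofNat 0, Int.ofNat 0, Int.ofNat 0, Int.ofNat 0, Int.ofNat 0, Int.ofNat 0, Int.ofNat 0, Int.ofNat 0, Int.ofNat 0, Int.ofNat 0, Int.ofNat 0, Int.ofNat 0, Int.ofNat 0, Int.ofNat 0, Int.ofNat 0, Int.ofNat 0, Int.ofNat 0, Int.negSucc 3],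
  [Int.negSucc 3, Int.ofNat 0, Int.negSucc 3, Int.ofNat 0, Int.ofNat 0, Int.ofNat 0, Int.ofNat 0, Int.ofNat 0, Int.ofNat 0, Int.ofNat 0, Int.ofNat 0, Int.ofNat 0, Int.ofNat 0, Int.ofNat 0, Int.ofNat 0, Int.ofNat 0, Int.ofNat 0, Int.ofNat 0, Int.ofNat 0, Int.ofNat 0, Int.ofNat 0, Int.ofNat 0, Int.ofNat 0, Int.ofNat 0],
  [Int.ofNat 0, Int.ofNat 0, Int.ofNat 0, Int.ofNat 0, Int.ofNat 0, Int.ofNat 0, Int.ofNat 0, Int.ofNat 0, Int.ofNat 0, Int.ofNat 0, Int.ofNat 0, Int.ofNat 0, Int.ofNat 0, Int.ofNat 0, Int.ofNat 0, Int.ofNat 0, Int.ofNat 0, Int.ofNat 0, Int.ofNat 0, Int.ofNat 0, Int.negSucc 3, Int.ofNat 0, Int.negSucc 3, Int.ofNat 0],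
  [Int.ofNat 0, Int.ofNat 0, Int.ofNat 0, Int.ofNat 0, Int.ofNat 2, Int.ofNat 0, Int.ofNat 0, Int.ofNat 0, Int.ofNat 0, Int.ofNat 2, Int.ofNat 2, Int.ofNat 0, Int.ofNat 0, Int.ofNat 2, Int.ofNat 0, Int.ofNat 2, Int.ofNat 2, Int.ofNat 0, Int.ofNat 0, Int.ofNat 0, Int.negSucc 1, Int.ofNat 0, Int.negSucc 1, Int.ofNat 0],
  [Int.ofNat 0, Int.ofNat 0, Int.ofNat 2, Int.ofNat 0, Int.ofNat 0, Int.ofNat 0, Int.ofNat 0, Int.ofNat 2, Int.ofNat 0, Int.ofNat 2, Int.negSucc 1, Int.ofNat 0, Int.ofNat 2, Int.ofNat 2, Int.negSucc 1, Int.ofNat 2, Int.ofNat 0, Int.ofNat 0, Int.ofNat 0, Int.ofNat 0, Int.ofNat 0, Int.ofNat 0, Int.ofNat 0, Int.ofNat 0],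
  [Int.ofNat 1, Int.ofNat 1, Int.negSucc 0, Int.ofNat 1, Int.negSucc 0, Int.ofNat 1, Int.negSucc 0, Int.ofNat 1, Int.negSucc 0, Int.ofNat 1, Int.negSucc 2, Int.negSucc 0, Int.ofNat 1, Int.ofNat 1, Int.negSucc 0, Int.ofNat 1, Int.negSucc 0, Int.ofNat 1, Int.negSucc 0, Int.negSucc 0, Int.negSucc 0, Int.negSucc 0, Int.negSucc 0, Int.ofNat 1],
  [Int.ofNat 1, Int.ofNat 1, Int.ofNat 1, Int.ofNat 1, Int.negSucc 0, Int.negSucc 0, Int.ofNat 1, Int.ofNat 1, Int.negSucc 0, Int.negSucc 0, Int.ofNat 3, Int.negSucc 0, Int.ofNat 1, Int.ofNat 1, Int.negSucc 0, Int.negSucc 0, Int.negSucc 0, Int.ofNat 1, Int.ofNat 1, Int.negSucc 0, Int.negSucc 0, Int.negSucc 0, Int.ofNat 1, Int.ofNat 1],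
  [Int.negSucc 0, Int.ofNat 1, Int.ofNat 1, Int.negSucc 0, Int.ofNat 1, Int.ofNat 1, Int.ofNat 1, Int.ofNat 1, Int.negSucc 0, Int.negSucc 0, Int.negSucc 0, Int.ofNat 1, Int.negSucc 0, Int.ofNat 1, Int.negSucc 0, Int.ofNat 1, Int.ofNat 1, Int.ofNat 3, Int.negSucc 0, Int.negSucc 0, Int.negSucc 0, Int.ofNat 1, Int.negSucc 0, Int.ofNat 1],
  [Int.negSucc 0, Int.ofNat 1, Int.negSucc 0, Int.negSucc 0, Int.ofNat 1, Int.negSucc 0, Int.negSucc 0, Int.ofNat 1, Int.negSucc 0, Int.ofNat 1, Int.ofNat 1, Int.ofNat 1, Int.negSucc 0, Int.ofNat 1, Int.negSucc 0, Int.negSucc 0, Int.ofNat 1, Int.ofNat 3, Int.ofNat 1, Int.negSucc 0, Int.negSucc 0, Int.ofNat 1, Int.ofNat 1, Int.ofNat 1],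
  [Int.ofNat 1, Int.negSucc 0, Int.ofNat 1, Int.negSucc 0, Int.negSucc 0, Int.negSucc 0, Int.negSucc 0, Int.ofNat 1, Int.negSucc 0, Int.ofNat 1, Int.ofNat 1, Int.ofNat 1, Int.negSucc 0, Int.negSucc 0, Int.negSucc 0, Int.negSucc 0, Int.negSucc 0, Int.ofNat 3, Int.ofNat 1, Int.negSucc 0, Int.negSucc 0, Int.ofNat 1, Int.negSucc 0, Int.negSucc 0],
  [Int.ofNat 1, Int.ofNat 1, Int.negSucc 0, Int.negSucc 0, Int.ofNat 1, Int.ofNat 1, Int.negSucc 0, Int.negSucc 0, Int.negSucc 0, Int.negSucc 0, Int.ofNat 1, Int.negSucc 0, Int.negSucc 0, Int.ofNat 1, Int.ofNat 3, Int.negSucc 0, Int.negSucc 0, Int.ofNat 1, Int.negSucc 0, Int.negSucc 0, Int.ofNat 1, Int.negSucc 0, Int.negSucc 0, Int.negSucc 0],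
  [Int.negSucc 0, Int.negSucc 0, Int.ofNat 1, Int.negSucc 2, Int.ofNat 1, Int.negSucc 0, Int.ofNat 1, Int.ofNat 1, Int.ofNat 1, Int.negSucc 0, Int.ofNat 1, Int.ofNat 1, Int.ofNat 1, Int.ofNat 1, Int.ofNat 1, Int.negSucc 0, Int.negSucc 0, Int.negSucc 0, Int.ofNat 1, Int.ofNat 1, Int.ofNat 1, Int.ofNat 1, Int.negSucc 0, Int.ofNat 1],
  [Int.ofNat 1, Int.ofNat 1, Int.negSucc 0, Int.negSucc 0, Int.negSucc 0, Int.ofNat 1, Int.negSucc 2, Int.ofNat 1, Int.negSucc 0, Int.ofNat 1, Int.ofNat 1, Int.ofNat 1, Int.negSucc 0, Int.ofNat 1, Int.ofNat 1, Int.ofNat 1, Int.ofNat 1, Int.ofNat 1, Int.negSucc 0, Int.negSucc 0, Int.negSucc 0, Int.ofNat 1, Int.ofNat 1, Int.ofNat 1],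
  [Int.ofNat 0, Int.ofNat 0, Int.ofNat 2, Int.negSucc 1, Int.negSucc 1, Int.ofNat 0, Int.negSucc 1, Int.ofNat 2, Int.ofNat 0, Int.ofNat 0, Int.ofNat 0, Int.ofNat 2, Int.ofNat 0, Int.ofNat 0, Int.ofNat 0, Int.ofNat 0, Int.ofNat 0, Int.ofNat 0, Int.ofNat 0, Int.ofNat 0, Int.negSucc 1, Int.ofNat 2, Int.ofNat 0, Int.ofNat 0],
  [Int.ofNat 0, Int.ofNat 2, Int.negSucc 1, Int.negSucc 1, Int.ofNat 0, Int.negSucc 1, Int.ofNat 2, Int.ofNat 0, Int.ofNat 0, Int.ofNat 0, Int.ofNat 2, Int.ofNat 0, Int.ofNat 0, Int.ofNat 0, Int.ofNat 0, Int.ofNat 0, Int.ofNat 0, Int.ofNat 0, Int.ofNat 0, Int.negSucc 1, Int.ofNat 2, Int.ofNat 0, Int.ofNat 0, Int.ofNat 0],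
  [Int.ofNat 0, Int.ofNat 2, Int.ofNat 2, Int.negSucc 1, Int.ofNat 0, Int.negSucc 1, Int.ofNat 2, Int.ofNat 0, Int.ofNat 0, Int.ofNat 0, Int.negSucc 1, Int.ofNat 0, Int.ofNat 0, Int.ofNat 0, Int.ofNat 0, Int.ofNat 0, Int.ofNat 0, Int.ofNat 0, Int.ofNat 0, Int.negSucc 1, Int.ofNat 2, Int.ofNat 0, Int.ofNat 0, Int.ofNat 0],
  [Int.ofNat 0, Int.negSucc 1, Int.negSucc 1, Int.ofNat 2, Int.ofNat 0, Int.negSucc 1, Int.negSucc 1, Int.ofNat 0, Int.ofNat 0, Int.ofNat 0, Int.negSucc 1, Int.ofNat 0, Int.ofNat 0, Int.ofNat 0, Int.ofNat 0, Int.ofNat 0, Int.ofNat 0, Int.ofNat 0, Int.ofNat 0, Int.negSucc 1, Int.ofNat 2, Int.ofNat 0, Int.ofNat 0, Int.ofNat 0],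
  [Int.ofNat 0, Int.ofNat 0, Int.ofNat 0, Int.ofNat 0, Int.ofNat 0, Int.ofNat 0, Int.negSucc 1, Int.ofNat 0, Int.ofNat 2, Int.negSucc 1, Int.ofNat 0, Int.negSucc 1, Int.ofNat 0, Int.ofNat 0, Int.ofNat 0, Int.ofNat 2, Int.negSucc 1, Int.ofNat 0, Int.ofNat 0, Int.negSucc 1, Int.ofNat 0, Int.ofNat 0, Int.negSucc 1, Int.ofNat 0],
  [Int.ofNat 0, Int.ofNat 0, Int.ofNat 0, Int.ofNat 0, Int.ofNat 0, Int.ofNat 0, Int.negSucc 1, Int.ofNat 0, Int.ofNat 2, Int.ofNat 2, Int.ofNat 0, Int.ofNat 2, Int.ofNat 0, Int.ofNat 0, Int.ofNat 0, Int.ofNat 2, Int.negSucc 1, Int.ofNat 0, Int.ofNat 0, Int.negSucc 1, Int.ofNat 0, Int.ofNat 0, Int.negSucc 1, Int.ofNat 0],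
  [Int.negSucc 1, Int.ofNat 0, Int.ofNat 0, Int.ofNat 0, Int.ofNat 0, Int.ofNat 0, Int.ofNat 0, Int.negSucc 1, Int.ofNat 0, Int.ofNat 2, Int.ofNat 2, Int.ofNat 0, Int.ofNat 2, Int.ofNat 0, Int.ofNat 0, Int.ofNat 0, Int.ofNat 2, Int.negSucc 1, Int.ofNat 0, Int.ofNat 0, Int.negSucc 1, Int.ofNat 0, Int.ofNat 0, Int.ofNat 0],
  [Int.ofNat 1, Int.negSucc 0, Int.negSucc 0, Int.ofNat 1, Int.negSucc 0, Int.ofNat 1, Int.ofNat 1, Int.negSucc 0, Int.negSucc 0, Int.ofNat 1, Int.ofNat 1, Int.negSucc 0, Int.ofNat 1, Int.negSucc 0, Int.ofNat 1, Int.negSucc 0, Int.ofNat 1, Int.negSucc 0, Int.negSucc 0, Int.ofNat 1, Int.negSucc 2, Int.ofNat 1, Int.negSucc 0, Int.negSucc 0],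
  [Int.ofNat 1, Int.negSucc 0, Int.ofNat 1, Int.ofNat 1, Int.negSucc 0, Int.negSucc 0, Int.ofNat 1, Int.ofNat 1, Int.negSucc 0, Int.ofNat 1, Int.negSucc 0, Int.ofNat 1, Int.negSucc 0, Int.ofNat 1, Int.negSucc 0, Int.negSucc 0, Int.ofNat 1, Int.negSucc 2, Int.ofNat 1, Int.negSucc 0, Int.ofNat 1, Int.negSucc 0, Int.negSucc 0, Int.negSucc 0],
  [Int.negSucc 0, Int.ofNat 1, Int.negSucc 0, Int.ofNat 3, Int.negSucc 0, Int.ofNat 1, Int.ofNat 1, Int.ofNat 1, Int.negSucc 0, Int.ofNat 1, Int.negSucc 0, Int.ofNat 1, Int.negSucc 0, Int.ofNat 1, Int.ofNat 1, Int.negSucc 0, Int.ofNat 1, Int.negSucc 0, Int.ofNat 1, Int.negSucc 0, Int.ofNat 1, Int.negSucc 0, Int.negSucc 0, Int.ofNat 1],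
  [Int.negSucc 0, Int.ofNat 1, Int.negSucc 0, Int.ofNat 3, Int.ofNat 1, Int.ofNat 1, Int.negSucc 0, Int.negSucc 0, Int.negSucc 0, Int.ofNat 1, Int.ofNat 1, Int.negSucc 0, Int.ofNat 1, Int.ofNat 1, Int.negSucc 0, Int.negSucc 0, Int.negSucc 0, Int.ofNat 1, Int.ofNat 1, Int.ofNat 1, Int.negSucc 0, Int.ofNat 1, Int.negSucc 0, Int.ofNat 1],
  [Int.ofNat 1, Int.negSucc 0, Int.ofNat 1, Int.ofNat 1, Int.ofNat 1, Int.negSucc 0, Int.negSucc 0, Int.negSucc 0, Int.negSucc 0, Int.ofNat 1, Int.ofNat 1, Int.negSucc 0, Int.ofNat 1, Int.ofNat 1, Int.negSucc 2, Int.negSucc 0, Int.negSucc 0, Int.negSucc 0, Int.ofNat 1, Int.ofNat 1, Int.negSucc 0, Int.ofNat 1, Int.negSucc 0, Int.negSucc 0],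
  [Int.ofNat 1, Int.negSucc 0, Int.negSucc 0, Int.ofNat 1, Int.ofNat 1, Int.ofNat 1, Int.ofNat 1, Int.negSucc 0, Int.negSucc 0, Int.negSucc 0, Int.negSucc 0, Int.negSucc 0, Int.ofNat 1, Int.ofNat 1, Int.negSucc 2, Int.ofNat 1, Int.negSucc 0, Int.negSucc 0, Int.negSucc 0, Int.ofNat 1, Int.negSucc 0, Int.ofNat 1, Int.ofNat 1, Int.negSucc 0],
  [Int.ofNat 1, Int.ofNat 1, Int.ofNat 1, Int.ofNat 1, Int.ofNat 1, Int.ofNat 1, Int.negSucc 0, Int.ofNat 1, Int.ofNat 1, Int.negSucc 2, Int.negSucc 0, Int.negSucc 0, Int.negSucc 0, Int.negSucc 0, Int.ofNat 1, Int.negSucc 0, Int.ofNat 1, Int.negSucc 0, Int.negSucc 0, Int.negSucc 0, Int.negSucc 0, Int.negSucc 0, Int.ofNat 1, Int.negSucc 0],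
  [Int.ofNat 1, Int.ofNat 1, Int.negSucc 0, Int.ofNat 1, Int.ofNat 1, Int.negSucc 0, Int.ofNat 1, Int.ofNat 1, Int.ofNat 1, Int.ofNat 3, Int.ofNat 1, Int.negSucc 0, Int.negSucc 0, Int.negSucc 0, Int.ofNat 1, Int.ofNat 1, Int.ofNat 1, Int.negSucc 0, Int.ofNat 1, Int.negSucc 0, Int.negSucc 0, Int.negSucc 0, Int.negSucc 0, Int.negSucc 0],
  [Int.negSucc 0, Int.negSucc 0, Int.ofNat 1, Int.ofNat 1, Int.ofNat 1, Int.negSucc 0, Int.ofNat 1, Int.ofNat 1, Int.ofNat 1, Int.ofNat 1, Int.negSucc 0, Int.negSucc 0, Int.negSucc 0, Int.negSucc 0, Int.ofNat 1, Int.negSucc 0, Int.ofNat 1, Int.negSucc 0, Int.ofNat 1, Int.negSucc 0, Int.negSucc 2, Int.negSucc 0, Int.negSucc 0, Int.ofNat 1],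
  [Int.negSucc 0, Int.ofNat 1, Int.ofNat 1, Int.ofNat 1, Int.ofNat 1, Int.negSucc 0, Int.negSucc 0, Int.negSucc 0, Int.ofNat 1, Int.negSucc 0, Int.ofNat 1, Int.negSucc 0, Int.ofNat 1, Int.ofNat 1, Int.negSucc 0, Int.negSucc 0, Int.negSucc 0, Int.negSucc 0, Int.ofNat 1, Int.negSucc 0, Int.negSucc 0, Int.negSucc 2, Int.ofNat 1, Int.ofNat 1],
  [Int.ofNat 2, Int.ofNat 0, Int.ofNat 0, Int.ofNat 2, Int.ofNat 0, Int.ofNat 0, Int.ofNat 2, Int.ofNat 2, Int.ofNat 0, Int.ofNat 0, Int.ofNat 2, Int.negSucc 1, Int.ofNat 0, Int.ofNat 0, Int.ofNat 0, Int.ofNat 0, Int.negSucc 1, Int.ofNat 0, Int.ofNat 0, Int.ofNat 2, Int.ofNat 0, Int.ofNat 0, Int.ofNat 0, Int.ofNat 0],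
  [Int.ofNat 0, Int.ofNat 0, Int.ofNat 0, Int.ofNat 2, Int.ofNat 0, Int.ofNat 0, Int.ofNat 2, Int.ofNat 0, Int.ofNat 0, Int.ofNat 2, Int.ofNat 2, Int.ofNat 0, Int.ofNat 0, Int.ofNat 2, Int.negSucc 1, Int.ofNat 0, Int.ofNat 0, Int.ofNat 0, Int.ofNat 0, Int.negSucc 1, Int.ofNat 0, Int.ofNat 0, Int.ofNat 2, Int.ofNat 0],
  [Int.ofNat 0, Int.ofNat 0, Int.ofNat 0, Int.ofNat 2, Int.negSucc 1, Int.ofNat 0, Int.ofNat 2, Int.ofNat 0, Int.ofNat 0, Int.ofNat 0, Int.ofNat 0, Int.ofNat 0, Int.ofNat 0, Int.ofNat 0, Int.negSucc 1, Int.negSucc 1, Int.negSucc 1, Int.ofNat 0, Int.ofNat 0, Int.negSucc 1, Int.negSucc 1, Int.ofNat 0, Int.ofNat 0, Int.ofNat 0],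
  [Int.ofNat 0, Int.ofNat 0, Int.ofNat 2, Int.negSucc 1, Int.ofNat 0, Int.ofNat 2, Int.ofNat 0, Int.ofNat 0, Int.ofNat 0, Int.ofNat 0, Int.ofNat 0, Int.ofNat 0, Int.ofNat 0, Int.negSucc 1, Int.negSucc 1, Int.negSucc 1, Int.ofNat 0, Int.ofNat 0, Int.negSucc 1, Int.negSucc 1, Int.ofNat 0, Int.ofNat 0, Int.ofNat 0, Int.ofNat 0],
  [Int.ofNat 0, Int.ofNat 0, Int.negSucc 1, Int.negSucc 1, Int.ofNat 0, Int.ofNat 2, Int.ofNat 0, Int.ofNat 0, Int.ofNat 0, Int.ofNat 0, Int.ofNat 0, Int.ofNat 0, Int.ofNat 0, Int.negSucc 1, Int.negSucc 1, Int.negSucc 1, Int.ofNat 0, Int.ofNat 0, Int.ofNat 2, Int.negSucc 1, Int.ofNat 0, Int.ofNat 0, Int.ofNat 0, Int.ofNat 0],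
  [Int.ofNat 0, Int.ofNat 0, Int.ofNat 2, Int.ofNat 2, Int.ofNat 0, Int.ofNat 2, Int.ofNat 0, Int.ofNat 0, Int.ofNat 0, Int.ofNat 0, Int.ofNat 0, Int.ofNat 0, Int.ofNat 0, Int.ofNat 2, Int.negSucc 1, Int.negSucc 1, Int.ofNat 0, Int.ofNat 0, Int.negSucc 1, Int.negSucc 1, Int.ofNat 0, Int.ofNat 0, Int.ofNat 0, Int.ofNat 0],
  [Int.ofNat 0, Int.ofNat 0, Int.ofNat 0, Int.negSucc 1, Int.ofNat 0, Int.ofNat 0, Int.negSucc 1, Int.ofNat 2, Int.ofNat 0, Int.ofNat 2, Int.ofNat 0, Int.ofNat 2, Int.ofNat 0, Int.ofNat 0, Int.negSucc 1, Int.ofNat 2, Int.ofNat 0, Int.ofNat 0, Int.negSucc 1, Int.ofNat 0, Int.ofNat 0, Int.ofNat 0, Int.ofNat 0, Int.ofNat 0],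
  [Int.ofNat 0, Int.ofNat 0, Int.ofNat 0, Int.negSucc 1, Int.ofNat 0, Int.ofNat 0, Int.negSucc 1, Int.negSucc 1, Int.ofNat 0, Int.negSucc 1, Int.ofNat 0, Int.negSucc 1, Int.ofNat 0, Int.ofNat 0, Int.negSucc 1, Int.ofNat 2, Int.ofNat 0, Int.ofNat 0, Int.ofNat 2, Int.ofNat 0, Int.ofNat 0, Int.ofNat 0, Int.ofNat 0, Int.ofNat 0],
  [Int.ofNat 0, Int.ofNat 0, Int.ofNat 0, Int.ofNat 0, Int.negSucc 1, Int.ofNat 0, Int.ofNat 0, Int.negSucc 1, Int.negSucc 1, Int.ofNat 0, Int.negSucc 1, Int.ofNat 0, Int.negSucc 1, Int.ofNat 0, Int.ofNat 0, Int.negSucc 1, Int.ofNat 2, Int.ofNat 0, Int.ofNat 0, Int.ofNat 2, Int.ofNat 0, Int.ofNat 0, Int.ofNat 0, Int.ofNat 0],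
  [Int.ofNat 0, Int.ofNat 0, Int.ofNat 0, Int.ofNat 0, Int.negSucc 1, Int.ofNat 0, Int.ofNat 0, Int.negSucc 1, Int.ofNat 0, Int.ofNat 2, Int.ofNat 0, Int.ofNat 2, Int.ofNat 0, Int.ofNat 0, Int.ofNat 0, Int.ofNat 0, Int.ofNat 2, Int.ofNat 0, Int.ofNat 2, Int.ofNat 2, Int.ofNat 2, Int.ofNat 0, Int.ofNat 0, Int.ofNat 0],
  [Int.ofNat 0, Int.negSucc 1, Int.ofNat 0, Int.ofNat 0, Int.negSucc 1, Int.ofNat 0, Int.ofNat 2, Int.ofNat 0, Int.ofNat 2, Int.ofNat 0, Int.ofNat 0, Int.ofNat 0, Int.ofNat 0, Int.ofNat 2, Int.ofNat 0, Int.ofNat 2, Int.ofNat 2, Int.ofNat 2, Int.ofNat 0, Int.ofNat 0, Int.ofNat 0, Int.ofNat 0, Int.ofNat 0, Int.ofNat 0],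
  [Int.negSucc 0, Int.ofNat 1, Int.negSucc 0, Int.negSucc 0, Int.negSucc 2, Int.negSucc 0, Int.ofNat 1, Int.negSucc 0, Int.ofNat 1, Int.negSucc 0, Int.negSucc 0, Int.negSucc 0, Int.negSucc 0, Int.ofNat 1, Int.negSucc 0, Int.ofNat 1, Int.ofNat 1, Int.ofNat 1, Int.negSucc 0, Int.negSucc 0, Int.negSucc 0, Int.negSucc 0, Int.negSucc 0, Int.negSucc 0],
  [Int.negSucc 0, Int.ofNat 1, Int.negSucc 2, Int.negSucc 0, Int.negSucc 0, Int.negSucc 0, Int.negSucc 0, Int.negSucc 0, Int.negSucc 0, Int.ofNat 1, Int.negSucc 0, Int.ofNat 1, Int.negSucc 0, Int.ofNat 1, Int.negSucc 0, Int.ofNat 1, Int.ofNat 1, Int.negSucc 0, Int.ofNat 1, Int.negSucc 0, Int.negSucc 0, Int.negSucc 0, Int.negSucc 0, Int.negSucc 0],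
  [Int.negSucc 0, Int.negSucc 2, Int.ofNat 1, Int.ofNat 1, Int.negSucc 0, Int.ofNat 1, Int.ofNat 1, Int.ofNat 1, Int.negSucc 0, Int.ofNat 1, Int.negSucc 0, Int.ofNat 1, Int.negSucc 0, Int.ofNat 1, Int.ofNat 1, Int.ofNat 1, Int.ofNat 1, Int.ofNat 1, Int.ofNat 1, Int.ofNat 1, Int.negSucc 0, Int.ofNat 1, Int.negSucc 0, Int.negSucc 0],
  [Int.negSucc 0, Int.negSucc 2, Int.negSucc 0, Int.ofNat 1, Int.negSucc 0, Int.negSucc 0, Int.negSucc 0, Int.ofNat 1, Int.negSucc 0, Int.negSucc 0, Int.ofNat 1, Int.ofNat 1, Int.negSucc 0, Int.ofNat 1, Int.ofNat 1, Int.negSucc 0, Int.ofNat 1, Int.ofNat 1, Int.negSucc 0, Int.ofNat 1, Int.negSucc 0, Int.ofNat 1, Int.ofNat 1, Int.negSucc 0],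
  [Int.ofNat 1, Int.ofNat 1, Int.negSucc 0, Int.ofNat 1, Int.ofNat 1, Int.negSucc 0, Int.ofNat 1, Int.negSucc 0, Int.negSucc 0, Int.ofNat 1, Int.negSucc 0, Int.ofNat 1, Int.negSucc 0, Int.negSucc 0, Int.negSucc 0, Int.negSucc 2, Int.ofNat 1, Int.ofNat 1, Int.ofNat 1, Int.ofNat 1, Int.negSucc 0, Int.negSucc 0, Int.negSucc 0, Int.negSucc 0],
  [Int.ofNat 1, Int.ofNat 1, Int.ofNat 1, Int.ofNat 1, Int.ofNat 1, Int.ofNat 1, Int.negSucc 0, Int.negSucc 0, Int.negSucc 0, Int.negSucc 0, Int.ofNat 1, Int.ofNat 1, Int.negSucc 0, Int.negSucc 0, Int.negSucc 0, Int.ofNat 3, Int.ofNat 1, Int.ofNat 1, Int.negSucc 0, Int.ofNat 1, Int.negSucc 0, Int.negSucc 0, Int.ofNat 1, Int.negSucc 0],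
  [Int.ofNat 0, Int.ofNat 0, Int.ofNat 0, Int.ofNat 0, Int.ofNat 0, Int.ofNat 0, Int.ofNat 0, Int.ofNat 0, Int.ofNat 0, Int.negSucc 1, Int.ofNat 0, Int.ofNat 2, Int.ofNat 0, Int.negSucc 1, Int.negSucc 1, Int.ofNat 2, Int.ofNat 0, Int.ofNat 0, Int.ofNat 0, Int.ofNat 2, Int.negSucc 1, Int.ofNat 0, Int.ofNat 0, Int.ofNat 2],
  [Int.ofNat 0, Int.ofNat 0, Int.ofNat 0, Int.ofNat 0, Int.ofNat 0, Int.ofNat 0, Int.ofNat 0, Int.ofNat 0, Int.ofNat 0, Int.ofNat 0, Int.ofNat 0, Int.ofNat 2, Int.ofNat 0, Int.negSucc 1, Int.ofNat 0, Int.ofNat 2, Int.negSucc 1, Int.ofNat 2, Int.ofNat 0, Int.ofNat 0, Int.ofNat 0, Int.negSucc 1, Int.negSucc 1, Int.ofNat 2],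
  [Int.ofNat 1, Int.ofNat 1, Int.ofNat 1, Int.negSucc 0, Int.ofNat 3, Int.negSucc 0, Int.ofNat 1, Int.ofNat 1, Int.negSucc 0, Int.negSucc 0, Int.negSucc 0, Int.ofNat 1, Int.negSucc 0, Int.ofNat 1, Int.negSucc 0, Int.ofNat 1, Int.ofNat 1, Int.ofNat 1, Int.negSucc 0, Int.ofNat 1, Int.negSucc 0, Int.negSucc 0, Int.ofNat 1, Int.negSucc 0],
  [Int.negSucc 0, Int.negSucc 0, Int.ofNat 1, Int.ofNat 1, Int.ofNat 1, Int.ofNat 1, Int.negSucc 0, Int.ofNat 3, Int.negSucc 0, Int.ofNat 1, Int.ofNat 1, Int.negSucc 0, Int.negSucc 0, Int.negSucc 0, Int.ofNat 1, Int.negSucc 0, Int.ofNat 1, Int.negSucc 0, Int.ofNat 1, Int.ofNat 1, Int.ofNat 1, Int.negSucc 0, Int.ofNat 1, Int.negSucc 0],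
  [Int.ofNat 0, Int.ofNat 0, Int.negSucc 1, Int.ofNat 0, Int.ofNat 0, Int.ofNat 0, Int.negSucc 1, Int.ofNat 2, Int.ofNat 0, Int.ofNat 0, Int.ofNat 0, Int.ofNat 0, Int.ofNat 0, Int.negSucc 1, Int.ofNat 0, Int.negSucc 1, Int.ofNat 0, Int.negSucc 1, Int.ofNat 2, Int.ofNat 0, Int.ofNat 0, Int.negSucc 1, Int.ofNat 0, Int.ofNat 0],
  [Int.ofNat 0, Int.negSucc 1, Int.ofNat 0, Int.ofNat 0, Int.ofNat 0, Int.negSucc 1, Int.ofNat 2, Int.ofNat 0, Int.ofNat 0, Int.ofNat 0, Int.ofNat 0, Int.ofNat 0, Int.negSucc 1, Int.ofNat 0, Int.negSucc 1, Int.ofNat 0, Int.negSucc 1, Int.ofNat 2, Int.ofNat 0, Int.ofNat 0, Int.negSucc 1, Int.ofNat 0, Int.ofNat 0, Int.ofNat 0],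
  [Int.ofNat 0, Int.negSucc 1, Int.ofNat 0, Int.ofNat 0, Int.ofNat 0, Int.negSucc 1, Int.ofNat 2, Int.ofNat 0, Int.ofNat 0, Int.ofNat 0, Int.ofNat 0, Int.ofNat 0, Int.negSucc 1, Int.ofNat 0, Int.negSucc 1, Int.ofNat 0, Int.negSucc 1, Int.ofNat 2, Int.ofNat 0, Int.ofNat 0, Int.negSucc 1, Int.ofNat 0, Int.ofNat 0, Int.ofNat 0],
  [Int.ofNat 0, Int.ofNat 2, Int.ofNat 0, Int.ofNat 0, Int.ofNat 0, Int.negSucc 1, Int.negSucc 1, Int.ofNat 0, Int.ofNat 0, Int.ofNat 0, Int.ofNat 0, Int.ofNat 0, Int.ofNat 2, Int.ofNat 0, Int.negSucc 1, Int.ofNat 0, Int.ofNat 2, Int.ofNat 2, Int.ofNat 0, Int.ofNat 0, Int.negSucc 1, Int.ofNat 0, Int.ofNat 0, Int.ofNat 0],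
  [Int.ofNat 0, Int.ofNat 0, Int.ofNat 0, Int.ofNat 0, Int.ofNat 2, Int.ofNat 0, Int.ofNat 0, Int.ofNat 0, Int.negSucc 1, Int.negSucc 1, Int.ofNat 2, Int.ofNat 0, Int.ofNat 0, Int.ofNat 0, Int.ofNat 0, Int.ofNat 0, Int.ofNat 0, Int.ofNat 0, Int.negSucc 1, Int.negSucc 1, Int.ofNat 0, Int.ofNat 2, Int.ofNat 2, Int.ofNat 0],
  [Int.ofNat 0, Int.ofNat 0, Int.ofNat 0, Int.ofNat 0, Int.ofNat 2, Int.ofNat 0, Int.ofNat 0, Int.ofNat 0, Int.negSucc 1, Int.ofNat 2, Int.negSucc 1, Int.ofNat 0, Int.ofNat 0, Int.ofNat 0, Int.ofNat 0, Int.ofNat 0, Int.ofNat 0, Int.ofNat 0, Int.ofNat 2, Int.negSucc 1, Int.ofNat 0, Int.negSucc 1, Int.ofNat 2, Int.ofNat 0],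
  [Int.ofNat 2, Int.ofNat 0, Int.ofNat 0, Int.ofNat 0, Int.ofNat 0, Int.ofNat 2, Int.ofNat 0, Int.ofNat 0, Int.ofNat 0, Int.negSucc 1, Int.ofNat 2, Int.negSucc 1, Int.ofNat 0, Int.ofNat 0, Int.ofNat 0, Int.ofNat 0, Int.ofNat 0, Int.ofNat 0, Int.ofNat 0, Int.ofNat 2, Int.negSucc 1, Int.ofNat 0, Int.negSucc 1, Int.ofNat 0],
  [Int.negSucc 0, Int.ofNat 1, Int.ofNat 1, Int.negSucc 0, Int.ofNat 1, Int.ofNat 1, Int.negSucc 0, Int.negSucc 0, Int.ofNat 1, Int.negSucc 0, Int.ofNat 3, Int.negSucc 0, Int.ofNat 1, Int.ofNat 1, Int.negSucc 0, Int.ofNat 1, Int.ofNat 1, Int.negSucc 0, Int.ofNat 1, Int.ofNat 1, Int.negSucc 0, Int.negSucc 0, Int.negSucc 0, Int.ofNat 1],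
  [Int.negSucc 0, Int.ofNat 1, Int.ofNat 1, Int.negSucc 0, Int.negSucc 0, Int.ofNat 1, Int.negSucc 0, Int.ofNat 3, Int.negSucc 0, Int.ofNat 1, Int.ofNat 1, Int.negSucc 0, Int.ofNat 1, Int.ofNat 1, Int.negSucc 0, Int.ofNat 1, Int.ofNat 1, Int.negSucc 0, Int.negSucc 0, Int.negSucc 0, Int.negSucc 0, Int.ofNat 1, Int.ofNat 1, Int.ofNat 1],
  [Int.ofNat 2, Int.ofNat 0, Int.ofNat 0, Int.ofNat 0, Int.negSucc 1, Int.ofNat 2, Int.negSucc 1, Int.ofNat 2, Int.ofNat 0, Int.ofNat 0, Int.ofNat 0, Int.ofNat 0, Int.ofNat 2, Int.ofNat 0, Int.ofNat 0, Int.ofNat 0, Int.ofNat 0, Int.ofNat 0, Int.ofNat 0, Int.negSucc 1, Int.negSucc 1, Int.ofNat 0, Int.ofNat 0, Int.ofNat 0],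
  [Int.ofNat 2, Int.negSucc 1, Int.negSucc 1, Int.ofNat 0, Int.ofNat 0, Int.ofNat 2, Int.ofNat 0, Int.ofNat 0, Int.ofNat 2, Int.ofNat 0, Int.negSucc 1, Int.ofNat 0, Int.ofNat 0, Int.ofNat 0, Int.ofNat 0, Int.ofNat 0, Int.ofNat 0, Int.ofNat 0, Int.ofNat 0, Int.ofNat 0, Int.ofNat 0, Int.ofNat 2, Int.negSucc 1, Int.ofNat 0],
  [Int.negSucc 2, Int.ofNat 1, Int.ofNat 1, Int.negSucc 0, Int.ofNat 1, Int.ofNat 1, Int.negSucc 0, Int.negSucc 0, Int.ofNat 1, Int.ofNat 1, Int.negSucc 0, Int.negSucc 0, Int.negSucc 0, Int.ofNat 1, Int.negSucc 0, Int.ofNat 1, Int.ofNat 1, Int.negSucc 0, Int.negSucc 0, Int.negSucc 0, Int.ofNat 1, Int.ofNat 1, Int.negSucc 0, Int.negSucc 0],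
  [Int.negSucc 2, Int.ofNat 1, Int.negSucc 0, Int.negSucc 0, Int.ofNat 1, Int.negSucc 0, Int.ofNat 1, Int.negSucc 0, Int.ofNat 1, Int.negSucc 0, Int.ofNat 1, Int.negSucc 0, Int.negSucc 0, Int.ofNat 1, Int.negSucc 0, Int.negSucc 0, Int.ofNat 1, Int.negSucc 0, Int.ofNat 1, Int.negSucc 0, Int.ofNat 1, Int.ofNat 1, Int.ofNat 1, Int.negSucc 0],
  [Int.ofNat 1, Int.negSucc 0, Int.ofNat 1, Int.negSucc 0, Int.ofNat 1, Int.negSucc 0, Int.negSucc 0, Int.negSucc 2, Int.negSucc 0, Int.negSucc 0, Int.ofNat 1, Int.negSucc 0, Int.ofNat 1, Int.negSucc 0, Int.ofNat 1, Int.ofNat 1, Int.ofNat 1, Int.ofNat 1, Int.ofNat 1, Int.negSucc 0, Int.negSucc 0, Int.ofNat 1, Int.negSucc 0, Int.negSucc 0],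
  [Int.ofNat 1, Int.negSucc 0, Int.negSucc 0, Int.negSucc 0, Int.ofNat 1, Int.ofNat 1, Int.ofNat 1, Int.negSucc 2, Int.negSucc 0, Int.ofNat 1, Int.negSucc 0, Int.negSucc 0, Int.ofNat 1, Int.negSucc 0, Int.ofNat 1, Int.negSucc 0, Int.ofNat 1, Int.ofNat 1, Int.negSucc 0, Int.negSucc 0, Int.negSucc 0, Int.ofNat 1, Int.ofNat 1, Int.negSucc 0],
  [Int.negSucc 1, Int.ofNat 0, Int.ofNat 0, Int.negSucc 1, Int.ofNat 0, Int.ofNat 0, Int.ofNat 2, Int.negSucc 1, Int.ofNat 0, Int.ofNat 2, Int.ofNat 0, Int.ofNat 0, Int.ofNat 2, Int.negSucc 1, Int.ofNat 0, Int.ofNat 0, Int.ofNat 0, Int.ofNat 0, Int.ofNat 0, Int.ofNat 0, Int.ofNat 0, Int.ofNat 2, Int.ofNat 0, Int.ofNat 0],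
  [Int.negSucc 1, Int.ofNat 0, Int.ofNat 2, Int.negSucc 1, Int.ofNat 0, Int.ofNat 2, Int.ofNat 0, Int.ofNat 0, Int.ofNat 0, Int.ofNat 2, Int.negSucc 1, Int.ofNat 0, Int.ofNat 0, Int.ofNat 2, Int.ofNat 0, Int.ofNat 0, Int.negSucc 1, Int.ofNat 0, Int.ofNat 0, Int.ofNat 0, Int.ofNat 0, Int.ofNat 0, Int.ofNat 0, Int.ofNat 0],
  [Int.ofNat 2, Int.ofNat 0, Int.negSucc 1, Int.negSucc 1, Int.ofNat 0, Int.ofNat 2, Int.ofNat 0, Int.ofNat 0, Int.ofNat 0, Int.ofNat 2, Int.negSucc 1, Int.ofNat 0, Int.ofNat 0, Int.ofNat 2, Int.ofNat 0, Int.ofNat 0, Int.negSucc 1, Int.ofNat 0, Int.ofNat 0, Int.ofNat 0, Int.ofNat 0, Int.ofNat 0, Int.ofNat 0, Int.ofNat 0],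
  [Int.ofNat 0, Int.ofNat 0, Int.ofNat 0, Int.ofNat 2, Int.ofNat 0, Int.negSucc 1, Int.negSucc 1, Int.ofNat 0, Int.ofNat 2, Int.ofNat 0, Int.ofNat 0, Int.ofNat 0, Int.ofNat 2, Int.negSucc 1, Int.ofNat 0, Int.ofNat 0, Int.ofNat 2, Int.ofNat 0, Int.ofNat 0, Int.negSucc 1, Int.ofNat 0, Int.ofNat 0, Int.ofNat 0, Int.ofNat 0],
  [Int.ofNat 0, Int.ofNat 0, Int.ofNat 0, Int.ofNat 2, Int.ofNat 0, Int.negSucc 1, Int.ofNat 0, Int.ofNat 2, Int.ofNat 0, Int.ofNat 0, Int.ofNat 0, Int.negSucc 1, Int.ofNat 0, Int.negSucc 1, Int.ofNat 0, Int.ofNat 0, Int.ofNat 2, Int.ofNat 0, Int.negSucc 1, Int.ofNat 0, Int.ofNat 0, Int.ofNat 2, Int.ofNat 0, Int.ofNat 0],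
  [Int.ofNat 0, Int.ofNat 0, Int.ofNat 2, Int.ofNat 0, Int.negSucc 1, Int.ofNat 0, Int.ofNat 2, Int.ofNat 0, Int.ofNat 0, Int.ofNat 0, Int.negSucc 1, Int.ofNat 0, Int.negSucc 1, Int.ofNat 0, Int.ofNat 0, Int.ofNat 2, Int.ofNat 0, Int.negSucc 1, Int.ofNat 0, Int.ofNat 0, Int.ofNat 2, Int.ofNat 0, Int.ofNat 0, Int.ofNat 0],
  [Int.ofNat 0, Int.ofNat 0, Int.negSucc 1, Int.ofNat 0, Int.negSucc 1, Int.ofNat 0, Int.ofNat 2, Int.ofNat 0, Int.ofNat 0, Int.ofNat 0, Int.ofNat 2, Int.ofNat 0, Int.negSucc 1, Int.ofNat 0, Int.ofNat 0, Int.ofNat 2, Int.ofNat 0, Int.negSucc 1, Int.ofNat 0, Int.ofNat 0, Int.ofNat 2, Int.ofNat 0, Int.ofNat 0, Int.ofNat 0],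
  [Int.ofNat 0, Int.ofNat 0, Int.ofNat 2, Int.ofNat 0, Int.ofNat 2, Int.ofNat 0, Int.negSucc 1, Int.ofNat 0, Int.ofNat 0, Int.ofNat 0, Int.ofNat 2, Int.ofNat 0, Int.ofNat 2, Int.ofNat 0, Int.ofNat 0, Int.ofNat 2, Int.ofNat 0, Int.negSucc 1, Int.ofNat 0, Int.ofNat 0, Int.ofNat 2, Int.ofNat 0, Int.ofNat 0, Int.ofNat 0],
  [Int.ofNat 0, Int.ofNat 0, Int.ofNat 0, Int.ofNat 2, Int.negSucc 1, Int.ofNat 0, Int.ofNat 0, Int.ofNat 0, Int.ofNat 2, Int.ofNat 0, Int.ofNat 0, Int.ofNat 2, Int.ofNat 0, Int.ofNat 0, Int.ofNat 0, Int.ofNat 0, Int.ofNat 2, Int.ofNat 2, Int.ofNat 0, Int.negSucc 1, Int.ofNat 0, Int.ofNat 2, Int.ofNat 0, Int.ofNat 0],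
  [Int.ofNat 0, Int.ofNat 0, Int.ofNat 0, Int.ofNat 2, Int.negSucc 1, Int.ofNat 0, Int.ofNat 0, Int.ofNat 0, Int.ofNat 2, Int.ofNat 0, Int.ofNat 0, Int.negSucc 1, Int.ofNat 0, Int.ofNat 0, Int.ofNat 0, Int.ofNat 0, Int.ofNat 2, Int.ofNat 2, Int.ofNat 0, Int.negSucc 1, Int.ofNat 0, Int.negSucc 1, Int.ofNat 0, Int.ofNat 0],
  [Int.ofNat 0, Int.ofNat 0, Int.ofNat 0, Int.ofNat 0, Int.ofNat 2, Int.negSucc 1, Int.ofNat 0, Int.ofNat 0, Int.ofNat 0, Int.ofNat 2, Int.ofNat 0, Int.ofNat 0, Int.negSucc 1, Int.ofNat 0, Int.ofNat 0, Int.ofNat 0, Int.ofNat 0, Int.ofNat 2, Int.ofNat 2, Int.ofNat 0, Int.negSucc 1, Int.ofNat 0, Int.negSucc 1, Int.ofNat 0],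
  [Int.ofNat 0, Int.ofNat 0, Int.ofNat 0, Int.ofNat 0, Int.ofNat 2, Int.negSucc 1, Int.ofNat 0, Int.ofNat 0, Int.ofNat 0, Int.ofNat 2, Int.ofNat 0, Int.ofNat 0, Int.negSucc 1, Int.ofNat 0, Int.ofNat 0, Int.ofNat 0, Int.ofNat 0, Int.ofNat 2, Int.ofNat 2, Int.ofNat 0, Int.negSucc 1, Int.ofNat 0, Int.negSucc 1, Int.ofNat 0],
  [Int.ofNat 0, Int.ofNat 2, Int.negSucc 1, Int.ofNat 0, Int.ofNat 0, Int.ofNat 0, Int.ofNat 2, Int.ofNat 0, Int.ofNat 0, Int.negSucc 1, Int.ofNat 0, Int.ofNat 0, Int.ofNat 0, Int.ofNat 0, Int.ofNat 2, Int.ofNat 2, Int.ofNat 0, Int.negSucc 1, Int.ofNat 0, Int.negSucc 1, Int.ofNat 0, Int.ofNat 0, Int.ofNat 0, Int.ofNat 0],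
  [Int.ofNat 0, Int.negSucc 1, Int.ofNat 2, Int.ofNat 0, Int.ofNat 0, Int.ofNat 0, Int.ofNat 2, Int.ofNat 0, Int.ofNat 0, Int.negSucc 1, Int.ofNat 0, Int.ofNat 0, Int.ofNat 0, Int.ofNat 0, Int.ofNat 2, Int.ofNat 2, Int.ofNat 0, Int.negSucc 1, Int.ofNat 0, Int.negSucc 1, Int.ofNat 0, Int.ofNat 0, Int.ofNat 0, Int.ofNat 0],
  [Int.ofNat 0, Int.ofNat 2, Int.ofNat 0, Int.ofNat 0, Int.ofNat 0, Int.ofNat 0, Int.ofNat 2, Int.ofNat 0, Int.ofNat 0, Int.ofNat 0, Int.ofNat 0, Int.negSucc 1, Int.negSucc 1, Int.ofNat 0, Int.ofNat 0, Int.ofNat 2, Int.ofNat 0, Int.ofNat 2, Int.negSucc 1, Int.ofNat 0, Int.ofNat 0, Int.ofNat 0, Int.negSucc 1, Int.ofNat 0],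
  [Int.ofNat 1, Int.negSucc 0, Int.ofNat 1, Int.negSucc 0, Int.ofNat 1, Int.negSucc 0, Int.ofNat 1, Int.negSucc 0, Int.ofNat 3, Int.negSucc 0, Int.negSucc 0, Int.ofNat 1, Int.ofNat 1, Int.ofNat 1, Int.negSucc 0, Int.ofNat 1, Int.ofNat 1, Int.ofNat 1, Int.ofNat 1, Int.negSucc 0, Int.negSucc 0, Int.negSucc 0, Int.negSucc 0, Int.ofNat 1],
  [Int.ofNat 1, Int.negSucc 0, Int.negSucc 0, Int.negSucc 0, Int.ofNat 1, Int.ofNat 1, Int.negSucc 0, Int.negSucc 0, Int.ofNat 3, Int.ofNat 1, Int.ofNat 1, Int.ofNat 1, Int.ofNat 1, Int.ofNat 1, Int.negSucc 0, Int.negSucc 0, Int.ofNat 1, Int.ofNat 1, Int.negSucc 0, Int.negSucc 0, Int.negSucc 0, Int.negSucc 0, Int.ofNat 1, Int.ofNat 1],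
  [Int.negSucc 0, Int.negSucc 0, Int.negSucc 0, Int.negSucc 0, Int.ofNat 1, Int.ofNat 1, Int.ofNat 1, Int.ofNat 1, Int.negSucc 0, Int.negSucc 0, Int.negSucc 0, Int.negSucc 0, Int.ofNat 3, Int.negSucc 0, Int.ofNat 1, Int.negSucc 0, Int.ofNat 1, Int.ofNat 1, Int.ofNat 1, Int.ofNat 1, Int.ofNat 1, Int.negSucc 0, Int.ofNat 1, Int.ofNat 1],
  [Int.negSucc 0, Int.negSucc 0, Int.ofNat 1, Int.negSucc 0, Int.ofNat 1, Int.negSucc 0, Int.negSucc 0, Int.ofNat 1, Int.negSucc 0, Int.ofNat 1, Int.ofNat 1, Int.negSucc 0, Int.ofNat 3, Int.negSucc 0, Int.ofNat 1, Int.ofNat 1, Int.ofNat 1, Int.ofNat 1, Int.negSucc 0, Int.ofNat 1, Int.ofNat 1, Int.negSucc 0, Int.negSucc 0, Int.ofNat 1],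
  [Int.ofNat 1, Int.ofNat 1, Int.negSucc 0, Int.negSucc 0, Int.ofNat 1, Int.negSucc 0, Int.negSucc 0, Int.ofNat 1, Int.negSucc 0, Int.negSucc 0, Int.negSucc 0, Int.negSucc 0, Int.ofNat 3, Int.negSucc 0, Int.ofNat 1, Int.negSucc 0, Int.ofNat 1, Int.ofNat 1, Int.negSucc 0, Int.ofNat 1, Int.negSucc 0, Int.negSucc 0, Int.negSucc 0, Int.negSucc 0],
  [Int.ofNat 1, Int.negSucc 0, Int.negSucc 0, Int.negSucc 0, Int.negSucc 0, Int.negSucc 0, Int.ofNat 1, Int.negSucc 0, Int.ofNat 1, Int.ofNat 3, Int.ofNat 1, Int.ofNat 1, Int.negSucc 0, Int.negSucc 0, Int.ofNat 1, Int.negSucc 0, Int.negSucc 0, Int.negSucc 0, Int.ofNat 1, Int.negSucc 0, Int.negSucc 0, Int.negSucc 0, Int.ofNat 1, Int.negSucc 0],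
  [Int.negSucc 1, Int.ofNat 0, Int.ofNat 0, Int.ofNat 0, Int.ofNat 0, Int.ofNat 0, Int.ofNat 2, Int.ofNat 0, Int.ofNat 0, Int.ofNat 2, Int.ofNat 0, Int.ofNat 0, Int.negSucc 1, Int.ofNat 0, Int.ofNat 2, Int.negSucc 1, Int.ofNat 0, Int.ofNat 0, Int.ofNat 0, Int.ofNat 0, Int.negSucc 1, Int.ofNat 0, Int.ofNat 2, Int.ofNat 0],
  [Int.negSucc 1, Int.ofNat 0, Int.ofNat 2, Int.negSucc 1, Int.ofNat 0, Int.ofNat 0, Int.ofNat 0, Int.ofNat 0, Int.ofNat 0, Int.ofNat 2, Int.ofNat 0, Int.ofNat 0, Int.ofNat 2, Int.ofNat 0, Int.ofNat 0, Int.negSucc 1, Int.ofNat 0, Int.ofNat 2, Int.negSucc 1, Int.ofNat 0, Int.ofNat 0, Int.ofNat 0, Int.ofNat 0, Int.ofNat 0],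
  [Int.ofNat 2, Int.ofNat 0, Int.negSucc 1, Int.negSucc 1, Int.ofNat 0, Int.ofNat 0, Int.ofNat 0, Int.ofNat 0, Int.ofNat 0, Int.ofNat 2, Int.ofNat 0, Int.ofNat 0, Int.ofNat 2, Int.ofNat 0, Int.ofNat 0, Int.negSucc 1, Int.ofNat 0, Int.ofNat 2, Int.negSucc 1, Int.ofNat 0, Int.ofNat 0, Int.ofNat 0, Int.ofNat 0, Int.ofNat 0],
  [Int.ofNat 0, Int.negSucc 1, Int.negSucc 1, Int.ofNat 0, Int.ofNat 0, Int.ofNat 0, Int.ofNat 0, Int.ofNat 0, Int.ofNat 2, Int.ofNat 0, Int.ofNat 0, Int.ofNat 2, Int.ofNat 0, Int.ofNat 0, Int.negSucc 1, Int.ofNat 0, Int.ofNat 2, Int.negSucc 1, Int.ofNat 0, Int.ofNat 0, Int.ofNat 0, Int.ofNat 0, Int.ofNat 2, Int.ofNat 0],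
  [Int.ofNat 0, Int.negSucc 1, Int.ofNat 2, Int.ofNat 0, Int.ofNat 0, Int.ofNat 0, Int.ofNat 0, Int.ofNat 0, Int.ofNat 2, Int.ofNat 0, Int.ofNat 0, Int.negSucc 1, Int.ofNat 0, Int.ofNat 0, Int.negSucc 1, Int.ofNat 0, Int.ofNat 2, Int.negSucc 1, Int.ofNat 0, Int.ofNat 0, Int.ofNat 0, Int.ofNat 0, Int.ofNat 2, Int.ofNat 0],
  [Int.ofNat 0, Int.ofNat 2, Int.negSucc 1, Int.ofNat 0, Int.ofNat 0, Int.ofNat 0, Int.ofNat 0, Int.ofNat 0, Int.negSucc 1, Int.ofNat 0, Int.ofNat 0, Int.negSucc 1, Int.ofNat 0, Int.ofNat 0, Int.negSucc 1, Int.ofNat 0, Int.negSucc 1, Int.negSucc 1, Int.ofNat 0, Int.ofNat 0, Int.ofNat 0, Int.ofNat 0, Int.ofNat 2, Int.ofNat 0],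
  [Int.ofNat 0, Int.ofNat 2, Int.negSucc 1, Int.ofNat 0, Int.negSucc 1, Int.ofNat 0, Int.ofNat 0, Int.ofNat 0, Int.ofNat 0, Int.ofNat 0, Int.negSucc 1, Int.negSucc 1, Int.ofNat 0, Int.ofNat 0, Int.ofNat 0, Int.ofNat 0, Int.ofNat 0, Int.ofNat 0, Int.negSucc 1, Int.ofNat 0, Int.negSucc 1, Int.ofNat 0, Int.ofNat 2, Int.ofNat 0],
  [Int.ofNat 0, Int.ofNat 2, Int.ofNat 2, Int.ofNat 0, Int.negSucc 1, Int.ofNat 0, Int.ofNat 0, Int.ofNat 0, Int.ofNat 0, Int.ofNat 0, Int.ofNat 2, Int.ofNat 2, Int.ofNat 0, Int.ofNat 0, Int.ofNat 0, Int.ofNat 0, Int.ofNat 0, Int.ofNat 0, Int.ofNat 2, Int.ofNat 0, Int.negSucc 1, Int.ofNat 0, Int.ofNat 2, Int.ofNat 0],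
  [Int.ofNat 2, Int.ofNat 0, Int.ofNat 2, Int.ofNat 2, Int.ofNat 0, Int.negSucc 1, Int.ofNat 0, Int.ofNat 0, Int.ofNat 0, Int.ofNat 0, Int.ofNat 0, Int.ofNat 2, Int.ofNat 2, Int.ofNat 0, Int.ofNat 0, Int.ofNat 0, Int.ofNat 0, Int.ofNat 0, Int.ofNat 0, Int.ofNat 2, Int.ofNat 0, Int.negSucc 1, Int.ofNat 0, Int.ofNat 0],
  [Int.ofNat 0, Int.ofNat 2, Int.ofNat 0, Int.ofNat 2, Int.ofNat 0, Int.negSucc 1, Int.ofNat 0, Int.ofNat 0, Int.negSucc 1, Int.ofNat 0, Int.ofNat 0, Int.ofNat 0, Int.ofNat 0, Int.ofNat 0, Int.ofNat 0, Int.ofNat 0, Int.ofNat 0, Int.ofNat 0, Int.negSucc 1, Int.ofNat 2, Int.ofNat 0, Int.negSucc 1, Int.ofNat 0, Int.ofNat 2],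
  [Int.ofNat 2, Int.ofNat 0, Int.negSucc 1, Int.ofNat 0, Int.ofNat 0, Int.negSucc 1, Int.ofNat 0, Int.ofNat 0, Int.ofNat 0, Int.ofNat 0, Int.ofNat 0, Int.ofNat 0, Int.ofNat 0, Int.ofNat 0, Int.ofNat 0, Int.negSucc 1, Int.ofNat 2, Int.ofNat 0, Int.negSucc 1, Int.ofNat 0, Int.ofNat 0, Int.ofNat 2, Int.ofNat 0, Int.ofNat 2],
  [Int.negSucc 0, Int.ofNat 1, Int.ofNat 3, Int.ofNat 1, Int.negSucc 0, Int.negSucc 0, Int.negSucc 0, Int.negSucc 0, Int.ofNat 1, Int.ofNat 1, Int.ofNat 1, Int.ofNat 1, Int.ofNat 1, Int.negSucc 0, Int.ofNat 1, Int.negSucc 0, Int.ofNat 1, Int.ofNat 1, Int.negSucc 0, Int.negSucc 0, Int.ofNat 1, Int.ofNat 1, Int.negSucc 0, Int.negSucc 0],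
  [Int.negSucc 0, Int.negSucc 0, Int.negSucc 0, Int.ofNat 1, Int.negSucc 0, Int.negSucc 0, Int.ofNat 3, Int.ofNat 1, Int.ofNat 1, Int.negSucc 0, Int.ofNat 1, Int.ofNat 1, Int.ofNat 1, Int.ofNat 1, Int.negSucc 0, Int.negSucc 0, Int.ofNat 1, Int.ofNat 1, Int.ofNat 1, Int.ofNat 1, Int.ofNat 1, Int.negSucc 0, Int.negSucc 0, Int.negSucc 0],
  [Int.negSucc 0, Int.negSucc 0, Int.negSucc 0, Int.ofNat 1, Int.negSucc 0, Int.negSucc 0, Int.ofNat 1, Int.negSucc 0, Int.negSucc 0, Int.negSucc 0, Int.ofNat 1, Int.negSucc 0, Int.negSucc 0, Int.ofNat 1, Int.negSucc 0, Int.negSucc 0, Int.ofNat 1, Int.ofNat 1, Int.negSucc 0, Int.negSucc 0, Int.ofNat 1, Int.negSucc 2, Int.negSucc 0, Int.negSucc 0],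
  [Int.negSucc 0, Int.negSucc 0, Int.ofNat 1, Int.ofNat 1, Int.negSucc 0, Int.ofNat 1, Int.negSucc 0, Int.negSucc 0, Int.negSucc 0, Int.ofNat 1, Int.negSucc 0, Int.negSucc 0, Int.negSucc 0, Int.ofNat 1, Int.negSucc 0, Int.ofNat 1, Int.ofNat 1, Int.ofNat 1, Int.ofNat 1, Int.negSucc 0, Int.ofNat 1, Int.negSucc 2, Int.ofNat 1, Int.negSucc 0],
  [Int.negSucc 2, Int.ofNat 1, Int.negSucc 0, Int.negSucc 0, Int.ofNat 1, Int.negSucc 0, Int.ofNat 1, Int.negSucc 0, Int.ofNat 1, Int.negSucc 0, Int.ofNat 1, Int.negSucc 0, Int.negSucc 0, Int.ofNat 1, Int.negSucc 0, Int.negSucc 0, Int.ofNat 1, Int.negSucc 0, Int.ofNat 1, Int.negSucc 0, Int.ofNat 1, Int.ofNat 1, Int.ofNat 1, Int.negSucc 0],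
  [Int.negSucc 2, Int.ofNat 1, Int.ofNat 1, Int.negSucc 0, Int.ofNat 1, Int.ofNat 1, Int.negSucc 0, Int.negSucc 0, Int.ofNat 1, Int.ofNat 1, Int.negSucc 0, Int.negSucc 0, Int.negSucc 0, Int.ofNat 1, Int.negSucc 0, Int.ofNat 1, Int.ofNat 1, Int.negSucc 0, Int.negSucc 0, Int.negSucc 0, Int.ofNat 1, Int.ofNat 1, Int.negSucc 0, Int.negSucc 0],
  [Int.ofNat 2, Int.negSucc 1, Int.negSucc 1, Int.ofNat 0, Int.ofNat 0, Int.ofNat 2, Int.ofNat 0, Int.ofNat 0, Int.ofNat 2, Int.ofNat 0, Int.negSucc 1, Int.ofNat 0, Int.ofNat 0, Int.ofNat 0, Int.ofNat 0, Int.ofNat 0, Int.ofNat 0, Int.ofNat 0, Int.ofNat 0, Int.ofNat 0, Int.ofNat 0, Int.ofNat 2, Int.negSucc 1, Int.ofNat 0],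
  [Int.ofNat 2, Int.ofNat 0, Int.ofNat 0, Int.ofNat 0, Int.negSucc 1, Int.ofNat 2, Int.negSucc 1, Int.ofNat 2, Int.ofNat 0, Int.ofNat 0, Int.ofNat 0, Int.ofNat 0, Int.ofNat 2, Int.ofNat 0, Int.ofNat 0, Int.ofNat 0, Int.ofNat 0, Int.ofNat 0, Int.ofNat 0, Int.negSucc 1, Int.negSucc 1, Int.ofNat 0, Int.ofNat 0, Int.ofNat 0],
  [Int.negSucc 0, Int.ofNat 1, Int.ofNat 1, Int.negSucc 0, Int.negSucc 0, Int.ofNat 1, Int.negSucc 0, Int.ofNat 3, Int.negSucc 0, Int.ofNat 1, Int.ofNat 1, Int.negSucc 0, Int.ofNat 1, Int.ofNat 1, Int.negSucc 0, Int.ofNat 1, Int.ofNat 1, Int.negSucc 0, Int.negSucc 0, Int.negSucc 0, Int.negSucc 0, Int.ofNat 1, Int.ofNat 1, Int.ofNat 1],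
  [Int.negSucc 0, Int.ofNat 1, Int.ofNat 1, Int.negSucc 0, Int.ofNat 1, Int.ofNat 1, Int.negSucc 0, Int.negSucc 0, Int.ofNat 1, Int.negSucc 0, Int.ofNat 3, Int.negSucc 0, Int.ofNat 1, Int.ofNat 1, Int.negSucc 0, Int.ofNat 1, Int.ofNat 1, Int.negSucc 0, Int.ofNat 1, Int.ofNat 1, Int.negSucc 0, Int.negSucc 0, Int.negSucc 0, Int.ofNat 1],
  [Int.ofNat 2, Int.ofNat 0, Int.ofNat 0, Int.ofNat 0, Int.ofNat 0, Int.ofNat 2, Int.ofNat 0, Int.ofNat 0, Int.ofNat 0, Int.negSucc 1, Int.ofNat 2, Int.negSucc 1, Int.ofNat 0, Int.ofNat 0, Int.ofNat 0, Int.ofNat 0, Int.ofNat 0, Int.ofNat 0, Int.ofNat 0, Int.ofNat 2, Int.negSucc 1, Int.ofNat 0, Int.negSucc 1, Int.ofNat 0],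
  [Int.ofNat 0, Int.ofNat 0, Int.ofNat 0, Int.ofNat 0, Int.ofNat 2, Int.ofNat 0, Int.ofNat 0, Int.ofNat 0, Int.negSucc 1, Int.ofNat 2, Int.negSucc 1, Int.ofNat 0, Int.ofNat 0, Int.ofNat 0, Int.ofNat 0, Int.ofNat 0, Int.ofNat 0, Int.ofNat 0, Int.ofNat 2, Int.negSucc 1, Int.ofNat 0, Int.negSucc 1, Int.ofNat 2, Int.ofNat 0],
  [Int.ofNat 0, Int.ofNat 0, Int.ofNat 0, Int.ofNat 0, Int.ofNat 2, Int.ofNat 0, Int.ofNat 0, Int.ofNat 0, Int.negSucc 1, Int.negSucc 1, Int.ofNat 2, Int.ofNat 0, Int.ofNat 0, Int.ofNat 0, Int.ofNat 0, Int.ofNat 0, Int.ofNat 0, Int.ofNat 0, Int.negSucc 1, Int.negSucc 1, Int.ofNat 0, Int.ofNat 2, Int.ofNat 2, Int.ofNat 0],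
  [Int.ofNat 0, Int.ofNat 0, Int.ofNat 0, Int.ofNat 0, Int.negSucc 1, Int.ofNat 0, Int.ofNat 0, Int.ofNat 0, Int.ofNat 2, Int.ofNat 2, Int.ofNat 2, Int.ofNat 0, Int.ofNat 0, Int.ofNat 0, Int.ofNat 0, Int.ofNat 0, Int.ofNat 0, Int.ofNat 0, Int.ofNat 2, Int.negSucc 1, Int.ofNat 0, Int.ofNat 2, Int.ofNat 2, Int.ofNat 0],
  [Int.ofNat 0, Int.ofNat 2, Int.ofNat 0, Int.ofNat 0, Int.ofNat 0, Int.ofNat 2, Int.negSucc 1, Int.ofNat 0, Int.ofNat 0, Int.ofNat 0, Int.ofNat 0, Int.ofNat 0, Int.ofNat 2, Int.ofNat 0, Int.ofNat 2, Int.ofNat 0, Int.ofNat 2, Int.negSucc 1, Int.ofNat 0, Int.ofNat 0, Int.ofNat 2, Int.ofNat 0, Int.ofNat 0, Int.ofNat 0],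
  [Int.ofNat 0, Int.ofNat 2, Int.ofNat 0, Int.ofNat 0, Int.ofNat 0, Int.ofNat 2, Int.negSucc 1, Int.ofNat 0, Int.ofNat 0, Int.ofNat 0, Int.ofNat 0, Int.ofNat 0, Int.ofNat 2, Int.ofNat 0, Int.ofNat 2, Int.ofNat 0, Int.ofNat 2, Int.negSucc 1, Int.ofNat 0, Int.ofNat 0, Int.ofNat 2, Int.ofNat 0, Int.ofNat 0, Int.ofNat 0],
  [Int.ofNat 0, Int.ofNat 0, Int.ofNat 2, Int.ofNat 0, Int.ofNat 0, Int.ofNat 0, Int.ofNat 2, Int.negSucc 1, Int.ofNat 0, Int.ofNat 0, Int.ofNat 0, Int.ofNat 0, Int.ofNat 0, Int.ofNat 2, Int.ofNat 0, Int.ofNat 2, Int.ofNat 0, Int.ofNat 2, Int.negSucc 1, Int.ofNat 0, Int.ofNat 0, Int.ofNat 2, Int.ofNat 0, Int.ofNat 0],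
  [Int.ofNat 1, Int.ofNat 1, Int.negSucc 0, Int.negSucc 0, Int.negSucc 0, Int.negSucc 0, Int.ofNat 1, Int.negSucc 2, Int.ofNat 1, Int.negSucc 0, Int.negSucc 0, Int.ofNat 1, Int.ofNat 1, Int.ofNat 1, Int.negSucc 0, Int.ofNat 1, Int.negSucc 0, Int.ofNat 1, Int.negSucc 0, Int.negSucc 0, Int.negSucc 0, Int.ofNat 1, Int.negSucc 0, Int.ofNat 1],
  [Int.negSucc 0, Int.negSucc 0, Int.negSucc 0, Int.ofNat 1, Int.negSucc 2, Int.ofNat 1, Int.negSucc 0, Int.negSucc 0, Int.ofNat 1, Int.ofNat 1, Int.ofNat 1, Int.negSucc 0, Int.ofNat 1, Int.negSucc 0, Int.ofNat 1, Int.negSucc 0, Int.negSucc 0, Int.negSucc 0, Int.ofNat 1, Int.negSucc 0, Int.ofNat 1, Int.ofNat 1, Int.negSucc 0, Int.ofNat 1],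
  [Int.ofNat 0, Int.ofNat 0, Int.ofNat 0, Int.ofNat 0, Int.ofNat 0, Int.ofNat 0, Int.ofNat 0, Int.ofNat 0, Int.ofNat 0, Int.ofNat 0, Int.ofNat 0, Int.negSucc 1, Int.ofNat 0, Int.ofNat 2, Int.ofNat 0, Int.negSucc 1, Int.ofNat 2, Int.negSucc 1, Int.ofNat 0, Int.ofNat 0, Int.ofNat 0, Int.ofNat 2, Int.ofNat 2, Int.negSucc 1],
  [Int.ofNat 0, Int.ofNat 0, Int.ofNat 0, Int.ofNat 0, Int.ofNat 0, Int.ofNat 0, Int.ofNat 0, Int.ofNat 0, Int.ofNat 0, Int.ofNat 2, Int.ofNat 0, Int.negSucc 1, Int.ofNat 0, Int.ofNat 2, Int.ofNat 2, Int.negSucc 1, Int.ofNat 0, Int.ofNat 0, Int.ofNat 0, Int.negSucc 1, Int.ofNat 2, Int.ofNat 0, Int.ofNat 0, Int.negSucc 1],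
  [Int.negSucc 0, Int.negSucc 0, Int.negSucc 0, Int.negSucc 0, Int.negSucc 0, Int.negSucc 0, Int.ofNat 1, Int.ofNat 1, Int.ofNat 1, Int.ofNat 1, Int.negSucc 0, Int.negSucc 0, Int.ofNat 1, Int.ofNat 1, Int.ofNat 1, Int.negSucc 2, Int.negSucc 0, Int.negSucc 0, Int.ofNat 1, Int.negSucc 0, Int.ofNat 1, Int.ofNat 1, Int.negSucc 0, Int.ofNat 1],
  [Int.negSucc 0, Int.negSucc 0, Int.ofNat 1, Int.negSucc 0, Int.negSucc 0, Int.ofNat 1, Int.negSucc 0, Int.ofNat 1, Int.ofNat 1, Int.negSucc 0, Int.ofNat 1, Int.negSucc 0, Int.ofNat 1, Int.ofNat 1, Int.ofNat 1, Int.ofNat 3, Int.negSucc 0, Int.negSucc 0, Int.negSucc 0, Int.negSucc 0, Int.ofNat 1, Int.ofNat 1, Int.ofNat 1, Int.ofNat 1],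
  [Int.ofNat 1, Int.negSucc 0, Int.negSucc 0, Int.negSucc 0, Int.ofNat 1, Int.ofNat 1, Int.negSucc 0, Int.negSucc 0, Int.ofNat 3, Int.ofNat 1, Int.ofNat 1, Int.ofNat 1, Int.ofNat 1, Int.ofNat 1, Int.negSucc 0, Int.negSucc 0, Int.ofNat 1, Int.ofNat 1, Int.negSucc 0, Int.negSucc 0, Int.negSucc 0, Int.negSucc 0, Int.ofNat 1, Int.ofNat 1],
  [Int.ofNat 1, Int.negSucc 0, Int.ofNat 1, Int.negSucc 0, Int.ofNat 1, Int.negSucc 0, Int.ofNat 1, Int.negSucc 0, Int.ofNat 3, Int.negSucc 0, Int.negSucc 0, Int.ofNat 1, Int.ofNat 1, Int.ofNat 1, Int.negSucc 0, Int.ofNat 1, Int.ofNat 1, Int.ofNat 1, Int.ofNat 1, Int.negSucc 0, Int.negSucc 0, Int.negSucc 0, Int.negSucc 0, Int.ofNat 1],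
  [Int.ofNat 0, Int.ofNat 2, Int.ofNat 0, Int.ofNat 0, Int.ofNat 0, Int.ofNat 0, Int.ofNat 2, Int.ofNat 0, Int.ofNat 0, Int.ofNat 0, Int.ofNat 0, Int.negSucc 1, Int.negSucc 1, Int.ofNat 0, Int.ofNat 0, Int.ofNat 2, Int.ofNat 0, Int.ofNat 2, Int.negSucc 1, Int.ofNat 0, Int.ofNat 0, Int.ofNat 0, Int.negSucc 1, Int.ofNat 0],
  [Int.ofNat 0, Int.negSucc 1, Int.ofNat 2, Int.ofNat 0, Int.ofNat 0, Int.ofNat 0, Int.ofNat 2, Int.ofNat 0, Int.ofNat 0, Int.negSucc 1, Int.ofNat 0, Int.ofNat 0, Int.ofNat 0, Int.ofNat 0, Int.ofNat 2, Int.ofNat 2, Int.ofNat 0, Int.negSucc 1, Int.ofNat 0, Int.negSucc 1, Int.ofNat 0, Int.ofNat 0, Int.ofNat 0, Int.ofNat 0],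
  [Int.ofNat 0, Int.ofNat 2, Int.negSucc 1, Int.ofNat 0, Int.ofNat 0, Int.ofNat 0, Int.ofNat 2, Int.ofNat 0, Int.ofNat 0, Int.negSucc 1, Int.ofNat 0, Int.ofNat 0, Int.ofNat 0, Int.ofNat 0, Int.ofNat 2, Int.ofNat 2, Int.ofNat 0, Int.negSucc 1, Int.ofNat 0, Int.negSucc 1, Int.ofNat 0, Int.ofNat 0, Int.ofNat 0, Int.ofNat 0],
  [Int.ofNat 0, Int.ofNat 0, Int.ofNat 0, Int.ofNat 0, Int.ofNat 2, Int.negSucc 1, Int.ofNat 0, Int.ofNat 0, Int.ofNat 0, Int.ofNat 2, Int.ofNat 0, Int.ofNat 0, Int.negSucc 1, Int.ofNat 0, Int.ofNat 0, Int.ofNat 0, Int.ofNat 0, Int.ofNat 2, Int.ofNat 2, Int.ofNat 0, Int.negSucc 1, Int.ofNat 0, Int.negSucc 1, Int.ofNat 0],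
  [Int.ofNat 0, Int.ofNat 0, Int.ofNat 0, Int.ofNat 0, Int.ofNat 2, Int.negSucc 1, Int.ofNat 0, Int.ofNat 0, Int.ofNat 0, Int.ofNat 2, Int.ofNat 0, Int.ofNat 0, Int.negSucc 1, Int.ofNat 0, Int.ofNat 0, Int.ofNat 0, Int.ofNat 0, Int.ofNat 2, Int.ofNat 2, Int.ofNat 0, Int.negSucc 1, Int.ofNat 0, Int.negSucc 1, Int.ofNat 0],
  [Int.ofNat 0, Int.ofNat 0, Int.ofNat 0, Int.ofNat 2, Int.negSucc 1, Int.ofNat 0, Int.ofNat 0, Int.ofNat 0, Int.ofNat 2, Int.ofNat 0, Int.ofNat 0, Int.negSucc 1, Int.ofNat 0, Int.ofNat 0, Int.ofNat 0, Int.ofNat 0, Int.ofNat 2, Int.ofNat 2, Int.ofNat 0, Int.negSucc 1, Int.ofNat 0, Int.negSucc 1, Int.ofNat 0, Int.ofNat 0],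
  [Int.ofNat 0, Int.ofNat 0, Int.ofNat 0, Int.ofNat 2, Int.negSucc 1, Int.ofNat 0, Int.ofNat 0, Int.ofNat 0, Int.ofNat 2, Int.ofNat 0, Int.ofNat 0, Int.ofNat 2, Int.ofNat 0, Int.ofNat 0, Int.ofNat 0, Int.ofNat 0, Int.ofNat 2, Int.ofNat 2, Int.ofNat 0, Int.negSucc 1, Int.ofNat 0, Int.ofNat 2, Int.ofNat 0, Int.ofNat 0],
  [Int.ofNat 0, Int.ofNat 0, Int.ofNat 0, Int.negSucc 1, Int.ofNat 2, Int.ofNat 0, Int.ofNat 0, Int.ofNat 0, Int.negSucc 1, Int.ofNat 0, Int.ofNat 0, Int.ofNat 2, Int.ofNat 0, Int.ofNat 0, Int.ofNat 0, Int.ofNat 0, Int.negSucc 1, Int.ofNat 2, Int.ofNat 0, Int.negSucc 1, Int.ofNat 0, Int.ofNat 2, Int.ofNat 0, Int.ofNat 0],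
  [Int.ofNat 0, Int.ofNat 0, Int.ofNat 2, Int.ofNat 0, Int.ofNat 2, Int.ofNat 0, Int.negSucc 1, Int.ofNat 0, Int.ofNat 0, Int.ofNat 0, Int.negSucc 1, Int.ofNat 0, Int.ofNat 2, Int.ofNat 0, Int.ofNat 0, Int.negSucc 1, Int.ofNat 0, Int.ofNat 2, Int.ofNat 0, Int.ofNat 0, Int.negSucc 1, Int.ofNat 0, Int.ofNat 0, Int.ofNat 0],
  [Int.ofNat 0, Int.ofNat 0, Int.negSucc 1, Int.ofNat 0, Int.ofNat 2, Int.ofNat 0, Int.negSucc 1, Int.ofNat 0, Int.ofNat 0, Int.ofNat 0, Int.ofNat 2, Int.ofNat 0, Int.ofNat 2, Int.ofNat 0, Int.ofNat 0, Int.negSucc 1, Int.ofNat 0, Int.ofNat 2, Int.ofNat 0, Int.ofNat 0, Int.negSucc 1, Int.ofNat 0, Int.ofNat 0, Int.ofNat 0],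
  [Int.ofNat 0, Int.ofNat 0, Int.ofNat 0, Int.negSucc 1, Int.ofNat 0, Int.ofNat 2, Int.ofNat 0, Int.negSucc 1, Int.ofNat 0, Int.ofNat 0, Int.ofNat 0, Int.ofNat 2, Int.ofNat 0, Int.ofNat 2, Int.ofNat 0, Int.ofNat 0, Int.negSucc 1, Int.ofNat 0, Int.ofNat 2, Int.ofNat 0, Int.ofNat 0, Int.negSucc 1, Int.ofNat 0, Int.ofNat 0],
  [Int.ofNat 0, Int.ofNat 0, Int.ofNat 0, Int.negSucc 1, Int.ofNat 0, Int.ofNat 2, Int.ofNat 2, Int.ofNat 0, Int.negSucc 1, Int.ofNat 0, Int.ofNat 0, Int.ofNat 0, Int.negSucc 1, Int.ofNat 2, Int.ofNat 0, Int.ofNat 0, Int.negSucc 1, Int.ofNat 0, Int.ofNat 0, Int.ofNat 2, Int.ofNat 0, Int.ofNat 0, Int.ofNat 0, Int.ofNat 0],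
  [Int.negSucc 1, Int.ofNat 0, Int.ofNat 2, Int.ofNat 2, Int.ofNat 0, Int.negSucc 1, Int.ofNat 0, Int.ofNat 0, Int.ofNat 0, Int.negSucc 1, Int.ofNat 2, Int.ofNat 0, Int.ofNat 0, Int.negSucc 1, Int.ofNat 0, Int.ofNat 0, Int.ofNat 2, Int.ofNat 0, Int.ofNat 0, Int.ofNat 0, Int.ofNat 0, Int.ofNat 0, Int.ofNat 0, Int.ofNat 0],
  [Int.ofNat 2, Int.ofNat 0, Int.negSucc 1, Int.ofNat 2, Int.ofNat 0, Int.negSucc 1, Int.ofNat 0, Int.ofNat 0, Int.ofNat 0, Int.negSucc 1, Int.ofNat 2, Int.ofNat 0, Int.ofNat 0, Int.negSucc 1, Int.ofNat 0, Int.ofNat 0, Int.ofNat 2, Int.ofNat 0, Int.ofNat 0, Int.ofNat 0, Int.ofNat 0, Int.ofNat 0, Int.ofNat 0, Int.ofNat 0],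
  [Int.ofNat 2, Int.ofNat 0, Int.ofNat 0, Int.ofNat 2, Int.ofNat 0, Int.ofNat 0, Int.negSucc 1, Int.ofNat 2, Int.ofNat 0, Int.negSucc 1, Int.ofNat 0, Int.ofNat 0, Int.negSucc 1, Int.ofNat 2, Int.ofNat 0, Int.ofNat 0, Int.ofNat 0, Int.ofNat 0, Int.ofNat 0, Int.ofNat 0, Int.ofNat 0, Int.negSucc 1, Int.ofNat 0, Int.ofNat 0],
  [Int.negSucc 0, Int.ofNat 1, Int.ofNat 1, Int.ofNat 1, Int.negSucc 0, Int.negSucc 0, Int.negSucc 0, Int.ofNat 3, Int.ofNat 1, Int.negSucc 0, Int.ofNat 1, Int.ofNat 1, Int.negSucc 0, Int.ofNat 1, Int.negSucc 0, Int.ofNat 1, Int.negSucc 0, Int.negSucc 0, Int.ofNat 1, Int.ofNat 1, Int.ofNat 1, Int.negSucc 0, Int.negSucc 0, Int.ofNat 1],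
  [Int.negSucc 0, Int.ofNat 1, Int.negSucc 0, Int.ofNat 1, Int.negSucc 0, Int.ofNat 1, Int.ofNat 1, Int.ofNat 3, Int.ofNat 1, Int.ofNat 1, Int.negSucc 0, Int.ofNat 1, Int.negSucc 0, Int.ofNat 1, Int.negSucc 0, Int.negSucc 0, Int.negSucc 0, Int.negSucc 0, Int.negSucc 0, Int.ofNat 1, Int.ofNat 1, Int.negSucc 0, Int.ofNat 1, Int.ofNat 1],
  [Int.negSucc 0, Int.ofNat 1, Int.ofNat 1, Int.ofNat 1, Int.ofNat 1, Int.negSucc 0, Int.negSucc 0, Int.negSucc 0, Int.negSucc 0, Int.negSucc 0, Int.ofNat 1, Int.ofNat 3, Int.ofNat 1, Int.negSucc 0, Int.negSucc 0, Int.ofNat 1, Int.ofNat 1, Int.negSucc 0, Int.negSucc 0, Int.ofNat 1, Int.ofNat 1, Int.negSucc 0, Int.ofNat 1, Int.ofNat 1],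
  [Int.negSucc 0, Int.ofNat 1, Int.negSucc 0, Int.ofNat 1, Int.ofNat 1, Int.ofNat 1, Int.ofNat 1, Int.negSucc 0, Int.negSucc 0, Int.ofNat 1, Int.negSucc 0, Int.ofNat 3, Int.ofNat 1, Int.negSucc 0, Int.negSucc 0, Int.negSucc 0, Int.ofNat 1, Int.negSucc 0, Int.ofNat 1, Int.ofNat 1, Int.ofNat 1, Int.negSucc 0, Int.negSucc 0, Int.ofNat 1],
  [Int.ofNat 1, Int.negSucc 0, Int.ofNat 1, Int.ofNat 1, Int.ofNat 1, Int.ofNat 1, Int.ofNat 1, Int.negSucc 0, Int.negSucc 2, Int.ofNat 1, Int.negSucc 0, Int.ofNat 1, Int.negSucc 0, Int.negSucc 0, Int.negSucc 0, Int.negSucc 0, Int.ofNat 1, Int.negSucc 0, Int.negSucc 0, Int.ofNat 1, Int.ofNat 1, Int.negSucc 0, Int.negSucc 0, Int.negSucc 0],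
  [Int.ofNat 1, Int.negSucc 0, Int.ofNat 1, Int.ofNat 1, Int.ofNat 1, Int.negSucc 0, Int.negSucc 0, Int.ofNat 1, Int.ofNat 1, Int.negSucc 0, Int.negSucc 0, Int.ofNat 1, Int.negSucc 2, Int.ofNat 1, Int.negSucc 0, Int.negSucc 0, Int.negSucc 0, Int.ofNat 1, Int.ofNat 1, Int.negSucc 0, Int.negSucc 0, Int.ofNat 1, Int.negSucc 0, Int.negSucc 0],
  [Int.negSucc 0, Int.ofNat 1, Int.negSucc 0, Int.ofNat 1, Int.ofNat 1, Int.negSucc 0, Int.negSucc 0, Int.ofNat 1, Int.ofNat 1, Int.ofNat 1, Int.ofNat 1, Int.ofNat 1, Int.negSucc 2, Int.ofNat 1, Int.negSucc 0, Int.ofNat 1, Int.negSucc 0, Int.ofNat 1, Int.ofNat 1, Int.negSucc 0, Int.ofNat 1, Int.ofNat 1, Int.negSucc 0, Int.ofNat 1],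
  [Int.ofNat 1, Int.ofNat 1, Int.negSucc 0, Int.negSucc 0, Int.ofNat 1, Int.negSucc 0, Int.ofNat 1, Int.ofNat 1, Int.negSucc 0, Int.negSucc 0, Int.ofNat 1, Int.ofNat 1, Int.ofNat 1, Int.ofNat 1, Int.ofNat 1, Int.negSucc 2, Int.ofNat 1, Int.negSucc 0, Int.ofNat 1, Int.negSucc 0, Int.ofNat 1, Int.ofNat 1, Int.negSucc 0, Int.ofNat 1],
  [Int.ofNat 0, Int.ofNat 0, Int.ofNat 2, Int.ofNat 0, Int.ofNat 0, Int.ofNat 0, Int.ofNat 0, Int.ofNat 0, Int.negSucc 1, Int.ofNat 0, Int.ofNat 2, Int.ofNat 0, Int.ofNat 0, Int.ofNat 0, Int.ofNat 2, Int.negSucc 1, Int.ofNat 0, Int.ofNat 0, Int.ofNat 0, Int.negSucc 1, Int.ofNat 2, Int.ofNat 0, Int.negSucc 1, Int.ofNat 0],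
  [Int.ofNat 0, Int.ofNat 2, Int.ofNat 0, Int.ofNat 0, Int.ofNat 0, Int.ofNat 0, Int.ofNat 0, Int.negSucc 1, Int.ofNat 0, Int.ofNat 2, Int.ofNat 0, Int.ofNat 0, Int.ofNat 0, Int.ofNat 2, Int.negSucc 1, Int.ofNat 0, Int.ofNat 0, Int.ofNat 0, Int.negSucc 1, Int.ofNat 2, Int.ofNat 0, Int.negSucc 1, Int.ofNat 0, Int.ofNat 0],
  [Int.ofNat 0, Int.ofNat 2, Int.ofNat 0, Int.ofNat 0, Int.ofNat 0, Int.ofNat 0, Int.ofNat 0, Int.ofNat 2, Int.ofNat 0, Int.negSucc 1, Int.ofNat 0, Int.ofNat 0, Int.ofNat 0, Int.ofNat 2, Int.negSucc 1, Int.ofNat 0, Int.ofNat 0, Int.ofNat 0, Int.ofNat 2, Int.ofNat 2, Int.ofNat 0, Int.ofNat 2, Int.ofNat 0, Int.ofNat 0],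
  [Int.ofNat 0, Int.negSucc 1, Int.ofNat 0, Int.ofNat 0, Int.ofNat 0, Int.ofNat 0, Int.ofNat 0, Int.ofNat 2, Int.ofNat 0, Int.ofNat 2, Int.ofNat 0, Int.ofNat 0, Int.ofNat 0, Int.negSucc 1, Int.negSucc 1, Int.ofNat 0, Int.ofNat 0, Int.ofNat 0, Int.negSucc 1, Int.ofNat 2, Int.ofNat 0, Int.ofNat 2, Int.ofNat 0, Int.ofNat 0],
  [Int.ofNat 0, Int.ofNat 0, Int.ofNat 0, Int.ofNat 0, Int.ofNat 0, Int.ofNat 2, Int.ofNat 2, Int.negSucc 1, Int.ofNat 0, Int.ofNat 0, Int.ofNat 0, Int.ofNat 0, Int.ofNat 2, Int.ofNat 2, Int.negSucc 1, Int.ofNat 0, Int.ofNat 0, Int.ofNat 0, Int.negSucc 1, Int.ofNat 0, Int.ofNat 0, Int.ofNat 0, Int.negSucc 1, Int.ofNat 0],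
  [Int.ofNat 0, Int.ofNat 0, Int.ofNat 0, Int.ofNat 0, Int.ofNat 0, Int.ofNat 2, Int.ofNat 2, Int.ofNat 2, Int.ofNat 0, Int.ofNat 0, Int.ofNat 0, Int.ofNat 0, Int.ofNat 2, Int.ofNat 2, Int.negSucc 1, Int.ofNat 0, Int.ofNat 0, Int.ofNat 0, Int.ofNat 2, Int.ofNat 0, Int.ofNat 0, Int.ofNat 0, Int.negSucc 1, Int.ofNat 0],
  [Int.negSucc 1, Int.ofNat 0, Int.ofNat 0, Int.ofNat 0, Int.ofNat 0, Int.ofNat 0, Int.ofNat 2, Int.ofNat 2, Int.ofNat 2, Int.ofNat 0, Int.ofNat 0, Int.ofNat 0, Int.ofNat 0, Int.ofNat 2, Int.ofNat 2, Int.negSucc 1, Int.ofNat 0, Int.ofNat 0, Int.ofNat 0, Int.ofNat 2, Int.ofNat 0, Int.ofNat 0, Int.ofNat 0, Int.ofNat 0],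
  [Int.ofNat 1, Int.negSucc 0, Int.negSucc 0, Int.negSucc 0, Int.negSucc 0, Int.negSucc 0, Int.negSucc 0, Int.negSucc 0, Int.ofNat 1, Int.ofNat 1, Int.ofNat 1, Int.negSucc 0, Int.negSucc 0, Int.ofNat 1, Int.ofNat 1, Int.negSucc 0, Int.negSucc 0, Int.negSucc 0, Int.negSucc 0, Int.negSucc 0, Int.ofNat 1, Int.negSucc 2, Int.negSucc 0, Int.negSucc 0],
  [Int.negSucc 0, Int.negSucc 0, Int.negSucc 0, Int.negSucc 0, Int.negSucc 0, Int.ofNat 1, Int.ofNat 1, Int.ofNat 1, Int.negSucc 0, Int.negSucc 0, Int.ofNat 1, Int.ofNat 1, Int.negSucc 0, Int.negSucc 0, Int.negSucc 0, Int.negSucc 0, Int.negSucc 0, Int.ofNat 1, Int.negSucc 2, Int.negSucc 0, Int.ofNat 1, Int.negSucc 0, Int.negSucc 0, Int.negSucc 0],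
  [Int.negSucc 0, Int.negSucc 0, Int.negSucc 0, Int.negSucc 0, Int.ofNat 1, Int.ofNat 1, Int.ofNat 1, Int.ofNat 1, Int.ofNat 1, Int.negSucc 0, Int.ofNat 1, Int.ofNat 3, Int.ofNat 1, Int.ofNat 1, Int.negSucc 0, Int.negSucc 0, Int.ofNat 1, Int.ofNat 1, Int.negSucc 0, Int.negSucc 0, Int.ofNat 1, Int.negSucc 0, Int.ofNat 1, Int.negSucc 0],
  [Int.negSucc 0, Int.ofNat 1, Int.ofNat 1, Int.negSucc 0, Int.negSucc 0, Int.ofNat 1, Int.negSucc 0, Int.ofNat 1, Int.ofNat 1, Int.ofNat 1, Int.ofNat 1, Int.ofNat 1, Int.negSucc 0, Int.ofNat 1, Int.ofNat 1, Int.negSucc 0, Int.ofNat 1, Int.negSucc 0, Int.negSucc 0, Int.ofNat 3, Int.negSucc 0, Int.ofNat 1, Int.negSucc 0, Int.negSucc 0],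
  [Int.ofNat 1, Int.negSucc 0, Int.negSucc 0, Int.negSucc 0, Int.negSucc 0, Int.ofNat 1, Int.negSucc 2, Int.negSucc 0, Int.ofNat 1, Int.ofNat 1, Int.ofNat 1, Int.ofNat 1, Int.negSucc 0, Int.ofNat 1, Int.ofNat 1, Int.negSucc 0, Int.ofNat 1, Int.negSucc 0, Int.negSucc 0, Int.ofNat 1, Int.negSucc 0, Int.negSucc 0, Int.negSucc 0, Int.ofNat 1],
  [Int.ofNat 1, Int.negSucc 0, Int.ofNat 1, Int.negSucc 0, Int.negSucc 0, Int.negSucc 0, Int.ofNat 3, Int.negSucc 0, Int.ofNat 1, Int.negSucc 0, Int.negSucc 0, Int.ofNat 1, Int.negSucc 0, Int.ofNat 1, Int.ofNat 1, Int.ofNat 1, Int.ofNat 1, Int.negSucc 0, Int.ofNat 1, Int.ofNat 1, Int.negSucc 0, Int.negSucc 0, Int.ofNat 1, Int.ofNat 1],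
  [Int.negSucc 0, Int.negSucc 0, Int.ofNat 3, Int.ofNat 1, Int.ofNat 1, Int.negSucc 0, Int.negSucc 0, Int.ofNat 1, Int.ofNat 1, Int.ofNat 1, Int.negSucc 0, Int.negSucc 0, Int.ofNat 1, Int.ofNat 1, Int.negSucc 0, Int.negSucc 0, Int.ofNat 1, Int.negSucc 0, Int.ofNat 1, Int.ofNat 1, Int.negSucc 0, Int.ofNat 1, Int.negSucc 0, Int.ofNat 1],
  [Int.negSucc 0, Int.negSucc 0, Int.negSucc 2, Int.ofNat 1, Int.ofNat 1, Int.ofNat 1, Int.ofNat 1, Int.ofNat 1, Int.ofNat 1, Int.negSucc 0, Int.ofNat 1, Int.negSucc 0, Int.ofNat 1, Int.ofNat 1, Int.negSucc 0, Int.ofNat 1, Int.ofNat 1, Int.negSucc 0, Int.negSucc 0, Int.ofNat 1, Int.negSucc 0, Int.ofNat 1, Int.ofNat 1, Int.ofNat 1],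
  [Int.negSucc 0, Int.negSucc 0, Int.ofNat 1, Int.ofNat 1, Int.negSucc 0, Int.ofNat 1, Int.negSucc 0, Int.negSucc 0, Int.ofNat 1, Int.negSucc 0, Int.ofNat 1, Int.negSucc 0, Int.ofNat 1, Int.negSucc 0, Int.negSucc 0, Int.ofNat 1, Int.negSucc 0, Int.negSucc 0, Int.negSucc 0, Int.negSucc 0, Int.negSucc 0, Int.negSucc 0, Int.negSucc 0, Int.negSucc 2],
  [Int.negSucc 0, Int.negSucc 0, Int.negSucc 0, Int.ofNat 1, Int.ofNat 1, Int.negSucc 0, Int.negSucc 0, Int.ofNat 1, Int.negSucc 0, Int.ofNat 1, Int.negSucc 0, Int.negSucc 0, Int.ofNat 1, Int.negSucc 0, Int.negSucc 0, Int.ofNat 1, Int.negSucc 0, Int.negSucc 0, Int.negSucc 0, Int.negSucc 0, Int.ofNat 1, Int.negSucc 0, Int.negSucc 0, Int.negSucc 2],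
  [Int.negSucc 1, Int.negSucc 1, Int.negSucc 1, Int.ofNat 2, Int.ofNat 2, Int.ofNat 0, Int.ofNat 0, Int.ofNat 2, Int.ofNat 0, Int.ofNat 0, Int.negSucc 1, Int.ofNat 0, Int.ofNat 2, Int.ofNat 0, Int.ofNat 0, Int.ofNat 0, Int.ofNat 0, Int.ofNat 0, Int.ofNat 0, Int.ofNat 0, Int.ofNat 0, Int.ofNat 0, Int.ofNat 0, Int.ofNat 0],
  [Int.ofNat 0, Int.ofNat 0, Int.ofNat 0, Int.negSucc 1, Int.negSucc 1, Int.negSucc 1, Int.ofNat 2, Int.ofNat 2, Int.ofNat 0, Int.ofNat 0, Int.ofNat 2, Int.ofNat 0, Int.ofNat 0, Int.negSucc 1, Int.ofNat 0, Int.ofNat 2, Int.ofNat 0, Int.ofNat 0, Int.ofNat 0, Int.ofNat 0, Int.ofNat 0, Int.ofNat 0, Int.ofNat 0, Int.ofNat 0],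
  [Int.ofNat 0, Int.ofNat 0, Int.ofNat 0, Int.ofNat 0, Int.ofNat 0, Int.ofNat 0, Int.ofNat 0, Int.ofNat 0, Int.ofNat 0, Int.negSucc 1, Int.ofNat 0, Int.ofNat 0, Int.ofNat 0, Int.ofNat 0, Int.ofNat 2, Int.ofNat 0, Int.ofNat 2, Int.ofNat 2, Int.ofNat 0, Int.negSucc 1, Int.negSucc 1, Int.negSucc 1, Int.ofNat 2, Int.ofNat 0],
  [Int.ofNat 0, Int.ofNat 0, Int.ofNat 0, Int.ofNat 0, Int.ofNat 0, Int.ofNat 0, Int.ofNat 0, Int.ofNat 0, Int.negSucc 1, Int.ofNat 0, Int.ofNat 0, Int.ofNat 0, Int.ofNat 0, Int.ofNat 2, Int.ofNat 0, Int.ofNat 2, Int.ofNat 2, Int.ofNat 0, Int.negSucc 1, Int.negSucc 1, Int.negSucc 1, Int.ofNat 2, Int.ofNat 0, Int.ofNat 0],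
  [Int.ofNat 0, Int.ofNat 0, Int.ofNat 0, Int.ofNat 0, Int.ofNat 0, Int.ofNat 0, Int.ofNat 0, Int.ofNat 0, Int.negSucc 1, Int.ofNat 0, Int.ofNat 0, Int.ofNat 0, Int.ofNat 0, Int.ofNat 2, Int.ofNat 0, Int.ofNat 2, Int.ofNat 2, Int.ofNat 0, Int.ofNat 2, Int.negSucc 1, Int.negSucc 1, Int.negSucc 1, Int.ofNat 0, Int.ofNat 0],
  [Int.ofNat 0, Int.ofNat 0, Int.ofNat 0, Int.ofNat 0, Int.ofNat 0, Int.ofNat 0, Int.ofNat 0, Int.ofNat 0, Int.ofNat 2, Int.ofNat 0, Int.ofNat 0, Int.ofNat 0, Int.ofNat 0, Int.negSucc 1, Int.ofNat 0, Int.ofNat 2, Int.negSucc 1, Int.ofNat 0, Int.negSucc 1, Int.negSucc 1, Int.negSucc 1, Int.negSucc 1, Int.ofNat 0, Int.ofNat 0],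
  [Int.ofNat 0, Int.ofNat 0, Int.ofNat 0, Int.ofNat 2, Int.ofNat 0, Int.ofNat 0, Int.negSucc 1, Int.negSucc 1, Int.negSucc 1, Int.ofNat 0, Int.negSucc 1, Int.ofNat 0, Int.negSucc 1, Int.ofNat 0, Int.negSucc 1, Int.ofNat 0, Int.ofNat 0, Int.ofNat 0, Int.ofNat 0, Int.ofNat 0, Int.ofNat 2, Int.ofNat 0, Int.ofNat 0, Int.ofNat 0],
  [Int.ofNat 0, Int.ofNat 0, Int.ofNat 0, Int.ofNat 2, Int.ofNat 0, Int.ofNat 0, Int.negSucc 1, Int.ofNat 2, Int.negSucc 1, Int.ofNat 0, Int.ofNat 2, Int.ofNat 0, Int.negSucc 1, Int.ofNat 0, Int.negSucc 1, Int.ofNat 0, Int.ofNat 0, Int.ofNat 0, Int.ofNat 0, Int.ofNat 0, Int.ofNat 2, Int.ofNat 0, Int.ofNat 0, Int.ofNat 0],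
  [Int.ofNat 0, Int.ofNat 0, Int.ofNat 0, Int.ofNat 0, Int.ofNat 2, Int.ofNat 0, Int.ofNat 0, Int.negSucc 1, Int.ofNat 2, Int.negSucc 1, Int.ofNat 0, Int.ofNat 2, Int.ofNat 0, Int.negSucc 1, Int.ofNat 0, Int.negSucc 1, Int.ofNat 0, Int.ofNat 0, Int.ofNat 0, Int.ofNat 0, Int.ofNat 0, Int.ofNat 2, Int.ofNat 0, Int.ofNat 0],
  [Int.ofNat 0, Int.ofNat 0, Int.ofNat 0, Int.ofNat 0, Int.ofNat 2, Int.ofNat 0, Int.ofNat 0, Int.negSucc 1, Int.ofNat 0, Int.ofNat 0, Int.ofNat 2, Int.ofNat 0, Int.negSucc 1, Int.negSucc 1, Int.ofNat 0, Int.ofNat 0, Int.ofNat 0, Int.ofNat 0, Int.negSucc 1, Int.ofNat 0, Int.ofNat 2, Int.ofNat 2, Int.ofNat 0, Int.ofNat 0],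
  [Int.ofNat 0, Int.ofNat 2, Int.ofNat 0, Int.ofNat 0, Int.negSucc 1, Int.ofNat 0, Int.ofNat 0, Int.ofNat 2, Int.ofNat 0, Int.negSucc 1, Int.negSucc 1, Int.ofNat 0, Int.ofNat 0, Int.ofNat 0, Int.ofNat 0, Int.negSucc 1, Int.ofNat 0, Int.ofNat 2, Int.ofNat 2, Int.ofNat 0, Int.ofNat 0, Int.ofNat 0, Int.ofNat 0, Int.ofNat 0],
  [Int.ofNat 1, Int.negSucc 0, Int.ofNat 1, Int.negSucc 0, Int.negSucc 0, Int.negSucc 0, Int.negSucc 0, Int.ofNat 1, Int.negSucc 0, Int.ofNat 1, Int.ofNat 1, Int.negSucc 0, Int.negSucc 0, Int.ofNat 1, Int.negSucc 0, Int.ofNat 1, Int.ofNat 1, Int.ofNat 1, Int.ofNat 1, Int.negSucc 0, Int.ofNat 3, Int.negSucc 0, Int.ofNat 1, Int.ofNat 1],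
  [Int.ofNat 1, Int.negSucc 0, Int.negSucc 0, Int.negSucc 0, Int.ofNat 1, Int.ofNat 1, Int.ofNat 1, Int.ofNat 1, Int.negSucc 0, Int.ofNat 1, Int.ofNat 3, Int.ofNat 1, Int.ofNat 1, Int.ofNat 1, Int.ofNat 1, Int.ofNat 1, Int.negSucc 0, Int.negSucc 0, Int.negSucc 0, Int.negSucc 0, Int.negSucc 0, Int.negSucc 0, Int.negSucc 0, Int.ofNat 1],
  [Int.negSucc 0, Int.ofNat 1, Int.ofNat 1, Int.negSucc 0, Int.ofNat 1, Int.ofNat 1, Int.ofNat 1, Int.ofNat 1, Int.negSucc 0, Int.negSucc 0, Int.ofNat 1, Int.ofNat 1, Int.ofNat 1, Int.ofNat 1, Int.ofNat 1, Int.negSucc 0, Int.negSucc 0, Int.negSucc 0, Int.negSucc 0, Int.negSucc 0, Int.negSucc 2, Int.negSucc 0, Int.negSucc 0, Int.negSucc 0],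
  [Int.negSucc 0, Int.ofNat 1, Int.negSucc 0, Int.negSucc 0, Int.ofNat 1, Int.negSucc 0, Int.negSucc 0, Int.ofNat 1, Int.negSucc 0, Int.ofNat 1, Int.negSucc 0, Int.ofNat 1, Int.ofNat 1, Int.ofNat 1, Int.ofNat 1, Int.ofNat 1, Int.negSucc 0, Int.negSucc 0, Int.ofNat 1, Int.negSucc 0, Int.negSucc 2, Int.negSucc 0, Int.ofNat 1, Int.negSucc 0],
  [Int.negSucc 0, Int.negSucc 0, Int.negSucc 0, Int.negSucc 0, Int.ofNat 1, Int.ofNat 1, Int.negSucc 0, Int.negSucc 0, Int.ofNat 1, Int.ofNat 1, Int.negSucc 2, Int.ofNat 1, Int.negSucc 0, Int.negSucc 0, Int.ofNat 1, Int.ofNat 1, Int.ofNat 1, Int.negSucc 0, Int.negSucc 0, Int.ofNat 1, Int.ofNat 1, Int.ofNat 1, Int.negSucc 0, Int.negSucc 0],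
  [Int.negSucc 0, Int.negSucc 0, Int.ofNat 1, Int.negSucc 0, Int.ofNat 1, Int.negSucc 0, Int.ofNat 1, Int.negSucc 0, Int.ofNat 1, Int.negSucc 0, Int.ofNat 3, Int.ofNat 1, Int.negSucc 0, Int.negSucc 0, Int.ofNat 1, Int.negSucc 0, Int.ofNat 1, Int.negSucc 0, Int.ofNat 1, Int.ofNat 1, Int.ofNat 1, Int.ofNat 1, Int.ofNat 1, Int.negSucc 0],
  [Int.ofNat 0, Int.ofNat 0, Int.negSucc 1, Int.ofNat 0, Int.ofNat 0, Int.ofNat 0, Int.ofNat 0, Int.negSucc 1, Int.ofNat 0, Int.negSucc 1, Int.ofNat 2, Int.ofNat 0, Int.negSucc 1, Int.negSucc 1, Int.ofNat 2, Int.negSucc 1, Int.ofNat 0, Int.ofNat 0, Int.ofNat 0, Int.ofNat 0, Int.ofNat 0, Int.ofNat 0, Int.ofNat 0, Int.ofNat 0],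
  [Int.ofNat 0, Int.ofNat 0, Int.ofNat 0, Int.ofNat 0, Int.negSucc 1, Int.ofNat 0, Int.ofNat 0, Int.ofNat 0, Int.ofNat 0, Int.negSucc 1, Int.negSucc 1, Int.ofNat 0, Int.ofNat 0, Int.negSucc 1, Int.ofNat 0, Int.negSucc 1, Int.negSucc 1, Int.ofNat 0, Int.ofNat 0, Int.ofNat 0, Int.ofNat 2, Int.ofNat 0, Int.ofNat 2, Int.ofNat 0],
  [Int.ofNat 0, Int.ofNat 0, Int.ofNat 0, Int.ofNat 0, Int.ofNat 0, Int.ofNat 0, Int.ofNat 0, Int.ofNat 0, Int.ofNat 0, Int.ofNat 0, Int.ofNat 0, Int.ofNat 0, Int.ofNat 0, Int.ofNat 0, Int.ofNat 0, Int.ofNat 0, Int.ofNat 0, Int.ofNat 0, Int.ofNat 0, Int.ofNat 0, Int.ofNat 4, Int.ofNat 0, Int.ofNat 4, Int.ofNat 0],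
  [Int.ofNat 4, Int.ofNat 0, Int.ofNat 4, Int.ofNat 0, Int.ofNat 0, Int.ofNat 0, Int.ofNat 0, Int.ofNat 0, Int.ofNat 0, Int.ofNat 0, Int.ofNat 0, Int.ofNat 0, Int.ofNat 0, Int.ofNat 0, Int.ofNat 0, Int.ofNat 0, Int.ofNat 0, Int.ofNat 0, Int.ofNat 0, Int.ofNat 0, Int.ofNat 0, Int.ofNat 0, Int.ofNat 0, Int.ofNat 0],
  [Int.ofNat 0, Int.ofNat 4, Int.ofNat 0, Int.ofNat 0, Int.ofNat 0, Int.ofNat 0, Int.ofNat 0, Int.ofNat 0, Int.ofNat 0, Int.ofNat 0, Int.ofNat 0, Int.ofNat 0, Int.ofNat 0, Int.ofNat 0, Int.ofNat 0, Int.ofNat 0, Int.ofNat 0, Int.ofNat 0, Int.ofNat 0, Int.ofNat 0, Int.ofNat 0, Int.ofNat 0, Int.ofNat 0, Int.ofNat 4],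
  [Int.ofNat 4, Int.ofNat 0, Int.ofNat 0, Int.ofNat 0, Int.ofNat 0, Int.ofNat 0, Int.ofNat 0, Int.ofNat 0, Int.ofNat 0, Int.ofNat 0, Int.ofNat 0, Int.ofNat 0, Int.ofNat 0, Int.ofNat 0, Int.ofNat 0, Int.ofNat 0, Int.ofNat 0, Int.ofNat 0, Int.ofNat 0, Int.ofNat 0, Int.ofNat 0, Int.ofNat 0, Int.ofNat 0, Int.ofNat 4],
  [Int.negSucc 3, Int.ofNat 0, Int.ofNat 0, Int.ofNat 0, Int.ofNat 0, Int.ofNat 0, Int.ofNat 0, Int.ofNat 0, Int.ofNat 0, Int.ofNat 0, Int.ofNat 0, Int.ofNat 0, Int.ofNat 0, Int.ofNat 0, Int.ofNat 0, Int.ofNat 0, Int.ofNat 0, Int.ofNat 0, Int.ofNat 0, Int.ofNat 0, Int.ofNat 0, Int.ofNat 0, Int.ofNat 0, Int.ofNat 4],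
  [Int.ofNat 4, Int.ofNat 0, Int.ofNat 0, Int.ofNat 0, Int.ofNat 0, Int.ofNat 0, Int.ofNat 0, Int.ofNat 0, Int.ofNat 0, Int.ofNat 0, Int.ofNat 0, Int.ofNat 0, Int.ofNat 0, Int.ofNat 0, Int.ofNat 0, Int.ofNat 0, Int.ofNat 0, Int.ofNat 0, Int.ofNat 0, Int.ofNat 0, Int.ofNat 0, Int.ofNat 0, Int.ofNat 0, Int.ofNat 4],
  [Int.ofNat 4, Int.ofNat 0, Int.ofNat 0, Int.ofNat 0, Int.ofNat 0, Int.ofNat 0, Int.ofNat 0, Int.ofNat 0, Int.ofNat 0, Int.ofNat 0, Int.ofNat 0, Int.ofNat 0, Int.ofNat 0, Int.ofNat 0, Int.ofNat 0, Int.ofNat 0, Int.ofNat 0, Int.ofNat 0, Int.ofNat 0, Int.ofNat 0, Int.ofNat 0, Int.ofNat 0, Int.ofNat 0, Int.ofNat 4],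
  [Int.negSucc 3, Int.ofNat 0, Int.ofNat 0, Int.ofNat 0, Int.ofNat 0, Int.ofNat 0, Int.ofNat 0, Int.ofNat 0, Int.ofNat 0, Int.ofNat 0, Int.ofNat 0, Int.ofNat 0, Int.ofNat 0, Int.ofNat 0, Int.ofNat 0, Int.ofNat 0, Int.ofNat 0, Int.ofNat 0, Int.ofNat 0, Int.ofNat 0, Int.ofNat 0, Int.ofNat 0, Int.ofNat 0, Int.ofNat 4],
  [Int.ofNat 0, Int.negSucc 3, Int.ofNat 0, Int.ofNat 0, Int.ofNat 0, Int.ofNat 0, Int.ofNat 0, Int.ofNat 0, Int.ofNat 0, Int.ofNat 0, Int.ofNat 0, Int.ofNat 0, Int.ofNat 0, Int.ofNat 0, Int.ofNat 0, Int.ofNat 0, Int.ofNat 0, Int.ofNat 0, Int.ofNat 0, Int.ofNat 0, Int.ofNat 0, Int.ofNat 0, Int.ofNat 0, Int.ofNat 4],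
  [Int.ofNat 0, Int.ofNat 4, Int.ofNat 0, Int.ofNat 0, Int.ofNat 0, Int.ofNat 0, Int.ofNat 0, Int.ofNat 0, Int.ofNat 0, Int.ofNat 0, Int.ofNat 0, Int.ofNat 0, Int.ofNat 0, Int.ofNat 0, Int.ofNat 0, Int.ofNat 0, Int.ofNat 0, Int.ofNat 0, Int.ofNat 0, Int.ofNat 0, Int.ofNat 0, Int.ofNat 0, Int.ofNat 0, Int.negSucc 3],
  [Int.ofNat 0, Int.ofNat 0, Int.ofNat 0, Int.ofNat 0, Int.ofNat 0, Int.ofNat 0, Int.ofNat 0, Int.ofNat 0, Int.ofNat 0, Int.ofNat 0, Int.ofNat 0, Int.ofNat 0, Int.ofNat 0, Int.ofNat 0, Int.ofNat 0, Int.ofNat 0, Int.ofNat 0, Int.ofNat 0, Int.ofNat 0, Int.ofNat 0, Int.ofNat 0, Int.ofNat 4, Int.ofNat 0, Int.negSucc 3],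
  [Int.negSucc 1, Int.negSucc 1, Int.negSucc 1, Int.ofNat 0, Int.ofNat 0, Int.ofNat 0, Int.negSucc 1, Int.negSucc 1, Int.ofNat 0, Int.ofNat 0, Int.ofNat 0, Int.ofNat 0, Int.ofNat 0, Int.ofNat 0, Int.ofNat 0, Int.ofNat 0, Int.ofNat 0, Int.ofNat 0, Int.ofNat 0, Int.negSucc 1, Int.ofNat 0, Int.ofNat 2, Int.ofNat 0, Int.ofNat 2],
  [Int.negSucc 1, Int.negSucc 1, Int.ofNat 0, Int.ofNat 0, Int.ofNat 0, Int.negSucc 1, Int.negSucc 1, Int.ofNat 0, Int.ofNat 0, Int.ofNat 0, Int.ofNat 0, Int.ofNat 0, Int.ofNat 0, Int.ofNat 0, Int.ofNat 0, Int.ofNat 0, Int.ofNat 0, Int.ofNat 0, Int.negSucc 1, Int.ofNat 0, Int.ofNat 2, Int.ofNat 0, Int.negSucc 1, Int.ofNat 2],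
  [Int.ofNat 1, Int.ofNat 1, Int.negSucc 0, Int.ofNat 1, Int.ofNat 1, Int.negSucc 0, Int.negSucc 0, Int.ofNat 1, Int.ofNat 1, Int.negSucc 0, Int.negSucc 0, Int.ofNat 1, Int.ofNat 1, Int.ofNat 1, Int.ofNat 1, Int.negSucc 0, Int.ofNat 1, Int.ofNat 1, Int.negSucc 0, Int.ofNat 1, Int.ofNat 1, Int.ofNat 1, Int.negSucc 0, Int.negSucc 2],
  [Int.ofNat 1, Int.ofNat 1, Int.ofNat 1, Int.ofNat 1, Int.ofNat 1, Int.ofNat 1, Int.ofNat 1, Int.ofNat 1, Int.ofNat 1, Int.ofNat 1, Int.ofNat 1, Int.ofNat 1, Int.ofNat 1, Int.ofNat 1, Int.ofNat 1, Int.ofNat 1, Int.ofNat 1, Int.ofNat 1, Int.ofNat 1, Int.ofNat 1, Int.ofNat 1, Int.ofNat 1, Int.ofNat 1, Int.negSucc 2],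
  [Int.ofNat 1, Int.ofNat 1, Int.ofNat 1, Int.ofNat 1, Int.ofNat 1, Int.ofNat 1, Int.ofNat 1, Int.ofNat 1, Int.ofNat 1, Int.ofNat 1, Int.ofNat 1, Int.ofNat 1, Int.ofNat 1, Int.ofNat 1, Int.ofNat 1, Int.ofNat 1, Int.ofNat 1, Int.ofNat 1, Int.ofNat 1, Int.ofNat 1, Int.ofNat 1, Int.ofNat 1, Int.ofNat 1, Int.negSucc 2],
  [Int.ofNat 1, Int.ofNat 1, Int.negSucc 0, Int.ofNat 1, Int.ofNat 1, Int.negSucc 0, Int.negSucc 0, Int.ofNat 1, Int.ofNat 1, Int.negSucc 0, Int.negSucc 0, Int.ofNat 1, Int.ofNat 1, Int.ofNat 1, Int.ofNat 1, Int.negSucc 0, Int.ofNat 1, Int.ofNat 1, Int.negSucc 0, Int.ofNat 1, Int.ofNat 1, Int.ofNat 1, Int.negSucc 0, Int.negSucc 2],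
  [Int.negSucc 1, Int.negSucc 1, Int.ofNat 0, Int.ofNat 0, Int.ofNat 0, Int.negSucc 1, Int.negSucc 1, Int.ofNat 0, Int.ofNat 0, Int.ofNat 0, Int.ofNat 0, Int.ofNat 0, Int.ofNat 0, Int.ofNat 0, Int.ofNat 0, Int.ofNat 0, Int.ofNat 0, Int.ofNat 0, Int.negSucc 1, Int.ofNat 0, Int.ofNat 2, Int.ofNat 0, Int.negSucc 1, Int.ofNat 2],
  [Int.negSucc 1, Int.negSucc 1, Int.negSucc 1, Int.ofNat 0, Int.ofNat 0, Int.ofNat 0, Int.negSucc 1, Int.negSucc 1, Int.ofNat 0, Int.ofNat 0, Int.ofNat 0, Int.ofNat 0, Int.ofNat 0, Int.ofNat 0, Int.ofNat 0, Int.ofNat 0, Int.ofNat 0, Int.ofNat 0, Int.ofNat 0, Int.negSucc 1, Int.ofNat 0, Int.ofNat 2, Int.ofNat 0, Int.ofNat 2],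
  [Int.ofNat 0, Int.ofNat 0, Int.ofNat 0, Int.ofNat 0, Int.ofNat 0, Int.ofNat 0, Int.ofNat 0, Int.ofNat 0, Int.ofNat 0, Int.ofNat 0, Int.ofNat 0, Int.ofNat 0, Int.ofNat 0, Int.ofNat 0, Int.ofNat 0, Int.ofNat 0, Int.ofNat 0, Int.ofNat 0, Int.ofNat 0, Int.ofNat 0, Int.ofNat 0, Int.ofNat 4, Int.ofNat 0, Int.negSucc 3],
  [Int.ofNat 0, Int.ofNat 4, Int.ofNat 0, Int.ofNat 0, Int.ofNat 0, Int.ofNat 0, Int.ofNat 0, Int.ofNat 0, Int.ofNat 0, Int.ofNat 0, Int.ofNat 0, Int.ofNat 0, Int.ofNat 0, Int.ofNat 0, Int.ofNat 0, Int.ofNat 0, Int.ofNat 0, Int.ofNat 0, Int.ofNat 0, Int.ofNat 0, Int.ofNat 0, Int.ofNat 0, Int.ofNat 0, Int.negSucc 3],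
  [Int.ofNat 0, Int.negSucc 3, Int.ofNat 0, Int.ofNat 0, Int.ofNat 0, Int.ofNat 0, Int.ofNat 0, Int.ofNat 0, Int.ofNat 0, Int.ofNat 0, Int.ofNat 0, Int.ofNat 0, Int.ofNat 0, Int.ofNat 0, Int.ofNat 0, Int.ofNat 0, Int.ofNat 0, Int.ofNat 0, Int.ofNat 0, Int.ofNat 0, Int.ofNat 0, Int.ofNat 0, Int.ofNat 0, Int.ofNat 4],
  [Int.negSucc 3, Int.ofNat 0, Int.ofNat 0, Int.ofNat 0, Int.ofNat 0, Int.ofNat 0, Int.ofNat 0, Int.ofNat 0, Int.ofNat 0, Int.ofNat 0, Int.ofNat 0, Int.ofNat 0, Int.ofNat 0, Int.ofNat 0, Int.ofNat 0, Int.ofNat 0, Int.ofNat 0, Int.ofNat 0, Int.ofNat 0, Int.ofNat 0, Int.ofNat 0, Int.ofNat 0, Int.ofNat 0, Int.ofNat 4],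
  [Int.ofNat 4, Int.ofNat 0, Int.ofNat 0, Int.ofNat 0, Int.ofNat 0, Int.ofNat 0, Int.ofNat 0, Int.ofNat 0, Int.ofNat 0, Int.ofNat 0, Int.ofNat 0, Int.ofNat 0, Int.ofNat 0, Int.ofNat 0, Int.ofNat 0, Int.ofNat 0, Int.ofNat 0, Int.ofNat 0, Int.ofNat 0, Int.ofNat 0, Int.ofNat 0, Int.ofNat 0, Int.ofNat 0, Int.ofNat 4],
  [Int.negSucc 3, Int.ofNat 0, Int.ofNat 0, Int.ofNat 0, Int.ofNat 0, Int.ofNat 0, Int.ofNat 0, Int.ofNat 0, Int.ofNat 0, Int.ofNat 0, Int.ofNat 0, Int.ofNat 0, Int.ofNat 0, Int.ofNat 0, Int.ofNat 0, Int.ofNat 0, Int.ofNat 0, Int.ofNat 0, Int.ofNat 0, Int.ofNat 0, Int.ofNat 0, Int.ofNat 0, Int.ofNat 0, Int.ofNat 4],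
  [Int.ofNat 4, Int.ofNat 0, Int.ofNat 0, Int.ofNat 0, Int.ofNat 0, Int.ofNat 0, Int.ofNat 0, Int.ofNat 0, Int.ofNat 0, Int.ofNat 0, Int.ofNat 0, Int.ofNat 0, Int.ofNat 0, Int.ofNat 0, Int.ofNat 0, Int.ofNat 0, Int.ofNat 0, Int.ofNat 0, Int.ofNat 0, Int.ofNat 0, Int.ofNat 0, Int.ofNat 0, Int.ofNat 0, Int.negSucc 3],
  [Int.negSucc 3, Int.ofNat 0, Int.ofNat 0, Int.ofNat 0, Int.ofNat 0, Int.ofNat 0, Int.ofNat 0, Int.ofNat 0, Int.ofNat 0, Int.ofNat 0, Int.ofNat 0, Int.ofNat 0, Int.ofNat 0, Int.ofNat 0, Int.ofNat 0, Int.ofNat 0, Int.ofNat 0, Int.ofNat 0, Int.ofNat 0, Int.ofNat 0, Int.ofNat 0, Int.ofNat 0, Int.ofNat 0, Int.negSucc 3],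
  [Int.ofNat 0, Int.negSucc 3, Int.ofNat 0, Int.ofNat 0, Int.ofNat 0, Int.ofNat 0, Int.ofNat 0, Int.ofNat 0, Int.ofNat 0, Int.ofNat 0, Int.ofNat 0, Int.ofNat 0, Int.ofNat 0, Int.ofNat 0, Int.ofNat 0, Int.ofNat 0, Int.ofNat 0, Int.ofNat 0, Int.ofNat 0, Int.ofNat 0, Int.ofNat 0, Int.ofNat 0, Int.ofNat 0, Int.negSucc 3],
  [Int.negSucc 3, Int.ofNat 0, Int.negSucc 3, Int.ofNat 0, Int.ofNat 0, Int.ofNat 0, Int.ofNat 0, Int.ofNat 0, Int.ofNat 0, Int.ofNat 0, Int.ofNat 0, Int.ofNat 0, Int.ofNat 0, Int.ofNat 0, Int.ofNat 0, Int.ofNat 0, Int.ofNat 0, Int.ofNat 0, Int.ofNat 0, Int.ofNat 0, Int.ofNat 0, Int.ofNat 0, Int.ofNat 0, Int.ofNat 0],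
  [Int.ofNat 0, Int.ofNat 0, Int.ofNat 0, Int.ofNat 0, Int.ofNat 0, Int.ofNat 0, Int.ofNat 0, Int.ofNat 0, Int.ofNat 0, Int.ofNat 0, Int.ofNat 0, Int.ofNat 0, Int.ofNat 0, Int.ofNat 0, Int.ofNat 0, Int.ofNat 0, Int.ofNat 0, Int.ofNat 0, Int.ofNat 0, Int.ofNat 0, Int.negSucc 3, Int.ofNat 0, Int.negSucc 3, Int.ofNat 0],
  [Int.ofNat 0, Int.ofNat 0, Int.ofNat 0, Int.ofNat 0, Int.ofNat 2, Int.ofNat 0, Int.ofNat 0, Int.ofNat 0, Int.ofNat 0, Int.ofNat 2, Int.ofNat 2, Int.ofNat 0, Int.ofNat 0, Int.ofNat 2, Int.ofNat 0, Int.ofNat 2, Int.ofNat 2, Int.ofNat 0, Int.ofNat 0, Int.ofNat 0, Int.negSucc 1, Int.ofNat 0, Int.negSucc 1, Int.ofNat 0],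
  [Int.ofNat 0, Int.ofNat 0, Int.ofNat 2, Int.ofNat 0, Int.ofNat 0, Int.ofNat 0, Int.ofNat 0, Int.ofNat 2, Int.ofNat 0, Int.ofNat 2, Int.negSucc 1, Int.ofNat 0, Int.ofNat 2, Int.ofNat 2, Int.negSucc 1, Int.ofNat 2, Int.ofNat 0, Int.ofNat 0, Int.ofNat 0, Int.ofNat 0, Int.ofNat 0, Int.ofNat 0, Int.ofNat 0, Int.ofNat 0],
  [Int.ofNat 1, Int.ofNat 1, Int.negSucc 0, Int.ofNat 1, Int.negSucc 0, Int.ofNat 1, Int.negSucc 0, Int.ofNat 1, Int.negSucc 0, Int.ofNat 1, Int.negSucc 2, Int.negSucc 0, Int.ofNat 1, Int.ofNat 1, Int.negSucc 0, Int.ofNat 1, Int.negSucc 0, Int.ofNat 1, Int.negSucc 0, Int.negSucc 0, Int.negSucc 0, Int.negSucc 0, Int.negSucc 0, Int.ofNat 1],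
  [Int.ofNat 1, Int.ofNat 1, Int.ofNat 1, Int.ofNat 1, Int.negSucc 0, Int.negSucc 0, Int.ofNat 1, Int.ofNat 1, Int.negSucc 0, Int.negSucc 0, Int.ofNat 3, Int.negSucc 0, Int.ofNat 1, Int.ofNat 1, Int.negSucc 0, Int.negSucc 0, Int.negSucc 0, Int.ofNat 1, Int.ofNat 1, Int.negSucc 0, Int.negSucc 0, Int.negSucc 0, Int.ofNat 1, Int.ofNat 1],
  [Int.negSucc 0, Int.ofNat 1, Int.ofNat 1, Int.negSucc 0, Int.ofNat 1, Int.ofNat 1, Int.ofNat 1, Int.ofNat 1, Int.negSucc 0, Int.negSucc 0, Int.negSucc 0, Int.ofNat 1, Int.negSucc 0, Int.ofNat 1, Int.negSucc 0, Int.ofNat 1, Int.ofNat 1, Int.ofNat 3, Int.negSucc 0, Int.negSucc 0, Int.negSucc 0, Int.ofNat 1, Int.negSucc 0, Int.ofNat 1],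
  [Int.negSucc 0, Int.ofNat 1, Int.negSucc 0, Int.negSucc 0, Int.ofNat 1, Int.negSucc 0, Int.negSucc 0, Int.ofNat 1, Int.negSucc 0, Int.ofNat 1, Int.ofNat 1, Int.ofNat 1, Int.negSucc 0, Int.ofNat 1, Int.negSucc 0, Int.negSucc 0, Int.ofNat 1, Int.ofNat 3, Int.ofNat 1, Int.negSucc 0, Int.negSucc 0, Int.ofNat 1, Int.ofNat 1, Int.ofNat 1],
  [Int.ofNat 1, Int.negSucc 0, Int.ofNat 1, Int.negSucc 0, Int.negSucc 0, Int.negSucc 0, Int.negSucc 0, Int.ofNat 1, Int.negSucc 0, Int.ofNat 1, Int.ofNat 1, Int.ofNat 1, Int.negSucc 0, Int.negSucc 0, Int.negSucc 0, Int.negSucc 0, Int.negSucc 0, Int.ofNat 3, Int.ofNat 1, Int.negSucc 0, Int.negSucc 0, Int.ofNat 1, Int.negSucc 0, Int.negSucc 0],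
  [Int.ofNat 1, Int.ofNat 1, Int.negSucc 0, Int.negSucc 0, Int.ofNat 1, Int.ofNat 1, Int.negSucc 0, Int.negSucc 0, Int.negSucc 0, Int.negSucc 0, Int.ofNat 1, Int.negSucc 0, Int.negSucc 0, Int.ofNat 1, Int.ofNat 3, Int.negSucc 0, Int.negSucc 0, Int.ofNat 1, Int.negSucc 0, Int.negSucc 0, Int.ofNat 1, Int.negSucc 0, Int.negSucc 0, Int.negSucc 0],
  [Int.negSucc 0, Int.negSucc 0, Int.ofNat 1, Int.negSucc 2, Int.ofNat 1, Int.negSucc 0, Int.ofNat 1, Int.ofNat 1, Int.ofNat 1, Int.negSucc 0, Int.ofNat 1, Int.ofNat 1, Int.ofNat 1, Int.ofNat 1, Int.ofNat 1, Int.negSucc 0, Int.negSucc 0, Int.negSucc 0, Int.ofNat 1, Int.ofNat 1, Int.ofNat 1, Int.ofNat 1, Int.negSucc 0, Int.ofNat 1],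
  [Int.ofNat 1, Int.ofNat 1, Int.negSucc 0, Int.negSucc 0, Int.negSucc 0, Int.ofNat 1, Int.negSucc 2, Int.ofNat 1, Int.negSucc 0, Int.ofNat 1, Int.ofNat 1, Int.ofNat 1, Int.negSucc 0, Int.ofNat 1, Int.ofNat 1, Int.ofNat 1, Int.ofNat 1, Int.ofNat 1, Int.negSucc 0, Int.negSucc 0, Int.negSucc 0, Int.ofNat 1, Int.ofNat 1, Int.ofNat 1],
  [Int.ofNat 0, Int.ofNat 0, Int.ofNat 2, Int.negSucc 1, Int.negSucc 1, Int.ofNat 0, Int.negSucc 1, Int.ofNat 2, Int.ofNat 0, Int.ofNat 0, Int.ofNat 0, Int.ofNat 2, Int.ofNat 0, Int.ofNat 0, Int.ofNat 0, Int.ofNat 0, Int.ofNat 0, Int.ofNat 0, Int.ofNat 0, Int.ofNat 0, Int.negSucc 1, Int.ofNat 2, Int.ofNat 0, Int.ofNat 0],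
  [Int.ofNat 0, Int.ofNat 2, Int.negSucc 1, Int.negSucc 1, Int.ofNat 0, Int.negSucc 1, Int.ofNat 2, Int.ofNat 0, Int.ofNat 0, Int.ofNat 0, Int.ofNat 2, Int.ofNat 0, Int.ofNat 0, Int.ofNat 0, Int.ofNat 0, Int.ofNat 0, Int.ofNat 0, Int.ofNat 0, Int.ofNat 0, Int.negSucc 1, Int.ofNat 2, Int.ofNat 0, Int.ofNat 0, Int.ofNat 0],
  [Int.ofNat 0, Int.ofNat 2, Int.ofNat 2, Int.negSucc 1, Int.ofNat 0, Int.negSucc 1, Int.ofNat 2, Int.ofNat 0, Int.ofNat 0, Int.ofNat 0, Int.negSucc 1, Int.ofNat 0, Int.ofNat 0, Int.ofNat 0, Int.ofNat 0, Int.ofNat 0, Int.ofNat 0, Int.ofNat 0, Int.ofNat 0, Int.negSucc 1, Int.ofNat 2, Int.ofNat 0, Int.ofNat 0, Int.ofNat 0],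
  [Int.ofNat 0, Int.negSucc 1, Int.negSucc 1, Int.ofNat 2, Int.ofNat 0, Int.negSucc 1, Int.negSucc 1, Int.ofNat 0, Int.ofNat 0, Int.ofNat 0, Int.negSucc 1, Int.ofNat 0, Int.ofNat 0, Int.ofNat 0, Int.ofNat 0, Int.ofNat 0, Int.ofNat 0, Int.ofNat 0, Int.ofNat 0, Int.negSucc 1, Int.ofNat 2, Int.ofNat 0, Int.ofNat 0, Int.ofNat 0],
  [Int.ofNat 0, Int.ofNat 0, Int.ofNat 0, Int.ofNat 0, Int.ofNat 0, Int.ofNat 0, Int.negSucc 1, Int.ofNat 0, Int.ofNat 2, Int.negSucc 1, Int.ofNat 0, Int.negSucc 1, Int.ofNat 0, Int.ofNat 0, Int.ofNat 0, Int.ofNat 2, Int.negSucc 1, Int.ofNat 0, Int.ofNat 0, Int.negSucc 1, Int.ofNat 0, Int.ofNat 0, Int.negSucc 1, Int.ofNat 0],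
  [Int.ofNat 0, Int.ofNat 0, Int.ofNat 0, Int.ofNat 0, Int.ofNat 0, Int.ofNat 0, Int.negSucc 1, Int.ofNat 0, Int.ofNat 2, Int.ofNat 2, Int.ofNat 0, Int.ofNat 2, Int.ofNat 0, Int.ofNat 0, Int.ofNat 0, Int.ofNat 2, Int.negSucc 1, Int.ofNat 0, Int.ofNat 0, Int.negSucc 1, Int.ofNat 0, Int.ofNat 0, Int.negSucc 1, Int.ofNat 0],
  [Int.negSucc 1, Int.ofNat 0, Int.ofNat 0, Int.ofNat 0, Int.ofNat 0, Int.ofNat 0, Int.ofNat 0, Int.negSucc 1, Int.ofNat 0, Int.ofNat 2, Int.ofNat 2, Int.ofNat 0, Int.ofNat 2, Int.ofNat 0, Int.ofNat 0, Int.ofNat 0, Int.ofNat 2, Int.negSucc 1, Int.ofNat 0, Int.ofNat 0, Int.negSucc 1, Int.ofNat 0, Int.ofNat 0, Int.ofNat 0],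
  [Int.ofNat 1, Int.negSucc 0, Int.negSucc 0, Int.ofNat 1, Int.negSucc 0, Int.ofNat 1, Int.ofNat 1, Int.negSucc 0, Int.negSucc 0, Int.ofNat 1, Int.ofNat 1, Int.negSucc 0, Int.ofNat 1, Int.negSucc 0, Int.ofNat 1, Int.negSucc 0, Int.ofNat 1, Int.negSucc 0, Int.negSucc 0, Int.ofNat 1, Int.negSucc 2, Int.ofNat 1, Int.negSucc 0, Int.negSucc 0],
  [Int.ofNat 1, Int.negSucc 0, Int.ofNat 1, Int.ofNat 1, Int.negSucc 0, Int.negSucc 0, Int.ofNat 1, Int.ofNat 1, Int.negSucc 0, Int.ofNat 1, Int.negSucc 0, Int.ofNat 1, Int.negSucc 0, Int.ofNat 1, Int.negSucc 0, Int.negSucc 0, Int.ofNat 1, Int.negSucc 2, Int.ofNat 1, Int.negSucc 0, Int.ofNat 1, Int.negSucc 0, Int.negSucc 0, Int.negSucc 0],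
  [Int.negSucc 0, Int.ofNat 1, Int.negSucc 0, Int.ofNat 3, Int.negSucc 0, Int.ofNat 1, Int.ofNat 1, Int.ofNat 1, Int.negSucc 0, Int.ofNat 1, Int.negSucc 0, Int.ofNat 1, Int.negSucc 0, Int.ofNat 1, Int.ofNat 1, Int.negSucc 0, Int.ofNat 1, Int.negSucc 0, Int.ofNat 1, Int.negSucc 0, Int.ofNat 1, Int.negSucc 0, Int.negSucc 0, Int.ofNat 1],
  [Int.negSucc 0, Int.ofNat 1, Int.negSucc 0, Int.ofNat 3, Int.ofNat 1, Int.ofNat 1, Int.negSucc 0, Int.negSucc 0, Int.negSucc 0, Int.ofNat 1, Int.ofNat 1, Int.negSucc 0, Int.ofNat 1, Int.ofNat 1, Int.negSucc 0, Int.negSucc 0, Int.negSucc 0, Int.ofNat 1, Int.ofNat 1, Int.ofNat 1, Int.negSucc 0, Int.ofNat 1, Int.negSucc 0, Int.ofNat 1],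
  [Int.ofNat 1, Int.negSucc 0, Int.ofNat 1, Int.ofNat 1, Int.ofNat 1, Int.negSucc 0, Int.negSucc 0, Int.negSucc 0, Int.negSucc 0, Int.ofNat 1, Int.ofNat 1, Int.negSucc 0, Int.ofNat 1, Int.ofNat 1, Int.negSucc 2, Int.negSucc 0, Int.negSucc 0, Int.negSucc 0, Int.ofNat 1, Int.ofNat 1, Int.negSucc 0, Int.ofNat 1, Int.negSucc 0, Int.negSucc 0],
  [Int.ofNat 1, Int.negSucc 0, Int.negSucc 0, Int.ofNat 1, Int.ofNat 1, Int.ofNat 1, Int.ofNat 1, Int.negSucc 0, Int.negSucc 0, Int.negSucc 0, Int.negSucc 0, Int.negSucc 0, Int.ofNat 1, Int.ofNat 1, Int.negSucc 2, Int.ofNat 1, Int.negSucc 0, Int.negSucc 0, Int.negSucc 0, Int.ofNat 1, Int.negSucc 0, Int.ofNat 1, Int.ofNat 1, Int.negSucc 0],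
  [Int.ofNat 1, Int.ofNat 1, Int.ofNat 1, Int.ofNat 1, Int.ofNat 1, Int.ofNat 1, Int.negSucc 0, Int.ofNat 1, Int.ofNat 1, Int.negSucc 2, Int.negSucc 0, Int.negSucc 0, Int.negSucc 0, Int.negSucc 0, Int.ofNat 1, Int.negSucc 0, Int.ofNat 1, Int.negSucc 0, Int.negSucc 0, Int.negSucc 0, Int.negSucc 0, Int.negSucc 0, Int.ofNat 1, Int.negSucc 0],
  [Int.ofNat 1, Int.ofNat 1, Int.negSucc 0, Int.ofNat 1, Int.ofNat 1, Int.negSucc 0, Int.ofNat 1, Int.ofNat 1, Int.ofNat 1, Int.ofNat 3, Int.ofNat 1, Int.negSucc 0, Int.negSucc 0, Int.negSucc 0, Int.ofNat 1, Int.ofNat 1, Int.ofNat 1, Int.negSucc 0, Int.ofNat 1, Int.negSucc 0, Int.negSucc 0, Int.negSucc 0, Int.negSucc 0, Int.negSucc 0],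
  [Int.negSucc 0, Int.negSucc 0, Int.ofNat 1, Int.ofNat 1, Int.ofNat 1, Int.negSucc 0, Int.ofNat 1, Int.ofNat 1, Int.ofNat 1, Int.ofNat 1, Int.negSucc 0, Int.negSucc 0, Int.negSucc 0, Int.negSucc 0, Int.ofNat 1, Int.negSucc 0, Int.ofNat 1, Int.negSucc 0, Int.ofNat 1, Int.negSucc 0, Int.negSucc 2, Int.negSucc 0, Int.negSucc 0, Int.ofNat 1],
  [Int.negSucc 0, Int.ofNat 1, Int.ofNat 1, Int.ofNat 1, Int.ofNat 1, Int.negSucc 0, Int.negSucc 0, Int.negSucc 0, Int.ofNat 1, Int.negSucc 0, Int.ofNat 1, Int.negSucc 0, Int.ofNat 1, Int.ofNat 1, Int.negSucc 0, Int.negSucc 0, Int.negSucc 0, Int.negSucc 0, Int.ofNat 1, Int.negSucc 0, Int.negSucc 0, Int.negSucc 2, Int.ofNat 1, Int.ofNat 1],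
  [Int.ofNat 2, Int.ofNat 0, Int.ofNat 0, Int.ofNat 2, Int.ofNat 0, Int.ofNat 0, Int.ofNat 2, Int.ofNat 2, Int.ofNat 0, Int.ofNat 0, Int.ofNat 2, Int.negSucc 1, Int.ofNat 0, Int.ofNat 0, Int.ofNat 0, Int.ofNat 0, Int.negSucc 1, Int.ofNat 0, Int.ofNat 0, Int.ofNat 2, Int.ofNat 0, Int.ofNat 0, Int.ofNat 0, Int.ofNat 0],
  [Int.ofNat 0, Int.ofNat 0, Int.ofNat 0, Int.ofNat 2, Int.ofNat 0, Int.ofNat 0, Int.ofNat 2, Int.ofNat 0, Int.ofNat 0, Int.ofNat 2, Int.ofNat 2, Int.ofNat 0, Int.ofNat 0, Int.ofNat 2, Int.negSucc 1, Int.ofNat 0, Int.ofNat 0, Int.ofNat 0, Int.ofNat 0, Int.negSucc 1, Int.ofNat 0, Int.ofNat 0, Int.ofNat 2, Int.ofNat 0],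
  [Int.ofNat 0, Int.ofNat 0, Int.ofNat 0, Int.ofNat 2, Int.negSucc 1, Int.ofNat 0, Int.ofNat 2, Int.ofNat 0, Int.ofNat 0, Int.ofNat 0, Int.ofNat 0, Int.ofNat 0, Int.ofNat 0, Int.ofNat 0, Int.negSucc 1, Int.negSucc 1, Int.negSucc 1, Int.ofNat 0, Int.ofNat 0, Int.negSucc 1, Int.negSucc 1, Int.ofNat 0, Int.ofNat 0, Int.ofNat 0],
  [Int.ofNat 0, Int.ofNat 0, Int.ofNat 2, Int.negSucc 1, Int.ofNat 0, Int.ofNat 2, Int.ofNat 0, Int.ofNat 0, Int.ofNat 0, Int.ofNat 0, Int.ofNat 0, Int.ofNat 0, Int.ofNat 0, Int.negSucc 1, Int.negSucc 1, Int.negSucc 1, Int.ofNat 0, Int.ofNat 0, Int.negSucc 1, Int.negSucc 1, Int.ofNat 0, Int.ofNat 0, Int.ofNat 0, Int.ofNat 0],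
  [Int.ofNat 0, Int.ofNat 0, Int.negSucc 1, Int.negSucc 1, Int.ofNat 0, Int.ofNat 2, Int.ofNat 0, Int.ofNat 0, Int.ofNat 0, Int.ofNat 0, Int.ofNat 0, Int.ofNat 0, Int.ofNat 0, Int.negSucc 1, Int.negSucc 1, Int.negSucc 1, Int.ofNat 0, Int.ofNat 0, Int.ofNat 2, Int.negSucc 1, Int.ofNat 0, Int.ofNat 0, Int.ofNat 0, Int.ofNat 0]]

set_option maxRecDepth 100000 in
theorem c1e5_chk : pmChk (List.replicate 14 [5, 0, 25]).flatten nxL c1e5M 0 0 = true := by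
  decide +kernel

theorem c1e5_ne : wE letE2 (List.replicate 14 [5, 0, 25]).flatten ≠ 1 ∧ wE letE2 (List.replicate 14 [5, 0, 25]).flatten ≠ negElt :=
  ne_pm_of_chk nxL_mem c1e5_chk

set_option maxRecDepth 100000 in
def c1e6M : List (List ℤ) :=
  [[Int.ofNat 4, Int.ofNat 0, Int.ofNat 0, Int.ofNat 0, Int.ofNat 0, Int.ofNat 0, Int.ofNat 0, Int.ofNat 0, Int.ofNat 0, Int.ofNat 0, Int.ofNat 0, Int.ofNat 0, Int.ofNat 0, Int.ofNat 0, Int.ofNat 0, Int.ofNat 0, Int.ofNat 0, Int.ofNat 0, Int.ofNat 0, Int.ofNat 0, Int.ofNat 0, Int.ofNat 0, Int.ofNat 0, Int.ofNat 4],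
  [Int.ofNat 4, Int.ofNat 0, Int.ofNat 0, Int.ofNat 0, Int.ofNat 0, Int.ofNat 0, Int.ofNat 0, Int.ofNat 0, Int.ofNat 0, Int.ofNat 0, Int.ofNat 0, Int.ofNat 0, Int.ofNat 0, Int.ofNat 0, Int.ofNat 0, Int.ofNat 0, Int.ofNat 0, Int.ofNat 0, Int.ofNat 0, Int.ofNat 0, Int.ofNat 0, Int.ofNat 0, Int.ofNat 0, Int.ofNat 4],
  [Int.negSucc 3, Int.ofNat 0, Int.ofNat 0, Int.ofNat 0, Int.ofNat 0, Int.ofNat 0, Int.ofNat 0, Int.ofNat 0, Int.ofNat 0, Int.ofNat 0, Int.ofNat 0, Int.ofNat 0, Int.ofNat 0, Int.ofNat 0, Int.ofNat 0, Int.ofNat 0, Int.ofNat 0, Int.ofNat 0, Int.ofNat 0, Int.ofNat 0, Int.ofNat 0, Int.ofNat 0, Int.ofNat 0, Int.ofNat 4],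
  [Int.ofNat 0, Int.negSucc 3, Int.ofNat 0, Int.ofNat 0, Int.ofNat 0, Int.ofNat 0, Int.ofNat 0, Int.ofNat 0, Int.ofNat 0, Int.ofNat 0, Int.ofNat 0, Int.ofNat 0, Int.ofNat 0, Int.ofNat 0, Int.ofNat 0, Int.ofNat 0, Int.ofNat 0, Int.ofNat 0, Int.ofNat 0, Int.ofNat 0, Int.ofNat 0, Int.ofNat 0, Int.ofNat 0, Int.ofNat 4],
  [Int.ofNat 0, Int.ofNat 4, Int.ofNat 0, Int.ofNat 0, Int.ofNat 0, Int.ofNat 0, Int.ofNat 0, Int.ofNat 0, Int.ofNat 0, Int.ofNat 0, Int.ofNat 0, Int.ofNat 0, Int.ofNat 0, Int.ofNat 0, Int.ofNat 0, Int.ofNat 0, Int.ofNat 0, Int.ofNat 0, Int.ofNat 0, Int.ofNat 0, Int.ofNat 0, Int.ofNat 0, Int.ofNat 0, Int.negSucc 3],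
  [Int.ofNat 0, Int.ofNat 0, Int.ofNat 0, Int.ofNat 0, Int.ofNat 0, Int.ofNat 0, Int.ofNat 0, Int.ofNat 0, Int.ofNat 0, Int.ofNat 0, Int.ofNat 0, Int.ofNat 0, Int.ofNat 0, Int.ofNat 0, Int.ofNat 0, Int.ofNat 0, Int.ofNat 0, Int.ofNat 0, Int.ofNat 0, Int.ofNat 0, Int.ofNat 0, Int.ofNat 4, Int.ofNat 0, Int.negSucc 3],
  [Int.negSucc 1, Int.negSucc 1, Int.negSucc 1, Int.ofNat 0, Int.ofNat 0, Int.ofNat 0, Int.negSucc 1, Int.negSucc 1, Int.ofNat 0, Int.ofNat 0, Int.ofNat 0, Int.ofNat 0, Int.ofNat 0, Int.ofNat 0, Int.ofNat 0, Int.ofNat 0, Int.ofNat 0, Int.ofNat 0, Int.ofNat 0, Int.negSucc 1, Int.ofNat 0, Int.ofNat 2, Int.ofNat 0, Int.ofNat 2],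
  [Int.negSucc 1, Int.negSucc 1, Int.ofNat 0, Int.ofNat 0, Int.ofNat 0, Int.negSucc 1, Int.negSucc 1, Int.ofNat 0, Int.ofNat 0, Int.ofNat 0, Int.ofNat 0, Int.ofNat 0, Int.ofNat 0, Int.ofNat 0, Int.ofNat 0, Int.ofNat 0, Int.ofNat 0, Int.ofNat 0, Int.negSucc 1, Int.ofNat 0, Int.ofNat 2, Int.ofNat 0, Int.negSucc 1, Int.ofNat 2],
  [Int.ofNat 1, Int.ofNat 1, Int.negSucc 0, Int.ofNat 1, Int.ofNat 1, Int.negSucc 0, Int.negSucc 0, Int.ofNat 1, Int.ofNat 1, Int.negSucc 0, Int.negSucc 0, Int.ofNat 1, Int.ofNat 1, Int.ofNat 1, Int.ofNat 1, Int.negSucc 0, Int.ofNat 1, Int.ofNat 1, Int.negSucc 0, Int.ofNat 1, Int.ofNat 1, Int.ofNat 1, Int.negSucc 0, Int.negSucc 2],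
  [Int.ofNat 1, Int.ofNat 1, Int.ofNat 1, Int.ofNat 1, Int.ofNat 1, Int.ofNat 1, Int.ofNat 1, Int.ofNat 1, Int.ofNat 1, Int.ofNat 1, Int.ofNat 1, Int.ofNat 1, Int.ofNat 1, Int.ofNat 1, Int.ofNat 1, Int.ofNat 1, Int.ofNat 1, Int.ofNat 1, Int.ofNat 1, Int.ofNat 1, Int.ofNat 1, Int.ofNat 1, Int.ofNat 1, Int.negSucc 2],
  [Int.ofNat 1, Int.ofNat 1, Int.ofNat 1, Int.ofNat 1, Int.ofNat 1, Int.ofNat 1, Int.ofNat 1, Int.ofNat 1, Int.ofNat 1, Int.ofNat 1, Int.ofNat 1, Int.ofNat 1, Int.ofNat 1, Int.ofNat 1, Int.ofNat 1, Int.ofNat 1, Int.ofNat 1, Int.ofNat 1, Int.ofNat 1, Int.ofNat 1, Int.ofNat 1, Int.ofNat 1, Int.ofNat 1, Int.negSucc 2],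
  [Int.ofNat 1, Int.ofNat 1, Int.negSucc 0, Int.ofNat 1, Int.ofNat 1, Int.negSucc 0, Int.negSucc 0, Int.ofNat 1, Int.ofNat 1, Int.negSucc 0, Int.negSucc 0, Int.ofNat 1, Int.ofNat 1, Int.ofNat 1, Int.ofNat 1, Int.negSucc 0, Int.ofNat 1, Int.ofNat 1, Int.negSucc 0, Int.ofNat 1, Int.ofNat 1, Int.ofNat 1, Int.negSucc 0, Int.negSucc 2],
  [Int.negSucc 1, Int.negSucc 1, Int.ofNat 0, Int.ofNat 0, Int.ofNat 0, Int.negSucc 1, Int.negSucc 1, Int.ofNat 0, Int.ofNat 0, Int.ofNat 0, Int.ofNat 0, Int.ofNat 0, Int.ofNat 0, Int.ofNat 0, Int.ofNat 0, Int.ofNat 0, Int.ofNat 0, Int.ofNat 0, Int.negSucc 1, Int.ofNat 0, Int.ofNat 2, Int.ofNat 0, Int.negSucc 1, Int.ofNat 2],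
  [Int.negSucc 1, Int.negSucc 1, Int.negSucc 1, Int.ofNat 0, Int.ofNat 0, Int.ofNat 0, Int.negSucc 1, Int.negSucc 1, Int.ofNat 0, Int.ofNat 0, Int.ofNat 0, Int.ofNat 0, Int.ofNat 0, Int.ofNat 0, Int.ofNat 0, Int.ofNat 0, Int.ofNat 0, Int.ofNat 0, Int.ofNat 0, Int.negSucc 1, Int.ofNat 0, Int.ofNat 2, Int.ofNat 0, Int.ofNat 2],
  [Int.ofNat 0, Int.ofNat 0, Int.ofNat 0, Int.ofNat 0, Int.ofNat 0, Int.ofNat 0, Int.ofNat 0, Int.ofNat 0, Int.ofNat 0, Int.ofNat 0, Int.ofNat 0, Int.ofNat 0, Int.ofNat 0, Int.ofNat 0, Int.ofNat 0, Int.ofNat 0, Int.ofNat 0, Int.ofNat 0, Int.ofNat 0, Int.ofNat 0, Int.ofNat 0, Int.ofNat 4, Int.ofNat 0, Int.negSucc 3],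
  [Int.ofNat 0, Int.ofNat 4, Int.ofNat 0, Int.ofNat 0, Int.ofNat 0, Int.ofNat 0, Int.ofNat 0, Int.ofNat 0, Int.ofNat 0, Int.ofNat 0, Int.ofNat 0, Int.ofNat 0, Int.ofNat 0, Int.ofNat 0, Int.ofNat 0, Int.ofNat 0, Int.ofNat 0, Int.ofNat 0, Int.ofNat 0, Int.ofNat 0, Int.ofNat 0, Int.ofNat 0, Int.ofNat 0, Int.negSucc 3],
  [Int.ofNat 0, Int.negSucc 3, Int.ofNat 0, Int.ofNat 0, Int.ofNat 0, Int.ofNat 0, Int.ofNat 0, Int.ofNat 0, Int.ofNat 0, Int.ofNat 0, Int.ofNat 0, Int.ofNat 0, Int.ofNat 0, Int.ofNat 0, Int.ofNat 0, Int.ofNat 0, Int.ofNat 0, Int.ofNat 0, Int.ofNat 0, Int.ofNat 0, Int.ofNat 0, Int.ofNat 0, Int.ofNat 0, Int.ofNat 4],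
  [Int.negSucc 3, Int.ofNat 0, Int.ofNat 0, Int.ofNat 0, Int.ofNat 0, Int.ofNat 0, Int.ofNat 0, Int.ofNat 0, Int.ofNat 0, Int.ofNat 0, Int.ofNat 0, Int.ofNat 0, Int.ofNat 0, Int.ofNat 0, Int.ofNat 0, Int.ofNat 0, Int.ofNat 0, Int.ofNat 0, Int.ofNat 0, Int.ofNat 0, Int.ofNat 0, Int.ofNat 0, Int.ofNat 0, Int.ofNat 4],
  [Int.ofNat 4, Int.ofNat 0, Int.ofNat 0, Int.ofNat 0, Int.ofNat 0, Int.ofNat 0, Int.ofNat 0, Int.ofNat 0, Int.ofNat 0, Int.ofNat 0, Int.ofNat 0, Int.ofNat 0, Int.ofNat 0, Int.ofNat 0, Int.ofNat 0, Int.ofNat 0, Int.ofNat 0, Int.ofNat 0, Int.ofNat 0, Int.ofNat 0, Int.ofNat 0, Int.ofNat 0, Int.ofNat 0, Int.ofNat 4],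
  [Int.negSucc 3, Int.ofNat 0, Int.ofNat 0, Int.ofNat 0, Int.ofNat 0, Int.ofNat 0, Int.ofNat 0, Int.ofNat 0, Int.ofNat 0, Int.ofNat 0, Int.ofNat 0, Int.ofNat 0, Int.ofNat 0, Int.ofNat 0, Int.ofNat 0, Int.ofNat 0, Int.ofNat 0, Int.ofNat 0, Int.ofNat 0, Int.ofNat 0, Int.ofNat 0, Int.ofNat 0, Int.ofNat 0, Int.ofNat 4],
  [Int.ofNat 4, Int.ofNat 0, Int.ofNat 0, Int.ofNat 0, Int.ofNat 0, Int.ofNat 0, Int.ofNat 0, Int.ofNat 0, Int.ofNat 0, Int.ofNat 0, Int.ofNat 0, Int.ofNat 0, Int.ofNat 0, Int.ofNat 0, Int.ofNat 0, Int.ofNat 0, Int.ofNat 0, Int.ofNat 0, Int.ofNat 0, Int.ofNat 0, Int.ofNat 0, Int.ofNat 0, Int.ofNat 0, Int.negSucc 3],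
  [Int.negSucc 3, Int.ofNat 0, Int.ofNat 0, Int.ofNat 0, Int.ofNat 0, Int.ofNat 0, Int.ofNat 0, Int.ofNat 0, Int.ofNat 0, Int.ofNat 0, Int.ofNat 0, Int.ofNat 0, Int.ofNat 0, Int.ofNat 0, Int.ofNat 0, Int.ofNat 0, Int.ofNat 0, Int.ofNat 0, Int.ofNat 0, Int.ofNat 0, Int.ofNat 0, Int.ofNat 0, Int.ofNat 0, Int.negSucc 3],
  [Int.ofNat 0, Int.negSucc 3, Int.ofNat 0, Int.ofNat 0, Int.ofNat 0, Int.ofNat 0, Int.ofNat 0, Int.ofNat 0, Int.ofNat 0, Int.ofNat 0, Int.ofNat 0, Int.ofNat 0, Int.ofNat 0, Int.ofNat 0, Int.ofNat 0, Int.ofNat 0, Int.ofNat 0, Int.ofNat 0, Int.ofNat 0, Int.ofNat 0, Int.ofNat 0, Int.ofNat 0, Int.ofNat 0, Int.negSucc 3],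
  [Int.negSucc 3, Int.ofNat 0, Int.negSucc 3, Int.ofNat 0, Int.ofNat 0, Int.ofNat 0, Int.ofNat 0, Int.ofNat 0, Int.ofNat 0, Int.ofNat 0, Int.ofNat 0, Int.ofNat 0, Int.ofNat 0, Int.ofNat 0, Int.ofNat 0, Int.ofNat 0, Int.ofNat 0, Int.ofNat 0, Int.ofNat 0, Int.ofNat 0, Int.ofNat 0, Int.ofNat 0, Int.ofNat 0, Int.ofNat 0],
  [Int.ofNat 0, Int.ofNat 0, Int.ofNat 0, Int.ofNat 0, Int.ofNat 0, Int.ofNat 0, Int.ofNat 0, Int.ofNat 0, Int.ofNat 0, Int.ofNat 0, Int.ofNat 0, Int.ofNat 0, Int.ofNat 0, Int.ofNat 0, Int.ofNat 0, Int.ofNat 0, Int.ofNat 0, Int.ofNat 0, Int.ofNat 0, Int.ofNat 0, Int.negSucc 3, Int.ofNat 0, Int.negSucc 3, Int.ofNat 0],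
  [Int.ofNat 0, Int.ofNat 0, Int.ofNat 0, Int.ofNat 0, Int.ofNat 2, Int.ofNat 0, Int.ofNat 0, Int.ofNat 0, Int.ofNat 0, Int.ofNat 2, Int.ofNat 2, Int.ofNat 0, Int.ofNat 0, Int.ofNat 2, Int.ofNat 0, Int.ofNat 2, Int.ofNat 2, Int.ofNat 0, Int.ofNat 0, Int.ofNat 0, Int.negSucc 1, Int.ofNat 0, Int.negSucc 1, Int.ofNat 0],
  [Int.ofNat 0, Int.ofNat 0, Int.ofNat 2, Int.ofNat 0, Int.ofNat 0, Int.ofNat 0, Int.ofNat 0, Int.ofNat 2, Int.ofNat 0, Int.ofNat 2, Int.negSucc 1, Int.ofNat 0, Int.ofNat 2, Int.ofNat 2, Int.negSucc 1, Int.ofNat 2, Int.ofNat 0, Int.ofNat 0, Int.ofNat 0, Int.ofNat 0, Int.ofNat 0, Int.ofNat 0, Int.ofNat 0, Int.ofNat 0],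
  [Int.ofNat 1, Int.ofNat 1, Int.negSucc 0, Int.ofNat 1, Int.negSucc 0, Int.ofNat 1, Int.negSucc 0, Int.ofNat 1, Int.negSucc 0, Int.ofNat 1, Int.negSucc 2, Int.negSucc 0, Int.ofNat 1, Int.ofNat 1, Int.negSucc 0, Int.ofNat 1, Int.negSucc 0, Int.ofNat 1, Int.negSucc 0, Int.negSucc 0, Int.negSucc 0, Int.negSucc 0, Int.negSucc 0, Int.ofNat 1],
  [Int.ofNat 1, Int.ofNat 1, Int.ofNat 1, Int.ofNat 1, Int.negSucc 0, Int.negSucc 0, Int.ofNat 1, Int.ofNat 1, Int.negSucc 0, Int.negSucc 0, Int.ofNat 3, Int.negSucc 0, Int.ofNat 1, Int.ofNat 1, Int.negSucc 0, Int.negSucc 0, Int.negSucc 0, Int.ofNat 1, Int.ofNat 1, Int.negSucc 0, Int.negSucc 0, Int.negSucc 0, Int.ofNat 1, Int.ofNat 1],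
  [Int.ofNat 1, Int.negSucc 0, Int.negSucc 0, Int.negSucc 0, Int.ofNat 1, Int.ofNat 1, Int.negSucc 0, Int.negSucc 0, Int.ofNat 3, Int.ofNat 1, Int.ofNat 1, Int.ofNat 1, Int.ofNat 1, Int.ofNat 1, Int.negSucc 0, Int.negSucc 0, Int.ofNat 1, Int.ofNat 1, Int.negSucc 0, Int.negSucc 0, Int.negSucc 0, Int.negSucc 0, Int.ofNat 1, Int.ofNat 1],
  [Int.ofNat 1, Int.negSucc 0, Int.ofNat 1, Int.negSucc 0, Int.ofNat 1, Int.negSucc 0, Int.ofNat 1, Int.negSucc 0, Int.ofNat 3, Int.negSucc 0, Int.negSucc 0, Int.ofNat 1, Int.ofNat 1, Int.ofNat 1, Int.negSucc 0, Int.ofNat 1, Int.ofNat 1, Int.ofNat 1, Int.ofNat 1, Int.negSucc 0, Int.negSucc 0, Int.negSucc 0, Int.negSucc 0, Int.ofNat 1],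
  [Int.ofNat 0, Int.ofNat 2, Int.ofNat 0, Int.ofNat 0, Int.ofNat 0, Int.ofNat 0, Int.ofNat 2, Int.ofNat 0, Int.ofNat 0, Int.ofNat 0, Int.ofNat 0, Int.negSucc 1, Int.negSucc 1, Int.ofNat 0, Int.ofNat 0, Int.ofNat 2, Int.ofNat 0, Int.ofNat 2, Int.negSucc 1, Int.ofNat 0, Int.ofNat 0, Int.ofNat 0, Int.negSucc 1, Int.ofNat 0],
  [Int.ofNat 0, Int.negSucc 1, Int.ofNat 2, Int.ofNat 0, Int.ofNat 0, Int.ofNat 0, Int.ofNat 2, Int.ofNat 0, Int.ofNat 0, Int.negSucc 1, Int.ofNat 0, Int.ofNat 0, Int.ofNat 0, Int.ofNat 0, Int.ofNat 2, Int.ofNat 2, Int.ofNat 0, Int.negSucc 1, Int.ofNat 0, Int.negSucc 1, Int.ofNat 0, Int.ofNat 0, Int.ofNat 0, Int.ofNat 0],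
  [Int.ofNat 0, Int.ofNat 2, Int.negSucc 1, Int.ofNat 0, Int.ofNat 0, Int.ofNat 0, Int.ofNat 2, Int.ofNat 0, Int.ofNat 0, Int.negSucc 1, Int.ofNat 0, Int.ofNat 0, Int.ofNat 0, Int.ofNat 0, Int.ofNat 2, Int.ofNat 2, Int.ofNat 0, Int.negSucc 1, Int.ofNat 0, Int.negSucc 1, Int.ofNat 0, Int.ofNat 0, Int.ofNat 0, Int.ofNat 0],
  [Int.ofNat 0, Int.ofNat 0, Int.ofNat 0, Int.ofNat 0, Int.ofNat 2, Int.negSucc 1, Int.ofNat 0, Int.ofNat 0, Int.ofNat 0, Int.ofNat 2, Int.ofNat 0, Int.ofNat 0, Int.negSucc 1, Int.ofNat 0, Int.ofNat 0, Int.ofNat 0, Int.ofNat 0, Int.ofNat 2, Int.ofNat 2, Int.ofNat 0, Int.negSucc 1, Int.ofNat 0, Int.negSucc 1, Int.ofNat 0],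
  [Int.ofNat 0, Int.ofNat 0, Int.ofNat 0, Int.ofNat 0, Int.ofNat 2, Int.negSucc 1, Int.ofNat 0, Int.ofNat 0, Int.ofNat 0, Int.ofNat 2, Int.ofNat 0, Int.ofNat 0, Int.negSucc 1, Int.ofNat 0, Int.ofNat 0, Int.ofNat 0, Int.ofNat 0, Int.ofNat 2, Int.ofNat 2, Int.ofNat 0, Int.negSucc 1, Int.ofNat 0, Int.negSucc 1, Int.ofNat 0],
  [Int.ofNat 0, Int.ofNat 0, Int.ofNat 0, Int.ofNat 2, Int.negSucc 1, Int.ofNat 0, Int.ofNat 0, Int.ofNat 0, Int.ofNat 2, Int.ofNat 0, Int.ofNat 0, Int.negSucc 1, Int.ofNat 0, Int.ofNat 0, Int.ofNat 0, Int.ofNat 0, Int.ofNat 2, Int.ofNat 2, Int.ofNat 0, Int.negSucc 1, Int.ofNat 0, Int.negSucc 1, Int.ofNat 0, Int.ofNat 0],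
  [Int.ofNat 0, Int.ofNat 0, Int.ofNat 0, Int.ofNat 2, Int.negSucc 1, Int.ofNat 0, Int.ofNat 0, Int.ofNat 0, Int.ofNat 2, Int.ofNat 0, Int.ofNat 0, Int.ofNat 2, Int.ofNat 0, Int.ofNat 0, Int.ofNat 0, Int.ofNat 0, Int.ofNat 2, Int.ofNat 2, Int.ofNat 0, Int.negSucc 1, Int.ofNat 0, Int.ofNat 2, Int.ofNat 0, Int.ofNat 0],
  [Int.ofNat 0, Int.ofNat 0, Int.ofNat 0, Int.negSucc 1, Int.ofNat 2, Int.ofNat 0, Int.ofNat 0, Int.ofNat 0, Int.negSucc 1, Int.ofNat 0, Int.ofNat 0, Int.ofNat 2, Int.ofNat 0, Int.ofNat 0, Int.ofNat 0, Int.ofNat 0, Int.negSucc 1, Int.ofNat 2, Int.ofNat 0, Int.negSucc 1, Int.ofNat 0, Int.ofNat 2, Int.ofNat 0, Int.ofNat 0],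
  [Int.ofNat 0, Int.ofNat 0, Int.ofNat 2, Int.ofNat 0, Int.ofNat 2, Int.ofNat 0, Int.negSucc 1, Int.ofNat 0, Int.ofNat 0, Int.ofNat 0, Int.negSucc 1, Int.ofNat 0, Int.ofNat 2, Int.ofNat 0, Int.ofNat 0, Int.negSucc 1, Int.ofNat 0, Int.ofNat 2, Int.ofNat 0, Int.ofNat 0, Int.negSucc 1, Int.ofNat 0, Int.ofNat 0, Int.ofNat 0],
  [Int.ofNat 0, Int.ofNat 0, Int.negSucc 1, Int.ofNat 0, Int.ofNat 2, Int.ofNat 0, Int.negSucc 1, Int.ofNat 0, Int.ofNat 0, Int.ofNat 0, Int.ofNat 2, Int.ofNat 0, Int.ofNat 2, Int.ofNat 0, Int.ofNat 0, Int.negSucc 1, Int.ofNat 0, Int.ofNat 2, Int.ofNat 0, Int.ofNat 0, Int.negSucc 1, Int.ofNat 0, Int.ofNat 0, Int.ofNat 0],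
  [Int.ofNat 0, Int.ofNat 0, Int.ofNat 0, Int.negSucc 1, Int.ofNat 0, Int.ofNat 2, Int.ofNat 0, Int.negSucc 1, Int.ofNat 0, Int.ofNat 0, Int.ofNat 0, Int.ofNat 2, Int.ofNat 0, Int.ofNat 2, Int.ofNat 0, Int.ofNat 0, Int.negSucc 1, Int.ofNat 0, Int.ofNat 2, Int.ofNat 0, Int.ofNat 0, Int.negSucc 1, Int.ofNat 0, Int.ofNat 0],
  [Int.ofNat 0, Int.ofNat 0, Int.ofNat 0, Int.negSucc 1, Int.ofNat 0, Int.ofNat 2, Int.ofNat 2, Int.ofNat 0, Int.negSucc 1, Int.ofNat 0, Int.ofNat 0, Int.ofNat 0, Int.negSucc 1, Int.ofNat 2, Int.ofNat 0, Int.ofNat 0, Int.negSucc 1, Int.ofNat 0, Int.ofNat 0, Int.ofNat 2, Int.ofNat 0, Int.ofNat 0, Int.ofNat 0, Int.ofNat 0],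
  [Int.negSucc 1, Int.ofNat 0, Int.ofNat 2, Int.ofNat 2, Int.ofNat 0, Int.negSucc 1, Int.ofNat 0, Int.ofNat 0, Int.ofNat 0, Int.negSucc 1, Int.ofNat 2, Int.ofNat 0, Int.ofNat 0, Int.negSucc 1, Int.ofNat 0, Int.ofNat 0, Int.ofNat 2, Int.ofNat 0, Int.ofNat 0, Int.ofNat 0, Int.ofNat 0, Int.ofNat 0, Int.ofNat 0, Int.ofNat 0],
  [Int.ofNat 2, Int.ofNat 0, Int.negSucc 1, Int.ofNat 2, Int.ofNat 0, Int.negSucc 1, Int.ofNat 0, Int.ofNat 0, Int.ofNat 0, Int.negSucc 1, Int.ofNat 2, Int.ofNat 0, Int.ofNat 0, Int.negSucc 1, Int.ofNat 0, Int.ofNat 0, Int.ofNat 2, Int.ofNat 0, Int.ofNat 0, Int.ofNat 0, Int.ofNat 0, Int.ofNat 0, Int.ofNat 0, Int.ofNat 0],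
  [Int.ofNat 2, Int.ofNat 0, Int.ofNat 0, Int.ofNat 2, Int.ofNat 0, Int.ofNat 0, Int.negSucc 1, Int.ofNat 2, Int.ofNat 0, Int.negSucc 1, Int.ofNat 0, Int.ofNat 0, Int.negSucc 1, Int.ofNat 2, Int.ofNat 0, Int.ofNat 0, Int.ofNat 0, Int.ofNat 0, Int.ofNat 0, Int.ofNat 0, Int.ofNat 0, Int.negSucc 1, Int.ofNat 0, Int.ofNat 0],
  [Int.negSucc 0, Int.ofNat 1, Int.ofNat 1, Int.ofNat 1, Int.negSucc 0, Int.negSucc 0, Int.negSucc 0, Int.ofNat 3, Int.ofNat 1, Int.negSucc 0, Int.ofNat 1, Int.ofNat 1, Int.negSucc 0, Int.ofNat 1, Int.negSucc 0, Int.ofNat 1, Int.negSucc 0, Int.negSucc 0, Int.ofNat 1, Int.ofNat 1, Int.ofNat 1, Int.negSucc 0, Int.negSucc 0, Int.ofNat 1],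
  [Int.negSucc 0, Int.ofNat 1, Int.negSucc 0, Int.ofNat 1, Int.negSucc 0, Int.ofNat 1, Int.ofNat 1, Int.ofNat 3, Int.ofNat 1, Int.ofNat 1, Int.negSucc 0, Int.ofNat 1, Int.negSucc 0, Int.ofNat 1, Int.negSucc 0, Int.negSucc 0, Int.negSucc 0, Int.negSucc 0, Int.negSucc 0, Int.ofNat 1, Int.ofNat 1, Int.negSucc 0, Int.ofNat 1, Int.ofNat 1],
  [Int.negSucc 0, Int.ofNat 1, Int.ofNat 1, Int.negSucc 0, Int.ofNat 1, Int.ofNat 1, Int.ofNat 1, Int.ofNat 1, Int.negSucc 0, Int.negSucc 0, Int.negSucc 0, Int.ofNat 1, Int.negSucc 0, Int.ofNat 1, Int.negSucc 0, Int.ofNat 1, Int.ofNat 1, Int.ofNat 3, Int.negSucc 0, Int.negSucc 0, Int.negSucc 0, Int.ofNat 1, Int.negSucc 0, Int.ofNat 1],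
  [Int.negSucc 0, Int.ofNat 1, Int.negSucc 0, Int.negSucc 0, Int.ofNat 1, Int.negSucc 0, Int.negSucc 0, Int.ofNat 1, Int.negSucc 0, Int.ofNat 1, Int.ofNat 1, Int.ofNat 1, Int.negSucc 0, Int.ofNat 1, Int.negSucc 0, Int.negSucc 0, Int.ofNat 1, Int.ofNat 3, Int.ofNat 1, Int.negSucc 0, Int.negSucc 0, Int.ofNat 1, Int.ofNat 1, Int.ofNat 1],
  [Int.ofNat 1, Int.negSucc 0, Int.ofNat 1, Int.negSucc 0, Int.negSucc 0, Int.negSucc 0, Int.negSucc 0, Int.ofNat 1, Int.negSucc 0, Int.ofNat 1, Int.ofNat 1, Int.ofNat 1, Int.negSucc 0, Int.negSucc 0, Int.negSucc 0, Int.negSucc 0, Int.negSucc 0, Int.ofNat 3, Int.ofNat 1, Int.negSucc 0, Int.negSucc 0, Int.ofNat 1, Int.negSucc 0, Int.negSucc 0],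
  [Int.ofNat 1, Int.ofNat 1, Int.negSucc 0, Int.negSucc 0, Int.ofNat 1, Int.ofNat 1, Int.negSucc 0, Int.negSucc 0, Int.negSucc 0, Int.negSucc 0, Int.ofNat 1, Int.negSucc 0, Int.negSucc 0, Int.ofNat 1, Int.ofNat 3, Int.negSucc 0, Int.negSucc 0, Int.ofNat 1, Int.negSucc 0, Int.negSucc 0, Int.ofNat 1, Int.negSucc 0, Int.negSucc 0, Int.negSucc 0],
  [Int.negSucc 0, Int.negSucc 0, Int.ofNat 1, Int.negSucc 2, Int.ofNat 1, Int.negSucc 0, Int.ofNat 1, Int.ofNat 1, Int.ofNat 1, Int.negSucc 0, Int.ofNat 1, Int.ofNat 1, Int.ofNat 1, Int.ofNat 1, Int.ofNat 1, Int.negSucc 0, Int.negSucc 0, Int.negSucc 0, Int.ofNat 1, Int.ofNat 1, Int.ofNat 1, Int.ofNat 1, Int.negSucc 0, Int.ofNat 1],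
  [Int.ofNat 1, Int.ofNat 1, Int.negSucc 0, Int.negSucc 0, Int.negSucc 0, Int.ofNat 1, Int.negSucc 2, Int.ofNat 1, Int.negSucc 0, Int.ofNat 1, Int.ofNat 1, Int.ofNat 1, Int.negSucc 0, Int.ofNat 1, Int.ofNat 1, Int.ofNat 1, Int.ofNat 1, Int.ofNat 1, Int.negSucc 0, Int.negSucc 0, Int.negSucc 0, Int.ofNat 1, Int.ofNat 1, Int.ofNat 1],
  [Int.ofNat 0, Int.ofNat 0, Int.ofNat 2, Int.negSucc 1, Int.negSucc 1, Int.ofNat 0, Int.negSucc 1, Int.ofNat 2, Int.ofNat 0, Int.ofNat 0, Int.ofNat 0, Int.ofNat 2, Int.ofNat 0, Int.ofNat 0, Int.ofNat 0, Int.ofNat 0, Int.ofNat 0, Int.ofNat 0, Int.ofNat 0, Int.ofNat 0, Int.negSucc 1, Int.ofNat 2, Int.ofNat 0, Int.ofNat 0],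
  [Int.ofNat 0, Int.ofNat 2, Int.negSucc 1, Int.negSucc 1, Int.ofNat 0, Int.negSucc 1, Int.ofNat 2, Int.ofNat 0, Int.ofNat 0, Int.ofNat 0, Int.ofNat 2, Int.ofNat 0, Int.ofNat 0, Int.ofNat 0, Int.ofNat 0, Int.ofNat 0, Int.ofNat 0, Int.ofNat 0, Int.ofNat 0, Int.negSucc 1, Int.ofNat 2, Int.ofNat 0, Int.ofNat 0, Int.ofNat 0],
  [Int.ofNat 0, Int.ofNat 2, Int.ofNat 2, Int.negSucc 1, Int.ofNat 0, Int.negSucc 1, Int.ofNat 2, Int.ofNat 0, Int.ofNat 0, Int.ofNat 0, Int.negSucc 1, Int.ofNat 0, Int.ofNat 0, Int.ofNat 0, Int.ofNat 0, Int.ofNat 0, Int.ofNat 0, Int.ofNat 0, Int.ofNat 0, Int.negSucc 1, Int.ofNat 2, Int.ofNat 0, Int.ofNat 0, Int.ofNat 0],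
  [Int.ofNat 0, Int.negSucc 1, Int.negSucc 1, Int.ofNat 2, Int.ofNat 0, Int.negSucc 1, Int.negSucc 1, Int.ofNat 0, Int.ofNat 0, Int.ofNat 0, Int.negSucc 1, Int.ofNat 0, Int.ofNat 0, Int.ofNat 0, Int.ofNat 0, Int.ofNat 0, Int.ofNat 0, Int.ofNat 0, Int.ofNat 0, Int.negSucc 1, Int.ofNat 2, Int.ofNat 0, Int.ofNat 0, Int.ofNat 0],
  [Int.ofNat 0, Int.ofNat 0, Int.ofNat 0, Int.ofNat 0, Int.ofNat 0, Int.ofNat 0, Int.negSucc 1, Int.ofNat 0, Int.ofNat 2, Int.negSucc 1, Int.ofNat 0, Int.negSucc 1, Int.ofNat 0, Int.ofNat 0, Int.ofNat 0, Int.ofNat 2, Int.negSucc 1, Int.ofNat 0, Int.ofNat 0, Int.negSucc 1, Int.ofNat 0, Int.ofNat 0, Int.negSucc 1, Int.ofNat 0],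
  [Int.ofNat 0, Int.ofNat 0, Int.ofNat 0, Int.ofNat 0, Int.ofNat 0, Int.ofNat 0, Int.negSucc 1, Int.ofNat 0, Int.ofNat 2, Int.ofNat 2, Int.ofNat 0, Int.ofNat 2, Int.ofNat 0, Int.ofNat 0, Int.ofNat 0, Int.ofNat 2, Int.negSucc 1, Int.ofNat 0, Int.ofNat 0, Int.negSucc 1, Int.ofNat 0, Int.ofNat 0, Int.negSucc 1, Int.ofNat 0],
  [Int.negSucc 1, Int.ofNat 0, Int.ofNat 0, Int.ofNat 0, Int.ofNat 0, Int.ofNat 0, Int.ofNat 0, Int.negSucc 1, Int.ofNat 0, Int.ofNat 2, Int.ofNat 2, Int.ofNat 0, Int.ofNat 2, Int.ofNat 0, Int.ofNat 0, Int.ofNat 0, Int.ofNat 2, Int.negSucc 1, Int.ofNat 0, Int.ofNat 0, Int.negSucc 1, Int.ofNat 0, Int.ofNat 0, Int.ofNat 0],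
  [Int.ofNat 1, Int.negSucc 0, Int.negSucc 0, Int.ofNat 1, Int.negSucc 0, Int.ofNat 1, Int.ofNat 1, Int.negSucc 0, Int.negSucc 0, Int.ofNat 1, Int.ofNat 1, Int.negSucc 0, Int.ofNat 1, Int.negSucc 0, Int.ofNat 1, Int.negSucc 0, Int.ofNat 1, Int.negSucc 0, Int.negSucc 0, Int.ofNat 1, Int.negSucc 2, Int.ofNat 1, Int.negSucc 0, Int.negSucc 0],
  [Int.ofNat 1, Int.negSucc 0, Int.ofNat 1, Int.ofNat 1, Int.negSucc 0, Int.negSucc 0, Int.ofNat 1, Int.ofNat 1, Int.negSucc 0, Int.ofNat 1, Int.negSucc 0, Int.ofNat 1, Int.negSucc 0, Int.ofNat 1, Int.negSucc 0, Int.negSucc 0, Int.ofNat 1, Int.negSucc 2, Int.ofNat 1, Int.negSucc 0, Int.ofNat 1, Int.negSucc 0, Int.negSucc 0, Int.negSucc 0],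
  [Int.negSucc 0, Int.ofNat 1, Int.negSucc 0, Int.ofNat 3, Int.negSucc 0, Int.ofNat 1, Int.ofNat 1, Int.ofNat 1, Int.negSucc 0, Int.ofNat 1, Int.negSucc 0, Int.ofNat 1, Int.negSucc 0, Int.ofNat 1, Int.ofNat 1, Int.negSucc 0, Int.ofNat 1, Int.negSucc 0, Int.ofNat 1, Int.negSucc 0, Int.ofNat 1, Int.negSucc 0, Int.negSucc 0, Int.ofNat 1],
  [Int.negSucc 0, Int.ofNat 1, Int.negSucc 0, Int.ofNat 3, Int.ofNat 1, Int.ofNat 1, Int.negSucc 0, Int.negSucc 0, Int.negSucc 0, Int.ofNat 1, Int.ofNat 1, Int.negSucc 0, Int.ofNat 1, Int.ofNat 1, Int.negSucc 0, Int.negSucc 0, Int.negSucc 0, Int.ofNat 1, Int.ofNat 1, Int.ofNat 1, Int.negSucc 0, Int.ofNat 1, Int.negSucc 0, Int.ofNat 1],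
  [Int.ofNat 1, Int.negSucc 0, Int.ofNat 1, Int.ofNat 1, Int.ofNat 1, Int.negSucc 0, Int.negSucc 0, Int.negSucc 0, Int.negSucc 0, Int.ofNat 1, Int.ofNat 1, Int.negSucc 0, Int.ofNat 1, Int.ofNat 1, Int.negSucc 2, Int.negSucc 0, Int.negSucc 0, Int.negSucc 0, Int.ofNat 1, Int.ofNat 1, Int.negSucc 0, Int.ofNat 1, Int.negSucc 0, Int.negSucc 0],
  [Int.ofNat 1, Int.negSucc 0, Int.negSucc 0, Int.ofNat 1, Int.ofNat 1, Int.ofNat 1, Int.ofNat 1, Int.negSucc 0, Int.negSucc 0, Int.negSucc 0, Int.negSucc 0, Int.negSucc 0, Int.ofNat 1, Int.ofNat 1, Int.negSucc 2, Int.ofNat 1, Int.negSucc 0, Int.negSucc 0, Int.negSucc 0, Int.ofNat 1, Int.negSucc 0, Int.ofNat 1, Int.ofNat 1, Int.negSucc 0],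
  [Int.ofNat 1, Int.negSucc 0, Int.ofNat 1, Int.negSucc 2, Int.ofNat 1, Int.ofNat 1, Int.negSucc 0, Int.ofNat 1, Int.negSucc 0, Int.negSucc 0, Int.ofNat 1, Int.ofNat 1, Int.negSucc 0, Int.ofNat 1, Int.negSucc 0, Int.negSucc 0, Int.negSucc 0, Int.negSucc 0, Int.ofNat 1, Int.ofNat 1, Int.ofNat 1, Int.negSucc 0, Int.negSucc 0, Int.negSucc 0],
  [Int.ofNat 1, Int.negSucc 0, Int.negSucc 0, Int.negSucc 2, Int.ofNat 1, Int.negSucc 0, Int.ofNat 1, Int.ofNat 1, Int.negSucc 0, Int.ofNat 1, Int.negSucc 0, Int.ofNat 1, Int.negSucc 0, Int.ofNat 1, Int.negSucc 0, Int.ofNat 1, Int.negSucc 0, Int.negSucc 0, Int.negSucc 0, Int.ofNat 1, Int.ofNat 1, Int.negSucc 0, Int.ofNat 1, Int.negSucc 0],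
  [Int.negSucc 1, Int.ofNat 0, Int.ofNat 0, Int.ofNat 0, Int.ofNat 0, Int.ofNat 2, Int.ofNat 0, Int.ofNat 0, Int.ofNat 0, Int.ofNat 0, Int.negSucc 1, Int.ofNat 2, Int.ofNat 0, Int.ofNat 0, Int.ofNat 2, Int.ofNat 0, Int.negSucc 1, Int.ofNat 2, Int.ofNat 0, Int.ofNat 0, Int.ofNat 0, Int.negSucc 1, Int.ofNat 0, Int.ofNat 0],
  [Int.negSucc 1, Int.ofNat 0, Int.ofNat 0, Int.ofNat 0, Int.ofNat 0, Int.negSucc 1, Int.ofNat 0, Int.ofNat 2, Int.negSucc 1, Int.ofNat 0, Int.ofNat 0, Int.ofNat 0, Int.ofNat 0, Int.ofNat 0, Int.ofNat 2, Int.ofNat 0, Int.ofNat 0, Int.ofNat 2, Int.ofNat 0, Int.ofNat 0, Int.negSucc 1, Int.ofNat 0, Int.ofNat 2, Int.ofNat 0],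
  [Int.ofNat 1, Int.negSucc 0, Int.negSucc 0, Int.negSucc 0, Int.negSucc 0, Int.negSucc 2, Int.negSucc 0, Int.ofNat 1, Int.negSucc 0, Int.ofNat 1, Int.ofNat 1, Int.ofNat 1, Int.ofNat 1, Int.negSucc 0, Int.ofNat 1, Int.ofNat 1, Int.negSucc 0, Int.ofNat 1, Int.ofNat 1, Int.negSucc 0, Int.negSucc 0, Int.negSucc 0, Int.ofNat 1, Int.negSucc 0],
  [Int.negSucc 0, Int.negSucc 0, Int.ofNat 1, Int.ofNat 1, Int.negSucc 0, Int.negSucc 0, Int.negSucc 0, Int.negSucc 0, Int.negSucc 2, Int.negSucc 0, Int.ofNat 1, Int.negSucc 0, Int.ofNat 1, Int.ofNat 1, Int.ofNat 1, Int.ofNat 1, Int.negSucc 0, Int.ofNat 1, Int.ofNat 1, Int.negSucc 0, Int.ofNat 1, Int.ofNat 1, Int.negSucc 0, Int.negSucc 0],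
  [Int.ofNat 0, Int.ofNat 0, Int.negSucc 1, Int.ofNat 0, Int.ofNat 0, Int.negSucc 1, Int.ofNat 0, Int.ofNat 0, Int.negSucc 1, Int.negSucc 1, Int.ofNat 0, Int.ofNat 0, Int.ofNat 2, Int.ofNat 2, Int.ofNat 0, Int.ofNat 0, Int.ofNat 0, Int.ofNat 0, Int.ofNat 2, Int.ofNat 0, Int.ofNat 0, Int.ofNat 2, Int.ofNat 0, Int.ofNat 0],
  [Int.ofNat 0, Int.negSucc 1, Int.ofNat 0, Int.ofNat 0, Int.negSucc 1, Int.ofNat 0, Int.ofNat 0, Int.negSucc 1, Int.negSucc 1, Int.ofNat 0, Int.ofNat 0, Int.ofNat 2, Int.ofNat 2, Int.ofNat 0, Int.ofNat 0, Int.ofNat 0, Int.ofNat 0, Int.ofNat 2, Int.ofNat 0, Int.ofNat 0, Int.ofNat 2, Int.ofNat 0, Int.ofNat 0, Int.ofNat 0],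
  [Int.ofNat 0, Int.negSucc 1, Int.ofNat 0, Int.ofNat 0, Int.negSucc 1, Int.ofNat 0, Int.ofNat 0, Int.ofNat 2, Int.negSucc 1, Int.ofNat 0, Int.ofNat 0, Int.negSucc 1, Int.ofNat 2, Int.ofNat 0, Int.ofNat 0, Int.ofNat 0, Int.ofNat 0, Int.ofNat 2, Int.ofNat 0, Int.ofNat 0, Int.ofNat 2, Int.ofNat 0, Int.ofNat 0, Int.ofNat 0],
  [Int.ofNat 0, Int.ofNat 2, Int.ofNat 0, Int.ofNat 0, Int.ofNat 2, Int.ofNat 0, Int.ofNat 0, Int.ofNat 2, Int.ofNat 2, Int.ofNat 0, Int.ofNat 0, Int.negSucc 1, Int.negSucc 1, Int.ofNat 0, Int.ofNat 0, Int.ofNat 0, Int.ofNat 0, Int.ofNat 2, Int.ofNat 0, Int.ofNat 0, Int.ofNat 2, Int.ofNat 0, Int.ofNat 0, Int.ofNat 0],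
  [Int.ofNat 0, Int.ofNat 0, Int.negSucc 1, Int.ofNat 0, Int.ofNat 2, Int.ofNat 0, Int.ofNat 0, Int.ofNat 0, Int.ofNat 2, Int.ofNat 0, Int.ofNat 0, Int.ofNat 0, Int.ofNat 0, Int.ofNat 2, Int.ofNat 0, Int.ofNat 0, Int.ofNat 0, Int.ofNat 2, Int.ofNat 0, Int.ofNat 0, Int.ofNat 2, Int.negSucc 1, Int.ofNat 2, Int.ofNat 0],
  [Int.ofNat 0, Int.ofNat 0, Int.ofNat 2, Int.ofNat 0, Int.ofNat 2, Int.ofNat 0, Int.ofNat 0, Int.ofNat 0, Int.ofNat 2, Int.ofNat 0, Int.ofNat 0, Int.ofNat 0, Int.ofNat 0, Int.ofNat 2, Int.ofNat 0, Int.ofNat 0, Int.ofNat 0, Int.ofNat 2, Int.ofNat 0, Int.ofNat 0, Int.ofNat 2, Int.ofNat 2, Int.ofNat 2, Int.ofNat 0],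
  [Int.ofNat 2, Int.ofNat 0, Int.ofNat 0, Int.ofNat 2, Int.ofNat 0, Int.ofNat 2, Int.ofNat 0, Int.ofNat 0, Int.ofNat 0, Int.ofNat 2, Int.ofNat 0, Int.ofNat 0, Int.ofNat 0, Int.ofNat 0, Int.ofNat 2, Int.ofNat 0, Int.ofNat 0, Int.ofNat 0, Int.ofNat 2, Int.ofNat 0, Int.ofNat 0, Int.ofNat 2, Int.ofNat 2, Int.ofNat 0],
  [Int.negSucc 0, Int.ofNat 1, Int.ofNat 1, Int.negSucc 0, Int.negSucc 0, Int.negSucc 0, Int.negSucc 0, Int.negSucc 0, Int.negSucc 0, Int.ofNat 1, Int.negSucc 0, Int.negSucc 0, Int.negSucc 0, Int.negSucc 0, Int.negSucc 0, Int.negSucc 0, Int.negSucc 0, Int.negSucc 2, Int.ofNat 1, Int.negSucc 0, Int.negSucc 0, Int.ofNat 1, Int.ofNat 1, Int.ofNat 1],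
  [Int.negSucc 0, Int.negSucc 0, Int.negSucc 0, Int.negSucc 0, Int.negSucc 0, Int.negSucc 0, Int.ofNat 1, Int.negSucc 0, Int.negSucc 0, Int.negSucc 0, Int.negSucc 0, Int.negSucc 0, Int.negSucc 0, Int.negSucc 0, Int.negSucc 2, Int.ofNat 1, Int.negSucc 0, Int.negSucc 0, Int.ofNat 1, Int.ofNat 1, Int.negSucc 0, Int.ofNat 1, Int.ofNat 1, Int.ofNat 1],
  [Int.ofNat 0, Int.ofNat 0, Int.ofNat 0, Int.ofNat 2, Int.ofNat 0, Int.ofNat 2, Int.ofNat 0, Int.negSucc 1, Int.ofNat 0, Int.ofNat 0, Int.ofNat 0, Int.ofNat 0, Int.ofNat 0, Int.ofNat 0, Int.ofNat 0, Int.ofNat 2, Int.ofNat 0, Int.ofNat 2, Int.ofNat 2, Int.ofNat 0, Int.ofNat 0, Int.ofNat 0, Int.ofNat 2, Int.negSucc 1],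
  [Int.ofNat 0, Int.ofNat 0, Int.ofNat 0, Int.ofNat 2, Int.ofNat 2, Int.negSucc 1, Int.ofNat 0, Int.ofNat 0, Int.ofNat 0, Int.ofNat 0, Int.ofNat 0, Int.ofNat 2, Int.ofNat 0, Int.ofNat 0, Int.ofNat 2, Int.ofNat 2, Int.ofNat 0, Int.ofNat 0, Int.ofNat 0, Int.ofNat 0, Int.ofNat 0, Int.ofNat 2, Int.ofNat 0, Int.negSucc 1],
  [Int.negSucc 0, Int.negSucc 0, Int.negSucc 0, Int.ofNat 1, Int.ofNat 1, Int.negSucc 2, Int.negSucc 0, Int.negSucc 0, Int.negSucc 0, Int.negSucc 0, Int.negSucc 0, Int.ofNat 1, Int.negSucc 0, Int.negSucc 0, Int.ofNat 1, Int.ofNat 1, Int.negSucc 0, Int.negSucc 0, Int.negSucc 0, Int.negSucc 0, Int.negSucc 0, Int.ofNat 1, Int.negSucc 0, Int.ofNat 1],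
  [Int.negSucc 0, Int.negSucc 0, Int.ofNat 1, Int.ofNat 1, Int.ofNat 1, Int.ofNat 3, Int.ofNat 1, Int.negSucc 0, Int.negSucc 0, Int.ofNat 1, Int.ofNat 1, Int.ofNat 1, Int.negSucc 0, Int.negSucc 0, Int.ofNat 1, Int.negSucc 0, Int.negSucc 0, Int.negSucc 0, Int.ofNat 1, Int.negSucc 0, Int.negSucc 0, Int.ofNat 1, Int.ofNat 1, Int.ofNat 1],
  [Int.negSucc 0, Int.ofNat 1, Int.negSucc 0, Int.ofNat 1, Int.negSucc 0, Int.ofNat 1, Int.ofNat 1, Int.ofNat 3, Int.ofNat 1, Int.ofNat 1, Int.negSucc 0, Int.ofNat 1, Int.negSucc 0, Int.ofNat 1, Int.negSucc 0, Int.negSucc 0, Int.negSucc 0, Int.negSucc 0, Int.negSucc 0, Int.ofNat 1, Int.ofNat 1, Int.negSucc 0, Int.ofNat 1, Int.ofNat 1],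
  [Int.negSucc 0, Int.ofNat 1, Int.ofNat 1, Int.ofNat 1, Int.negSucc 0, Int.negSucc 0, Int.negSucc 0, Int.ofNat 3, Int.ofNat 1, Int.negSucc 0, Int.ofNat 1, Int.ofNat 1, Int.negSucc 0, Int.ofNat 1, Int.negSucc 0, Int.ofNat 1, Int.negSucc 0, Int.negSucc 0, Int.ofNat 1, Int.ofNat 1, Int.ofNat 1, Int.negSucc 0, Int.negSucc 0, Int.ofNat 1],
  [Int.ofNat 2, Int.ofNat 0, Int.ofNat 0, Int.ofNat 2, Int.ofNat 0, Int.ofNat 0, Int.negSucc 1, Int.ofNat 2, Int.ofNat 0, Int.negSucc 1, Int.ofNat 0, Int.ofNat 0, Int.negSucc 1, Int.ofNat 2, Int.ofNat 0, Int.ofNat 0, Int.ofNat 0, Int.ofNat 0, Int.ofNat 0, Int.ofNat 0, Int.ofNat 0, Int.negSucc 1, Int.ofNat 0, Int.ofNat 0],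
  [Int.ofNat 2, Int.ofNat 0, Int.negSucc 1, Int.ofNat 2, Int.ofNat 0, Int.negSucc 1, Int.ofNat 0, Int.ofNat 0, Int.ofNat 0, Int.negSucc 1, Int.ofNat 2, Int.ofNat 0, Int.ofNat 0, Int.negSucc 1, Int.ofNat 0, Int.ofNat 0, Int.ofNat 2, Int.ofNat 0, Int.ofNat 0, Int.ofNat 0, Int.ofNat 0, Int.ofNat 0, Int.ofNat 0, Int.ofNat 0],
  [Int.negSucc 1, Int.ofNat 0, Int.ofNat 2, Int.ofNat 2, Int.ofNat 0, Int.negSucc 1, Int.ofNat 0, Int.ofNat 0, Int.ofNat 0, Int.negSucc 1, Int.ofNat 2, Int.ofNat 0, Int.ofNat 0, Int.negSucc 1, Int.ofNat 0, Int.ofNat 0, Int.ofNat 2, Int.ofNat 0, Int.ofNat 0, Int.ofNat 0, Int.ofNat 0, Int.ofNat 0, Int.ofNat 0, Int.ofNat 0],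
  [Int.ofNat 0, Int.ofNat 0, Int.ofNat 0, Int.negSucc 1, Int.ofNat 0, Int.ofNat 2, Int.ofNat 2, Int.ofNat 0, Int.negSucc 1, Int.ofNat 0, Int.ofNat 0, Int.ofNat 0, Int.negSucc 1, Int.ofNat 2, Int.ofNat 0, Int.ofNat 0, Int.negSucc 1, Int.ofNat 0, Int.ofNat 0, Int.ofNat 2, Int.ofNat 0, Int.ofNat 0, Int.ofNat 0, Int.ofNat 0],
  [Int.ofNat 0, Int.ofNat 0, Int.ofNat 0, Int.negSucc 1, Int.ofNat 0, Int.ofNat 2, Int.ofNat 0, Int.negSucc 1, Int.ofNat 0, Int.ofNat 0, Int.ofNat 0, Int.ofNat 2, Int.ofNat 0, Int.ofNat 2, Int.ofNat 0, Int.ofNat 0, Int.negSucc 1, Int.ofNat 0, Int.ofNat 2, Int.ofNat 0, Int.ofNat 0, Int.negSucc 1, Int.ofNat 0, Int.ofNat 0],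
  [Int.ofNat 0, Int.ofNat 0, Int.negSucc 1, Int.ofNat 0, Int.ofNat 2, Int.ofNat 0, Int.negSucc 1, Int.ofNat 0, Int.ofNat 0, Int.ofNat 0, Int.ofNat 2, Int.ofNat 0, Int.ofNat 2, Int.ofNat 0, Int.ofNat 0, Int.negSucc 1, Int.ofNat 0, Int.ofNat 2, Int.ofNat 0, Int.ofNat 0, Int.negSucc 1, Int.ofNat 0, Int.ofNat 0, Int.ofNat 0],
  [Int.ofNat 0, Int.ofNat 0, Int.ofNat 2, Int.ofNat 0, Int.ofNat 2, Int.ofNat 0, Int.negSucc 1, Int.ofNat 0, Int.ofNat 0, Int.ofNat 0, Int.negSucc 1, Int.ofNat 0, Int.ofNat 2, Int.ofNat 0, Int.ofNat 0, Int.negSucc 1, Int.ofNat 0, Int.ofNat 2, Int.ofNat 0, Int.ofNat 0, Int.negSucc 1, Int.ofNat 0, Int.ofNat 0, Int.ofNat 0],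
  [Int.ofNat 0, Int.ofNat 0, Int.negSucc 1, Int.ofNat 0, Int.negSucc 1, Int.ofNat 0, Int.ofNat 2, Int.ofNat 0, Int.ofNat 0, Int.ofNat 0, Int.negSucc 1, Int.ofNat 0, Int.negSucc 1, Int.ofNat 0, Int.ofNat 0, Int.negSucc 1, Int.ofNat 0, Int.ofNat 2, Int.ofNat 0, Int.ofNat 0, Int.negSucc 1, Int.ofNat 0, Int.ofNat 0, Int.ofNat 0],
  [Int.ofNat 0, Int.ofNat 0, Int.ofNat 0, Int.negSucc 1, Int.ofNat 2, Int.ofNat 0, Int.ofNat 0, Int.ofNat 0, Int.negSucc 1, Int.ofNat 0, Int.ofNat 0, Int.negSucc 1, Int.ofNat 0, Int.ofNat 0, Int.ofNat 0, Int.ofNat 0, Int.negSucc 1, Int.negSucc 1, Int.ofNat 0, Int.ofNat 2, Int.ofNat 0, Int.negSucc 1, Int.ofNat 0, Int.ofNat 0],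
  [Int.ofNat 0, Int.ofNat 0, Int.ofNat 0, Int.negSucc 1, Int.ofNat 2, Int.ofNat 0, Int.ofNat 0, Int.ofNat 0, Int.negSucc 1, Int.ofNat 0, Int.ofNat 0, Int.ofNat 2, Int.ofNat 0, Int.ofNat 0, Int.ofNat 0, Int.ofNat 0, Int.negSucc 1, Int.negSucc 1, Int.ofNat 0, Int.ofNat 2, Int.ofNat 0, Int.ofNat 2, Int.ofNat 0, Int.ofNat 0],
  [Int.ofNat 0, Int.ofNat 0, Int.ofNat 0, Int.ofNat 0, Int.negSucc 1, Int.ofNat 2, Int.ofNat 0, Int.ofNat 0, Int.ofNat 0, Int.negSucc 1, Int.ofNat 0, Int.ofNat 0, Int.ofNat 2, Int.ofNat 0, Int.ofNat 0, Int.ofNat 0, Int.ofNat 0, Int.negSucc 1, Int.negSucc 1, Int.ofNat 0, Int.ofNat 2, Int.ofNat 0, Int.ofNat 2, Int.ofNat 0],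
  [Int.ofNat 0, Int.ofNat 0, Int.ofNat 0, Int.ofNat 0, Int.negSucc 1, Int.ofNat 2, Int.ofNat 0, Int.ofNat 0, Int.ofNat 0, Int.negSucc 1, Int.ofNat 0, Int.ofNat 0, Int.ofNat 2, Int.ofNat 0, Int.ofNat 0, Int.ofNat 0, Int.ofNat 0, Int.negSucc 1, Int.negSucc 1, Int.ofNat 0, Int.ofNat 2, Int.ofNat 0, Int.ofNat 2, Int.ofNat 0],
  [Int.ofNat 0, Int.negSucc 1, Int.ofNat 2, Int.ofNat 0, Int.ofNat 0, Int.ofNat 0, Int.negSucc 1, Int.ofNat 0, Int.ofNat 0, Int.ofNat 2, Int.ofNat 0, Int.ofNat 0, Int.ofNat 0, Int.ofNat 0, Int.negSucc 1, Int.negSucc 1, Int.ofNat 0, Int.ofNat 2, Int.ofNat 0, Int.ofNat 2, Int.ofNat 0, Int.ofNat 0, Int.ofNat 0, Int.ofNat 0],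
  [Int.ofNat 0, Int.ofNat 2, Int.negSucc 1, Int.ofNat 0, Int.ofNat 0, Int.ofNat 0, Int.negSucc 1, Int.ofNat 0, Int.ofNat 0, Int.ofNat 2, Int.ofNat 0, Int.ofNat 0, Int.ofNat 0, Int.ofNat 0, Int.negSucc 1, Int.negSucc 1, Int.ofNat 0, Int.ofNat 2, Int.ofNat 0, Int.ofNat 2, Int.ofNat 0, Int.ofNat 0, Int.ofNat 0, Int.ofNat 0],
  [Int.ofNat 0, Int.negSucc 1, Int.ofNat 0, Int.ofNat 0, Int.ofNat 0, Int.ofNat 0, Int.negSucc 1, Int.ofNat 0, Int.ofNat 0, Int.ofNat 0, Int.ofNat 0, Int.ofNat 2, Int.ofNat 2, Int.ofNat 0, Int.ofNat 0, Int.negSucc 1, Int.ofNat 0, Int.negSucc 1, Int.ofNat 2, Int.ofNat 0, Int.ofNat 0, Int.ofNat 0, Int.ofNat 2, Int.ofNat 0],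
  [Int.negSucc 0, Int.ofNat 1, Int.negSucc 0, Int.ofNat 1, Int.negSucc 0, Int.ofNat 1, Int.negSucc 0, Int.ofNat 1, Int.negSucc 2, Int.ofNat 1, Int.ofNat 1, Int.negSucc 0, Int.negSucc 0, Int.negSucc 0, Int.ofNat 1, Int.negSucc 0, Int.negSucc 0, Int.negSucc 0, Int.negSucc 0, Int.ofNat 1, Int.ofNat 1, Int.ofNat 1, Int.ofNat 1, Int.negSucc 0],
  [Int.negSucc 0, Int.ofNat 1, Int.ofNat 1, Int.ofNat 1, Int.negSucc 0, Int.negSucc 0, Int.ofNat 1, Int.ofNat 1, Int.negSucc 2, Int.negSucc 0, Int.negSucc 0, Int.negSucc 0, Int.negSucc 0, Int.negSucc 0, Int.ofNat 1, Int.ofNat 1, Int.negSucc 0, Int.negSucc 0, Int.ofNat 1, Int.ofNat 1, Int.ofNat 1, Int.ofNat 1, Int.negSucc 0, Int.negSucc 0],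
  [Int.negSucc 0, Int.negSucc 0, Int.ofNat 1, Int.ofNat 1, Int.negSucc 0, Int.ofNat 1, Int.negSucc 0, Int.negSucc 0, Int.negSucc 0, Int.ofNat 1, Int.negSucc 0, Int.negSucc 0, Int.negSucc 0, Int.ofNat 1, Int.negSucc 0, Int.ofNat 1, Int.ofNat 1, Int.ofNat 1, Int.ofNat 1, Int.negSucc 0, Int.ofNat 1, Int.negSucc 2, Int.ofNat 1, Int.negSucc 0],
  [Int.negSucc 0, Int.negSucc 0, Int.negSucc 0, Int.ofNat 1, Int.negSucc 0, Int.negSucc 0, Int.ofNat 1, Int.negSucc 0, Int.negSucc 0, Int.negSucc 0, Int.ofNat 1, Int.negSucc 0, Int.negSucc 0, Int.ofNat 1, Int.negSucc 0, Int.negSucc 0, Int.ofNat 1, Int.ofNat 1, Int.negSucc 0, Int.negSucc 0, Int.ofNat 1, Int.negSucc 2, Int.negSucc 0, Int.negSucc 0],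
  [Int.negSucc 0, Int.negSucc 0, Int.negSucc 0, Int.ofNat 1, Int.negSucc 0, Int.negSucc 0, Int.ofNat 3, Int.ofNat 1, Int.ofNat 1, Int.negSucc 0, Int.ofNat 1, Int.ofNat 1, Int.ofNat 1, Int.ofNat 1, Int.negSucc 0, Int.negSucc 0, Int.ofNat 1, Int.ofNat 1, Int.ofNat 1, Int.ofNat 1, Int.ofNat 1, Int.negSucc 0, Int.negSucc 0, Int.negSucc 0],
  [Int.negSucc 0, Int.ofNat 1, Int.ofNat 3, Int.ofNat 1, Int.negSucc 0, Int.negSucc 0, Int.negSucc 0, Int.negSucc 0, Int.ofNat 1, Int.ofNat 1, Int.ofNat 1, Int.ofNat 1, Int.ofNat 1, Int.negSucc 0, Int.ofNat 1, Int.negSucc 0, Int.ofNat 1, Int.ofNat 1, Int.negSucc 0, Int.negSucc 0, Int.ofNat 1, Int.ofNat 1, Int.negSucc 0, Int.negSucc 0],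
  [Int.ofNat 2, Int.ofNat 0, Int.negSucc 1, Int.ofNat 0, Int.ofNat 0, Int.negSucc 1, Int.ofNat 0, Int.ofNat 0, Int.ofNat 0, Int.ofNat 0, Int.ofNat 0, Int.ofNat 0, Int.ofNat 0, Int.ofNat 0, Int.ofNat 0, Int.negSucc 1, Int.ofNat 2, Int.ofNat 0, Int.negSucc 1, Int.ofNat 0, Int.ofNat 0, Int.ofNat 2, Int.ofNat 0, Int.ofNat 2],
  [Int.ofNat 0, Int.ofNat 2, Int.ofNat 0, Int.ofNat 2, Int.ofNat 0, Int.negSucc 1, Int.ofNat 0, Int.ofNat 0, Int.negSucc 1, Int.ofNat 0, Int.ofNat 0, Int.ofNat 0, Int.ofNat 0, Int.ofNat 0, Int.ofNat 0, Int.ofNat 0, Int.ofNat 0, Int.ofNat 0, Int.negSucc 1, Int.ofNat 2, Int.ofNat 0, Int.negSucc 1, Int.ofNat 0, Int.ofNat 2],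
  [Int.ofNat 2, Int.ofNat 0, Int.ofNat 2, Int.ofNat 2, Int.ofNat 0, Int.negSucc 1, Int.ofNat 0, Int.ofNat 0, Int.ofNat 0, Int.ofNat 0, Int.ofNat 0, Int.ofNat 2, Int.ofNat 2, Int.ofNat 0, Int.ofNat 0, Int.ofNat 0, Int.ofNat 0, Int.ofNat 0, Int.ofNat 0, Int.ofNat 2, Int.ofNat 0, Int.negSucc 1, Int.ofNat 0, Int.ofNat 0],
  [Int.ofNat 0, Int.ofNat 2, Int.ofNat 2, Int.ofNat 0, Int.negSucc 1, Int.ofNat 0, Int.ofNat 0, Int.ofNat 0, Int.ofNat 0, Int.ofNat 0, Int.ofNat 2, Int.ofNat 2, Int.ofNat 0, Int.ofNat 0, Int.ofNat 0, Int.ofNat 0, Int.ofNat 0, Int.ofNat 0, Int.ofNat 2, Int.ofNat 0, Int.negSucc 1, Int.ofNat 0, Int.ofNat 2, Int.ofNat 0],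
  [Int.ofNat 0, Int.ofNat 2, Int.negSucc 1, Int.ofNat 0, Int.negSucc 1, Int.ofNat 0, Int.ofNat 0, Int.ofNat 0, Int.ofNat 0, Int.ofNat 0, Int.negSucc 1, Int.negSucc 1, Int.ofNat 0, Int.ofNat 0, Int.ofNat 0, Int.ofNat 0, Int.ofNat 0, Int.ofNat 0, Int.negSucc 1, Int.ofNat 0, Int.negSucc 1, Int.ofNat 0, Int.ofNat 2, Int.ofNat 0],
  [Int.ofNat 0, Int.negSucc 1, Int.ofNat 2, Int.ofNat 0, Int.ofNat 2, Int.ofNat 0, Int.ofNat 0, Int.ofNat 0, Int.ofNat 0, Int.ofNat 0, Int.negSucc 1, Int.negSucc 1, Int.ofNat 0, Int.ofNat 0, Int.ofNat 0, Int.ofNat 0, Int.ofNat 0, Int.ofNat 0, Int.ofNat 2, Int.ofNat 0, Int.negSucc 1, Int.ofNat 0, Int.ofNat 2, Int.ofNat 0],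
  [Int.ofNat 0, Int.ofNat 2, Int.negSucc 1, Int.ofNat 0, Int.ofNat 0, Int.ofNat 0, Int.ofNat 0, Int.ofNat 0, Int.negSucc 1, Int.ofNat 0, Int.ofNat 0, Int.ofNat 2, Int.ofNat 0, Int.ofNat 0, Int.ofNat 2, Int.ofNat 0, Int.negSucc 1, Int.ofNat 2, Int.ofNat 0, Int.ofNat 0, Int.ofNat 0, Int.ofNat 0, Int.negSucc 1, Int.ofNat 0],
  [Int.ofNat 0, Int.ofNat 2, Int.ofNat 2, Int.ofNat 0, Int.ofNat 0, Int.ofNat 0, Int.ofNat 0, Int.ofNat 0, Int.negSucc 1, Int.ofNat 0, Int.ofNat 0, Int.negSucc 1, Int.ofNat 0, Int.ofNat 0, Int.ofNat 2, Int.ofNat 0, Int.negSucc 1, Int.ofNat 2, Int.ofNat 0, Int.ofNat 0, Int.ofNat 0, Int.ofNat 0, Int.negSucc 1, Int.ofNat 0],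
  [Int.negSucc 1, Int.ofNat 0, Int.ofNat 2, Int.ofNat 2, Int.ofNat 0, Int.ofNat 0, Int.ofNat 0, Int.ofNat 0, Int.ofNat 0, Int.negSucc 1, Int.ofNat 0, Int.ofNat 0, Int.negSucc 1, Int.ofNat 0, Int.ofNat 0, Int.ofNat 2, Int.ofNat 0, Int.negSucc 1, Int.ofNat 2, Int.ofNat 0, Int.ofNat 0, Int.ofNat 0, Int.ofNat 0, Int.ofNat 0],
  [Int.ofNat 2, Int.ofNat 0, Int.negSucc 1, Int.ofNat 2, Int.ofNat 0, Int.ofNat 0, Int.ofNat 0, Int.ofNat 0, Int.ofNat 0, Int.negSucc 1, Int.ofNat 0, Int.ofNat 0, Int.negSucc 1, Int.ofNat 0, Int.ofNat 0, Int.ofNat 2, Int.ofNat 0, Int.negSucc 1, Int.ofNat 2, Int.ofNat 0, Int.ofNat 0, Int.ofNat 0, Int.ofNat 0, Int.ofNat 0],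
  [Int.ofNat 2, Int.ofNat 0, Int.ofNat 0, Int.ofNat 0, Int.ofNat 0, Int.ofNat 0, Int.negSucc 1, Int.ofNat 0, Int.ofNat 0, Int.negSucc 1, Int.ofNat 0, Int.ofNat 0, Int.ofNat 2, Int.ofNat 0, Int.negSucc 1, Int.ofNat 2, Int.ofNat 0, Int.ofNat 0, Int.ofNat 0, Int.ofNat 0, Int.ofNat 2, Int.ofNat 0, Int.negSucc 1, Int.ofNat 0],
  [Int.negSucc 0, Int.ofNat 1, Int.ofNat 1, Int.ofNat 1, Int.ofNat 1, Int.ofNat 1, Int.negSucc 0, Int.ofNat 1, Int.negSucc 0, Int.negSucc 2, Int.negSucc 0, Int.negSucc 0, Int.ofNat 1, Int.ofNat 1, Int.negSucc 0, Int.ofNat 1, Int.ofNat 1, Int.ofNat 1, Int.negSucc 0, Int.ofNat 1, Int.ofNat 1, Int.ofNat 1, Int.negSucc 0, Int.ofNat 1],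
  [Int.negSucc 0, Int.negSucc 0, Int.ofNat 1, Int.ofNat 1, Int.negSucc 0, Int.ofNat 1, Int.ofNat 1, Int.negSucc 0, Int.ofNat 1, Int.ofNat 1, Int.ofNat 1, Int.ofNat 1, Int.negSucc 2, Int.ofNat 1, Int.negSucc 0, Int.ofNat 1, Int.negSucc 0, Int.negSucc 0, Int.ofNat 1, Int.negSucc 0, Int.ofNat 1, Int.ofNat 1, Int.ofNat 1, Int.ofNat 1],
  [Int.ofNat 1, Int.ofNat 1, Int.negSucc 0, Int.ofNat 1, Int.negSucc 0, Int.ofNat 1, Int.ofNat 1, Int.negSucc 0, Int.ofNat 1, Int.negSucc 0, Int.negSucc 0, Int.ofNat 1, Int.negSucc 2, Int.ofNat 1, Int.negSucc 0, Int.negSucc 0, Int.negSucc 0, Int.negSucc 0, Int.ofNat 1, Int.negSucc 0, Int.negSucc 0, Int.ofNat 1, Int.ofNat 1, Int.negSucc 0],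
  [Int.ofNat 1, Int.ofNat 1, Int.ofNat 1, Int.ofNat 1, Int.negSucc 0, Int.negSucc 0, Int.negSucc 0, Int.negSucc 0, Int.ofNat 1, Int.ofNat 1, Int.ofNat 1, Int.ofNat 1, Int.negSucc 2, Int.ofNat 1, Int.negSucc 0, Int.ofNat 1, Int.negSucc 0, Int.negSucc 0, Int.negSucc 0, Int.negSucc 0, Int.negSucc 0, Int.ofNat 1, Int.negSucc 0, Int.negSucc 0],
  [Int.negSucc 2, Int.ofNat 1, Int.negSucc 0, Int.negSucc 0, Int.ofNat 1, Int.negSucc 0, Int.ofNat 1, Int.negSucc 0, Int.ofNat 1, Int.negSucc 0, Int.ofNat 1, Int.negSucc 0, Int.negSucc 0, Int.ofNat 1, Int.negSucc 0, Int.negSucc 0, Int.ofNat 1, Int.negSucc 0, Int.ofNat 1, Int.negSucc 0, Int.ofNat 1, Int.ofNat 1, Int.ofNat 1, Int.negSucc 0],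
  [Int.negSucc 2, Int.ofNat 1, Int.ofNat 1, Int.negSucc 0, Int.ofNat 1, Int.ofNat 1, Int.negSucc 0, Int.negSucc 0, Int.ofNat 1, Int.ofNat 1, Int.negSucc 0, Int.negSucc 0, Int.negSucc 0, Int.ofNat 1, Int.negSucc 0, Int.ofNat 1, Int.ofNat 1, Int.negSucc 0, Int.negSucc 0, Int.negSucc 0, Int.ofNat 1, Int.ofNat 1, Int.negSucc 0, Int.negSucc 0],
  [Int.ofNat 2, Int.negSucc 1, Int.negSucc 1, Int.ofNat 0, Int.ofNat 0, Int.ofNat 2, Int.ofNat 0, Int.ofNat 0, Int.ofNat 2, Int.ofNat 0, Int.negSucc 1, Int.ofNat 0, Int.ofNat 0, Int.ofNat 0, Int.ofNat 0, Int.ofNat 0, Int.ofNat 0, Int.ofNat 0, Int.ofNat 0, Int.ofNat 0, Int.ofNat 0, Int.ofNat 2, Int.negSucc 1, Int.ofNat 0],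
  [Int.ofNat 2, Int.ofNat 0, Int.ofNat 0, Int.ofNat 0, Int.negSucc 1, Int.ofNat 2, Int.negSucc 1, Int.ofNat 2, Int.ofNat 0, Int.ofNat 0, Int.ofNat 0, Int.ofNat 0, Int.ofNat 2, Int.ofNat 0, Int.ofNat 0, Int.ofNat 0, Int.ofNat 0, Int.ofNat 0, Int.ofNat 0, Int.negSucc 1, Int.negSucc 1, Int.ofNat 0, Int.ofNat 0, Int.ofNat 0],
  [Int.negSucc 0, Int.ofNat 1, Int.ofNat 1, Int.negSucc 0, Int.negSucc 0, Int.ofNat 1, Int.negSucc 0, Int.ofNat 3, Int.negSucc 0, Int.ofNat 1, Int.ofNat 1, Int.negSucc 0, Int.ofNat 1, Int.ofNat 1, Int.negSucc 0, Int.ofNat 1, Int.ofNat 1, Int.negSucc 0, Int.negSucc 0, Int.negSucc 0, Int.negSucc 0, Int.ofNat 1, Int.ofNat 1, Int.ofNat 1],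
  [Int.negSucc 0, Int.ofNat 1, Int.ofNat 1, Int.negSucc 0, Int.ofNat 1, Int.ofNat 1, Int.negSucc 0, Int.negSucc 0, Int.ofNat 1, Int.negSucc 0, Int.ofNat 3, Int.negSucc 0, Int.ofNat 1, Int.ofNat 1, Int.negSucc 0, Int.ofNat 1, Int.ofNat 1, Int.negSucc 0, Int.ofNat 1, Int.ofNat 1, Int.negSucc 0, Int.negSucc 0, Int.negSucc 0, Int.ofNat 1],
  [Int.ofNat 2, Int.ofNat 0, Int.ofNat 0, Int.ofNat 0, Int.ofNat 0, Int.ofNat 2, Int.ofNat 0, Int.ofNat 0, Int.ofNat 0, Int.negSucc 1, Int.ofNat 2, Int.negSucc 1, Int.ofNat 0, Int.ofNat 0, Int.ofNat 0, Int.ofNat 0, Int.ofNat 0, Int.ofNat 0, Int.ofNat 0, Int.ofNat 2, Int.negSucc 1, Int.ofNat 0, Int.negSucc 1, Int.ofNat 0],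
  [Int.ofNat 0, Int.ofNat 0, Int.ofNat 0, Int.ofNat 0, Int.ofNat 2, Int.ofNat 0, Int.ofNat 0, Int.ofNat 0, Int.negSucc 1, Int.ofNat 2, Int.negSucc 1, Int.ofNat 0, Int.ofNat 0, Int.ofNat 0, Int.ofNat 0, Int.ofNat 0, Int.ofNat 0, Int.ofNat 0, Int.ofNat 2, Int.negSucc 1, Int.ofNat 0, Int.negSucc 1, Int.ofNat 2, Int.ofNat 0],
  [Int.ofNat 0, Int.ofNat 0, Int.ofNat 0, Int.ofNat 0, Int.ofNat 2, Int.ofNat 0, Int.ofNat 0, Int.ofNat 0, Int.negSucc 1, Int.negSucc 1, Int.ofNat 2, Int.ofNat 0, Int.ofNat 0, Int.ofNat 0, Int.ofNat 0, Int.ofNat 0, Int.ofNat 0, Int.ofNat 0, Int.negSucc 1, Int.negSucc 1, Int.ofNat 0, Int.ofNat 2, Int.ofNat 2, Int.ofNat 0],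
  [Int.ofNat 0, Int.ofNat 0, Int.ofNat 0, Int.ofNat 0, Int.negSucc 1, Int.ofNat 0, Int.ofNat 0, Int.ofNat 0, Int.ofNat 2, Int.ofNat 2, Int.ofNat 2, Int.ofNat 0, Int.ofNat 0, Int.ofNat 0, Int.ofNat 0, Int.ofNat 0, Int.ofNat 0, Int.ofNat 0, Int.ofNat 2, Int.negSucc 1, Int.ofNat 0, Int.ofNat 2, Int.ofNat 2, Int.ofNat 0],
  [Int.ofNat 0, Int.ofNat 2, Int.ofNat 0, Int.ofNat 0, Int.ofNat 0, Int.ofNat 2, Int.negSucc 1, Int.ofNat 0, Int.ofNat 0, Int.ofNat 0, Int.ofNat 0, Int.ofNat 0, Int.ofNat 2, Int.ofNat 0, Int.ofNat 2, Int.ofNat 0, Int.ofNat 2, Int.negSucc 1, Int.ofNat 0, Int.ofNat 0, Int.ofNat 2, Int.ofNat 0, Int.ofNat 0, Int.ofNat 0],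
  [Int.ofNat 0, Int.ofNat 2, Int.ofNat 0, Int.ofNat 0, Int.ofNat 0, Int.ofNat 2, Int.negSucc 1, Int.ofNat 0, Int.ofNat 0, Int.ofNat 0, Int.ofNat 0, Int.ofNat 0, Int.ofNat 2, Int.ofNat 0, Int.ofNat 2, Int.ofNat 0, Int.ofNat 2, Int.negSucc 1, Int.ofNat 0, Int.ofNat 0, Int.ofNat 2, Int.ofNat 0, Int.ofNat 0, Int.ofNat 0],
  [Int.ofNat 0, Int.ofNat 0, Int.ofNat 2, Int.ofNat 0, Int.ofNat 0, Int.ofNat 0, Int.ofNat 2, Int.negSucc 1, Int.ofNat 0, Int.ofNat 0, Int.ofNat 0, Int.ofNat 0, Int.ofNat 0, Int.ofNat 2, Int.ofNat 0, Int.ofNat 2, Int.ofNat 0, Int.ofNat 2, Int.negSucc 1, Int.ofNat 0, Int.ofNat 0, Int.ofNat 2, Int.ofNat 0, Int.ofNat 0],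
  [Int.ofNat 1, Int.ofNat 1, Int.negSucc 0, Int.negSucc 0, Int.negSucc 0, Int.negSucc 0, Int.ofNat 1, Int.negSucc 2, Int.ofNat 1, Int.negSucc 0, Int.negSucc 0, Int.ofNat 1, Int.ofNat 1, Int.ofNat 1, Int.negSucc 0, Int.ofNat 1, Int.negSucc 0, Int.ofNat 1, Int.negSucc 0, Int.negSucc 0, Int.negSucc 0, Int.ofNat 1, Int.negSucc 0, Int.ofNat 1],
  [Int.negSucc 0, Int.negSucc 0, Int.negSucc 0, Int.ofNat 1, Int.negSucc 2, Int.ofNat 1, Int.negSucc 0, Int.negSucc 0, Int.ofNat 1, Int.ofNat 1, Int.ofNat 1, Int.negSucc 0, Int.ofNat 1, Int.negSucc 0, Int.ofNat 1, Int.negSucc 0, Int.negSucc 0, Int.negSucc 0, Int.ofNat 1, Int.negSucc 0, Int.ofNat 1, Int.ofNat 1, Int.negSucc 0, Int.ofNat 1],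
  [Int.ofNat 0, Int.ofNat 0, Int.ofNat 0, Int.ofNat 0, Int.ofNat 0, Int.ofNat 0, Int.ofNat 0, Int.ofNat 0, Int.ofNat 0, Int.ofNat 0, Int.ofNat 0, Int.negSucc 1, Int.ofNat 0, Int.ofNat 2, Int.ofNat 0, Int.negSucc 1, Int.ofNat 2, Int.negSucc 1, Int.ofNat 0, Int.ofNat 0, Int.ofNat 0, Int.ofNat 2, Int.ofNat 2, Int.negSucc 1],
  [Int.ofNat 0, Int.ofNat 0, Int.ofNat 0, Int.ofNat 0, Int.ofNat 0, Int.ofNat 0, Int.ofNat 0, Int.ofNat 0, Int.ofNat 0, Int.ofNat 2, Int.ofNat 0, Int.negSucc 1, Int.ofNat 0, Int.ofNat 2, Int.ofNat 2, Int.negSucc 1, Int.ofNat 0, Int.ofNat 0, Int.ofNat 0, Int.negSucc 1, Int.ofNat 2, Int.ofNat 0, Int.ofNat 0, Int.negSucc 1],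
  [Int.negSucc 0, Int.negSucc 0, Int.negSucc 0, Int.negSucc 0, Int.negSucc 0, Int.negSucc 0, Int.ofNat 1, Int.ofNat 1, Int.ofNat 1, Int.ofNat 1, Int.negSucc 0, Int.negSucc 0, Int.ofNat 1, Int.ofNat 1, Int.ofNat 1, Int.negSucc 2, Int.negSucc 0, Int.negSucc 0, Int.ofNat 1, Int.negSucc 0, Int.ofNat 1, Int.ofNat 1, Int.negSucc 0, Int.ofNat 1],
  [Int.negSucc 0, Int.negSucc 0, Int.ofNat 1, Int.negSucc 0, Int.negSucc 0, Int.ofNat 1, Int.negSucc 0, Int.ofNat 1, Int.ofNat 1, Int.negSucc 0, Int.ofNat 1, Int.negSucc 0, Int.ofNat 1, Int.ofNat 1, Int.ofNat 1, Int.ofNat 3, Int.negSucc 0, Int.negSucc 0, Int.negSucc 0, Int.negSucc 0, Int.ofNat 1, Int.ofNat 1, Int.ofNat 1, Int.ofNat 1],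
  [Int.ofNat 1, Int.negSucc 0, Int.negSucc 0, Int.ofNat 1, Int.ofNat 1, Int.negSucc 0, Int.negSucc 0, Int.ofNat 1, Int.ofNat 1, Int.negSucc 0, Int.negSucc 0, Int.ofNat 1, Int.negSucc 0, Int.negSucc 0, Int.negSucc 0, Int.ofNat 1, Int.negSucc 0, Int.ofNat 1, Int.ofNat 3, Int.negSucc 0, Int.ofNat 1, Int.ofNat 1, Int.ofNat 1, Int.ofNat 1],
  [Int.ofNat 1, Int.negSucc 0, Int.ofNat 1, Int.ofNat 1, Int.ofNat 1, Int.ofNat 1, Int.ofNat 1, Int.ofNat 1, Int.ofNat 1, Int.ofNat 1, Int.ofNat 1, Int.ofNat 1, Int.negSucc 0, Int.negSucc 0, Int.negSucc 0, Int.negSucc 0, Int.negSucc 0, Int.ofNat 1, Int.negSucc 2, Int.negSucc 0, Int.ofNat 1, Int.ofNat 1, Int.negSucc 0, Int.ofNat 1],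
  [Int.ofNat 0, Int.ofNat 2, Int.ofNat 0, Int.ofNat 0, Int.ofNat 2, Int.ofNat 0, Int.ofNat 0, Int.ofNat 0, Int.ofNat 2, Int.ofNat 0, Int.ofNat 0, Int.ofNat 2, Int.ofNat 0, Int.ofNat 0, Int.negSucc 1, Int.negSucc 1, Int.ofNat 0, Int.ofNat 0, Int.negSucc 1, Int.negSucc 1, Int.ofNat 0, Int.ofNat 0, Int.ofNat 0, Int.ofNat 0],
  [Int.ofNat 0, Int.negSucc 1, Int.ofNat 0, Int.ofNat 0, Int.ofNat 0, Int.ofNat 0, Int.ofNat 2, Int.ofNat 0, Int.ofNat 0, Int.ofNat 0, Int.ofNat 0, Int.negSucc 1, Int.ofNat 2, Int.ofNat 0, Int.ofNat 0, Int.negSucc 1, Int.ofNat 0, Int.ofNat 2, Int.ofNat 2, Int.ofNat 0, Int.ofNat 0, Int.ofNat 0, Int.negSucc 1, Int.ofNat 0],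
  [Int.negSucc 0, Int.ofNat 1, Int.negSucc 0, Int.negSucc 0, Int.ofNat 1, Int.negSucc 0, Int.ofNat 1, Int.negSucc 0, Int.negSucc 0, Int.ofNat 1, Int.ofNat 1, Int.negSucc 2, Int.ofNat 1, Int.ofNat 1, Int.negSucc 0, Int.negSucc 0, Int.ofNat 1, Int.ofNat 1, Int.ofNat 1, Int.negSucc 0, Int.ofNat 1, Int.negSucc 0, Int.negSucc 0, Int.negSucc 0],
  [Int.ofNat 1, Int.negSucc 0, Int.negSucc 0, Int.negSucc 0, Int.ofNat 1, Int.negSucc 0, Int.negSucc 0, Int.ofNat 1, Int.negSucc 0, Int.ofNat 1, Int.negSucc 0, Int.negSucc 0, Int.ofNat 1, Int.ofNat 1, Int.negSucc 2, Int.ofNat 1, Int.ofNat 1, Int.negSucc 0, Int.negSucc 0, Int.ofNat 1, Int.ofNat 1, Int.ofNat 1, Int.negSucc 0, Int.negSucc 0],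
  [Int.negSucc 1, Int.ofNat 0, Int.ofNat 0, Int.ofNat 2, Int.ofNat 0, Int.ofNat 2, Int.negSucc 1, Int.ofNat 0, Int.ofNat 0, Int.ofNat 0, Int.negSucc 1, Int.ofNat 0, Int.ofNat 2, Int.ofNat 0, Int.ofNat 0, Int.ofNat 0, Int.ofNat 0, Int.ofNat 2, Int.ofNat 0, Int.ofNat 0, Int.ofNat 0, Int.ofNat 0, Int.negSucc 1, Int.ofNat 0],
  [Int.ofNat 0, Int.ofNat 0, Int.ofNat 2, Int.ofNat 0, Int.ofNat 2, Int.negSucc 1, Int.ofNat 0, Int.ofNat 0, Int.ofNat 0, Int.negSucc 1, Int.ofNat 0, Int.ofNat 2, Int.ofNat 0, Int.ofNat 0, Int.ofNat 0, Int.ofNat 0, Int.ofNat 2, Int.ofNat 0, Int.ofNat 0, Int.ofNat 0, Int.ofNat 0, Int.negSucc 1, Int.negSucc 1, Int.ofNat 0],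
  [Int.ofNat 0, Int.ofNat 0, Int.negSucc 1, Int.ofNat 0, Int.ofNat 2, Int.negSucc 1, Int.ofNat 0, Int.ofNat 0, Int.ofNat 0, Int.ofNat 2, Int.ofNat 0, Int.negSucc 1, Int.ofNat 0, Int.ofNat 0, Int.ofNat 0, Int.ofNat 0, Int.ofNat 2, Int.ofNat 0, Int.ofNat 0, Int.ofNat 0, Int.ofNat 0, Int.ofNat 2, Int.negSucc 1, Int.ofNat 0],
  [Int.ofNat 0, Int.ofNat 0, Int.ofNat 2, Int.ofNat 0, Int.negSucc 1, Int.negSucc 1, Int.ofNat 0, Int.ofNat 0, Int.ofNat 0, Int.negSucc 1, Int.ofNat 0, Int.negSucc 1, Int.ofNat 0, Int.ofNat 0, Int.ofNat 0, Int.ofNat 0, Int.negSucc 1, Int.ofNat 0, Int.ofNat 0, Int.ofNat 0, Int.ofNat 0, Int.ofNat 2, Int.negSucc 1, Int.ofNat 0],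
  [Int.ofNat 0, Int.negSucc 1, Int.negSucc 1, Int.ofNat 0, Int.ofNat 0, Int.negSucc 1, Int.ofNat 0, Int.ofNat 0, Int.ofNat 0, Int.negSucc 1, Int.negSucc 1, Int.ofNat 2, Int.ofNat 2, Int.ofNat 0, Int.ofNat 0, Int.ofNat 0, Int.ofNat 0, Int.negSucc 1, Int.ofNat 0, Int.ofNat 0, Int.ofNat 0, Int.ofNat 0, Int.ofNat 0, Int.ofNat 0],
  [Int.ofNat 0, Int.negSucc 1, Int.ofNat 2, Int.ofNat 0, Int.ofNat 0, Int.negSucc 1, Int.ofNat 0, Int.ofNat 0, Int.ofNat 0, Int.ofNat 2, Int.ofNat 2, Int.negSucc 1, Int.ofNat 2, Int.ofNat 0, Int.ofNat 0, Int.ofNat 0, Int.ofNat 0, Int.negSucc 1, Int.ofNat 0, Int.ofNat 0, Int.ofNat 0, Int.ofNat 0, Int.ofNat 0, Int.ofNat 0],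
  [Int.ofNat 0, Int.ofNat 0, Int.negSucc 1, Int.ofNat 2, Int.ofNat 0, Int.ofNat 0, Int.negSucc 1, Int.ofNat 0, Int.ofNat 0, Int.ofNat 0, Int.ofNat 2, Int.ofNat 2, Int.negSucc 1, Int.ofNat 2, Int.ofNat 0, Int.ofNat 0, Int.ofNat 0, Int.ofNat 0, Int.negSucc 1, Int.ofNat 0, Int.ofNat 0, Int.ofNat 0, Int.ofNat 0, Int.ofNat 0],
  [Int.negSucc 0, Int.negSucc 0, Int.ofNat 1, Int.ofNat 1, Int.negSucc 0, Int.negSucc 0, Int.negSucc 0, Int.ofNat 1, Int.ofNat 1, Int.negSucc 0, Int.ofNat 1, Int.ofNat 3, Int.negSucc 0, Int.ofNat 1, Int.negSucc 0, Int.negSucc 0, Int.negSucc 0, Int.negSucc 0, Int.negSucc 0, Int.ofNat 1, Int.negSucc 0, Int.ofNat 1, Int.negSucc 0, Int.negSucc 0],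
  [Int.ofNat 1, Int.negSucc 0, Int.negSucc 0, Int.negSucc 0, Int.ofNat 1, Int.ofNat 1, Int.negSucc 0, Int.ofNat 1, Int.ofNat 3, Int.negSucc 0, Int.ofNat 1, Int.negSucc 0, Int.negSucc 0, Int.negSucc 0, Int.negSucc 0, Int.negSucc 0, Int.ofNat 1, Int.negSucc 0, Int.ofNat 1, Int.negSucc 0, Int.negSucc 0, Int.negSucc 0, Int.ofNat 1, Int.negSucc 0],
  [Int.negSucc 1, Int.ofNat 0, Int.ofNat 0, Int.ofNat 0, Int.ofNat 0, Int.ofNat 2, Int.ofNat 0, Int.ofNat 2, Int.ofNat 2, Int.ofNat 0, Int.ofNat 2, Int.negSucc 1, Int.negSucc 1, Int.negSucc 1, Int.ofNat 0, Int.ofNat 0, Int.ofNat 0, Int.ofNat 0, Int.ofNat 0, Int.ofNat 0, Int.ofNat 0, Int.ofNat 0, Int.ofNat 0, Int.ofNat 0],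
  [Int.negSucc 1, Int.ofNat 0, Int.ofNat 0, Int.ofNat 0, Int.ofNat 0, Int.ofNat 2, Int.ofNat 0, Int.ofNat 2, Int.negSucc 1, Int.negSucc 1, Int.ofNat 0, Int.ofNat 0, Int.ofNat 0, Int.ofNat 0, Int.ofNat 0, Int.ofNat 0, Int.ofNat 2, Int.ofNat 0, Int.ofNat 0, Int.negSucc 1, Int.ofNat 0, Int.ofNat 2, Int.ofNat 0, Int.ofNat 0],
  [Int.ofNat 1, Int.negSucc 0, Int.negSucc 0, Int.negSucc 0, Int.negSucc 0, Int.ofNat 1, Int.negSucc 0, Int.ofNat 1, Int.negSucc 0, Int.negSucc 0, Int.ofNat 1, Int.ofNat 1, Int.ofNat 1, Int.negSucc 0, Int.negSucc 0, Int.ofNat 1, Int.ofNat 1, Int.negSucc 0, Int.ofNat 1, Int.negSucc 2, Int.ofNat 1, Int.ofNat 1, Int.negSucc 0, Int.negSucc 0],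
  [Int.ofNat 1, Int.negSucc 0, Int.ofNat 1, Int.negSucc 0, Int.negSucc 0, Int.negSucc 0, Int.ofNat 1, Int.ofNat 1, Int.negSucc 0, Int.ofNat 1, Int.negSucc 0, Int.ofNat 1, Int.ofNat 1, Int.negSucc 0, Int.negSucc 0, Int.negSucc 0, Int.ofNat 1, Int.negSucc 0, Int.negSucc 0, Int.negSucc 2, Int.ofNat 1, Int.ofNat 1, Int.ofNat 1, Int.negSucc 0],
  [Int.ofNat 1, Int.ofNat 1, Int.negSucc 2, Int.negSucc 0, Int.negSucc 0, Int.ofNat 1, Int.ofNat 1, Int.negSucc 0, Int.negSucc 0, Int.negSucc 0, Int.ofNat 1, Int.ofNat 1, Int.negSucc 0, Int.negSucc 0, Int.ofNat 1, Int.ofNat 1, Int.negSucc 0, Int.ofNat 1, Int.negSucc 0, Int.negSucc 0, Int.ofNat 1, Int.negSucc 0, Int.ofNat 1, Int.negSucc 0],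
  [Int.ofNat 1, Int.ofNat 1, Int.ofNat 3, Int.negSucc 0, Int.negSucc 0, Int.negSucc 0, Int.negSucc 0, Int.negSucc 0, Int.negSucc 0, Int.ofNat 1, Int.negSucc 0, Int.ofNat 1, Int.negSucc 0, Int.negSucc 0, Int.ofNat 1, Int.negSucc 0, Int.negSucc 0, Int.ofNat 1, Int.ofNat 1, Int.negSucc 0, Int.ofNat 1, Int.negSucc 0, Int.negSucc 0, Int.negSucc 0],
  [Int.ofNat 1, Int.ofNat 1, Int.negSucc 0, Int.negSucc 0, Int.ofNat 1, Int.negSucc 0, Int.ofNat 1, Int.ofNat 1, Int.negSucc 0, Int.ofNat 1, Int.negSucc 0, Int.ofNat 1, Int.negSucc 0, Int.ofNat 1, Int.ofNat 1, Int.negSucc 0, Int.ofNat 1, Int.ofNat 1, Int.ofNat 1, Int.ofNat 1, Int.ofNat 1, Int.ofNat 1, Int.ofNat 1, Int.ofNat 3],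
  [Int.ofNat 1, Int.ofNat 1, Int.ofNat 1, Int.negSucc 0, Int.negSucc 0, Int.ofNat 1, Int.ofNat 1, Int.negSucc 0, Int.ofNat 1, Int.negSucc 0, Int.ofNat 1, Int.ofNat 1, Int.negSucc 0, Int.ofNat 1, Int.ofNat 1, Int.negSucc 0, Int.ofNat 1, Int.ofNat 1, Int.ofNat 1, Int.ofNat 1, Int.negSucc 0, Int.ofNat 1, Int.ofNat 1, Int.ofNat 3],
  [Int.ofNat 2, Int.ofNat 2, Int.ofNat 2, Int.negSucc 1, Int.negSucc 1, Int.ofNat 0, Int.ofNat 0, Int.negSucc 1, Int.ofNat 0, Int.ofNat 0, Int.ofNat 2, Int.ofNat 0, Int.negSucc 1, Int.ofNat 0, Int.ofNat 0, Int.ofNat 0, Int.ofNat 0, Int.ofNat 0, Int.ofNat 0, Int.ofNat 0, Int.ofNat 0, Int.ofNat 0, Int.ofNat 0, Int.ofNat 0],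
  [Int.ofNat 0, Int.ofNat 0, Int.ofNat 0, Int.ofNat 2, Int.ofNat 2, Int.ofNat 2, Int.negSucc 1, Int.negSucc 1, Int.ofNat 0, Int.ofNat 0, Int.negSucc 1, Int.ofNat 0, Int.ofNat 0, Int.ofNat 2, Int.ofNat 0, Int.negSucc 1, Int.ofNat 0, Int.ofNat 0, Int.ofNat 0, Int.ofNat 0, Int.ofNat 0, Int.ofNat 0, Int.ofNat 0, Int.ofNat 0],
  [Int.ofNat 0, Int.ofNat 0, Int.ofNat 0, Int.ofNat 0, Int.ofNat 0, Int.ofNat 0, Int.ofNat 0, Int.ofNat 0, Int.ofNat 0, Int.ofNat 2, Int.ofNat 0, Int.ofNat 0, Int.ofNat 0, Int.ofNat 0, Int.negSucc 1, Int.ofNat 0, Int.negSucc 1, Int.negSucc 1, Int.ofNat 0, Int.ofNat 2, Int.ofNat 2, Int.ofNat 2, Int.negSucc 1, Int.ofNat 0],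
  [Int.ofNat 0, Int.ofNat 0, Int.ofNat 0, Int.ofNat 0, Int.ofNat 0, Int.ofNat 0, Int.ofNat 0, Int.ofNat 0, Int.ofNat 2, Int.ofNat 0, Int.ofNat 0, Int.ofNat 0, Int.ofNat 0, Int.negSucc 1, Int.ofNat 0, Int.negSucc 1, Int.negSucc 1, Int.ofNat 0, Int.ofNat 2, Int.ofNat 2, Int.ofNat 2, Int.negSucc 1, Int.ofNat 0, Int.ofNat 0],
  [Int.ofNat 0, Int.ofNat 0, Int.ofNat 0, Int.ofNat 0, Int.ofNat 0, Int.ofNat 0, Int.ofNat 0, Int.ofNat 0, Int.ofNat 2, Int.ofNat 0, Int.ofNat 0, Int.ofNat 0, Int.ofNat 0, Int.negSucc 1, Int.ofNat 0, Int.negSucc 1, Int.negSucc 1, Int.ofNat 0, Int.negSucc 1, Int.ofNat 2, Int.ofNat 2, Int.ofNat 2, Int.ofNat 0, Int.ofNat 0],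
  [Int.ofNat 0, Int.ofNat 0, Int.ofNat 0, Int.ofNat 0, Int.ofNat 0, Int.ofNat 0, Int.ofNat 0, Int.ofNat 0, Int.negSucc 1, Int.ofNat 0, Int.ofNat 0, Int.ofNat 0, Int.ofNat 0, Int.ofNat 2, Int.ofNat 0, Int.negSucc 1, Int.ofNat 2, Int.ofNat 0, Int.ofNat 2, Int.ofNat 2, Int.ofNat 2, Int.ofNat 2, Int.ofNat 0, Int.ofNat 0],
  [Int.ofNat 0, Int.ofNat 0, Int.ofNat 0, Int.negSucc 1, Int.ofNat 0, Int.ofNat 0, Int.ofNat 2, Int.ofNat 2, Int.ofNat 2, Int.ofNat 0, Int.ofNat 2, Int.ofNat 0, Int.ofNat 2, Int.ofNat 0, Int.ofNat 2, Int.ofNat 0, Int.ofNat 0, Int.ofNat 0, Int.ofNat 0, Int.ofNat 0, Int.negSucc 1, Int.ofNat 0, Int.ofNat 0, Int.ofNat 0],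
  [Int.ofNat 0, Int.ofNat 0, Int.ofNat 0, Int.negSucc 1, Int.ofNat 0, Int.ofNat 0, Int.ofNat 2, Int.negSucc 1, Int.ofNat 2, Int.ofNat 0, Int.negSucc 1, Int.ofNat 0, Int.ofNat 2, Int.ofNat 0, Int.ofNat 2, Int.ofNat 0, Int.ofNat 0, Int.ofNat 0, Int.ofNat 0, Int.ofNat 0, Int.negSucc 1, Int.ofNat 0, Int.ofNat 0, Int.ofNat 0],
  [Int.ofNat 0, Int.ofNat 0, Int.ofNat 0, Int.ofNat 0, Int.negSucc 1, Int.ofNat 0, Int.ofNat 0, Int.ofNat 2, Int.negSucc 1, Int.ofNat 2, Int.ofNat 0, Int.negSucc 1, Int.ofNat 0, Int.ofNat 2, Int.ofNat 0, Int.ofNat 2, Int.ofNat 0, Int.ofNat 0, Int.ofNat 0, Int.ofNat 0, Int.ofNat 0, Int.negSucc 1, Int.ofNat 0, Int.ofNat 0],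
  [Int.ofNat 0, Int.ofNat 0, Int.ofNat 0, Int.ofNat 0, Int.negSucc 1, Int.ofNat 0, Int.ofNat 0, Int.ofNat 2, Int.ofNat 0, Int.ofNat 0, Int.negSucc 1, Int.ofNat 0, Int.ofNat 2, Int.ofNat 2, Int.ofNat 0, Int.ofNat 0, Int.ofNat 0, Int.ofNat 0, Int.ofNat 2, Int.ofNat 0, Int.negSucc 1, Int.negSucc 1, Int.ofNat 0, Int.ofNat 0],
  [Int.ofNat 0, Int.negSucc 1, Int.ofNat 0, Int.ofNat 0, Int.ofNat 2, Int.ofNat 0, Int.ofNat 0, Int.negSucc 1, Int.ofNat 0, Int.ofNat 2, Int.ofNat 2, Int.ofNat 0, Int.ofNat 0, Int.ofNat 0, Int.ofNat 0, Int.ofNat 2, Int.ofNat 0, Int.negSucc 1, Int.negSucc 1, Int.ofNat 0, Int.ofNat 0, Int.ofNat 0, Int.ofNat 0, Int.ofNat 0],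
  [Int.negSucc 0, Int.ofNat 1, Int.negSucc 0, Int.ofNat 1, Int.ofNat 1, Int.ofNat 1, Int.ofNat 1, Int.negSucc 0, Int.ofNat 1, Int.negSucc 0, Int.negSucc 0, Int.ofNat 1, Int.ofNat 1, Int.negSucc 0, Int.ofNat 1, Int.negSucc 0, Int.negSucc 0, Int.negSucc 0, Int.negSucc 0, Int.ofNat 1, Int.negSucc 2, Int.ofNat 1, Int.negSucc 0, Int.negSucc 0],
  [Int.negSucc 0, Int.ofNat 1, Int.ofNat 1, Int.ofNat 1, Int.negSucc 0, Int.negSucc 0, Int.negSucc 0, Int.negSucc 0, Int.ofNat 1, Int.negSucc 0, Int.negSucc 2, Int.negSucc 0, Int.negSucc 0, Int.negSucc 0, Int.negSucc 0, Int.negSucc 0, Int.ofNat 1, Int.ofNat 1, Int.ofNat 1, Int.ofNat 1, Int.ofNat 1, Int.ofNat 1, Int.ofNat 1, Int.negSucc 0],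
  [Int.ofNat 1, Int.negSucc 0, Int.negSucc 0, Int.ofNat 1, Int.negSucc 0, Int.negSucc 0, Int.negSucc 0, Int.negSucc 0, Int.ofNat 1, Int.ofNat 1, Int.negSucc 0, Int.negSucc 0, Int.negSucc 0, Int.negSucc 0, Int.negSucc 0, Int.ofNat 1, Int.ofNat 1, Int.ofNat 1, Int.ofNat 1, Int.ofNat 1, Int.ofNat 3, Int.ofNat 1, Int.ofNat 1, Int.ofNat 1],
  [Int.ofNat 1, Int.negSucc 0, Int.ofNat 1, Int.ofNat 1, Int.negSucc 0, Int.ofNat 1, Int.ofNat 1, Int.negSucc 0, Int.ofNat 1, Int.negSucc 0, Int.ofNat 1, Int.negSucc 0, Int.negSucc 0, Int.negSucc 0, Int.negSucc 0, Int.negSucc 0, Int.ofNat 1, Int.ofNat 1, Int.negSucc 0, Int.ofNat 1, Int.ofNat 3, Int.ofNat 1, Int.negSucc 0, Int.ofNat 1],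
  [Int.negSucc 0, Int.negSucc 0, Int.ofNat 1, Int.negSucc 0, Int.negSucc 0, Int.ofNat 1, Int.negSucc 0, Int.ofNat 1, Int.ofNat 1, Int.negSucc 0, Int.ofNat 1, Int.negSucc 0, Int.ofNat 1, Int.ofNat 1, Int.ofNat 1, Int.ofNat 3, Int.negSucc 0, Int.negSucc 0, Int.negSucc 0, Int.negSucc 0, Int.ofNat 1, Int.ofNat 1, Int.ofNat 1, Int.ofNat 1],
  [Int.negSucc 0, Int.negSucc 0, Int.negSucc 0, Int.negSucc 0, Int.negSucc 0, Int.negSucc 0, Int.ofNat 1, Int.ofNat 1, Int.ofNat 1, Int.ofNat 1, Int.negSucc 0, Int.negSucc 0, Int.ofNat 1, Int.ofNat 1, Int.ofNat 1, Int.negSucc 2, Int.negSucc 0, Int.negSucc 0, Int.ofNat 1, Int.negSucc 0, Int.ofNat 1, Int.ofNat 1, Int.negSucc 0, Int.ofNat 1],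
  [Int.ofNat 0, Int.ofNat 0, Int.ofNat 0, Int.ofNat 0, Int.ofNat 0, Int.ofNat 0, Int.ofNat 0, Int.ofNat 0, Int.ofNat 0, Int.ofNat 2, Int.ofNat 0, Int.negSucc 1, Int.ofNat 0, Int.ofNat 2, Int.ofNat 2, Int.negSucc 1, Int.ofNat 0, Int.ofNat 0, Int.ofNat 0, Int.negSucc 1, Int.ofNat 2, Int.ofNat 0, Int.ofNat 0, Int.negSucc 1],
  [Int.ofNat 0, Int.ofNat 0, Int.ofNat 0, Int.ofNat 0, Int.ofNat 0, Int.ofNat 0, Int.ofNat 0, Int.ofNat 0, Int.ofNat 0, Int.ofNat 0, Int.ofNat 0, Int.negSucc 1, Int.ofNat 0, Int.ofNat 2, Int.ofNat 0, Int.negSucc 1, Int.ofNat 2, Int.negSucc 1, Int.ofNat 0, Int.ofNat 0, Int.ofNat 0, Int.ofNat 2, Int.ofNat 2, Int.negSucc 1],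
  [Int.negSucc 0, Int.negSucc 0, Int.negSucc 0, Int.ofNat 1, Int.negSucc 2, Int.ofNat 1, Int.negSucc 0, Int.negSucc 0, Int.ofNat 1, Int.ofNat 1, Int.ofNat 1, Int.negSucc 0, Int.ofNat 1, Int.negSucc 0, Int.ofNat 1, Int.negSucc 0, Int.negSucc 0, Int.negSucc 0, Int.ofNat 1, Int.negSucc 0, Int.ofNat 1, Int.ofNat 1, Int.negSucc 0, Int.ofNat 1],
  [Int.ofNat 1, Int.ofNat 1, Int.negSucc 0, Int.negSucc 0, Int.negSucc 0, Int.negSucc 0, Int.ofNat 1, Int.negSucc 2, Int.ofNat 1, Int.negSucc 0, Int.negSucc 0, Int.ofNat 1, Int.ofNat 1, Int.ofNat 1, Int.negSucc 0, Int.ofNat 1, Int.negSucc 0, Int.ofNat 1, Int.negSucc 0, Int.negSucc 0, Int.negSucc 0, Int.ofNat 1, Int.negSucc 0, Int.ofNat 1],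
  [Int.ofNat 0, Int.ofNat 0, Int.ofNat 2, Int.ofNat 0, Int.ofNat 0, Int.ofNat 0, Int.ofNat 2, Int.negSucc 1, Int.ofNat 0, Int.ofNat 0, Int.ofNat 0, Int.ofNat 0, Int.ofNat 0, Int.ofNat 2, Int.ofNat 0, Int.ofNat 2, Int.ofNat 0, Int.ofNat 2, Int.negSucc 1, Int.ofNat 0, Int.ofNat 0, Int.ofNat 2, Int.ofNat 0, Int.ofNat 0],
  [Int.ofNat 0, Int.ofNat 2, Int.ofNat 0, Int.ofNat 0, Int.ofNat 0, Int.ofNat 2, Int.negSucc 1, Int.ofNat 0, Int.ofNat 0, Int.ofNat 0, Int.ofNat 0, Int.ofNat 0, Int.ofNat 2, Int.ofNat 0, Int.ofNat 2, Int.ofNat 0, Int.ofNat 2, Int.negSucc 1, Int.ofNat 0, Int.ofNat 0, Int.ofNat 2, Int.ofNat 0, Int.ofNat 0, Int.ofNat 0],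
  [Int.ofNat 0, Int.ofNat 2, Int.ofNat 0, Int.ofNat 0, Int.ofNat 0, Int.ofNat 2, Int.negSucc 1, Int.ofNat 0, Int.ofNat 0, Int.ofNat 0, Int.ofNat 0, Int.ofNat 0, Int.ofNat 2, Int.ofNat 0, Int.ofNat 2, Int.ofNat 0, Int.ofNat 2, Int.negSucc 1, Int.ofNat 0, Int.ofNat 0, Int.ofNat 2, Int.ofNat 0, Int.ofNat 0, Int.ofNat 0],
  [Int.ofNat 0, Int.negSucc 1, Int.ofNat 0, Int.ofNat 0, Int.ofNat 0, Int.ofNat 2, Int.ofNat 2, Int.ofNat 0, Int.ofNat 0, Int.ofNat 0, Int.ofNat 0, Int.ofNat 0, Int.negSucc 1, Int.ofNat 0, Int.ofNat 2, Int.ofNat 0, Int.negSucc 1, Int.negSucc 1, Int.ofNat 0, Int.ofNat 0, Int.ofNat 2, Int.ofNat 0, Int.ofNat 0, Int.ofNat 0],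
  [Int.ofNat 0, Int.ofNat 0, Int.ofNat 0, Int.ofNat 0, Int.negSucc 1, Int.ofNat 0, Int.ofNat 0, Int.ofNat 0, Int.ofNat 2, Int.ofNat 2, Int.negSucc 1, Int.ofNat 0, Int.ofNat 0, Int.ofNat 0, Int.ofNat 0, Int.ofNat 0, Int.ofNat 0, Int.ofNat 0, Int.ofNat 2, Int.ofNat 2, Int.ofNat 0, Int.negSucc 1, Int.negSucc 1, Int.ofNat 0],
  [Int.ofNat 0, Int.ofNat 0, Int.ofNat 0, Int.ofNat 0, Int.negSucc 1, Int.ofNat 0, Int.ofNat 0, Int.ofNat 0, Int.ofNat 2, Int.negSucc 1, Int.ofNat 2, Int.ofNat 0, Int.ofNat 0, Int.ofNat 0, Int.ofNat 0, Int.ofNat 0, Int.ofNat 0, Int.ofNat 0, Int.negSucc 1, Int.ofNat 2, Int.ofNat 0, Int.ofNat 2, Int.negSucc 1, Int.ofNat 0],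
  [Int.negSucc 1, Int.ofNat 0, Int.ofNat 0, Int.ofNat 0, Int.ofNat 0, Int.negSucc 1, Int.ofNat 0, Int.ofNat 0, Int.ofNat 0, Int.ofNat 2, Int.negSucc 1, Int.ofNat 2, Int.ofNat 0, Int.ofNat 0, Int.ofNat 0, Int.ofNat 0, Int.ofNat 0, Int.ofNat 0, Int.ofNat 0, Int.negSucc 1, Int.ofNat 2, Int.ofNat 0, Int.ofNat 2, Int.ofNat 0],
  [Int.ofNat 1, Int.negSucc 0, Int.negSucc 0, Int.ofNat 1, Int.negSucc 0, Int.negSucc 0, Int.ofNat 1, Int.ofNat 1, Int.negSucc 0, Int.ofNat 1, Int.negSucc 2, Int.ofNat 1, Int.negSucc 0, Int.negSucc 0, Int.ofNat 1, Int.negSucc 0, Int.negSucc 0, Int.ofNat 1, Int.negSucc 0, Int.negSucc 0, Int.ofNat 1, Int.ofNat 1, Int.ofNat 1, Int.negSucc 0],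
  [Int.ofNat 1, Int.negSucc 0, Int.negSucc 0, Int.ofNat 1, Int.ofNat 1, Int.negSucc 0, Int.ofNat 1, Int.negSucc 2, Int.ofNat 1, Int.negSucc 0, Int.negSucc 0, Int.ofNat 1, Int.negSucc 0, Int.negSucc 0, Int.ofNat 1, Int.negSucc 0, Int.negSucc 0, Int.ofNat 1, Int.ofNat 1, Int.ofNat 1, Int.ofNat 1, Int.negSucc 0, Int.negSucc 0, Int.negSucc 0],
  [Int.negSucc 1, Int.ofNat 0, Int.ofNat 0, Int.ofNat 0, Int.ofNat 2, Int.negSucc 1, Int.ofNat 2, Int.negSucc 1, Int.ofNat 0, Int.ofNat 0, Int.ofNat 0, Int.ofNat 0, Int.negSucc 1, Int.ofNat 0, Int.ofNat 0, Int.ofNat 0, Int.ofNat 0, Int.ofNat 0, Int.ofNat 0, Int.ofNat 2, Int.ofNat 2, Int.ofNat 0, Int.ofNat 0, Int.ofNat 0],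
  [Int.negSucc 1, Int.ofNat 2, Int.ofNat 2, Int.ofNat 0, Int.ofNat 0, Int.negSucc 1, Int.ofNat 0, Int.ofNat 0, Int.negSucc 1, Int.ofNat 0, Int.ofNat 2, Int.ofNat 0, Int.ofNat 0, Int.ofNat 0, Int.ofNat 0, Int.ofNat 0, Int.ofNat 0, Int.ofNat 0, Int.ofNat 0, Int.ofNat 0, Int.ofNat 0, Int.negSucc 1, Int.ofNat 2, Int.ofNat 0],
  [Int.ofNat 3, Int.negSucc 0, Int.negSucc 0, Int.ofNat 1, Int.negSucc 0, Int.negSucc 0, Int.ofNat 1, Int.ofNat 1, Int.negSucc 0, Int.negSucc 0, Int.ofNat 1, Int.ofNat 1, Int.ofNat 1, Int.negSucc 0, Int.ofNat 1, Int.negSucc 0, Int.negSucc 0, Int.ofNat 1, Int.ofNat 1, Int.ofNat 1, Int.negSucc 0, Int.negSucc 0, Int.ofNat 1, Int.ofNat 1],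
  [Int.ofNat 3, Int.negSucc 0, Int.ofNat 1, Int.ofNat 1, Int.negSucc 0, Int.ofNat 1, Int.negSucc 0, Int.ofNat 1, Int.negSucc 0, Int.ofNat 1, Int.negSucc 0, Int.ofNat 1, Int.ofNat 1, Int.negSucc 0, Int.ofNat 1, Int.ofNat 1, Int.negSucc 0, Int.ofNat 1, Int.negSucc 0, Int.ofNat 1, Int.negSucc 0, Int.negSucc 0, Int.negSucc 0, Int.ofNat 1],
  [Int.ofNat 1, Int.ofNat 1, Int.ofNat 1, Int.ofNat 1, Int.negSucc 0, Int.negSucc 0, Int.ofNat 1, Int.ofNat 1, Int.negSucc 0, Int.negSucc 0, Int.ofNat 3, Int.negSucc 0, Int.ofNat 1, Int.ofNat 1, Int.negSucc 0, Int.negSucc 0, Int.negSucc 0, Int.ofNat 1, Int.ofNat 1, Int.negSucc 0, Int.negSucc 0, Int.negSucc 0, Int.ofNat 1, Int.ofNat 1],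
  [Int.ofNat 1, Int.ofNat 1, Int.negSucc 0, Int.ofNat 1, Int.negSucc 0, Int.ofNat 1, Int.negSucc 0, Int.ofNat 1, Int.negSucc 0, Int.ofNat 1, Int.negSucc 2, Int.negSucc 0, Int.ofNat 1, Int.ofNat 1, Int.negSucc 0, Int.ofNat 1, Int.negSucc 0, Int.ofNat 1, Int.negSucc 0, Int.negSucc 0, Int.negSucc 0, Int.negSucc 0, Int.negSucc 0, Int.ofNat 1],
  [Int.ofNat 0, Int.ofNat 0, Int.ofNat 2, Int.ofNat 0, Int.ofNat 0, Int.ofNat 0, Int.ofNat 0, Int.ofNat 2, Int.ofNat 0, Int.ofNat 2, Int.negSucc 1, Int.ofNat 0, Int.ofNat 2, Int.ofNat 2, Int.negSucc 1, Int.ofNat 2, Int.ofNat 0, Int.ofNat 0, Int.ofNat 0, Int.ofNat 0, Int.ofNat 0, Int.ofNat 0, Int.ofNat 0, Int.ofNat 0],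
  [Int.ofNat 0, Int.ofNat 0, Int.ofNat 0, Int.ofNat 0, Int.ofNat 2, Int.ofNat 0, Int.ofNat 0, Int.ofNat 0, Int.ofNat 0, Int.ofNat 2, Int.ofNat 2, Int.ofNat 0, Int.ofNat 0, Int.ofNat 2, Int.ofNat 0, Int.ofNat 2, Int.ofNat 2, Int.ofNat 0, Int.ofNat 0, Int.ofNat 0, Int.negSucc 1, Int.ofNat 0, Int.negSucc 1, Int.ofNat 0],
  [Int.ofNat 0, Int.ofNat 0, Int.ofNat 0, Int.ofNat 0, Int.ofNat 0, Int.ofNat 0, Int.ofNat 0, Int.ofNat 0, Int.ofNat 0, Int.ofNat 0, Int.ofNat 0, Int.ofNat 0, Int.ofNat 0, Int.ofNat 0, Int.ofNat 0, Int.ofNat 0, Int.ofNat 0, Int.ofNat 0, Int.ofNat 0, Int.ofNat 0, Int.negSucc 3, Int.ofNat 0, Int.negSucc 3, Int.ofNat 0],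
  [Int.negSucc 3, Int.ofNat 0, Int.negSucc 3, Int.ofNat 0, Int.ofNat 0, Int.ofNat 0, Int.ofNat 0, Int.ofNat 0, Int.ofNat 0, Int.ofNat 0, Int.ofNat 0, Int.ofNat 0, Int.ofNat 0, Int.ofNat 0, Int.ofNat 0, Int.ofNat 0, Int.ofNat 0, Int.ofNat 0, Int.ofNat 0, Int.ofNat 0, Int.ofNat 0, Int.ofNat 0, Int.ofNat 0, Int.ofNat 0],
  [Int.ofNat 0, Int.negSucc 3, Int.ofNat 0, Int.ofNat 0, Int.ofNat 0, Int.ofNat 0, Int.ofNat 0, Int.ofNat 0, Int.ofNat 0, Int.ofNat 0, Int.ofNat 0, Int.ofNat 0, Int.ofNat 0, Int.ofNat 0, Int.ofNat 0, Int.ofNat 0, Int.ofNat 0, Int.ofNat 0, Int.ofNat 0, Int.ofNat 0, Int.ofNat 0, Int.ofNat 0, Int.ofNat 0, Int.negSucc 3],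
  [Int.negSucc 3, Int.ofNat 0, Int.ofNat 0, Int.ofNat 0, Int.ofNat 0, Int.ofNat 0, Int.ofNat 0, Int.ofNat 0, Int.ofNat 0, Int.ofNat 0, Int.ofNat 0, Int.ofNat 0, Int.ofNat 0, Int.ofNat 0, Int.ofNat 0, Int.ofNat 0, Int.ofNat 0, Int.ofNat 0, Int.ofNat 0, Int.ofNat 0, Int.ofNat 0, Int.ofNat 0, Int.ofNat 0, Int.negSucc 3],
  [Int.ofNat 4, Int.ofNat 0, Int.ofNat 0, Int.ofNat 0, Int.ofNat 0, Int.ofNat 0, Int.ofNat 0, Int.ofNat 0, Int.ofNat 0, Int.ofNat 0, Int.ofNat 0, Int.ofNat 0, Int.ofNat 0, Int.ofNat 0, Int.ofNat 0, Int.ofNat 0, Int.ofNat 0, Int.ofNat 0, Int.ofNat 0, Int.ofNat 0, Int.ofNat 0, Int.ofNat 0, Int.ofNat 0, Int.negSucc 3],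
  [Int.negSucc 3, Int.ofNat 0, Int.ofNat 0, Int.ofNat 0, Int.ofNat 0, Int.ofNat 0, Int.ofNat 0, Int.ofNat 0, Int.ofNat 0, Int.ofNat 0, Int.ofNat 0, Int.ofNat 0, Int.ofNat 0, Int.ofNat 0, Int.ofNat 0, Int.ofNat 0, Int.ofNat 0, Int.ofNat 0, Int.ofNat 0, Int.ofNat 0, Int.ofNat 0, Int.ofNat 0, Int.ofNat 0, Int.negSucc 3],
  [Int.negSucc 3, Int.ofNat 0, Int.ofNat 0, Int.ofNat 0, Int.ofNat 0, Int.ofNat 0, Int.ofNat 0, Int.ofNat 0, Int.ofNat 0, Int.ofNat 0, Int.ofNat 0, Int.ofNat 0, Int.ofNat 0, Int.ofNat 0, Int.ofNat 0, Int.ofNat 0, Int.ofNat 0, Int.ofNat 0, Int.ofNat 0, Int.ofNat 0, Int.ofNat 0, Int.ofNat 0, Int.ofNat 0, Int.negSucc 3],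
  [Int.ofNat 4, Int.ofNat 0, Int.ofNat 0, Int.ofNat 0, Int.ofNat 0, Int.ofNat 0, Int.ofNat 0, Int.ofNat 0, Int.ofNat 0, Int.ofNat 0, Int.ofNat 0, Int.ofNat 0, Int.ofNat 0, Int.ofNat 0, Int.ofNat 0, Int.ofNat 0, Int.ofNat 0, Int.ofNat 0, Int.ofNat 0, Int.ofNat 0, Int.ofNat 0, Int.ofNat 0, Int.ofNat 0, Int.negSucc 3],
  [Int.ofNat 0, Int.ofNat 4, Int.ofNat 0, Int.ofNat 0, Int.ofNat 0, Int.ofNat 0, Int.ofNat 0, Int.ofNat 0, Int.ofNat 0, Int.ofNat 0, Int.ofNat 0, Int.ofNat 0, Int.ofNat 0, Int.ofNat 0, Int.ofNat 0, Int.ofNat 0, Int.ofNat 0, Int.ofNat 0, Int.ofNat 0, Int.ofNat 0, Int.ofNat 0, Int.ofNat 0, Int.ofNat 0, Int.negSucc 3],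
  [Int.ofNat 0, Int.negSucc 3, Int.ofNat 0, Int.ofNat 0, Int.ofNat 0, Int.ofNat 0, Int.ofNat 0, Int.ofNat 0, Int.ofNat 0, Int.ofNat 0, Int.ofNat 0, Int.ofNat 0, Int.ofNat 0, Int.ofNat 0, Int.ofNat 0, Int.ofNat 0, Int.ofNat 0, Int.ofNat 0, Int.ofNat 0, Int.ofNat 0, Int.ofNat 0, Int.ofNat 0, Int.ofNat 0, Int.ofNat 4],
  [Int.ofNat 0, Int.ofNat 0, Int.ofNat 0, Int.ofNat 0, Int.ofNat 0, Int.ofNat 0, Int.ofNat 0, Int.ofNat 0, Int.ofNat 0, Int.ofNat 0, Int.ofNat 0, Int.ofNat 0, Int.ofNat 0, Int.ofNat 0, Int.ofNat 0, Int.ofNat 0, Int.ofNat 0, Int.ofNat 0, Int.ofNat 0, Int.ofNat 0, Int.ofNat 0, Int.negSucc 3, Int.ofNat 0, Int.ofNat 4],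
  [Int.ofNat 2, Int.ofNat 2, Int.ofNat 2, Int.ofNat 0, Int.ofNat 0, Int.ofNat 0, Int.ofNat 2, Int.ofNat 2, Int.ofNat 0, Int.ofNat 0, Int.ofNat 0, Int.ofNat 0, Int.ofNat 0, Int.ofNat 0, Int.ofNat 0, Int.ofNat 0, Int.ofNat 0, Int.ofNat 0, Int.ofNat 0, Int.ofNat 2, Int.ofNat 0, Int.negSucc 1, Int.ofNat 0, Int.negSucc 1],
  [Int.ofNat 2, Int.ofNat 2, Int.ofNat 0, Int.ofNat 0, Int.ofNat 0, Int.ofNat 2, Int.ofNat 2, Int.ofNat 0, Int.ofNat 0, Int.ofNat 0, Int.ofNat 0, Int.ofNat 0, Int.ofNat 0, Int.ofNat 0, Int.ofNat 0, Int.ofNat 0, Int.ofNat 0, Int.ofNat 0, Int.ofNat 2, Int.ofNat 0, Int.negSucc 1, Int.ofNat 0, Int.ofNat 2, Int.negSucc 1],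
  [Int.negSucc 0, Int.negSucc 0, Int.ofNat 1, Int.negSucc 0, Int.negSucc 0, Int.ofNat 1, Int.ofNat 1, Int.negSucc 0, Int.negSucc 0, Int.ofNat 1, Int.ofNat 1, Int.negSucc 0, Int.negSucc 0, Int.negSucc 0, Int.negSucc 0, Int.ofNat 1, Int.negSucc 0, Int.negSucc 0, Int.ofNat 1, Int.negSucc 0, Int.negSucc 0, Int.negSucc 0, Int.ofNat 1, Int.ofNat 3],
  [Int.negSucc 0, Int.negSucc 0, Int.negSucc 0, Int.negSucc 0, Int.negSucc 0, Int.negSucc 0, Int.negSucc 0, Int.negSucc 0, Int.negSucc 0, Int.negSucc 0, Int.negSucc 0, Int.negSucc 0, Int.negSucc 0, Int.negSucc 0, Int.negSucc 0, Int.negSucc 0, Int.negSucc 0, Int.negSucc 0, Int.negSucc 0, Int.negSucc 0, Int.negSucc 0, Int.negSucc 0, Int.negSucc 0, Int.ofNat 3],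
  [Int.negSucc 0, Int.negSucc 0, Int.negSucc 0, Int.negSucc 0, Int.negSucc 0, Int.negSucc 0, Int.negSucc 0, Int.negSucc 0, Int.negSucc 0, Int.negSucc 0, Int.negSucc 0, Int.negSucc 0, Int.negSucc 0, Int.negSucc 0, Int.negSucc 0, Int.negSucc 0, Int.negSucc 0, Int.negSucc 0, Int.negSucc 0, Int.negSucc 0, Int.negSucc 0, Int.negSucc 0, Int.negSucc 0, Int.ofNat 3],
  [Int.negSucc 0, Int.negSucc 0, Int.ofNat 1, Int.negSucc 0, Int.negSucc 0, Int.ofNat 1, Int.ofNat 1, Int.negSucc 0, Int.negSucc 0, Int.ofNat 1, Int.ofNat 1, Int.negSucc 0, Int.negSucc 0, Int.negSucc 0, Int.negSucc 0, Int.ofNat 1, Int.negSucc 0, Int.negSucc 0, Int.ofNat 1, Int.negSucc 0, Int.negSucc 0, Int.negSucc 0, Int.ofNat 1, Int.ofNat 3],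
  [Int.ofNat 2, Int.ofNat 2, Int.ofNat 0, Int.ofNat 0, Int.ofNat 0, Int.ofNat 2, Int.ofNat 2, Int.ofNat 0, Int.ofNat 0, Int.ofNat 0, Int.ofNat 0, Int.ofNat 0, Int.ofNat 0, Int.ofNat 0, Int.ofNat 0, Int.ofNat 0, Int.ofNat 0, Int.ofNat 0, Int.ofNat 2, Int.ofNat 0, Int.negSucc 1, Int.ofNat 0, Int.ofNat 2, Int.negSucc 1],
  [Int.ofNat 2, Int.ofNat 2, Int.ofNat 2, Int.ofNat 0, Int.ofNat 0, Int.ofNat 0, Int.ofNat 2, Int.ofNat 2, Int.ofNat 0, Int.ofNat 0, Int.ofNat 0, Int.ofNat 0, Int.ofNat 0, Int.ofNat 0, Int.ofNat 0, Int.ofNat 0, Int.ofNat 0, Int.ofNat 0, Int.ofNat 0, Int.ofNat 2, Int.ofNat 0, Int.negSucc 1, Int.ofNat 0, Int.negSucc 1],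
  [Int.ofNat 0, Int.ofNat 0, Int.ofNat 0, Int.ofNat 0, Int.ofNat 0, Int.ofNat 0, Int.ofNat 0, Int.ofNat 0, Int.ofNat 0, Int.ofNat 0, Int.ofNat 0, Int.ofNat 0, Int.ofNat 0, Int.ofNat 0, Int.ofNat 0, Int.ofNat 0, Int.ofNat 0, Int.ofNat 0, Int.ofNat 0, Int.ofNat 0, Int.ofNat 0, Int.negSucc 3, Int.ofNat 0, Int.ofNat 4],
  [Int.ofNat 0, Int.negSucc 3, Int.ofNat 0, Int.ofNat 0, Int.ofNat 0, Int.ofNat 0, Int.ofNat 0, Int.ofNat 0, Int.ofNat 0, Int.ofNat 0, Int.ofNat 0, Int.ofNat 0, Int.ofNat 0, Int.ofNat 0, Int.ofNat 0, Int.ofNat 0, Int.ofNat 0, Int.ofNat 0, Int.ofNat 0, Int.ofNat 0, Int.ofNat 0, Int.ofNat 0, Int.ofNat 0, Int.ofNat 4],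
  [Int.ofNat 0, Int.ofNat 4, Int.ofNat 0, Int.ofNat 0, Int.ofNat 0, Int.ofNat 0, Int.ofNat 0, Int.ofNat 0, Int.ofNat 0, Int.ofNat 0, Int.ofNat 0, Int.ofNat 0, Int.ofNat 0, Int.ofNat 0, Int.ofNat 0, Int.ofNat 0, Int.ofNat 0, Int.ofNat 0, Int.ofNat 0, Int.ofNat 0, Int.ofNat 0, Int.ofNat 0, Int.ofNat 0, Int.negSucc 3],
  [Int.ofNat 4, Int.ofNat 0, Int.ofNat 0, Int.ofNat 0, Int.ofNat 0, Int.ofNat 0, Int.ofNat 0, Int.ofNat 0, Int.ofNat 0, Int.ofNat 0, Int.ofNat 0, Int.ofNat 0, Int.ofNat 0, Int.ofNat 0, Int.ofNat 0, Int.ofNat 0, Int.ofNat 0, Int.ofNat 0, Int.ofNat 0, Int.ofNat 0, Int.ofNat 0, Int.ofNat 0, Int.ofNat 0, Int.negSucc 3],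
  [Int.negSucc 3, Int.ofNat 0, Int.ofNat 0, Int.ofNat 0, Int.ofNat 0, Int.ofNat 0, Int.ofNat 0, Int.ofNat 0, Int.ofNat 0, Int.ofNat 0, Int.ofNat 0, Int.ofNat 0, Int.ofNat 0, Int.ofNat 0, Int.ofNat 0, Int.ofNat 0, Int.ofNat 0, Int.ofNat 0, Int.ofNat 0, Int.ofNat 0, Int.ofNat 0, Int.ofNat 0, Int.ofNat 0, Int.negSucc 3],
  [Int.ofNat 4, Int.ofNat 0, Int.ofNat 0, Int.ofNat 0, Int.ofNat 0, Int.ofNat 0, Int.ofNat 0, Int.ofNat 0, Int.ofNat 0, Int.ofNat 0, Int.ofNat 0, Int.ofNat 0, Int.ofNat 0, Int.ofNat 0, Int.ofNat 0, Int.ofNat 0, Int.ofNat 0, Int.ofNat 0, Int.ofNat 0, Int.ofNat 0, Int.ofNat 0, Int.ofNat 0, Int.ofNat 0, Int.negSucc 3],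
  [Int.negSucc 3, Int.ofNat 0, Int.ofNat 0, Int.ofNat 0, Int.ofNat 0, Int.ofNat 0, Int.ofNat 0, Int.ofNat 0, Int.ofNat 0, Int.ofNat 0, Int.ofNat 0, Int.ofNat 0, Int.ofNat 0, Int.ofNat 0, Int.ofNat 0, Int.ofNat 0, Int.ofNat 0, Int.ofNat 0, Int.ofNat 0, Int.ofNat 0, Int.ofNat 0, Int.ofNat 0, Int.ofNat 0, Int.ofNat 4],
  [Int.ofNat 4, Int.ofNat 0, Int.ofNat 0, Int.ofNat 0, Int.ofNat 0, Int.ofNat 0, Int.ofNat 0, Int.ofNat 0, Int.ofNat 0, Int.ofNat 0, Int.ofNat 0, Int.ofNat 0, Int.ofNat 0, Int.ofNat 0, Int.ofNat 0, Int.ofNat 0, Int.ofNat 0, Int.ofNat 0, Int.ofNat 0, Int.ofNat 0, Int.ofNat 0, Int.ofNat 0, Int.ofNat 0, Int.ofNat 4],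
  [Int.ofNat 0, Int.ofNat 4, Int.ofNat 0, Int.ofNat 0, Int.ofNat 0, Int.ofNat 0, Int.ofNat 0, Int.ofNat 0, Int.ofNat 0, Int.ofNat 0, Int.ofNat 0, Int.ofNat 0, Int.ofNat 0, Int.ofNat 0, Int.ofNat 0, Int.ofNat 0, Int.ofNat 0, Int.ofNat 0, Int.ofNat 0, Int.ofNat 0, Int.ofNat 0, Int.ofNat 0, Int.ofNat 0, Int.ofNat 4],
  [Int.ofNat 4, Int.ofNat 0, Int.ofNat 4, Int.ofNat 0, Int.ofNat 0, Int.ofNat 0, Int.ofNat 0, Int.ofNat 0, Int.ofNat 0, Int.ofNat 0, Int.ofNat 0, Int.ofNat 0, Int.ofNat 0, Int.ofNat 0, Int.ofNat 0, Int.ofNat 0, Int.ofNat 0, Int.ofNat 0, Int.ofNat 0, Int.ofNat 0, Int.ofNat 0, Int.ofNat 0, Int.ofNat 0, Int.ofNat 0],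
  [Int.ofNat 0, Int.ofNat 0, Int.ofNat 0, Int.ofNat 0, Int.ofNat 0, Int.ofNat 0, Int.ofNat 0, Int.ofNat 0, Int.ofNat 0, Int.ofNat 0, Int.ofNat 0, Int.ofNat 0, Int.ofNat 0, Int.ofNat 0, Int.ofNat 0, Int.ofNat 0, Int.ofNat 0, Int.ofNat 0, Int.ofNat 0, Int.ofNat 0, Int.ofNat 4, Int.ofNat 0, Int.ofNat 4, Int.ofNat 0],
  [Int.ofNat 0, Int.ofNat 0, Int.ofNat 0, Int.ofNat 0, Int.negSucc 1, Int.ofNat 0, Int.ofNat 0, Int.ofNat 0, Int.ofNat 0, Int.negSucc 1, Int.negSucc 1, Int.ofNat 0, Int.ofNat 0, Int.negSucc 1, Int.ofNat 0, Int.negSucc 1, Int.negSucc 1, Int.ofNat 0, Int.ofNat 0, Int.ofNat 0, Int.ofNat 2, Int.ofNat 0, Int.ofNat 2, Int.ofNat 0],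
  [Int.ofNat 0, Int.ofNat 0, Int.negSucc 1, Int.ofNat 0, Int.ofNat 0, Int.ofNat 0, Int.ofNat 0, Int.negSucc 1, Int.ofNat 0, Int.negSucc 1, Int.ofNat 2, Int.ofNat 0, Int.negSucc 1, Int.negSucc 1, Int.ofNat 2, Int.negSucc 1, Int.ofNat 0, Int.ofNat 0, Int.ofNat 0, Int.ofNat 0, Int.ofNat 0, Int.ofNat 0, Int.ofNat 0, Int.ofNat 0],
  [Int.negSucc 0, Int.negSucc 0, Int.ofNat 1, Int.negSucc 0, Int.ofNat 1, Int.negSucc 0, Int.ofNat 1, Int.negSucc 0, Int.ofNat 1, Int.negSucc 0, Int.ofNat 3, Int.ofNat 1, Int.negSucc 0, Int.negSucc 0, Int.ofNat 1, Int.negSucc 0, Int.ofNat 1, Int.negSucc 0, Int.ofNat 1, Int.ofNat 1, Int.ofNat 1, Int.ofNat 1, Int.ofNat 1, Int.negSucc 0],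
  [Int.negSucc 0, Int.negSucc 0, Int.negSucc 0, Int.negSucc 0, Int.ofNat 1, Int.ofNat 1, Int.negSucc 0, Int.negSucc 0, Int.ofNat 1, Int.ofNat 1, Int.negSucc 2, Int.ofNat 1, Int.negSucc 0, Int.negSucc 0, Int.ofNat 1, Int.ofNat 1, Int.ofNat 1, Int.negSucc 0, Int.negSucc 0, Int.ofNat 1, Int.ofNat 1, Int.ofNat 1, Int.negSucc 0, Int.negSucc 0],
  [Int.negSucc 0, Int.ofNat 1, Int.ofNat 1, Int.ofNat 1, Int.negSucc 0, Int.negSucc 0, Int.ofNat 1, Int.ofNat 1, Int.negSucc 2, Int.negSucc 0, Int.negSucc 0, Int.negSucc 0, Int.negSucc 0, Int.negSucc 0, Int.ofNat 1, Int.ofNat 1, Int.negSucc 0, Int.negSucc 0, Int.ofNat 1, Int.ofNat 1, Int.ofNat 1, Int.ofNat 1, Int.negSucc 0, Int.negSucc 0],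
  [Int.negSucc 0, Int.ofNat 1, Int.negSucc 0, Int.ofNat 1, Int.negSucc 0, Int.ofNat 1, Int.negSucc 0, Int.ofNat 1, Int.negSucc 2, Int.ofNat 1, Int.ofNat 1, Int.negSucc 0, Int.negSucc 0, Int.negSucc 0, Int.ofNat 1, Int.negSucc 0, Int.negSucc 0, Int.negSucc 0, Int.negSucc 0, Int.ofNat 1, Int.ofNat 1, Int.ofNat 1, Int.ofNat 1, Int.negSucc 0],
  [Int.ofNat 0, Int.negSucc 1, Int.ofNat 0, Int.ofNat 0, Int.ofNat 0, Int.ofNat 0, Int.negSucc 1, Int.ofNat 0, Int.ofNat 0, Int.ofNat 0, Int.ofNat 0, Int.ofNat 2, Int.ofNat 2, Int.ofNat 0, Int.ofNat 0, Int.negSucc 1, Int.ofNat 0, Int.negSucc 1, Int.ofNat 2, Int.ofNat 0, Int.ofNat 0, Int.ofNat 0, Int.ofNat 2, Int.ofNat 0],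
  [Int.ofNat 0, Int.ofNat 2, Int.negSucc 1, Int.ofNat 0, Int.ofNat 0, Int.ofNat 0, Int.negSucc 1, Int.ofNat 0, Int.ofNat 0, Int.ofNat 2, Int.ofNat 0, Int.ofNat 0, Int.ofNat 0, Int.ofNat 0, Int.negSucc 1, Int.negSucc 1, Int.ofNat 0, Int.ofNat 2, Int.ofNat 0, Int.ofNat 2, Int.ofNat 0, Int.ofNat 0, Int.ofNat 0, Int.ofNat 0],
  [Int.ofNat 0, Int.negSucc 1, Int.ofNat 2, Int.ofNat 0, Int.ofNat 0, Int.ofNat 0, Int.negSucc 1, Int.ofNat 0, Int.ofNat 0, Int.ofNat 2, Int.ofNat 0, Int.ofNat 0, Int.ofNat 0, Int.ofNat 0, Int.negSucc 1, Int.negSucc 1, Int.ofNat 0, Int.ofNat 2, Int.ofNat 0, Int.ofNat 2, Int.ofNat 0, Int.ofNat 0, Int.ofNat 0, Int.ofNat 0],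
  [Int.ofNat 0, Int.ofNat 0, Int.ofNat 0, Int.ofNat 0, Int.negSucc 1, Int.ofNat 2, Int.ofNat 0, Int.ofNat 0, Int.ofNat 0, Int.negSucc 1, Int.ofNat 0, Int.ofNat 0, Int.ofNat 2, Int.ofNat 0, Int.ofNat 0, Int.ofNat 0, Int.ofNat 0, Int.negSucc 1, Int.negSucc 1, Int.ofNat 0, Int.ofNat 2, Int.ofNat 0, Int.ofNat 2, Int.ofNat 0],
  [Int.ofNat 0, Int.ofNat 0, Int.ofNat 0, Int.ofNat 0, Int.negSucc 1, Int.ofNat 2, Int.ofNat 0, Int.ofNat 0, Int.ofNat 0, Int.negSucc 1, Int.ofNat 0, Int.ofNat 0, Int.ofNat 2, Int.ofNat 0, Int.ofNat 0, Int.ofNat 0, Int.ofNat 0, Int.negSucc 1, Int.negSucc 1, Int.ofNat 0, Int.ofNat 2, Int.ofNat 0, Int.ofNat 2, Int.ofNat 0],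
  [Int.ofNat 0, Int.ofNat 0, Int.ofNat 0, Int.negSucc 1, Int.ofNat 2, Int.ofNat 0, Int.ofNat 0, Int.ofNat 0, Int.negSucc 1, Int.ofNat 0, Int.ofNat 0, Int.ofNat 2, Int.ofNat 0, Int.ofNat 0, Int.ofNat 0, Int.ofNat 0, Int.negSucc 1, Int.negSucc 1, Int.ofNat 0, Int.ofNat 2, Int.ofNat 0, Int.ofNat 2, Int.ofNat 0, Int.ofNat 0],
  [Int.ofNat 0, Int.ofNat 0, Int.ofNat 0, Int.negSucc 1, Int.ofNat 2, Int.ofNat 0, Int.ofNat 0, Int.ofNat 0, Int.negSucc 1, Int.ofNat 0, Int.ofNat 0, Int.negSucc 1, Int.ofNat 0, Int.ofNat 0, Int.ofNat 0, Int.ofNat 0, Int.negSucc 1, Int.negSucc 1, Int.ofNat 0, Int.ofNat 2, Int.ofNat 0, Int.negSucc 1, Int.ofNat 0, Int.ofNat 0],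
  [Int.ofNat 0, Int.ofNat 0, Int.ofNat 0, Int.ofNat 2, Int.negSucc 1, Int.ofNat 0, Int.ofNat 0, Int.ofNat 0, Int.ofNat 2, Int.ofNat 0, Int.ofNat 0, Int.negSucc 1, Int.ofNat 0, Int.ofNat 0, Int.ofNat 0, Int.ofNat 0, Int.ofNat 2, Int.negSucc 1, Int.ofNat 0, Int.ofNat 2, Int.ofNat 0, Int.negSucc 1, Int.ofNat 0, Int.ofNat 0],
  [Int.ofNat 0, Int.ofNat 0, Int.negSucc 1, Int.ofNat 0, Int.negSucc 1, Int.ofNat 0, Int.ofNat 2, Int.ofNat 0, Int.ofNat 0, Int.ofNat 0, Int.ofNat 2, Int.ofNat 0, Int.negSucc 1, Int.ofNat 0, Int.ofNat 0, Int.ofNat 2, Int.ofNat 0, Int.negSucc 1, Int.ofNat 0, Int.ofNat 0, Int.ofNat 2, Int.ofNat 0, Int.ofNat 0, Int.ofNat 0],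
  [Int.ofNat 0, Int.ofNat 0, Int.ofNat 2, Int.ofNat 0, Int.negSucc 1, Int.ofNat 0, Int.ofNat 2, Int.ofNat 0, Int.ofNat 0, Int.ofNat 0, Int.negSucc 1, Int.ofNat 0, Int.negSucc 1, Int.ofNat 0, Int.ofNat 0, Int.ofNat 2, Int.ofNat 0, Int.negSucc 1, Int.ofNat 0, Int.ofNat 0, Int.ofNat 2, Int.ofNat 0, Int.ofNat 0, Int.ofNat 0],
  [Int.ofNat 0, Int.ofNat 0, Int.ofNat 0, Int.ofNat 2, Int.ofNat 0, Int.negSucc 1, Int.ofNat 0, Int.ofNat 2, Int.ofNat 0, Int.ofNat 0, Int.ofNat 0, Int.negSucc 1, Int.ofNat 0, Int.negSucc 1, Int.ofNat 0, Int.ofNat 0, Int.ofNat 2, Int.ofNat 0, Int.negSucc 1, Int.ofNat 0, Int.ofNat 0, Int.ofNat 2, Int.ofNat 0, Int.ofNat 0],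
  [Int.ofNat 0, Int.ofNat 0, Int.ofNat 0, Int.ofNat 2, Int.ofNat 0, Int.negSucc 1, Int.negSucc 1, Int.ofNat 0, Int.ofNat 2, Int.ofNat 0, Int.ofNat 0, Int.ofNat 0, Int.ofNat 2, Int.negSucc 1, Int.ofNat 0, Int.ofNat 0, Int.ofNat 2, Int.ofNat 0, Int.ofNat 0, Int.negSucc 1, Int.ofNat 0, Int.ofNat 0, Int.ofNat 0, Int.ofNat 0],
  [Int.ofNat 2, Int.ofNat 0, Int.negSucc 1, Int.negSucc 1, Int.ofNat 0, Int.ofNat 2, Int.ofNat 0, Int.ofNat 0, Int.ofNat 0, Int.ofNat 2, Int.negSucc 1, Int.ofNat 0, Int.ofNat 0, Int.ofNat 2, Int.ofNat 0, Int.ofNat 0, Int.negSucc 1, Int.ofNat 0, Int.ofNat 0, Int.ofNat 0, Int.ofNat 0, Int.ofNat 0, Int.ofNat 0, Int.ofNat 0],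
  [Int.negSucc 1, Int.ofNat 0, Int.ofNat 2, Int.negSucc 1, Int.ofNat 0, Int.ofNat 2, Int.ofNat 0, Int.ofNat 0, Int.ofNat 0, Int.ofNat 2, Int.negSucc 1, Int.ofNat 0, Int.ofNat 0, Int.ofNat 2, Int.ofNat 0, Int.ofNat 0, Int.negSucc 1, Int.ofNat 0, Int.ofNat 0, Int.ofNat 0, Int.ofNat 0, Int.ofNat 0, Int.ofNat 0, Int.ofNat 0],
  [Int.negSucc 1, Int.ofNat 0, Int.ofNat 0, Int.negSucc 1, Int.ofNat 0, Int.ofNat 0, Int.ofNat 2, Int.negSucc 1, Int.ofNat 0, Int.ofNat 2, Int.ofNat 0, Int.ofNat 0, Int.ofNat 2, Int.negSucc 1, Int.ofNat 0, Int.ofNat 0, Int.ofNat 0, Int.ofNat 0, Int.ofNat 0, Int.ofNat 0, Int.ofNat 0, Int.ofNat 2, Int.ofNat 0, Int.ofNat 0],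
  [Int.ofNat 1, Int.negSucc 0, Int.negSucc 0, Int.negSucc 0, Int.ofNat 1, Int.ofNat 1, Int.ofNat 1, Int.negSucc 2, Int.negSucc 0, Int.ofNat 1, Int.negSucc 0, Int.negSucc 0, Int.ofNat 1, Int.negSucc 0, Int.ofNat 1, Int.negSucc 0, Int.ofNat 1, Int.ofNat 1, Int.negSucc 0, Int.negSucc 0, Int.negSucc 0, Int.ofNat 1, Int.ofNat 1, Int.negSucc 0],
  [Int.ofNat 1, Int.negSucc 0, Int.ofNat 1, Int.negSucc 0, Int.ofNat 1, Int.negSucc 0, Int.negSucc 0, Int.negSucc 2, Int.negSucc 0, Int.negSucc 0, Int.ofNat 1, Int.negSucc 0, Int.ofNat 1, Int.negSucc 0, Int.ofNat 1, Int.ofNat 1, Int.ofNat 1, Int.ofNat 1, Int.ofNat 1, Int.negSucc 0, Int.negSucc 0, Int.ofNat 1, Int.negSucc 0, Int.negSucc 0],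
  [Int.ofNat 1, Int.negSucc 0, Int.negSucc 0, Int.ofNat 1, Int.negSucc 0, Int.negSucc 0, Int.negSucc 0, Int.negSucc 0, Int.ofNat 1, Int.ofNat 1, Int.ofNat 1, Int.negSucc 0, Int.ofNat 1, Int.negSucc 0, Int.ofNat 1, Int.negSucc 0, Int.negSucc 0, Int.negSucc 2, Int.ofNat 1, Int.ofNat 1, Int.ofNat 1, Int.negSucc 0, Int.ofNat 1, Int.negSucc 0],
  [Int.ofNat 1, Int.negSucc 0, Int.ofNat 1, Int.ofNat 1, Int.negSucc 0, Int.ofNat 1, Int.ofNat 1, Int.negSucc 0, Int.ofNat 1, Int.negSucc 0, Int.negSucc 0, Int.negSucc 0, Int.ofNat 1, Int.negSucc 0, Int.ofNat 1, Int.ofNat 1, Int.negSucc 0, Int.negSucc 2, Int.negSucc 0, Int.ofNat 1, Int.ofNat 1, Int.negSucc 0, Int.negSucc 0, Int.negSucc 0],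
  [Int.negSucc 0, Int.ofNat 1, Int.negSucc 0, Int.ofNat 1, Int.ofNat 1, Int.ofNat 1, Int.ofNat 1, Int.negSucc 0, Int.ofNat 1, Int.negSucc 0, Int.negSucc 0, Int.negSucc 0, Int.ofNat 1, Int.ofNat 1, Int.ofNat 1, Int.ofNat 1, Int.ofNat 1, Int.negSucc 2, Int.negSucc 0, Int.ofNat 1, Int.ofNat 1, Int.negSucc 0, Int.ofNat 1, Int.ofNat 1],
  [Int.negSucc 0, Int.negSucc 0, Int.ofNat 1, Int.ofNat 1, Int.negSucc 0, Int.negSucc 0, Int.ofNat 1, Int.ofNat 1, Int.ofNat 1, Int.ofNat 1, Int.negSucc 0, Int.ofNat 1, Int.ofNat 1, Int.negSucc 0, Int.negSucc 2, Int.ofNat 1, Int.ofNat 1, Int.negSucc 0, Int.ofNat 1, Int.ofNat 1, Int.negSucc 0, Int.ofNat 1, Int.ofNat 1, Int.ofNat 1],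
  [Int.ofNat 1, Int.ofNat 1, Int.negSucc 0, Int.ofNat 3, Int.negSucc 0, Int.ofNat 1, Int.negSucc 0, Int.negSucc 0, Int.negSucc 0, Int.ofNat 1, Int.negSucc 0, Int.negSucc 0, Int.negSucc 0, Int.negSucc 0, Int.negSucc 0, Int.ofNat 1, Int.ofNat 1, Int.ofNat 1, Int.negSucc 0, Int.negSucc 0, Int.negSucc 0, Int.negSucc 0, Int.ofNat 1, Int.negSucc 0],
  [Int.negSucc 0, Int.negSucc 0, Int.ofNat 1, Int.ofNat 1, Int.ofNat 1, Int.negSucc 0, Int.ofNat 3, Int.negSucc 0, Int.ofNat 1, Int.negSucc 0, Int.negSucc 0, Int.negSucc 0, Int.ofNat 1, Int.negSucc 0, Int.negSucc 0, Int.negSucc 0, Int.negSucc 0, Int.negSucc 0, Int.ofNat 1, Int.ofNat 1, Int.ofNat 1, Int.negSucc 0, Int.negSucc 0, Int.negSucc 0],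
  [Int.ofNat 0, Int.ofNat 0, Int.negSucc 1, Int.ofNat 2, Int.ofNat 2, Int.ofNat 0, Int.ofNat 2, Int.negSucc 1, Int.ofNat 0, Int.ofNat 0, Int.ofNat 0, Int.negSucc 1, Int.ofNat 0, Int.ofNat 0, Int.ofNat 0, Int.ofNat 0, Int.ofNat 0, Int.ofNat 0, Int.ofNat 0, Int.ofNat 0, Int.ofNat 2, Int.negSucc 1, Int.ofNat 0, Int.ofNat 0],
  [Int.ofNat 0, Int.negSucc 1, Int.ofNat 2, Int.ofNat 2, Int.ofNat 0, Int.ofNat 2, Int.negSucc 1, Int.ofNat 0, Int.ofNat 0, Int.ofNat 0, Int.negSucc 1, Int.ofNat 0, Int.ofNat 0, Int.ofNat 0, Int.ofNat 0, Int.ofNat 0, Int.ofNat 0, Int.ofNat 0, Int.ofNat 0, Int.ofNat 2, Int.negSucc 1, Int.ofNat 0, Int.ofNat 0, Int.ofNat 0],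
  [Int.ofNat 0, Int.negSucc 1, Int.negSucc 1, Int.ofNat 2, Int.ofNat 0, Int.ofNat 2, Int.negSucc 1, Int.ofNat 0, Int.ofNat 0, Int.ofNat 0, Int.ofNat 2, Int.ofNat 0, Int.ofNat 0, Int.ofNat 0, Int.ofNat 0, Int.ofNat 0, Int.ofNat 0, Int.ofNat 0, Int.ofNat 0, Int.ofNat 2, Int.negSucc 1, Int.ofNat 0, Int.ofNat 0, Int.ofNat 0]]

set_option maxRecDepth 100000 in
theorem c1e6_chk : pmChk (List.replicate 14 [6, 0, 25]).flatten nxL c1e6M 0 0 = true := by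
  decide +kernel

theorem c1e6_ne : wE letE2 (List.replicate 14 [6, 0, 25]).flatten ≠ 1 ∧ wE letE2 (List.replicate 14 [6, 0, 25]).flatten ≠ negElt :=
  ne_pm_of_chk nxL_mem c1e6_chk

set_option maxRecDepth 100000 in
def c1e7M : List (List ℤ) :=
  [[Int.ofNat 4, Int.ofNat 0, Int.ofNat 0, Int.ofNat 0, Int.ofNat 0, Int.ofNat 0, Int.ofNat 0, Int.ofNat 0, Int.ofNat 0, Int.ofNat 0, Int.ofNat 0, Int.ofNat 0, Int.ofNat 0, Int.ofNat 0, Int.ofNat 0, Int.ofNat 0, Int.ofNat 0, Int.ofNat 0, Int.ofNat 0, Int.ofNat 0, Int.ofNat 0, Int.ofNat 0, Int.ofNat 0, Int.ofNat 4],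
  [Int.ofNat 4, Int.ofNat 0, Int.ofNat 0, Int.ofNat 0, Int.ofNat 0, Int.ofNat 0, Int.ofNat 0, Int.ofNat 0, Int.ofNat 0, Int.ofNat 0, Int.ofNat 0, Int.ofNat 0, Int.ofNat 0, Int.ofNat 0, Int.ofNat 0, Int.ofNat 0, Int.ofNat 0, Int.ofNat 0, Int.ofNat 0, Int.ofNat 0, Int.ofNat 0, Int.ofNat 0, Int.ofNat 0, Int.ofNat 4],
  [Int.negSucc 3, Int.ofNat 0, Int.ofNat 0, Int.ofNat 0, Int.ofNat 0, Int.ofNat 0, Int.ofNat 0, Int.ofNat 0, Int.ofNat 0, Int.ofNat 0, Int.ofNat 0, Int.ofNat 0, Int.ofNat 0, Int.ofNat 0, Int.ofNat 0, Int.ofNat 0, Int.ofNat 0, Int.ofNat 0, Int.ofNat 0, Int.ofNat 0, Int.ofNat 0, Int.ofNat 0, Int.ofNat 0, Int.ofNat 4],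
  [Int.ofNat 0, Int.negSucc 3, Int.ofNat 0, Int.ofNat 0, Int.ofNat 0, Int.ofNat 0, Int.ofNat 0, Int.ofNat 0, Int.ofNat 0, Int.ofNat 0, Int.ofNat 0, Int.ofNat 0, Int.ofNat 0, Int.ofNat 0, Int.ofNat 0, Int.ofNat 0, Int.ofNat 0, Int.ofNat 0, Int.ofNat 0, Int.ofNat 0, Int.ofNat 0, Int.ofNat 0, Int.ofNat 0, Int.ofNat 4],
  [Int.ofNat 0, Int.ofNat 4, Int.ofNat 0, Int.ofNat 0, Int.ofNat 0, Int.ofNat 0, Int.ofNat 0, Int.ofNat 0, Int.ofNat 0, Int.ofNat 0, Int.ofNat 0, Int.ofNat 0, Int.ofNat 0, Int.ofNat 0, Int.ofNat 0, Int.ofNat 0, Int.ofNat 0, Int.ofNat 0, Int.ofNat 0, Int.ofNat 0, Int.ofNat 0, Int.ofNat 0, Int.ofNat 0, Int.negSucc 3],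
  [Int.ofNat 0, Int.ofNat 0, Int.ofNat 0, Int.ofNat 0, Int.ofNat 0, Int.ofNat 0, Int.ofNat 0, Int.ofNat 0, Int.ofNat 0, Int.ofNat 0, Int.ofNat 0, Int.ofNat 0, Int.ofNat 0, Int.ofNat 0, Int.ofNat 0, Int.ofNat 0, Int.ofNat 0, Int.ofNat 0, Int.ofNat 0, Int.ofNat 0, Int.ofNat 0, Int.ofNat 4, Int.ofNat 0, Int.negSucc 3],
  [Int.negSucc 1, Int.negSucc 1, Int.negSucc 1, Int.ofNat 0, Int.ofNat 0, Int.ofNat 0, Int.negSucc 1, Int.negSucc 1, Int.ofNat 0, Int.ofNat 0, Int.ofNat 0, Int.ofNat 0, Int.ofNat 0, Int.ofNat 0, Int.ofNat 0, Int.ofNat 0, Int.ofNat 0, Int.ofNat 0, Int.ofNat 0, Int.negSucc 1, Int.ofNat 0, Int.ofNat 2, Int.ofNat 0, Int.ofNat 2],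
  [Int.negSucc 1, Int.negSucc 1, Int.ofNat 0, Int.ofNat 0, Int.ofNat 0, Int.negSucc 1, Int.negSucc 1, Int.ofNat 0, Int.ofNat 0, Int.ofNat 0, Int.ofNat 0, Int.ofNat 0, Int.ofNat 0, Int.ofNat 0, Int.ofNat 0, Int.ofNat 0, Int.ofNat 0, Int.ofNat 0, Int.negSucc 1, Int.ofNat 0, Int.ofNat 2, Int.ofNat 0, Int.negSucc 1, Int.ofNat 2],
  [Int.ofNat 1, Int.ofNat 1, Int.negSucc 0, Int.ofNat 1, Int.ofNat 1, Int.negSucc 0, Int.negSucc 0, Int.ofNat 1, Int.ofNat 1, Int.negSucc 0, Int.negSucc 0, Int.ofNat 1, Int.ofNat 1, Int.ofNat 1, Int.ofNat 1, Int.negSucc 0, Int.ofNat 1, Int.ofNat 1, Int.negSucc 0, Int.ofNat 1, Int.ofNat 1, Int.ofNat 1, Int.negSucc 0, Int.negSucc 2],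
  [Int.ofNat 1, Int.ofNat 1, Int.ofNat 1, Int.ofNat 1, Int.ofNat 1, Int.ofNat 1, Int.ofNat 1, Int.ofNat 1, Int.ofNat 1, Int.ofNat 1, Int.ofNat 1, Int.ofNat 1, Int.ofNat 1, Int.ofNat 1, Int.ofNat 1, Int.ofNat 1, Int.ofNat 1, Int.ofNat 1, Int.ofNat 1, Int.ofNat 1, Int.ofNat 1, Int.ofNat 1, Int.ofNat 1, Int.negSucc 2],
  [Int.ofNat 1, Int.ofNat 1, Int.ofNat 1, Int.ofNat 1, Int.ofNat 1, Int.ofNat 1, Int.ofNat 1, Int.ofNat 1, Int.ofNat 1, Int.ofNat 1, Int.ofNat 1, Int.ofNat 1, Int.ofNat 1, Int.ofNat 1, Int.ofNat 1, Int.ofNat 1, Int.ofNat 1, Int.ofNat 1, Int.ofNat 1, Int.ofNat 1, Int.ofNat 1, Int.ofNat 1, Int.ofNat 1, Int.negSucc 2],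
  [Int.ofNat 1, Int.ofNat 1, Int.negSucc 0, Int.ofNat 1, Int.ofNat 1, Int.negSucc 0, Int.negSucc 0, Int.ofNat 1, Int.ofNat 1, Int.negSucc 0, Int.negSucc 0, Int.ofNat 1, Int.ofNat 1, Int.ofNat 1, Int.ofNat 1, Int.negSucc 0, Int.ofNat 1, Int.ofNat 1, Int.negSucc 0, Int.ofNat 1, Int.ofNat 1, Int.ofNat 1, Int.negSucc 0, Int.negSucc 2],
  [Int.negSucc 1, Int.negSucc 1, Int.ofNat 0, Int.ofNat 0, Int.ofNat 0, Int.negSucc 1, Int.negSucc 1, Int.ofNat 0, Int.ofNat 0, Int.ofNat 0, Int.ofNat 0, Int.ofNat 0, Int.ofNat 0, Int.ofNat 0, Int.ofNat 0, Int.ofNat 0, Int.ofNat 0, Int.ofNat 0, Int.negSucc 1, Int.ofNat 0, Int.ofNat 2, Int.ofNat 0, Int.negSucc 1, Int.ofNat 2],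
  [Int.negSucc 1, Int.negSucc 1, Int.negSucc 1, Int.ofNat 0, Int.ofNat 0, Int.ofNat 0, Int.negSucc 1, Int.negSucc 1, Int.ofNat 0, Int.ofNat 0, Int.ofNat 0, Int.ofNat 0, Int.ofNat 0, Int.ofNat 0, Int.ofNat 0, Int.ofNat 0, Int.ofNat 0, Int.ofNat 0, Int.ofNat 0, Int.negSucc 1, Int.ofNat 0, Int.ofNat 2, Int.ofNat 0, Int.ofNat 2],
  [Int.ofNat 0, Int.ofNat 0, Int.ofNat 0, Int.ofNat 0, Int.ofNat 0, Int.ofNat 0, Int.ofNat 0, Int.ofNat 0, Int.ofNat 0, Int.ofNat 0, Int.ofNat 0, Int.ofNat 0, Int.ofNat 0, Int.ofNat 0, Int.ofNat 0, Int.ofNat 0, Int.ofNat 0, Int.ofNat 0, Int.ofNat 0, Int.ofNat 0, Int.ofNat 0, Int.ofNat 4, Int.ofNat 0, Int.negSucc 3],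
  [Int.ofNat 0, Int.ofNat 4, Int.ofNat 0, Int.ofNat 0, Int.ofNat 0, Int.ofNat 0, Int.ofNat 0, Int.ofNat 0, Int.ofNat 0, Int.ofNat 0, Int.ofNat 0, Int.ofNat 0, Int.ofNat 0, Int.ofNat 0, Int.ofNat 0, Int.ofNat 0, Int.ofNat 0, Int.ofNat 0, Int.ofNat 0, Int.ofNat 0, Int.ofNat 0, Int.ofNat 0, Int.ofNat 0, Int.negSucc 3],
  [Int.ofNat 0, Int.negSucc 3, Int.ofNat 0, Int.ofNat 0, Int.ofNat 0, Int.ofNat 0, Int.ofNat 0, Int.ofNat 0, Int.ofNat 0, Int.ofNat 0, Int.ofNat 0, Int.ofNat 0, Int.ofNat 0, Int.ofNat 0, Int.ofNat 0, Int.ofNat 0, Int.ofNat 0, Int.ofNat 0, Int.ofNat 0, Int.ofNat 0, Int.ofNat 0, Int.ofNat 0, Int.ofNat 0, Int.ofNat 4],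
  [Int.negSucc 3, Int.ofNat 0, Int.ofNat 0, Int.ofNat 0, Int.ofNat 0, Int.ofNat 0, Int.ofNat 0, Int.ofNat 0, Int.ofNat 0, Int.ofNat 0, Int.ofNat 0, Int.ofNat 0, Int.ofNat 0, Int.ofNat 0, Int.ofNat 0, Int.ofNat 0, Int.ofNat 0, Int.ofNat 0, Int.ofNat 0, Int.ofNat 0, Int.ofNat 0, Int.ofNat 0, Int.ofNat 0, Int.ofNat 4],
  [Int.ofNat 4, Int.ofNat 0, Int.ofNat 0, Int.ofNat 0, Int.ofNat 0, Int.ofNat 0, Int.ofNat 0, Int.ofNat 0, Int.ofNat 0, Int.ofNat 0, Int.ofNat 0, Int.ofNat 0, Int.ofNat 0, Int.ofNat 0, Int.ofNat 0, Int.ofNat 0, Int.ofNat 0, Int.ofNat 0, Int.ofNat 0, Int.ofNat 0, Int.ofNat 0, Int.ofNat 0, Int.ofNat 0, Int.ofNat 4],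
  [Int.negSucc 3, Int.ofNat 0, Int.ofNat 0, Int.ofNat 0, Int.ofNat 0, Int.ofNat 0, Int.ofNat 0, Int.ofNat 0, Int.ofNat 0, Int.ofNat 0, Int.ofNat 0, Int.ofNat 0, Int.ofNat 0, Int.ofNat 0, Int.ofNat 0, Int.ofNat 0, Int.ofNat 0, Int.ofNat 0, Int.ofNat 0, Int.ofNat 0, Int.ofNat 0, Int.ofNat 0, Int.ofNat 0, Int.ofNat 4],
  [Int.ofNat 4, Int.ofNat 0, Int.ofNat 0, Int.ofNat 0, Int.ofNat 0, Int.ofNat 0, Int.ofNat 0, Int.ofNat 0, Int.ofNat 0, Int.ofNat 0, Int.ofNat 0, Int.ofNat 0, Int.ofNat 0, Int.ofNat 0, Int.ofNat 0, Int.ofNat 0, Int.ofNat 0, Int.ofNat 0, Int.ofNat 0, Int.ofNat 0, Int.ofNat 0, Int.ofNat 0, Int.ofNat 0, Int.negSucc 3],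
  [Int.negSucc 3, Int.ofNat 0, Int.ofNat 0, Int.ofNat 0, Int.ofNat 0, Int.ofNat 0, Int.ofNat 0, Int.ofNat 0, Int.ofNat 0, Int.ofNat 0, Int.ofNat 0, Int.ofNat 0, Int.ofNat 0, Int.ofNat 0, Int.ofNat 0, Int.ofNat 0, Int.ofNat 0, Int.ofNat 0, Int.ofNat 0, Int.ofNat 0, Int.ofNat 0, Int.ofNat 0, Int.ofNat 0, Int.negSucc 3],
  [Int.ofNat 0, Int.negSucc 3, Int.ofNat 0, Int.ofNat 0, Int.ofNat 0, Int.ofNat 0, Int.ofNat 0, Int.ofNat 0, Int.ofNat 0, Int.ofNat 0, Int.ofNat 0, Int.ofNat 0, Int.ofNat 0, Int.ofNat 0, Int.ofNat 0, Int.ofNat 0, Int.ofNat 0, Int.ofNat 0, Int.ofNat 0, Int.ofNat 0, Int.ofNat 0, Int.ofNat 0, Int.ofNat 0, Int.negSucc 3],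
  [Int.negSucc 3, Int.ofNat 0, Int.negSucc 3, Int.ofNat 0, Int.ofNat 0, Int.ofNat 0, Int.ofNat 0, Int.ofNat 0, Int.ofNat 0, Int.ofNat 0, Int.ofNat 0, Int.ofNat 0, Int.ofNat 0, Int.ofNat 0, Int.ofNat 0, Int.ofNat 0, Int.ofNat 0, Int.ofNat 0, Int.ofNat 0, Int.ofNat 0, Int.ofNat 0, Int.ofNat 0, Int.ofNat 0, Int.ofNat 0],
  [Int.ofNat 0, Int.ofNat 0, Int.ofNat 0, Int.ofNat 0, Int.ofNat 0, Int.ofNat 0, Int.ofNat 0, Int.ofNat 0, Int.ofNat 0, Int.ofNat 0, Int.ofNat 0, Int.ofNat 0, Int.ofNat 0, Int.ofNat 0, Int.ofNat 0, Int.ofNat 0, Int.ofNat 0, Int.ofNat 0, Int.ofNat 0, Int.ofNat 0, Int.negSucc 3, Int.ofNat 0, Int.negSucc 3, Int.ofNat 0],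
  [Int.ofNat 0, Int.ofNat 0, Int.ofNat 0, Int.ofNat 0, Int.ofNat 2, Int.ofNat 0, Int.ofNat 0, Int.ofNat 0, Int.ofNat 0, Int.ofNat 2, Int.ofNat 2, Int.ofNat 0, Int.ofNat 0, Int.ofNat 2, Int.ofNat 0, Int.ofNat 2, Int.ofNat 2, Int.ofNat 0, Int.ofNat 0, Int.ofNat 0, Int.negSucc 1, Int.ofNat 0, Int.negSucc 1, Int.ofNat 0],
  [Int.ofNat 0, Int.ofNat 0, Int.ofNat 2, Int.ofNat 0, Int.ofNat 0, Int.ofNat 0, Int.ofNat 0, Int.ofNat 2, Int.ofNat 0, Int.ofNat 2, Int.negSucc 1, Int.ofNat 0, Int.ofNat 2, Int.ofNat 2, Int.negSucc 1, Int.ofNat 2, Int.ofNat 0, Int.ofNat 0, Int.ofNat 0, Int.ofNat 0, Int.ofNat 0, Int.ofNat 0, Int.ofNat 0, Int.ofNat 0],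
  [Int.ofNat 1, Int.ofNat 1, Int.negSucc 0, Int.ofNat 1, Int.negSucc 0, Int.ofNat 1, Int.negSucc 0, Int.ofNat 1, Int.negSucc 0, Int.ofNat 1, Int.negSucc 2, Int.negSucc 0, Int.ofNat 1, Int.ofNat 1, Int.negSucc 0, Int.ofNat 1, Int.negSucc 0, Int.ofNat 1, Int.negSucc 0, Int.negSucc 0, Int.negSucc 0, Int.negSucc 0, Int.negSucc 0, Int.ofNat 1],
  [Int.ofNat 1, Int.ofNat 1, Int.ofNat 1, Int.ofNat 1, Int.negSucc 0, Int.negSucc 0, Int.ofNat 1, Int.ofNat 1, Int.negSucc 0, Int.negSucc 0, Int.ofNat 3, Int.negSucc 0, Int.ofNat 1, Int.ofNat 1, Int.negSucc 0, Int.negSucc 0, Int.negSucc 0, Int.ofNat 1, Int.ofNat 1, Int.negSucc 0, Int.negSucc 0, Int.negSucc 0, Int.ofNat 1, Int.ofNat 1],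
  [Int.ofNat 1, Int.negSucc 0, Int.negSucc 0, Int.ofNat 1, Int.ofNat 1, Int.negSucc 0, Int.negSucc 0, Int.ofNat 1, Int.ofNat 1, Int.negSucc 0, Int.negSucc 0, Int.ofNat 1, Int.negSucc 0, Int.negSucc 0, Int.negSucc 0, Int.ofNat 1, Int.negSucc 0, Int.ofNat 1, Int.ofNat 3, Int.negSucc 0, Int.ofNat 1, Int.ofNat 1, Int.ofNat 1, Int.ofNat 1],
  [Int.ofNat 1, Int.negSucc 0, Int.ofNat 1, Int.ofNat 1, Int.ofNat 1, Int.ofNat 1, Int.ofNat 1, Int.ofNat 1, Int.ofNat 1, Int.ofNat 1, Int.ofNat 1, Int.ofNat 1, Int.negSucc 0, Int.negSucc 0, Int.negSucc 0, Int.negSucc 0, Int.negSucc 0, Int.ofNat 1, Int.negSucc 2, Int.negSucc 0, Int.ofNat 1, Int.ofNat 1, Int.negSucc 0, Int.ofNat 1],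
  [Int.ofNat 0, Int.ofNat 2, Int.ofNat 0, Int.ofNat 0, Int.ofNat 2, Int.ofNat 0, Int.ofNat 0, Int.ofNat 0, Int.ofNat 2, Int.ofNat 0, Int.ofNat 0, Int.ofNat 2, Int.ofNat 0, Int.ofNat 0, Int.negSucc 1, Int.negSucc 1, Int.ofNat 0, Int.ofNat 0, Int.negSucc 1, Int.negSucc 1, Int.ofNat 0, Int.ofNat 0, Int.ofNat 0, Int.ofNat 0],
  [Int.ofNat 0, Int.negSucc 1, Int.ofNat 0, Int.ofNat 0, Int.ofNat 0, Int.ofNat 0, Int.ofNat 2, Int.ofNat 0, Int.ofNat 0, Int.ofNat 0, Int.ofNat 0, Int.negSucc 1, Int.ofNat 2, Int.ofNat 0, Int.ofNat 0, Int.negSucc 1, Int.ofNat 0, Int.ofNat 2, Int.ofNat 2, Int.ofNat 0, Int.ofNat 0, Int.ofNat 0, Int.negSucc 1, Int.ofNat 0],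
  [Int.negSucc 0, Int.ofNat 1, Int.negSucc 0, Int.negSucc 0, Int.ofNat 1, Int.negSucc 0, Int.ofNat 1, Int.negSucc 0, Int.negSucc 0, Int.ofNat 1, Int.ofNat 1, Int.negSucc 2, Int.ofNat 1, Int.ofNat 1, Int.negSucc 0, Int.negSucc 0, Int.ofNat 1, Int.ofNat 1, Int.ofNat 1, Int.negSucc 0, Int.ofNat 1, Int.negSucc 0, Int.negSucc 0, Int.negSucc 0],
  [Int.ofNat 1, Int.negSucc 0, Int.negSucc 0, Int.negSucc 0, Int.ofNat 1, Int.negSucc 0, Int.negSucc 0, Int.ofNat 1, Int.negSucc 0, Int.ofNat 1, Int.negSucc 0, Int.negSucc 0, Int.ofNat 1, Int.ofNat 1, Int.negSucc 2, Int.ofNat 1, Int.ofNat 1, Int.negSucc 0, Int.negSucc 0, Int.ofNat 1, Int.ofNat 1, Int.ofNat 1, Int.negSucc 0, Int.negSucc 0],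
  [Int.negSucc 1, Int.ofNat 0, Int.ofNat 0, Int.ofNat 2, Int.ofNat 0, Int.ofNat 2, Int.negSucc 1, Int.ofNat 0, Int.ofNat 0, Int.ofNat 0, Int.negSucc 1, Int.ofNat 0, Int.ofNat 2, Int.ofNat 0, Int.ofNat 0, Int.ofNat 0, Int.ofNat 0, Int.ofNat 2, Int.ofNat 0, Int.ofNat 0, Int.ofNat 0, Int.ofNat 0, Int.negSucc 1, Int.ofNat 0],
  [Int.ofNat 0, Int.ofNat 0, Int.ofNat 2, Int.ofNat 0, Int.ofNat 2, Int.negSucc 1, Int.ofNat 0, Int.ofNat 0, Int.ofNat 0, Int.negSucc 1, Int.ofNat 0, Int.ofNat 2, Int.ofNat 0, Int.ofNat 0, Int.ofNat 0, Int.ofNat 0, Int.ofNat 2, Int.ofNat 0, Int.ofNat 0, Int.ofNat 0, Int.ofNat 0, Int.negSucc 1, Int.negSucc 1, Int.ofNat 0],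
  [Int.ofNat 0, Int.ofNat 0, Int.negSucc 1, Int.ofNat 0, Int.ofNat 2, Int.negSucc 1, Int.ofNat 0, Int.ofNat 0, Int.ofNat 0, Int.ofNat 2, Int.ofNat 0, Int.negSucc 1, Int.ofNat 0, Int.ofNat 0, Int.ofNat 0, Int.ofNat 0, Int.ofNat 2, Int.ofNat 0, Int.ofNat 0, Int.ofNat 0, Int.ofNat 0, Int.ofNat 2, Int.negSucc 1, Int.ofNat 0],
  [Int.ofNat 0, Int.ofNat 0, Int.ofNat 2, Int.ofNat 0, Int.negSucc 1, Int.negSucc 1, Int.ofNat 0, Int.ofNat 0, Int.ofNat 0, Int.negSucc 1, Int.ofNat 0, Int.negSucc 1, Int.ofNat 0, Int.ofNat 0, Int.ofNat 0, Int.ofNat 0, Int.negSucc 1, Int.ofNat 0, Int.ofNat 0, Int.ofNat 0, Int.ofNat 0, Int.ofNat 2, Int.negSucc 1, Int.ofNat 0],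
  [Int.ofNat 0, Int.negSucc 1, Int.negSucc 1, Int.ofNat 0, Int.ofNat 0, Int.negSucc 1, Int.ofNat 0, Int.ofNat 0, Int.ofNat 0, Int.negSucc 1, Int.negSucc 1, Int.ofNat 2, Int.ofNat 2, Int.ofNat 0, Int.ofNat 0, Int.ofNat 0, Int.ofNat 0, Int.negSucc 1, Int.ofNat 0, Int.ofNat 0, Int.ofNat 0, Int.ofNat 0, Int.ofNat 0, Int.ofNat 0],
  [Int.ofNat 0, Int.negSucc 1, Int.ofNat 2, Int.ofNat 0, Int.ofNat 0, Int.negSucc 1, Int.ofNat 0, Int.ofNat 0, Int.ofNat 0, Int.ofNat 2, Int.ofNat 2, Int.negSucc 1, Int.ofNat 2, Int.ofNat 0, Int.ofNat 0, Int.ofNat 0, Int.ofNat 0, Int.negSucc 1, Int.ofNat 0, Int.ofNat 0, Int.ofNat 0, Int.ofNat 0, Int.ofNat 0, Int.ofNat 0],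
  [Int.ofNat 0, Int.ofNat 0, Int.negSucc 1, Int.ofNat 2, Int.ofNat 0, Int.ofNat 0, Int.negSucc 1, Int.ofNat 0, Int.ofNat 0, Int.ofNat 0, Int.ofNat 2, Int.ofNat 2, Int.negSucc 1, Int.ofNat 2, Int.ofNat 0, Int.ofNat 0, Int.ofNat 0, Int.ofNat 0, Int.negSucc 1, Int.ofNat 0, Int.ofNat 0, Int.ofNat 0, Int.ofNat 0, Int.ofNat 0],
  [Int.negSucc 0, Int.negSucc 0, Int.ofNat 1, Int.ofNat 1, Int.negSucc 0, Int.negSucc 0, Int.negSucc 0, Int.ofNat 1, Int.ofNat 1, Int.negSucc 0, Int.ofNat 1, Int.ofNat 3, Int.negSucc 0, Int.ofNat 1, Int.negSucc 0, Int.negSucc 0, Int.negSucc 0, Int.negSucc 0, Int.negSucc 0, Int.ofNat 1, Int.negSucc 0, Int.ofNat 1, Int.negSucc 0, Int.negSucc 0],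
  [Int.ofNat 1, Int.negSucc 0, Int.negSucc 0, Int.negSucc 0, Int.ofNat 1, Int.ofNat 1, Int.negSucc 0, Int.ofNat 1, Int.ofNat 3, Int.negSucc 0, Int.ofNat 1, Int.negSucc 0, Int.negSucc 0, Int.negSucc 0, Int.negSucc 0, Int.negSucc 0, Int.ofNat 1, Int.negSucc 0, Int.ofNat 1, Int.negSucc 0, Int.negSucc 0, Int.negSucc 0, Int.ofNat 1, Int.negSucc 0],
  [Int.negSucc 1, Int.ofNat 0, Int.ofNat 0, Int.ofNat 0, Int.ofNat 0, Int.ofNat 2, Int.ofNat 0, Int.ofNat 2, Int.ofNat 2, Int.ofNat 0, Int.ofNat 2, Int.negSucc 1, Int.negSucc 1, Int.negSucc 1, Int.ofNat 0, Int.ofNat 0, Int.ofNat 0, Int.ofNat 0, Int.ofNat 0, Int.ofNat 0, Int.ofNat 0, Int.ofNat 0, Int.ofNat 0, Int.ofNat 0],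
  [Int.negSucc 1, Int.ofNat 0, Int.ofNat 0, Int.ofNat 0, Int.ofNat 0, Int.ofNat 2, Int.ofNat 0, Int.ofNat 2, Int.negSucc 1, Int.negSucc 1, Int.ofNat 0, Int.ofNat 0, Int.ofNat 0, Int.ofNat 0, Int.ofNat 0, Int.ofNat 0, Int.ofNat 2, Int.ofNat 0, Int.ofNat 0, Int.negSucc 1, Int.ofNat 0, Int.ofNat 2, Int.ofNat 0, Int.ofNat 0],
  [Int.ofNat 1, Int.negSucc 0, Int.negSucc 0, Int.negSucc 0, Int.negSucc 0, Int.ofNat 1, Int.negSucc 0, Int.ofNat 1, Int.negSucc 0, Int.negSucc 0, Int.ofNat 1, Int.ofNat 1, Int.ofNat 1, Int.negSucc 0, Int.negSucc 0, Int.ofNat 1, Int.ofNat 1, Int.negSucc 0, Int.ofNat 1, Int.negSucc 2, Int.ofNat 1, Int.ofNat 1, Int.negSucc 0, Int.negSucc 0],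
  [Int.ofNat 1, Int.negSucc 0, Int.ofNat 1, Int.negSucc 0, Int.negSucc 0, Int.negSucc 0, Int.ofNat 1, Int.ofNat 1, Int.negSucc 0, Int.ofNat 1, Int.negSucc 0, Int.ofNat 1, Int.ofNat 1, Int.negSucc 0, Int.negSucc 0, Int.negSucc 0, Int.ofNat 1, Int.negSucc 0, Int.negSucc 0, Int.negSucc 2, Int.ofNat 1, Int.ofNat 1, Int.ofNat 1, Int.negSucc 0],
  [Int.ofNat 1, Int.ofNat 1, Int.negSucc 0, Int.negSucc 0, Int.negSucc 0, Int.negSucc 2, Int.negSucc 0, Int.ofNat 1, Int.ofNat 1, Int.negSucc 0, Int.negSucc 0, Int.negSucc 0, Int.ofNat 1, Int.ofNat 1, Int.negSucc 0, Int.ofNat 1, Int.ofNat 1, Int.ofNat 1, Int.negSucc 0, Int.ofNat 1, Int.ofNat 1, Int.negSucc 0, Int.negSucc 0, Int.negSucc 0],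
  [Int.ofNat 1, Int.ofNat 1, Int.ofNat 1, Int.negSucc 0, Int.negSucc 0, Int.ofNat 3, Int.ofNat 1, Int.ofNat 1, Int.ofNat 1, Int.ofNat 1, Int.ofNat 1, Int.negSucc 0, Int.ofNat 1, Int.ofNat 1, Int.negSucc 0, Int.negSucc 0, Int.ofNat 1, Int.ofNat 1, Int.ofNat 1, Int.ofNat 1, Int.ofNat 1, Int.negSucc 0, Int.ofNat 1, Int.negSucc 0],
  [Int.ofNat 0, Int.ofNat 0, Int.ofNat 0, Int.negSucc 1, Int.negSucc 1, Int.ofNat 2, Int.ofNat 0, Int.ofNat 0, Int.ofNat 0, Int.ofNat 0, Int.ofNat 0, Int.negSucc 1, Int.ofNat 0, Int.ofNat 0, Int.negSucc 1, Int.negSucc 1, Int.ofNat 0, Int.ofNat 0, Int.ofNat 0, Int.ofNat 0, Int.ofNat 0, Int.negSucc 1, Int.ofNat 0, Int.ofNat 2],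
  [Int.ofNat 0, Int.ofNat 0, Int.ofNat 0, Int.negSucc 1, Int.ofNat 0, Int.negSucc 1, Int.ofNat 0, Int.ofNat 2, Int.ofNat 0, Int.ofNat 0, Int.ofNat 0, Int.ofNat 0, Int.ofNat 0, Int.ofNat 0, Int.ofNat 0, Int.negSucc 1, Int.ofNat 0, Int.negSucc 1, Int.negSucc 1, Int.ofNat 0, Int.ofNat 0, Int.ofNat 0, Int.negSucc 1, Int.ofNat 2],
  [Int.ofNat 1, Int.ofNat 1, Int.ofNat 1, Int.ofNat 1, Int.ofNat 1, Int.ofNat 1, Int.negSucc 0, Int.ofNat 1, Int.ofNat 1, Int.ofNat 1, Int.ofNat 1, Int.ofNat 1, Int.ofNat 1, Int.ofNat 1, Int.ofNat 3, Int.negSucc 0, Int.ofNat 1, Int.ofNat 1, Int.negSucc 0, Int.negSucc 0, Int.ofNat 1, Int.negSucc 0, Int.negSucc 0, Int.negSucc 0],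
  [Int.ofNat 1, Int.negSucc 0, Int.negSucc 0, Int.ofNat 1, Int.ofNat 1, Int.ofNat 1, Int.ofNat 1, Int.ofNat 1, Int.ofNat 1, Int.negSucc 0, Int.ofNat 1, Int.ofNat 1, Int.ofNat 1, Int.ofNat 1, Int.ofNat 1, Int.ofNat 1, Int.ofNat 1, Int.ofNat 3, Int.negSucc 0, Int.ofNat 1, Int.ofNat 1, Int.negSucc 0, Int.negSucc 0, Int.negSucc 0],
  [Int.negSucc 1, Int.ofNat 0, Int.ofNat 0, Int.negSucc 1, Int.ofNat 0, Int.negSucc 1, Int.ofNat 0, Int.ofNat 0, Int.ofNat 0, Int.negSucc 1, Int.ofNat 0, Int.ofNat 0, Int.ofNat 0, Int.ofNat 0, Int.negSucc 1, Int.ofNat 0, Int.ofNat 0, Int.ofNat 0, Int.negSucc 1, Int.ofNat 0, Int.ofNat 0, Int.negSucc 1, Int.negSucc 1, Int.ofNat 0],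
  [Int.ofNat 0, Int.ofNat 0, Int.negSucc 1, Int.ofNat 0, Int.negSucc 1, Int.ofNat 0, Int.ofNat 0, Int.ofNat 0, Int.negSucc 1, Int.ofNat 0, Int.ofNat 0, Int.ofNat 0, Int.ofNat 0, Int.negSucc 1, Int.ofNat 0, Int.ofNat 0, Int.ofNat 0, Int.negSucc 1, Int.ofNat 0, Int.ofNat 0, Int.negSucc 1, Int.negSucc 1, Int.negSucc 1, Int.ofNat 0],
  [Int.ofNat 0, Int.ofNat 0, Int.ofNat 2, Int.ofNat 0, Int.negSucc 1, Int.ofNat 0, Int.ofNat 0, Int.ofNat 0, Int.negSucc 1, Int.ofNat 0, Int.ofNat 0, Int.ofNat 0, Int.ofNat 0, Int.negSucc 1, Int.ofNat 0, Int.ofNat 0, Int.ofNat 0, Int.negSucc 1, Int.ofNat 0, Int.ofNat 0, Int.negSucc 1, Int.ofNat 2, Int.negSucc 1, Int.ofNat 0],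
  [Int.ofNat 0, Int.ofNat 0, Int.negSucc 1, Int.ofNat 0, Int.ofNat 2, Int.ofNat 0, Int.ofNat 0, Int.ofNat 0, Int.ofNat 2, Int.ofNat 0, Int.ofNat 0, Int.ofNat 0, Int.ofNat 0, Int.ofNat 2, Int.ofNat 0, Int.ofNat 0, Int.ofNat 0, Int.negSucc 1, Int.ofNat 0, Int.ofNat 0, Int.negSucc 1, Int.ofNat 2, Int.negSucc 1, Int.ofNat 0],
  [Int.ofNat 0, Int.negSucc 1, Int.ofNat 0, Int.ofNat 0, Int.negSucc 1, Int.ofNat 0, Int.ofNat 0, Int.ofNat 2, Int.negSucc 1, Int.ofNat 0, Int.ofNat 0, Int.negSucc 1, Int.ofNat 2, Int.ofNat 0, Int.ofNat 0, Int.ofNat 0, Int.ofNat 0, Int.ofNat 2, Int.ofNat 0, Int.ofNat 0, Int.ofNat 2, Int.ofNat 0, Int.ofNat 0, Int.ofNat 0],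
  [Int.ofNat 0, Int.negSucc 1, Int.ofNat 0, Int.ofNat 0, Int.negSucc 1, Int.ofNat 0, Int.ofNat 0, Int.negSucc 1, Int.negSucc 1, Int.ofNat 0, Int.ofNat 0, Int.ofNat 2, Int.ofNat 2, Int.ofNat 0, Int.ofNat 0, Int.ofNat 0, Int.ofNat 0, Int.ofNat 2, Int.ofNat 0, Int.ofNat 0, Int.ofNat 2, Int.ofNat 0, Int.ofNat 0, Int.ofNat 0],
  [Int.ofNat 0, Int.ofNat 0, Int.negSucc 1, Int.ofNat 0, Int.ofNat 0, Int.negSucc 1, Int.ofNat 0, Int.ofNat 0, Int.negSucc 1, Int.negSucc 1, Int.ofNat 0, Int.ofNat 0, Int.ofNat 2, Int.ofNat 2, Int.ofNat 0, Int.ofNat 0, Int.ofNat 0, Int.ofNat 0, Int.ofNat 2, Int.ofNat 0, Int.ofNat 0, Int.ofNat 2, Int.ofNat 0, Int.ofNat 0],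
  [Int.negSucc 0, Int.negSucc 0, Int.ofNat 1, Int.ofNat 1, Int.negSucc 0, Int.negSucc 0, Int.negSucc 0, Int.negSucc 0, Int.negSucc 2, Int.negSucc 0, Int.ofNat 1, Int.negSucc 0, Int.ofNat 1, Int.ofNat 1, Int.ofNat 1, Int.ofNat 1, Int.negSucc 0, Int.ofNat 1, Int.ofNat 1, Int.negSucc 0, Int.ofNat 1, Int.ofNat 1, Int.negSucc 0, Int.negSucc 0],
  [Int.ofNat 1, Int.negSucc 0, Int.negSucc 0, Int.negSucc 0, Int.negSucc 0, Int.negSucc 2, Int.negSucc 0, Int.ofNat 1, Int.negSucc 0, Int.ofNat 1, Int.ofNat 1, Int.ofNat 1, Int.ofNat 1, Int.negSucc 0, Int.ofNat 1, Int.ofNat 1, Int.negSucc 0, Int.ofNat 1, Int.ofNat 1, Int.negSucc 0, Int.negSucc 0, Int.negSucc 0, Int.ofNat 1, Int.negSucc 0],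
  [Int.negSucc 1, Int.ofNat 0, Int.ofNat 0, Int.ofNat 0, Int.ofNat 0, Int.negSucc 1, Int.ofNat 0, Int.ofNat 2, Int.negSucc 1, Int.ofNat 0, Int.ofNat 0, Int.ofNat 0, Int.ofNat 0, Int.ofNat 0, Int.ofNat 2, Int.ofNat 0, Int.ofNat 0, Int.ofNat 2, Int.ofNat 0, Int.ofNat 0, Int.negSucc 1, Int.ofNat 0, Int.ofNat 2, Int.ofNat 0],
  [Int.negSucc 1, Int.ofNat 0, Int.ofNat 0, Int.ofNat 0, Int.ofNat 0, Int.ofNat 2, Int.ofNat 0, Int.ofNat 0, Int.ofNat 0, Int.ofNat 0, Int.negSucc 1, Int.ofNat 2, Int.ofNat 0, Int.ofNat 0, Int.ofNat 2, Int.ofNat 0, Int.negSucc 1, Int.ofNat 2, Int.ofNat 0, Int.ofNat 0, Int.ofNat 0, Int.negSucc 1, Int.ofNat 0, Int.ofNat 0],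
  [Int.ofNat 1, Int.negSucc 0, Int.negSucc 0, Int.negSucc 2, Int.ofNat 1, Int.negSucc 0, Int.ofNat 1, Int.ofNat 1, Int.negSucc 0, Int.ofNat 1, Int.negSucc 0, Int.ofNat 1, Int.negSucc 0, Int.ofNat 1, Int.negSucc 0, Int.ofNat 1, Int.negSucc 0, Int.negSucc 0, Int.negSucc 0, Int.ofNat 1, Int.ofNat 1, Int.negSucc 0, Int.ofNat 1, Int.negSucc 0],
  [Int.ofNat 1, Int.negSucc 0, Int.ofNat 1, Int.negSucc 2, Int.ofNat 1, Int.ofNat 1, Int.negSucc 0, Int.ofNat 1, Int.negSucc 0, Int.negSucc 0, Int.ofNat 1, Int.ofNat 1, Int.negSucc 0, Int.ofNat 1, Int.negSucc 0, Int.negSucc 0, Int.negSucc 0, Int.negSucc 0, Int.ofNat 1, Int.ofNat 1, Int.ofNat 1, Int.negSucc 0, Int.negSucc 0, Int.negSucc 0],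
  [Int.negSucc 0, Int.negSucc 0, Int.negSucc 0, Int.ofNat 1, Int.negSucc 0, Int.ofNat 1, Int.ofNat 1, Int.ofNat 1, Int.ofNat 1, Int.negSucc 0, Int.ofNat 1, Int.ofNat 1, Int.ofNat 1, Int.negSucc 0, Int.negSucc 0, Int.ofNat 1, Int.ofNat 1, Int.negSucc 0, Int.ofNat 1, Int.negSucc 0, Int.negSucc 0, Int.negSucc 0, Int.negSucc 2, Int.negSucc 0],
  [Int.negSucc 0, Int.negSucc 0, Int.ofNat 1, Int.ofNat 1, Int.negSucc 0, Int.negSucc 0, Int.negSucc 0, Int.ofNat 1, Int.ofNat 1, Int.ofNat 1, Int.negSucc 0, Int.ofNat 1, Int.ofNat 1, Int.negSucc 0, Int.negSucc 0, Int.negSucc 0, Int.ofNat 1, Int.negSucc 0, Int.negSucc 0, Int.negSucc 0, Int.negSucc 0, Int.negSucc 0, Int.ofNat 3, Int.negSucc 0],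
  [Int.ofNat 0, Int.ofNat 0, Int.negSucc 1, Int.ofNat 2, Int.negSucc 1, Int.ofNat 0, Int.ofNat 0, Int.ofNat 2, Int.ofNat 0, Int.ofNat 2, Int.ofNat 0, Int.ofNat 0, Int.ofNat 0, Int.negSucc 1, Int.ofNat 0, Int.ofNat 0, Int.ofNat 0, Int.ofNat 0, Int.negSucc 1, Int.ofNat 0, Int.ofNat 0, Int.ofNat 0, Int.ofNat 2, Int.ofNat 0],
  [Int.ofNat 0, Int.negSucc 1, Int.ofNat 0, Int.ofNat 2, Int.negSucc 1, Int.ofNat 0, Int.ofNat 0, Int.ofNat 0, Int.ofNat 0, Int.ofNat 0, Int.ofNat 2, Int.ofNat 0, Int.ofNat 0, Int.ofNat 2, Int.ofNat 0, Int.ofNat 0, Int.negSucc 1, Int.ofNat 0, Int.negSucc 1, Int.ofNat 2, Int.ofNat 0, Int.ofNat 0, Int.ofNat 0, Int.ofNat 0],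
  [Int.negSucc 0, Int.ofNat 1, Int.negSucc 0, Int.ofNat 1, Int.negSucc 0, Int.negSucc 0, Int.negSucc 0, Int.negSucc 0, Int.ofNat 1, Int.negSucc 0, Int.ofNat 1, Int.ofNat 1, Int.ofNat 1, Int.ofNat 3, Int.negSucc 0, Int.negSucc 0, Int.negSucc 0, Int.negSucc 0, Int.negSucc 0, Int.ofNat 1, Int.negSucc 0, Int.negSucc 0, Int.ofNat 1, Int.negSucc 0],
  [Int.negSucc 0, Int.negSucc 0, Int.ofNat 1, Int.negSucc 0, Int.ofNat 1, Int.negSucc 0, Int.ofNat 1, Int.negSucc 0, Int.negSucc 0, Int.negSucc 0, Int.negSucc 0, Int.ofNat 1, Int.negSucc 0, Int.ofNat 1, Int.ofNat 1, Int.ofNat 1, Int.ofNat 3, Int.negSucc 0, Int.negSucc 0, Int.negSucc 0, Int.negSucc 0, Int.negSucc 0, Int.ofNat 1, Int.negSucc 0],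
  [Int.ofNat 0, Int.ofNat 0, Int.negSucc 1, Int.ofNat 0, Int.negSucc 1, Int.ofNat 0, Int.ofNat 2, Int.ofNat 0, Int.ofNat 0, Int.ofNat 0, Int.ofNat 0, Int.ofNat 2, Int.ofNat 0, Int.negSucc 1, Int.ofNat 2, Int.ofNat 2, Int.ofNat 0, Int.ofNat 0, Int.ofNat 0, Int.ofNat 0, Int.ofNat 0, Int.ofNat 0, Int.negSucc 1, Int.ofNat 0],
  [Int.ofNat 0, Int.negSucc 1, Int.ofNat 0, Int.negSucc 1, Int.ofNat 0, Int.ofNat 2, Int.ofNat 0, Int.ofNat 0, Int.ofNat 0, Int.ofNat 0, Int.ofNat 2, Int.ofNat 0, Int.negSucc 1, Int.ofNat 2, Int.ofNat 2, Int.ofNat 0, Int.ofNat 0, Int.ofNat 0, Int.ofNat 0, Int.ofNat 0, Int.ofNat 0, Int.negSucc 1, Int.ofNat 0, Int.ofNat 0],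
  [Int.ofNat 0, Int.negSucc 1, Int.ofNat 0, Int.negSucc 1, Int.ofNat 0, Int.ofNat 2, Int.ofNat 0, Int.ofNat 0, Int.ofNat 0, Int.ofNat 0, Int.negSucc 1, Int.ofNat 0, Int.negSucc 1, Int.ofNat 2, Int.ofNat 2, Int.ofNat 0, Int.ofNat 0, Int.ofNat 0, Int.ofNat 0, Int.ofNat 0, Int.ofNat 0, Int.ofNat 2, Int.ofNat 0, Int.ofNat 0],
  [Int.ofNat 0, Int.ofNat 2, Int.ofNat 0, Int.ofNat 2, Int.ofNat 0, Int.ofNat 2, Int.ofNat 0, Int.ofNat 0, Int.ofNat 0, Int.ofNat 0, Int.negSucc 1, Int.ofNat 0, Int.ofNat 2, Int.negSucc 1, Int.ofNat 2, Int.ofNat 0, Int.ofNat 0, Int.ofNat 0, Int.ofNat 0, Int.ofNat 0, Int.ofNat 0, Int.ofNat 2, Int.ofNat 0, Int.ofNat 0],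
  [Int.ofNat 0, Int.ofNat 0, Int.ofNat 0, Int.ofNat 0, Int.ofNat 0, Int.ofNat 0, Int.ofNat 0, Int.negSucc 1, Int.ofNat 0, Int.ofNat 2, Int.ofNat 0, Int.ofNat 0, Int.ofNat 2, Int.ofNat 0, Int.ofNat 0, Int.ofNat 2, Int.negSucc 1, Int.ofNat 0, Int.ofNat 2, Int.ofNat 0, Int.ofNat 0, Int.ofNat 2, Int.ofNat 2, Int.ofNat 0],
  [Int.ofNat 0, Int.ofNat 0, Int.ofNat 0, Int.ofNat 0, Int.ofNat 0, Int.ofNat 0, Int.ofNat 0, Int.ofNat 2, Int.ofNat 0, Int.negSucc 1, Int.ofNat 0, Int.ofNat 0, Int.ofNat 2, Int.ofNat 0, Int.ofNat 0, Int.ofNat 2, Int.negSucc 1, Int.ofNat 0, Int.negSucc 1, Int.ofNat 0, Int.ofNat 0, Int.negSucc 1, Int.ofNat 2, Int.ofNat 0],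
  [Int.ofNat 2, Int.ofNat 0, Int.ofNat 0, Int.ofNat 0, Int.ofNat 0, Int.ofNat 0, Int.ofNat 0, Int.ofNat 0, Int.ofNat 2, Int.ofNat 0, Int.negSucc 1, Int.ofNat 0, Int.ofNat 0, Int.ofNat 2, Int.ofNat 0, Int.ofNat 0, Int.ofNat 2, Int.negSucc 1, Int.ofNat 0, Int.negSucc 1, Int.ofNat 0, Int.ofNat 0, Int.negSucc 1, Int.ofNat 0],
  [Int.negSucc 0, Int.ofNat 1, Int.ofNat 1, Int.ofNat 1, Int.negSucc 0, Int.ofNat 1, Int.ofNat 1, Int.ofNat 1, Int.ofNat 1, Int.ofNat 1, Int.negSucc 0, Int.negSucc 0, Int.negSucc 0, Int.ofNat 1, Int.ofNat 1, Int.ofNat 1, Int.ofNat 1, Int.negSucc 0, Int.negSucc 0, Int.negSucc 0, Int.ofNat 1, Int.ofNat 1, Int.negSucc 2, Int.ofNat 1],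
  [Int.ofNat 1, Int.negSucc 0, Int.ofNat 1, Int.ofNat 1, Int.ofNat 1, Int.ofNat 1, Int.ofNat 1, Int.negSucc 0, Int.negSucc 0, Int.negSucc 0, Int.ofNat 1, Int.ofNat 1, Int.ofNat 1, Int.ofNat 1, Int.negSucc 0, Int.negSucc 0, Int.negSucc 0, Int.ofNat 1, Int.ofNat 1, Int.negSucc 2, Int.negSucc 0, Int.ofNat 1, Int.ofNat 1, Int.ofNat 1],
  [Int.ofNat 0, Int.ofNat 2, Int.ofNat 0, Int.ofNat 0, Int.ofNat 0, Int.ofNat 0, Int.ofNat 2, Int.ofNat 0, Int.negSucc 1, Int.ofNat 0, Int.ofNat 2, Int.ofNat 0, Int.ofNat 0, Int.ofNat 0, Int.negSucc 1, Int.ofNat 0, Int.negSucc 1, Int.ofNat 0, Int.ofNat 0, Int.negSucc 1, Int.ofNat 0, Int.ofNat 2, Int.ofNat 0, Int.ofNat 0],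
  [Int.ofNat 0, Int.ofNat 2, Int.ofNat 0, Int.ofNat 0, Int.ofNat 0, Int.ofNat 0, Int.ofNat 0, Int.ofNat 2, Int.ofNat 0, Int.ofNat 0, Int.ofNat 0, Int.ofNat 0, Int.ofNat 0, Int.negSucc 1, Int.ofNat 0, Int.ofNat 0, Int.negSucc 1, Int.negSucc 1, Int.ofNat 2, Int.ofNat 0, Int.ofNat 2, Int.ofNat 0, Int.negSucc 1, Int.ofNat 0],
  [Int.ofNat 1, Int.negSucc 0, Int.ofNat 1, Int.ofNat 1, Int.ofNat 3, Int.ofNat 1, Int.negSucc 0, Int.ofNat 1, Int.negSucc 0, Int.negSucc 0, Int.negSucc 0, Int.negSucc 0, Int.negSucc 0, Int.ofNat 1, Int.ofNat 1, Int.negSucc 0, Int.ofNat 1, Int.negSucc 0, Int.ofNat 1, Int.negSucc 0, Int.ofNat 1, Int.negSucc 0, Int.ofNat 1, Int.ofNat 1],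
  [Int.ofNat 1, Int.negSucc 0, Int.negSucc 0, Int.ofNat 1, Int.ofNat 3, Int.negSucc 0, Int.ofNat 1, Int.ofNat 1, Int.negSucc 0, Int.ofNat 1, Int.ofNat 1, Int.negSucc 0, Int.negSucc 0, Int.ofNat 1, Int.ofNat 1, Int.ofNat 1, Int.ofNat 1, Int.negSucc 0, Int.negSucc 0, Int.negSucc 0, Int.ofNat 1, Int.negSucc 0, Int.negSucc 0, Int.ofNat 1],
  [Int.ofNat 1, Int.negSucc 0, Int.ofNat 1, Int.negSucc 0, Int.negSucc 0, Int.negSucc 0, Int.ofNat 3, Int.negSucc 0, Int.ofNat 1, Int.negSucc 0, Int.negSucc 0, Int.ofNat 1, Int.negSucc 0, Int.ofNat 1, Int.ofNat 1, Int.ofNat 1, Int.ofNat 1, Int.negSucc 0, Int.ofNat 1, Int.ofNat 1, Int.negSucc 0, Int.negSucc 0, Int.ofNat 1, Int.ofNat 1],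
  [Int.ofNat 1, Int.negSucc 0, Int.negSucc 0, Int.negSucc 0, Int.negSucc 0, Int.ofNat 1, Int.negSucc 2, Int.negSucc 0, Int.ofNat 1, Int.ofNat 1, Int.ofNat 1, Int.ofNat 1, Int.negSucc 0, Int.ofNat 1, Int.ofNat 1, Int.negSucc 0, Int.ofNat 1, Int.negSucc 0, Int.negSucc 0, Int.ofNat 1, Int.negSucc 0, Int.negSucc 0, Int.negSucc 0, Int.ofNat 1],
  [Int.negSucc 0, Int.ofNat 1, Int.ofNat 1, Int.negSucc 0, Int.negSucc 0, Int.ofNat 1, Int.negSucc 0, Int.ofNat 1, Int.ofNat 1, Int.ofNat 1, Int.ofNat 1, Int.ofNat 1, Int.negSucc 0, Int.ofNat 1, Int.ofNat 1, Int.negSucc 0, Int.ofNat 1, Int.negSucc 0, Int.negSucc 0, Int.ofNat 3, Int.negSucc 0, Int.ofNat 1, Int.negSucc 0, Int.negSucc 0],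
  [Int.negSucc 0, Int.negSucc 0, Int.negSucc 0, Int.negSucc 0, Int.ofNat 1, Int.ofNat 1, Int.ofNat 1, Int.ofNat 1, Int.ofNat 1, Int.negSucc 0, Int.ofNat 1, Int.ofNat 3, Int.ofNat 1, Int.ofNat 1, Int.negSucc 0, Int.negSucc 0, Int.ofNat 1, Int.ofNat 1, Int.negSucc 0, Int.negSucc 0, Int.ofNat 1, Int.negSucc 0, Int.ofNat 1, Int.negSucc 0],
  [Int.negSucc 0, Int.negSucc 0, Int.negSucc 0, Int.negSucc 0, Int.negSucc 0, Int.ofNat 1, Int.ofNat 1, Int.ofNat 1, Int.negSucc 0, Int.negSucc 0, Int.ofNat 1, Int.ofNat 1, Int.negSucc 0, Int.negSucc 0, Int.negSucc 0, Int.negSucc 0, Int.negSucc 0, Int.ofNat 1, Int.negSucc 2, Int.negSucc 0, Int.ofNat 1, Int.negSucc 0, Int.negSucc 0, Int.negSucc 0],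
  [Int.ofNat 1, Int.negSucc 0, Int.negSucc 0, Int.negSucc 0, Int.negSucc 0, Int.negSucc 0, Int.negSucc 0, Int.negSucc 0, Int.ofNat 1, Int.ofNat 1, Int.ofNat 1, Int.negSucc 0, Int.negSucc 0, Int.ofNat 1, Int.ofNat 1, Int.negSucc 0, Int.negSucc 0, Int.negSucc 0, Int.negSucc 0, Int.negSucc 0, Int.ofNat 1, Int.negSucc 2, Int.negSucc 0, Int.negSucc 0],
  [Int.negSucc 1, Int.ofNat 0, Int.ofNat 0, Int.ofNat 0, Int.ofNat 0, Int.ofNat 0, Int.ofNat 2, Int.ofNat 2, Int.ofNat 2, Int.ofNat 0, Int.ofNat 0, Int.ofNat 0, Int.ofNat 0, Int.ofNat 2, Int.ofNat 2, Int.negSucc 1, Int.ofNat 0, Int.ofNat 0, Int.ofNat 0, Int.ofNat 2, Int.ofNat 0, Int.ofNat 0, Int.ofNat 0, Int.ofNat 0],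
  [Int.ofNat 0, Int.ofNat 0, Int.ofNat 0, Int.ofNat 0, Int.ofNat 0, Int.ofNat 2, Int.ofNat 2, Int.ofNat 2, Int.ofNat 0, Int.ofNat 0, Int.ofNat 0, Int.ofNat 0, Int.ofNat 2, Int.ofNat 2, Int.negSucc 1, Int.ofNat 0, Int.ofNat 0, Int.ofNat 0, Int.ofNat 2, Int.ofNat 0, Int.ofNat 0, Int.ofNat 0, Int.negSucc 1, Int.ofNat 0],
  [Int.ofNat 0, Int.ofNat 0, Int.ofNat 0, Int.ofNat 0, Int.ofNat 0, Int.ofNat 2, Int.ofNat 2, Int.negSucc 1, Int.ofNat 0, Int.ofNat 0, Int.ofNat 0, Int.ofNat 0, Int.ofNat 2, Int.ofNat 2, Int.negSucc 1, Int.ofNat 0, Int.ofNat 0, Int.ofNat 0, Int.negSucc 1, Int.ofNat 0, Int.ofNat 0, Int.ofNat 0, Int.negSucc 1, Int.ofNat 0],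
  [Int.ofNat 0, Int.ofNat 0, Int.ofNat 0, Int.ofNat 0, Int.ofNat 0, Int.ofNat 2, Int.negSucc 1, Int.negSucc 1, Int.ofNat 0, Int.ofNat 0, Int.ofNat 0, Int.ofNat 0, Int.negSucc 1, Int.negSucc 1, Int.negSucc 1, Int.ofNat 0, Int.ofNat 0, Int.ofNat 0, Int.ofNat 2, Int.ofNat 0, Int.ofNat 0, Int.ofNat 0, Int.negSucc 1, Int.ofNat 0],
  [Int.ofNat 0, Int.negSucc 1, Int.ofNat 0, Int.ofNat 0, Int.ofNat 0, Int.ofNat 0, Int.ofNat 0, Int.negSucc 1, Int.ofNat 0, Int.ofNat 2, Int.ofNat 0, Int.ofNat 0, Int.ofNat 0, Int.negSucc 1, Int.ofNat 2, Int.ofNat 0, Int.ofNat 0, Int.ofNat 0, Int.negSucc 1, Int.negSucc 1, Int.ofNat 0, Int.negSucc 1, Int.ofNat 0, Int.ofNat 0],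
  [Int.ofNat 0, Int.negSucc 1, Int.ofNat 0, Int.ofNat 0, Int.ofNat 0, Int.ofNat 0, Int.ofNat 0, Int.ofNat 2, Int.ofNat 0, Int.negSucc 1, Int.ofNat 0, Int.ofNat 0, Int.ofNat 0, Int.negSucc 1, Int.ofNat 2, Int.ofNat 0, Int.ofNat 0, Int.ofNat 0, Int.ofNat 2, Int.negSucc 1, Int.ofNat 0, Int.ofNat 2, Int.ofNat 0, Int.ofNat 0],
  [Int.ofNat 0, Int.ofNat 0, Int.negSucc 1, Int.ofNat 0, Int.ofNat 0, Int.ofNat 0, Int.ofNat 0, Int.ofNat 0, Int.ofNat 2, Int.ofNat 0, Int.negSucc 1, Int.ofNat 0, Int.ofNat 0, Int.ofNat 0, Int.negSucc 1, Int.ofNat 2, Int.ofNat 0, Int.ofNat 0, Int.ofNat 0, Int.ofNat 2, Int.negSucc 1, Int.ofNat 0, Int.ofNat 2, Int.ofNat 0],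
  [Int.negSucc 0, Int.negSucc 0, Int.ofNat 1, Int.ofNat 1, Int.negSucc 0, Int.ofNat 1, Int.negSucc 0, Int.negSucc 0, Int.ofNat 1, Int.ofNat 1, Int.negSucc 0, Int.negSucc 0, Int.negSucc 0, Int.negSucc 0, Int.negSucc 0, Int.ofNat 3, Int.negSucc 0, Int.ofNat 1, Int.negSucc 0, Int.ofNat 1, Int.negSucc 0, Int.negSucc 0, Int.ofNat 1, Int.negSucc 0],
  [Int.ofNat 1, Int.negSucc 0, Int.ofNat 1, Int.negSucc 0, Int.negSucc 0, Int.ofNat 1, Int.ofNat 1, Int.negSucc 0, Int.negSucc 0, Int.negSucc 0, Int.negSucc 0, Int.negSucc 0, Int.ofNat 3, Int.negSucc 0, Int.ofNat 1, Int.negSucc 0, Int.ofNat 1, Int.negSucc 0, Int.negSucc 0, Int.ofNat 1, Int.negSucc 0, Int.negSucc 0, Int.ofNat 1, Int.negSucc 0],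
  [Int.negSucc 0, Int.ofNat 1, Int.negSucc 0, Int.negSucc 0, Int.negSucc 0, Int.ofNat 1, Int.ofNat 1, Int.negSucc 0, Int.negSucc 0, Int.ofNat 1, Int.ofNat 1, Int.negSucc 0, Int.ofNat 3, Int.negSucc 0, Int.ofNat 1, Int.ofNat 1, Int.ofNat 1, Int.negSucc 0, Int.negSucc 0, Int.ofNat 1, Int.ofNat 1, Int.negSucc 0, Int.ofNat 1, Int.ofNat 1],
  [Int.negSucc 0, Int.ofNat 1, Int.negSucc 0, Int.negSucc 0, Int.negSucc 0, Int.negSucc 0, Int.negSucc 0, Int.ofNat 1, Int.ofNat 3, Int.negSucc 0, Int.ofNat 1, Int.negSucc 0, Int.ofNat 1, Int.ofNat 1, Int.ofNat 1, Int.ofNat 1, Int.negSucc 0, Int.ofNat 1, Int.ofNat 1, Int.negSucc 0, Int.negSucc 0, Int.ofNat 1, Int.ofNat 1, Int.ofNat 1],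
  [Int.ofNat 1, Int.negSucc 0, Int.ofNat 1, Int.negSucc 0, Int.negSucc 0, Int.negSucc 0, Int.negSucc 0, Int.ofNat 1, Int.ofNat 1, Int.negSucc 0, Int.ofNat 1, Int.negSucc 2, Int.negSucc 0, Int.ofNat 1, Int.ofNat 1, Int.ofNat 1, Int.negSucc 0, Int.ofNat 1, Int.negSucc 0, Int.negSucc 0, Int.negSucc 0, Int.ofNat 1, Int.ofNat 1, Int.negSucc 0],
  [Int.ofNat 1, Int.negSucc 0, Int.negSucc 0, Int.negSucc 0, Int.negSucc 0, Int.ofNat 1, Int.ofNat 1, Int.ofNat 1, Int.ofNat 1, Int.ofNat 1, Int.negSucc 0, Int.negSucc 2, Int.negSucc 0, Int.ofNat 1, Int.ofNat 1, Int.negSucc 0, Int.negSucc 0, Int.ofNat 1, Int.ofNat 1, Int.negSucc 0, Int.negSucc 0, Int.ofNat 1, Int.negSucc 0, Int.negSucc 0],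
  [Int.ofNat 1, Int.ofNat 1, Int.ofNat 1, Int.ofNat 1, Int.negSucc 0, Int.negSucc 0, Int.negSucc 0, Int.negSucc 0, Int.ofNat 1, Int.ofNat 1, Int.ofNat 1, Int.ofNat 1, Int.negSucc 2, Int.ofNat 1, Int.negSucc 0, Int.ofNat 1, Int.negSucc 0, Int.negSucc 0, Int.negSucc 0, Int.negSucc 0, Int.negSucc 0, Int.ofNat 1, Int.negSucc 0, Int.negSucc 0],
  [Int.ofNat 1, Int.ofNat 1, Int.negSucc 0, Int.ofNat 1, Int.negSucc 0, Int.ofNat 1, Int.ofNat 1, Int.negSucc 0, Int.ofNat 1, Int.negSucc 0, Int.negSucc 0, Int.ofNat 1, Int.negSucc 2, Int.ofNat 1, Int.negSucc 0, Int.negSucc 0, Int.negSucc 0, Int.negSucc 0, Int.ofNat 1, Int.negSucc 0, Int.negSucc 0, Int.ofNat 1, Int.ofNat 1, Int.negSucc 0],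
  [Int.negSucc 0, Int.negSucc 0, Int.ofNat 1, Int.ofNat 1, Int.negSucc 0, Int.ofNat 1, Int.ofNat 1, Int.negSucc 0, Int.ofNat 1, Int.ofNat 1, Int.ofNat 1, Int.ofNat 1, Int.negSucc 2, Int.ofNat 1, Int.negSucc 0, Int.ofNat 1, Int.negSucc 0, Int.negSucc 0, Int.ofNat 1, Int.negSucc 0, Int.ofNat 1, Int.ofNat 1, Int.ofNat 1, Int.ofNat 1],
  [Int.negSucc 0, Int.ofNat 1, Int.ofNat 1, Int.ofNat 1, Int.ofNat 1, Int.ofNat 1, Int.negSucc 0, Int.ofNat 1, Int.negSucc 0, Int.negSucc 2, Int.negSucc 0, Int.negSucc 0, Int.ofNat 1, Int.ofNat 1, Int.negSucc 0, Int.ofNat 1, Int.ofNat 1, Int.ofNat 1, Int.negSucc 0, Int.ofNat 1, Int.ofNat 1, Int.ofNat 1, Int.negSucc 0, Int.ofNat 1],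
  [Int.ofNat 2, Int.ofNat 0, Int.ofNat 0, Int.ofNat 0, Int.ofNat 0, Int.ofNat 0, Int.negSucc 1, Int.ofNat 0, Int.ofNat 0, Int.negSucc 1, Int.ofNat 0, Int.ofNat 0, Int.ofNat 2, Int.ofNat 0, Int.negSucc 1, Int.ofNat 2, Int.ofNat 0, Int.ofNat 0, Int.ofNat 0, Int.ofNat 0, Int.ofNat 2, Int.ofNat 0, Int.negSucc 1, Int.ofNat 0],
  [Int.ofNat 2, Int.ofNat 0, Int.negSucc 1, Int.ofNat 2, Int.ofNat 0, Int.ofNat 0, Int.ofNat 0, Int.ofNat 0, Int.ofNat 0, Int.negSucc 1, Int.ofNat 0, Int.ofNat 0, Int.negSucc 1, Int.ofNat 0, Int.ofNat 0, Int.ofNat 2, Int.ofNat 0, Int.negSucc 1, Int.ofNat 2, Int.ofNat 0, Int.ofNat 0, Int.ofNat 0, Int.ofNat 0, Int.ofNat 0],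
  [Int.negSucc 1, Int.ofNat 0, Int.ofNat 2, Int.ofNat 2, Int.ofNat 0, Int.ofNat 0, Int.ofNat 0, Int.ofNat 0, Int.ofNat 0, Int.negSucc 1, Int.ofNat 0, Int.ofNat 0, Int.negSucc 1, Int.ofNat 0, Int.ofNat 0, Int.ofNat 2, Int.ofNat 0, Int.negSucc 1, Int.ofNat 2, Int.ofNat 0, Int.ofNat 0, Int.ofNat 0, Int.ofNat 0, Int.ofNat 0],
  [Int.ofNat 0, Int.ofNat 2, Int.ofNat 2, Int.ofNat 0, Int.ofNat 0, Int.ofNat 0, Int.ofNat 0, Int.ofNat 0, Int.negSucc 1, Int.ofNat 0, Int.ofNat 0, Int.negSucc 1, Int.ofNat 0, Int.ofNat 0, Int.ofNat 2, Int.ofNat 0, Int.negSucc 1, Int.ofNat 2, Int.ofNat 0, Int.ofNat 0, Int.ofNat 0, Int.ofNat 0, Int.negSucc 1, Int.ofNat 0],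
  [Int.ofNat 0, Int.ofNat 2, Int.negSucc 1, Int.ofNat 0, Int.ofNat 0, Int.ofNat 0, Int.ofNat 0, Int.ofNat 0, Int.negSucc 1, Int.ofNat 0, Int.ofNat 0, Int.ofNat 2, Int.ofNat 0, Int.ofNat 0, Int.ofNat 2, Int.ofNat 0, Int.negSucc 1, Int.ofNat 2, Int.ofNat 0, Int.ofNat 0, Int.ofNat 0, Int.ofNat 0, Int.negSucc 1, Int.ofNat 0],
  [Int.ofNat 0, Int.negSucc 1, Int.ofNat 2, Int.ofNat 0, Int.ofNat 0, Int.ofNat 0, Int.ofNat 0, Int.ofNat 0, Int.ofNat 2, Int.ofNat 0, Int.ofNat 0, Int.ofNat 2, Int.ofNat 0, Int.ofNat 0, Int.ofNat 2, Int.ofNat 0, Int.ofNat 2, Int.ofNat 2, Int.ofNat 0, Int.ofNat 0, Int.ofNat 0, Int.ofNat 0, Int.negSucc 1, Int.ofNat 0],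
  [Int.ofNat 0, Int.negSucc 1, Int.ofNat 2, Int.ofNat 0, Int.ofNat 2, Int.ofNat 0, Int.ofNat 0, Int.ofNat 0, Int.ofNat 0, Int.ofNat 0, Int.ofNat 2, Int.ofNat 2, Int.ofNat 0, Int.ofNat 0, Int.ofNat 0, Int.ofNat 0, Int.ofNat 0, Int.ofNat 0, Int.ofNat 2, Int.ofNat 0, Int.ofNat 2, Int.ofNat 0, Int.negSucc 1, Int.ofNat 0],
  [Int.ofNat 0, Int.negSucc 1, Int.negSucc 1, Int.ofNat 0, Int.ofNat 2, Int.ofNat 0, Int.ofNat 0, Int.ofNat 0, Int.ofNat 0, Int.ofNat 0, Int.negSucc 1, Int.negSucc 1, Int.ofNat 0, Int.ofNat 0, Int.ofNat 0, Int.ofNat 0, Int.ofNat 0, Int.ofNat 0, Int.negSucc 1, Int.ofNat 0, Int.ofNat 2, Int.ofNat 0, Int.negSucc 1, Int.ofNat 0],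
  [Int.negSucc 1, Int.ofNat 0, Int.negSucc 1, Int.negSucc 1, Int.ofNat 0, Int.ofNat 2, Int.ofNat 0, Int.ofNat 0, Int.ofNat 0, Int.ofNat 0, Int.ofNat 0, Int.negSucc 1, Int.negSucc 1, Int.ofNat 0, Int.ofNat 0, Int.ofNat 0, Int.ofNat 0, Int.ofNat 0, Int.ofNat 0, Int.negSucc 1, Int.ofNat 0, Int.ofNat 2, Int.ofNat 0, Int.ofNat 0],
  [Int.ofNat 0, Int.negSucc 1, Int.ofNat 0, Int.negSucc 1, Int.ofNat 0, Int.ofNat 2, Int.ofNat 0, Int.ofNat 0, Int.ofNat 2, Int.ofNat 0, Int.ofNat 0, Int.ofNat 0, Int.ofNat 0, Int.ofNat 0, Int.ofNat 0, Int.ofNat 0, Int.ofNat 0, Int.ofNat 0, Int.ofNat 2, Int.negSucc 1, Int.ofNat 0, Int.ofNat 2, Int.ofNat 0, Int.negSucc 1],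
  [Int.negSucc 1, Int.ofNat 0, Int.ofNat 2, Int.ofNat 0, Int.ofNat 0, Int.ofNat 2, Int.ofNat 0, Int.ofNat 0, Int.ofNat 0, Int.ofNat 0, Int.ofNat 0, Int.ofNat 0, Int.ofNat 0, Int.ofNat 0, Int.ofNat 0, Int.ofNat 2, Int.negSucc 1, Int.ofNat 0, Int.ofNat 2, Int.ofNat 0, Int.ofNat 0, Int.negSucc 1, Int.ofNat 0, Int.negSucc 1],
  [Int.ofNat 1, Int.negSucc 0, Int.negSucc 2, Int.negSucc 0, Int.ofNat 1, Int.ofNat 1, Int.ofNat 1, Int.ofNat 1, Int.negSucc 0, Int.negSucc 0, Int.negSucc 0, Int.negSucc 0, Int.negSucc 0, Int.ofNat 1, Int.negSucc 0, Int.ofNat 1, Int.negSucc 0, Int.negSucc 0, Int.ofNat 1, Int.ofNat 1, Int.negSucc 0, Int.negSucc 0, Int.ofNat 1, Int.ofNat 1],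
  [Int.ofNat 1, Int.ofNat 1, Int.ofNat 1, Int.negSucc 0, Int.ofNat 1, Int.ofNat 1, Int.negSucc 2, Int.negSucc 0, Int.negSucc 0, Int.ofNat 1, Int.negSucc 0, Int.negSucc 0, Int.negSucc 0, Int.negSucc 0, Int.ofNat 1, Int.ofNat 1, Int.negSucc 0, Int.negSucc 0, Int.negSucc 0, Int.negSucc 0, Int.negSucc 0, Int.ofNat 1, Int.ofNat 1, Int.ofNat 1],
  [Int.ofNat 1, Int.ofNat 1, Int.ofNat 1, Int.negSucc 0, Int.ofNat 1, Int.ofNat 1, Int.negSucc 0, Int.ofNat 1, Int.ofNat 1, Int.ofNat 1, Int.negSucc 0, Int.ofNat 1, Int.ofNat 1, Int.negSucc 0, Int.ofNat 1, Int.ofNat 1, Int.negSucc 0, Int.negSucc 0, Int.ofNat 1, Int.ofNat 1, Int.negSucc 0, Int.ofNat 3, Int.ofNat 1, Int.ofNat 1],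
  [Int.ofNat 1, Int.ofNat 1, Int.negSucc 0, Int.negSucc 0, Int.ofNat 1, Int.negSucc 0, Int.ofNat 1, Int.ofNat 1, Int.ofNat 1, Int.negSucc 0, Int.ofNat 1, Int.ofNat 1, Int.ofNat 1, Int.negSucc 0, Int.ofNat 1, Int.negSucc 0, Int.negSucc 0, Int.negSucc 0, Int.negSucc 0, Int.ofNat 1, Int.negSucc 0, Int.ofNat 3, Int.negSucc 0, Int.ofNat 1],
  [Int.ofNat 1, Int.ofNat 3, Int.ofNat 1, Int.negSucc 0, Int.ofNat 1, Int.ofNat 1, Int.ofNat 1, Int.negSucc 0, Int.ofNat 1, Int.ofNat 1, Int.negSucc 0, Int.negSucc 0, Int.ofNat 1, Int.negSucc 0, Int.negSucc 0, Int.ofNat 1, Int.negSucc 0, Int.negSucc 0, Int.ofNat 1, Int.negSucc 0, Int.ofNat 1, Int.negSucc 0, Int.negSucc 0, Int.ofNat 1],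
  [Int.ofNat 1, Int.ofNat 3, Int.negSucc 0, Int.negSucc 0, Int.ofNat 1, Int.negSucc 0, Int.negSucc 0, Int.negSucc 0, Int.ofNat 1, Int.negSucc 0, Int.ofNat 1, Int.negSucc 0, Int.ofNat 1, Int.negSucc 0, Int.negSucc 0, Int.negSucc 0, Int.negSucc 0, Int.negSucc 0, Int.negSucc 0, Int.negSucc 0, Int.ofNat 1, Int.negSucc 0, Int.ofNat 1, Int.ofNat 1],
  [Int.ofNat 1, Int.negSucc 0, Int.ofNat 3, Int.ofNat 1, Int.ofNat 1, Int.ofNat 1, Int.ofNat 1, Int.ofNat 1, Int.ofNat 1, Int.negSucc 0, Int.ofNat 1, Int.negSucc 0, Int.ofNat 1, Int.negSucc 0, Int.ofNat 1, Int.negSucc 0, Int.negSucc 0, Int.ofNat 1, Int.negSucc 0, Int.ofNat 1, Int.ofNat 1, Int.ofNat 1, Int.ofNat 1, Int.ofNat 1],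
  [Int.ofNat 1, Int.negSucc 0, Int.ofNat 1, Int.ofNat 1, Int.ofNat 3, Int.ofNat 1, Int.negSucc 0, Int.ofNat 1, Int.negSucc 0, Int.ofNat 1, Int.ofNat 1, Int.ofNat 1, Int.ofNat 1, Int.negSucc 0, Int.ofNat 1, Int.negSucc 0, Int.negSucc 0, Int.negSucc 0, Int.ofNat 1, Int.ofNat 1, Int.ofNat 1, Int.ofNat 1, Int.ofNat 1, Int.ofNat 1],
  [Int.ofNat 0, Int.ofNat 2, Int.ofNat 0, Int.ofNat 0, Int.ofNat 2, Int.ofNat 0, Int.negSucc 1, Int.ofNat 0, Int.negSucc 1, Int.ofNat 0, Int.ofNat 0, Int.ofNat 0, Int.ofNat 0, Int.negSucc 1, Int.ofNat 0, Int.negSucc 1, Int.negSucc 1, Int.negSucc 1, Int.ofNat 0, Int.ofNat 0, Int.ofNat 0, Int.ofNat 0, Int.ofNat 0, Int.ofNat 0],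
  [Int.ofNat 0, Int.ofNat 0, Int.ofNat 0, Int.ofNat 0, Int.ofNat 2, Int.ofNat 0, Int.ofNat 0, Int.ofNat 2, Int.ofNat 0, Int.negSucc 1, Int.ofNat 0, Int.negSucc 1, Int.ofNat 0, Int.ofNat 0, Int.ofNat 0, Int.ofNat 0, Int.negSucc 1, Int.ofNat 0, Int.negSucc 1, Int.negSucc 1, Int.negSucc 1, Int.ofNat 0, Int.ofNat 0, Int.ofNat 0],
  [Int.ofNat 0, Int.ofNat 0, Int.ofNat 0, Int.ofNat 0, Int.ofNat 2, Int.ofNat 0, Int.ofNat 0, Int.ofNat 2, Int.ofNat 2, Int.ofNat 0, Int.ofNat 2, Int.ofNat 0, Int.ofNat 2, Int.ofNat 0, Int.ofNat 0, Int.ofNat 2, Int.negSucc 1, Int.ofNat 0, Int.ofNat 0, Int.negSucc 1, Int.ofNat 0, Int.ofNat 0, Int.ofNat 0, Int.ofNat 0],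
  [Int.ofNat 0, Int.ofNat 0, Int.ofNat 0, Int.ofNat 2, Int.ofNat 0, Int.ofNat 0, Int.ofNat 2, Int.ofNat 2, Int.ofNat 0, Int.ofNat 2, Int.ofNat 0, Int.ofNat 2, Int.ofNat 0, Int.ofNat 0, Int.ofNat 2, Int.negSucc 1, Int.ofNat 0, Int.ofNat 0, Int.negSucc 1, Int.ofNat 0, Int.ofNat 0, Int.ofNat 0, Int.ofNat 0, Int.ofNat 0],
  [Int.ofNat 0, Int.ofNat 0, Int.ofNat 0, Int.ofNat 2, Int.ofNat 0, Int.ofNat 0, Int.ofNat 2, Int.negSucc 1, Int.ofNat 0, Int.negSucc 1, Int.ofNat 0, Int.negSucc 1, Int.ofNat 0, Int.ofNat 0, Int.ofNat 2, Int.negSucc 1, Int.ofNat 0, Int.ofNat 0, Int.ofNat 2, Int.ofNat 0, Int.ofNat 0, Int.ofNat 0, Int.ofNat 0, Int.ofNat 0],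
  [Int.ofNat 0, Int.ofNat 0, Int.ofNat 0, Int.negSucc 1, Int.ofNat 0, Int.ofNat 0, Int.negSucc 1, Int.negSucc 1, Int.ofNat 0, Int.ofNat 2, Int.ofNat 0, Int.negSucc 1, Int.ofNat 0, Int.ofNat 0, Int.ofNat 2, Int.negSucc 1, Int.ofNat 0, Int.ofNat 0, Int.negSucc 1, Int.ofNat 0, Int.ofNat 0, Int.ofNat 0, Int.ofNat 0, Int.ofNat 0],
  [Int.ofNat 0, Int.ofNat 0, Int.negSucc 1, Int.negSucc 1, Int.ofNat 0, Int.ofNat 2, Int.ofNat 0, Int.ofNat 0, Int.ofNat 0, Int.ofNat 0, Int.ofNat 0, Int.ofNat 0, Int.ofNat 0, Int.negSucc 1, Int.negSucc 1, Int.negSucc 1, Int.ofNat 0, Int.ofNat 0, Int.ofNat 2, Int.negSucc 1, Int.ofNat 0, Int.ofNat 0, Int.ofNat 0, Int.ofNat 0],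
  [Int.ofNat 0, Int.ofNat 0, Int.ofNat 2, Int.negSucc 1, Int.ofNat 0, Int.ofNat 2, Int.ofNat 0, Int.ofNat 0, Int.ofNat 0, Int.ofNat 0, Int.ofNat 0, Int.ofNat 0, Int.ofNat 0, Int.negSucc 1, Int.negSucc 1, Int.negSucc 1, Int.ofNat 0, Int.ofNat 0, Int.negSucc 1, Int.negSucc 1, Int.ofNat 0, Int.ofNat 0, Int.ofNat 0, Int.ofNat 0],
  [Int.ofNat 0, Int.ofNat 0, Int.ofNat 0, Int.ofNat 2, Int.negSucc 1, Int.ofNat 0, Int.ofNat 2, Int.ofNat 0, Int.ofNat 0, Int.ofNat 0, Int.ofNat 0, Int.ofNat 0, Int.ofNat 0, Int.ofNat 0, Int.negSucc 1, Int.negSucc 1, Int.negSucc 1, Int.ofNat 0, Int.ofNat 0, Int.negSucc 1, Int.negSucc 1, Int.ofNat 0, Int.ofNat 0, Int.ofNat 0],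
  [Int.ofNat 0, Int.ofNat 0, Int.ofNat 0, Int.ofNat 2, Int.ofNat 0, Int.ofNat 0, Int.ofNat 2, Int.ofNat 0, Int.ofNat 0, Int.ofNat 2, Int.ofNat 2, Int.ofNat 0, Int.ofNat 0, Int.ofNat 2, Int.negSucc 1, Int.ofNat 0, Int.ofNat 0, Int.ofNat 0, Int.ofNat 0, Int.negSucc 1, Int.ofNat 0, Int.ofNat 0, Int.ofNat 2, Int.ofNat 0],
  [Int.ofNat 2, Int.ofNat 0, Int.ofNat 0, Int.ofNat 2, Int.ofNat 0, Int.ofNat 0, Int.ofNat 2, Int.ofNat 2, Int.ofNat 0, Int.ofNat 0, Int.ofNat 2, Int.negSucc 1, Int.ofNat 0, Int.ofNat 0, Int.ofNat 0, Int.ofNat 0, Int.negSucc 1, Int.ofNat 0, Int.ofNat 0, Int.ofNat 2, Int.ofNat 0, Int.ofNat 0, Int.ofNat 0, Int.ofNat 0],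
  [Int.negSucc 0, Int.ofNat 1, Int.ofNat 1, Int.ofNat 1, Int.ofNat 1, Int.negSucc 0, Int.negSucc 0, Int.negSucc 0, Int.ofNat 1, Int.negSucc 0, Int.ofNat 1, Int.negSucc 0, Int.ofNat 1, Int.ofNat 1, Int.negSucc 0, Int.negSucc 0, Int.negSucc 0, Int.negSucc 0, Int.ofNat 1, Int.negSucc 0, Int.negSucc 0, Int.negSucc 2, Int.ofNat 1, Int.ofNat 1],
  [Int.negSucc 0, Int.negSucc 0, Int.ofNat 1, Int.ofNat 1, Int.ofNat 1, Int.negSucc 0, Int.ofNat 1, Int.ofNat 1, Int.ofNat 1, Int.ofNat 1, Int.negSucc 0, Int.negSucc 0, Int.negSucc 0, Int.negSucc 0, Int.ofNat 1, Int.negSucc 0, Int.ofNat 1, Int.negSucc 0, Int.ofNat 1, Int.negSucc 0, Int.negSucc 2, Int.negSucc 0, Int.negSucc 0, Int.ofNat 1],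
  [Int.ofNat 1, Int.ofNat 1, Int.negSucc 0, Int.ofNat 1, Int.ofNat 1, Int.negSucc 0, Int.ofNat 1, Int.ofNat 1, Int.ofNat 1, Int.ofNat 3, Int.ofNat 1, Int.negSucc 0, Int.negSucc 0, Int.negSucc 0, Int.ofNat 1, Int.ofNat 1, Int.ofNat 1, Int.negSucc 0, Int.ofNat 1, Int.negSucc 0, Int.negSucc 0, Int.negSucc 0, Int.negSucc 0, Int.negSucc 0],
  [Int.ofNat 1, Int.ofNat 1, Int.ofNat 1, Int.ofNat 1, Int.ofNat 1, Int.ofNat 1, Int.negSucc 0, Int.ofNat 1, Int.ofNat 1, Int.negSucc 2, Int.negSucc 0, Int.negSucc 0, Int.negSucc 0, Int.negSucc 0, Int.ofNat 1, Int.negSucc 0, Int.ofNat 1, Int.negSucc 0, Int.negSucc 0, Int.negSucc 0, Int.negSucc 0, Int.negSucc 0, Int.ofNat 1, Int.negSucc 0],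
  [Int.negSucc 0, Int.negSucc 0, Int.ofNat 1, Int.negSucc 0, Int.ofNat 1, Int.negSucc 0, Int.ofNat 1, Int.ofNat 1, Int.ofNat 1, Int.ofNat 1, Int.ofNat 1, Int.negSucc 0, Int.negSucc 0, Int.negSucc 2, Int.negSucc 0, Int.ofNat 1, Int.negSucc 0, Int.ofNat 1, Int.negSucc 0, Int.ofNat 1, Int.negSucc 0, Int.negSucc 0, Int.ofNat 1, Int.negSucc 0],
  [Int.negSucc 0, Int.negSucc 0, Int.negSucc 0, Int.negSucc 0, Int.ofNat 1, Int.ofNat 1, Int.negSucc 0, Int.ofNat 1, Int.ofNat 1, Int.negSucc 0, Int.negSucc 0, Int.negSucc 0, Int.negSucc 0, Int.negSucc 2, Int.negSucc 0, Int.negSucc 0, Int.negSucc 0, Int.ofNat 1, Int.ofNat 1, Int.ofNat 1, Int.negSucc 0, Int.negSucc 0, Int.negSucc 0, Int.negSucc 0],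
  [Int.negSucc 0, Int.negSucc 0, Int.negSucc 0, Int.negSucc 0, Int.ofNat 3, Int.ofNat 1, Int.negSucc 0, Int.ofNat 1, Int.ofNat 1, Int.ofNat 1, Int.ofNat 1, Int.negSucc 0, Int.negSucc 0, Int.negSucc 0, Int.negSucc 0, Int.ofNat 1, Int.ofNat 1, Int.ofNat 1, Int.ofNat 1, Int.ofNat 1, Int.ofNat 1, Int.negSucc 0, Int.ofNat 1, Int.negSucc 0],
  [Int.negSucc 0, Int.ofNat 1, Int.negSucc 0, Int.negSucc 0, Int.negSucc 0, Int.negSucc 0, Int.negSucc 0, Int.ofNat 1, Int.ofNat 1, Int.negSucc 0, Int.ofNat 1, Int.ofNat 1, Int.ofNat 1, Int.ofNat 1, Int.ofNat 1, Int.ofNat 1, Int.negSucc 0, Int.negSucc 0, Int.ofNat 3, Int.ofNat 1, Int.ofNat 1, Int.ofNat 1, Int.negSucc 0, Int.negSucc 0],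
  [Int.ofNat 0, Int.negSucc 1, Int.ofNat 0, Int.ofNat 0, Int.ofNat 0, Int.ofNat 0, Int.negSucc 1, Int.ofNat 0, Int.negSucc 1, Int.negSucc 1, Int.ofNat 0, Int.negSucc 1, Int.negSucc 1, Int.ofNat 2, Int.ofNat 2, Int.ofNat 0, Int.ofNat 0, Int.ofNat 0, Int.ofNat 0, Int.ofNat 0, Int.ofNat 0, Int.ofNat 0, Int.ofNat 0, Int.ofNat 0],
  [Int.ofNat 0, Int.ofNat 0, Int.ofNat 0, Int.ofNat 0, Int.negSucc 1, Int.ofNat 0, Int.ofNat 0, Int.ofNat 0, Int.ofNat 0, Int.negSucc 1, Int.ofNat 0, Int.negSucc 1, Int.negSucc 1, Int.ofNat 0, Int.negSucc 1, Int.negSucc 1, Int.ofNat 2, Int.ofNat 2, Int.ofNat 0, Int.ofNat 0, Int.ofNat 0, Int.ofNat 0, Int.ofNat 0, Int.ofNat 0],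
  [Int.ofNat 0, Int.ofNat 0, Int.ofNat 0, Int.ofNat 0, Int.negSucc 1, Int.ofNat 0, Int.ofNat 0, Int.ofNat 0, Int.ofNat 2, Int.ofNat 0, Int.ofNat 2, Int.ofNat 0, Int.ofNat 0, Int.ofNat 0, Int.negSucc 1, Int.ofNat 0, Int.ofNat 2, Int.ofNat 2, Int.ofNat 2, Int.ofNat 0, Int.ofNat 2, Int.ofNat 0, Int.ofNat 0, Int.ofNat 0],
  [Int.ofNat 0, Int.ofNat 0, Int.ofNat 0, Int.negSucc 1, Int.ofNat 0, Int.ofNat 0, Int.ofNat 0, Int.ofNat 2, Int.ofNat 0, Int.ofNat 2, Int.ofNat 0, Int.ofNat 0, Int.ofNat 0, Int.negSucc 1, Int.ofNat 0, Int.ofNat 2, Int.ofNat 2, Int.ofNat 2, Int.ofNat 0, Int.ofNat 2, Int.ofNat 0, Int.ofNat 0, Int.ofNat 0, Int.ofNat 0],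
  [Int.ofNat 0, Int.ofNat 0, Int.ofNat 0, Int.negSucc 1, Int.ofNat 0, Int.ofNat 0, Int.ofNat 0, Int.negSucc 1, Int.ofNat 0, Int.negSucc 1, Int.ofNat 0, Int.ofNat 0, Int.ofNat 0, Int.negSucc 1, Int.ofNat 0, Int.ofNat 2, Int.ofNat 2, Int.ofNat 2, Int.ofNat 0, Int.ofNat 2, Int.ofNat 0, Int.ofNat 0, Int.ofNat 0, Int.ofNat 0],
  [Int.ofNat 0, Int.ofNat 0, Int.ofNat 0, Int.ofNat 2, Int.ofNat 0, Int.ofNat 0, Int.ofNat 0, Int.negSucc 1, Int.ofNat 0, Int.ofNat 2, Int.ofNat 0, Int.ofNat 0, Int.ofNat 0, Int.ofNat 2, Int.ofNat 0, Int.ofNat 2, Int.negSucc 1, Int.ofNat 2, Int.ofNat 0, Int.ofNat 2, Int.ofNat 0, Int.ofNat 0, Int.ofNat 0, Int.ofNat 0],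
  [Int.ofNat 0, Int.ofNat 0, Int.ofNat 0, Int.ofNat 2, Int.ofNat 2, Int.ofNat 2, Int.ofNat 2, Int.ofNat 2, Int.ofNat 0, Int.ofNat 0, Int.negSucc 1, Int.ofNat 0, Int.ofNat 0, Int.negSucc 1, Int.ofNat 0, Int.ofNat 2, Int.ofNat 0, Int.ofNat 0, Int.ofNat 0, Int.ofNat 0, Int.ofNat 0, Int.ofNat 0, Int.ofNat 0, Int.ofNat 0],
  [Int.ofNat 0, Int.ofNat 0, Int.ofNat 0, Int.ofNat 2, Int.ofNat 2, Int.ofNat 2, Int.ofNat 2, Int.negSucc 1, Int.ofNat 0, Int.ofNat 0, Int.ofNat 2, Int.ofNat 0, Int.ofNat 0, Int.negSucc 1, Int.ofNat 0, Int.ofNat 2, Int.ofNat 0, Int.ofNat 0, Int.ofNat 0, Int.ofNat 0, Int.ofNat 0, Int.ofNat 0, Int.ofNat 0, Int.ofNat 0],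
  [Int.ofNat 0, Int.ofNat 0, Int.ofNat 0, Int.ofNat 0, Int.ofNat 2, Int.ofNat 2, Int.ofNat 2, Int.ofNat 2, Int.negSucc 1, Int.ofNat 0, Int.ofNat 0, Int.ofNat 2, Int.ofNat 0, Int.ofNat 0, Int.negSucc 1, Int.ofNat 0, Int.ofNat 2, Int.ofNat 0, Int.ofNat 0, Int.ofNat 0, Int.ofNat 0, Int.ofNat 0, Int.ofNat 0, Int.ofNat 0],
  [Int.ofNat 0, Int.ofNat 0, Int.ofNat 0, Int.ofNat 0, Int.ofNat 0, Int.ofNat 2, Int.ofNat 0, Int.ofNat 0, Int.negSucc 1, Int.ofNat 0, Int.ofNat 0, Int.ofNat 2, Int.ofNat 0, Int.negSucc 1, Int.negSucc 1, Int.ofNat 0, Int.ofNat 0, Int.ofNat 0, Int.ofNat 0, Int.negSucc 1, Int.ofNat 0, Int.negSucc 1, Int.negSucc 1, Int.ofNat 0],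
  [Int.ofNat 0, Int.ofNat 0, Int.ofNat 2, Int.ofNat 0, Int.ofNat 0, Int.negSucc 1, Int.ofNat 0, Int.ofNat 0, Int.ofNat 2, Int.ofNat 0, Int.negSucc 1, Int.negSucc 1, Int.ofNat 0, Int.ofNat 0, Int.ofNat 0, Int.ofNat 0, Int.negSucc 1, Int.ofNat 0, Int.negSucc 1, Int.negSucc 1, Int.ofNat 0, Int.ofNat 0, Int.ofNat 0, Int.ofNat 0],
  [Int.ofNat 1, Int.ofNat 1, Int.negSucc 0, Int.ofNat 1, Int.ofNat 1, Int.negSucc 0, Int.ofNat 1, Int.ofNat 1, Int.ofNat 3, Int.ofNat 1, Int.negSucc 0, Int.negSucc 0, Int.ofNat 1, Int.ofNat 1, Int.ofNat 1, Int.ofNat 1, Int.negSucc 0, Int.ofNat 1, Int.negSucc 0, Int.negSucc 0, Int.ofNat 1, Int.ofNat 1, Int.ofNat 1, Int.ofNat 1],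
  [Int.ofNat 1, Int.ofNat 1, Int.ofNat 1, Int.ofNat 1, Int.negSucc 0, Int.ofNat 1, Int.negSucc 0, Int.negSucc 0, Int.ofNat 1, Int.ofNat 1, Int.ofNat 1, Int.ofNat 1, Int.ofNat 1, Int.negSucc 0, Int.ofNat 1, Int.ofNat 1, Int.ofNat 3, Int.ofNat 1, Int.ofNat 1, Int.negSucc 0, Int.ofNat 1, Int.negSucc 0, Int.negSucc 0, Int.ofNat 1],
  [Int.ofNat 1, Int.ofNat 1, Int.ofNat 1, Int.negSucc 0, Int.negSucc 0, Int.negSucc 0, Int.ofNat 1, Int.ofNat 1, Int.negSucc 0, Int.negSucc 0, Int.negSucc 0, Int.negSucc 0, Int.negSucc 0, Int.negSucc 0, Int.negSucc 0, Int.negSucc 0, Int.ofNat 3, Int.negSucc 0, Int.negSucc 0, Int.ofNat 1, Int.negSucc 0, Int.ofNat 1, Int.negSucc 0, Int.ofNat 1],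
  [Int.ofNat 1, Int.ofNat 1, Int.negSucc 0, Int.negSucc 0, Int.negSucc 0, Int.ofNat 1, Int.negSucc 0, Int.ofNat 1, Int.negSucc 0, Int.ofNat 1, Int.ofNat 1, Int.negSucc 0, Int.negSucc 0, Int.negSucc 0, Int.negSucc 0, Int.ofNat 1, Int.ofNat 3, Int.negSucc 0, Int.ofNat 1, Int.ofNat 1, Int.negSucc 0, Int.ofNat 1, Int.ofNat 1, Int.ofNat 1],
  [Int.negSucc 0, Int.ofNat 1, Int.negSucc 0, Int.ofNat 1, Int.ofNat 1, Int.ofNat 1, Int.negSucc 0, Int.negSucc 0, Int.ofNat 1, Int.negSucc 0, Int.ofNat 1, Int.negSucc 0, Int.negSucc 0, Int.ofNat 1, Int.ofNat 1, Int.ofNat 1, Int.negSucc 0, Int.ofNat 1, Int.ofNat 1, Int.ofNat 3, Int.negSucc 0, Int.negSucc 0, Int.negSucc 0, Int.ofNat 1],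
  [Int.negSucc 0, Int.ofNat 1, Int.ofNat 1, Int.ofNat 1, Int.ofNat 1, Int.negSucc 0, Int.ofNat 1, Int.negSucc 0, Int.ofNat 1, Int.ofNat 1, Int.negSucc 0, Int.negSucc 0, Int.negSucc 0, Int.ofNat 1, Int.ofNat 1, Int.negSucc 0, Int.negSucc 0, Int.ofNat 1, Int.negSucc 0, Int.ofNat 3, Int.negSucc 0, Int.negSucc 0, Int.ofNat 1, Int.ofNat 1],
  [Int.ofNat 2, Int.ofNat 0, Int.ofNat 0, Int.ofNat 0, Int.ofNat 0, Int.negSucc 1, Int.ofNat 0, Int.negSucc 1, Int.ofNat 2, Int.ofNat 2, Int.ofNat 0, Int.ofNat 0, Int.ofNat 0, Int.ofNat 0, Int.ofNat 0, Int.ofNat 0, Int.negSucc 1, Int.ofNat 0, Int.ofNat 0, Int.ofNat 2, Int.ofNat 0, Int.negSucc 1, Int.ofNat 0, Int.ofNat 0],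
  [Int.ofNat 2, Int.ofNat 0, Int.ofNat 0, Int.ofNat 0, Int.ofNat 0, Int.negSucc 1, Int.ofNat 0, Int.negSucc 1, Int.negSucc 1, Int.ofNat 0, Int.negSucc 1, Int.ofNat 2, Int.ofNat 2, Int.ofNat 2, Int.ofNat 0, Int.ofNat 0, Int.ofNat 0, Int.ofNat 0, Int.ofNat 0, Int.ofNat 0, Int.ofNat 0, Int.ofNat 0, Int.ofNat 0, Int.ofNat 0],
  [Int.negSucc 0, Int.ofNat 1, Int.ofNat 1, Int.ofNat 1, Int.negSucc 0, Int.negSucc 0, Int.ofNat 1, Int.negSucc 0, Int.negSucc 2, Int.ofNat 1, Int.negSucc 0, Int.ofNat 1, Int.ofNat 1, Int.ofNat 1, Int.ofNat 1, Int.ofNat 1, Int.negSucc 0, Int.ofNat 1, Int.negSucc 0, Int.ofNat 1, Int.ofNat 1, Int.ofNat 1, Int.negSucc 0, Int.ofNat 1],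
  [Int.ofNat 1, Int.ofNat 1, Int.negSucc 0, Int.negSucc 0, Int.ofNat 1, Int.ofNat 1, Int.ofNat 1, Int.negSucc 0, Int.negSucc 0, Int.ofNat 1, Int.negSucc 0, Int.negSucc 2, Int.ofNat 1, Int.negSucc 0, Int.ofNat 1, Int.ofNat 1, Int.ofNat 1, Int.ofNat 1, Int.ofNat 1, Int.negSucc 0, Int.ofNat 1, Int.negSucc 0, Int.ofNat 1, Int.ofNat 1],
  [Int.ofNat 0, Int.ofNat 0, Int.ofNat 2, Int.negSucc 1, Int.ofNat 0, Int.ofNat 0, Int.ofNat 2, Int.ofNat 0, Int.ofNat 0, Int.ofNat 0, Int.negSucc 1, Int.negSucc 1, Int.ofNat 2, Int.negSucc 1, Int.ofNat 0, Int.ofNat 0, Int.ofNat 0, Int.ofNat 0, Int.ofNat 2, Int.ofNat 0, Int.ofNat 0, Int.ofNat 0, Int.ofNat 0, Int.ofNat 0],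
  [Int.ofNat 0, Int.ofNat 2, Int.negSucc 1, Int.ofNat 0, Int.ofNat 0, Int.ofNat 2, Int.ofNat 0, Int.ofNat 0, Int.ofNat 0, Int.negSucc 1, Int.negSucc 1, Int.ofNat 2, Int.negSucc 1, Int.ofNat 0, Int.ofNat 0, Int.ofNat 0, Int.ofNat 0, Int.ofNat 2, Int.ofNat 0, Int.ofNat 0, Int.ofNat 0, Int.ofNat 0, Int.ofNat 0, Int.ofNat 0],
  [Int.ofNat 0, Int.ofNat 2, Int.ofNat 2, Int.ofNat 0, Int.ofNat 0, Int.ofNat 2, Int.ofNat 0, Int.ofNat 0, Int.ofNat 0, Int.ofNat 2, Int.ofNat 2, Int.negSucc 1, Int.negSucc 1, Int.ofNat 0, Int.ofNat 0, Int.ofNat 0, Int.ofNat 0, Int.ofNat 2, Int.ofNat 0, Int.ofNat 0, Int.ofNat 0, Int.ofNat 0, Int.ofNat 0, Int.ofNat 0],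
  [Int.ofNat 0, Int.negSucc 1, Int.negSucc 1, Int.ofNat 0, Int.ofNat 0, Int.ofNat 2, Int.ofNat 0, Int.ofNat 0, Int.ofNat 0, Int.negSucc 1, Int.ofNat 2, Int.negSucc 1, Int.ofNat 2, Int.ofNat 0, Int.ofNat 0, Int.ofNat 0, Int.ofNat 0, Int.ofNat 2, Int.ofNat 0, Int.ofNat 0, Int.ofNat 0, Int.ofNat 0, Int.ofNat 0, Int.ofNat 0],
  [Int.ofNat 0, Int.ofNat 0, Int.negSucc 1, Int.ofNat 0, Int.ofNat 2, Int.negSucc 1, Int.ofNat 0, Int.ofNat 0, Int.ofNat 0, Int.ofNat 2, Int.ofNat 0, Int.negSucc 1, Int.ofNat 0, Int.ofNat 0, Int.ofNat 0, Int.ofNat 0, Int.ofNat 2, Int.ofNat 0, Int.ofNat 0, Int.ofNat 0, Int.ofNat 0, Int.ofNat 2, Int.negSucc 1, Int.ofNat 0],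
  [Int.ofNat 0, Int.ofNat 0, Int.ofNat 2, Int.ofNat 0, Int.ofNat 2, Int.negSucc 1, Int.ofNat 0, Int.ofNat 0, Int.ofNat 0, Int.negSucc 1, Int.ofNat 0, Int.ofNat 2, Int.ofNat 0, Int.ofNat 0, Int.ofNat 0, Int.ofNat 0, Int.ofNat 2, Int.ofNat 0, Int.ofNat 0, Int.ofNat 0, Int.ofNat 0, Int.negSucc 1, Int.negSucc 1, Int.ofNat 0],
  [Int.negSucc 1, Int.ofNat 0, Int.ofNat 0, Int.ofNat 2, Int.ofNat 0, Int.ofNat 2, Int.negSucc 1, Int.ofNat 0, Int.ofNat 0, Int.ofNat 0, Int.negSucc 1, Int.ofNat 0, Int.ofNat 2, Int.ofNat 0, Int.ofNat 0, Int.ofNat 0, Int.ofNat 0, Int.ofNat 2, Int.ofNat 0, Int.ofNat 0, Int.ofNat 0, Int.ofNat 0, Int.negSucc 1, Int.ofNat 0],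
  [Int.ofNat 1, Int.negSucc 0, Int.negSucc 0, Int.negSucc 0, Int.ofNat 1, Int.negSucc 0, Int.negSucc 0, Int.ofNat 1, Int.negSucc 0, Int.ofNat 1, Int.negSucc 0, Int.negSucc 0, Int.ofNat 1, Int.ofNat 1, Int.negSucc 2, Int.ofNat 1, Int.ofNat 1, Int.negSucc 0, Int.negSucc 0, Int.ofNat 1, Int.ofNat 1, Int.ofNat 1, Int.negSucc 0, Int.negSucc 0],
  [Int.negSucc 0, Int.ofNat 1, Int.negSucc 0, Int.negSucc 0, Int.ofNat 1, Int.negSucc 0, Int.ofNat 1, Int.negSucc 0, Int.negSucc 0, Int.ofNat 1, Int.ofNat 1, Int.negSucc 2, Int.ofNat 1, Int.ofNat 1, Int.negSucc 0, Int.negSucc 0, Int.ofNat 1, Int.ofNat 1, Int.ofNat 1, Int.negSucc 0, Int.ofNat 1, Int.negSucc 0, Int.negSucc 0, Int.negSucc 0],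
  [Int.ofNat 0, Int.negSucc 1, Int.ofNat 0, Int.ofNat 0, Int.ofNat 0, Int.ofNat 0, Int.ofNat 2, Int.ofNat 0, Int.ofNat 0, Int.ofNat 0, Int.ofNat 0, Int.negSucc 1, Int.ofNat 2, Int.ofNat 0, Int.ofNat 0, Int.negSucc 1, Int.ofNat 0, Int.ofNat 2, Int.ofNat 2, Int.ofNat 0, Int.ofNat 0, Int.ofNat 0, Int.negSucc 1, Int.ofNat 0],
  [Int.ofNat 0, Int.ofNat 2, Int.ofNat 0, Int.ofNat 0, Int.ofNat 2, Int.ofNat 0, Int.ofNat 0, Int.ofNat 0, Int.ofNat 2, Int.ofNat 0, Int.ofNat 0, Int.ofNat 2, Int.ofNat 0, Int.ofNat 0, Int.negSucc 1, Int.negSucc 1, Int.ofNat 0, Int.ofNat 0, Int.negSucc 1, Int.negSucc 1, Int.ofNat 0, Int.ofNat 0, Int.ofNat 0, Int.ofNat 0],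
  [Int.ofNat 1, Int.negSucc 0, Int.ofNat 1, Int.ofNat 1, Int.ofNat 1, Int.ofNat 1, Int.ofNat 1, Int.ofNat 1, Int.ofNat 1, Int.ofNat 1, Int.ofNat 1, Int.ofNat 1, Int.negSucc 0, Int.negSucc 0, Int.negSucc 0, Int.negSucc 0, Int.negSucc 0, Int.ofNat 1, Int.negSucc 2, Int.negSucc 0, Int.ofNat 1, Int.ofNat 1, Int.negSucc 0, Int.ofNat 1],
  [Int.ofNat 1, Int.negSucc 0, Int.negSucc 0, Int.ofNat 1, Int.ofNat 1, Int.negSucc 0, Int.negSucc 0, Int.ofNat 1, Int.ofNat 1, Int.negSucc 0, Int.negSucc 0, Int.ofNat 1, Int.negSucc 0, Int.negSucc 0, Int.negSucc 0, Int.ofNat 1, Int.negSucc 0, Int.ofNat 1, Int.ofNat 3, Int.negSucc 0, Int.ofNat 1, Int.ofNat 1, Int.ofNat 1, Int.ofNat 1],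
  [Int.negSucc 0, Int.ofNat 1, Int.negSucc 0, Int.ofNat 3, Int.negSucc 0, Int.negSucc 0, Int.ofNat 1, Int.negSucc 0, Int.ofNat 1, Int.ofNat 1, Int.negSucc 0, Int.negSucc 0, Int.ofNat 1, Int.negSucc 0, Int.ofNat 1, Int.ofNat 1, Int.ofNat 1, Int.ofNat 1, Int.negSucc 0, Int.negSucc 0, Int.negSucc 0, Int.ofNat 1, Int.ofNat 1, Int.ofNat 1],
  [Int.negSucc 0, Int.ofNat 1, Int.ofNat 1, Int.ofNat 3, Int.negSucc 0, Int.ofNat 1, Int.negSucc 0, Int.negSucc 0, Int.ofNat 1, Int.negSucc 0, Int.ofNat 1, Int.negSucc 0, Int.ofNat 1, Int.negSucc 0, Int.ofNat 1, Int.negSucc 0, Int.ofNat 1, Int.ofNat 1, Int.ofNat 1, Int.negSucc 0, Int.negSucc 0, Int.ofNat 1, Int.negSucc 0, Int.ofNat 1],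
  [Int.ofNat 2, Int.ofNat 0, Int.ofNat 0, Int.ofNat 0, Int.ofNat 0, Int.negSucc 1, Int.ofNat 0, Int.ofNat 0, Int.ofNat 0, Int.ofNat 0, Int.ofNat 2, Int.negSucc 1, Int.ofNat 0, Int.ofNat 0, Int.negSucc 1, Int.ofNat 0, Int.ofNat 2, Int.negSucc 1, Int.ofNat 0, Int.ofNat 0, Int.ofNat 0, Int.ofNat 2, Int.ofNat 0, Int.ofNat 0],
  [Int.ofNat 2, Int.ofNat 0, Int.ofNat 0, Int.ofNat 0, Int.ofNat 0, Int.ofNat 2, Int.ofNat 0, Int.negSucc 1, Int.ofNat 2, Int.ofNat 0, Int.ofNat 0, Int.ofNat 0, Int.ofNat 0, Int.ofNat 0, Int.negSucc 1, Int.ofNat 0, Int.ofNat 0, Int.negSucc 1, Int.ofNat 0, Int.ofNat 0, Int.ofNat 2, Int.ofNat 0, Int.negSucc 1, Int.ofNat 0],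
  [Int.negSucc 0, Int.ofNat 1, Int.ofNat 1, Int.ofNat 1, Int.ofNat 1, Int.ofNat 3, Int.ofNat 1, Int.negSucc 0, Int.ofNat 1, Int.negSucc 0, Int.negSucc 0, Int.negSucc 0, Int.negSucc 0, Int.ofNat 1, Int.negSucc 0, Int.negSucc 0, Int.ofNat 1, Int.negSucc 0, Int.negSucc 0, Int.ofNat 1, Int.ofNat 1, Int.ofNat 1, Int.negSucc 0, Int.ofNat 1],
  [Int.ofNat 1, Int.ofNat 1, Int.negSucc 0, Int.negSucc 0, Int.ofNat 1, Int.ofNat 1, Int.ofNat 1, Int.ofNat 1, Int.ofNat 3, Int.ofNat 1, Int.negSucc 0, Int.ofNat 1, Int.negSucc 0, Int.negSucc 0, Int.negSucc 0, Int.negSucc 0, Int.ofNat 1, Int.negSucc 0, Int.negSucc 0, Int.ofNat 1, Int.negSucc 0, Int.negSucc 0, Int.ofNat 1, Int.ofNat 1],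
  [Int.ofNat 0, Int.ofNat 0, Int.ofNat 2, Int.ofNat 0, Int.ofNat 0, Int.ofNat 2, Int.ofNat 0, Int.ofNat 0, Int.ofNat 2, Int.ofNat 2, Int.ofNat 0, Int.ofNat 0, Int.negSucc 1, Int.negSucc 1, Int.ofNat 0, Int.ofNat 0, Int.ofNat 0, Int.ofNat 0, Int.negSucc 1, Int.ofNat 0, Int.ofNat 0, Int.negSucc 1, Int.ofNat 0, Int.ofNat 0],
  [Int.ofNat 0, Int.ofNat 2, Int.ofNat 0, Int.ofNat 0, Int.ofNat 2, Int.ofNat 0, Int.ofNat 0, Int.ofNat 2, Int.ofNat 2, Int.ofNat 0, Int.ofNat 0, Int.negSucc 1, Int.negSucc 1, Int.ofNat 0, Int.ofNat 0, Int.ofNat 0, Int.ofNat 0, Int.negSucc 1, Int.ofNat 0, Int.ofNat 0, Int.negSucc 1, Int.ofNat 0, Int.ofNat 0, Int.ofNat 0],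
  [Int.ofNat 0, Int.ofNat 2, Int.ofNat 0, Int.ofNat 0, Int.ofNat 2, Int.ofNat 0, Int.ofNat 0, Int.negSucc 1, Int.ofNat 2, Int.ofNat 0, Int.ofNat 0, Int.ofNat 2, Int.negSucc 1, Int.ofNat 0, Int.ofNat 0, Int.ofNat 0, Int.ofNat 0, Int.negSucc 1, Int.ofNat 0, Int.ofNat 0, Int.negSucc 1, Int.ofNat 0, Int.ofNat 0, Int.ofNat 0],
  [Int.ofNat 0, Int.negSucc 1, Int.ofNat 0, Int.ofNat 0, Int.negSucc 1, Int.ofNat 0, Int.ofNat 0, Int.negSucc 1, Int.negSucc 1, Int.ofNat 0, Int.ofNat 0, Int.ofNat 2, Int.ofNat 2, Int.ofNat 0, Int.ofNat 0, Int.ofNat 0, Int.ofNat 0, Int.negSucc 1, Int.ofNat 0, Int.ofNat 0, Int.negSucc 1, Int.ofNat 0, Int.ofNat 0, Int.ofNat 0],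
  [Int.ofNat 0, Int.ofNat 0, Int.ofNat 2, Int.ofNat 0, Int.negSucc 1, Int.ofNat 0, Int.ofNat 0, Int.ofNat 0, Int.negSucc 1, Int.ofNat 0, Int.ofNat 0, Int.ofNat 0, Int.ofNat 0, Int.negSucc 1, Int.ofNat 0, Int.ofNat 0, Int.ofNat 0, Int.negSucc 1, Int.ofNat 0, Int.ofNat 0, Int.negSucc 1, Int.ofNat 2, Int.negSucc 1, Int.ofNat 0],
  [Int.ofNat 0, Int.ofNat 0, Int.negSucc 1, Int.ofNat 0, Int.negSucc 1, Int.ofNat 0, Int.ofNat 0, Int.ofNat 0, Int.negSucc 1, Int.ofNat 0, Int.ofNat 0, Int.ofNat 0, Int.ofNat 0, Int.negSucc 1, Int.ofNat 0, Int.ofNat 0, Int.ofNat 0, Int.negSucc 1, Int.ofNat 0, Int.ofNat 0, Int.negSucc 1, Int.negSucc 1, Int.negSucc 1, Int.ofNat 0],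
  [Int.negSucc 1, Int.ofNat 0, Int.ofNat 0, Int.negSucc 1, Int.ofNat 0, Int.negSucc 1, Int.ofNat 0, Int.ofNat 0, Int.ofNat 0, Int.negSucc 1, Int.ofNat 0, Int.ofNat 0, Int.ofNat 0, Int.ofNat 0, Int.negSucc 1, Int.ofNat 0, Int.ofNat 0, Int.ofNat 0, Int.negSucc 1, Int.ofNat 0, Int.ofNat 0, Int.negSucc 1, Int.negSucc 1, Int.ofNat 0],
  [Int.ofNat 1, Int.negSucc 0, Int.negSucc 0, Int.ofNat 1, Int.ofNat 1, Int.ofNat 1, Int.ofNat 1, Int.ofNat 1, Int.ofNat 1, Int.negSucc 0, Int.ofNat 1, Int.ofNat 1, Int.ofNat 1, Int.ofNat 1, Int.ofNat 1, Int.ofNat 1, Int.ofNat 1, Int.ofNat 3, Int.negSucc 0, Int.ofNat 1, Int.ofNat 1, Int.negSucc 0, Int.negSucc 0, Int.negSucc 0],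
  [Int.ofNat 1, Int.ofNat 1, Int.ofNat 1, Int.ofNat 1, Int.ofNat 1, Int.ofNat 1, Int.negSucc 0, Int.ofNat 1, Int.ofNat 1, Int.ofNat 1, Int.ofNat 1, Int.ofNat 1, Int.ofNat 1, Int.ofNat 1, Int.ofNat 3, Int.negSucc 0, Int.ofNat 1, Int.ofNat 1, Int.negSucc 0, Int.negSucc 0, Int.ofNat 1, Int.negSucc 0, Int.negSucc 0, Int.negSucc 0],
  [Int.ofNat 0, Int.ofNat 0, Int.ofNat 0, Int.negSucc 1, Int.ofNat 0, Int.negSucc 1, Int.ofNat 0, Int.ofNat 2, Int.ofNat 0, Int.ofNat 0, Int.ofNat 0, Int.ofNat 0, Int.ofNat 0, Int.ofNat 0, Int.ofNat 0, Int.negSucc 1, Int.ofNat 0, Int.negSucc 1, Int.negSucc 1, Int.ofNat 0, Int.ofNat 0, Int.ofNat 0, Int.negSucc 1, Int.ofNat 2],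
  [Int.ofNat 0, Int.ofNat 0, Int.ofNat 0, Int.negSucc 1, Int.negSucc 1, Int.ofNat 2, Int.ofNat 0, Int.ofNat 0, Int.ofNat 0, Int.ofNat 0, Int.ofNat 0, Int.negSucc 1, Int.ofNat 0, Int.ofNat 0, Int.negSucc 1, Int.negSucc 1, Int.ofNat 0, Int.ofNat 0, Int.ofNat 0, Int.ofNat 0, Int.ofNat 0, Int.negSucc 1, Int.ofNat 0, Int.ofNat 2],
  [Int.ofNat 1, Int.ofNat 1, Int.ofNat 1, Int.negSucc 0, Int.negSucc 0, Int.ofNat 3, Int.ofNat 1, Int.ofNat 1, Int.ofNat 1, Int.ofNat 1, Int.ofNat 1, Int.negSucc 0, Int.ofNat 1, Int.ofNat 1, Int.negSucc 0, Int.negSucc 0, Int.ofNat 1, Int.ofNat 1, Int.ofNat 1, Int.ofNat 1, Int.ofNat 1, Int.negSucc 0, Int.ofNat 1, Int.negSucc 0],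
  [Int.ofNat 1, Int.ofNat 1, Int.negSucc 0, Int.negSucc 0, Int.negSucc 0, Int.negSucc 2, Int.negSucc 0, Int.ofNat 1, Int.ofNat 1, Int.negSucc 0, Int.negSucc 0, Int.negSucc 0, Int.ofNat 1, Int.ofNat 1, Int.negSucc 0, Int.ofNat 1, Int.ofNat 1, Int.ofNat 1, Int.negSucc 0, Int.ofNat 1, Int.ofNat 1, Int.negSucc 0, Int.negSucc 0, Int.negSucc 0],
  [Int.negSucc 0, Int.negSucc 0, Int.negSucc 0, Int.negSucc 0, Int.ofNat 1, Int.ofNat 1, Int.negSucc 0, Int.negSucc 0, Int.ofNat 1, Int.ofNat 1, Int.negSucc 2, Int.ofNat 1, Int.negSucc 0, Int.negSucc 0, Int.ofNat 1, Int.ofNat 1, Int.ofNat 1, Int.negSucc 0, Int.negSucc 0, Int.ofNat 1, Int.ofNat 1, Int.ofNat 1, Int.negSucc 0, Int.negSucc 0],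
  [Int.negSucc 0, Int.negSucc 0, Int.ofNat 1, Int.negSucc 0, Int.ofNat 1, Int.negSucc 0, Int.ofNat 1, Int.negSucc 0, Int.ofNat 1, Int.negSucc 0, Int.ofNat 3, Int.ofNat 1, Int.negSucc 0, Int.negSucc 0, Int.ofNat 1, Int.negSucc 0, Int.ofNat 1, Int.negSucc 0, Int.ofNat 1, Int.ofNat 1, Int.ofNat 1, Int.ofNat 1, Int.ofNat 1, Int.negSucc 0],
  [Int.ofNat 0, Int.ofNat 0, Int.negSucc 1, Int.ofNat 0, Int.ofNat 0, Int.ofNat 0, Int.ofNat 0, Int.negSucc 1, Int.ofNat 0, Int.negSucc 1, Int.ofNat 2, Int.ofNat 0, Int.negSucc 1, Int.negSucc 1, Int.ofNat 2, Int.negSucc 1, Int.ofNat 0, Int.ofNat 0, Int.ofNat 0, Int.ofNat 0, Int.ofNat 0, Int.ofNat 0, Int.ofNat 0, Int.ofNat 0],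
  [Int.ofNat 0, Int.ofNat 0, Int.ofNat 0, Int.ofNat 0, Int.negSucc 1, Int.ofNat 0, Int.ofNat 0, Int.ofNat 0, Int.ofNat 0, Int.negSucc 1, Int.negSucc 1, Int.ofNat 0, Int.ofNat 0, Int.negSucc 1, Int.ofNat 0, Int.negSucc 1, Int.negSucc 1, Int.ofNat 0, Int.ofNat 0, Int.ofNat 0, Int.ofNat 2, Int.ofNat 0, Int.ofNat 2, Int.ofNat 0],
  [Int.ofNat 0, Int.ofNat 0, Int.ofNat 0, Int.ofNat 0, Int.ofNat 0, Int.ofNat 0, Int.ofNat 0, Int.ofNat 0, Int.ofNat 0, Int.ofNat 0, Int.ofNat 0, Int.ofNat 0, Int.ofNat 0, Int.ofNat 0, Int.ofNat 0, Int.ofNat 0, Int.ofNat 0, Int.ofNat 0, Int.ofNat 0, Int.ofNat 0, Int.ofNat 4, Int.ofNat 0, Int.ofNat 4, Int.ofNat 0],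
  [Int.ofNat 4, Int.ofNat 0, Int.ofNat 4, Int.ofNat 0, Int.ofNat 0, Int.ofNat 0, Int.ofNat 0, Int.ofNat 0, Int.ofNat 0, Int.ofNat 0, Int.ofNat 0, Int.ofNat 0, Int.ofNat 0, Int.ofNat 0, Int.ofNat 0, Int.ofNat 0, Int.ofNat 0, Int.ofNat 0, Int.ofNat 0, Int.ofNat 0, Int.ofNat 0, Int.ofNat 0, Int.ofNat 0, Int.ofNat 0],
  [Int.ofNat 0, Int.ofNat 4, Int.ofNat 0, Int.ofNat 0, Int.ofNat 0, Int.ofNat 0, Int.ofNat 0, Int.ofNat 0, Int.ofNat 0, Int.ofNat 0, Int.ofNat 0, Int.ofNat 0, Int.ofNat 0, Int.ofNat 0, Int.ofNat 0, Int.ofNat 0, Int.ofNat 0, Int.ofNat 0, Int.ofNat 0, Int.ofNat 0, Int.ofNat 0, Int.ofNat 0, Int.ofNat 0, Int.ofNat 4],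
  [Int.ofNat 4, Int.ofNat 0, Int.ofNat 0, Int.ofNat 0, Int.ofNat 0, Int.ofNat 0, Int.ofNat 0, Int.ofNat 0, Int.ofNat 0, Int.ofNat 0, Int.ofNat 0, Int.ofNat 0, Int.ofNat 0, Int.ofNat 0, Int.ofNat 0, Int.ofNat 0, Int.ofNat 0, Int.ofNat 0, Int.ofNat 0, Int.ofNat 0, Int.ofNat 0, Int.ofNat 0, Int.ofNat 0, Int.ofNat 4],
  [Int.negSucc 3, Int.ofNat 0, Int.ofNat 0, Int.ofNat 0, Int.ofNat 0, Int.ofNat 0, Int.ofNat 0, Int.ofNat 0, Int.ofNat 0, Int.ofNat 0, Int.ofNat 0, Int.ofNat 0, Int.ofNat 0, Int.ofNat 0, Int.ofNat 0, Int.ofNat 0, Int.ofNat 0, Int.ofNat 0, Int.ofNat 0, Int.ofNat 0, Int.ofNat 0, Int.ofNat 0, Int.ofNat 0, Int.ofNat 4],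
  [Int.ofNat 4, Int.ofNat 0, Int.ofNat 0, Int.ofNat 0, Int.ofNat 0, Int.ofNat 0, Int.ofNat 0, Int.ofNat 0, Int.ofNat 0, Int.ofNat 0, Int.ofNat 0, Int.ofNat 0, Int.ofNat 0, Int.ofNat 0, Int.ofNat 0, Int.ofNat 0, Int.ofNat 0, Int.ofNat 0, Int.ofNat 0, Int.ofNat 0, Int.ofNat 0, Int.ofNat 0, Int.ofNat 0, Int.ofNat 4],
  [Int.ofNat 4, Int.ofNat 0, Int.ofNat 0, Int.ofNat 0, Int.ofNat 0, Int.ofNat 0, Int.ofNat 0, Int.ofNat 0, Int.ofNat 0, Int.ofNat 0, Int.ofNat 0, Int.ofNat 0, Int.ofNat 0, Int.ofNat 0, Int.ofNat 0, Int.ofNat 0, Int.ofNat 0, Int.ofNat 0, Int.ofNat 0, Int.ofNat 0, Int.ofNat 0, Int.ofNat 0, Int.ofNat 0, Int.ofNat 4],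
  [Int.negSucc 3, Int.ofNat 0, Int.ofNat 0, Int.ofNat 0, Int.ofNat 0, Int.ofNat 0, Int.ofNat 0, Int.ofNat 0, Int.ofNat 0, Int.ofNat 0, Int.ofNat 0, Int.ofNat 0, Int.ofNat 0, Int.ofNat 0, Int.ofNat 0, Int.ofNat 0, Int.ofNat 0, Int.ofNat 0, Int.ofNat 0, Int.ofNat 0, Int.ofNat 0, Int.ofNat 0, Int.ofNat 0, Int.ofNat 4],
  [Int.ofNat 0, Int.negSucc 3, Int.ofNat 0, Int.ofNat 0, Int.ofNat 0, Int.ofNat 0, Int.ofNat 0, Int.ofNat 0, Int.ofNat 0, Int.ofNat 0, Int.ofNat 0, Int.ofNat 0, Int.ofNat 0, Int.ofNat 0, Int.ofNat 0, Int.ofNat 0, Int.ofNat 0, Int.ofNat 0, Int.ofNat 0, Int.ofNat 0, Int.ofNat 0, Int.ofNat 0, Int.ofNat 0, Int.ofNat 4],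
  [Int.ofNat 0, Int.ofNat 4, Int.ofNat 0, Int.ofNat 0, Int.ofNat 0, Int.ofNat 0, Int.ofNat 0, Int.ofNat 0, Int.ofNat 0, Int.ofNat 0, Int.ofNat 0, Int.ofNat 0, Int.ofNat 0, Int.ofNat 0, Int.ofNat 0, Int.ofNat 0, Int.ofNat 0, Int.ofNat 0, Int.ofNat 0, Int.ofNat 0, Int.ofNat 0, Int.ofNat 0, Int.ofNat 0, Int.negSucc 3],
  [Int.ofNat 0, Int.ofNat 0, Int.ofNat 0, Int.ofNat 0, Int.ofNat 0, Int.ofNat 0, Int.ofNat 0, Int.ofNat 0, Int.ofNat 0, Int.ofNat 0, Int.ofNat 0, Int.ofNat 0, Int.ofNat 0, Int.ofNat 0, Int.ofNat 0, Int.ofNat 0, Int.ofNat 0, Int.ofNat 0, Int.ofNat 0, Int.ofNat 0, Int.ofNat 0, Int.ofNat 4, Int.ofNat 0, Int.negSucc 3],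
  [Int.negSucc 1, Int.negSucc 1, Int.negSucc 1, Int.ofNat 0, Int.ofNat 0, Int.ofNat 0, Int.negSucc 1, Int.negSucc 1, Int.ofNat 0, Int.ofNat 0, Int.ofNat 0, Int.ofNat 0, Int.ofNat 0, Int.ofNat 0, Int.ofNat 0, Int.ofNat 0, Int.ofNat 0, Int.ofNat 0, Int.ofNat 0, Int.negSucc 1, Int.ofNat 0, Int.ofNat 2, Int.ofNat 0, Int.ofNat 2],
  [Int.negSucc 1, Int.negSucc 1, Int.ofNat 0, Int.ofNat 0, Int.ofNat 0, Int.negSucc 1, Int.negSucc 1, Int.ofNat 0, Int.ofNat 0, Int.ofNat 0, Int.ofNat 0, Int.ofNat 0, Int.ofNat 0, Int.ofNat 0, Int.ofNat 0, Int.ofNat 0, Int.ofNat 0, Int.ofNat 0, Int.negSucc 1, Int.ofNat 0, Int.ofNat 2, Int.ofNat 0, Int.negSucc 1, Int.ofNat 2],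
  [Int.ofNat 1, Int.ofNat 1, Int.negSucc 0, Int.ofNat 1, Int.ofNat 1, Int.negSucc 0, Int.negSucc 0, Int.ofNat 1, Int.ofNat 1, Int.negSucc 0, Int.negSucc 0, Int.ofNat 1, Int.ofNat 1, Int.ofNat 1, Int.ofNat 1, Int.negSucc 0, Int.ofNat 1, Int.ofNat 1, Int.negSucc 0, Int.ofNat 1, Int.ofNat 1, Int.ofNat 1, Int.negSucc 0, Int.negSucc 2],
  [Int.ofNat 1, Int.ofNat 1, Int.ofNat 1, Int.ofNat 1, Int.ofNat 1, Int.ofNat 1, Int.ofNat 1, Int.ofNat 1, Int.ofNat 1, Int.ofNat 1, Int.ofNat 1, Int.ofNat 1, Int.ofNat 1, Int.ofNat 1, Int.ofNat 1, Int.ofNat 1, Int.ofNat 1, Int.ofNat 1, Int.ofNat 1, Int.ofNat 1, Int.ofNat 1, Int.ofNat 1, Int.ofNat 1, Int.negSucc 2],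
  [Int.ofNat 1, Int.ofNat 1, Int.ofNat 1, Int.ofNat 1, Int.ofNat 1, Int.ofNat 1, Int.ofNat 1, Int.ofNat 1, Int.ofNat 1, Int.ofNat 1, Int.ofNat 1, Int.ofNat 1, Int.ofNat 1, Int.ofNat 1, Int.ofNat 1, Int.ofNat 1, Int.ofNat 1, Int.ofNat 1, Int.ofNat 1, Int.ofNat 1, Int.ofNat 1, Int.ofNat 1, Int.ofNat 1, Int.negSucc 2],
  [Int.ofNat 1, Int.ofNat 1, Int.negSucc 0, Int.ofNat 1, Int.ofNat 1, Int.negSucc 0, Int.negSucc 0, Int.ofNat 1, Int.ofNat 1, Int.negSucc 0, Int.negSucc 0, Int.ofNat 1, Int.ofNat 1, Int.ofNat 1, Int.ofNat 1, Int.negSucc 0, Int.ofNat 1, Int.ofNat 1, Int.negSucc 0, Int.ofNat 1, Int.ofNat 1, Int.ofNat 1, Int.negSucc 0, Int.negSucc 2],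
  [Int.negSucc 1, Int.negSucc 1, Int.ofNat 0, Int.ofNat 0, Int.ofNat 0, Int.negSucc 1, Int.negSucc 1, Int.ofNat 0, Int.ofNat 0, Int.ofNat 0, Int.ofNat 0, Int.ofNat 0, Int.ofNat 0, Int.ofNat 0, Int.ofNat 0, Int.ofNat 0, Int.ofNat 0, Int.ofNat 0, Int.negSucc 1, Int.ofNat 0, Int.ofNat 2, Int.ofNat 0, Int.negSucc 1, Int.ofNat 2],
  [Int.negSucc 1, Int.negSucc 1, Int.negSucc 1, Int.ofNat 0, Int.ofNat 0, Int.ofNat 0, Int.negSucc 1, Int.negSucc 1, Int.ofNat 0, Int.ofNat 0, Int.ofNat 0, Int.ofNat 0, Int.ofNat 0, Int.ofNat 0, Int.ofNat 0, Int.ofNat 0, Int.ofNat 0, Int.ofNat 0, Int.ofNat 0, Int.negSucc 1, Int.ofNat 0, Int.ofNat 2, Int.ofNat 0, Int.ofNat 2],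
  [Int.ofNat 0, Int.ofNat 0, Int.ofNat 0, Int.ofNat 0, Int.ofNat 0, Int.ofNat 0, Int.ofNat 0, Int.ofNat 0, Int.ofNat 0, Int.ofNat 0, Int.ofNat 0, Int.ofNat 0, Int.ofNat 0, Int.ofNat 0, Int.ofNat 0, Int.ofNat 0, Int.ofNat 0, Int.ofNat 0, Int.ofNat 0, Int.ofNat 0, Int.ofNat 0, Int.ofNat 4, Int.ofNat 0, Int.negSucc 3],
  [Int.ofNat 0, Int.ofNat 4, Int.ofNat 0, Int.ofNat 0, Int.ofNat 0, Int.ofNat 0, Int.ofNat 0, Int.ofNat 0, Int.ofNat 0, Int.ofNat 0, Int.ofNat 0, Int.ofNat 0, Int.ofNat 0, Int.ofNat 0, Int.ofNat 0, Int.ofNat 0, Int.ofNat 0, Int.ofNat 0, Int.ofNat 0, Int.ofNat 0, Int.ofNat 0, Int.ofNat 0, Int.ofNat 0, Int.negSucc 3],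
  [Int.ofNat 0, Int.negSucc 3, Int.ofNat 0, Int.ofNat 0, Int.ofNat 0, Int.ofNat 0, Int.ofNat 0, Int.ofNat 0, Int.ofNat 0, Int.ofNat 0, Int.ofNat 0, Int.ofNat 0, Int.ofNat 0, Int.ofNat 0, Int.ofNat 0, Int.ofNat 0, Int.ofNat 0, Int.ofNat 0, Int.ofNat 0, Int.ofNat 0, Int.ofNat 0, Int.ofNat 0, Int.ofNat 0, Int.ofNat 4],
  [Int.negSucc 3, Int.ofNat 0, Int.ofNat 0, Int.ofNat 0, Int.ofNat 0, Int.ofNat 0, Int.ofNat 0, Int.ofNat 0, Int.ofNat 0, Int.ofNat 0, Int.ofNat 0, Int.ofNat 0, Int.ofNat 0, Int.ofNat 0, Int.ofNat 0, Int.ofNat 0, Int.ofNat 0, Int.ofNat 0, Int.ofNat 0, Int.ofNat 0, Int.ofNat 0, Int.ofNat 0, Int.ofNat 0, Int.ofNat 4],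
  [Int.ofNat 4, Int.ofNat 0, Int.ofNat 0, Int.ofNat 0, Int.ofNat 0, Int.ofNat 0, Int.ofNat 0, Int.ofNat 0, Int.ofNat 0, Int.ofNat 0, Int.ofNat 0, Int.ofNat 0, Int.ofNat 0, Int.ofNat 0, Int.ofNat 0, Int.ofNat 0, Int.ofNat 0, Int.ofNat 0, Int.ofNat 0, Int.ofNat 0, Int.ofNat 0, Int.ofNat 0, Int.ofNat 0, Int.ofNat 4],
  [Int.negSucc 3, Int.ofNat 0, Int.ofNat 0, Int.ofNat 0, Int.ofNat 0, Int.ofNat 0, Int.ofNat 0, Int.ofNat 0, Int.ofNat 0, Int.ofNat 0, Int.ofNat 0, Int.ofNat 0, Int.ofNat 0, Int.ofNat 0, Int.ofNat 0, Int.ofNat 0, Int.ofNat 0, Int.ofNat 0, Int.ofNat 0, Int.ofNat 0, Int.ofNat 0, Int.ofNat 0, Int.ofNat 0, Int.ofNat 4],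
  [Int.ofNat 4, Int.ofNat 0, Int.ofNat 0, Int.ofNat 0, Int.ofNat 0, Int.ofNat 0, Int.ofNat 0, Int.ofNat 0, Int.ofNat 0, Int.ofNat 0, Int.ofNat 0, Int.ofNat 0, Int.ofNat 0, Int.ofNat 0, Int.ofNat 0, Int.ofNat 0, Int.ofNat 0, Int.ofNat 0, Int.ofNat 0, Int.ofNat 0, Int.ofNat 0, Int.ofNat 0, Int.ofNat 0, Int.negSucc 3],
  [Int.negSucc 3, Int.ofNat 0, Int.ofNat 0, Int.ofNat 0, Int.ofNat 0, Int.ofNat 0, Int.ofNat 0, Int.ofNat 0, Int.ofNat 0, Int.ofNat 0, Int.ofNat 0, Int.ofNat 0, Int.ofNat 0, Int.ofNat 0, Int.ofNat 0, Int.ofNat 0, Int.ofNat 0, Int.ofNat 0, Int.ofNat 0, Int.ofNat 0, Int.ofNat 0, Int.ofNat 0, Int.ofNat 0, Int.negSucc 3],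
  [Int.ofNat 0, Int.negSucc 3, Int.ofNat 0, Int.ofNat 0, Int.ofNat 0, Int.ofNat 0, Int.ofNat 0, Int.ofNat 0, Int.ofNat 0, Int.ofNat 0, Int.ofNat 0, Int.ofNat 0, Int.ofNat 0, Int.ofNat 0, Int.ofNat 0, Int.ofNat 0, Int.ofNat 0, Int.ofNat 0, Int.ofNat 0, Int.ofNat 0, Int.ofNat 0, Int.ofNat 0, Int.ofNat 0, Int.negSucc 3],
  [Int.negSucc 3, Int.ofNat 0, Int.negSucc 3, Int.ofNat 0, Int.ofNat 0, Int.ofNat 0, Int.ofNat 0, Int.ofNat 0, Int.ofNat 0, Int.ofNat 0, Int.ofNat 0, Int.ofNat 0, Int.ofNat 0, Int.ofNat 0, Int.ofNat 0, Int.ofNat 0, Int.ofNat 0, Int.ofNat 0, Int.ofNat 0, Int.ofNat 0, Int.ofNat 0, Int.ofNat 0, Int.ofNat 0, Int.ofNat 0],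
  [Int.ofNat 0, Int.ofNat 0, Int.ofNat 0, Int.ofNat 0, Int.ofNat 0, Int.ofNat 0, Int.ofNat 0, Int.ofNat 0, Int.ofNat 0, Int.ofNat 0, Int.ofNat 0, Int.ofNat 0, Int.ofNat 0, Int.ofNat 0, Int.ofNat 0, Int.ofNat 0, Int.ofNat 0, Int.ofNat 0, Int.ofNat 0, Int.ofNat 0, Int.negSucc 3, Int.ofNat 0, Int.negSucc 3, Int.ofNat 0],
  [Int.ofNat 0, Int.ofNat 0, Int.ofNat 0, Int.ofNat 0, Int.ofNat 2, Int.ofNat 0, Int.ofNat 0, Int.ofNat 0, Int.ofNat 0, Int.ofNat 2, Int.ofNat 2, Int.ofNat 0, Int.ofNat 0, Int.ofNat 2, Int.ofNat 0, Int.ofNat 2, Int.ofNat 2, Int.ofNat 0, Int.ofNat 0, Int.ofNat 0, Int.negSucc 1, Int.ofNat 0, Int.negSucc 1, Int.ofNat 0],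
  [Int.ofNat 0, Int.ofNat 0, Int.ofNat 2, Int.ofNat 0, Int.ofNat 0, Int.ofNat 0, Int.ofNat 0, Int.ofNat 2, Int.ofNat 0, Int.ofNat 2, Int.negSucc 1, Int.ofNat 0, Int.ofNat 2, Int.ofNat 2, Int.negSucc 1, Int.ofNat 2, Int.ofNat 0, Int.ofNat 0, Int.ofNat 0, Int.ofNat 0, Int.ofNat 0, Int.ofNat 0, Int.ofNat 0, Int.ofNat 0],
  [Int.ofNat 1, Int.ofNat 1, Int.negSucc 0, Int.ofNat 1, Int.negSucc 0, Int.ofNat 1, Int.negSucc 0, Int.ofNat 1, Int.negSucc 0, Int.ofNat 1, Int.negSucc 2, Int.negSucc 0, Int.ofNat 1, Int.ofNat 1, Int.negSucc 0, Int.ofNat 1, Int.negSucc 0, Int.ofNat 1, Int.negSucc 0, Int.negSucc 0, Int.negSucc 0, Int.negSucc 0, Int.negSucc 0, Int.ofNat 1],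
  [Int.ofNat 1, Int.ofNat 1, Int.ofNat 1, Int.ofNat 1, Int.negSucc 0, Int.negSucc 0, Int.ofNat 1, Int.ofNat 1, Int.negSucc 0, Int.negSucc 0, Int.ofNat 3, Int.negSucc 0, Int.ofNat 1, Int.ofNat 1, Int.negSucc 0, Int.negSucc 0, Int.negSucc 0, Int.ofNat 1, Int.ofNat 1, Int.negSucc 0, Int.negSucc 0, Int.negSucc 0, Int.ofNat 1, Int.ofNat 1],
  [Int.ofNat 1, Int.negSucc 0, Int.negSucc 0, Int.ofNat 1, Int.ofNat 1, Int.negSucc 0, Int.negSucc 0, Int.ofNat 1, Int.ofNat 1, Int.negSucc 0, Int.negSucc 0, Int.ofNat 1, Int.negSucc 0, Int.negSucc 0, Int.negSucc 0, Int.ofNat 1, Int.negSucc 0, Int.ofNat 1, Int.ofNat 3, Int.negSucc 0, Int.ofNat 1, Int.ofNat 1, Int.ofNat 1, Int.ofNat 1],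
  [Int.ofNat 1, Int.negSucc 0, Int.ofNat 1, Int.ofNat 1, Int.ofNat 1, Int.ofNat 1, Int.ofNat 1, Int.ofNat 1, Int.ofNat 1, Int.ofNat 1, Int.ofNat 1, Int.ofNat 1, Int.negSucc 0, Int.negSucc 0, Int.negSucc 0, Int.negSucc 0, Int.negSucc 0, Int.ofNat 1, Int.negSucc 2, Int.negSucc 0, Int.ofNat 1, Int.ofNat 1, Int.negSucc 0, Int.ofNat 1],
  [Int.ofNat 0, Int.ofNat 2, Int.ofNat 0, Int.ofNat 0, Int.ofNat 2, Int.ofNat 0, Int.ofNat 0, Int.ofNat 0, Int.ofNat 2, Int.ofNat 0, Int.ofNat 0, Int.ofNat 2, Int.ofNat 0, Int.ofNat 0, Int.negSucc 1, Int.negSucc 1, Int.ofNat 0, Int.ofNat 0, Int.negSucc 1, Int.negSucc 1, Int.ofNat 0, Int.ofNat 0, Int.ofNat 0, Int.ofNat 0],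
  [Int.ofNat 0, Int.negSucc 1, Int.ofNat 0, Int.ofNat 0, Int.ofNat 0, Int.ofNat 0, Int.ofNat 2, Int.ofNat 0, Int.ofNat 0, Int.ofNat 0, Int.ofNat 0, Int.negSucc 1, Int.ofNat 2, Int.ofNat 0, Int.ofNat 0, Int.negSucc 1, Int.ofNat 0, Int.ofNat 2, Int.ofNat 2, Int.ofNat 0, Int.ofNat 0, Int.ofNat 0, Int.negSucc 1, Int.ofNat 0],
  [Int.negSucc 0, Int.ofNat 1, Int.negSucc 0, Int.negSucc 0, Int.ofNat 1, Int.negSucc 0, Int.ofNat 1, Int.negSucc 0, Int.negSucc 0, Int.ofNat 1, Int.ofNat 1, Int.negSucc 2, Int.ofNat 1, Int.ofNat 1, Int.negSucc 0, Int.negSucc 0, Int.ofNat 1, Int.ofNat 1, Int.ofNat 1, Int.negSucc 0, Int.ofNat 1, Int.negSucc 0, Int.negSucc 0, Int.negSucc 0],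
  [Int.ofNat 1, Int.negSucc 0, Int.negSucc 0, Int.negSucc 0, Int.ofNat 1, Int.negSucc 0, Int.negSucc 0, Int.ofNat 1, Int.negSucc 0, Int.ofNat 1, Int.negSucc 0, Int.negSucc 0, Int.ofNat 1, Int.ofNat 1, Int.negSucc 2, Int.ofNat 1, Int.ofNat 1, Int.negSucc 0, Int.negSucc 0, Int.ofNat 1, Int.ofNat 1, Int.ofNat 1, Int.negSucc 0, Int.negSucc 0],
  [Int.negSucc 1, Int.ofNat 0, Int.ofNat 0, Int.ofNat 2, Int.ofNat 0, Int.ofNat 2, Int.negSucc 1, Int.ofNat 0, Int.ofNat 0, Int.ofNat 0, Int.negSucc 1, Int.ofNat 0, Int.ofNat 2, Int.ofNat 0, Int.ofNat 0, Int.ofNat 0, Int.ofNat 0, Int.ofNat 2, Int.ofNat 0, Int.ofNat 0, Int.ofNat 0, Int.ofNat 0, Int.negSucc 1, Int.ofNat 0],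
  [Int.ofNat 0, Int.ofNat 0, Int.ofNat 2, Int.ofNat 0, Int.ofNat 2, Int.negSucc 1, Int.ofNat 0, Int.ofNat 0, Int.ofNat 0, Int.negSucc 1, Int.ofNat 0, Int.ofNat 2, Int.ofNat 0, Int.ofNat 0, Int.ofNat 0, Int.ofNat 0, Int.ofNat 2, Int.ofNat 0, Int.ofNat 0, Int.ofNat 0, Int.ofNat 0, Int.negSucc 1, Int.negSucc 1, Int.ofNat 0],
  [Int.ofNat 0, Int.ofNat 0, Int.negSucc 1, Int.ofNat 0, Int.ofNat 2, Int.negSucc 1, Int.ofNat 0, Int.ofNat 0, Int.ofNat 0, Int.ofNat 2, Int.ofNat 0, Int.negSucc 1, Int.ofNat 0, Int.ofNat 0, Int.ofNat 0, Int.ofNat 0, Int.ofNat 2, Int.ofNat 0, Int.ofNat 0, Int.ofNat 0, Int.ofNat 0, Int.ofNat 2, Int.negSucc 1, Int.ofNat 0],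
  [Int.ofNat 0, Int.ofNat 0, Int.ofNat 2, Int.ofNat 0, Int.negSucc 1, Int.negSucc 1, Int.ofNat 0, Int.ofNat 0, Int.ofNat 0, Int.negSucc 1, Int.ofNat 0, Int.negSucc 1, Int.ofNat 0, Int.ofNat 0, Int.ofNat 0, Int.ofNat 0, Int.negSucc 1, Int.ofNat 0, Int.ofNat 0, Int.ofNat 0, Int.ofNat 0, Int.ofNat 2, Int.negSucc 1, Int.ofNat 0],
  [Int.ofNat 0, Int.negSucc 1, Int.negSucc 1, Int.ofNat 0, Int.ofNat 0, Int.negSucc 1, Int.ofNat 0, Int.ofNat 0, Int.ofNat 0, Int.negSucc 1, Int.negSucc 1, Int.ofNat 2, Int.ofNat 2, Int.ofNat 0, Int.ofNat 0, Int.ofNat 0, Int.ofNat 0, Int.negSucc 1, Int.ofNat 0, Int.ofNat 0, Int.ofNat 0, Int.ofNat 0, Int.ofNat 0, Int.ofNat 0],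
  [Int.ofNat 0, Int.negSucc 1, Int.ofNat 2, Int.ofNat 0, Int.ofNat 0, Int.negSucc 1, Int.ofNat 0, Int.ofNat 0, Int.ofNat 0, Int.ofNat 2, Int.ofNat 2, Int.negSucc 1, Int.ofNat 2, Int.ofNat 0, Int.ofNat 0, Int.ofNat 0, Int.ofNat 0, Int.negSucc 1, Int.ofNat 0, Int.ofNat 0, Int.ofNat 0, Int.ofNat 0, Int.ofNat 0, Int.ofNat 0],
  [Int.ofNat 0, Int.ofNat 0, Int.negSucc 1, Int.ofNat 2, Int.ofNat 0, Int.ofNat 0, Int.negSucc 1, Int.ofNat 0, Int.ofNat 0, Int.ofNat 0, Int.ofNat 2, Int.ofNat 2, Int.negSucc 1, Int.ofNat 2, Int.ofNat 0, Int.ofNat 0, Int.ofNat 0, Int.ofNat 0, Int.negSucc 1, Int.ofNat 0, Int.ofNat 0, Int.ofNat 0, Int.ofNat 0, Int.ofNat 0],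
  [Int.negSucc 0, Int.negSucc 0, Int.ofNat 1, Int.ofNat 1, Int.negSucc 0, Int.negSucc 0, Int.negSucc 0, Int.ofNat 1, Int.ofNat 1, Int.negSucc 0, Int.ofNat 1, Int.ofNat 3, Int.negSucc 0, Int.ofNat 1, Int.negSucc 0, Int.negSucc 0, Int.negSucc 0, Int.negSucc 0, Int.negSucc 0, Int.ofNat 1, Int.negSucc 0, Int.ofNat 1, Int.negSucc 0, Int.negSucc 0],
  [Int.ofNat 1, Int.negSucc 0, Int.negSucc 0, Int.negSucc 0, Int.ofNat 1, Int.ofNat 1, Int.negSucc 0, Int.ofNat 1, Int.ofNat 3, Int.negSucc 0, Int.ofNat 1, Int.negSucc 0, Int.negSucc 0, Int.negSucc 0, Int.negSucc 0, Int.negSucc 0, Int.ofNat 1, Int.negSucc 0, Int.ofNat 1, Int.negSucc 0, Int.negSucc 0, Int.negSucc 0, Int.ofNat 1, Int.negSucc 0],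
  [Int.negSucc 1, Int.ofNat 0, Int.ofNat 0, Int.ofNat 0, Int.ofNat 0, Int.ofNat 2, Int.ofNat 0, Int.ofNat 2, Int.ofNat 2, Int.ofNat 0, Int.ofNat 2, Int.negSucc 1, Int.negSucc 1, Int.negSucc 1, Int.ofNat 0, Int.ofNat 0, Int.ofNat 0, Int.ofNat 0, Int.ofNat 0, Int.ofNat 0, Int.ofNat 0, Int.ofNat 0, Int.ofNat 0, Int.ofNat 0],
  [Int.negSucc 1, Int.ofNat 0, Int.ofNat 0, Int.ofNat 0, Int.ofNat 0, Int.ofNat 2, Int.ofNat 0, Int.ofNat 2, Int.negSucc 1, Int.negSucc 1, Int.ofNat 0, Int.ofNat 0, Int.ofNat 0, Int.ofNat 0, Int.ofNat 0, Int.ofNat 0, Int.ofNat 2, Int.ofNat 0, Int.ofNat 0, Int.negSucc 1, Int.ofNat 0, Int.ofNat 2, Int.ofNat 0, Int.ofNat 0],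
  [Int.ofNat 1, Int.negSucc 0, Int.negSucc 0, Int.negSucc 0, Int.negSucc 0, Int.ofNat 1, Int.negSucc 0, Int.ofNat 1, Int.negSucc 0, Int.negSucc 0, Int.ofNat 1, Int.ofNat 1, Int.ofNat 1, Int.negSucc 0, Int.negSucc 0, Int.ofNat 1, Int.ofNat 1, Int.negSucc 0, Int.ofNat 1, Int.negSucc 2, Int.ofNat 1, Int.ofNat 1, Int.negSucc 0, Int.negSucc 0],
  [Int.ofNat 1, Int.negSucc 0, Int.ofNat 1, Int.negSucc 0, Int.negSucc 0, Int.negSucc 0, Int.ofNat 1, Int.ofNat 1, Int.negSucc 0, Int.ofNat 1, Int.negSucc 0, Int.ofNat 1, Int.ofNat 1, Int.negSucc 0, Int.negSucc 0, Int.negSucc 0, Int.ofNat 1, Int.negSucc 0, Int.negSucc 0, Int.negSucc 2, Int.ofNat 1, Int.ofNat 1, Int.ofNat 1, Int.negSucc 0],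
  [Int.ofNat 1, Int.ofNat 1, Int.negSucc 0, Int.negSucc 0, Int.negSucc 0, Int.negSucc 2, Int.negSucc 0, Int.ofNat 1, Int.ofNat 1, Int.negSucc 0, Int.negSucc 0, Int.negSucc 0, Int.ofNat 1, Int.ofNat 1, Int.negSucc 0, Int.ofNat 1, Int.ofNat 1, Int.ofNat 1, Int.negSucc 0, Int.ofNat 1, Int.ofNat 1, Int.negSucc 0, Int.negSucc 0, Int.negSucc 0],
  [Int.ofNat 1, Int.ofNat 1, Int.ofNat 1, Int.negSucc 0, Int.negSucc 0, Int.ofNat 3, Int.ofNat 1, Int.ofNat 1, Int.ofNat 1, Int.ofNat 1, Int.ofNat 1, Int.negSucc 0, Int.ofNat 1, Int.ofNat 1, Int.negSucc 0, Int.negSucc 0, Int.ofNat 1, Int.ofNat 1, Int.ofNat 1, Int.ofNat 1, Int.ofNat 1, Int.negSucc 0, Int.ofNat 1, Int.negSucc 0],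
  [Int.ofNat 0, Int.ofNat 0, Int.ofNat 0, Int.negSucc 1, Int.negSucc 1, Int.ofNat 2, Int.ofNat 0, Int.ofNat 0, Int.ofNat 0, Int.ofNat 0, Int.ofNat 0, Int.negSucc 1, Int.ofNat 0, Int.ofNat 0, Int.negSucc 1, Int.negSucc 1, Int.ofNat 0, Int.ofNat 0, Int.ofNat 0, Int.ofNat 0, Int.ofNat 0, Int.negSucc 1, Int.ofNat 0, Int.ofNat 2],
  [Int.ofNat 0, Int.ofNat 0, Int.ofNat 0, Int.negSucc 1, Int.ofNat 0, Int.negSucc 1, Int.ofNat 0, Int.ofNat 2, Int.ofNat 0, Int.ofNat 0, Int.ofNat 0, Int.ofNat 0, Int.ofNat 0, Int.ofNat 0, Int.ofNat 0, Int.negSucc 1, Int.ofNat 0, Int.negSucc 1, Int.negSucc 1, Int.ofNat 0, Int.ofNat 0, Int.ofNat 0, Int.negSucc 1, Int.ofNat 2],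
  [Int.ofNat 1, Int.ofNat 1, Int.ofNat 1, Int.ofNat 1, Int.ofNat 1, Int.ofNat 1, Int.negSucc 0, Int.ofNat 1, Int.ofNat 1, Int.ofNat 1, Int.ofNat 1, Int.ofNat 1, Int.ofNat 1, Int.ofNat 1, Int.ofNat 3, Int.negSucc 0, Int.ofNat 1, Int.ofNat 1, Int.negSucc 0, Int.negSucc 0, Int.ofNat 1, Int.negSucc 0, Int.negSucc 0, Int.negSucc 0],
  [Int.ofNat 1, Int.negSucc 0, Int.negSucc 0, Int.ofNat 1, Int.ofNat 1, Int.ofNat 1, Int.ofNat 1, Int.ofNat 1, Int.ofNat 1, Int.negSucc 0, Int.ofNat 1, Int.ofNat 1, Int.ofNat 1, Int.ofNat 1, Int.ofNat 1, Int.ofNat 1, Int.ofNat 1, Int.ofNat 3, Int.negSucc 0, Int.ofNat 1, Int.ofNat 1, Int.negSucc 0, Int.negSucc 0, Int.negSucc 0],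
  [Int.negSucc 1, Int.ofNat 0, Int.ofNat 0, Int.negSucc 1, Int.ofNat 0, Int.negSucc 1, Int.ofNat 0, Int.ofNat 0, Int.ofNat 0, Int.negSucc 1, Int.ofNat 0, Int.ofNat 0, Int.ofNat 0, Int.ofNat 0, Int.negSucc 1, Int.ofNat 0, Int.ofNat 0, Int.ofNat 0, Int.negSucc 1, Int.ofNat 0, Int.ofNat 0, Int.negSucc 1, Int.negSucc 1, Int.ofNat 0],
  [Int.ofNat 0, Int.ofNat 0, Int.negSucc 1, Int.ofNat 0, Int.negSucc 1, Int.ofNat 0, Int.ofNat 0, Int.ofNat 0, Int.negSucc 1, Int.ofNat 0, Int.ofNat 0, Int.ofNat 0, Int.ofNat 0, Int.negSucc 1, Int.ofNat 0, Int.ofNat 0, Int.ofNat 0, Int.negSucc 1, Int.ofNat 0, Int.ofNat 0, Int.negSucc 1, Int.negSucc 1, Int.negSucc 1, Int.ofNat 0],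
  [Int.ofNat 0, Int.ofNat 0, Int.ofNat 2, Int.ofNat 0, Int.negSucc 1, Int.ofNat 0, Int.ofNat 0, Int.ofNat 0, Int.negSucc 1, Int.ofNat 0, Int.ofNat 0, Int.ofNat 0, Int.ofNat 0, Int.negSucc 1, Int.ofNat 0, Int.ofNat 0, Int.ofNat 0, Int.negSucc 1, Int.ofNat 0, Int.ofNat 0, Int.negSucc 1, Int.ofNat 2, Int.negSucc 1, Int.ofNat 0]]

set_option maxRecDepth 100000 in
theorem c1e7_chk : pmChk (List.replicate 14 [7, 0, 25]).flatten nxL c1e7M 0 0 = true := by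
  decide +kernel

theorem c1e7_ne : wE letE2 (List.replicate 14 [7, 0, 25]).flatten ≠ 1 ∧ wE letE2 (List.replicate 14 [7, 0, 25]).flatten ≠ negElt :=
  ne_pm_of_chk nxL_mem c1e7_chk

set_option maxRecDepth 100000 in
def c1e8M : List (List ℤ) :=
  [[Int.ofNat 4, Int.ofNat 0, Int.ofNat 0, Int.ofNat 0, Int.ofNat 0, Int.ofNat 0, Int.ofNat 0, Int.ofNat 0, Int.ofNat 0, Int.ofNat 0, Int.ofNat 0, Int.ofNat 0, Int.ofNat 0, Int.ofNat 0, Int.ofNat 0, Int.ofNat 0, Int.ofNat 0, Int.ofNat 0, Int.ofNat 0, Int.ofNat 0, Int.ofNat 0, Int.ofNat 0, Int.ofNat 0, Int.ofNat 4],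
  [Int.ofNat 4, Int.ofNat 0, Int.ofNat 0, Int.ofNat 0, Int.ofNat 0, Int.ofNat 0, Int.ofNat 0, Int.ofNat 0, Int.ofNat 0, Int.ofNat 0, Int.ofNat 0, Int.ofNat 0, Int.ofNat 0, Int.ofNat 0, Int.ofNat 0, Int.ofNat 0, Int.ofNat 0, Int.ofNat 0, Int.ofNat 0, Int.ofNat 0, Int.ofNat 0, Int.ofNat 0, Int.ofNat 0, Int.ofNat 4],
  [Int.negSucc 3, Int.ofNat 0, Int.ofNat 0, Int.ofNat 0, Int.ofNat 0, Int.ofNat 0, Int.ofNat 0, Int.ofNat 0, Int.ofNat 0, Int.ofNat 0, Int.ofNat 0, Int.ofNat 0, Int.ofNat 0, Int.ofNat 0, Int.ofNat 0, Int.ofNat 0, Int.ofNat 0, Int.ofNat 0, Int.ofNat 0, Int.ofNat 0, Int.ofNat 0, Int.ofNat 0, Int.ofNat 0, Int.ofNat 4],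
  [Int.ofNat 0, Int.negSucc 3, Int.ofNat 0, Int.ofNat 0, Int.ofNat 0, Int.ofNat 0, Int.ofNat 0, Int.ofNat 0, Int.ofNat 0, Int.ofNat 0, Int.ofNat 0, Int.ofNat 0, Int.ofNat 0, Int.ofNat 0, Int.ofNat 0, Int.ofNat 0, Int.ofNat 0, Int.ofNat 0, Int.ofNat 0, Int.ofNat 0, Int.ofNat 0, Int.ofNat 0, Int.ofNat 0, Int.ofNat 4],
  [Int.ofNat 0, Int.ofNat 4, Int.ofNat 0, Int.ofNat 0, Int.ofNat 0, Int.ofNat 0, Int.ofNat 0, Int.ofNat 0, Int.ofNat 0, Int.ofNat 0, Int.ofNat 0, Int.ofNat 0, Int.ofNat 0, Int.ofNat 0, Int.ofNat 0, Int.ofNat 0, Int.ofNat 0, Int.ofNat 0, Int.ofNat 0, Int.ofNat 0, Int.ofNat 0, Int.ofNat 0, Int.ofNat 0, Int.negSucc 3],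
  [Int.ofNat 0, Int.ofNat 0, Int.ofNat 0, Int.ofNat 0, Int.ofNat 0, Int.ofNat 0, Int.ofNat 0, Int.ofNat 0, Int.ofNat 0, Int.ofNat 0, Int.ofNat 0, Int.ofNat 0, Int.ofNat 0, Int.ofNat 0, Int.ofNat 0, Int.ofNat 0, Int.ofNat 0, Int.ofNat 0, Int.ofNat 0, Int.ofNat 0, Int.ofNat 0, Int.ofNat 4, Int.ofNat 0, Int.negSucc 3],
  [Int.negSucc 1, Int.negSucc 1, Int.negSucc 1, Int.ofNat 0, Int.ofNat 0, Int.ofNat 0, Int.negSucc 1, Int.negSucc 1, Int.ofNat 0, Int.ofNat 0, Int.ofNat 0, Int.ofNat 0, Int.ofNat 0, Int.ofNat 0, Int.ofNat 0, Int.ofNat 0, Int.ofNat 0, Int.ofNat 0, Int.ofNat 0, Int.negSucc 1, Int.ofNat 0, Int.ofNat 2, Int.ofNat 0, Int.ofNat 2],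
  [Int.negSucc 1, Int.negSucc 1, Int.ofNat 0, Int.ofNat 0, Int.ofNat 0, Int.negSucc 1, Int.negSucc 1, Int.ofNat 0, Int.ofNat 0, Int.ofNat 0, Int.ofNat 0, Int.ofNat 0, Int.ofNat 0, Int.ofNat 0, Int.ofNat 0, Int.ofNat 0, Int.ofNat 0, Int.ofNat 0, Int.negSucc 1, Int.ofNat 0, Int.ofNat 2, Int.ofNat 0, Int.negSucc 1, Int.ofNat 2],
  [Int.ofNat 1, Int.ofNat 1, Int.negSucc 0, Int.ofNat 1, Int.ofNat 1, Int.negSucc 0, Int.negSucc 0, Int.ofNat 1, Int.ofNat 1, Int.negSucc 0, Int.negSucc 0, Int.ofNat 1, Int.ofNat 1, Int.ofNat 1, Int.ofNat 1, Int.negSucc 0, Int.ofNat 1, Int.ofNat 1, Int.negSucc 0, Int.ofNat 1, Int.ofNat 1, Int.ofNat 1, Int.negSucc 0, Int.negSucc 2],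
  [Int.ofNat 1, Int.ofNat 1, Int.ofNat 1, Int.ofNat 1, Int.ofNat 1, Int.ofNat 1, Int.ofNat 1, Int.ofNat 1, Int.ofNat 1, Int.ofNat 1, Int.ofNat 1, Int.ofNat 1, Int.ofNat 1, Int.ofNat 1, Int.ofNat 1, Int.ofNat 1, Int.ofNat 1, Int.ofNat 1, Int.ofNat 1, Int.ofNat 1, Int.ofNat 1, Int.ofNat 1, Int.ofNat 1, Int.negSucc 2],
  [Int.ofNat 1, Int.ofNat 1, Int.ofNat 1, Int.ofNat 1, Int.ofNat 1, Int.ofNat 1, Int.ofNat 1, Int.ofNat 1, Int.ofNat 1, Int.ofNat 1, Int.ofNat 1, Int.ofNat 1, Int.ofNat 1, Int.ofNat 1, Int.ofNat 1, Int.ofNat 1, Int.ofNat 1, Int.ofNat 1, Int.ofNat 1, Int.ofNat 1, Int.ofNat 1, Int.ofNat 1, Int.ofNat 1, Int.negSucc 2],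
  [Int.ofNat 1, Int.ofNat 1, Int.negSucc 0, Int.ofNat 1, Int.ofNat 1, Int.negSucc 0, Int.negSucc 0, Int.ofNat 1, Int.ofNat 1, Int.negSucc 0, Int.negSucc 0, Int.ofNat 1, Int.ofNat 1, Int.ofNat 1, Int.ofNat 1, Int.negSucc 0, Int.ofNat 1, Int.ofNat 1, Int.negSucc 0, Int.ofNat 1, Int.ofNat 1, Int.ofNat 1, Int.negSucc 0, Int.negSucc 2],
  [Int.negSucc 1, Int.negSucc 1, Int.ofNat 0, Int.ofNat 0, Int.ofNat 0, Int.negSucc 1, Int.negSucc 1, Int.ofNat 0, Int.ofNat 0, Int.ofNat 0, Int.ofNat 0, Int.ofNat 0, Int.ofNat 0, Int.ofNat 0, Int.ofNat 0, Int.ofNat 0, Int.ofNat 0, Int.ofNat 0, Int.negSucc 1, Int.ofNat 0, Int.ofNat 2, Int.ofNat 0, Int.negSucc 1, Int.ofNat 2],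
  [Int.negSucc 1, Int.negSucc 1, Int.negSucc 1, Int.ofNat 0, Int.ofNat 0, Int.ofNat 0, Int.negSucc 1, Int.negSucc 1, Int.ofNat 0, Int.ofNat 0, Int.ofNat 0, Int.ofNat 0, Int.ofNat 0, Int.ofNat 0, Int.ofNat 0, Int.ofNat 0, Int.ofNat 0, Int.ofNat 0, Int.ofNat 0, Int.negSucc 1, Int.ofNat 0, Int.ofNat 2, Int.ofNat 0, Int.ofNat 2],
  [Int.ofNat 0, Int.ofNat 0, Int.ofNat 0, Int.ofNat 0, Int.ofNat 0, Int.ofNat 0, Int.ofNat 0, Int.ofNat 0, Int.ofNat 0, Int.ofNat 0, Int.ofNat 0, Int.ofNat 0, Int.ofNat 0, Int.ofNat 0, Int.ofNat 0, Int.ofNat 0, Int.ofNat 0, Int.ofNat 0, Int.ofNat 0, Int.ofNat 0, Int.ofNat 0, Int.ofNat 4, Int.ofNat 0, Int.negSucc 3],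
  [Int.ofNat 0, Int.ofNat 4, Int.ofNat 0, Int.ofNat 0, Int.ofNat 0, Int.ofNat 0, Int.ofNat 0, Int.ofNat 0, Int.ofNat 0, Int.ofNat 0, Int.ofNat 0, Int.ofNat 0, Int.ofNat 0, Int.ofNat 0, Int.ofNat 0, Int.ofNat 0, Int.ofNat 0, Int.ofNat 0, Int.ofNat 0, Int.ofNat 0, Int.ofNat 0, Int.ofNat 0, Int.ofNat 0, Int.negSucc 3],
  [Int.ofNat 0, Int.negSucc 3, Int.ofNat 0, Int.ofNat 0, Int.ofNat 0, Int.ofNat 0, Int.ofNat 0, Int.ofNat 0, Int.ofNat 0, Int.ofNat 0, Int.ofNat 0, Int.ofNat 0, Int.ofNat 0, Int.ofNat 0, Int.ofNat 0, Int.ofNat 0, Int.ofNat 0, Int.ofNat 0, Int.ofNat 0, Int.ofNat 0, Int.ofNat 0, Int.ofNat 0, Int.ofNat 0, Int.ofNat 4],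
  [Int.negSucc 3, Int.ofNat 0, Int.ofNat 0, Int.ofNat 0, Int.ofNat 0, Int.ofNat 0, Int.ofNat 0, Int.ofNat 0, Int.ofNat 0, Int.ofNat 0, Int.ofNat 0, Int.ofNat 0, Int.ofNat 0, Int.ofNat 0, Int.ofNat 0, Int.ofNat 0, Int.ofNat 0, Int.ofNat 0, Int.ofNat 0, Int.ofNat 0, Int.ofNat 0, Int.ofNat 0, Int.ofNat 0, Int.ofNat 4],
  [Int.ofNat 4, Int.ofNat 0, Int.ofNat 0, Int.ofNat 0, Int.ofNat 0, Int.ofNat 0, Int.ofNat 0, Int.ofNat 0, Int.ofNat 0, Int.ofNat 0, Int.ofNat 0, Int.ofNat 0, Int.ofNat 0, Int.ofNat 0, Int.ofNat 0, Int.ofNat 0, Int.ofNat 0, Int.ofNat 0, Int.ofNat 0, Int.ofNat 0, Int.ofNat 0, Int.ofNat 0, Int.ofNat 0, Int.ofNat 4],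
  [Int.negSucc 3, Int.ofNat 0, Int.ofNat 0, Int.ofNat 0, Int.ofNat 0, Int.ofNat 0, Int.ofNat 0, Int.ofNat 0, Int.ofNat 0, Int.ofNat 0, Int.ofNat 0, Int.ofNat 0, Int.ofNat 0, Int.ofNat 0, Int.ofNat 0, Int.ofNat 0, Int.ofNat 0, Int.ofNat 0, Int.ofNat 0, Int.ofNat 0, Int.ofNat 0, Int.ofNat 0, Int.ofNat 0, Int.ofNat 4],
  [Int.ofNat 4, Int.ofNat 0, Int.ofNat 0, Int.ofNat 0, Int.ofNat 0, Int.ofNat 0, Int.ofNat 0, Int.ofNat 0, Int.ofNat 0, Int.ofNat 0, Int.ofNat 0, Int.ofNat 0, Int.ofNat 0, Int.ofNat 0, Int.ofNat 0, Int.ofNat 0, Int.ofNat 0, Int.ofNat 0, Int.ofNat 0, Int.ofNat 0, Int.ofNat 0, Int.ofNat 0, Int.ofNat 0, Int.negSucc 3],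
  [Int.negSucc 3, Int.ofNat 0, Int.ofNat 0, Int.ofNat 0, Int.ofNat 0, Int.ofNat 0, Int.ofNat 0, Int.ofNat 0, Int.ofNat 0, Int.ofNat 0, Int.ofNat 0, Int.ofNat 0, Int.ofNat 0, Int.ofNat 0, Int.ofNat 0, Int.ofNat 0, Int.ofNat 0, Int.ofNat 0, Int.ofNat 0, Int.ofNat 0, Int.ofNat 0, Int.ofNat 0, Int.ofNat 0, Int.negSucc 3],
  [Int.ofNat 0, Int.negSucc 3, Int.ofNat 0, Int.ofNat 0, Int.ofNat 0, Int.ofNat 0, Int.ofNat 0, Int.ofNat 0, Int.ofNat 0, Int.ofNat 0, Int.ofNat 0, Int.ofNat 0, Int.ofNat 0, Int.ofNat 0, Int.ofNat 0, Int.ofNat 0, Int.ofNat 0, Int.ofNat 0, Int.ofNat 0, Int.ofNat 0, Int.ofNat 0, Int.ofNat 0, Int.ofNat 0, Int.negSucc 3],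
  [Int.negSucc 3, Int.ofNat 0, Int.negSucc 3, Int.ofNat 0, Int.ofNat 0, Int.ofNat 0, Int.ofNat 0, Int.ofNat 0, Int.ofNat 0, Int.ofNat 0, Int.ofNat 0, Int.ofNat 0, Int.ofNat 0, Int.ofNat 0, Int.ofNat 0, Int.ofNat 0, Int.ofNat 0, Int.ofNat 0, Int.ofNat 0, Int.ofNat 0, Int.ofNat 0, Int.ofNat 0, Int.ofNat 0, Int.ofNat 0],
  [Int.ofNat 0, Int.ofNat 0, Int.ofNat 0, Int.ofNat 0, Int.ofNat 0, Int.ofNat 0, Int.ofNat 0, Int.ofNat 0, Int.ofNat 0, Int.ofNat 0, Int.ofNat 0, Int.ofNat 0, Int.ofNat 0, Int.ofNat 0, Int.ofNat 0, Int.ofNat 0, Int.ofNat 0, Int.ofNat 0, Int.ofNat 0, Int.ofNat 0, Int.negSucc 3, Int.ofNat 0, Int.negSucc 3, Int.ofNat 0],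
  [Int.ofNat 0, Int.ofNat 0, Int.ofNat 0, Int.ofNat 0, Int.ofNat 2, Int.ofNat 0, Int.ofNat 0, Int.ofNat 0, Int.ofNat 0, Int.ofNat 2, Int.ofNat 2, Int.ofNat 0, Int.ofNat 0, Int.ofNat 2, Int.ofNat 0, Int.ofNat 2, Int.ofNat 2, Int.ofNat 0, Int.ofNat 0, Int.ofNat 0, Int.negSucc 1, Int.ofNat 0, Int.negSucc 1, Int.ofNat 0],
  [Int.ofNat 0, Int.ofNat 0, Int.ofNat 2, Int.ofNat 0, Int.ofNat 0, Int.ofNat 0, Int.ofNat 0, Int.ofNat 2, Int.ofNat 0, Int.ofNat 2, Int.negSucc 1, Int.ofNat 0, Int.ofNat 2, Int.ofNat 2, Int.negSucc 1, Int.ofNat 2, Int.ofNat 0, Int.ofNat 0, Int.ofNat 0, Int.ofNat 0, Int.ofNat 0, Int.ofNat 0, Int.ofNat 0, Int.ofNat 0],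
  [Int.ofNat 1, Int.ofNat 1, Int.negSucc 0, Int.ofNat 1, Int.negSucc 0, Int.ofNat 1, Int.negSucc 0, Int.ofNat 1, Int.negSucc 0, Int.ofNat 1, Int.negSucc 2, Int.negSucc 0, Int.ofNat 1, Int.ofNat 1, Int.negSucc 0, Int.ofNat 1, Int.negSucc 0, Int.ofNat 1, Int.negSucc 0, Int.negSucc 0, Int.negSucc 0, Int.negSucc 0, Int.negSucc 0, Int.ofNat 1],
  [Int.ofNat 1, Int.ofNat 1, Int.ofNat 1, Int.ofNat 1, Int.negSucc 0, Int.negSucc 0, Int.ofNat 1, Int.ofNat 1, Int.negSucc 0, Int.negSucc 0, Int.ofNat 3, Int.negSucc 0, Int.ofNat 1, Int.ofNat 1, Int.negSucc 0, Int.negSucc 0, Int.negSucc 0, Int.ofNat 1, Int.ofNat 1, Int.negSucc 0, Int.negSucc 0, Int.negSucc 0, Int.ofNat 1, Int.ofNat 1],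
  [Int.negSucc 0, Int.ofNat 1, Int.ofNat 1, Int.negSucc 0, Int.negSucc 0, Int.negSucc 0, Int.negSucc 0, Int.ofNat 1, Int.ofNat 1, Int.ofNat 1, Int.ofNat 1, Int.ofNat 1, Int.negSucc 0, Int.negSucc 0, Int.ofNat 3, Int.negSucc 0, Int.ofNat 1, Int.ofNat 1, Int.ofNat 1, Int.negSucc 0, Int.ofNat 1, Int.negSucc 0, Int.negSucc 0, Int.ofNat 1],
  [Int.negSucc 0, Int.ofNat 1, Int.negSucc 0, Int.negSucc 0, Int.negSucc 0, Int.ofNat 1, Int.ofNat 1, Int.ofNat 1, Int.ofNat 1, Int.negSucc 0, Int.negSucc 0, Int.ofNat 1, Int.negSucc 0, Int.negSucc 0, Int.ofNat 3, Int.ofNat 1, Int.ofNat 1, Int.ofNat 1, Int.negSucc 0, Int.negSucc 0, Int.ofNat 1, Int.negSucc 0, Int.ofNat 1, Int.ofNat 1],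
  [Int.ofNat 1, Int.negSucc 0, Int.ofNat 1, Int.negSucc 2, Int.negSucc 0, Int.negSucc 0, Int.ofNat 1, Int.ofNat 1, Int.ofNat 1, Int.negSucc 0, Int.negSucc 0, Int.ofNat 1, Int.negSucc 0, Int.negSucc 0, Int.ofNat 1, Int.ofNat 1, Int.ofNat 1, Int.negSucc 0, Int.negSucc 0, Int.negSucc 0, Int.ofNat 1, Int.negSucc 0, Int.ofNat 1, Int.negSucc 0],
  [Int.ofNat 1, Int.negSucc 0, Int.ofNat 1, Int.negSucc 2, Int.ofNat 1, Int.negSucc 0, Int.negSucc 0, Int.negSucc 0, Int.ofNat 1, Int.negSucc 0, Int.ofNat 1, Int.negSucc 0, Int.ofNat 1, Int.negSucc 0, Int.negSucc 0, Int.ofNat 1, Int.negSucc 0, Int.ofNat 1, Int.negSucc 0, Int.ofNat 1, Int.negSucc 0, Int.ofNat 1, Int.ofNat 1, Int.negSucc 0],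
  [Int.negSucc 0, Int.ofNat 1, Int.negSucc 0, Int.negSucc 0, Int.ofNat 1, Int.ofNat 1, Int.negSucc 0, Int.negSucc 0, Int.ofNat 1, Int.negSucc 0, Int.ofNat 1, Int.negSucc 0, Int.ofNat 1, Int.negSucc 0, Int.ofNat 1, Int.ofNat 1, Int.negSucc 0, Int.ofNat 3, Int.negSucc 0, Int.ofNat 1, Int.negSucc 0, Int.ofNat 1, Int.ofNat 1, Int.ofNat 1],
  [Int.negSucc 0, Int.ofNat 1, Int.ofNat 1, Int.negSucc 0, Int.ofNat 1, Int.negSucc 0, Int.negSucc 0, Int.ofNat 1, Int.ofNat 1, Int.negSucc 0, Int.negSucc 0, Int.ofNat 1, Int.negSucc 0, Int.ofNat 1, Int.negSucc 0, Int.ofNat 1, Int.negSucc 0, Int.ofNat 1, Int.ofNat 1, Int.negSucc 0, Int.ofNat 3, Int.negSucc 0, Int.ofNat 1, Int.ofNat 1],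
  [Int.ofNat 2, Int.ofNat 0, Int.ofNat 0, Int.ofNat 0, Int.ofNat 0, Int.ofNat 0, Int.ofNat 0, Int.ofNat 2, Int.ofNat 0, Int.negSucc 1, Int.negSucc 1, Int.ofNat 0, Int.negSucc 1, Int.ofNat 0, Int.ofNat 0, Int.ofNat 0, Int.negSucc 1, Int.ofNat 2, Int.ofNat 0, Int.ofNat 0, Int.ofNat 2, Int.ofNat 0, Int.ofNat 0, Int.ofNat 0],
  [Int.ofNat 0, Int.ofNat 0, Int.ofNat 0, Int.ofNat 0, Int.ofNat 0, Int.ofNat 0, Int.ofNat 2, Int.ofNat 0, Int.negSucc 1, Int.negSucc 1, Int.ofNat 0, Int.negSucc 1, Int.ofNat 0, Int.ofNat 0, Int.ofNat 0, Int.negSucc 1, Int.ofNat 2, Int.ofNat 0, Int.ofNat 0, Int.ofNat 2, Int.ofNat 0, Int.ofNat 0, Int.ofNat 2, Int.ofNat 0],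
  [Int.ofNat 0, Int.ofNat 0, Int.ofNat 0, Int.ofNat 0, Int.ofNat 0, Int.ofNat 0, Int.ofNat 2, Int.ofNat 0, Int.negSucc 1, Int.ofNat 2, Int.ofNat 0, Int.ofNat 2, Int.ofNat 0, Int.ofNat 0, Int.ofNat 0, Int.negSucc 1, Int.ofNat 2, Int.ofNat 0, Int.ofNat 0, Int.ofNat 2, Int.ofNat 0, Int.ofNat 0, Int.ofNat 2, Int.ofNat 0],
  [Int.ofNat 0, Int.ofNat 0, Int.ofNat 0, Int.ofNat 0, Int.ofNat 0, Int.ofNat 0, Int.negSucc 1, Int.ofNat 0, Int.ofNat 2, Int.negSucc 1, Int.ofNat 0, Int.ofNat 2, Int.ofNat 0, Int.ofNat 0, Int.ofNat 0, Int.negSucc 1, Int.negSucc 1, Int.ofNat 0, Int.ofNat 0, Int.ofNat 2, Int.ofNat 0, Int.ofNat 0, Int.ofNat 2, Int.ofNat 0],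
  [Int.ofNat 0, Int.ofNat 2, Int.ofNat 2, Int.negSucc 1, Int.ofNat 0, Int.negSucc 1, Int.ofNat 2, Int.ofNat 0, Int.ofNat 0, Int.ofNat 0, Int.negSucc 1, Int.ofNat 0, Int.ofNat 0, Int.ofNat 0, Int.ofNat 0, Int.ofNat 0, Int.ofNat 0, Int.ofNat 0, Int.ofNat 0, Int.negSucc 1, Int.ofNat 2, Int.ofNat 0, Int.ofNat 0, Int.ofNat 0],
  [Int.ofNat 0, Int.ofNat 2, Int.negSucc 1, Int.negSucc 1, Int.ofNat 0, Int.negSucc 1, Int.ofNat 2, Int.ofNat 0, Int.ofNat 0, Int.ofNat 0, Int.ofNat 2, Int.ofNat 0, Int.ofNat 0, Int.ofNat 0, Int.ofNat 0, Int.ofNat 0, Int.ofNat 0, Int.ofNat 0, Int.ofNat 0, Int.negSucc 1, Int.ofNat 2, Int.ofNat 0, Int.ofNat 0, Int.ofNat 0],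
  [Int.ofNat 0, Int.ofNat 0, Int.ofNat 2, Int.negSucc 1, Int.negSucc 1, Int.ofNat 0, Int.negSucc 1, Int.ofNat 2, Int.ofNat 0, Int.ofNat 0, Int.ofNat 0, Int.ofNat 2, Int.ofNat 0, Int.ofNat 0, Int.ofNat 0, Int.ofNat 0, Int.ofNat 0, Int.ofNat 0, Int.ofNat 0, Int.ofNat 0, Int.negSucc 1, Int.ofNat 2, Int.ofNat 0, Int.ofNat 0],
  [Int.ofNat 1, Int.ofNat 1, Int.negSucc 0, Int.negSucc 0, Int.negSucc 0, Int.ofNat 1, Int.negSucc 2, Int.ofNat 1, Int.negSucc 0, Int.ofNat 1, Int.ofNat 1, Int.ofNat 1, Int.negSucc 0, Int.ofNat 1, Int.ofNat 1, Int.ofNat 1, Int.ofNat 1, Int.ofNat 1, Int.negSucc 0, Int.negSucc 0, Int.negSucc 0, Int.ofNat 1, Int.ofNat 1, Int.ofNat 1],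
  [Int.negSucc 0, Int.negSucc 0, Int.ofNat 1, Int.negSucc 2, Int.ofNat 1, Int.negSucc 0, Int.ofNat 1, Int.ofNat 1, Int.ofNat 1, Int.negSucc 0, Int.ofNat 1, Int.ofNat 1, Int.ofNat 1, Int.ofNat 1, Int.ofNat 1, Int.negSucc 0, Int.negSucc 0, Int.negSucc 0, Int.ofNat 1, Int.ofNat 1, Int.ofNat 1, Int.ofNat 1, Int.negSucc 0, Int.ofNat 1],
  [Int.ofNat 1, Int.ofNat 1, Int.negSucc 0, Int.negSucc 0, Int.ofNat 1, Int.ofNat 1, Int.negSucc 0, Int.negSucc 0, Int.negSucc 0, Int.negSucc 0, Int.ofNat 1, Int.negSucc 0, Int.negSucc 0, Int.ofNat 1, Int.ofNat 3, Int.negSucc 0, Int.negSucc 0, Int.ofNat 1, Int.negSucc 0, Int.negSucc 0, Int.ofNat 1, Int.negSucc 0, Int.negSucc 0, Int.negSucc 0],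
  [Int.ofNat 1, Int.negSucc 0, Int.ofNat 1, Int.negSucc 0, Int.negSucc 0, Int.negSucc 0, Int.negSucc 0, Int.ofNat 1, Int.negSucc 0, Int.ofNat 1, Int.ofNat 1, Int.ofNat 1, Int.negSucc 0, Int.negSucc 0, Int.negSucc 0, Int.negSucc 0, Int.negSucc 0, Int.ofNat 3, Int.ofNat 1, Int.negSucc 0, Int.negSucc 0, Int.ofNat 1, Int.negSucc 0, Int.negSucc 0],
  [Int.negSucc 0, Int.ofNat 1, Int.negSucc 0, Int.negSucc 0, Int.ofNat 1, Int.negSucc 0, Int.negSucc 0, Int.ofNat 1, Int.negSucc 0, Int.ofNat 1, Int.ofNat 1, Int.ofNat 1, Int.negSucc 0, Int.ofNat 1, Int.negSucc 0, Int.negSucc 0, Int.ofNat 1, Int.ofNat 3, Int.ofNat 1, Int.negSucc 0, Int.negSucc 0, Int.ofNat 1, Int.ofNat 1, Int.ofNat 1],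
  [Int.negSucc 0, Int.ofNat 1, Int.ofNat 1, Int.negSucc 0, Int.ofNat 1, Int.ofNat 1, Int.ofNat 1, Int.ofNat 1, Int.negSucc 0, Int.negSucc 0, Int.negSucc 0, Int.ofNat 1, Int.negSucc 0, Int.ofNat 1, Int.negSucc 0, Int.ofNat 1, Int.ofNat 1, Int.ofNat 3, Int.negSucc 0, Int.negSucc 0, Int.negSucc 0, Int.ofNat 1, Int.negSucc 0, Int.ofNat 1],
  [Int.negSucc 0, Int.negSucc 0, Int.negSucc 0, Int.negSucc 0, Int.negSucc 0, Int.negSucc 0, Int.ofNat 1, Int.negSucc 0, Int.negSucc 0, Int.ofNat 3, Int.ofNat 1, Int.ofNat 1, Int.ofNat 1, Int.ofNat 1, Int.negSucc 0, Int.ofNat 1, Int.negSucc 0, Int.ofNat 1, Int.ofNat 1, Int.ofNat 1, Int.ofNat 1, Int.ofNat 1, Int.negSucc 0, Int.ofNat 1],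
  [Int.negSucc 0, Int.negSucc 0, Int.ofNat 1, Int.negSucc 0, Int.negSucc 0, Int.ofNat 1, Int.negSucc 0, Int.negSucc 0, Int.negSucc 0, Int.negSucc 2, Int.negSucc 0, Int.ofNat 1, Int.ofNat 1, Int.ofNat 1, Int.negSucc 0, Int.negSucc 0, Int.negSucc 0, Int.ofNat 1, Int.negSucc 0, Int.ofNat 1, Int.ofNat 1, Int.ofNat 1, Int.ofNat 1, Int.ofNat 1],
  [Int.ofNat 1, Int.ofNat 1, Int.negSucc 0, Int.negSucc 0, Int.negSucc 0, Int.ofNat 1, Int.negSucc 0, Int.negSucc 0, Int.negSucc 0, Int.negSucc 0, Int.ofNat 1, Int.ofNat 1, Int.ofNat 1, Int.ofNat 1, Int.negSucc 0, Int.ofNat 1, Int.negSucc 0, Int.ofNat 1, Int.negSucc 0, Int.ofNat 1, Int.ofNat 3, Int.ofNat 1, Int.ofNat 1, Int.negSucc 0],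
  [Int.ofNat 1, Int.negSucc 0, Int.negSucc 0, Int.negSucc 0, Int.negSucc 0, Int.ofNat 1, Int.ofNat 1, Int.ofNat 1, Int.negSucc 0, Int.ofNat 1, Int.negSucc 0, Int.ofNat 1, Int.negSucc 0, Int.negSucc 0, Int.ofNat 1, Int.ofNat 1, Int.ofNat 1, Int.ofNat 1, Int.negSucc 0, Int.ofNat 1, Int.ofNat 1, Int.ofNat 3, Int.negSucc 0, Int.negSucc 0],
  [Int.negSucc 1, Int.ofNat 0, Int.ofNat 0, Int.negSucc 1, Int.ofNat 0, Int.ofNat 0, Int.negSucc 1, Int.negSucc 1, Int.ofNat 0, Int.ofNat 0, Int.negSucc 1, Int.ofNat 2, Int.ofNat 0, Int.ofNat 0, Int.ofNat 0, Int.ofNat 0, Int.ofNat 2, Int.ofNat 0, Int.ofNat 0, Int.negSucc 1, Int.ofNat 0, Int.ofNat 0, Int.ofNat 0, Int.ofNat 0],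
  [Int.ofNat 0, Int.ofNat 0, Int.ofNat 0, Int.negSucc 1, Int.ofNat 0, Int.ofNat 0, Int.negSucc 1, Int.ofNat 0, Int.ofNat 0, Int.negSucc 1, Int.negSucc 1, Int.ofNat 0, Int.ofNat 0, Int.negSucc 1, Int.ofNat 2, Int.ofNat 0, Int.ofNat 0, Int.ofNat 0, Int.ofNat 0, Int.ofNat 2, Int.ofNat 0, Int.ofNat 0, Int.negSucc 1, Int.ofNat 0],
  [Int.ofNat 0, Int.ofNat 0, Int.ofNat 0, Int.negSucc 1, Int.ofNat 2, Int.ofNat 0, Int.negSucc 1, Int.ofNat 0, Int.ofNat 0, Int.ofNat 0, Int.ofNat 0, Int.ofNat 0, Int.ofNat 0, Int.ofNat 0, Int.ofNat 2, Int.ofNat 2, Int.ofNat 2, Int.ofNat 0, Int.ofNat 0, Int.ofNat 2, Int.ofNat 2, Int.ofNat 0, Int.ofNat 0, Int.ofNat 0],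
  [Int.ofNat 0, Int.ofNat 0, Int.negSucc 1, Int.ofNat 2, Int.ofNat 0, Int.negSucc 1, Int.ofNat 0, Int.ofNat 0, Int.ofNat 0, Int.ofNat 0, Int.ofNat 0, Int.ofNat 0, Int.ofNat 0, Int.ofNat 2, Int.ofNat 2, Int.ofNat 2, Int.ofNat 0, Int.ofNat 0, Int.ofNat 2, Int.ofNat 2, Int.ofNat 0, Int.ofNat 0, Int.ofNat 0, Int.ofNat 0],
  [Int.ofNat 0, Int.ofNat 0, Int.ofNat 2, Int.ofNat 2, Int.ofNat 0, Int.negSucc 1, Int.ofNat 0, Int.ofNat 0, Int.ofNat 0, Int.ofNat 0, Int.ofNat 0, Int.ofNat 0, Int.ofNat 0, Int.ofNat 2, Int.ofNat 2, Int.ofNat 2, Int.ofNat 0, Int.ofNat 0, Int.negSucc 1, Int.ofNat 2, Int.ofNat 0, Int.ofNat 0, Int.ofNat 0, Int.ofNat 0],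
  [Int.ofNat 0, Int.ofNat 0, Int.negSucc 1, Int.negSucc 1, Int.ofNat 0, Int.negSucc 1, Int.ofNat 0, Int.ofNat 0, Int.ofNat 0, Int.ofNat 0, Int.ofNat 0, Int.ofNat 0, Int.ofNat 0, Int.negSucc 1, Int.ofNat 2, Int.ofNat 2, Int.ofNat 0, Int.ofNat 0, Int.ofNat 2, Int.ofNat 2, Int.ofNat 0, Int.ofNat 0, Int.ofNat 0, Int.ofNat 0],
  [Int.ofNat 0, Int.ofNat 0, Int.ofNat 0, Int.ofNat 2, Int.ofNat 0, Int.ofNat 0, Int.ofNat 2, Int.negSucc 1, Int.ofNat 0, Int.negSucc 1, Int.ofNat 0, Int.negSucc 1, Int.ofNat 0, Int.ofNat 0, Int.ofNat 2, Int.negSucc 1, Int.ofNat 0, Int.ofNat 0, Int.ofNat 2, Int.ofNat 0, Int.ofNat 0, Int.ofNat 0, Int.ofNat 0, Int.ofNat 0],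
  [Int.ofNat 0, Int.ofNat 0, Int.ofNat 0, Int.ofNat 2, Int.ofNat 0, Int.ofNat 0, Int.ofNat 2, Int.ofNat 2, Int.ofNat 0, Int.ofNat 2, Int.ofNat 0, Int.ofNat 2, Int.ofNat 0, Int.ofNat 0, Int.ofNat 2, Int.negSucc 1, Int.ofNat 0, Int.ofNat 0, Int.negSucc 1, Int.ofNat 0, Int.ofNat 0, Int.ofNat 0, Int.ofNat 0, Int.ofNat 0],
  [Int.ofNat 0, Int.ofNat 0, Int.ofNat 0, Int.ofNat 0, Int.ofNat 2, Int.ofNat 0, Int.ofNat 0, Int.ofNat 2, Int.ofNat 2, Int.ofNat 0, Int.ofNat 2, Int.ofNat 0, Int.ofNat 2, Int.ofNat 0, Int.ofNat 0, Int.ofNat 2, Int.negSucc 1, Int.ofNat 0, Int.ofNat 0, Int.negSucc 1, Int.ofNat 0, Int.ofNat 0, Int.ofNat 0, Int.ofNat 0],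
  [Int.ofNat 0, Int.ofNat 0, Int.ofNat 0, Int.ofNat 0, Int.ofNat 2, Int.ofNat 0, Int.ofNat 0, Int.ofNat 2, Int.ofNat 0, Int.negSucc 1, Int.ofNat 0, Int.negSucc 1, Int.ofNat 0, Int.ofNat 0, Int.ofNat 0, Int.ofNat 0, Int.negSucc 1, Int.ofNat 0, Int.negSucc 1, Int.negSucc 1, Int.negSucc 1, Int.ofNat 0, Int.ofNat 0, Int.ofNat 0],
  [Int.ofNat 0, Int.ofNat 2, Int.ofNat 0, Int.ofNat 0, Int.ofNat 2, Int.ofNat 0, Int.negSucc 1, Int.ofNat 0, Int.negSucc 1, Int.ofNat 0, Int.ofNat 0, Int.ofNat 0, Int.ofNat 0, Int.negSucc 1, Int.ofNat 0, Int.negSucc 1, Int.negSucc 1, Int.negSucc 1, Int.ofNat 0, Int.ofNat 0, Int.ofNat 0, Int.ofNat 0, Int.ofNat 0, Int.ofNat 0],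
  [Int.ofNat 1, Int.negSucc 0, Int.ofNat 1, Int.ofNat 1, Int.ofNat 3, Int.ofNat 1, Int.negSucc 0, Int.ofNat 1, Int.negSucc 0, Int.ofNat 1, Int.ofNat 1, Int.ofNat 1, Int.ofNat 1, Int.negSucc 0, Int.ofNat 1, Int.negSucc 0, Int.negSucc 0, Int.negSucc 0, Int.ofNat 1, Int.ofNat 1, Int.ofNat 1, Int.ofNat 1, Int.ofNat 1, Int.ofNat 1],
  [Int.ofNat 1, Int.negSucc 0, Int.ofNat 3, Int.ofNat 1, Int.ofNat 1, Int.ofNat 1, Int.ofNat 1, Int.ofNat 1, Int.ofNat 1, Int.negSucc 0, Int.ofNat 1, Int.negSucc 0, Int.ofNat 1, Int.negSucc 0, Int.ofNat 1, Int.negSucc 0, Int.negSucc 0, Int.ofNat 1, Int.negSucc 0, Int.ofNat 1, Int.ofNat 1, Int.ofNat 1, Int.ofNat 1, Int.ofNat 1],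
  [Int.ofNat 1, Int.ofNat 3, Int.negSucc 0, Int.negSucc 0, Int.ofNat 1, Int.negSucc 0, Int.negSucc 0, Int.negSucc 0, Int.ofNat 1, Int.negSucc 0, Int.ofNat 1, Int.negSucc 0, Int.ofNat 1, Int.negSucc 0, Int.negSucc 0, Int.negSucc 0, Int.negSucc 0, Int.negSucc 0, Int.negSucc 0, Int.negSucc 0, Int.ofNat 1, Int.negSucc 0, Int.ofNat 1, Int.ofNat 1],
  [Int.ofNat 1, Int.ofNat 3, Int.ofNat 1, Int.negSucc 0, Int.ofNat 1, Int.ofNat 1, Int.ofNat 1, Int.negSucc 0, Int.ofNat 1, Int.ofNat 1, Int.negSucc 0, Int.negSucc 0, Int.ofNat 1, Int.negSucc 0, Int.negSucc 0, Int.ofNat 1, Int.negSucc 0, Int.negSucc 0, Int.ofNat 1, Int.negSucc 0, Int.ofNat 1, Int.negSucc 0, Int.negSucc 0, Int.ofNat 1],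
  [Int.negSucc 0, Int.ofNat 1, Int.ofNat 1, Int.ofNat 1, Int.ofNat 1, Int.negSucc 0, Int.negSucc 0, Int.negSucc 0, Int.negSucc 0, Int.negSucc 0, Int.ofNat 1, Int.ofNat 3, Int.ofNat 1, Int.negSucc 0, Int.negSucc 0, Int.ofNat 1, Int.ofNat 1, Int.negSucc 0, Int.negSucc 0, Int.ofNat 1, Int.ofNat 1, Int.negSucc 0, Int.ofNat 1, Int.ofNat 1],
  [Int.negSucc 0, Int.ofNat 1, Int.negSucc 0, Int.ofNat 1, Int.ofNat 1, Int.ofNat 1, Int.ofNat 1, Int.negSucc 0, Int.negSucc 0, Int.ofNat 1, Int.negSucc 0, Int.ofNat 3, Int.ofNat 1, Int.negSucc 0, Int.negSucc 0, Int.negSucc 0, Int.ofNat 1, Int.negSucc 0, Int.ofNat 1, Int.ofNat 1, Int.ofNat 1, Int.negSucc 0, Int.negSucc 0, Int.ofNat 1],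
  [Int.ofNat 1, Int.negSucc 0, Int.ofNat 1, Int.ofNat 1, Int.ofNat 1, Int.ofNat 1, Int.ofNat 1, Int.negSucc 0, Int.negSucc 2, Int.ofNat 1, Int.negSucc 0, Int.ofNat 1, Int.negSucc 0, Int.negSucc 0, Int.negSucc 0, Int.negSucc 0, Int.ofNat 1, Int.negSucc 0, Int.negSucc 0, Int.ofNat 1, Int.ofNat 1, Int.negSucc 0, Int.negSucc 0, Int.negSucc 0],
  [Int.ofNat 1, Int.negSucc 0, Int.ofNat 1, Int.ofNat 1, Int.ofNat 1, Int.negSucc 0, Int.negSucc 0, Int.ofNat 1, Int.ofNat 1, Int.negSucc 0, Int.negSucc 0, Int.ofNat 1, Int.negSucc 2, Int.ofNat 1, Int.negSucc 0, Int.negSucc 0, Int.negSucc 0, Int.ofNat 1, Int.ofNat 1, Int.negSucc 0, Int.negSucc 0, Int.ofNat 1, Int.negSucc 0, Int.negSucc 0],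
  [Int.negSucc 0, Int.ofNat 1, Int.negSucc 0, Int.ofNat 1, Int.ofNat 1, Int.negSucc 0, Int.negSucc 0, Int.ofNat 1, Int.ofNat 1, Int.ofNat 1, Int.ofNat 1, Int.ofNat 1, Int.negSucc 2, Int.ofNat 1, Int.negSucc 0, Int.ofNat 1, Int.negSucc 0, Int.ofNat 1, Int.ofNat 1, Int.negSucc 0, Int.ofNat 1, Int.ofNat 1, Int.negSucc 0, Int.ofNat 1],
  [Int.ofNat 1, Int.ofNat 1, Int.negSucc 0, Int.negSucc 0, Int.ofNat 1, Int.negSucc 0, Int.ofNat 1, Int.ofNat 1, Int.negSucc 0, Int.negSucc 0, Int.ofNat 1, Int.ofNat 1, Int.ofNat 1, Int.ofNat 1, Int.ofNat 1, Int.negSucc 2, Int.ofNat 1, Int.negSucc 0, Int.ofNat 1, Int.negSucc 0, Int.ofNat 1, Int.ofNat 1, Int.negSucc 0, Int.ofNat 1],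
  [Int.ofNat 0, Int.ofNat 0, Int.ofNat 2, Int.ofNat 0, Int.ofNat 0, Int.ofNat 0, Int.ofNat 0, Int.ofNat 0, Int.negSucc 1, Int.ofNat 0, Int.ofNat 2, Int.ofNat 0, Int.ofNat 0, Int.ofNat 0, Int.ofNat 2, Int.negSucc 1, Int.ofNat 0, Int.ofNat 0, Int.ofNat 0, Int.negSucc 1, Int.ofNat 2, Int.ofNat 0, Int.negSucc 1, Int.ofNat 0],
  [Int.ofNat 0, Int.ofNat 2, Int.ofNat 0, Int.ofNat 0, Int.ofNat 0, Int.ofNat 0, Int.ofNat 0, Int.negSucc 1, Int.ofNat 0, Int.ofNat 2, Int.ofNat 0, Int.ofNat 0, Int.ofNat 0, Int.ofNat 2, Int.negSucc 1, Int.ofNat 0, Int.ofNat 0, Int.ofNat 0, Int.negSucc 1, Int.ofNat 2, Int.ofNat 0, Int.negSucc 1, Int.ofNat 0, Int.ofNat 0],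
  [Int.ofNat 0, Int.ofNat 2, Int.ofNat 0, Int.ofNat 0, Int.ofNat 0, Int.ofNat 0, Int.ofNat 0, Int.ofNat 2, Int.ofNat 0, Int.negSucc 1, Int.ofNat 0, Int.ofNat 0, Int.ofNat 0, Int.ofNat 2, Int.negSucc 1, Int.ofNat 0, Int.ofNat 0, Int.ofNat 0, Int.ofNat 2, Int.ofNat 2, Int.ofNat 0, Int.ofNat 2, Int.ofNat 0, Int.ofNat 0],
  [Int.ofNat 0, Int.negSucc 1, Int.ofNat 0, Int.ofNat 0, Int.ofNat 0, Int.ofNat 0, Int.ofNat 0, Int.ofNat 2, Int.ofNat 0, Int.ofNat 2, Int.ofNat 0, Int.ofNat 0, Int.ofNat 0, Int.negSucc 1, Int.negSucc 1, Int.ofNat 0, Int.ofNat 0, Int.ofNat 0, Int.negSucc 1, Int.ofNat 2, Int.ofNat 0, Int.ofNat 2, Int.ofNat 0, Int.ofNat 0],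
  [Int.ofNat 0, Int.ofNat 0, Int.ofNat 0, Int.ofNat 0, Int.ofNat 0, Int.ofNat 2, Int.ofNat 2, Int.negSucc 1, Int.ofNat 0, Int.ofNat 0, Int.ofNat 0, Int.ofNat 0, Int.ofNat 2, Int.ofNat 2, Int.negSucc 1, Int.ofNat 0, Int.ofNat 0, Int.ofNat 0, Int.negSucc 1, Int.ofNat 0, Int.ofNat 0, Int.ofNat 0, Int.negSucc 1, Int.ofNat 0],
  [Int.ofNat 0, Int.ofNat 0, Int.ofNat 0, Int.ofNat 0, Int.ofNat 0, Int.ofNat 2, Int.ofNat 2, Int.ofNat 2, Int.ofNat 0, Int.ofNat 0, Int.ofNat 0, Int.ofNat 0, Int.ofNat 2, Int.ofNat 2, Int.negSucc 1, Int.ofNat 0, Int.ofNat 0, Int.ofNat 0, Int.ofNat 2, Int.ofNat 0, Int.ofNat 0, Int.ofNat 0, Int.negSucc 1, Int.ofNat 0],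
  [Int.negSucc 1, Int.ofNat 0, Int.ofNat 0, Int.ofNat 0, Int.ofNat 0, Int.ofNat 0, Int.ofNat 2, Int.ofNat 2, Int.ofNat 2, Int.ofNat 0, Int.ofNat 0, Int.ofNat 0, Int.ofNat 0, Int.ofNat 2, Int.ofNat 2, Int.negSucc 1, Int.ofNat 0, Int.ofNat 0, Int.ofNat 0, Int.ofNat 2, Int.ofNat 0, Int.ofNat 0, Int.ofNat 0, Int.ofNat 0],
  [Int.ofNat 1, Int.negSucc 0, Int.negSucc 0, Int.negSucc 0, Int.negSucc 0, Int.negSucc 0, Int.negSucc 0, Int.negSucc 0, Int.ofNat 1, Int.ofNat 1, Int.ofNat 1, Int.negSucc 0, Int.negSucc 0, Int.ofNat 1, Int.ofNat 1, Int.negSucc 0, Int.negSucc 0, Int.negSucc 0, Int.negSucc 0, Int.negSucc 0, Int.ofNat 1, Int.negSucc 2, Int.negSucc 0, Int.negSucc 0],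
  [Int.negSucc 0, Int.negSucc 0, Int.negSucc 0, Int.negSucc 0, Int.negSucc 0, Int.ofNat 1, Int.ofNat 1, Int.ofNat 1, Int.negSucc 0, Int.negSucc 0, Int.ofNat 1, Int.ofNat 1, Int.negSucc 0, Int.negSucc 0, Int.negSucc 0, Int.negSucc 0, Int.negSucc 0, Int.ofNat 1, Int.negSucc 2, Int.negSucc 0, Int.ofNat 1, Int.negSucc 0, Int.negSucc 0, Int.negSucc 0],
  [Int.negSucc 0, Int.negSucc 0, Int.negSucc 0, Int.negSucc 0, Int.ofNat 1, Int.ofNat 1, Int.ofNat 1, Int.ofNat 1, Int.ofNat 1, Int.negSucc 0, Int.ofNat 1, Int.ofNat 3, Int.ofNat 1, Int.ofNat 1, Int.negSucc 0, Int.negSucc 0, Int.ofNat 1, Int.ofNat 1, Int.negSucc 0, Int.negSucc 0, Int.ofNat 1, Int.negSucc 0, Int.ofNat 1, Int.negSucc 0],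
  [Int.negSucc 0, Int.ofNat 1, Int.ofNat 1, Int.negSucc 0, Int.negSucc 0, Int.ofNat 1, Int.negSucc 0, Int.ofNat 1, Int.ofNat 1, Int.ofNat 1, Int.ofNat 1, Int.ofNat 1, Int.negSucc 0, Int.ofNat 1, Int.ofNat 1, Int.negSucc 0, Int.ofNat 1, Int.negSucc 0, Int.negSucc 0, Int.ofNat 3, Int.negSucc 0, Int.ofNat 1, Int.negSucc 0, Int.negSucc 0],
  [Int.ofNat 1, Int.negSucc 0, Int.negSucc 0, Int.negSucc 0, Int.negSucc 0, Int.ofNat 1, Int.negSucc 2, Int.negSucc 0, Int.ofNat 1, Int.ofNat 1, Int.ofNat 1, Int.ofNat 1, Int.negSucc 0, Int.ofNat 1, Int.ofNat 1, Int.negSucc 0, Int.ofNat 1, Int.negSucc 0, Int.negSucc 0, Int.ofNat 1, Int.negSucc 0, Int.negSucc 0, Int.negSucc 0, Int.ofNat 1],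
  [Int.ofNat 1, Int.negSucc 0, Int.ofNat 1, Int.negSucc 0, Int.negSucc 0, Int.negSucc 0, Int.ofNat 3, Int.negSucc 0, Int.ofNat 1, Int.negSucc 0, Int.negSucc 0, Int.ofNat 1, Int.negSucc 0, Int.ofNat 1, Int.ofNat 1, Int.ofNat 1, Int.ofNat 1, Int.negSucc 0, Int.ofNat 1, Int.ofNat 1, Int.negSucc 0, Int.negSucc 0, Int.ofNat 1, Int.ofNat 1],
  [Int.ofNat 1, Int.negSucc 0, Int.ofNat 1, Int.ofNat 1, Int.negSucc 0, Int.ofNat 1, Int.ofNat 1, Int.negSucc 0, Int.ofNat 1, Int.negSucc 0, Int.ofNat 1, Int.negSucc 0, Int.negSucc 0, Int.negSucc 0, Int.negSucc 0, Int.negSucc 0, Int.ofNat 1, Int.ofNat 1, Int.negSucc 0, Int.ofNat 1, Int.ofNat 3, Int.ofNat 1, Int.negSucc 0, Int.ofNat 1],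
  [Int.ofNat 1, Int.negSucc 0, Int.negSucc 0, Int.ofNat 1, Int.negSucc 0, Int.negSucc 0, Int.negSucc 0, Int.negSucc 0, Int.ofNat 1, Int.ofNat 1, Int.negSucc 0, Int.negSucc 0, Int.negSucc 0, Int.negSucc 0, Int.negSucc 0, Int.ofNat 1, Int.ofNat 1, Int.ofNat 1, Int.ofNat 1, Int.ofNat 1, Int.ofNat 3, Int.ofNat 1, Int.ofNat 1, Int.ofNat 1],
  [Int.negSucc 0, Int.ofNat 1, Int.ofNat 1, Int.ofNat 1, Int.negSucc 0, Int.negSucc 0, Int.negSucc 0, Int.negSucc 0, Int.ofNat 1, Int.negSucc 0, Int.negSucc 2, Int.negSucc 0, Int.negSucc 0, Int.negSucc 0, Int.negSucc 0, Int.negSucc 0, Int.ofNat 1, Int.ofNat 1, Int.ofNat 1, Int.ofNat 1, Int.ofNat 1, Int.ofNat 1, Int.ofNat 1, Int.negSucc 0],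
  [Int.negSucc 0, Int.ofNat 1, Int.negSucc 0, Int.ofNat 1, Int.ofNat 1, Int.ofNat 1, Int.ofNat 1, Int.negSucc 0, Int.ofNat 1, Int.negSucc 0, Int.negSucc 0, Int.ofNat 1, Int.ofNat 1, Int.negSucc 0, Int.ofNat 1, Int.negSucc 0, Int.negSucc 0, Int.negSucc 0, Int.negSucc 0, Int.ofNat 1, Int.negSucc 2, Int.ofNat 1, Int.negSucc 0, Int.negSucc 0],
  [Int.ofNat 0, Int.negSucc 1, Int.ofNat 0, Int.ofNat 0, Int.ofNat 2, Int.ofNat 0, Int.ofNat 0, Int.negSucc 1, Int.ofNat 0, Int.ofNat 2, Int.ofNat 2, Int.ofNat 0, Int.ofNat 0, Int.ofNat 0, Int.ofNat 0, Int.ofNat 2, Int.ofNat 0, Int.negSucc 1, Int.negSucc 1, Int.ofNat 0, Int.ofNat 0, Int.ofNat 0, Int.ofNat 0, Int.ofNat 0],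
  [Int.ofNat 0, Int.ofNat 0, Int.ofNat 0, Int.ofNat 0, Int.negSucc 1, Int.ofNat 0, Int.ofNat 0, Int.ofNat 2, Int.ofNat 0, Int.ofNat 0, Int.negSucc 1, Int.ofNat 0, Int.ofNat 2, Int.ofNat 2, Int.ofNat 0, Int.ofNat 0, Int.ofNat 0, Int.ofNat 0, Int.ofNat 2, Int.ofNat 0, Int.negSucc 1, Int.negSucc 1, Int.ofNat 0, Int.ofNat 0],
  [Int.ofNat 0, Int.ofNat 0, Int.ofNat 0, Int.ofNat 0, Int.negSucc 1, Int.ofNat 0, Int.ofNat 0, Int.ofNat 2, Int.negSucc 1, Int.ofNat 2, Int.ofNat 0, Int.negSucc 1, Int.ofNat 0, Int.ofNat 2, Int.ofNat 0, Int.ofNat 2, Int.ofNat 0, Int.ofNat 0, Int.ofNat 0, Int.ofNat 0, Int.ofNat 0, Int.negSucc 1, Int.ofNat 0, Int.ofNat 0],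
  [Int.ofNat 0, Int.ofNat 0, Int.ofNat 0, Int.negSucc 1, Int.ofNat 0, Int.ofNat 0, Int.ofNat 2, Int.negSucc 1, Int.ofNat 2, Int.ofNat 0, Int.negSucc 1, Int.ofNat 0, Int.ofNat 2, Int.ofNat 0, Int.ofNat 2, Int.ofNat 0, Int.ofNat 0, Int.ofNat 0, Int.ofNat 0, Int.ofNat 0, Int.negSucc 1, Int.ofNat 0, Int.ofNat 0, Int.ofNat 0],
  [Int.ofNat 0, Int.ofNat 0, Int.ofNat 0, Int.negSucc 1, Int.ofNat 0, Int.ofNat 0, Int.ofNat 2, Int.ofNat 2, Int.ofNat 2, Int.ofNat 0, Int.ofNat 2, Int.ofNat 0, Int.ofNat 2, Int.ofNat 0, Int.ofNat 2, Int.ofNat 0, Int.ofNat 0, Int.ofNat 0, Int.ofNat 0, Int.ofNat 0, Int.negSucc 1, Int.ofNat 0, Int.ofNat 0, Int.ofNat 0],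
  [Int.ofNat 0, Int.ofNat 0, Int.ofNat 0, Int.ofNat 2, Int.ofNat 0, Int.ofNat 0, Int.negSucc 1, Int.ofNat 2, Int.negSucc 1, Int.ofNat 0, Int.ofNat 2, Int.ofNat 0, Int.negSucc 1, Int.ofNat 0, Int.ofNat 2, Int.ofNat 0, Int.ofNat 0, Int.ofNat 0, Int.ofNat 0, Int.ofNat 0, Int.negSucc 1, Int.ofNat 0, Int.ofNat 0, Int.ofNat 0],
  [Int.ofNat 0, Int.ofNat 0, Int.ofNat 0, Int.ofNat 0, Int.ofNat 0, Int.ofNat 0, Int.ofNat 0, Int.ofNat 0, Int.negSucc 1, Int.ofNat 0, Int.ofNat 0, Int.ofNat 0, Int.ofNat 0, Int.ofNat 2, Int.ofNat 0, Int.ofNat 2, Int.ofNat 2, Int.ofNat 0, Int.ofNat 2, Int.negSucc 1, Int.negSucc 1, Int.negSucc 1, Int.ofNat 0, Int.ofNat 0],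
  [Int.ofNat 0, Int.ofNat 0, Int.ofNat 0, Int.ofNat 0, Int.ofNat 0, Int.ofNat 0, Int.ofNat 0, Int.ofNat 0, Int.negSucc 1, Int.ofNat 0, Int.ofNat 0, Int.ofNat 0, Int.ofNat 0, Int.ofNat 2, Int.ofNat 0, Int.ofNat 2, Int.ofNat 2, Int.ofNat 0, Int.negSucc 1, Int.negSucc 1, Int.negSucc 1, Int.ofNat 2, Int.ofNat 0, Int.ofNat 0],
  [Int.ofNat 0, Int.ofNat 0, Int.ofNat 0, Int.ofNat 0, Int.ofNat 0, Int.ofNat 0, Int.ofNat 0, Int.ofNat 0, Int.ofNat 0, Int.negSucc 1, Int.ofNat 0, Int.ofNat 0, Int.ofNat 0, Int.ofNat 0, Int.ofNat 2, Int.ofNat 0, Int.ofNat 2, Int.ofNat 2, Int.ofNat 0, Int.negSucc 1, Int.negSucc 1, Int.negSucc 1, Int.ofNat 2, Int.ofNat 0],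
  [Int.ofNat 0, Int.ofNat 0, Int.ofNat 0, Int.negSucc 1, Int.negSucc 1, Int.negSucc 1, Int.ofNat 2, Int.ofNat 2, Int.ofNat 0, Int.ofNat 0, Int.ofNat 2, Int.ofNat 0, Int.ofNat 0, Int.negSucc 1, Int.ofNat 0, Int.ofNat 2, Int.ofNat 0, Int.ofNat 0, Int.ofNat 0, Int.ofNat 0, Int.ofNat 0, Int.ofNat 0, Int.ofNat 0, Int.ofNat 0],
  [Int.negSucc 1, Int.negSucc 1, Int.negSucc 1, Int.ofNat 2, Int.ofNat 2, Int.ofNat 0, Int.ofNat 0, Int.ofNat 2, Int.ofNat 0, Int.ofNat 0, Int.negSucc 1, Int.ofNat 0, Int.ofNat 2, Int.ofNat 0, Int.ofNat 0, Int.ofNat 0, Int.ofNat 0, Int.ofNat 0, Int.ofNat 0, Int.ofNat 0, Int.ofNat 0, Int.ofNat 0, Int.ofNat 0, Int.ofNat 0],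
  [Int.negSucc 0, Int.negSucc 0, Int.negSucc 0, Int.ofNat 1, Int.ofNat 1, Int.negSucc 0, Int.negSucc 0, Int.ofNat 1, Int.negSucc 0, Int.ofNat 1, Int.negSucc 0, Int.negSucc 0, Int.ofNat 1, Int.negSucc 0, Int.negSucc 0, Int.ofNat 1, Int.negSucc 0, Int.negSucc 0, Int.negSucc 0, Int.negSucc 0, Int.ofNat 1, Int.negSucc 0, Int.negSucc 0, Int.negSucc 2],
  [Int.negSucc 0, Int.negSucc 0, Int.ofNat 1, Int.ofNat 1, Int.negSucc 0, Int.ofNat 1, Int.negSucc 0, Int.negSucc 0, Int.ofNat 1, Int.negSucc 0, Int.ofNat 1, Int.negSucc 0, Int.ofNat 1, Int.negSucc 0, Int.negSucc 0, Int.ofNat 1, Int.negSucc 0, Int.negSucc 0, Int.negSucc 0, Int.negSucc 0, Int.negSucc 0, Int.negSucc 0, Int.negSucc 0, Int.negSucc 2],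
  [Int.negSucc 0, Int.negSucc 0, Int.negSucc 2, Int.ofNat 1, Int.ofNat 1, Int.ofNat 1, Int.ofNat 1, Int.ofNat 1, Int.ofNat 1, Int.negSucc 0, Int.ofNat 1, Int.negSucc 0, Int.ofNat 1, Int.ofNat 1, Int.negSucc 0, Int.ofNat 1, Int.ofNat 1, Int.negSucc 0, Int.negSucc 0, Int.ofNat 1, Int.negSucc 0, Int.ofNat 1, Int.ofNat 1, Int.ofNat 1],
  [Int.negSucc 0, Int.negSucc 0, Int.ofNat 3, Int.ofNat 1, Int.ofNat 1, Int.negSucc 0, Int.negSucc 0, Int.ofNat 1, Int.ofNat 1, Int.ofNat 1, Int.negSucc 0, Int.negSucc 0, Int.ofNat 1, Int.ofNat 1, Int.negSucc 0, Int.negSucc 0, Int.ofNat 1, Int.negSucc 0, Int.ofNat 1, Int.ofNat 1, Int.negSucc 0, Int.ofNat 1, Int.negSucc 0, Int.ofNat 1],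
  [Int.ofNat 1, Int.ofNat 1, Int.ofNat 1, Int.ofNat 1, Int.negSucc 0, Int.negSucc 0, Int.ofNat 1, Int.ofNat 1, Int.negSucc 0, Int.negSucc 0, Int.ofNat 3, Int.negSucc 0, Int.ofNat 1, Int.ofNat 1, Int.negSucc 0, Int.negSucc 0, Int.negSucc 0, Int.ofNat 1, Int.ofNat 1, Int.negSucc 0, Int.negSucc 0, Int.negSucc 0, Int.ofNat 1, Int.ofNat 1],
  [Int.ofNat 1, Int.ofNat 1, Int.negSucc 0, Int.ofNat 1, Int.negSucc 0, Int.ofNat 1, Int.negSucc 0, Int.ofNat 1, Int.negSucc 0, Int.ofNat 1, Int.negSucc 2, Int.negSucc 0, Int.ofNat 1, Int.ofNat 1, Int.negSucc 0, Int.ofNat 1, Int.negSucc 0, Int.ofNat 1, Int.negSucc 0, Int.negSucc 0, Int.negSucc 0, Int.negSucc 0, Int.negSucc 0, Int.ofNat 1],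
  [Int.ofNat 0, Int.ofNat 0, Int.ofNat 2, Int.ofNat 0, Int.ofNat 0, Int.ofNat 0, Int.ofNat 0, Int.ofNat 2, Int.ofNat 0, Int.ofNat 2, Int.negSucc 1, Int.ofNat 0, Int.ofNat 2, Int.ofNat 2, Int.negSucc 1, Int.ofNat 2, Int.ofNat 0, Int.ofNat 0, Int.ofNat 0, Int.ofNat 0, Int.ofNat 0, Int.ofNat 0, Int.ofNat 0, Int.ofNat 0],
  [Int.ofNat 0, Int.ofNat 0, Int.ofNat 0, Int.ofNat 0, Int.ofNat 2, Int.ofNat 0, Int.ofNat 0, Int.ofNat 0, Int.ofNat 0, Int.ofNat 2, Int.ofNat 2, Int.ofNat 0, Int.ofNat 0, Int.ofNat 2, Int.ofNat 0, Int.ofNat 2, Int.ofNat 2, Int.ofNat 0, Int.ofNat 0, Int.ofNat 0, Int.negSucc 1, Int.ofNat 0, Int.negSucc 1, Int.ofNat 0],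
  [Int.ofNat 0, Int.ofNat 0, Int.ofNat 0, Int.ofNat 0, Int.ofNat 0, Int.ofNat 0, Int.ofNat 0, Int.ofNat 0, Int.ofNat 0, Int.ofNat 0, Int.ofNat 0, Int.ofNat 0, Int.ofNat 0, Int.ofNat 0, Int.ofNat 0, Int.ofNat 0, Int.ofNat 0, Int.ofNat 0, Int.ofNat 0, Int.ofNat 0, Int.negSucc 3, Int.ofNat 0, Int.negSucc 3, Int.ofNat 0],
  [Int.negSucc 3, Int.ofNat 0, Int.negSucc 3, Int.ofNat 0, Int.ofNat 0, Int.ofNat 0, Int.ofNat 0, Int.ofNat 0, Int.ofNat 0, Int.ofNat 0, Int.ofNat 0, Int.ofNat 0, Int.ofNat 0, Int.ofNat 0, Int.ofNat 0, Int.ofNat 0, Int.ofNat 0, Int.ofNat 0, Int.ofNat 0, Int.ofNat 0, Int.ofNat 0, Int.ofNat 0, Int.ofNat 0, Int.ofNat 0],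
  [Int.ofNat 0, Int.negSucc 3, Int.ofNat 0, Int.ofNat 0, Int.ofNat 0, Int.ofNat 0, Int.ofNat 0, Int.ofNat 0, Int.ofNat 0, Int.ofNat 0, Int.ofNat 0, Int.ofNat 0, Int.ofNat 0, Int.ofNat 0, Int.ofNat 0, Int.ofNat 0, Int.ofNat 0, Int.ofNat 0, Int.ofNat 0, Int.ofNat 0, Int.ofNat 0, Int.ofNat 0, Int.ofNat 0, Int.negSucc 3],
  [Int.negSucc 3, Int.ofNat 0, Int.ofNat 0, Int.ofNat 0, Int.ofNat 0, Int.ofNat 0, Int.ofNat 0, Int.ofNat 0, Int.ofNat 0, Int.ofNat 0, Int.ofNat 0, Int.ofNat 0, Int.ofNat 0, Int.ofNat 0, Int.ofNat 0, Int.ofNat 0, Int.ofNat 0, Int.ofNat 0, Int.ofNat 0, Int.ofNat 0, Int.ofNat 0, Int.ofNat 0, Int.ofNat 0, Int.negSucc 3],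
  [Int.ofNat 4, Int.ofNat 0, Int.ofNat 0, Int.ofNat 0, Int.ofNat 0, Int.ofNat 0, Int.ofNat 0, Int.ofNat 0, Int.ofNat 0, Int.ofNat 0, Int.ofNat 0, Int.ofNat 0, Int.ofNat 0, Int.ofNat 0, Int.ofNat 0, Int.ofNat 0, Int.ofNat 0, Int.ofNat 0, Int.ofNat 0, Int.ofNat 0, Int.ofNat 0, Int.ofNat 0, Int.ofNat 0, Int.negSucc 3],
  [Int.negSucc 3, Int.ofNat 0, Int.ofNat 0, Int.ofNat 0, Int.ofNat 0, Int.ofNat 0, Int.ofNat 0, Int.ofNat 0, Int.ofNat 0, Int.ofNat 0, Int.ofNat 0, Int.ofNat 0, Int.ofNat 0, Int.ofNat 0, Int.ofNat 0, Int.ofNat 0, Int.ofNat 0, Int.ofNat 0, Int.ofNat 0, Int.ofNat 0, Int.ofNat 0, Int.ofNat 0, Int.ofNat 0, Int.negSucc 3],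
  [Int.negSucc 3, Int.ofNat 0, Int.ofNat 0, Int.ofNat 0, Int.ofNat 0, Int.ofNat 0, Int.ofNat 0, Int.ofNat 0, Int.ofNat 0, Int.ofNat 0, Int.ofNat 0, Int.ofNat 0, Int.ofNat 0, Int.ofNat 0, Int.ofNat 0, Int.ofNat 0, Int.ofNat 0, Int.ofNat 0, Int.ofNat 0, Int.ofNat 0, Int.ofNat 0, Int.ofNat 0, Int.ofNat 0, Int.negSucc 3],
  [Int.ofNat 4, Int.ofNat 0, Int.ofNat 0, Int.ofNat 0, Int.ofNat 0, Int.ofNat 0, Int.ofNat 0, Int.ofNat 0, Int.ofNat 0, Int.ofNat 0, Int.ofNat 0, Int.ofNat 0, Int.ofNat 0, Int.ofNat 0, Int.ofNat 0, Int.ofNat 0, Int.ofNat 0, Int.ofNat 0, Int.ofNat 0, Int.ofNat 0, Int.ofNat 0, Int.ofNat 0, Int.ofNat 0, Int.negSucc 3],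
  [Int.ofNat 0, Int.ofNat 4, Int.ofNat 0, Int.ofNat 0, Int.ofNat 0, Int.ofNat 0, Int.ofNat 0, Int.ofNat 0, Int.ofNat 0, Int.ofNat 0, Int.ofNat 0, Int.ofNat 0, Int.ofNat 0, Int.ofNat 0, Int.ofNat 0, Int.ofNat 0, Int.ofNat 0, Int.ofNat 0, Int.ofNat 0, Int.ofNat 0, Int.ofNat 0, Int.ofNat 0, Int.ofNat 0, Int.negSucc 3],
  [Int.ofNat 0, Int.negSucc 3, Int.ofNat 0, Int.ofNat 0, Int.ofNat 0, Int.ofNat 0, Int.ofNat 0, Int.ofNat 0, Int.ofNat 0, Int.ofNat 0, Int.ofNat 0, Int.ofNat 0, Int.ofNat 0, Int.ofNat 0, Int.ofNat 0, Int.ofNat 0, Int.ofNat 0, Int.ofNat 0, Int.ofNat 0, Int.ofNat 0, Int.ofNat 0, Int.ofNat 0, Int.ofNat 0, Int.ofNat 4],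
  [Int.ofNat 0, Int.ofNat 0, Int.ofNat 0, Int.ofNat 0, Int.ofNat 0, Int.ofNat 0, Int.ofNat 0, Int.ofNat 0, Int.ofNat 0, Int.ofNat 0, Int.ofNat 0, Int.ofNat 0, Int.ofNat 0, Int.ofNat 0, Int.ofNat 0, Int.ofNat 0, Int.ofNat 0, Int.ofNat 0, Int.ofNat 0, Int.ofNat 0, Int.ofNat 0, Int.negSucc 3, Int.ofNat 0, Int.ofNat 4],
  [Int.ofNat 2, Int.ofNat 2, Int.ofNat 2, Int.ofNat 0, Int.ofNat 0, Int.ofNat 0, Int.ofNat 2, Int.ofNat 2, Int.ofNat 0, Int.ofNat 0, Int.ofNat 0, Int.ofNat 0, Int.ofNat 0, Int.ofNat 0, Int.ofNat 0, Int.ofNat 0, Int.ofNat 0, Int.ofNat 0, Int.ofNat 0, Int.ofNat 2, Int.ofNat 0, Int.negSucc 1, Int.ofNat 0, Int.negSucc 1],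
  [Int.ofNat 2, Int.ofNat 2, Int.ofNat 0, Int.ofNat 0, Int.ofNat 0, Int.ofNat 2, Int.ofNat 2, Int.ofNat 0, Int.ofNat 0, Int.ofNat 0, Int.ofNat 0, Int.ofNat 0, Int.ofNat 0, Int.ofNat 0, Int.ofNat 0, Int.ofNat 0, Int.ofNat 0, Int.ofNat 0, Int.ofNat 2, Int.ofNat 0, Int.negSucc 1, Int.ofNat 0, Int.ofNat 2, Int.negSucc 1],
  [Int.negSucc 0, Int.negSucc 0, Int.ofNat 1, Int.negSucc 0, Int.negSucc 0, Int.ofNat 1, Int.ofNat 1, Int.negSucc 0, Int.negSucc 0, Int.ofNat 1, Int.ofNat 1, Int.negSucc 0, Int.negSucc 0, Int.negSucc 0, Int.negSucc 0, Int.ofNat 1, Int.negSucc 0, Int.negSucc 0, Int.ofNat 1, Int.negSucc 0, Int.negSucc 0, Int.negSucc 0, Int.ofNat 1, Int.ofNat 3],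
  [Int.negSucc 0, Int.negSucc 0, Int.negSucc 0, Int.negSucc 0, Int.negSucc 0, Int.negSucc 0, Int.negSucc 0, Int.negSucc 0, Int.negSucc 0, Int.negSucc 0, Int.negSucc 0, Int.negSucc 0, Int.negSucc 0, Int.negSucc 0, Int.negSucc 0, Int.negSucc 0, Int.negSucc 0, Int.negSucc 0, Int.negSucc 0, Int.negSucc 0, Int.negSucc 0, Int.negSucc 0, Int.negSucc 0, Int.ofNat 3],
  [Int.negSucc 0, Int.negSucc 0, Int.negSucc 0, Int.negSucc 0, Int.negSucc 0, Int.negSucc 0, Int.negSucc 0, Int.negSucc 0, Int.negSucc 0, Int.negSucc 0, Int.negSucc 0, Int.negSucc 0, Int.negSucc 0, Int.negSucc 0, Int.negSucc 0, Int.negSucc 0, Int.negSucc 0, Int.negSucc 0, Int.negSucc 0, Int.negSucc 0, Int.negSucc 0, Int.negSucc 0, Int.negSucc 0, Int.ofNat 3],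
  [Int.negSucc 0, Int.negSucc 0, Int.ofNat 1, Int.negSucc 0, Int.negSucc 0, Int.ofNat 1, Int.ofNat 1, Int.negSucc 0, Int.negSucc 0, Int.ofNat 1, Int.ofNat 1, Int.negSucc 0, Int.negSucc 0, Int.negSucc 0, Int.negSucc 0, Int.ofNat 1, Int.negSucc 0, Int.negSucc 0, Int.ofNat 1, Int.negSucc 0, Int.negSucc 0, Int.negSucc 0, Int.ofNat 1, Int.ofNat 3],
  [Int.ofNat 2, Int.ofNat 2, Int.ofNat 0, Int.ofNat 0, Int.ofNat 0, Int.ofNat 2, Int.ofNat 2, Int.ofNat 0, Int.ofNat 0, Int.ofNat 0, Int.ofNat 0, Int.ofNat 0, Int.ofNat 0, Int.ofNat 0, Int.ofNat 0, Int.ofNat 0, Int.ofNat 0, Int.ofNat 0, Int.ofNat 2, Int.ofNat 0, Int.negSucc 1, Int.ofNat 0, Int.ofNat 2, Int.negSucc 1],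
  [Int.ofNat 2, Int.ofNat 2, Int.ofNat 2, Int.ofNat 0, Int.ofNat 0, Int.ofNat 0, Int.ofNat 2, Int.ofNat 2, Int.ofNat 0, Int.ofNat 0, Int.ofNat 0, Int.ofNat 0, Int.ofNat 0, Int.ofNat 0, Int.ofNat 0, Int.ofNat 0, Int.ofNat 0, Int.ofNat 0, Int.ofNat 0, Int.ofNat 2, Int.ofNat 0, Int.negSucc 1, Int.ofNat 0, Int.negSucc 1],
  [Int.ofNat 0, Int.ofNat 0, Int.ofNat 0, Int.ofNat 0, Int.ofNat 0, Int.ofNat 0, Int.ofNat 0, Int.ofNat 0, Int.ofNat 0, Int.ofNat 0, Int.ofNat 0, Int.ofNat 0, Int.ofNat 0, Int.ofNat 0, Int.ofNat 0, Int.ofNat 0, Int.ofNat 0, Int.ofNat 0, Int.ofNat 0, Int.ofNat 0, Int.ofNat 0, Int.negSucc 3, Int.ofNat 0, Int.ofNat 4],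
  [Int.ofNat 0, Int.negSucc 3, Int.ofNat 0, Int.ofNat 0, Int.ofNat 0, Int.ofNat 0, Int.ofNat 0, Int.ofNat 0, Int.ofNat 0, Int.ofNat 0, Int.ofNat 0, Int.ofNat 0, Int.ofNat 0, Int.ofNat 0, Int.ofNat 0, Int.ofNat 0, Int.ofNat 0, Int.ofNat 0, Int.ofNat 0, Int.ofNat 0, Int.ofNat 0, Int.ofNat 0, Int.ofNat 0, Int.ofNat 4],
  [Int.ofNat 0, Int.ofNat 4, Int.ofNat 0, Int.ofNat 0, Int.ofNat 0, Int.ofNat 0, Int.ofNat 0, Int.ofNat 0, Int.ofNat 0, Int.ofNat 0, Int.ofNat 0, Int.ofNat 0, Int.ofNat 0, Int.ofNat 0, Int.ofNat 0, Int.ofNat 0, Int.ofNat 0, Int.ofNat 0, Int.ofNat 0, Int.ofNat 0, Int.ofNat 0, Int.ofNat 0, Int.ofNat 0, Int.negSucc 3],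
  [Int.ofNat 4, Int.ofNat 0, Int.ofNat 0, Int.ofNat 0, Int.ofNat 0, Int.ofNat 0, Int.ofNat 0, Int.ofNat 0, Int.ofNat 0, Int.ofNat 0, Int.ofNat 0, Int.ofNat 0, Int.ofNat 0, Int.ofNat 0, Int.ofNat 0, Int.ofNat 0, Int.ofNat 0, Int.ofNat 0, Int.ofNat 0, Int.ofNat 0, Int.ofNat 0, Int.ofNat 0, Int.ofNat 0, Int.negSucc 3],
  [Int.negSucc 3, Int.ofNat 0, Int.ofNat 0, Int.ofNat 0, Int.ofNat 0, Int.ofNat 0, Int.ofNat 0, Int.ofNat 0, Int.ofNat 0, Int.ofNat 0, Int.ofNat 0, Int.ofNat 0, Int.ofNat 0, Int.ofNat 0, Int.ofNat 0, Int.ofNat 0, Int.ofNat 0, Int.ofNat 0, Int.ofNat 0, Int.ofNat 0, Int.ofNat 0, Int.ofNat 0, Int.ofNat 0, Int.negSucc 3],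
  [Int.ofNat 4, Int.ofNat 0, Int.ofNat 0, Int.ofNat 0, Int.ofNat 0, Int.ofNat 0, Int.ofNat 0, Int.ofNat 0, Int.ofNat 0, Int.ofNat 0, Int.ofNat 0, Int.ofNat 0, Int.ofNat 0, Int.ofNat 0, Int.ofNat 0, Int.ofNat 0, Int.ofNat 0, Int.ofNat 0, Int.ofNat 0, Int.ofNat 0, Int.ofNat 0, Int.ofNat 0, Int.ofNat 0, Int.negSucc 3],
  [Int.negSucc 3, Int.ofNat 0, Int.ofNat 0, Int.ofNat 0, Int.ofNat 0, Int.ofNat 0, Int.ofNat 0, Int.ofNat 0, Int.ofNat 0, Int.ofNat 0, Int.ofNat 0, Int.ofNat 0, Int.ofNat 0, Int.ofNat 0, Int.ofNat 0, Int.ofNat 0, Int.ofNat 0, Int.ofNat 0, Int.ofNat 0, Int.ofNat 0, Int.ofNat 0, Int.ofNat 0, Int.ofNat 0, Int.ofNat 4],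
  [Int.ofNat 4, Int.ofNat 0, Int.ofNat 0, Int.ofNat 0, Int.ofNat 0, Int.ofNat 0, Int.ofNat 0, Int.ofNat 0, Int.ofNat 0, Int.ofNat 0, Int.ofNat 0, Int.ofNat 0, Int.ofNat 0, Int.ofNat 0, Int.ofNat 0, Int.ofNat 0, Int.ofNat 0, Int.ofNat 0, Int.ofNat 0, Int.ofNat 0, Int.ofNat 0, Int.ofNat 0, Int.ofNat 0, Int.ofNat 4],
  [Int.ofNat 0, Int.ofNat 4, Int.ofNat 0, Int.ofNat 0, Int.ofNat 0, Int.ofNat 0, Int.ofNat 0, Int.ofNat 0, Int.ofNat 0, Int.ofNat 0, Int.ofNat 0, Int.ofNat 0, Int.ofNat 0, Int.ofNat 0, Int.ofNat 0, Int.ofNat 0, Int.ofNat 0, Int.ofNat 0, Int.ofNat 0, Int.ofNat 0, Int.ofNat 0, Int.ofNat 0, Int.ofNat 0, Int.ofNat 4],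
  [Int.ofNat 4, Int.ofNat 0, Int.ofNat 4, Int.ofNat 0, Int.ofNat 0, Int.ofNat 0, Int.ofNat 0, Int.ofNat 0, Int.ofNat 0, Int.ofNat 0, Int.ofNat 0, Int.ofNat 0, Int.ofNat 0, Int.ofNat 0, Int.ofNat 0, Int.ofNat 0, Int.ofNat 0, Int.ofNat 0, Int.ofNat 0, Int.ofNat 0, Int.ofNat 0, Int.ofNat 0, Int.ofNat 0, Int.ofNat 0],
  [Int.ofNat 0, Int.ofNat 0, Int.ofNat 0, Int.ofNat 0, Int.ofNat 0, Int.ofNat 0, Int.ofNat 0, Int.ofNat 0, Int.ofNat 0, Int.ofNat 0, Int.ofNat 0, Int.ofNat 0, Int.ofNat 0, Int.ofNat 0, Int.ofNat 0, Int.ofNat 0, Int.ofNat 0, Int.ofNat 0, Int.ofNat 0, Int.ofNat 0, Int.ofNat 4, Int.ofNat 0, Int.ofNat 4, Int.ofNat 0],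
  [Int.ofNat 0, Int.ofNat 0, Int.ofNat 0, Int.ofNat 0, Int.negSucc 1, Int.ofNat 0, Int.ofNat 0, Int.ofNat 0, Int.ofNat 0, Int.negSucc 1, Int.negSucc 1, Int.ofNat 0, Int.ofNat 0, Int.negSucc 1, Int.ofNat 0, Int.negSucc 1, Int.negSucc 1, Int.ofNat 0, Int.ofNat 0, Int.ofNat 0, Int.ofNat 2, Int.ofNat 0, Int.ofNat 2, Int.ofNat 0],
  [Int.ofNat 0, Int.ofNat 0, Int.negSucc 1, Int.ofNat 0, Int.ofNat 0, Int.ofNat 0, Int.ofNat 0, Int.negSucc 1, Int.ofNat 0, Int.negSucc 1, Int.ofNat 2, Int.ofNat 0, Int.negSucc 1, Int.negSucc 1, Int.ofNat 2, Int.negSucc 1, Int.ofNat 0, Int.ofNat 0, Int.ofNat 0, Int.ofNat 0, Int.ofNat 0, Int.ofNat 0, Int.ofNat 0, Int.ofNat 0],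
  [Int.negSucc 0, Int.negSucc 0, Int.ofNat 1, Int.negSucc 0, Int.ofNat 1, Int.negSucc 0, Int.ofNat 1, Int.negSucc 0, Int.ofNat 1, Int.negSucc 0, Int.ofNat 3, Int.ofNat 1, Int.negSucc 0, Int.negSucc 0, Int.ofNat 1, Int.negSucc 0, Int.ofNat 1, Int.negSucc 0, Int.ofNat 1, Int.ofNat 1, Int.ofNat 1, Int.ofNat 1, Int.ofNat 1, Int.negSucc 0],
  [Int.negSucc 0, Int.negSucc 0, Int.negSucc 0, Int.negSucc 0, Int.ofNat 1, Int.ofNat 1, Int.negSucc 0, Int.negSucc 0, Int.ofNat 1, Int.ofNat 1, Int.negSucc 2, Int.ofNat 1, Int.negSucc 0, Int.negSucc 0, Int.ofNat 1, Int.ofNat 1, Int.ofNat 1, Int.negSucc 0, Int.negSucc 0, Int.ofNat 1, Int.ofNat 1, Int.ofNat 1, Int.negSucc 0, Int.negSucc 0],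
  [Int.ofNat 1, Int.negSucc 0, Int.negSucc 0, Int.ofNat 1, Int.ofNat 1, Int.ofNat 1, Int.ofNat 1, Int.negSucc 0, Int.negSucc 0, Int.negSucc 0, Int.negSucc 0, Int.negSucc 0, Int.ofNat 1, Int.ofNat 1, Int.negSucc 2, Int.ofNat 1, Int.negSucc 0, Int.negSucc 0, Int.negSucc 0, Int.ofNat 1, Int.negSucc 0, Int.ofNat 1, Int.ofNat 1, Int.negSucc 0],
  [Int.ofNat 1, Int.negSucc 0, Int.ofNat 1, Int.ofNat 1, Int.ofNat 1, Int.negSucc 0, Int.negSucc 0, Int.negSucc 0, Int.negSucc 0, Int.ofNat 1, Int.ofNat 1, Int.negSucc 0, Int.ofNat 1, Int.ofNat 1, Int.negSucc 2, Int.negSucc 0, Int.negSucc 0, Int.negSucc 0, Int.ofNat 1, Int.ofNat 1, Int.negSucc 0, Int.ofNat 1, Int.negSucc 0, Int.negSucc 0],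
  [Int.negSucc 0, Int.ofNat 1, Int.negSucc 0, Int.ofNat 3, Int.ofNat 1, Int.ofNat 1, Int.negSucc 0, Int.negSucc 0, Int.negSucc 0, Int.ofNat 1, Int.ofNat 1, Int.negSucc 0, Int.ofNat 1, Int.ofNat 1, Int.negSucc 0, Int.negSucc 0, Int.negSucc 0, Int.ofNat 1, Int.ofNat 1, Int.ofNat 1, Int.negSucc 0, Int.ofNat 1, Int.negSucc 0, Int.ofNat 1],
  [Int.negSucc 0, Int.ofNat 1, Int.negSucc 0, Int.ofNat 3, Int.negSucc 0, Int.ofNat 1, Int.ofNat 1, Int.ofNat 1, Int.negSucc 0, Int.ofNat 1, Int.negSucc 0, Int.ofNat 1, Int.negSucc 0, Int.ofNat 1, Int.ofNat 1, Int.negSucc 0, Int.ofNat 1, Int.negSucc 0, Int.ofNat 1, Int.negSucc 0, Int.ofNat 1, Int.negSucc 0, Int.negSucc 0, Int.ofNat 1],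
  [Int.ofNat 1, Int.negSucc 0, Int.ofNat 1, Int.ofNat 1, Int.negSucc 0, Int.negSucc 0, Int.ofNat 1, Int.ofNat 1, Int.negSucc 0, Int.ofNat 1, Int.negSucc 0, Int.ofNat 1, Int.negSucc 0, Int.ofNat 1, Int.negSucc 0, Int.negSucc 0, Int.ofNat 1, Int.negSucc 2, Int.ofNat 1, Int.negSucc 0, Int.ofNat 1, Int.negSucc 0, Int.negSucc 0, Int.negSucc 0],
  [Int.ofNat 1, Int.negSucc 0, Int.negSucc 0, Int.ofNat 1, Int.negSucc 0, Int.ofNat 1, Int.ofNat 1, Int.negSucc 0, Int.negSucc 0, Int.ofNat 1, Int.ofNat 1, Int.negSucc 0, Int.ofNat 1, Int.negSucc 0, Int.ofNat 1, Int.negSucc 0, Int.ofNat 1, Int.negSucc 0, Int.negSucc 0, Int.ofNat 1, Int.negSucc 2, Int.ofNat 1, Int.negSucc 0, Int.negSucc 0],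
  [Int.negSucc 1, Int.ofNat 0, Int.ofNat 0, Int.ofNat 0, Int.ofNat 0, Int.ofNat 0, Int.ofNat 0, Int.negSucc 1, Int.ofNat 0, Int.ofNat 2, Int.ofNat 2, Int.ofNat 0, Int.ofNat 2, Int.ofNat 0, Int.ofNat 0, Int.ofNat 0, Int.ofNat 2, Int.negSucc 1, Int.ofNat 0, Int.ofNat 0, Int.negSucc 1, Int.ofNat 0, Int.ofNat 0, Int.ofNat 0],
  [Int.ofNat 0, Int.ofNat 0, Int.ofNat 0, Int.ofNat 0, Int.ofNat 0, Int.ofNat 0, Int.negSucc 1, Int.ofNat 0, Int.ofNat 2, Int.ofNat 2, Int.ofNat 0, Int.ofNat 2, Int.ofNat 0, Int.ofNat 0, Int.ofNat 0, Int.ofNat 2, Int.negSucc 1, Int.ofNat 0, Int.ofNat 0, Int.negSucc 1, Int.ofNat 0, Int.ofNat 0, Int.negSucc 1, Int.ofNat 0],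
  [Int.ofNat 0, Int.ofNat 0, Int.ofNat 0, Int.ofNat 0, Int.ofNat 0, Int.ofNat 0, Int.negSucc 1, Int.ofNat 0, Int.ofNat 2, Int.negSucc 1, Int.ofNat 0, Int.negSucc 1, Int.ofNat 0, Int.ofNat 0, Int.ofNat 0, Int.ofNat 2, Int.negSucc 1, Int.ofNat 0, Int.ofNat 0, Int.negSucc 1, Int.ofNat 0, Int.ofNat 0, Int.negSucc 1, Int.ofNat 0],
  [Int.ofNat 0, Int.ofNat 0, Int.ofNat 0, Int.ofNat 0, Int.ofNat 0, Int.ofNat 0, Int.ofNat 2, Int.ofNat 0, Int.negSucc 1, Int.ofNat 2, Int.ofNat 0, Int.negSucc 1, Int.ofNat 0, Int.ofNat 0, Int.ofNat 0, Int.ofNat 2, Int.ofNat 2, Int.ofNat 0, Int.ofNat 0, Int.negSucc 1, Int.ofNat 0, Int.ofNat 0, Int.negSucc 1, Int.ofNat 0],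
  [Int.ofNat 0, Int.negSucc 1, Int.negSucc 1, Int.ofNat 2, Int.ofNat 0, Int.ofNat 2, Int.negSucc 1, Int.ofNat 0, Int.ofNat 0, Int.ofNat 0, Int.ofNat 2, Int.ofNat 0, Int.ofNat 0, Int.ofNat 0, Int.ofNat 0, Int.ofNat 0, Int.ofNat 0, Int.ofNat 0, Int.ofNat 0, Int.ofNat 2, Int.negSucc 1, Int.ofNat 0, Int.ofNat 0, Int.ofNat 0],
  [Int.ofNat 0, Int.negSucc 1, Int.ofNat 2, Int.ofNat 2, Int.ofNat 0, Int.ofNat 2, Int.negSucc 1, Int.ofNat 0, Int.ofNat 0, Int.ofNat 0, Int.negSucc 1, Int.ofNat 0, Int.ofNat 0, Int.ofNat 0, Int.ofNat 0, Int.ofNat 0, Int.ofNat 0, Int.ofNat 0, Int.ofNat 0, Int.ofNat 2, Int.negSucc 1, Int.ofNat 0, Int.ofNat 0, Int.ofNat 0],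
  [Int.ofNat 0, Int.ofNat 0, Int.negSucc 1, Int.ofNat 2, Int.ofNat 2, Int.ofNat 0, Int.ofNat 2, Int.negSucc 1, Int.ofNat 0, Int.ofNat 0, Int.ofNat 0, Int.negSucc 1, Int.ofNat 0, Int.ofNat 0, Int.ofNat 0, Int.ofNat 0, Int.ofNat 0, Int.ofNat 0, Int.ofNat 0, Int.ofNat 0, Int.ofNat 2, Int.negSucc 1, Int.ofNat 0, Int.ofNat 0],
  [Int.negSucc 0, Int.negSucc 0, Int.ofNat 1, Int.ofNat 1, Int.ofNat 1, Int.negSucc 0, Int.ofNat 3, Int.negSucc 0, Int.ofNat 1, Int.negSucc 0, Int.negSucc 0, Int.negSucc 0, Int.ofNat 1, Int.negSucc 0, Int.negSucc 0, Int.negSucc 0, Int.negSucc 0, Int.negSucc 0, Int.ofNat 1, Int.ofNat 1, Int.ofNat 1, Int.negSucc 0, Int.negSucc 0, Int.negSucc 0],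
  [Int.ofNat 1, Int.ofNat 1, Int.negSucc 0, Int.ofNat 3, Int.negSucc 0, Int.ofNat 1, Int.negSucc 0, Int.negSucc 0, Int.negSucc 0, Int.ofNat 1, Int.negSucc 0, Int.negSucc 0, Int.negSucc 0, Int.negSucc 0, Int.negSucc 0, Int.ofNat 1, Int.ofNat 1, Int.ofNat 1, Int.negSucc 0, Int.negSucc 0, Int.negSucc 0, Int.negSucc 0, Int.ofNat 1, Int.negSucc 0],
  [Int.negSucc 0, Int.negSucc 0, Int.ofNat 1, Int.ofNat 1, Int.negSucc 0, Int.negSucc 0, Int.ofNat 1, Int.ofNat 1, Int.ofNat 1, Int.ofNat 1, Int.negSucc 0, Int.ofNat 1, Int.ofNat 1, Int.negSucc 0, Int.negSucc 2, Int.ofNat 1, Int.ofNat 1, Int.negSucc 0, Int.ofNat 1, Int.ofNat 1, Int.negSucc 0, Int.ofNat 1, Int.ofNat 1, Int.ofNat 1],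
  [Int.negSucc 0, Int.ofNat 1, Int.negSucc 0, Int.ofNat 1, Int.ofNat 1, Int.ofNat 1, Int.ofNat 1, Int.negSucc 0, Int.ofNat 1, Int.negSucc 0, Int.negSucc 0, Int.negSucc 0, Int.ofNat 1, Int.ofNat 1, Int.ofNat 1, Int.ofNat 1, Int.ofNat 1, Int.negSucc 2, Int.negSucc 0, Int.ofNat 1, Int.ofNat 1, Int.negSucc 0, Int.ofNat 1, Int.ofNat 1],
  [Int.ofNat 1, Int.negSucc 0, Int.ofNat 1, Int.ofNat 1, Int.negSucc 0, Int.ofNat 1, Int.ofNat 1, Int.negSucc 0, Int.ofNat 1, Int.negSucc 0, Int.negSucc 0, Int.negSucc 0, Int.ofNat 1, Int.negSucc 0, Int.ofNat 1, Int.ofNat 1, Int.negSucc 0, Int.negSucc 2, Int.negSucc 0, Int.ofNat 1, Int.ofNat 1, Int.negSucc 0, Int.negSucc 0, Int.negSucc 0],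
  [Int.ofNat 1, Int.negSucc 0, Int.negSucc 0, Int.ofNat 1, Int.negSucc 0, Int.negSucc 0, Int.negSucc 0, Int.negSucc 0, Int.ofNat 1, Int.ofNat 1, Int.ofNat 1, Int.negSucc 0, Int.ofNat 1, Int.negSucc 0, Int.ofNat 1, Int.negSucc 0, Int.negSucc 0, Int.negSucc 2, Int.ofNat 1, Int.ofNat 1, Int.ofNat 1, Int.negSucc 0, Int.ofNat 1, Int.negSucc 0],
  [Int.ofNat 1, Int.ofNat 1, Int.ofNat 1, Int.ofNat 1, Int.ofNat 1, Int.ofNat 1, Int.negSucc 0, Int.ofNat 1, Int.ofNat 1, Int.negSucc 2, Int.negSucc 0, Int.negSucc 0, Int.negSucc 0, Int.negSucc 0, Int.ofNat 1, Int.negSucc 0, Int.ofNat 1, Int.negSucc 0, Int.negSucc 0, Int.negSucc 0, Int.negSucc 0, Int.negSucc 0, Int.ofNat 1, Int.negSucc 0],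
  [Int.ofNat 1, Int.ofNat 1, Int.negSucc 0, Int.ofNat 1, Int.ofNat 1, Int.negSucc 0, Int.ofNat 1, Int.ofNat 1, Int.ofNat 1, Int.ofNat 3, Int.ofNat 1, Int.negSucc 0, Int.negSucc 0, Int.negSucc 0, Int.ofNat 1, Int.ofNat 1, Int.ofNat 1, Int.negSucc 0, Int.ofNat 1, Int.negSucc 0, Int.negSucc 0, Int.negSucc 0, Int.negSucc 0, Int.negSucc 0],
  [Int.negSucc 0, Int.negSucc 0, Int.ofNat 1, Int.ofNat 1, Int.ofNat 1, Int.negSucc 0, Int.ofNat 1, Int.ofNat 1, Int.ofNat 1, Int.ofNat 1, Int.negSucc 0, Int.negSucc 0, Int.negSucc 0, Int.negSucc 0, Int.ofNat 1, Int.negSucc 0, Int.ofNat 1, Int.negSucc 0, Int.ofNat 1, Int.negSucc 0, Int.negSucc 2, Int.negSucc 0, Int.negSucc 0, Int.ofNat 1],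
  [Int.negSucc 0, Int.ofNat 1, Int.ofNat 1, Int.ofNat 1, Int.ofNat 1, Int.negSucc 0, Int.negSucc 0, Int.negSucc 0, Int.ofNat 1, Int.negSucc 0, Int.ofNat 1, Int.negSucc 0, Int.ofNat 1, Int.ofNat 1, Int.negSucc 0, Int.negSucc 0, Int.negSucc 0, Int.negSucc 0, Int.ofNat 1, Int.negSucc 0, Int.negSucc 0, Int.negSucc 2, Int.ofNat 1, Int.ofNat 1],
  [Int.ofNat 2, Int.ofNat 0, Int.ofNat 0, Int.ofNat 2, Int.ofNat 0, Int.ofNat 0, Int.ofNat 2, Int.ofNat 2, Int.ofNat 0, Int.ofNat 0, Int.ofNat 2, Int.negSucc 1, Int.ofNat 0, Int.ofNat 0, Int.ofNat 0, Int.ofNat 0, Int.negSucc 1, Int.ofNat 0, Int.ofNat 0, Int.ofNat 2, Int.ofNat 0, Int.ofNat 0, Int.ofNat 0, Int.ofNat 0],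
  [Int.ofNat 0, Int.ofNat 0, Int.ofNat 0, Int.ofNat 2, Int.ofNat 0, Int.ofNat 0, Int.ofNat 2, Int.ofNat 0, Int.ofNat 0, Int.ofNat 2, Int.ofNat 2, Int.ofNat 0, Int.ofNat 0, Int.ofNat 2, Int.negSucc 1, Int.ofNat 0, Int.ofNat 0, Int.ofNat 0, Int.ofNat 0, Int.negSucc 1, Int.ofNat 0, Int.ofNat 0, Int.ofNat 2, Int.ofNat 0],
  [Int.ofNat 0, Int.ofNat 0, Int.ofNat 0, Int.ofNat 2, Int.negSucc 1, Int.ofNat 0, Int.ofNat 2, Int.ofNat 0, Int.ofNat 0, Int.ofNat 0, Int.ofNat 0, Int.ofNat 0, Int.ofNat 0, Int.ofNat 0, Int.negSucc 1, Int.negSucc 1, Int.negSucc 1, Int.ofNat 0, Int.ofNat 0, Int.negSucc 1, Int.negSucc 1, Int.ofNat 0, Int.ofNat 0, Int.ofNat 0],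
  [Int.ofNat 0, Int.ofNat 0, Int.ofNat 2, Int.negSucc 1, Int.ofNat 0, Int.ofNat 2, Int.ofNat 0, Int.ofNat 0, Int.ofNat 0, Int.ofNat 0, Int.ofNat 0, Int.ofNat 0, Int.ofNat 0, Int.negSucc 1, Int.negSucc 1, Int.negSucc 1, Int.ofNat 0, Int.ofNat 0, Int.negSucc 1, Int.negSucc 1, Int.ofNat 0, Int.ofNat 0, Int.ofNat 0, Int.ofNat 0],
  [Int.ofNat 0, Int.ofNat 0, Int.negSucc 1, Int.negSucc 1, Int.ofNat 0, Int.ofNat 2, Int.ofNat 0, Int.ofNat 0, Int.ofNat 0, Int.ofNat 0, Int.ofNat 0, Int.ofNat 0, Int.ofNat 0, Int.negSucc 1, Int.negSucc 1, Int.negSucc 1, Int.ofNat 0, Int.ofNat 0, Int.ofNat 2, Int.negSucc 1, Int.ofNat 0, Int.ofNat 0, Int.ofNat 0, Int.ofNat 0],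
  [Int.ofNat 0, Int.ofNat 0, Int.ofNat 2, Int.ofNat 2, Int.ofNat 0, Int.ofNat 2, Int.ofNat 0, Int.ofNat 0, Int.ofNat 0, Int.ofNat 0, Int.ofNat 0, Int.ofNat 0, Int.ofNat 0, Int.ofNat 2, Int.negSucc 1, Int.negSucc 1, Int.ofNat 0, Int.ofNat 0, Int.negSucc 1, Int.negSucc 1, Int.ofNat 0, Int.ofNat 0, Int.ofNat 0, Int.ofNat 0],
  [Int.ofNat 0, Int.ofNat 0, Int.ofNat 0, Int.negSucc 1, Int.ofNat 0, Int.ofNat 0, Int.negSucc 1, Int.ofNat 2, Int.ofNat 0, Int.ofNat 2, Int.ofNat 0, Int.ofNat 2, Int.ofNat 0, Int.ofNat 0, Int.negSucc 1, Int.ofNat 2, Int.ofNat 0, Int.ofNat 0, Int.negSucc 1, Int.ofNat 0, Int.ofNat 0, Int.ofNat 0, Int.ofNat 0, Int.ofNat 0],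
  [Int.ofNat 0, Int.ofNat 0, Int.ofNat 0, Int.negSucc 1, Int.ofNat 0, Int.ofNat 0, Int.negSucc 1, Int.negSucc 1, Int.ofNat 0, Int.negSucc 1, Int.ofNat 0, Int.negSucc 1, Int.ofNat 0, Int.ofNat 0, Int.negSucc 1, Int.ofNat 2, Int.ofNat 0, Int.ofNat 0, Int.ofNat 2, Int.ofNat 0, Int.ofNat 0, Int.ofNat 0, Int.ofNat 0, Int.ofNat 0],
  [Int.ofNat 0, Int.ofNat 0, Int.ofNat 0, Int.ofNat 0, Int.negSucc 1, Int.ofNat 0, Int.ofNat 0, Int.negSucc 1, Int.negSucc 1, Int.ofNat 0, Int.negSucc 1, Int.ofNat 0, Int.negSucc 1, Int.ofNat 0, Int.ofNat 0, Int.negSucc 1, Int.ofNat 2, Int.ofNat 0, Int.ofNat 0, Int.ofNat 2, Int.ofNat 0, Int.ofNat 0, Int.ofNat 0, Int.ofNat 0],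
  [Int.ofNat 0, Int.ofNat 0, Int.ofNat 0, Int.ofNat 0, Int.negSucc 1, Int.ofNat 0, Int.ofNat 0, Int.negSucc 1, Int.ofNat 0, Int.ofNat 2, Int.ofNat 0, Int.ofNat 2, Int.ofNat 0, Int.ofNat 0, Int.ofNat 0, Int.ofNat 0, Int.ofNat 2, Int.ofNat 0, Int.ofNat 2, Int.ofNat 2, Int.ofNat 2, Int.ofNat 0, Int.ofNat 0, Int.ofNat 0],
  [Int.ofNat 0, Int.negSucc 1, Int.ofNat 0, Int.ofNat 0, Int.negSucc 1, Int.ofNat 0, Int.ofNat 2, Int.ofNat 0, Int.ofNat 2, Int.ofNat 0, Int.ofNat 0, Int.ofNat 0, Int.ofNat 0, Int.ofNat 2, Int.ofNat 0, Int.ofNat 2, Int.ofNat 2, Int.ofNat 2, Int.ofNat 0, Int.ofNat 0, Int.ofNat 0, Int.ofNat 0, Int.ofNat 0, Int.ofNat 0],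
  [Int.negSucc 0, Int.ofNat 1, Int.negSucc 0, Int.negSucc 0, Int.negSucc 2, Int.negSucc 0, Int.ofNat 1, Int.negSucc 0, Int.ofNat 1, Int.negSucc 0, Int.negSucc 0, Int.negSucc 0, Int.negSucc 0, Int.ofNat 1, Int.negSucc 0, Int.ofNat 1, Int.ofNat 1, Int.ofNat 1, Int.negSucc 0, Int.negSucc 0, Int.negSucc 0, Int.negSucc 0, Int.negSucc 0, Int.negSucc 0],
  [Int.negSucc 0, Int.ofNat 1, Int.negSucc 2, Int.negSucc 0, Int.negSucc 0, Int.negSucc 0, Int.negSucc 0, Int.negSucc 0, Int.negSucc 0, Int.ofNat 1, Int.negSucc 0, Int.ofNat 1, Int.negSucc 0, Int.ofNat 1, Int.negSucc 0, Int.ofNat 1, Int.ofNat 1, Int.negSucc 0, Int.ofNat 1, Int.negSucc 0, Int.negSucc 0, Int.negSucc 0, Int.negSucc 0, Int.negSucc 0],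
  [Int.negSucc 0, Int.negSucc 2, Int.ofNat 1, Int.ofNat 1, Int.negSucc 0, Int.ofNat 1, Int.ofNat 1, Int.ofNat 1, Int.negSucc 0, Int.ofNat 1, Int.negSucc 0, Int.ofNat 1, Int.negSucc 0, Int.ofNat 1, Int.ofNat 1, Int.ofNat 1, Int.ofNat 1, Int.ofNat 1, Int.ofNat 1, Int.ofNat 1, Int.negSucc 0, Int.ofNat 1, Int.negSucc 0, Int.negSucc 0],
  [Int.negSucc 0, Int.negSucc 2, Int.negSucc 0, Int.ofNat 1, Int.negSucc 0, Int.negSucc 0, Int.negSucc 0, Int.ofNat 1, Int.negSucc 0, Int.negSucc 0, Int.ofNat 1, Int.ofNat 1, Int.negSucc 0, Int.ofNat 1, Int.ofNat 1, Int.negSucc 0, Int.ofNat 1, Int.ofNat 1, Int.negSucc 0, Int.ofNat 1, Int.negSucc 0, Int.ofNat 1, Int.ofNat 1, Int.negSucc 0],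
  [Int.ofNat 1, Int.negSucc 0, Int.negSucc 0, Int.negSucc 0, Int.negSucc 0, Int.ofNat 1, Int.ofNat 1, Int.ofNat 1, Int.ofNat 1, Int.ofNat 1, Int.negSucc 0, Int.negSucc 2, Int.negSucc 0, Int.ofNat 1, Int.ofNat 1, Int.negSucc 0, Int.negSucc 0, Int.ofNat 1, Int.ofNat 1, Int.negSucc 0, Int.negSucc 0, Int.ofNat 1, Int.negSucc 0, Int.negSucc 0],
  [Int.ofNat 1, Int.negSucc 0, Int.ofNat 1, Int.negSucc 0, Int.negSucc 0, Int.negSucc 0, Int.negSucc 0, Int.ofNat 1, Int.ofNat 1, Int.negSucc 0, Int.ofNat 1, Int.negSucc 2, Int.negSucc 0, Int.ofNat 1, Int.ofNat 1, Int.ofNat 1, Int.negSucc 0, Int.ofNat 1, Int.negSucc 0, Int.negSucc 0, Int.negSucc 0, Int.ofNat 1, Int.ofNat 1, Int.negSucc 0],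
  [Int.negSucc 0, Int.ofNat 1, Int.negSucc 0, Int.negSucc 0, Int.negSucc 0, Int.negSucc 0, Int.negSucc 0, Int.ofNat 1, Int.ofNat 3, Int.negSucc 0, Int.ofNat 1, Int.negSucc 0, Int.ofNat 1, Int.ofNat 1, Int.ofNat 1, Int.ofNat 1, Int.negSucc 0, Int.ofNat 1, Int.ofNat 1, Int.negSucc 0, Int.negSucc 0, Int.ofNat 1, Int.ofNat 1, Int.ofNat 1],
  [Int.negSucc 0, Int.ofNat 1, Int.negSucc 0, Int.negSucc 0, Int.negSucc 0, Int.ofNat 1, Int.ofNat 1, Int.negSucc 0, Int.negSucc 0, Int.ofNat 1, Int.ofNat 1, Int.negSucc 0, Int.ofNat 3, Int.negSucc 0, Int.ofNat 1, Int.ofNat 1, Int.ofNat 1, Int.negSucc 0, Int.negSucc 0, Int.ofNat 1, Int.ofNat 1, Int.negSucc 0, Int.ofNat 1, Int.ofNat 1],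
  [Int.ofNat 1, Int.negSucc 0, Int.ofNat 1, Int.negSucc 0, Int.negSucc 0, Int.ofNat 1, Int.ofNat 1, Int.negSucc 0, Int.negSucc 0, Int.negSucc 0, Int.negSucc 0, Int.negSucc 0, Int.ofNat 3, Int.negSucc 0, Int.ofNat 1, Int.negSucc 0, Int.ofNat 1, Int.negSucc 0, Int.negSucc 0, Int.ofNat 1, Int.negSucc 0, Int.negSucc 0, Int.ofNat 1, Int.negSucc 0],
  [Int.negSucc 0, Int.negSucc 0, Int.ofNat 1, Int.ofNat 1, Int.negSucc 0, Int.ofNat 1, Int.negSucc 0, Int.negSucc 0, Int.ofNat 1, Int.ofNat 1, Int.negSucc 0, Int.negSucc 0, Int.negSucc 0, Int.negSucc 0, Int.negSucc 0, Int.ofNat 3, Int.negSucc 0, Int.ofNat 1, Int.negSucc 0, Int.ofNat 1, Int.negSucc 0, Int.negSucc 0, Int.ofNat 1, Int.negSucc 0],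
  [Int.ofNat 0, Int.ofNat 0, Int.negSucc 1, Int.ofNat 0, Int.ofNat 0, Int.ofNat 0, Int.ofNat 0, Int.ofNat 0, Int.ofNat 2, Int.ofNat 0, Int.negSucc 1, Int.ofNat 0, Int.ofNat 0, Int.ofNat 0, Int.negSucc 1, Int.ofNat 2, Int.ofNat 0, Int.ofNat 0, Int.ofNat 0, Int.ofNat 2, Int.negSucc 1, Int.ofNat 0, Int.ofNat 2, Int.ofNat 0],
  [Int.ofNat 0, Int.negSucc 1, Int.ofNat 0, Int.ofNat 0, Int.ofNat 0, Int.ofNat 0, Int.ofNat 0, Int.ofNat 2, Int.ofNat 0, Int.negSucc 1, Int.ofNat 0, Int.ofNat 0, Int.ofNat 0, Int.negSucc 1, Int.ofNat 2, Int.ofNat 0, Int.ofNat 0, Int.ofNat 0, Int.ofNat 2, Int.negSucc 1, Int.ofNat 0, Int.ofNat 2, Int.ofNat 0, Int.ofNat 0],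
  [Int.ofNat 0, Int.negSucc 1, Int.ofNat 0, Int.ofNat 0, Int.ofNat 0, Int.ofNat 0, Int.ofNat 0, Int.negSucc 1, Int.ofNat 0, Int.ofNat 2, Int.ofNat 0, Int.ofNat 0, Int.ofNat 0, Int.negSucc 1, Int.ofNat 2, Int.ofNat 0, Int.ofNat 0, Int.ofNat 0, Int.negSucc 1, Int.negSucc 1, Int.ofNat 0, Int.negSucc 1, Int.ofNat 0, Int.ofNat 0],
  [Int.ofNat 0, Int.ofNat 2, Int.ofNat 0, Int.ofNat 0, Int.ofNat 0, Int.ofNat 0, Int.ofNat 0, Int.negSucc 1, Int.ofNat 0, Int.negSucc 1, Int.ofNat 0, Int.ofNat 0, Int.ofNat 0, Int.ofNat 2, Int.ofNat 2, Int.ofNat 0, Int.ofNat 0, Int.ofNat 0, Int.ofNat 2, Int.negSucc 1, Int.ofNat 0, Int.negSucc 1, Int.ofNat 0, Int.ofNat 0],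
  [Int.ofNat 0, Int.ofNat 0, Int.ofNat 0, Int.ofNat 0, Int.ofNat 0, Int.negSucc 1, Int.negSucc 1, Int.ofNat 2, Int.ofNat 0, Int.ofNat 0, Int.ofNat 0, Int.ofNat 0, Int.negSucc 1, Int.negSucc 1, Int.ofNat 2, Int.ofNat 0, Int.ofNat 0, Int.ofNat 0, Int.ofNat 2, Int.ofNat 0, Int.ofNat 0, Int.ofNat 0, Int.ofNat 2, Int.ofNat 0],
  [Int.ofNat 0, Int.ofNat 0, Int.ofNat 0, Int.ofNat 0, Int.ofNat 0, Int.negSucc 1, Int.negSucc 1, Int.negSucc 1, Int.ofNat 0, Int.ofNat 0, Int.ofNat 0, Int.ofNat 0, Int.negSucc 1, Int.negSucc 1, Int.ofNat 2, Int.ofNat 0, Int.ofNat 0, Int.ofNat 0, Int.negSucc 1, Int.ofNat 0, Int.ofNat 0, Int.ofNat 0, Int.ofNat 2, Int.ofNat 0],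
  [Int.ofNat 2, Int.ofNat 0, Int.ofNat 0, Int.ofNat 0, Int.ofNat 0, Int.ofNat 0, Int.negSucc 1, Int.negSucc 1, Int.negSucc 1, Int.ofNat 0, Int.ofNat 0, Int.ofNat 0, Int.ofNat 0, Int.negSucc 1, Int.negSucc 1, Int.ofNat 2, Int.ofNat 0, Int.ofNat 0, Int.ofNat 0, Int.negSucc 1, Int.ofNat 0, Int.ofNat 0, Int.ofNat 0, Int.ofNat 0],
  [Int.negSucc 0, Int.ofNat 1, Int.ofNat 1, Int.ofNat 1, Int.ofNat 1, Int.ofNat 1, Int.ofNat 1, Int.ofNat 1, Int.negSucc 0, Int.negSucc 0, Int.negSucc 0, Int.ofNat 1, Int.ofNat 1, Int.negSucc 0, Int.negSucc 0, Int.ofNat 1, Int.ofNat 1, Int.ofNat 1, Int.ofNat 1, Int.ofNat 1, Int.negSucc 0, Int.ofNat 3, Int.ofNat 1, Int.ofNat 1],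
  [Int.ofNat 1, Int.ofNat 1, Int.ofNat 1, Int.ofNat 1, Int.ofNat 1, Int.negSucc 0, Int.negSucc 0, Int.negSucc 0, Int.ofNat 1, Int.ofNat 1, Int.negSucc 0, Int.negSucc 0, Int.ofNat 1, Int.ofNat 1, Int.ofNat 1, Int.ofNat 1, Int.ofNat 1, Int.negSucc 0, Int.ofNat 3, Int.ofNat 1, Int.negSucc 0, Int.ofNat 1, Int.ofNat 1, Int.ofNat 1],
  [Int.ofNat 1, Int.ofNat 1, Int.ofNat 1, Int.ofNat 1, Int.negSucc 0, Int.negSucc 0, Int.negSucc 0, Int.negSucc 0, Int.negSucc 0, Int.ofNat 1, Int.negSucc 0, Int.negSucc 2, Int.negSucc 0, Int.negSucc 0, Int.ofNat 1, Int.ofNat 1, Int.negSucc 0, Int.negSucc 0, Int.ofNat 1, Int.ofNat 1, Int.negSucc 0, Int.ofNat 1, Int.negSucc 0, Int.ofNat 1],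
  [Int.ofNat 1, Int.negSucc 0, Int.negSucc 0, Int.ofNat 1, Int.ofNat 1, Int.negSucc 0, Int.ofNat 1, Int.negSucc 0, Int.negSucc 0, Int.negSucc 0, Int.negSucc 0, Int.negSucc 0, Int.ofNat 1, Int.negSucc 0, Int.negSucc 0, Int.ofNat 1, Int.negSucc 0, Int.ofNat 1, Int.ofNat 1, Int.negSucc 2, Int.ofNat 1, Int.negSucc 0, Int.ofNat 1, Int.ofNat 1],
  [Int.negSucc 0, Int.ofNat 1, Int.ofNat 1, Int.ofNat 1, Int.ofNat 1, Int.negSucc 0, Int.ofNat 3, Int.ofNat 1, Int.negSucc 0, Int.negSucc 0, Int.negSucc 0, Int.negSucc 0, Int.ofNat 1, Int.negSucc 0, Int.negSucc 0, Int.ofNat 1, Int.negSucc 0, Int.ofNat 1, Int.ofNat 1, Int.negSucc 0, Int.ofNat 1, Int.ofNat 1, Int.ofNat 1, Int.negSucc 0],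
  [Int.negSucc 0, Int.ofNat 1, Int.negSucc 0, Int.ofNat 1, Int.ofNat 1, Int.ofNat 1, Int.negSucc 2, Int.ofNat 1, Int.negSucc 0, Int.ofNat 1, Int.ofNat 1, Int.negSucc 0, Int.ofNat 1, Int.negSucc 0, Int.negSucc 0, Int.negSucc 0, Int.negSucc 0, Int.ofNat 1, Int.negSucc 0, Int.negSucc 0, Int.ofNat 1, Int.ofNat 1, Int.negSucc 0, Int.negSucc 0],
  [Int.negSucc 0, Int.ofNat 1, Int.negSucc 0, Int.negSucc 0, Int.ofNat 1, Int.negSucc 0, Int.negSucc 0, Int.ofNat 1, Int.negSucc 0, Int.ofNat 1, Int.negSucc 0, Int.ofNat 1, Int.ofNat 1, Int.ofNat 1, Int.ofNat 1, Int.ofNat 1, Int.negSucc 0, Int.negSucc 0, Int.ofNat 1, Int.negSucc 0, Int.negSucc 2, Int.negSucc 0, Int.ofNat 1, Int.negSucc 0],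
  [Int.negSucc 0, Int.ofNat 1, Int.ofNat 1, Int.negSucc 0, Int.ofNat 1, Int.ofNat 1, Int.ofNat 1, Int.ofNat 1, Int.negSucc 0, Int.negSucc 0, Int.ofNat 1, Int.ofNat 1, Int.ofNat 1, Int.ofNat 1, Int.ofNat 1, Int.negSucc 0, Int.negSucc 0, Int.negSucc 0, Int.negSucc 0, Int.negSucc 0, Int.negSucc 2, Int.negSucc 0, Int.negSucc 0, Int.negSucc 0],
  [Int.ofNat 1, Int.negSucc 0, Int.negSucc 0, Int.negSucc 0, Int.ofNat 1, Int.ofNat 1, Int.ofNat 1, Int.ofNat 1, Int.negSucc 0, Int.ofNat 1, Int.ofNat 3, Int.ofNat 1, Int.ofNat 1, Int.ofNat 1, Int.ofNat 1, Int.ofNat 1, Int.negSucc 0, Int.negSucc 0, Int.negSucc 0, Int.negSucc 0, Int.negSucc 0, Int.negSucc 0, Int.negSucc 0, Int.ofNat 1],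
  [Int.ofNat 1, Int.negSucc 0, Int.ofNat 1, Int.negSucc 0, Int.negSucc 0, Int.negSucc 0, Int.negSucc 0, Int.ofNat 1, Int.negSucc 0, Int.ofNat 1, Int.ofNat 1, Int.negSucc 0, Int.negSucc 0, Int.ofNat 1, Int.negSucc 0, Int.ofNat 1, Int.ofNat 1, Int.ofNat 1, Int.ofNat 1, Int.negSucc 0, Int.ofNat 3, Int.negSucc 0, Int.ofNat 1, Int.ofNat 1],
  [Int.ofNat 0, Int.ofNat 2, Int.ofNat 0, Int.ofNat 0, Int.negSucc 1, Int.ofNat 0, Int.ofNat 0, Int.ofNat 2, Int.ofNat 0, Int.negSucc 1, Int.negSucc 1, Int.ofNat 0, Int.ofNat 0, Int.ofNat 0, Int.ofNat 0, Int.negSucc 1, Int.ofNat 0, Int.ofNat 2, Int.ofNat 2, Int.ofNat 0, Int.ofNat 0, Int.ofNat 0, Int.ofNat 0, Int.ofNat 0],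
  [Int.ofNat 0, Int.ofNat 0, Int.ofNat 0, Int.ofNat 0, Int.ofNat 2, Int.ofNat 0, Int.ofNat 0, Int.negSucc 1, Int.ofNat 0, Int.ofNat 0, Int.ofNat 2, Int.ofNat 0, Int.negSucc 1, Int.negSucc 1, Int.ofNat 0, Int.ofNat 0, Int.ofNat 0, Int.ofNat 0, Int.negSucc 1, Int.ofNat 0, Int.ofNat 2, Int.ofNat 2, Int.ofNat 0, Int.ofNat 0],
  [Int.ofNat 0, Int.ofNat 0, Int.ofNat 0, Int.ofNat 0, Int.ofNat 2, Int.ofNat 0, Int.ofNat 0, Int.negSucc 1, Int.ofNat 2, Int.negSucc 1, Int.ofNat 0, Int.ofNat 2, Int.ofNat 0, Int.negSucc 1, Int.ofNat 0, Int.negSucc 1, Int.ofNat 0, Int.ofNat 0, Int.ofNat 0, Int.ofNat 0, Int.ofNat 0, Int.ofNat 2, Int.ofNat 0, Int.ofNat 0],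
  [Int.ofNat 0, Int.ofNat 0, Int.ofNat 0, Int.ofNat 2, Int.ofNat 0, Int.ofNat 0, Int.negSucc 1, Int.ofNat 2, Int.negSucc 1, Int.ofNat 0, Int.ofNat 2, Int.ofNat 0, Int.negSucc 1, Int.ofNat 0, Int.negSucc 1, Int.ofNat 0, Int.ofNat 0, Int.ofNat 0, Int.ofNat 0, Int.ofNat 0, Int.ofNat 2, Int.ofNat 0, Int.ofNat 0, Int.ofNat 0],
  [Int.ofNat 0, Int.ofNat 0, Int.ofNat 0, Int.ofNat 2, Int.ofNat 0, Int.ofNat 0, Int.negSucc 1, Int.negSucc 1, Int.negSucc 1, Int.ofNat 0, Int.negSucc 1, Int.ofNat 0, Int.negSucc 1, Int.ofNat 0, Int.negSucc 1, Int.ofNat 0, Int.ofNat 0, Int.ofNat 0, Int.ofNat 0, Int.ofNat 0, Int.ofNat 2, Int.ofNat 0, Int.ofNat 0, Int.ofNat 0],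
  [Int.ofNat 0, Int.ofNat 0, Int.ofNat 0, Int.negSucc 1, Int.ofNat 0, Int.ofNat 0, Int.ofNat 2, Int.negSucc 1, Int.ofNat 2, Int.ofNat 0, Int.negSucc 1, Int.ofNat 0, Int.ofNat 2, Int.ofNat 0, Int.negSucc 1, Int.ofNat 0, Int.ofNat 0, Int.ofNat 0, Int.ofNat 0, Int.ofNat 0, Int.ofNat 2, Int.ofNat 0, Int.ofNat 0, Int.ofNat 0],
  [Int.ofNat 0, Int.ofNat 0, Int.ofNat 0, Int.ofNat 0, Int.ofNat 0, Int.ofNat 0, Int.ofNat 0, Int.ofNat 0, Int.ofNat 2, Int.ofNat 0, Int.ofNat 0, Int.ofNat 0, Int.ofNat 0, Int.negSucc 1, Int.ofNat 0, Int.negSucc 1, Int.negSucc 1, Int.ofNat 0, Int.negSucc 1, Int.ofNat 2, Int.ofNat 2, Int.ofNat 2, Int.ofNat 0, Int.ofNat 0],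
  [Int.ofNat 0, Int.ofNat 0, Int.ofNat 0, Int.ofNat 0, Int.ofNat 0, Int.ofNat 0, Int.ofNat 0, Int.ofNat 0, Int.ofNat 2, Int.ofNat 0, Int.ofNat 0, Int.ofNat 0, Int.ofNat 0, Int.negSucc 1, Int.ofNat 0, Int.negSucc 1, Int.negSucc 1, Int.ofNat 0, Int.ofNat 2, Int.ofNat 2, Int.ofNat 2, Int.negSucc 1, Int.ofNat 0, Int.ofNat 0],
  [Int.ofNat 0, Int.ofNat 0, Int.ofNat 0, Int.ofNat 0, Int.ofNat 0, Int.ofNat 0, Int.ofNat 0, Int.ofNat 0, Int.ofNat 0, Int.ofNat 2, Int.ofNat 0, Int.ofNat 0, Int.ofNat 0, Int.ofNat 0, Int.negSucc 1, Int.ofNat 0, Int.negSucc 1, Int.negSucc 1, Int.ofNat 0, Int.ofNat 2, Int.ofNat 2, Int.ofNat 2, Int.negSucc 1, Int.ofNat 0],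
  [Int.ofNat 0, Int.ofNat 0, Int.ofNat 0, Int.ofNat 2, Int.ofNat 2, Int.ofNat 2, Int.negSucc 1, Int.negSucc 1, Int.ofNat 0, Int.ofNat 0, Int.negSucc 1, Int.ofNat 0, Int.ofNat 0, Int.ofNat 2, Int.ofNat 0, Int.negSucc 1, Int.ofNat 0, Int.ofNat 0, Int.ofNat 0, Int.ofNat 0, Int.ofNat 0, Int.ofNat 0, Int.ofNat 0, Int.ofNat 0],
  [Int.ofNat 2, Int.ofNat 2, Int.ofNat 2, Int.negSucc 1, Int.negSucc 1, Int.ofNat 0, Int.ofNat 0, Int.negSucc 1, Int.ofNat 0, Int.ofNat 0, Int.ofNat 2, Int.ofNat 0, Int.negSucc 1, Int.ofNat 0, Int.ofNat 0, Int.ofNat 0, Int.ofNat 0, Int.ofNat 0, Int.ofNat 0, Int.ofNat 0, Int.ofNat 0, Int.ofNat 0, Int.ofNat 0, Int.ofNat 0],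
  [Int.ofNat 1, Int.ofNat 1, Int.ofNat 1, Int.negSucc 0, Int.negSucc 0, Int.ofNat 1, Int.ofNat 1, Int.negSucc 0, Int.ofNat 1, Int.negSucc 0, Int.ofNat 1, Int.ofNat 1, Int.negSucc 0, Int.ofNat 1, Int.ofNat 1, Int.negSucc 0, Int.ofNat 1, Int.ofNat 1, Int.ofNat 1, Int.ofNat 1, Int.negSucc 0, Int.ofNat 1, Int.ofNat 1, Int.ofNat 3],
  [Int.ofNat 1, Int.ofNat 1, Int.negSucc 0, Int.negSucc 0, Int.ofNat 1, Int.negSucc 0, Int.ofNat 1, Int.ofNat 1, Int.negSucc 0, Int.ofNat 1, Int.negSucc 0, Int.ofNat 1, Int.negSucc 0, Int.ofNat 1, Int.ofNat 1, Int.negSucc 0, Int.ofNat 1, Int.ofNat 1, Int.ofNat 1, Int.ofNat 1, Int.ofNat 1, Int.ofNat 1, Int.ofNat 1, Int.ofNat 3],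
  [Int.ofNat 1, Int.ofNat 1, Int.ofNat 3, Int.negSucc 0, Int.negSucc 0, Int.negSucc 0, Int.negSucc 0, Int.negSucc 0, Int.negSucc 0, Int.ofNat 1, Int.negSucc 0, Int.ofNat 1, Int.negSucc 0, Int.negSucc 0, Int.ofNat 1, Int.negSucc 0, Int.negSucc 0, Int.ofNat 1, Int.ofNat 1, Int.negSucc 0, Int.ofNat 1, Int.negSucc 0, Int.negSucc 0, Int.negSucc 0],
  [Int.ofNat 1, Int.ofNat 1, Int.negSucc 2, Int.negSucc 0, Int.negSucc 0, Int.ofNat 1, Int.ofNat 1, Int.negSucc 0, Int.negSucc 0, Int.negSucc 0, Int.ofNat 1, Int.ofNat 1, Int.negSucc 0, Int.negSucc 0, Int.ofNat 1, Int.ofNat 1, Int.negSucc 0, Int.ofNat 1, Int.negSucc 0, Int.negSucc 0, Int.ofNat 1, Int.negSucc 0, Int.ofNat 1, Int.negSucc 0],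
  [Int.negSucc 0, Int.negSucc 0, Int.negSucc 0, Int.negSucc 0, Int.ofNat 1, Int.ofNat 1, Int.negSucc 0, Int.negSucc 0, Int.ofNat 1, Int.ofNat 1, Int.negSucc 2, Int.ofNat 1, Int.negSucc 0, Int.negSucc 0, Int.ofNat 1, Int.ofNat 1, Int.ofNat 1, Int.negSucc 0, Int.negSucc 0, Int.ofNat 1, Int.ofNat 1, Int.ofNat 1, Int.negSucc 0, Int.negSucc 0],
  [Int.negSucc 0, Int.negSucc 0, Int.ofNat 1, Int.negSucc 0, Int.ofNat 1, Int.negSucc 0, Int.ofNat 1, Int.negSucc 0, Int.ofNat 1, Int.negSucc 0, Int.ofNat 3, Int.ofNat 1, Int.negSucc 0, Int.negSucc 0, Int.ofNat 1, Int.negSucc 0, Int.ofNat 1, Int.negSucc 0, Int.ofNat 1, Int.ofNat 1, Int.ofNat 1, Int.ofNat 1, Int.ofNat 1, Int.negSucc 0],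
  [Int.ofNat 0, Int.ofNat 0, Int.negSucc 1, Int.ofNat 0, Int.ofNat 0, Int.ofNat 0, Int.ofNat 0, Int.negSucc 1, Int.ofNat 0, Int.negSucc 1, Int.ofNat 2, Int.ofNat 0, Int.negSucc 1, Int.negSucc 1, Int.ofNat 2, Int.negSucc 1, Int.ofNat 0, Int.ofNat 0, Int.ofNat 0, Int.ofNat 0, Int.ofNat 0, Int.ofNat 0, Int.ofNat 0, Int.ofNat 0],
  [Int.ofNat 0, Int.ofNat 0, Int.ofNat 0, Int.ofNat 0, Int.negSucc 1, Int.ofNat 0, Int.ofNat 0, Int.ofNat 0, Int.ofNat 0, Int.negSucc 1, Int.negSucc 1, Int.ofNat 0, Int.ofNat 0, Int.negSucc 1, Int.ofNat 0, Int.negSucc 1, Int.negSucc 1, Int.ofNat 0, Int.ofNat 0, Int.ofNat 0, Int.ofNat 2, Int.ofNat 0, Int.ofNat 2, Int.ofNat 0],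
  [Int.ofNat 0, Int.ofNat 0, Int.ofNat 0, Int.ofNat 0, Int.ofNat 0, Int.ofNat 0, Int.ofNat 0, Int.ofNat 0, Int.ofNat 0, Int.ofNat 0, Int.ofNat 0, Int.ofNat 0, Int.ofNat 0, Int.ofNat 0, Int.ofNat 0, Int.ofNat 0, Int.ofNat 0, Int.ofNat 0, Int.ofNat 0, Int.ofNat 0, Int.ofNat 4, Int.ofNat 0, Int.ofNat 4, Int.ofNat 0],
  [Int.ofNat 4, Int.ofNat 0, Int.ofNat 4, Int.ofNat 0, Int.ofNat 0, Int.ofNat 0, Int.ofNat 0, Int.ofNat 0, Int.ofNat 0, Int.ofNat 0, Int.ofNat 0, Int.ofNat 0, Int.ofNat 0, Int.ofNat 0, Int.ofNat 0, Int.ofNat 0, Int.ofNat 0, Int.ofNat 0, Int.ofNat 0, Int.ofNat 0, Int.ofNat 0, Int.ofNat 0, Int.ofNat 0, Int.ofNat 0],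
  [Int.ofNat 0, Int.ofNat 4, Int.ofNat 0, Int.ofNat 0, Int.ofNat 0, Int.ofNat 0, Int.ofNat 0, Int.ofNat 0, Int.ofNat 0, Int.ofNat 0, Int.ofNat 0, Int.ofNat 0, Int.ofNat 0, Int.ofNat 0, Int.ofNat 0, Int.ofNat 0, Int.ofNat 0, Int.ofNat 0, Int.ofNat 0, Int.ofNat 0, Int.ofNat 0, Int.ofNat 0, Int.ofNat 0, Int.ofNat 4],
  [Int.ofNat 4, Int.ofNat 0, Int.ofNat 0, Int.ofNat 0, Int.ofNat 0, Int.ofNat 0, Int.ofNat 0, Int.ofNat 0, Int.ofNat 0, Int.ofNat 0, Int.ofNat 0, Int.ofNat 0, Int.ofNat 0, Int.ofNat 0, Int.ofNat 0, Int.ofNat 0, Int.ofNat 0, Int.ofNat 0, Int.ofNat 0, Int.ofNat 0, Int.ofNat 0, Int.ofNat 0, Int.ofNat 0, Int.ofNat 4],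
  [Int.negSucc 3, Int.ofNat 0, Int.ofNat 0, Int.ofNat 0, Int.ofNat 0, Int.ofNat 0, Int.ofNat 0, Int.ofNat 0, Int.ofNat 0, Int.ofNat 0, Int.ofNat 0, Int.ofNat 0, Int.ofNat 0, Int.ofNat 0, Int.ofNat 0, Int.ofNat 0, Int.ofNat 0, Int.ofNat 0, Int.ofNat 0, Int.ofNat 0, Int.ofNat 0, Int.ofNat 0, Int.ofNat 0, Int.ofNat 4],
  [Int.ofNat 4, Int.ofNat 0, Int.ofNat 0, Int.ofNat 0, Int.ofNat 0, Int.ofNat 0, Int.ofNat 0, Int.ofNat 0, Int.ofNat 0, Int.ofNat 0, Int.ofNat 0, Int.ofNat 0, Int.ofNat 0, Int.ofNat 0, Int.ofNat 0, Int.ofNat 0, Int.ofNat 0, Int.ofNat 0, Int.ofNat 0, Int.ofNat 0, Int.ofNat 0, Int.ofNat 0, Int.ofNat 0, Int.ofNat 4],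
  [Int.ofNat 4, Int.ofNat 0, Int.ofNat 0, Int.ofNat 0, Int.ofNat 0, Int.ofNat 0, Int.ofNat 0, Int.ofNat 0, Int.ofNat 0, Int.ofNat 0, Int.ofNat 0, Int.ofNat 0, Int.ofNat 0, Int.ofNat 0, Int.ofNat 0, Int.ofNat 0, Int.ofNat 0, Int.ofNat 0, Int.ofNat 0, Int.ofNat 0, Int.ofNat 0, Int.ofNat 0, Int.ofNat 0, Int.ofNat 4],
  [Int.negSucc 3, Int.ofNat 0, Int.ofNat 0, Int.ofNat 0, Int.ofNat 0, Int.ofNat 0, Int.ofNat 0, Int.ofNat 0, Int.ofNat 0, Int.ofNat 0, Int.ofNat 0, Int.ofNat 0, Int.ofNat 0, Int.ofNat 0, Int.ofNat 0, Int.ofNat 0, Int.ofNat 0, Int.ofNat 0, Int.ofNat 0, Int.ofNat 0, Int.ofNat 0, Int.ofNat 0, Int.ofNat 0, Int.ofNat 4],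
  [Int.ofNat 0, Int.negSucc 3, Int.ofNat 0, Int.ofNat 0, Int.ofNat 0, Int.ofNat 0, Int.ofNat 0, Int.ofNat 0, Int.ofNat 0, Int.ofNat 0, Int.ofNat 0, Int.ofNat 0, Int.ofNat 0, Int.ofNat 0, Int.ofNat 0, Int.ofNat 0, Int.ofNat 0, Int.ofNat 0, Int.ofNat 0, Int.ofNat 0, Int.ofNat 0, Int.ofNat 0, Int.ofNat 0, Int.ofNat 4],
  [Int.ofNat 0, Int.ofNat 4, Int.ofNat 0, Int.ofNat 0, Int.ofNat 0, Int.ofNat 0, Int.ofNat 0, Int.ofNat 0, Int.ofNat 0, Int.ofNat 0, Int.ofNat 0, Int.ofNat 0, Int.ofNat 0, Int.ofNat 0, Int.ofNat 0, Int.ofNat 0, Int.ofNat 0, Int.ofNat 0, Int.ofNat 0, Int.ofNat 0, Int.ofNat 0, Int.ofNat 0, Int.ofNat 0, Int.negSucc 3],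
  [Int.ofNat 0, Int.ofNat 0, Int.ofNat 0, Int.ofNat 0, Int.ofNat 0, Int.ofNat 0, Int.ofNat 0, Int.ofNat 0, Int.ofNat 0, Int.ofNat 0, Int.ofNat 0, Int.ofNat 0, Int.ofNat 0, Int.ofNat 0, Int.ofNat 0, Int.ofNat 0, Int.ofNat 0, Int.ofNat 0, Int.ofNat 0, Int.ofNat 0, Int.ofNat 0, Int.ofNat 4, Int.ofNat 0, Int.negSucc 3],
  [Int.negSucc 1, Int.negSucc 1, Int.negSucc 1, Int.ofNat 0, Int.ofNat 0, Int.ofNat 0, Int.negSucc 1, Int.negSucc 1, Int.ofNat 0, Int.ofNat 0, Int.ofNat 0, Int.ofNat 0, Int.ofNat 0, Int.ofNat 0, Int.ofNat 0, Int.ofNat 0, Int.ofNat 0, Int.ofNat 0, Int.ofNat 0, Int.negSucc 1, Int.ofNat 0, Int.ofNat 2, Int.ofNat 0, Int.ofNat 2],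
  [Int.negSucc 1, Int.negSucc 1, Int.ofNat 0, Int.ofNat 0, Int.ofNat 0, Int.negSucc 1, Int.negSucc 1, Int.ofNat 0, Int.ofNat 0, Int.ofNat 0, Int.ofNat 0, Int.ofNat 0, Int.ofNat 0, Int.ofNat 0, Int.ofNat 0, Int.ofNat 0, Int.ofNat 0, Int.ofNat 0, Int.negSucc 1, Int.ofNat 0, Int.ofNat 2, Int.ofNat 0, Int.negSucc 1, Int.ofNat 2],
  [Int.ofNat 1, Int.ofNat 1, Int.negSucc 0, Int.ofNat 1, Int.ofNat 1, Int.negSucc 0, Int.negSucc 0, Int.ofNat 1, Int.ofNat 1, Int.negSucc 0, Int.negSucc 0, Int.ofNat 1, Int.ofNat 1, Int.ofNat 1, Int.ofNat 1, Int.negSucc 0, Int.ofNat 1, Int.ofNat 1, Int.negSucc 0, Int.ofNat 1, Int.ofNat 1, Int.ofNat 1, Int.negSucc 0, Int.negSucc 2],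
  [Int.ofNat 1, Int.ofNat 1, Int.ofNat 1, Int.ofNat 1, Int.ofNat 1, Int.ofNat 1, Int.ofNat 1, Int.ofNat 1, Int.ofNat 1, Int.ofNat 1, Int.ofNat 1, Int.ofNat 1, Int.ofNat 1, Int.ofNat 1, Int.ofNat 1, Int.ofNat 1, Int.ofNat 1, Int.ofNat 1, Int.ofNat 1, Int.ofNat 1, Int.ofNat 1, Int.ofNat 1, Int.ofNat 1, Int.negSucc 2],
  [Int.ofNat 1, Int.ofNat 1, Int.ofNat 1, Int.ofNat 1, Int.ofNat 1, Int.ofNat 1, Int.ofNat 1, Int.ofNat 1, Int.ofNat 1, Int.ofNat 1, Int.ofNat 1, Int.ofNat 1, Int.ofNat 1, Int.ofNat 1, Int.ofNat 1, Int.ofNat 1, Int.ofNat 1, Int.ofNat 1, Int.ofNat 1, Int.ofNat 1, Int.ofNat 1, Int.ofNat 1, Int.ofNat 1, Int.negSucc 2],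
  [Int.ofNat 1, Int.ofNat 1, Int.negSucc 0, Int.ofNat 1, Int.ofNat 1, Int.negSucc 0, Int.negSucc 0, Int.ofNat 1, Int.ofNat 1, Int.negSucc 0, Int.negSucc 0, Int.ofNat 1, Int.ofNat 1, Int.ofNat 1, Int.ofNat 1, Int.negSucc 0, Int.ofNat 1, Int.ofNat 1, Int.negSucc 0, Int.ofNat 1, Int.ofNat 1, Int.ofNat 1, Int.negSucc 0, Int.negSucc 2],
  [Int.negSucc 1, Int.negSucc 1, Int.ofNat 0, Int.ofNat 0, Int.ofNat 0, Int.negSucc 1, Int.negSucc 1, Int.ofNat 0, Int.ofNat 0, Int.ofNat 0, Int.ofNat 0, Int.ofNat 0, Int.ofNat 0, Int.ofNat 0, Int.ofNat 0, Int.ofNat 0, Int.ofNat 0, Int.ofNat 0, Int.negSucc 1, Int.ofNat 0, Int.ofNat 2, Int.ofNat 0, Int.negSucc 1, Int.ofNat 2],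
  [Int.negSucc 1, Int.negSucc 1, Int.negSucc 1, Int.ofNat 0, Int.ofNat 0, Int.ofNat 0, Int.negSucc 1, Int.negSucc 1, Int.ofNat 0, Int.ofNat 0, Int.ofNat 0, Int.ofNat 0, Int.ofNat 0, Int.ofNat 0, Int.ofNat 0, Int.ofNat 0, Int.ofNat 0, Int.ofNat 0, Int.ofNat 0, Int.negSucc 1, Int.ofNat 0, Int.ofNat 2, Int.ofNat 0, Int.ofNat 2],
  [Int.ofNat 0, Int.ofNat 0, Int.ofNat 0, Int.ofNat 0, Int.ofNat 0, Int.ofNat 0, Int.ofNat 0, Int.ofNat 0, Int.ofNat 0, Int.ofNat 0, Int.ofNat 0, Int.ofNat 0, Int.ofNat 0, Int.ofNat 0, Int.ofNat 0, Int.ofNat 0, Int.ofNat 0, Int.ofNat 0, Int.ofNat 0, Int.ofNat 0, Int.ofNat 0, Int.ofNat 4, Int.ofNat 0, Int.negSucc 3],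
  [Int.ofNat 0, Int.ofNat 4, Int.ofNat 0, Int.ofNat 0, Int.ofNat 0, Int.ofNat 0, Int.ofNat 0, Int.ofNat 0, Int.ofNat 0, Int.ofNat 0, Int.ofNat 0, Int.ofNat 0, Int.ofNat 0, Int.ofNat 0, Int.ofNat 0, Int.ofNat 0, Int.ofNat 0, Int.ofNat 0, Int.ofNat 0, Int.ofNat 0, Int.ofNat 0, Int.ofNat 0, Int.ofNat 0, Int.negSucc 3],
  [Int.ofNat 0, Int.negSucc 3, Int.ofNat 0, Int.ofNat 0, Int.ofNat 0, Int.ofNat 0, Int.ofNat 0, Int.ofNat 0, Int.ofNat 0, Int.ofNat 0, Int.ofNat 0, Int.ofNat 0, Int.ofNat 0, Int.ofNat 0, Int.ofNat 0, Int.ofNat 0, Int.ofNat 0, Int.ofNat 0, Int.ofNat 0, Int.ofNat 0, Int.ofNat 0, Int.ofNat 0, Int.ofNat 0, Int.ofNat 4],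
  [Int.negSucc 3, Int.ofNat 0, Int.ofNat 0, Int.ofNat 0, Int.ofNat 0, Int.ofNat 0, Int.ofNat 0, Int.ofNat 0, Int.ofNat 0, Int.ofNat 0, Int.ofNat 0, Int.ofNat 0, Int.ofNat 0, Int.ofNat 0, Int.ofNat 0, Int.ofNat 0, Int.ofNat 0, Int.ofNat 0, Int.ofNat 0, Int.ofNat 0, Int.ofNat 0, Int.ofNat 0, Int.ofNat 0, Int.ofNat 4],
  [Int.ofNat 4, Int.ofNat 0, Int.ofNat 0, Int.ofNat 0, Int.ofNat 0, Int.ofNat 0, Int.ofNat 0, Int.ofNat 0, Int.ofNat 0, Int.ofNat 0, Int.ofNat 0, Int.ofNat 0, Int.ofNat 0, Int.ofNat 0, Int.ofNat 0, Int.ofNat 0, Int.ofNat 0, Int.ofNat 0, Int.ofNat 0, Int.ofNat 0, Int.ofNat 0, Int.ofNat 0, Int.ofNat 0, Int.ofNat 4],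
  [Int.negSucc 3, Int.ofNat 0, Int.ofNat 0, Int.ofNat 0, Int.ofNat 0, Int.ofNat 0, Int.ofNat 0, Int.ofNat 0, Int.ofNat 0, Int.ofNat 0, Int.ofNat 0, Int.ofNat 0, Int.ofNat 0, Int.ofNat 0, Int.ofNat 0, Int.ofNat 0, Int.ofNat 0, Int.ofNat 0, Int.ofNat 0, Int.ofNat 0, Int.ofNat 0, Int.ofNat 0, Int.ofNat 0, Int.ofNat 4],
  [Int.ofNat 4, Int.ofNat 0, Int.ofNat 0, Int.ofNat 0, Int.ofNat 0, Int.ofNat 0, Int.ofNat 0, Int.ofNat 0, Int.ofNat 0, Int.ofNat 0, Int.ofNat 0, Int.ofNat 0, Int.ofNat 0, Int.ofNat 0, Int.ofNat 0, Int.ofNat 0, Int.ofNat 0, Int.ofNat 0, Int.ofNat 0, Int.ofNat 0, Int.ofNat 0, Int.ofNat 0, Int.ofNat 0, Int.negSucc 3],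
  [Int.negSucc 3, Int.ofNat 0, Int.ofNat 0, Int.ofNat 0, Int.ofNat 0, Int.ofNat 0, Int.ofNat 0, Int.ofNat 0, Int.ofNat 0, Int.ofNat 0, Int.ofNat 0, Int.ofNat 0, Int.ofNat 0, Int.ofNat 0, Int.ofNat 0, Int.ofNat 0, Int.ofNat 0, Int.ofNat 0, Int.ofNat 0, Int.ofNat 0, Int.ofNat 0, Int.ofNat 0, Int.ofNat 0, Int.negSucc 3],
  [Int.ofNat 0, Int.negSucc 3, Int.ofNat 0, Int.ofNat 0, Int.ofNat 0, Int.ofNat 0, Int.ofNat 0, Int.ofNat 0, Int.ofNat 0, Int.ofNat 0, Int.ofNat 0, Int.ofNat 0, Int.ofNat 0, Int.ofNat 0, Int.ofNat 0, Int.ofNat 0, Int.ofNat 0, Int.ofNat 0, Int.ofNat 0, Int.ofNat 0, Int.ofNat 0, Int.ofNat 0, Int.ofNat 0, Int.negSucc 3],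
  [Int.negSucc 3, Int.ofNat 0, Int.negSucc 3, Int.ofNat 0, Int.ofNat 0, Int.ofNat 0, Int.ofNat 0, Int.ofNat 0, Int.ofNat 0, Int.ofNat 0, Int.ofNat 0, Int.ofNat 0, Int.ofNat 0, Int.ofNat 0, Int.ofNat 0, Int.ofNat 0, Int.ofNat 0, Int.ofNat 0, Int.ofNat 0, Int.ofNat 0, Int.ofNat 0, Int.ofNat 0, Int.ofNat 0, Int.ofNat 0],
  [Int.ofNat 0, Int.ofNat 0, Int.ofNat 0, Int.ofNat 0, Int.ofNat 0, Int.ofNat 0, Int.ofNat 0, Int.ofNat 0, Int.ofNat 0, Int.ofNat 0, Int.ofNat 0, Int.ofNat 0, Int.ofNat 0, Int.ofNat 0, Int.ofNat 0, Int.ofNat 0, Int.ofNat 0, Int.ofNat 0, Int.ofNat 0, Int.ofNat 0, Int.negSucc 3, Int.ofNat 0, Int.negSucc 3, Int.ofNat 0],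
  [Int.ofNat 0, Int.ofNat 0, Int.ofNat 0, Int.ofNat 0, Int.ofNat 2, Int.ofNat 0, Int.ofNat 0, Int.ofNat 0, Int.ofNat 0, Int.ofNat 2, Int.ofNat 2, Int.ofNat 0, Int.ofNat 0, Int.ofNat 2, Int.ofNat 0, Int.ofNat 2, Int.ofNat 2, Int.ofNat 0, Int.ofNat 0, Int.ofNat 0, Int.negSucc 1, Int.ofNat 0, Int.negSucc 1, Int.ofNat 0],
  [Int.ofNat 0, Int.ofNat 0, Int.ofNat 2, Int.ofNat 0, Int.ofNat 0, Int.ofNat 0, Int.ofNat 0, Int.ofNat 2, Int.ofNat 0, Int.ofNat 2, Int.negSucc 1, Int.ofNat 0, Int.ofNat 2, Int.ofNat 2, Int.negSucc 1, Int.ofNat 2, Int.ofNat 0, Int.ofNat 0, Int.ofNat 0, Int.ofNat 0, Int.ofNat 0, Int.ofNat 0, Int.ofNat 0, Int.ofNat 0],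
  [Int.ofNat 1, Int.ofNat 1, Int.negSucc 0, Int.ofNat 1, Int.negSucc 0, Int.ofNat 1, Int.negSucc 0, Int.ofNat 1, Int.negSucc 0, Int.ofNat 1, Int.negSucc 2, Int.negSucc 0, Int.ofNat 1, Int.ofNat 1, Int.negSucc 0, Int.ofNat 1, Int.negSucc 0, Int.ofNat 1, Int.negSucc 0, Int.negSucc 0, Int.negSucc 0, Int.negSucc 0, Int.negSucc 0, Int.ofNat 1],
  [Int.ofNat 1, Int.ofNat 1, Int.ofNat 1, Int.ofNat 1, Int.negSucc 0, Int.negSucc 0, Int.ofNat 1, Int.ofNat 1, Int.negSucc 0, Int.negSucc 0, Int.ofNat 3, Int.negSucc 0, Int.ofNat 1, Int.ofNat 1, Int.negSucc 0, Int.negSucc 0, Int.negSucc 0, Int.ofNat 1, Int.ofNat 1, Int.negSucc 0, Int.negSucc 0, Int.negSucc 0, Int.ofNat 1, Int.ofNat 1],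
  [Int.negSucc 0, Int.ofNat 1, Int.ofNat 1, Int.negSucc 0, Int.negSucc 0, Int.negSucc 0, Int.negSucc 0, Int.ofNat 1, Int.ofNat 1, Int.ofNat 1, Int.ofNat 1, Int.ofNat 1, Int.negSucc 0, Int.negSucc 0, Int.ofNat 3, Int.negSucc 0, Int.ofNat 1, Int.ofNat 1, Int.ofNat 1, Int.negSucc 0, Int.ofNat 1, Int.negSucc 0, Int.negSucc 0, Int.ofNat 1],
  [Int.negSucc 0, Int.ofNat 1, Int.negSucc 0, Int.negSucc 0, Int.negSucc 0, Int.ofNat 1, Int.ofNat 1, Int.ofNat 1, Int.ofNat 1, Int.negSucc 0, Int.negSucc 0, Int.ofNat 1, Int.negSucc 0, Int.negSucc 0, Int.ofNat 3, Int.ofNat 1, Int.ofNat 1, Int.ofNat 1, Int.negSucc 0, Int.negSucc 0, Int.ofNat 1, Int.negSucc 0, Int.ofNat 1, Int.ofNat 1],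
  [Int.ofNat 1, Int.negSucc 0, Int.ofNat 1, Int.negSucc 2, Int.negSucc 0, Int.negSucc 0, Int.ofNat 1, Int.ofNat 1, Int.ofNat 1, Int.negSucc 0, Int.negSucc 0, Int.ofNat 1, Int.negSucc 0, Int.negSucc 0, Int.ofNat 1, Int.ofNat 1, Int.ofNat 1, Int.negSucc 0, Int.negSucc 0, Int.negSucc 0, Int.ofNat 1, Int.negSucc 0, Int.ofNat 1, Int.negSucc 0],
  [Int.ofNat 1, Int.negSucc 0, Int.ofNat 1, Int.negSucc 2, Int.ofNat 1, Int.negSucc 0, Int.negSucc 0, Int.negSucc 0, Int.ofNat 1, Int.negSucc 0, Int.ofNat 1, Int.negSucc 0, Int.ofNat 1, Int.negSucc 0, Int.negSucc 0, Int.ofNat 1, Int.negSucc 0, Int.ofNat 1, Int.negSucc 0, Int.ofNat 1, Int.negSucc 0, Int.ofNat 1, Int.ofNat 1, Int.negSucc 0],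
  [Int.negSucc 0, Int.ofNat 1, Int.negSucc 0, Int.negSucc 0, Int.ofNat 1, Int.ofNat 1, Int.negSucc 0, Int.negSucc 0, Int.ofNat 1, Int.negSucc 0, Int.ofNat 1, Int.negSucc 0, Int.ofNat 1, Int.negSucc 0, Int.ofNat 1, Int.ofNat 1, Int.negSucc 0, Int.ofNat 3, Int.negSucc 0, Int.ofNat 1, Int.negSucc 0, Int.ofNat 1, Int.ofNat 1, Int.ofNat 1],
  [Int.negSucc 0, Int.ofNat 1, Int.ofNat 1, Int.negSucc 0, Int.ofNat 1, Int.negSucc 0, Int.negSucc 0, Int.ofNat 1, Int.ofNat 1, Int.negSucc 0, Int.negSucc 0, Int.ofNat 1, Int.negSucc 0, Int.ofNat 1, Int.negSucc 0, Int.ofNat 1, Int.negSucc 0, Int.ofNat 1, Int.ofNat 1, Int.negSucc 0, Int.ofNat 3, Int.negSucc 0, Int.ofNat 1, Int.ofNat 1],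
  [Int.ofNat 2, Int.ofNat 0, Int.ofNat 0, Int.ofNat 0, Int.ofNat 0, Int.ofNat 0, Int.ofNat 0, Int.ofNat 2, Int.ofNat 0, Int.negSucc 1, Int.negSucc 1, Int.ofNat 0, Int.negSucc 1, Int.ofNat 0, Int.ofNat 0, Int.ofNat 0, Int.negSucc 1, Int.ofNat 2, Int.ofNat 0, Int.ofNat 0, Int.ofNat 2, Int.ofNat 0, Int.ofNat 0, Int.ofNat 0],
  [Int.ofNat 0, Int.ofNat 0, Int.ofNat 0, Int.ofNat 0, Int.ofNat 0, Int.ofNat 0, Int.ofNat 2, Int.ofNat 0, Int.negSucc 1, Int.negSucc 1, Int.ofNat 0, Int.negSucc 1, Int.ofNat 0, Int.ofNat 0, Int.ofNat 0, Int.negSucc 1, Int.ofNat 2, Int.ofNat 0, Int.ofNat 0, Int.ofNat 2, Int.ofNat 0, Int.ofNat 0, Int.ofNat 2, Int.ofNat 0],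
  [Int.ofNat 0, Int.ofNat 0, Int.ofNat 0, Int.ofNat 0, Int.ofNat 0, Int.ofNat 0, Int.ofNat 2, Int.ofNat 0, Int.negSucc 1, Int.ofNat 2, Int.ofNat 0, Int.ofNat 2, Int.ofNat 0, Int.ofNat 0, Int.ofNat 0, Int.negSucc 1, Int.ofNat 2, Int.ofNat 0, Int.ofNat 0, Int.ofNat 2, Int.ofNat 0, Int.ofNat 0, Int.ofNat 2, Int.ofNat 0]]

set_option maxRecDepth 100000 in
theorem c1e8_chk : pmChk (List.replicate 14 [8, 0, 25]).flatten nxL c1e8M 0 0 = true := by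
  decide +kernel

theorem c1e8_ne : wE letE2 (List.replicate 14 [8, 0, 25]).flatten ≠ 1 ∧ wE letE2 (List.replicate 14 [8, 0, 25]).flatten ≠ negElt :=
  ne_pm_of_chk nxL_mem c1e8_chk

set_option maxRecDepth 100000 in
def c1e9M : List (List ℤ) :=
  [[Int.ofNat 4, Int.ofNat 0, Int.ofNat 0, Int.ofNat 0, Int.ofNat 0, Int.ofNat 0, Int.ofNat 0, Int.ofNat 0, Int.ofNat 0, Int.ofNat 0, Int.ofNat 0, Int.ofNat 0, Int.ofNat 0, Int.ofNat 0, Int.ofNat 0, Int.ofNat 0, Int.ofNat 0, Int.ofNat 0, Int.ofNat 0, Int.ofNat 0, Int.ofNat 0, Int.ofNat 0, Int.ofNat 0, Int.ofNat 4],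
  [Int.ofNat 4, Int.ofNat 0, Int.ofNat 0, Int.ofNat 0, Int.ofNat 0, Int.ofNat 0, Int.ofNat 0, Int.ofNat 0, Int.ofNat 0, Int.ofNat 0, Int.ofNat 0, Int.ofNat 0, Int.ofNat 0, Int.ofNat 0, Int.ofNat 0, Int.ofNat 0, Int.ofNat 0, Int.ofNat 0, Int.ofNat 0, Int.ofNat 0, Int.ofNat 0, Int.ofNat 0, Int.ofNat 0, Int.ofNat 4],
  [Int.negSucc 3, Int.ofNat 0, Int.ofNat 0, Int.ofNat 0, Int.ofNat 0, Int.ofNat 0, Int.ofNat 0, Int.ofNat 0, Int.ofNat 0, Int.ofNat 0, Int.ofNat 0, Int.ofNat 0, Int.ofNat 0, Int.ofNat 0, Int.ofNat 0, Int.ofNat 0, Int.ofNat 0, Int.ofNat 0, Int.ofNat 0, Int.ofNat 0, Int.ofNat 0, Int.ofNat 0, Int.ofNat 0, Int.ofNat 4],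
  [Int.ofNat 0, Int.negSucc 3, Int.ofNat 0, Int.ofNat 0, Int.ofNat 0, Int.ofNat 0, Int.ofNat 0, Int.ofNat 0, Int.ofNat 0, Int.ofNat 0, Int.ofNat 0, Int.ofNat 0, Int.ofNat 0, Int.ofNat 0, Int.ofNat 0, Int.ofNat 0, Int.ofNat 0, Int.ofNat 0, Int.ofNat 0, Int.ofNat 0, Int.ofNat 0, Int.ofNat 0, Int.ofNat 0, Int.ofNat 4],
  [Int.ofNat 0, Int.ofNat 4, Int.ofNat 0, Int.ofNat 0, Int.ofNat 0, Int.ofNat 0, Int.ofNat 0, Int.ofNat 0, Int.ofNat 0, Int.ofNat 0, Int.ofNat 0, Int.ofNat 0, Int.ofNat 0, Int.ofNat 0, Int.ofNat 0, Int.ofNat 0, Int.ofNat 0, Int.ofNat 0, Int.ofNat 0, Int.ofNat 0, Int.ofNat 0, Int.ofNat 0, Int.ofNat 0, Int.negSucc 3],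
  [Int.ofNat 0, Int.ofNat 0, Int.ofNat 0, Int.ofNat 0, Int.ofNat 0, Int.ofNat 0, Int.ofNat 0, Int.ofNat 0, Int.ofNat 0, Int.ofNat 0, Int.ofNat 0, Int.ofNat 0, Int.ofNat 0, Int.ofNat 0, Int.ofNat 0, Int.ofNat 0, Int.ofNat 0, Int.ofNat 0, Int.ofNat 0, Int.ofNat 0, Int.ofNat 0, Int.ofNat 4, Int.ofNat 0, Int.negSucc 3],
  [Int.negSucc 1, Int.negSucc 1, Int.negSucc 1, Int.ofNat 0, Int.ofNat 0, Int.ofNat 0, Int.negSucc 1, Int.negSucc 1, Int.ofNat 0, Int.ofNat 0, Int.ofNat 0, Int.ofNat 0, Int.ofNat 0, Int.ofNat 0, Int.ofNat 0, Int.ofNat 0, Int.ofNat 0, Int.ofNat 0, Int.ofNat 0, Int.negSucc 1, Int.ofNat 0, Int.ofNat 2, Int.ofNat 0, Int.ofNat 2],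
  [Int.negSucc 1, Int.negSucc 1, Int.ofNat 0, Int.ofNat 0, Int.ofNat 0, Int.negSucc 1, Int.negSucc 1, Int.ofNat 0, Int.ofNat 0, Int.ofNat 0, Int.ofNat 0, Int.ofNat 0, Int.ofNat 0, Int.ofNat 0, Int.ofNat 0, Int.ofNat 0, Int.ofNat 0, Int.ofNat 0, Int.negSucc 1, Int.ofNat 0, Int.ofNat 2, Int.ofNat 0, Int.negSucc 1, Int.ofNat 2],
  [Int.ofNat 1, Int.ofNat 1, Int.negSucc 0, Int.ofNat 1, Int.ofNat 1, Int.negSucc 0, Int.negSucc 0, Int.ofNat 1, Int.ofNat 1, Int.negSucc 0, Int.negSucc 0, Int.ofNat 1, Int.ofNat 1, Int.ofNat 1, Int.ofNat 1, Int.negSucc 0, Int.ofNat 1, Int.ofNat 1, Int.negSucc 0, Int.ofNat 1, Int.ofNat 1, Int.ofNat 1, Int.negSucc 0, Int.negSucc 2],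
  [Int.ofNat 1, Int.ofNat 1, Int.ofNat 1, Int.ofNat 1, Int.ofNat 1, Int.ofNat 1, Int.ofNat 1, Int.ofNat 1, Int.ofNat 1, Int.ofNat 1, Int.ofNat 1, Int.ofNat 1, Int.ofNat 1, Int.ofNat 1, Int.ofNat 1, Int.ofNat 1, Int.ofNat 1, Int.ofNat 1, Int.ofNat 1, Int.ofNat 1, Int.ofNat 1, Int.ofNat 1, Int.ofNat 1, Int.negSucc 2],
  [Int.ofNat 1, Int.ofNat 1, Int.ofNat 1, Int.ofNat 1, Int.ofNat 1, Int.ofNat 1, Int.ofNat 1, Int.ofNat 1, Int.ofNat 1, Int.ofNat 1, Int.ofNat 1, Int.ofNat 1, Int.ofNat 1, Int.ofNat 1, Int.ofNat 1, Int.ofNat 1, Int.ofNat 1, Int.ofNat 1, Int.ofNat 1, Int.ofNat 1, Int.ofNat 1, Int.ofNat 1, Int.ofNat 1, Int.negSucc 2],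
  [Int.ofNat 1, Int.ofNat 1, Int.negSucc 0, Int.ofNat 1, Int.ofNat 1, Int.negSucc 0, Int.negSucc 0, Int.ofNat 1, Int.ofNat 1, Int.negSucc 0, Int.negSucc 0, Int.ofNat 1, Int.ofNat 1, Int.ofNat 1, Int.ofNat 1, Int.negSucc 0, Int.ofNat 1, Int.ofNat 1, Int.negSucc 0, Int.ofNat 1, Int.ofNat 1, Int.ofNat 1, Int.negSucc 0, Int.negSucc 2],
  [Int.negSucc 1, Int.negSucc 1, Int.ofNat 0, Int.ofNat 0, Int.ofNat 0, Int.negSucc 1, Int.negSucc 1, Int.ofNat 0, Int.ofNat 0, Int.ofNat 0, Int.ofNat 0, Int.ofNat 0, Int.ofNat 0, Int.ofNat 0, Int.ofNat 0, Int.ofNat 0, Int.ofNat 0, Int.ofNat 0, Int.negSucc 1, Int.ofNat 0, Int.ofNat 2, Int.ofNat 0, Int.negSucc 1, Int.ofNat 2],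
  [Int.negSucc 1, Int.negSucc 1, Int.negSucc 1, Int.ofNat 0, Int.ofNat 0, Int.ofNat 0, Int.negSucc 1, Int.negSucc 1, Int.ofNat 0, Int.ofNat 0, Int.ofNat 0, Int.ofNat 0, Int.ofNat 0, Int.ofNat 0, Int.ofNat 0, Int.ofNat 0, Int.ofNat 0, Int.ofNat 0, Int.ofNat 0, Int.negSucc 1, Int.ofNat 0, Int.ofNat 2, Int.ofNat 0, Int.ofNat 2],
  [Int.ofNat 0, Int.ofNat 0, Int.ofNat 0, Int.ofNat 0, Int.ofNat 0, Int.ofNat 0, Int.ofNat 0, Int.ofNat 0, Int.ofNat 0, Int.ofNat 0, Int.ofNat 0, Int.ofNat 0, Int.ofNat 0, Int.ofNat 0, Int.ofNat 0, Int.ofNat 0, Int.ofNat 0, Int.ofNat 0, Int.ofNat 0, Int.ofNat 0, Int.ofNat 0, Int.ofNat 4, Int.ofNat 0, Int.negSucc 3],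
  [Int.ofNat 0, Int.ofNat 4, Int.ofNat 0, Int.ofNat 0, Int.ofNat 0, Int.ofNat 0, Int.ofNat 0, Int.ofNat 0, Int.ofNat 0, Int.ofNat 0, Int.ofNat 0, Int.ofNat 0, Int.ofNat 0, Int.ofNat 0, Int.ofNat 0, Int.ofNat 0, Int.ofNat 0, Int.ofNat 0, Int.ofNat 0, Int.ofNat 0, Int.ofNat 0, Int.ofNat 0, Int.ofNat 0, Int.negSucc 3],
  [Int.ofNat 0, Int.negSucc 3, Int.ofNat 0, Int.ofNat 0, Int.ofNat 0, Int.ofNat 0, Int.ofNat 0, Int.ofNat 0, Int.ofNat 0, Int.ofNat 0, Int.ofNat 0, Int.ofNat 0, Int.ofNat 0, Int.ofNat 0, Int.ofNat 0, Int.ofNat 0, Int.ofNat 0, Int.ofNat 0, Int.ofNat 0, Int.ofNat 0, Int.ofNat 0, Int.ofNat 0, Int.ofNat 0, Int.ofNat 4],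
  [Int.negSucc 3, Int.ofNat 0, Int.ofNat 0, Int.ofNat 0, Int.ofNat 0, Int.ofNat 0, Int.ofNat 0, Int.ofNat 0, Int.ofNat 0, Int.ofNat 0, Int.ofNat 0, Int.ofNat 0, Int.ofNat 0, Int.ofNat 0, Int.ofNat 0, Int.ofNat 0, Int.ofNat 0, Int.ofNat 0, Int.ofNat 0, Int.ofNat 0, Int.ofNat 0, Int.ofNat 0, Int.ofNat 0, Int.ofNat 4],
  [Int.ofNat 4, Int.ofNat 0, Int.ofNat 0, Int.ofNat 0, Int.ofNat 0, Int.ofNat 0, Int.ofNat 0, Int.ofNat 0, Int.ofNat 0, Int.ofNat 0, Int.ofNat 0, Int.ofNat 0, Int.ofNat 0, Int.ofNat 0, Int.ofNat 0, Int.ofNat 0, Int.ofNat 0, Int.ofNat 0, Int.ofNat 0, Int.ofNat 0, Int.ofNat 0, Int.ofNat 0, Int.ofNat 0, Int.ofNat 4],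
  [Int.negSucc 3, Int.ofNat 0, Int.ofNat 0, Int.ofNat 0, Int.ofNat 0, Int.ofNat 0, Int.ofNat 0, Int.ofNat 0, Int.ofNat 0, Int.ofNat 0, Int.ofNat 0, Int.ofNat 0, Int.ofNat 0, Int.ofNat 0, Int.ofNat 0, Int.ofNat 0, Int.ofNat 0, Int.ofNat 0, Int.ofNat 0, Int.ofNat 0, Int.ofNat 0, Int.ofNat 0, Int.ofNat 0, Int.ofNat 4],
  [Int.ofNat 4, Int.ofNat 0, Int.ofNat 0, Int.ofNat 0, Int.ofNat 0, Int.ofNat 0, Int.ofNat 0, Int.ofNat 0, Int.ofNat 0, Int.ofNat 0, Int.ofNat 0, Int.ofNat 0, Int.ofNat 0, Int.ofNat 0, Int.ofNat 0, Int.ofNat 0, Int.ofNat 0, Int.ofNat 0, Int.ofNat 0, Int.ofNat 0, Int.ofNat 0, Int.ofNat 0, Int.ofNat 0, Int.negSucc 3],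
  [Int.negSucc 3, Int.ofNat 0, Int.ofNat 0, Int.ofNat 0, Int.ofNat 0, Int.ofNat 0, Int.ofNat 0, Int.ofNat 0, Int.ofNat 0, Int.ofNat 0, Int.ofNat 0, Int.ofNat 0, Int.ofNat 0, Int.ofNat 0, Int.ofNat 0, Int.ofNat 0, Int.ofNat 0, Int.ofNat 0, Int.ofNat 0, Int.ofNat 0, Int.ofNat 0, Int.ofNat 0, Int.ofNat 0, Int.negSucc 3],
  [Int.ofNat 0, Int.negSucc 3, Int.ofNat 0, Int.ofNat 0, Int.ofNat 0, Int.ofNat 0, Int.ofNat 0, Int.ofNat 0, Int.ofNat 0, Int.ofNat 0, Int.ofNat 0, Int.ofNat 0, Int.ofNat 0, Int.ofNat 0, Int.ofNat 0, Int.ofNat 0, Int.ofNat 0, Int.ofNat 0, Int.ofNat 0, Int.ofNat 0, Int.ofNat 0, Int.ofNat 0, Int.ofNat 0, Int.negSucc 3],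
  [Int.negSucc 3, Int.ofNat 0, Int.negSucc 3, Int.ofNat 0, Int.ofNat 0, Int.ofNat 0, Int.ofNat 0, Int.ofNat 0, Int.ofNat 0, Int.ofNat 0, Int.ofNat 0, Int.ofNat 0, Int.ofNat 0, Int.ofNat 0, Int.ofNat 0, Int.ofNat 0, Int.ofNat 0, Int.ofNat 0, Int.ofNat 0, Int.ofNat 0, Int.ofNat 0, Int.ofNat 0, Int.ofNat 0, Int.ofNat 0],
  [Int.ofNat 0, Int.ofNat 0, Int.ofNat 0, Int.ofNat 0, Int.ofNat 0, Int.ofNat 0, Int.ofNat 0, Int.ofNat 0, Int.ofNat 0, Int.ofNat 0, Int.ofNat 0, Int.ofNat 0, Int.ofNat 0, Int.ofNat 0, Int.ofNat 0, Int.ofNat 0, Int.ofNat 0, Int.ofNat 0, Int.ofNat 0, Int.ofNat 0, Int.negSucc 3, Int.ofNat 0, Int.negSucc 3, Int.ofNat 0],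
  [Int.ofNat 0, Int.ofNat 0, Int.ofNat 0, Int.ofNat 0, Int.ofNat 2, Int.ofNat 0, Int.ofNat 0, Int.ofNat 0, Int.ofNat 0, Int.ofNat 2, Int.ofNat 2, Int.ofNat 0, Int.ofNat 0, Int.ofNat 2, Int.ofNat 0, Int.ofNat 2, Int.ofNat 2, Int.ofNat 0, Int.ofNat 0, Int.ofNat 0, Int.negSucc 1, Int.ofNat 0, Int.negSucc 1, Int.ofNat 0],
  [Int.ofNat 0, Int.ofNat 0, Int.ofNat 2, Int.ofNat 0, Int.ofNat 0, Int.ofNat 0, Int.ofNat 0, Int.ofNat 2, Int.ofNat 0, Int.ofNat 2, Int.negSucc 1, Int.ofNat 0, Int.ofNat 2, Int.ofNat 2, Int.negSucc 1, Int.ofNat 2, Int.ofNat 0, Int.ofNat 0, Int.ofNat 0, Int.ofNat 0, Int.ofNat 0, Int.ofNat 0, Int.ofNat 0, Int.ofNat 0],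
  [Int.ofNat 1, Int.ofNat 1, Int.negSucc 0, Int.ofNat 1, Int.negSucc 0, Int.ofNat 1, Int.negSucc 0, Int.ofNat 1, Int.negSucc 0, Int.ofNat 1, Int.negSucc 2, Int.negSucc 0, Int.ofNat 1, Int.ofNat 1, Int.negSucc 0, Int.ofNat 1, Int.negSucc 0, Int.ofNat 1, Int.negSucc 0, Int.negSucc 0, Int.negSucc 0, Int.negSucc 0, Int.negSucc 0, Int.ofNat 1],
  [Int.ofNat 1, Int.ofNat 1, Int.ofNat 1, Int.ofNat 1, Int.negSucc 0, Int.negSucc 0, Int.ofNat 1, Int.ofNat 1, Int.negSucc 0, Int.negSucc 0, Int.ofNat 3, Int.negSucc 0, Int.ofNat 1, Int.ofNat 1, Int.negSucc 0, Int.negSucc 0, Int.negSucc 0, Int.ofNat 1, Int.ofNat 1, Int.negSucc 0, Int.negSucc 0, Int.negSucc 0, Int.ofNat 1, Int.ofNat 1],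
  [Int.negSucc 0, Int.ofNat 1, Int.negSucc 0, Int.ofNat 1, Int.ofNat 1, Int.ofNat 1, Int.negSucc 0, Int.negSucc 0, Int.ofNat 1, Int.negSucc 0, Int.ofNat 1, Int.negSucc 0, Int.negSucc 0, Int.ofNat 1, Int.ofNat 1, Int.ofNat 1, Int.negSucc 0, Int.ofNat 1, Int.ofNat 1, Int.ofNat 3, Int.negSucc 0, Int.negSucc 0, Int.negSucc 0, Int.ofNat 1],
  [Int.negSucc 0, Int.ofNat 1, Int.ofNat 1, Int.ofNat 1, Int.ofNat 1, Int.negSucc 0, Int.ofNat 1, Int.negSucc 0, Int.ofNat 1, Int.ofNat 1, Int.negSucc 0, Int.negSucc 0, Int.negSucc 0, Int.ofNat 1, Int.ofNat 1, Int.negSucc 0, Int.negSucc 0, Int.ofNat 1, Int.negSucc 0, Int.ofNat 3, Int.negSucc 0, Int.negSucc 0, Int.ofNat 1, Int.ofNat 1],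
  [Int.ofNat 2, Int.ofNat 0, Int.ofNat 0, Int.ofNat 0, Int.ofNat 0, Int.negSucc 1, Int.ofNat 0, Int.negSucc 1, Int.ofNat 2, Int.ofNat 2, Int.ofNat 0, Int.ofNat 0, Int.ofNat 0, Int.ofNat 0, Int.ofNat 0, Int.ofNat 0, Int.negSucc 1, Int.ofNat 0, Int.ofNat 0, Int.ofNat 2, Int.ofNat 0, Int.negSucc 1, Int.ofNat 0, Int.ofNat 0],
  [Int.ofNat 2, Int.ofNat 0, Int.ofNat 0, Int.ofNat 0, Int.ofNat 0, Int.negSucc 1, Int.ofNat 0, Int.negSucc 1, Int.negSucc 1, Int.ofNat 0, Int.negSucc 1, Int.ofNat 2, Int.ofNat 2, Int.ofNat 2, Int.ofNat 0, Int.ofNat 0, Int.ofNat 0, Int.ofNat 0, Int.ofNat 0, Int.ofNat 0, Int.ofNat 0, Int.ofNat 0, Int.ofNat 0, Int.ofNat 0],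
  [Int.negSucc 0, Int.ofNat 1, Int.ofNat 1, Int.ofNat 1, Int.negSucc 0, Int.negSucc 0, Int.ofNat 1, Int.negSucc 0, Int.negSucc 2, Int.ofNat 1, Int.negSucc 0, Int.ofNat 1, Int.ofNat 1, Int.ofNat 1, Int.ofNat 1, Int.ofNat 1, Int.negSucc 0, Int.ofNat 1, Int.negSucc 0, Int.ofNat 1, Int.ofNat 1, Int.ofNat 1, Int.negSucc 0, Int.ofNat 1],
  [Int.ofNat 1, Int.ofNat 1, Int.negSucc 0, Int.negSucc 0, Int.ofNat 1, Int.ofNat 1, Int.ofNat 1, Int.negSucc 0, Int.negSucc 0, Int.ofNat 1, Int.negSucc 0, Int.negSucc 2, Int.ofNat 1, Int.negSucc 0, Int.ofNat 1, Int.ofNat 1, Int.ofNat 1, Int.ofNat 1, Int.ofNat 1, Int.negSucc 0, Int.ofNat 1, Int.negSucc 0, Int.ofNat 1, Int.ofNat 1],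
  [Int.ofNat 0, Int.ofNat 0, Int.ofNat 2, Int.negSucc 1, Int.ofNat 0, Int.ofNat 0, Int.ofNat 2, Int.ofNat 0, Int.ofNat 0, Int.ofNat 0, Int.negSucc 1, Int.negSucc 1, Int.ofNat 2, Int.negSucc 1, Int.ofNat 0, Int.ofNat 0, Int.ofNat 0, Int.ofNat 0, Int.ofNat 2, Int.ofNat 0, Int.ofNat 0, Int.ofNat 0, Int.ofNat 0, Int.ofNat 0],
  [Int.ofNat 0, Int.ofNat 2, Int.negSucc 1, Int.ofNat 0, Int.ofNat 0, Int.ofNat 2, Int.ofNat 0, Int.ofNat 0, Int.ofNat 0, Int.negSucc 1, Int.negSucc 1, Int.ofNat 2, Int.negSucc 1, Int.ofNat 0, Int.ofNat 0, Int.ofNat 0, Int.ofNat 0, Int.ofNat 2, Int.ofNat 0, Int.ofNat 0, Int.ofNat 0, Int.ofNat 0, Int.ofNat 0, Int.ofNat 0],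
  [Int.ofNat 0, Int.ofNat 2, Int.ofNat 2, Int.ofNat 0, Int.ofNat 0, Int.ofNat 2, Int.ofNat 0, Int.ofNat 0, Int.ofNat 0, Int.ofNat 2, Int.ofNat 2, Int.negSucc 1, Int.negSucc 1, Int.ofNat 0, Int.ofNat 0, Int.ofNat 0, Int.ofNat 0, Int.ofNat 2, Int.ofNat 0, Int.ofNat 0, Int.ofNat 0, Int.ofNat 0, Int.ofNat 0, Int.ofNat 0],
  [Int.ofNat 0, Int.negSucc 1, Int.negSucc 1, Int.ofNat 0, Int.ofNat 0, Int.ofNat 2, Int.ofNat 0, Int.ofNat 0, Int.ofNat 0, Int.negSucc 1, Int.ofNat 2, Int.negSucc 1, Int.ofNat 2, Int.ofNat 0, Int.ofNat 0, Int.ofNat 0, Int.ofNat 0, Int.ofNat 2, Int.ofNat 0, Int.ofNat 0, Int.ofNat 0, Int.ofNat 0, Int.ofNat 0, Int.ofNat 0],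
  [Int.ofNat 0, Int.ofNat 0, Int.negSucc 1, Int.ofNat 0, Int.ofNat 2, Int.negSucc 1, Int.ofNat 0, Int.ofNat 0, Int.ofNat 0, Int.ofNat 2, Int.ofNat 0, Int.negSucc 1, Int.ofNat 0, Int.ofNat 0, Int.ofNat 0, Int.ofNat 0, Int.ofNat 2, Int.ofNat 0, Int.ofNat 0, Int.ofNat 0, Int.ofNat 0, Int.ofNat 2, Int.negSucc 1, Int.ofNat 0],
  [Int.ofNat 0, Int.ofNat 0, Int.ofNat 2, Int.ofNat 0, Int.ofNat 2, Int.negSucc 1, Int.ofNat 0, Int.ofNat 0, Int.ofNat 0, Int.negSucc 1, Int.ofNat 0, Int.ofNat 2, Int.ofNat 0, Int.ofNat 0, Int.ofNat 0, Int.ofNat 0, Int.ofNat 2, Int.ofNat 0, Int.ofNat 0, Int.ofNat 0, Int.ofNat 0, Int.negSucc 1, Int.negSucc 1, Int.ofNat 0],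
  [Int.negSucc 1, Int.ofNat 0, Int.ofNat 0, Int.ofNat 2, Int.ofNat 0, Int.ofNat 2, Int.negSucc 1, Int.ofNat 0, Int.ofNat 0, Int.ofNat 0, Int.negSucc 1, Int.ofNat 0, Int.ofNat 2, Int.ofNat 0, Int.ofNat 0, Int.ofNat 0, Int.ofNat 0, Int.ofNat 2, Int.ofNat 0, Int.ofNat 0, Int.ofNat 0, Int.ofNat 0, Int.negSucc 1, Int.ofNat 0],
  [Int.ofNat 1, Int.negSucc 0, Int.negSucc 0, Int.negSucc 0, Int.ofNat 1, Int.negSucc 0, Int.negSucc 0, Int.ofNat 1, Int.negSucc 0, Int.ofNat 1, Int.negSucc 0, Int.negSucc 0, Int.ofNat 1, Int.ofNat 1, Int.negSucc 2, Int.ofNat 1, Int.ofNat 1, Int.negSucc 0, Int.negSucc 0, Int.ofNat 1, Int.ofNat 1, Int.ofNat 1, Int.negSucc 0, Int.negSucc 0],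
  [Int.negSucc 0, Int.ofNat 1, Int.negSucc 0, Int.negSucc 0, Int.ofNat 1, Int.negSucc 0, Int.ofNat 1, Int.negSucc 0, Int.negSucc 0, Int.ofNat 1, Int.ofNat 1, Int.negSucc 2, Int.ofNat 1, Int.ofNat 1, Int.negSucc 0, Int.negSucc 0, Int.ofNat 1, Int.ofNat 1, Int.ofNat 1, Int.negSucc 0, Int.ofNat 1, Int.negSucc 0, Int.negSucc 0, Int.negSucc 0],
  [Int.ofNat 0, Int.negSucc 1, Int.ofNat 0, Int.ofNat 0, Int.ofNat 0, Int.ofNat 0, Int.ofNat 2, Int.ofNat 0, Int.ofNat 0, Int.ofNat 0, Int.ofNat 0, Int.negSucc 1, Int.ofNat 2, Int.ofNat 0, Int.ofNat 0, Int.negSucc 1, Int.ofNat 0, Int.ofNat 2, Int.ofNat 2, Int.ofNat 0, Int.ofNat 0, Int.ofNat 0, Int.negSucc 1, Int.ofNat 0],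
  [Int.ofNat 0, Int.ofNat 2, Int.ofNat 0, Int.ofNat 0, Int.ofNat 2, Int.ofNat 0, Int.ofNat 0, Int.ofNat 0, Int.ofNat 2, Int.ofNat 0, Int.ofNat 0, Int.ofNat 2, Int.ofNat 0, Int.ofNat 0, Int.negSucc 1, Int.negSucc 1, Int.ofNat 0, Int.ofNat 0, Int.negSucc 1, Int.negSucc 1, Int.ofNat 0, Int.ofNat 0, Int.ofNat 0, Int.ofNat 0],
  [Int.ofNat 1, Int.negSucc 0, Int.ofNat 1, Int.ofNat 1, Int.ofNat 1, Int.ofNat 1, Int.ofNat 1, Int.ofNat 1, Int.ofNat 1, Int.ofNat 1, Int.ofNat 1, Int.ofNat 1, Int.negSucc 0, Int.negSucc 0, Int.negSucc 0, Int.negSucc 0, Int.negSucc 0, Int.ofNat 1, Int.negSucc 2, Int.negSucc 0, Int.ofNat 1, Int.ofNat 1, Int.negSucc 0, Int.ofNat 1],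
  [Int.ofNat 1, Int.negSucc 0, Int.negSucc 0, Int.ofNat 1, Int.ofNat 1, Int.negSucc 0, Int.negSucc 0, Int.ofNat 1, Int.ofNat 1, Int.negSucc 0, Int.negSucc 0, Int.ofNat 1, Int.negSucc 0, Int.negSucc 0, Int.negSucc 0, Int.ofNat 1, Int.negSucc 0, Int.ofNat 1, Int.ofNat 3, Int.negSucc 0, Int.ofNat 1, Int.ofNat 1, Int.ofNat 1, Int.ofNat 1],
  [Int.negSucc 0, Int.negSucc 0, Int.ofNat 1, Int.ofNat 1, Int.ofNat 1, Int.ofNat 3, Int.ofNat 1, Int.negSucc 0, Int.negSucc 0, Int.ofNat 1, Int.ofNat 1, Int.ofNat 1, Int.negSucc 0, Int.negSucc 0, Int.ofNat 1, Int.negSucc 0, Int.negSucc 0, Int.negSucc 0, Int.ofNat 1, Int.negSucc 0, Int.negSucc 0, Int.ofNat 1, Int.ofNat 1, Int.ofNat 1],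
  [Int.negSucc 0, Int.negSucc 0, Int.negSucc 0, Int.ofNat 1, Int.ofNat 1, Int.negSucc 2, Int.negSucc 0, Int.negSucc 0, Int.negSucc 0, Int.negSucc 0, Int.negSucc 0, Int.ofNat 1, Int.negSucc 0, Int.negSucc 0, Int.ofNat 1, Int.ofNat 1, Int.negSucc 0, Int.negSucc 0, Int.negSucc 0, Int.negSucc 0, Int.negSucc 0, Int.ofNat 1, Int.negSucc 0, Int.ofNat 1],
  [Int.ofNat 0, Int.ofNat 0, Int.ofNat 0, Int.ofNat 2, Int.ofNat 2, Int.negSucc 1, Int.ofNat 0, Int.ofNat 0, Int.ofNat 0, Int.ofNat 0, Int.ofNat 0, Int.ofNat 2, Int.ofNat 0, Int.ofNat 0, Int.ofNat 2, Int.ofNat 2, Int.ofNat 0, Int.ofNat 0, Int.ofNat 0, Int.ofNat 0, Int.ofNat 0, Int.ofNat 2, Int.ofNat 0, Int.negSucc 1],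
  [Int.ofNat 0, Int.ofNat 0, Int.ofNat 0, Int.ofNat 2, Int.ofNat 0, Int.ofNat 2, Int.ofNat 0, Int.negSucc 1, Int.ofNat 0, Int.ofNat 0, Int.ofNat 0, Int.ofNat 0, Int.ofNat 0, Int.ofNat 0, Int.ofNat 0, Int.ofNat 2, Int.ofNat 0, Int.ofNat 2, Int.ofNat 2, Int.ofNat 0, Int.ofNat 0, Int.ofNat 0, Int.ofNat 2, Int.negSucc 1],
  [Int.negSucc 0, Int.negSucc 0, Int.negSucc 0, Int.negSucc 0, Int.negSucc 0, Int.negSucc 0, Int.ofNat 1, Int.negSucc 0, Int.negSucc 0, Int.negSucc 0, Int.negSucc 0, Int.negSucc 0, Int.negSucc 0, Int.negSucc 0, Int.negSucc 2, Int.ofNat 1, Int.negSucc 0, Int.negSucc 0, Int.ofNat 1, Int.ofNat 1, Int.negSucc 0, Int.ofNat 1, Int.ofNat 1, Int.ofNat 1],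
  [Int.negSucc 0, Int.ofNat 1, Int.ofNat 1, Int.negSucc 0, Int.negSucc 0, Int.negSucc 0, Int.negSucc 0, Int.negSucc 0, Int.negSucc 0, Int.ofNat 1, Int.negSucc 0, Int.negSucc 0, Int.negSucc 0, Int.negSucc 0, Int.negSucc 0, Int.negSucc 0, Int.negSucc 0, Int.negSucc 2, Int.ofNat 1, Int.negSucc 0, Int.negSucc 0, Int.ofNat 1, Int.ofNat 1, Int.ofNat 1],
  [Int.ofNat 2, Int.ofNat 0, Int.ofNat 0, Int.ofNat 2, Int.ofNat 0, Int.ofNat 2, Int.ofNat 0, Int.ofNat 0, Int.ofNat 0, Int.ofNat 2, Int.ofNat 0, Int.ofNat 0, Int.ofNat 0, Int.ofNat 0, Int.ofNat 2, Int.ofNat 0, Int.ofNat 0, Int.ofNat 0, Int.ofNat 2, Int.ofNat 0, Int.ofNat 0, Int.ofNat 2, Int.ofNat 2, Int.ofNat 0],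
  [Int.ofNat 0, Int.ofNat 0, Int.ofNat 2, Int.ofNat 0, Int.ofNat 2, Int.ofNat 0, Int.ofNat 0, Int.ofNat 0, Int.ofNat 2, Int.ofNat 0, Int.ofNat 0, Int.ofNat 0, Int.ofNat 0, Int.ofNat 2, Int.ofNat 0, Int.ofNat 0, Int.ofNat 0, Int.ofNat 2, Int.ofNat 0, Int.ofNat 0, Int.ofNat 2, Int.ofNat 2, Int.ofNat 2, Int.ofNat 0],
  [Int.ofNat 0, Int.ofNat 0, Int.negSucc 1, Int.ofNat 0, Int.ofNat 2, Int.ofNat 0, Int.ofNat 0, Int.ofNat 0, Int.ofNat 2, Int.ofNat 0, Int.ofNat 0, Int.ofNat 0, Int.ofNat 0, Int.ofNat 2, Int.ofNat 0, Int.ofNat 0, Int.ofNat 0, Int.ofNat 2, Int.ofNat 0, Int.ofNat 0, Int.ofNat 2, Int.negSucc 1, Int.ofNat 2, Int.ofNat 0],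
  [Int.ofNat 0, Int.ofNat 0, Int.ofNat 2, Int.ofNat 0, Int.negSucc 1, Int.ofNat 0, Int.ofNat 0, Int.ofNat 0, Int.negSucc 1, Int.ofNat 0, Int.ofNat 0, Int.ofNat 0, Int.ofNat 0, Int.negSucc 1, Int.ofNat 0, Int.ofNat 0, Int.ofNat 0, Int.ofNat 2, Int.ofNat 0, Int.ofNat 0, Int.ofNat 2, Int.negSucc 1, Int.ofNat 2, Int.ofNat 0],
  [Int.ofNat 0, Int.ofNat 2, Int.ofNat 0, Int.ofNat 0, Int.ofNat 2, Int.ofNat 0, Int.ofNat 0, Int.negSucc 1, Int.ofNat 2, Int.ofNat 0, Int.ofNat 0, Int.ofNat 2, Int.negSucc 1, Int.ofNat 0, Int.ofNat 0, Int.ofNat 0, Int.ofNat 0, Int.negSucc 1, Int.ofNat 0, Int.ofNat 0, Int.negSucc 1, Int.ofNat 0, Int.ofNat 0, Int.ofNat 0],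
  [Int.ofNat 0, Int.ofNat 2, Int.ofNat 0, Int.ofNat 0, Int.ofNat 2, Int.ofNat 0, Int.ofNat 0, Int.ofNat 2, Int.ofNat 2, Int.ofNat 0, Int.ofNat 0, Int.negSucc 1, Int.negSucc 1, Int.ofNat 0, Int.ofNat 0, Int.ofNat 0, Int.ofNat 0, Int.negSucc 1, Int.ofNat 0, Int.ofNat 0, Int.negSucc 1, Int.ofNat 0, Int.ofNat 0, Int.ofNat 0],
  [Int.ofNat 0, Int.ofNat 0, Int.ofNat 2, Int.ofNat 0, Int.ofNat 0, Int.ofNat 2, Int.ofNat 0, Int.ofNat 0, Int.ofNat 2, Int.ofNat 2, Int.ofNat 0, Int.ofNat 0, Int.negSucc 1, Int.negSucc 1, Int.ofNat 0, Int.ofNat 0, Int.ofNat 0, Int.ofNat 0, Int.negSucc 1, Int.ofNat 0, Int.ofNat 0, Int.negSucc 1, Int.ofNat 0, Int.ofNat 0],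
  [Int.ofNat 1, Int.ofNat 1, Int.negSucc 0, Int.negSucc 0, Int.ofNat 1, Int.ofNat 1, Int.ofNat 1, Int.ofNat 1, Int.ofNat 3, Int.ofNat 1, Int.negSucc 0, Int.ofNat 1, Int.negSucc 0, Int.negSucc 0, Int.negSucc 0, Int.negSucc 0, Int.ofNat 1, Int.negSucc 0, Int.negSucc 0, Int.ofNat 1, Int.negSucc 0, Int.negSucc 0, Int.ofNat 1, Int.ofNat 1],
  [Int.negSucc 0, Int.ofNat 1, Int.ofNat 1, Int.ofNat 1, Int.ofNat 1, Int.ofNat 3, Int.ofNat 1, Int.negSucc 0, Int.ofNat 1, Int.negSucc 0, Int.negSucc 0, Int.negSucc 0, Int.negSucc 0, Int.ofNat 1, Int.negSucc 0, Int.negSucc 0, Int.ofNat 1, Int.negSucc 0, Int.negSucc 0, Int.ofNat 1, Int.ofNat 1, Int.ofNat 1, Int.negSucc 0, Int.ofNat 1],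
  [Int.ofNat 2, Int.ofNat 0, Int.ofNat 0, Int.ofNat 0, Int.ofNat 0, Int.ofNat 2, Int.ofNat 0, Int.negSucc 1, Int.ofNat 2, Int.ofNat 0, Int.ofNat 0, Int.ofNat 0, Int.ofNat 0, Int.ofNat 0, Int.negSucc 1, Int.ofNat 0, Int.ofNat 0, Int.negSucc 1, Int.ofNat 0, Int.ofNat 0, Int.ofNat 2, Int.ofNat 0, Int.negSucc 1, Int.ofNat 0],
  [Int.ofNat 2, Int.ofNat 0, Int.ofNat 0, Int.ofNat 0, Int.ofNat 0, Int.negSucc 1, Int.ofNat 0, Int.ofNat 0, Int.ofNat 0, Int.ofNat 0, Int.ofNat 2, Int.negSucc 1, Int.ofNat 0, Int.ofNat 0, Int.negSucc 1, Int.ofNat 0, Int.ofNat 2, Int.negSucc 1, Int.ofNat 0, Int.ofNat 0, Int.ofNat 0, Int.ofNat 2, Int.ofNat 0, Int.ofNat 0],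
  [Int.negSucc 0, Int.ofNat 1, Int.ofNat 1, Int.ofNat 3, Int.negSucc 0, Int.ofNat 1, Int.negSucc 0, Int.negSucc 0, Int.ofNat 1, Int.negSucc 0, Int.ofNat 1, Int.negSucc 0, Int.ofNat 1, Int.negSucc 0, Int.ofNat 1, Int.negSucc 0, Int.ofNat 1, Int.ofNat 1, Int.ofNat 1, Int.negSucc 0, Int.negSucc 0, Int.ofNat 1, Int.negSucc 0, Int.ofNat 1],
  [Int.negSucc 0, Int.ofNat 1, Int.negSucc 0, Int.ofNat 3, Int.negSucc 0, Int.negSucc 0, Int.ofNat 1, Int.negSucc 0, Int.ofNat 1, Int.ofNat 1, Int.negSucc 0, Int.negSucc 0, Int.ofNat 1, Int.negSucc 0, Int.ofNat 1, Int.ofNat 1, Int.ofNat 1, Int.ofNat 1, Int.negSucc 0, Int.negSucc 0, Int.negSucc 0, Int.ofNat 1, Int.ofNat 1, Int.ofNat 1],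
  [Int.ofNat 1, Int.ofNat 1, Int.ofNat 1, Int.ofNat 1, Int.negSucc 0, Int.negSucc 0, Int.ofNat 1, Int.ofNat 1, Int.negSucc 0, Int.negSucc 0, Int.ofNat 3, Int.negSucc 0, Int.ofNat 1, Int.ofNat 1, Int.negSucc 0, Int.negSucc 0, Int.negSucc 0, Int.ofNat 1, Int.ofNat 1, Int.negSucc 0, Int.negSucc 0, Int.negSucc 0, Int.ofNat 1, Int.ofNat 1],
  [Int.ofNat 1, Int.ofNat 1, Int.negSucc 0, Int.ofNat 1, Int.negSucc 0, Int.ofNat 1, Int.negSucc 0, Int.ofNat 1, Int.negSucc 0, Int.ofNat 1, Int.negSucc 2, Int.negSucc 0, Int.ofNat 1, Int.ofNat 1, Int.negSucc 0, Int.ofNat 1, Int.negSucc 0, Int.ofNat 1, Int.negSucc 0, Int.negSucc 0, Int.negSucc 0, Int.negSucc 0, Int.negSucc 0, Int.ofNat 1],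
  [Int.ofNat 0, Int.ofNat 0, Int.ofNat 2, Int.ofNat 0, Int.ofNat 0, Int.ofNat 0, Int.ofNat 0, Int.ofNat 2, Int.ofNat 0, Int.ofNat 2, Int.negSucc 1, Int.ofNat 0, Int.ofNat 2, Int.ofNat 2, Int.negSucc 1, Int.ofNat 2, Int.ofNat 0, Int.ofNat 0, Int.ofNat 0, Int.ofNat 0, Int.ofNat 0, Int.ofNat 0, Int.ofNat 0, Int.ofNat 0],
  [Int.ofNat 0, Int.ofNat 0, Int.ofNat 0, Int.ofNat 0, Int.ofNat 2, Int.ofNat 0, Int.ofNat 0, Int.ofNat 0, Int.ofNat 0, Int.ofNat 2, Int.ofNat 2, Int.ofNat 0, Int.ofNat 0, Int.ofNat 2, Int.ofNat 0, Int.ofNat 2, Int.ofNat 2, Int.ofNat 0, Int.ofNat 0, Int.ofNat 0, Int.negSucc 1, Int.ofNat 0, Int.negSucc 1, Int.ofNat 0],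
  [Int.ofNat 0, Int.ofNat 0, Int.ofNat 0, Int.ofNat 0, Int.ofNat 0, Int.ofNat 0, Int.ofNat 0, Int.ofNat 0, Int.ofNat 0, Int.ofNat 0, Int.ofNat 0, Int.ofNat 0, Int.ofNat 0, Int.ofNat 0, Int.ofNat 0, Int.ofNat 0, Int.ofNat 0, Int.ofNat 0, Int.ofNat 0, Int.ofNat 0, Int.negSucc 3, Int.ofNat 0, Int.negSucc 3, Int.ofNat 0],
  [Int.negSucc 3, Int.ofNat 0, Int.negSucc 3, Int.ofNat 0, Int.ofNat 0, Int.ofNat 0, Int.ofNat 0, Int.ofNat 0, Int.ofNat 0, Int.ofNat 0, Int.ofNat 0, Int.ofNat 0, Int.ofNat 0, Int.ofNat 0, Int.ofNat 0, Int.ofNat 0, Int.ofNat 0, Int.ofNat 0, Int.ofNat 0, Int.ofNat 0, Int.ofNat 0, Int.ofNat 0, Int.ofNat 0, Int.ofNat 0],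
  [Int.ofNat 0, Int.negSucc 3, Int.ofNat 0, Int.ofNat 0, Int.ofNat 0, Int.ofNat 0, Int.ofNat 0, Int.ofNat 0, Int.ofNat 0, Int.ofNat 0, Int.ofNat 0, Int.ofNat 0, Int.ofNat 0, Int.ofNat 0, Int.ofNat 0, Int.ofNat 0, Int.ofNat 0, Int.ofNat 0, Int.ofNat 0, Int.ofNat 0, Int.ofNat 0, Int.ofNat 0, Int.ofNat 0, Int.negSucc 3],
  [Int.negSucc 3, Int.ofNat 0, Int.ofNat 0, Int.ofNat 0, Int.ofNat 0, Int.ofNat 0, Int.ofNat 0, Int.ofNat 0, Int.ofNat 0, Int.ofNat 0, Int.ofNat 0, Int.ofNat 0, Int.ofNat 0, Int.ofNat 0, Int.ofNat 0, Int.ofNat 0, Int.ofNat 0, Int.ofNat 0, Int.ofNat 0, Int.ofNat 0, Int.ofNat 0, Int.ofNat 0, Int.ofNat 0, Int.negSucc 3],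
  [Int.ofNat 4, Int.ofNat 0, Int.ofNat 0, Int.ofNat 0, Int.ofNat 0, Int.ofNat 0, Int.ofNat 0, Int.ofNat 0, Int.ofNat 0, Int.ofNat 0, Int.ofNat 0, Int.ofNat 0, Int.ofNat 0, Int.ofNat 0, Int.ofNat 0, Int.ofNat 0, Int.ofNat 0, Int.ofNat 0, Int.ofNat 0, Int.ofNat 0, Int.ofNat 0, Int.ofNat 0, Int.ofNat 0, Int.negSucc 3],
  [Int.negSucc 3, Int.ofNat 0, Int.ofNat 0, Int.ofNat 0, Int.ofNat 0, Int.ofNat 0, Int.ofNat 0, Int.ofNat 0, Int.ofNat 0, Int.ofNat 0, Int.ofNat 0, Int.ofNat 0, Int.ofNat 0, Int.ofNat 0, Int.ofNat 0, Int.ofNat 0, Int.ofNat 0, Int.ofNat 0, Int.ofNat 0, Int.ofNat 0, Int.ofNat 0, Int.ofNat 0, Int.ofNat 0, Int.negSucc 3],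
  [Int.negSucc 3, Int.ofNat 0, Int.ofNat 0, Int.ofNat 0, Int.ofNat 0, Int.ofNat 0, Int.ofNat 0, Int.ofNat 0, Int.ofNat 0, Int.ofNat 0, Int.ofNat 0, Int.ofNat 0, Int.ofNat 0, Int.ofNat 0, Int.ofNat 0, Int.ofNat 0, Int.ofNat 0, Int.ofNat 0, Int.ofNat 0, Int.ofNat 0, Int.ofNat 0, Int.ofNat 0, Int.ofNat 0, Int.negSucc 3],
  [Int.ofNat 4, Int.ofNat 0, Int.ofNat 0, Int.ofNat 0, Int.ofNat 0, Int.ofNat 0, Int.ofNat 0, Int.ofNat 0, Int.ofNat 0, Int.ofNat 0, Int.ofNat 0, Int.ofNat 0, Int.ofNat 0, Int.ofNat 0, Int.ofNat 0, Int.ofNat 0, Int.ofNat 0, Int.ofNat 0, Int.ofNat 0, Int.ofNat 0, Int.ofNat 0, Int.ofNat 0, Int.ofNat 0, Int.negSucc 3],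
  [Int.ofNat 0, Int.ofNat 4, Int.ofNat 0, Int.ofNat 0, Int.ofNat 0, Int.ofNat 0, Int.ofNat 0, Int.ofNat 0, Int.ofNat 0, Int.ofNat 0, Int.ofNat 0, Int.ofNat 0, Int.ofNat 0, Int.ofNat 0, Int.ofNat 0, Int.ofNat 0, Int.ofNat 0, Int.ofNat 0, Int.ofNat 0, Int.ofNat 0, Int.ofNat 0, Int.ofNat 0, Int.ofNat 0, Int.negSucc 3],
  [Int.ofNat 0, Int.negSucc 3, Int.ofNat 0, Int.ofNat 0, Int.ofNat 0, Int.ofNat 0, Int.ofNat 0, Int.ofNat 0, Int.ofNat 0, Int.ofNat 0, Int.ofNat 0, Int.ofNat 0, Int.ofNat 0, Int.ofNat 0, Int.ofNat 0, Int.ofNat 0, Int.ofNat 0, Int.ofNat 0, Int.ofNat 0, Int.ofNat 0, Int.ofNat 0, Int.ofNat 0, Int.ofNat 0, Int.ofNat 4],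
  [Int.ofNat 0, Int.ofNat 0, Int.ofNat 0, Int.ofNat 0, Int.ofNat 0, Int.ofNat 0, Int.ofNat 0, Int.ofNat 0, Int.ofNat 0, Int.ofNat 0, Int.ofNat 0, Int.ofNat 0, Int.ofNat 0, Int.ofNat 0, Int.ofNat 0, Int.ofNat 0, Int.ofNat 0, Int.ofNat 0, Int.ofNat 0, Int.ofNat 0, Int.ofNat 0, Int.negSucc 3, Int.ofNat 0, Int.ofNat 4],
  [Int.ofNat 2, Int.ofNat 2, Int.ofNat 2, Int.ofNat 0, Int.ofNat 0, Int.ofNat 0, Int.ofNat 2, Int.ofNat 2, Int.ofNat 0, Int.ofNat 0, Int.ofNat 0, Int.ofNat 0, Int.ofNat 0, Int.ofNat 0, Int.ofNat 0, Int.ofNat 0, Int.ofNat 0, Int.ofNat 0, Int.ofNat 0, Int.ofNat 2, Int.ofNat 0, Int.negSucc 1, Int.ofNat 0, Int.negSucc 1],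
  [Int.ofNat 2, Int.ofNat 2, Int.ofNat 0, Int.ofNat 0, Int.ofNat 0, Int.ofNat 2, Int.ofNat 2, Int.ofNat 0, Int.ofNat 0, Int.ofNat 0, Int.ofNat 0, Int.ofNat 0, Int.ofNat 0, Int.ofNat 0, Int.ofNat 0, Int.ofNat 0, Int.ofNat 0, Int.ofNat 0, Int.ofNat 2, Int.ofNat 0, Int.negSucc 1, Int.ofNat 0, Int.ofNat 2, Int.negSucc 1],
  [Int.negSucc 0, Int.negSucc 0, Int.ofNat 1, Int.negSucc 0, Int.negSucc 0, Int.ofNat 1, Int.ofNat 1, Int.negSucc 0, Int.negSucc 0, Int.ofNat 1, Int.ofNat 1, Int.negSucc 0, Int.negSucc 0, Int.negSucc 0, Int.negSucc 0, Int.ofNat 1, Int.negSucc 0, Int.negSucc 0, Int.ofNat 1, Int.negSucc 0, Int.negSucc 0, Int.negSucc 0, Int.ofNat 1, Int.ofNat 3],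
  [Int.negSucc 0, Int.negSucc 0, Int.negSucc 0, Int.negSucc 0, Int.negSucc 0, Int.negSucc 0, Int.negSucc 0, Int.negSucc 0, Int.negSucc 0, Int.negSucc 0, Int.negSucc 0, Int.negSucc 0, Int.negSucc 0, Int.negSucc 0, Int.negSucc 0, Int.negSucc 0, Int.negSucc 0, Int.negSucc 0, Int.negSucc 0, Int.negSucc 0, Int.negSucc 0, Int.negSucc 0, Int.negSucc 0, Int.ofNat 3],
  [Int.negSucc 0, Int.negSucc 0, Int.negSucc 0, Int.negSucc 0, Int.negSucc 0, Int.negSucc 0, Int.negSucc 0, Int.negSucc 0, Int.negSucc 0, Int.negSucc 0, Int.negSucc 0, Int.negSucc 0, Int.negSucc 0, Int.negSucc 0, Int.negSucc 0, Int.negSucc 0, Int.negSucc 0, Int.negSucc 0, Int.negSucc 0, Int.negSucc 0, Int.negSucc 0, Int.negSucc 0, Int.negSucc 0, Int.ofNat 3],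
  [Int.negSucc 0, Int.negSucc 0, Int.ofNat 1, Int.negSucc 0, Int.negSucc 0, Int.ofNat 1, Int.ofNat 1, Int.negSucc 0, Int.negSucc 0, Int.ofNat 1, Int.ofNat 1, Int.negSucc 0, Int.negSucc 0, Int.negSucc 0, Int.negSucc 0, Int.ofNat 1, Int.negSucc 0, Int.negSucc 0, Int.ofNat 1, Int.negSucc 0, Int.negSucc 0, Int.negSucc 0, Int.ofNat 1, Int.ofNat 3],
  [Int.ofNat 2, Int.ofNat 2, Int.ofNat 0, Int.ofNat 0, Int.ofNat 0, Int.ofNat 2, Int.ofNat 2, Int.ofNat 0, Int.ofNat 0, Int.ofNat 0, Int.ofNat 0, Int.ofNat 0, Int.ofNat 0, Int.ofNat 0, Int.ofNat 0, Int.ofNat 0, Int.ofNat 0, Int.ofNat 0, Int.ofNat 2, Int.ofNat 0, Int.negSucc 1, Int.ofNat 0, Int.ofNat 2, Int.negSucc 1],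
  [Int.ofNat 2, Int.ofNat 2, Int.ofNat 2, Int.ofNat 0, Int.ofNat 0, Int.ofNat 0, Int.ofNat 2, Int.ofNat 2, Int.ofNat 0, Int.ofNat 0, Int.ofNat 0, Int.ofNat 0, Int.ofNat 0, Int.ofNat 0, Int.ofNat 0, Int.ofNat 0, Int.ofNat 0, Int.ofNat 0, Int.ofNat 0, Int.ofNat 2, Int.ofNat 0, Int.negSucc 1, Int.ofNat 0, Int.negSucc 1],
  [Int.ofNat 0, Int.ofNat 0, Int.ofNat 0, Int.ofNat 0, Int.ofNat 0, Int.ofNat 0, Int.ofNat 0, Int.ofNat 0, Int.ofNat 0, Int.ofNat 0, Int.ofNat 0, Int.ofNat 0, Int.ofNat 0, Int.ofNat 0, Int.ofNat 0, Int.ofNat 0, Int.ofNat 0, Int.ofNat 0, Int.ofNat 0, Int.ofNat 0, Int.ofNat 0, Int.negSucc 3, Int.ofNat 0, Int.ofNat 4],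
  [Int.ofNat 0, Int.negSucc 3, Int.ofNat 0, Int.ofNat 0, Int.ofNat 0, Int.ofNat 0, Int.ofNat 0, Int.ofNat 0, Int.ofNat 0, Int.ofNat 0, Int.ofNat 0, Int.ofNat 0, Int.ofNat 0, Int.ofNat 0, Int.ofNat 0, Int.ofNat 0, Int.ofNat 0, Int.ofNat 0, Int.ofNat 0, Int.ofNat 0, Int.ofNat 0, Int.ofNat 0, Int.ofNat 0, Int.ofNat 4],
  [Int.ofNat 0, Int.ofNat 4, Int.ofNat 0, Int.ofNat 0, Int.ofNat 0, Int.ofNat 0, Int.ofNat 0, Int.ofNat 0, Int.ofNat 0, Int.ofNat 0, Int.ofNat 0, Int.ofNat 0, Int.ofNat 0, Int.ofNat 0, Int.ofNat 0, Int.ofNat 0, Int.ofNat 0, Int.ofNat 0, Int.ofNat 0, Int.ofNat 0, Int.ofNat 0, Int.ofNat 0, Int.ofNat 0, Int.negSucc 3],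
  [Int.ofNat 4, Int.ofNat 0, Int.ofNat 0, Int.ofNat 0, Int.ofNat 0, Int.ofNat 0, Int.ofNat 0, Int.ofNat 0, Int.ofNat 0, Int.ofNat 0, Int.ofNat 0, Int.ofNat 0, Int.ofNat 0, Int.ofNat 0, Int.ofNat 0, Int.ofNat 0, Int.ofNat 0, Int.ofNat 0, Int.ofNat 0, Int.ofNat 0, Int.ofNat 0, Int.ofNat 0, Int.ofNat 0, Int.negSucc 3],
  [Int.negSucc 3, Int.ofNat 0, Int.ofNat 0, Int.ofNat 0, Int.ofNat 0, Int.ofNat 0, Int.ofNat 0, Int.ofNat 0, Int.ofNat 0, Int.ofNat 0, Int.ofNat 0, Int.ofNat 0, Int.ofNat 0, Int.ofNat 0, Int.ofNat 0, Int.ofNat 0, Int.ofNat 0, Int.ofNat 0, Int.ofNat 0, Int.ofNat 0, Int.ofNat 0, Int.ofNat 0, Int.ofNat 0, Int.negSucc 3],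
  [Int.ofNat 4, Int.ofNat 0, Int.ofNat 0, Int.ofNat 0, Int.ofNat 0, Int.ofNat 0, Int.ofNat 0, Int.ofNat 0, Int.ofNat 0, Int.ofNat 0, Int.ofNat 0, Int.ofNat 0, Int.ofNat 0, Int.ofNat 0, Int.ofNat 0, Int.ofNat 0, Int.ofNat 0, Int.ofNat 0, Int.ofNat 0, Int.ofNat 0, Int.ofNat 0, Int.ofNat 0, Int.ofNat 0, Int.negSucc 3],
  [Int.negSucc 3, Int.ofNat 0, Int.ofNat 0, Int.ofNat 0, Int.ofNat 0, Int.ofNat 0, Int.ofNat 0, Int.ofNat 0, Int.ofNat 0, Int.ofNat 0, Int.ofNat 0, Int.ofNat 0, Int.ofNat 0, Int.ofNat 0, Int.ofNat 0, Int.ofNat 0, Int.ofNat 0, Int.ofNat 0, Int.ofNat 0, Int.ofNat 0, Int.ofNat 0, Int.ofNat 0, Int.ofNat 0, Int.ofNat 4],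
  [Int.ofNat 4, Int.ofNat 0, Int.ofNat 0, Int.ofNat 0, Int.ofNat 0, Int.ofNat 0, Int.ofNat 0, Int.ofNat 0, Int.ofNat 0, Int.ofNat 0, Int.ofNat 0, Int.ofNat 0, Int.ofNat 0, Int.ofNat 0, Int.ofNat 0, Int.ofNat 0, Int.ofNat 0, Int.ofNat 0, Int.ofNat 0, Int.ofNat 0, Int.ofNat 0, Int.ofNat 0, Int.ofNat 0, Int.ofNat 4],
  [Int.ofNat 0, Int.ofNat 4, Int.ofNat 0, Int.ofNat 0, Int.ofNat 0, Int.ofNat 0, Int.ofNat 0, Int.ofNat 0, Int.ofNat 0, Int.ofNat 0, Int.ofNat 0, Int.ofNat 0, Int.ofNat 0, Int.ofNat 0, Int.ofNat 0, Int.ofNat 0, Int.ofNat 0, Int.ofNat 0, Int.ofNat 0, Int.ofNat 0, Int.ofNat 0, Int.ofNat 0, Int.ofNat 0, Int.ofNat 4],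
  [Int.ofNat 4, Int.ofNat 0, Int.ofNat 4, Int.ofNat 0, Int.ofNat 0, Int.ofNat 0, Int.ofNat 0, Int.ofNat 0, Int.ofNat 0, Int.ofNat 0, Int.ofNat 0, Int.ofNat 0, Int.ofNat 0, Int.ofNat 0, Int.ofNat 0, Int.ofNat 0, Int.ofNat 0, Int.ofNat 0, Int.ofNat 0, Int.ofNat 0, Int.ofNat 0, Int.ofNat 0, Int.ofNat 0, Int.ofNat 0],
  [Int.ofNat 0, Int.ofNat 0, Int.ofNat 0, Int.ofNat 0, Int.ofNat 0, Int.ofNat 0, Int.ofNat 0, Int.ofNat 0, Int.ofNat 0, Int.ofNat 0, Int.ofNat 0, Int.ofNat 0, Int.ofNat 0, Int.ofNat 0, Int.ofNat 0, Int.ofNat 0, Int.ofNat 0, Int.ofNat 0, Int.ofNat 0, Int.ofNat 0, Int.ofNat 4, Int.ofNat 0, Int.ofNat 4, Int.ofNat 0],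
  [Int.ofNat 0, Int.ofNat 0, Int.ofNat 0, Int.ofNat 0, Int.negSucc 1, Int.ofNat 0, Int.ofNat 0, Int.ofNat 0, Int.ofNat 0, Int.negSucc 1, Int.negSucc 1, Int.ofNat 0, Int.ofNat 0, Int.negSucc 1, Int.ofNat 0, Int.negSucc 1, Int.negSucc 1, Int.ofNat 0, Int.ofNat 0, Int.ofNat 0, Int.ofNat 2, Int.ofNat 0, Int.ofNat 2, Int.ofNat 0],
  [Int.ofNat 0, Int.ofNat 0, Int.negSucc 1, Int.ofNat 0, Int.ofNat 0, Int.ofNat 0, Int.ofNat 0, Int.negSucc 1, Int.ofNat 0, Int.negSucc 1, Int.ofNat 2, Int.ofNat 0, Int.negSucc 1, Int.negSucc 1, Int.ofNat 2, Int.negSucc 1, Int.ofNat 0, Int.ofNat 0, Int.ofNat 0, Int.ofNat 0, Int.ofNat 0, Int.ofNat 0, Int.ofNat 0, Int.ofNat 0],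
  [Int.negSucc 0, Int.negSucc 0, Int.ofNat 1, Int.negSucc 0, Int.ofNat 1, Int.negSucc 0, Int.ofNat 1, Int.negSucc 0, Int.ofNat 1, Int.negSucc 0, Int.ofNat 3, Int.ofNat 1, Int.negSucc 0, Int.negSucc 0, Int.ofNat 1, Int.negSucc 0, Int.ofNat 1, Int.negSucc 0, Int.ofNat 1, Int.ofNat 1, Int.ofNat 1, Int.ofNat 1, Int.ofNat 1, Int.negSucc 0],
  [Int.negSucc 0, Int.negSucc 0, Int.negSucc 0, Int.negSucc 0, Int.ofNat 1, Int.ofNat 1, Int.negSucc 0, Int.negSucc 0, Int.ofNat 1, Int.ofNat 1, Int.negSucc 2, Int.ofNat 1, Int.negSucc 0, Int.negSucc 0, Int.ofNat 1, Int.ofNat 1, Int.ofNat 1, Int.negSucc 0, Int.negSucc 0, Int.ofNat 1, Int.ofNat 1, Int.ofNat 1, Int.negSucc 0, Int.negSucc 0],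
  [Int.ofNat 1, Int.negSucc 0, Int.ofNat 1, Int.negSucc 0, Int.negSucc 0, Int.negSucc 0, Int.ofNat 1, Int.ofNat 1, Int.negSucc 0, Int.ofNat 1, Int.negSucc 0, Int.ofNat 1, Int.ofNat 1, Int.negSucc 0, Int.negSucc 0, Int.negSucc 0, Int.ofNat 1, Int.negSucc 0, Int.negSucc 0, Int.negSucc 2, Int.ofNat 1, Int.ofNat 1, Int.ofNat 1, Int.negSucc 0],
  [Int.ofNat 1, Int.negSucc 0, Int.negSucc 0, Int.negSucc 0, Int.negSucc 0, Int.ofNat 1, Int.negSucc 0, Int.ofNat 1, Int.negSucc 0, Int.negSucc 0, Int.ofNat 1, Int.ofNat 1, Int.ofNat 1, Int.negSucc 0, Int.negSucc 0, Int.ofNat 1, Int.ofNat 1, Int.negSucc 0, Int.ofNat 1, Int.negSucc 2, Int.ofNat 1, Int.ofNat 1, Int.negSucc 0, Int.negSucc 0],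
  [Int.negSucc 1, Int.ofNat 0, Int.ofNat 0, Int.ofNat 0, Int.ofNat 0, Int.ofNat 2, Int.ofNat 0, Int.ofNat 2, Int.negSucc 1, Int.negSucc 1, Int.ofNat 0, Int.ofNat 0, Int.ofNat 0, Int.ofNat 0, Int.ofNat 0, Int.ofNat 0, Int.ofNat 2, Int.ofNat 0, Int.ofNat 0, Int.negSucc 1, Int.ofNat 0, Int.ofNat 2, Int.ofNat 0, Int.ofNat 0],
  [Int.negSucc 1, Int.ofNat 0, Int.ofNat 0, Int.ofNat 0, Int.ofNat 0, Int.ofNat 2, Int.ofNat 0, Int.ofNat 2, Int.ofNat 2, Int.ofNat 0, Int.ofNat 2, Int.negSucc 1, Int.negSucc 1, Int.negSucc 1, Int.ofNat 0, Int.ofNat 0, Int.ofNat 0, Int.ofNat 0, Int.ofNat 0, Int.ofNat 0, Int.ofNat 0, Int.ofNat 0, Int.ofNat 0, Int.ofNat 0],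
  [Int.ofNat 1, Int.negSucc 0, Int.negSucc 0, Int.negSucc 0, Int.ofNat 1, Int.ofNat 1, Int.negSucc 0, Int.ofNat 1, Int.ofNat 3, Int.negSucc 0, Int.ofNat 1, Int.negSucc 0, Int.negSucc 0, Int.negSucc 0, Int.negSucc 0, Int.negSucc 0, Int.ofNat 1, Int.negSucc 0, Int.ofNat 1, Int.negSucc 0, Int.negSucc 0, Int.negSucc 0, Int.ofNat 1, Int.negSucc 0],
  [Int.negSucc 0, Int.negSucc 0, Int.ofNat 1, Int.ofNat 1, Int.negSucc 0, Int.negSucc 0, Int.negSucc 0, Int.ofNat 1, Int.ofNat 1, Int.negSucc 0, Int.ofNat 1, Int.ofNat 3, Int.negSucc 0, Int.ofNat 1, Int.negSucc 0, Int.negSucc 0, Int.negSucc 0, Int.negSucc 0, Int.negSucc 0, Int.ofNat 1, Int.negSucc 0, Int.ofNat 1, Int.negSucc 0, Int.negSucc 0],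
  [Int.ofNat 0, Int.ofNat 0, Int.negSucc 1, Int.ofNat 2, Int.ofNat 0, Int.ofNat 0, Int.negSucc 1, Int.ofNat 0, Int.ofNat 0, Int.ofNat 0, Int.ofNat 2, Int.ofNat 2, Int.negSucc 1, Int.ofNat 2, Int.ofNat 0, Int.ofNat 0, Int.ofNat 0, Int.ofNat 0, Int.negSucc 1, Int.ofNat 0, Int.ofNat 0, Int.ofNat 0, Int.ofNat 0, Int.ofNat 0],
  [Int.ofNat 0, Int.negSucc 1, Int.ofNat 2, Int.ofNat 0, Int.ofNat 0, Int.negSucc 1, Int.ofNat 0, Int.ofNat 0, Int.ofNat 0, Int.ofNat 2, Int.ofNat 2, Int.negSucc 1, Int.ofNat 2, Int.ofNat 0, Int.ofNat 0, Int.ofNat 0, Int.ofNat 0, Int.negSucc 1, Int.ofNat 0, Int.ofNat 0, Int.ofNat 0, Int.ofNat 0, Int.ofNat 0, Int.ofNat 0],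
  [Int.ofNat 0, Int.negSucc 1, Int.negSucc 1, Int.ofNat 0, Int.ofNat 0, Int.negSucc 1, Int.ofNat 0, Int.ofNat 0, Int.ofNat 0, Int.negSucc 1, Int.negSucc 1, Int.ofNat 2, Int.ofNat 2, Int.ofNat 0, Int.ofNat 0, Int.ofNat 0, Int.ofNat 0, Int.negSucc 1, Int.ofNat 0, Int.ofNat 0, Int.ofNat 0, Int.ofNat 0, Int.ofNat 0, Int.ofNat 0],
  [Int.ofNat 0, Int.ofNat 2, Int.ofNat 2, Int.ofNat 0, Int.ofNat 0, Int.negSucc 1, Int.ofNat 0, Int.ofNat 0, Int.ofNat 0, Int.ofNat 2, Int.negSucc 1, Int.ofNat 2, Int.negSucc 1, Int.ofNat 0, Int.ofNat 0, Int.ofNat 0, Int.ofNat 0, Int.negSucc 1, Int.ofNat 0, Int.ofNat 0, Int.ofNat 0, Int.ofNat 0, Int.ofNat 0, Int.ofNat 0],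
  [Int.ofNat 0, Int.ofNat 0, Int.ofNat 2, Int.ofNat 0, Int.negSucc 1, Int.ofNat 2, Int.ofNat 0, Int.ofNat 0, Int.ofNat 0, Int.negSucc 1, Int.ofNat 0, Int.ofNat 2, Int.ofNat 0, Int.ofNat 0, Int.ofNat 0, Int.ofNat 0, Int.negSucc 1, Int.ofNat 0, Int.ofNat 0, Int.ofNat 0, Int.ofNat 0, Int.negSucc 1, Int.ofNat 2, Int.ofNat 0],
  [Int.ofNat 0, Int.ofNat 0, Int.negSucc 1, Int.ofNat 0, Int.negSucc 1, Int.ofNat 2, Int.ofNat 0, Int.ofNat 0, Int.ofNat 0, Int.ofNat 2, Int.ofNat 0, Int.negSucc 1, Int.ofNat 0, Int.ofNat 0, Int.ofNat 0, Int.ofNat 0, Int.negSucc 1, Int.ofNat 0, Int.ofNat 0, Int.ofNat 0, Int.ofNat 0, Int.ofNat 2, Int.ofNat 2, Int.ofNat 0],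
  [Int.ofNat 2, Int.ofNat 0, Int.ofNat 0, Int.negSucc 1, Int.ofNat 0, Int.negSucc 1, Int.ofNat 2, Int.ofNat 0, Int.ofNat 0, Int.ofNat 0, Int.ofNat 2, Int.ofNat 0, Int.negSucc 1, Int.ofNat 0, Int.ofNat 0, Int.ofNat 0, Int.ofNat 0, Int.negSucc 1, Int.ofNat 0, Int.ofNat 0, Int.ofNat 0, Int.ofNat 0, Int.ofNat 2, Int.ofNat 0],
  [Int.negSucc 0, Int.ofNat 1, Int.ofNat 1, Int.ofNat 1, Int.negSucc 0, Int.ofNat 1, Int.ofNat 1, Int.negSucc 0, Int.ofNat 1, Int.negSucc 0, Int.ofNat 1, Int.ofNat 1, Int.negSucc 0, Int.negSucc 0, Int.ofNat 3, Int.negSucc 0, Int.negSucc 0, Int.ofNat 1, Int.ofNat 1, Int.negSucc 0, Int.negSucc 0, Int.negSucc 0, Int.ofNat 1, Int.ofNat 1],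
  [Int.ofNat 1, Int.negSucc 0, Int.ofNat 1, Int.ofNat 1, Int.negSucc 0, Int.ofNat 1, Int.negSucc 0, Int.ofNat 1, Int.ofNat 1, Int.negSucc 0, Int.negSucc 0, Int.ofNat 3, Int.negSucc 0, Int.negSucc 0, Int.ofNat 1, Int.ofNat 1, Int.negSucc 0, Int.negSucc 0, Int.negSucc 0, Int.ofNat 1, Int.negSucc 0, Int.ofNat 1, Int.ofNat 1, Int.ofNat 1],
  [Int.ofNat 0, Int.ofNat 2, Int.ofNat 0, Int.ofNat 0, Int.ofNat 0, Int.ofNat 0, Int.negSucc 1, Int.ofNat 0, Int.ofNat 0, Int.ofNat 0, Int.ofNat 0, Int.ofNat 2, Int.negSucc 1, Int.ofNat 0, Int.ofNat 0, Int.ofNat 2, Int.ofNat 0, Int.negSucc 1, Int.negSucc 1, Int.ofNat 0, Int.ofNat 0, Int.ofNat 0, Int.ofNat 2, Int.ofNat 0],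
  [Int.ofNat 0, Int.negSucc 1, Int.ofNat 0, Int.ofNat 0, Int.negSucc 1, Int.ofNat 0, Int.ofNat 0, Int.ofNat 0, Int.negSucc 1, Int.ofNat 0, Int.ofNat 0, Int.negSucc 1, Int.ofNat 0, Int.ofNat 0, Int.ofNat 2, Int.ofNat 2, Int.ofNat 0, Int.ofNat 0, Int.ofNat 2, Int.ofNat 2, Int.ofNat 0, Int.ofNat 0, Int.ofNat 0, Int.ofNat 0],
  [Int.negSucc 0, Int.ofNat 1, Int.negSucc 0, Int.negSucc 0, Int.negSucc 0, Int.negSucc 0, Int.negSucc 0, Int.negSucc 0, Int.negSucc 0, Int.negSucc 0, Int.negSucc 0, Int.negSucc 0, Int.ofNat 1, Int.ofNat 1, Int.ofNat 1, Int.ofNat 1, Int.ofNat 1, Int.negSucc 0, Int.ofNat 3, Int.ofNat 1, Int.negSucc 0, Int.negSucc 0, Int.ofNat 1, Int.negSucc 0],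
  [Int.negSucc 0, Int.ofNat 1, Int.ofNat 1, Int.negSucc 0, Int.negSucc 0, Int.ofNat 1, Int.ofNat 1, Int.negSucc 0, Int.negSucc 0, Int.ofNat 1, Int.ofNat 1, Int.negSucc 0, Int.ofNat 1, Int.ofNat 1, Int.ofNat 1, Int.negSucc 0, Int.ofNat 1, Int.negSucc 0, Int.negSucc 2, Int.ofNat 1, Int.negSucc 0, Int.negSucc 0, Int.negSucc 0, Int.negSucc 0],
  [Int.ofNat 1, Int.ofNat 1, Int.negSucc 0, Int.negSucc 0, Int.negSucc 0, Int.negSucc 2, Int.negSucc 0, Int.ofNat 1, Int.ofNat 1, Int.negSucc 0, Int.negSucc 0, Int.negSucc 0, Int.ofNat 1, Int.ofNat 1, Int.negSucc 0, Int.ofNat 1, Int.ofNat 1, Int.ofNat 1, Int.negSucc 0, Int.ofNat 1, Int.ofNat 1, Int.negSucc 0, Int.negSucc 0, Int.negSucc 0],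
  [Int.ofNat 1, Int.ofNat 1, Int.ofNat 1, Int.negSucc 0, Int.negSucc 0, Int.ofNat 3, Int.ofNat 1, Int.ofNat 1, Int.ofNat 1, Int.ofNat 1, Int.ofNat 1, Int.negSucc 0, Int.ofNat 1, Int.ofNat 1, Int.negSucc 0, Int.negSucc 0, Int.ofNat 1, Int.ofNat 1, Int.ofNat 1, Int.ofNat 1, Int.ofNat 1, Int.negSucc 0, Int.ofNat 1, Int.negSucc 0],
  [Int.ofNat 0, Int.ofNat 0, Int.ofNat 0, Int.negSucc 1, Int.negSucc 1, Int.ofNat 2, Int.ofNat 0, Int.ofNat 0, Int.ofNat 0, Int.ofNat 0, Int.ofNat 0, Int.negSucc 1, Int.ofNat 0, Int.ofNat 0, Int.negSucc 1, Int.negSucc 1, Int.ofNat 0, Int.ofNat 0, Int.ofNat 0, Int.ofNat 0, Int.ofNat 0, Int.negSucc 1, Int.ofNat 0, Int.ofNat 2],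
  [Int.ofNat 0, Int.ofNat 0, Int.ofNat 0, Int.negSucc 1, Int.ofNat 0, Int.negSucc 1, Int.ofNat 0, Int.ofNat 2, Int.ofNat 0, Int.ofNat 0, Int.ofNat 0, Int.ofNat 0, Int.ofNat 0, Int.ofNat 0, Int.ofNat 0, Int.negSucc 1, Int.ofNat 0, Int.negSucc 1, Int.negSucc 1, Int.ofNat 0, Int.ofNat 0, Int.ofNat 0, Int.negSucc 1, Int.ofNat 2],
  [Int.ofNat 1, Int.ofNat 1, Int.ofNat 1, Int.ofNat 1, Int.ofNat 1, Int.ofNat 1, Int.negSucc 0, Int.ofNat 1, Int.ofNat 1, Int.ofNat 1, Int.ofNat 1, Int.ofNat 1, Int.ofNat 1, Int.ofNat 1, Int.ofNat 3, Int.negSucc 0, Int.ofNat 1, Int.ofNat 1, Int.negSucc 0, Int.negSucc 0, Int.ofNat 1, Int.negSucc 0, Int.negSucc 0, Int.negSucc 0],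
  [Int.ofNat 1, Int.negSucc 0, Int.negSucc 0, Int.ofNat 1, Int.ofNat 1, Int.ofNat 1, Int.ofNat 1, Int.ofNat 1, Int.ofNat 1, Int.negSucc 0, Int.ofNat 1, Int.ofNat 1, Int.ofNat 1, Int.ofNat 1, Int.ofNat 1, Int.ofNat 1, Int.ofNat 1, Int.ofNat 3, Int.negSucc 0, Int.ofNat 1, Int.ofNat 1, Int.negSucc 0, Int.negSucc 0, Int.negSucc 0],
  [Int.negSucc 1, Int.ofNat 0, Int.ofNat 0, Int.negSucc 1, Int.ofNat 0, Int.negSucc 1, Int.ofNat 0, Int.ofNat 0, Int.ofNat 0, Int.negSucc 1, Int.ofNat 0, Int.ofNat 0, Int.ofNat 0, Int.ofNat 0, Int.negSucc 1, Int.ofNat 0, Int.ofNat 0, Int.ofNat 0, Int.negSucc 1, Int.ofNat 0, Int.ofNat 0, Int.negSucc 1, Int.negSucc 1, Int.ofNat 0],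
  [Int.ofNat 0, Int.ofNat 0, Int.negSucc 1, Int.ofNat 0, Int.negSucc 1, Int.ofNat 0, Int.ofNat 0, Int.ofNat 0, Int.negSucc 1, Int.ofNat 0, Int.ofNat 0, Int.ofNat 0, Int.ofNat 0, Int.negSucc 1, Int.ofNat 0, Int.ofNat 0, Int.ofNat 0, Int.negSucc 1, Int.ofNat 0, Int.ofNat 0, Int.negSucc 1, Int.negSucc 1, Int.negSucc 1, Int.ofNat 0],
  [Int.ofNat 0, Int.ofNat 0, Int.ofNat 2, Int.ofNat 0, Int.negSucc 1, Int.ofNat 0, Int.ofNat 0, Int.ofNat 0, Int.negSucc 1, Int.ofNat 0, Int.ofNat 0, Int.ofNat 0, Int.ofNat 0, Int.negSucc 1, Int.ofNat 0, Int.ofNat 0, Int.ofNat 0, Int.negSucc 1, Int.ofNat 0, Int.ofNat 0, Int.negSucc 1, Int.ofNat 2, Int.negSucc 1, Int.ofNat 0],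
  [Int.ofNat 0, Int.ofNat 0, Int.negSucc 1, Int.ofNat 0, Int.ofNat 2, Int.ofNat 0, Int.ofNat 0, Int.ofNat 0, Int.ofNat 2, Int.ofNat 0, Int.ofNat 0, Int.ofNat 0, Int.ofNat 0, Int.ofNat 2, Int.ofNat 0, Int.ofNat 0, Int.ofNat 0, Int.negSucc 1, Int.ofNat 0, Int.ofNat 0, Int.negSucc 1, Int.ofNat 2, Int.negSucc 1, Int.ofNat 0],
  [Int.ofNat 0, Int.negSucc 1, Int.ofNat 0, Int.ofNat 0, Int.negSucc 1, Int.ofNat 0, Int.ofNat 0, Int.ofNat 2, Int.negSucc 1, Int.ofNat 0, Int.ofNat 0, Int.negSucc 1, Int.ofNat 2, Int.ofNat 0, Int.ofNat 0, Int.ofNat 0, Int.ofNat 0, Int.ofNat 2, Int.ofNat 0, Int.ofNat 0, Int.ofNat 2, Int.ofNat 0, Int.ofNat 0, Int.ofNat 0],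
  [Int.ofNat 0, Int.negSucc 1, Int.ofNat 0, Int.ofNat 0, Int.negSucc 1, Int.ofNat 0, Int.ofNat 0, Int.negSucc 1, Int.negSucc 1, Int.ofNat 0, Int.ofNat 0, Int.ofNat 2, Int.ofNat 2, Int.ofNat 0, Int.ofNat 0, Int.ofNat 0, Int.ofNat 0, Int.ofNat 2, Int.ofNat 0, Int.ofNat 0, Int.ofNat 2, Int.ofNat 0, Int.ofNat 0, Int.ofNat 0],
  [Int.ofNat 0, Int.ofNat 0, Int.negSucc 1, Int.ofNat 0, Int.ofNat 0, Int.negSucc 1, Int.ofNat 0, Int.ofNat 0, Int.negSucc 1, Int.negSucc 1, Int.ofNat 0, Int.ofNat 0, Int.ofNat 2, Int.ofNat 2, Int.ofNat 0, Int.ofNat 0, Int.ofNat 0, Int.ofNat 0, Int.ofNat 2, Int.ofNat 0, Int.ofNat 0, Int.ofNat 2, Int.ofNat 0, Int.ofNat 0],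
  [Int.negSucc 0, Int.negSucc 0, Int.ofNat 1, Int.ofNat 1, Int.negSucc 0, Int.negSucc 0, Int.negSucc 0, Int.negSucc 0, Int.negSucc 2, Int.negSucc 0, Int.ofNat 1, Int.negSucc 0, Int.ofNat 1, Int.ofNat 1, Int.ofNat 1, Int.ofNat 1, Int.negSucc 0, Int.ofNat 1, Int.ofNat 1, Int.negSucc 0, Int.ofNat 1, Int.ofNat 1, Int.negSucc 0, Int.negSucc 0],
  [Int.ofNat 1, Int.negSucc 0, Int.negSucc 0, Int.negSucc 0, Int.negSucc 0, Int.negSucc 2, Int.negSucc 0, Int.ofNat 1, Int.negSucc 0, Int.ofNat 1, Int.ofNat 1, Int.ofNat 1, Int.ofNat 1, Int.negSucc 0, Int.ofNat 1, Int.ofNat 1, Int.negSucc 0, Int.ofNat 1, Int.ofNat 1, Int.negSucc 0, Int.negSucc 0, Int.negSucc 0, Int.ofNat 1, Int.negSucc 0],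
  [Int.negSucc 1, Int.ofNat 0, Int.ofNat 0, Int.ofNat 0, Int.ofNat 0, Int.negSucc 1, Int.ofNat 0, Int.ofNat 2, Int.negSucc 1, Int.ofNat 0, Int.ofNat 0, Int.ofNat 0, Int.ofNat 0, Int.ofNat 0, Int.ofNat 2, Int.ofNat 0, Int.ofNat 0, Int.ofNat 2, Int.ofNat 0, Int.ofNat 0, Int.negSucc 1, Int.ofNat 0, Int.ofNat 2, Int.ofNat 0],
  [Int.negSucc 1, Int.ofNat 0, Int.ofNat 0, Int.ofNat 0, Int.ofNat 0, Int.ofNat 2, Int.ofNat 0, Int.ofNat 0, Int.ofNat 0, Int.ofNat 0, Int.negSucc 1, Int.ofNat 2, Int.ofNat 0, Int.ofNat 0, Int.ofNat 2, Int.ofNat 0, Int.negSucc 1, Int.ofNat 2, Int.ofNat 0, Int.ofNat 0, Int.ofNat 0, Int.negSucc 1, Int.ofNat 0, Int.ofNat 0],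
  [Int.ofNat 1, Int.negSucc 0, Int.negSucc 0, Int.negSucc 2, Int.ofNat 1, Int.negSucc 0, Int.ofNat 1, Int.ofNat 1, Int.negSucc 0, Int.ofNat 1, Int.negSucc 0, Int.ofNat 1, Int.negSucc 0, Int.ofNat 1, Int.negSucc 0, Int.ofNat 1, Int.negSucc 0, Int.negSucc 0, Int.negSucc 0, Int.ofNat 1, Int.ofNat 1, Int.negSucc 0, Int.ofNat 1, Int.negSucc 0],
  [Int.ofNat 1, Int.negSucc 0, Int.ofNat 1, Int.negSucc 2, Int.ofNat 1, Int.ofNat 1, Int.negSucc 0, Int.ofNat 1, Int.negSucc 0, Int.negSucc 0, Int.ofNat 1, Int.ofNat 1, Int.negSucc 0, Int.ofNat 1, Int.negSucc 0, Int.negSucc 0, Int.negSucc 0, Int.negSucc 0, Int.ofNat 1, Int.ofNat 1, Int.ofNat 1, Int.negSucc 0, Int.negSucc 0, Int.negSucc 0],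
  [Int.negSucc 0, Int.negSucc 0, Int.negSucc 0, Int.negSucc 0, Int.ofNat 1, Int.ofNat 1, Int.negSucc 0, Int.negSucc 0, Int.ofNat 1, Int.ofNat 1, Int.negSucc 2, Int.ofNat 1, Int.negSucc 0, Int.negSucc 0, Int.ofNat 1, Int.ofNat 1, Int.ofNat 1, Int.negSucc 0, Int.negSucc 0, Int.ofNat 1, Int.ofNat 1, Int.ofNat 1, Int.negSucc 0, Int.negSucc 0],
  [Int.negSucc 0, Int.negSucc 0, Int.ofNat 1, Int.negSucc 0, Int.ofNat 1, Int.negSucc 0, Int.ofNat 1, Int.negSucc 0, Int.ofNat 1, Int.negSucc 0, Int.ofNat 3, Int.ofNat 1, Int.negSucc 0, Int.negSucc 0, Int.ofNat 1, Int.negSucc 0, Int.ofNat 1, Int.negSucc 0, Int.ofNat 1, Int.ofNat 1, Int.ofNat 1, Int.ofNat 1, Int.ofNat 1, Int.negSucc 0],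
  [Int.ofNat 0, Int.ofNat 0, Int.negSucc 1, Int.ofNat 0, Int.ofNat 0, Int.ofNat 0, Int.ofNat 0, Int.negSucc 1, Int.ofNat 0, Int.negSucc 1, Int.ofNat 2, Int.ofNat 0, Int.negSucc 1, Int.negSucc 1, Int.ofNat 2, Int.negSucc 1, Int.ofNat 0, Int.ofNat 0, Int.ofNat 0, Int.ofNat 0, Int.ofNat 0, Int.ofNat 0, Int.ofNat 0, Int.ofNat 0],
  [Int.ofNat 0, Int.ofNat 0, Int.ofNat 0, Int.ofNat 0, Int.negSucc 1, Int.ofNat 0, Int.ofNat 0, Int.ofNat 0, Int.ofNat 0, Int.negSucc 1, Int.negSucc 1, Int.ofNat 0, Int.ofNat 0, Int.negSucc 1, Int.ofNat 0, Int.negSucc 1, Int.negSucc 1, Int.ofNat 0, Int.ofNat 0, Int.ofNat 0, Int.ofNat 2, Int.ofNat 0, Int.ofNat 2, Int.ofNat 0],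
  [Int.ofNat 0, Int.ofNat 0, Int.ofNat 0, Int.ofNat 0, Int.ofNat 0, Int.ofNat 0, Int.ofNat 0, Int.ofNat 0, Int.ofNat 0, Int.ofNat 0, Int.ofNat 0, Int.ofNat 0, Int.ofNat 0, Int.ofNat 0, Int.ofNat 0, Int.ofNat 0, Int.ofNat 0, Int.ofNat 0, Int.ofNat 0, Int.ofNat 0, Int.ofNat 4, Int.ofNat 0, Int.ofNat 4, Int.ofNat 0],
  [Int.ofNat 4, Int.ofNat 0, Int.ofNat 4, Int.ofNat 0, Int.ofNat 0, Int.ofNat 0, Int.ofNat 0, Int.ofNat 0, Int.ofNat 0, Int.ofNat 0, Int.ofNat 0, Int.ofNat 0, Int.ofNat 0, Int.ofNat 0, Int.ofNat 0, Int.ofNat 0, Int.ofNat 0, Int.ofNat 0, Int.ofNat 0, Int.ofNat 0, Int.ofNat 0, Int.ofNat 0, Int.ofNat 0, Int.ofNat 0],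
  [Int.ofNat 0, Int.ofNat 4, Int.ofNat 0, Int.ofNat 0, Int.ofNat 0, Int.ofNat 0, Int.ofNat 0, Int.ofNat 0, Int.ofNat 0, Int.ofNat 0, Int.ofNat 0, Int.ofNat 0, Int.ofNat 0, Int.ofNat 0, Int.ofNat 0, Int.ofNat 0, Int.ofNat 0, Int.ofNat 0, Int.ofNat 0, Int.ofNat 0, Int.ofNat 0, Int.ofNat 0, Int.ofNat 0, Int.ofNat 4],
  [Int.ofNat 4, Int.ofNat 0, Int.ofNat 0, Int.ofNat 0, Int.ofNat 0, Int.ofNat 0, Int.ofNat 0, Int.ofNat 0, Int.ofNat 0, Int.ofNat 0, Int.ofNat 0, Int.ofNat 0, Int.ofNat 0, Int.ofNat 0, Int.ofNat 0, Int.ofNat 0, Int.ofNat 0, Int.ofNat 0, Int.ofNat 0, Int.ofNat 0, Int.ofNat 0, Int.ofNat 0, Int.ofNat 0, Int.ofNat 4],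
  [Int.negSucc 3, Int.ofNat 0, Int.ofNat 0, Int.ofNat 0, Int.ofNat 0, Int.ofNat 0, Int.ofNat 0, Int.ofNat 0, Int.ofNat 0, Int.ofNat 0, Int.ofNat 0, Int.ofNat 0, Int.ofNat 0, Int.ofNat 0, Int.ofNat 0, Int.ofNat 0, Int.ofNat 0, Int.ofNat 0, Int.ofNat 0, Int.ofNat 0, Int.ofNat 0, Int.ofNat 0, Int.ofNat 0, Int.ofNat 4],
  [Int.ofNat 4, Int.ofNat 0, Int.ofNat 0, Int.ofNat 0, Int.ofNat 0, Int.ofNat 0, Int.ofNat 0, Int.ofNat 0, Int.ofNat 0, Int.ofNat 0, Int.ofNat 0, Int.ofNat 0, Int.ofNat 0, Int.ofNat 0, Int.ofNat 0, Int.ofNat 0, Int.ofNat 0, Int.ofNat 0, Int.ofNat 0, Int.ofNat 0, Int.ofNat 0, Int.ofNat 0, Int.ofNat 0, Int.ofNat 4],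
  [Int.ofNat 4, Int.ofNat 0, Int.ofNat 0, Int.ofNat 0, Int.ofNat 0, Int.ofNat 0, Int.ofNat 0, Int.ofNat 0, Int.ofNat 0, Int.ofNat 0, Int.ofNat 0, Int.ofNat 0, Int.ofNat 0, Int.ofNat 0, Int.ofNat 0, Int.ofNat 0, Int.ofNat 0, Int.ofNat 0, Int.ofNat 0, Int.ofNat 0, Int.ofNat 0, Int.ofNat 0, Int.ofNat 0, Int.ofNat 4],
  [Int.negSucc 3, Int.ofNat 0, Int.ofNat 0, Int.ofNat 0, Int.ofNat 0, Int.ofNat 0, Int.ofNat 0, Int.ofNat 0, Int.ofNat 0, Int.ofNat 0, Int.ofNat 0, Int.ofNat 0, Int.ofNat 0, Int.ofNat 0, Int.ofNat 0, Int.ofNat 0, Int.ofNat 0, Int.ofNat 0, Int.ofNat 0, Int.ofNat 0, Int.ofNat 0, Int.ofNat 0, Int.ofNat 0, Int.ofNat 4],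
  [Int.ofNat 0, Int.negSucc 3, Int.ofNat 0, Int.ofNat 0, Int.ofNat 0, Int.ofNat 0, Int.ofNat 0, Int.ofNat 0, Int.ofNat 0, Int.ofNat 0, Int.ofNat 0, Int.ofNat 0, Int.ofNat 0, Int.ofNat 0, Int.ofNat 0, Int.ofNat 0, Int.ofNat 0, Int.ofNat 0, Int.ofNat 0, Int.ofNat 0, Int.ofNat 0, Int.ofNat 0, Int.ofNat 0, Int.ofNat 4],
  [Int.ofNat 0, Int.ofNat 4, Int.ofNat 0, Int.ofNat 0, Int.ofNat 0, Int.ofNat 0, Int.ofNat 0, Int.ofNat 0, Int.ofNat 0, Int.ofNat 0, Int.ofNat 0, Int.ofNat 0, Int.ofNat 0, Int.ofNat 0, Int.ofNat 0, Int.ofNat 0, Int.ofNat 0, Int.ofNat 0, Int.ofNat 0, Int.ofNat 0, Int.ofNat 0, Int.ofNat 0, Int.ofNat 0, Int.negSucc 3],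
  [Int.ofNat 0, Int.ofNat 0, Int.ofNat 0, Int.ofNat 0, Int.ofNat 0, Int.ofNat 0, Int.ofNat 0, Int.ofNat 0, Int.ofNat 0, Int.ofNat 0, Int.ofNat 0, Int.ofNat 0, Int.ofNat 0, Int.ofNat 0, Int.ofNat 0, Int.ofNat 0, Int.ofNat 0, Int.ofNat 0, Int.ofNat 0, Int.ofNat 0, Int.ofNat 0, Int.ofNat 4, Int.ofNat 0, Int.negSucc 3],
  [Int.negSucc 1, Int.negSucc 1, Int.negSucc 1, Int.ofNat 0, Int.ofNat 0, Int.ofNat 0, Int.negSucc 1, Int.negSucc 1, Int.ofNat 0, Int.ofNat 0, Int.ofNat 0, Int.ofNat 0, Int.ofNat 0, Int.ofNat 0, Int.ofNat 0, Int.ofNat 0, Int.ofNat 0, Int.ofNat 0, Int.ofNat 0, Int.negSucc 1, Int.ofNat 0, Int.ofNat 2, Int.ofNat 0, Int.ofNat 2],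
  [Int.negSucc 1, Int.negSucc 1, Int.ofNat 0, Int.ofNat 0, Int.ofNat 0, Int.negSucc 1, Int.negSucc 1, Int.ofNat 0, Int.ofNat 0, Int.ofNat 0, Int.ofNat 0, Int.ofNat 0, Int.ofNat 0, Int.ofNat 0, Int.ofNat 0, Int.ofNat 0, Int.ofNat 0, Int.ofNat 0, Int.negSucc 1, Int.ofNat 0, Int.ofNat 2, Int.ofNat 0, Int.negSucc 1, Int.ofNat 2],
  [Int.ofNat 1, Int.ofNat 1, Int.negSucc 0, Int.ofNat 1, Int.ofNat 1, Int.negSucc 0, Int.negSucc 0, Int.ofNat 1, Int.ofNat 1, Int.negSucc 0, Int.negSucc 0, Int.ofNat 1, Int.ofNat 1, Int.ofNat 1, Int.ofNat 1, Int.negSucc 0, Int.ofNat 1, Int.ofNat 1, Int.negSucc 0, Int.ofNat 1, Int.ofNat 1, Int.ofNat 1, Int.negSucc 0, Int.negSucc 2],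
  [Int.ofNat 1, Int.ofNat 1, Int.ofNat 1, Int.ofNat 1, Int.ofNat 1, Int.ofNat 1, Int.ofNat 1, Int.ofNat 1, Int.ofNat 1, Int.ofNat 1, Int.ofNat 1, Int.ofNat 1, Int.ofNat 1, Int.ofNat 1, Int.ofNat 1, Int.ofNat 1, Int.ofNat 1, Int.ofNat 1, Int.ofNat 1, Int.ofNat 1, Int.ofNat 1, Int.ofNat 1, Int.ofNat 1, Int.negSucc 2],
  [Int.ofNat 1, Int.ofNat 1, Int.ofNat 1, Int.ofNat 1, Int.ofNat 1, Int.ofNat 1, Int.ofNat 1, Int.ofNat 1, Int.ofNat 1, Int.ofNat 1, Int.ofNat 1, Int.ofNat 1, Int.ofNat 1, Int.ofNat 1, Int.ofNat 1, Int.ofNat 1, Int.ofNat 1, Int.ofNat 1, Int.ofNat 1, Int.ofNat 1, Int.ofNat 1, Int.ofNat 1, Int.ofNat 1, Int.negSucc 2],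
  [Int.ofNat 1, Int.ofNat 1, Int.negSucc 0, Int.ofNat 1, Int.ofNat 1, Int.negSucc 0, Int.negSucc 0, Int.ofNat 1, Int.ofNat 1, Int.negSucc 0, Int.negSucc 0, Int.ofNat 1, Int.ofNat 1, Int.ofNat 1, Int.ofNat 1, Int.negSucc 0, Int.ofNat 1, Int.ofNat 1, Int.negSucc 0, Int.ofNat 1, Int.ofNat 1, Int.ofNat 1, Int.negSucc 0, Int.negSucc 2],
  [Int.negSucc 1, Int.negSucc 1, Int.ofNat 0, Int.ofNat 0, Int.ofNat 0, Int.negSucc 1, Int.negSucc 1, Int.ofNat 0, Int.ofNat 0, Int.ofNat 0, Int.ofNat 0, Int.ofNat 0, Int.ofNat 0, Int.ofNat 0, Int.ofNat 0, Int.ofNat 0, Int.ofNat 0, Int.ofNat 0, Int.negSucc 1, Int.ofNat 0, Int.ofNat 2, Int.ofNat 0, Int.negSucc 1, Int.ofNat 2],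
  [Int.negSucc 1, Int.negSucc 1, Int.negSucc 1, Int.ofNat 0, Int.ofNat 0, Int.ofNat 0, Int.negSucc 1, Int.negSucc 1, Int.ofNat 0, Int.ofNat 0, Int.ofNat 0, Int.ofNat 0, Int.ofNat 0, Int.ofNat 0, Int.ofNat 0, Int.ofNat 0, Int.ofNat 0, Int.ofNat 0, Int.ofNat 0, Int.negSucc 1, Int.ofNat 0, Int.ofNat 2, Int.ofNat 0, Int.ofNat 2],
  [Int.ofNat 0, Int.ofNat 0, Int.ofNat 0, Int.ofNat 0, Int.ofNat 0, Int.ofNat 0, Int.ofNat 0, Int.ofNat 0, Int.ofNat 0, Int.ofNat 0, Int.ofNat 0, Int.ofNat 0, Int.ofNat 0, Int.ofNat 0, Int.ofNat 0, Int.ofNat 0, Int.ofNat 0, Int.ofNat 0, Int.ofNat 0, Int.ofNat 0, Int.ofNat 0, Int.ofNat 4, Int.ofNat 0, Int.negSucc 3],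
  [Int.ofNat 0, Int.ofNat 4, Int.ofNat 0, Int.ofNat 0, Int.ofNat 0, Int.ofNat 0, Int.ofNat 0, Int.ofNat 0, Int.ofNat 0, Int.ofNat 0, Int.ofNat 0, Int.ofNat 0, Int.ofNat 0, Int.ofNat 0, Int.ofNat 0, Int.ofNat 0, Int.ofNat 0, Int.ofNat 0, Int.ofNat 0, Int.ofNat 0, Int.ofNat 0, Int.ofNat 0, Int.ofNat 0, Int.negSucc 3],
  [Int.ofNat 0, Int.negSucc 3, Int.ofNat 0, Int.ofNat 0, Int.ofNat 0, Int.ofNat 0, Int.ofNat 0, Int.ofNat 0, Int.ofNat 0, Int.ofNat 0, Int.ofNat 0, Int.ofNat 0, Int.ofNat 0, Int.ofNat 0, Int.ofNat 0, Int.ofNat 0, Int.ofNat 0, Int.ofNat 0, Int.ofNat 0, Int.ofNat 0, Int.ofNat 0, Int.ofNat 0, Int.ofNat 0, Int.ofNat 4],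
  [Int.negSucc 3, Int.ofNat 0, Int.ofNat 0, Int.ofNat 0, Int.ofNat 0, Int.ofNat 0, Int.ofNat 0, Int.ofNat 0, Int.ofNat 0, Int.ofNat 0, Int.ofNat 0, Int.ofNat 0, Int.ofNat 0, Int.ofNat 0, Int.ofNat 0, Int.ofNat 0, Int.ofNat 0, Int.ofNat 0, Int.ofNat 0, Int.ofNat 0, Int.ofNat 0, Int.ofNat 0, Int.ofNat 0, Int.ofNat 4],
  [Int.ofNat 4, Int.ofNat 0, Int.ofNat 0, Int.ofNat 0, Int.ofNat 0, Int.ofNat 0, Int.ofNat 0, Int.ofNat 0, Int.ofNat 0, Int.ofNat 0, Int.ofNat 0, Int.ofNat 0, Int.ofNat 0, Int.ofNat 0, Int.ofNat 0, Int.ofNat 0, Int.ofNat 0, Int.ofNat 0, Int.ofNat 0, Int.ofNat 0, Int.ofNat 0, Int.ofNat 0, Int.ofNat 0, Int.ofNat 4],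
  [Int.negSucc 3, Int.ofNat 0, Int.ofNat 0, Int.ofNat 0, Int.ofNat 0, Int.ofNat 0, Int.ofNat 0, Int.ofNat 0, Int.ofNat 0, Int.ofNat 0, Int.ofNat 0, Int.ofNat 0, Int.ofNat 0, Int.ofNat 0, Int.ofNat 0, Int.ofNat 0, Int.ofNat 0, Int.ofNat 0, Int.ofNat 0, Int.ofNat 0, Int.ofNat 0, Int.ofNat 0, Int.ofNat 0, Int.ofNat 4],
  [Int.ofNat 4, Int.ofNat 0, Int.ofNat 0, Int.ofNat 0, Int.ofNat 0, Int.ofNat 0, Int.ofNat 0, Int.ofNat 0, Int.ofNat 0, Int.ofNat 0, Int.ofNat 0, Int.ofNat 0, Int.ofNat 0, Int.ofNat 0, Int.ofNat 0, Int.ofNat 0, Int.ofNat 0, Int.ofNat 0, Int.ofNat 0, Int.ofNat 0, Int.ofNat 0, Int.ofNat 0, Int.ofNat 0, Int.negSucc 3],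
  [Int.negSucc 3, Int.ofNat 0, Int.ofNat 0, Int.ofNat 0, Int.ofNat 0, Int.ofNat 0, Int.ofNat 0, Int.ofNat 0, Int.ofNat 0, Int.ofNat 0, Int.ofNat 0, Int.ofNat 0, Int.ofNat 0, Int.ofNat 0, Int.ofNat 0, Int.ofNat 0, Int.ofNat 0, Int.ofNat 0, Int.ofNat 0, Int.ofNat 0, Int.ofNat 0, Int.ofNat 0, Int.ofNat 0, Int.negSucc 3],
  [Int.ofNat 0, Int.negSucc 3, Int.ofNat 0, Int.ofNat 0, Int.ofNat 0, Int.ofNat 0, Int.ofNat 0, Int.ofNat 0, Int.ofNat 0, Int.ofNat 0, Int.ofNat 0, Int.ofNat 0, Int.ofNat 0, Int.ofNat 0, Int.ofNat 0, Int.ofNat 0, Int.ofNat 0, Int.ofNat 0, Int.ofNat 0, Int.ofNat 0, Int.ofNat 0, Int.ofNat 0, Int.ofNat 0, Int.negSucc 3],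
  [Int.negSucc 3, Int.ofNat 0, Int.negSucc 3, Int.ofNat 0, Int.ofNat 0, Int.ofNat 0, Int.ofNat 0, Int.ofNat 0, Int.ofNat 0, Int.ofNat 0, Int.ofNat 0, Int.ofNat 0, Int.ofNat 0, Int.ofNat 0, Int.ofNat 0, Int.ofNat 0, Int.ofNat 0, Int.ofNat 0, Int.ofNat 0, Int.ofNat 0, Int.ofNat 0, Int.ofNat 0, Int.ofNat 0, Int.ofNat 0],
  [Int.ofNat 0, Int.ofNat 0, Int.ofNat 0, Int.ofNat 0, Int.ofNat 0, Int.ofNat 0, Int.ofNat 0, Int.ofNat 0, Int.ofNat 0, Int.ofNat 0, Int.ofNat 0, Int.ofNat 0, Int.ofNat 0, Int.ofNat 0, Int.ofNat 0, Int.ofNat 0, Int.ofNat 0, Int.ofNat 0, Int.ofNat 0, Int.ofNat 0, Int.negSucc 3, Int.ofNat 0, Int.negSucc 3, Int.ofNat 0],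
  [Int.ofNat 0, Int.ofNat 0, Int.ofNat 0, Int.ofNat 0, Int.ofNat 2, Int.ofNat 0, Int.ofNat 0, Int.ofNat 0, Int.ofNat 0, Int.ofNat 2, Int.ofNat 2, Int.ofNat 0, Int.ofNat 0, Int.ofNat 2, Int.ofNat 0, Int.ofNat 2, Int.ofNat 2, Int.ofNat 0, Int.ofNat 0, Int.ofNat 0, Int.negSucc 1, Int.ofNat 0, Int.negSucc 1, Int.ofNat 0],
  [Int.ofNat 0, Int.ofNat 0, Int.ofNat 2, Int.ofNat 0, Int.ofNat 0, Int.ofNat 0, Int.ofNat 0, Int.ofNat 2, Int.ofNat 0, Int.ofNat 2, Int.negSucc 1, Int.ofNat 0, Int.ofNat 2, Int.ofNat 2, Int.negSucc 1, Int.ofNat 2, Int.ofNat 0, Int.ofNat 0, Int.ofNat 0, Int.ofNat 0, Int.ofNat 0, Int.ofNat 0, Int.ofNat 0, Int.ofNat 0],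
  [Int.ofNat 1, Int.ofNat 1, Int.negSucc 0, Int.ofNat 1, Int.negSucc 0, Int.ofNat 1, Int.negSucc 0, Int.ofNat 1, Int.negSucc 0, Int.ofNat 1, Int.negSucc 2, Int.negSucc 0, Int.ofNat 1, Int.ofNat 1, Int.negSucc 0, Int.ofNat 1, Int.negSucc 0, Int.ofNat 1, Int.negSucc 0, Int.negSucc 0, Int.negSucc 0, Int.negSucc 0, Int.negSucc 0, Int.ofNat 1],
  [Int.ofNat 1, Int.ofNat 1, Int.ofNat 1, Int.ofNat 1, Int.negSucc 0, Int.negSucc 0, Int.ofNat 1, Int.ofNat 1, Int.negSucc 0, Int.negSucc 0, Int.ofNat 3, Int.negSucc 0, Int.ofNat 1, Int.ofNat 1, Int.negSucc 0, Int.negSucc 0, Int.negSucc 0, Int.ofNat 1, Int.ofNat 1, Int.negSucc 0, Int.negSucc 0, Int.negSucc 0, Int.ofNat 1, Int.ofNat 1],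
  [Int.negSucc 0, Int.ofNat 1, Int.negSucc 0, Int.ofNat 1, Int.ofNat 1, Int.ofNat 1, Int.negSucc 0, Int.negSucc 0, Int.ofNat 1, Int.negSucc 0, Int.ofNat 1, Int.negSucc 0, Int.negSucc 0, Int.ofNat 1, Int.ofNat 1, Int.ofNat 1, Int.negSucc 0, Int.ofNat 1, Int.ofNat 1, Int.ofNat 3, Int.negSucc 0, Int.negSucc 0, Int.negSucc 0, Int.ofNat 1],
  [Int.negSucc 0, Int.ofNat 1, Int.ofNat 1, Int.ofNat 1, Int.ofNat 1, Int.negSucc 0, Int.ofNat 1, Int.negSucc 0, Int.ofNat 1, Int.ofNat 1, Int.negSucc 0, Int.negSucc 0, Int.negSucc 0, Int.ofNat 1, Int.ofNat 1, Int.negSucc 0, Int.negSucc 0, Int.ofNat 1, Int.negSucc 0, Int.ofNat 3, Int.negSucc 0, Int.negSucc 0, Int.ofNat 1, Int.ofNat 1],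
  [Int.ofNat 2, Int.ofNat 0, Int.ofNat 0, Int.ofNat 0, Int.ofNat 0, Int.negSucc 1, Int.ofNat 0, Int.negSucc 1, Int.ofNat 2, Int.ofNat 2, Int.ofNat 0, Int.ofNat 0, Int.ofNat 0, Int.ofNat 0, Int.ofNat 0, Int.ofNat 0, Int.negSucc 1, Int.ofNat 0, Int.ofNat 0, Int.ofNat 2, Int.ofNat 0, Int.negSucc 1, Int.ofNat 0, Int.ofNat 0],
  [Int.ofNat 2, Int.ofNat 0, Int.ofNat 0, Int.ofNat 0, Int.ofNat 0, Int.negSucc 1, Int.ofNat 0, Int.negSucc 1, Int.negSucc 1, Int.ofNat 0, Int.negSucc 1, Int.ofNat 2, Int.ofNat 2, Int.ofNat 2, Int.ofNat 0, Int.ofNat 0, Int.ofNat 0, Int.ofNat 0, Int.ofNat 0, Int.ofNat 0, Int.ofNat 0, Int.ofNat 0, Int.ofNat 0, Int.ofNat 0],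
  [Int.negSucc 0, Int.ofNat 1, Int.ofNat 1, Int.ofNat 1, Int.negSucc 0, Int.negSucc 0, Int.ofNat 1, Int.negSucc 0, Int.negSucc 2, Int.ofNat 1, Int.negSucc 0, Int.ofNat 1, Int.ofNat 1, Int.ofNat 1, Int.ofNat 1, Int.ofNat 1, Int.negSucc 0, Int.ofNat 1, Int.negSucc 0, Int.ofNat 1, Int.ofNat 1, Int.ofNat 1, Int.negSucc 0, Int.ofNat 1],
  [Int.ofNat 1, Int.ofNat 1, Int.negSucc 0, Int.negSucc 0, Int.ofNat 1, Int.ofNat 1, Int.ofNat 1, Int.negSucc 0, Int.negSucc 0, Int.ofNat 1, Int.negSucc 0, Int.negSucc 2, Int.ofNat 1, Int.negSucc 0, Int.ofNat 1, Int.ofNat 1, Int.ofNat 1, Int.ofNat 1, Int.ofNat 1, Int.negSucc 0, Int.ofNat 1, Int.negSucc 0, Int.ofNat 1, Int.ofNat 1],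
  [Int.ofNat 0, Int.ofNat 0, Int.ofNat 2, Int.negSucc 1, Int.ofNat 0, Int.ofNat 0, Int.ofNat 2, Int.ofNat 0, Int.ofNat 0, Int.ofNat 0, Int.negSucc 1, Int.negSucc 1, Int.ofNat 2, Int.negSucc 1, Int.ofNat 0, Int.ofNat 0, Int.ofNat 0, Int.ofNat 0, Int.ofNat 2, Int.ofNat 0, Int.ofNat 0, Int.ofNat 0, Int.ofNat 0, Int.ofNat 0],
  [Int.ofNat 0, Int.ofNat 2, Int.negSucc 1, Int.ofNat 0, Int.ofNat 0, Int.ofNat 2, Int.ofNat 0, Int.ofNat 0, Int.ofNat 0, Int.negSucc 1, Int.negSucc 1, Int.ofNat 2, Int.negSucc 1, Int.ofNat 0, Int.ofNat 0, Int.ofNat 0, Int.ofNat 0, Int.ofNat 2, Int.ofNat 0, Int.ofNat 0, Int.ofNat 0, Int.ofNat 0, Int.ofNat 0, Int.ofNat 0],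
  [Int.ofNat 0, Int.ofNat 2, Int.ofNat 2, Int.ofNat 0, Int.ofNat 0, Int.ofNat 2, Int.ofNat 0, Int.ofNat 0, Int.ofNat 0, Int.ofNat 2, Int.ofNat 2, Int.negSucc 1, Int.negSucc 1, Int.ofNat 0, Int.ofNat 0, Int.ofNat 0, Int.ofNat 0, Int.ofNat 2, Int.ofNat 0, Int.ofNat 0, Int.ofNat 0, Int.ofNat 0, Int.ofNat 0, Int.ofNat 0],
  [Int.ofNat 0, Int.negSucc 1, Int.negSucc 1, Int.ofNat 0, Int.ofNat 0, Int.ofNat 2, Int.ofNat 0, Int.ofNat 0, Int.ofNat 0, Int.negSucc 1, Int.ofNat 2, Int.negSucc 1, Int.ofNat 2, Int.ofNat 0, Int.ofNat 0, Int.ofNat 0, Int.ofNat 0, Int.ofNat 2, Int.ofNat 0, Int.ofNat 0, Int.ofNat 0, Int.ofNat 0, Int.ofNat 0, Int.ofNat 0],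
  [Int.ofNat 0, Int.ofNat 0, Int.negSucc 1, Int.ofNat 0, Int.ofNat 2, Int.negSucc 1, Int.ofNat 0, Int.ofNat 0, Int.ofNat 0, Int.ofNat 2, Int.ofNat 0, Int.negSucc 1, Int.ofNat 0, Int.ofNat 0, Int.ofNat 0, Int.ofNat 0, Int.ofNat 2, Int.ofNat 0, Int.ofNat 0, Int.ofNat 0, Int.ofNat 0, Int.ofNat 2, Int.negSucc 1, Int.ofNat 0],
  [Int.ofNat 0, Int.ofNat 0, Int.ofNat 2, Int.ofNat 0, Int.ofNat 2, Int.negSucc 1, Int.ofNat 0, Int.ofNat 0, Int.ofNat 0, Int.negSucc 1, Int.ofNat 0, Int.ofNat 2, Int.ofNat 0, Int.ofNat 0, Int.ofNat 0, Int.ofNat 0, Int.ofNat 2, Int.ofNat 0, Int.ofNat 0, Int.ofNat 0, Int.ofNat 0, Int.negSucc 1, Int.negSucc 1, Int.ofNat 0],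
  [Int.negSucc 1, Int.ofNat 0, Int.ofNat 0, Int.ofNat 2, Int.ofNat 0, Int.ofNat 2, Int.negSucc 1, Int.ofNat 0, Int.ofNat 0, Int.ofNat 0, Int.negSucc 1, Int.ofNat 0, Int.ofNat 2, Int.ofNat 0, Int.ofNat 0, Int.ofNat 0, Int.ofNat 0, Int.ofNat 2, Int.ofNat 0, Int.ofNat 0, Int.ofNat 0, Int.ofNat 0, Int.negSucc 1, Int.ofNat 0],
  [Int.ofNat 1, Int.negSucc 0, Int.negSucc 0, Int.negSucc 0, Int.ofNat 1, Int.negSucc 0, Int.negSucc 0, Int.ofNat 1, Int.negSucc 0, Int.ofNat 1, Int.negSucc 0, Int.negSucc 0, Int.ofNat 1, Int.ofNat 1, Int.negSucc 2, Int.ofNat 1, Int.ofNat 1, Int.negSucc 0, Int.negSucc 0, Int.ofNat 1, Int.ofNat 1, Int.ofNat 1, Int.negSucc 0, Int.negSucc 0],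
  [Int.negSucc 0, Int.ofNat 1, Int.negSucc 0, Int.negSucc 0, Int.ofNat 1, Int.negSucc 0, Int.ofNat 1, Int.negSucc 0, Int.negSucc 0, Int.ofNat 1, Int.ofNat 1, Int.negSucc 2, Int.ofNat 1, Int.ofNat 1, Int.negSucc 0, Int.negSucc 0, Int.ofNat 1, Int.ofNat 1, Int.ofNat 1, Int.negSucc 0, Int.ofNat 1, Int.negSucc 0, Int.negSucc 0, Int.negSucc 0],
  [Int.ofNat 0, Int.negSucc 1, Int.ofNat 0, Int.ofNat 0, Int.ofNat 0, Int.ofNat 0, Int.ofNat 2, Int.ofNat 0, Int.ofNat 0, Int.ofNat 0, Int.ofNat 0, Int.negSucc 1, Int.ofNat 2, Int.ofNat 0, Int.ofNat 0, Int.negSucc 1, Int.ofNat 0, Int.ofNat 2, Int.ofNat 2, Int.ofNat 0, Int.ofNat 0, Int.ofNat 0, Int.negSucc 1, Int.ofNat 0],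
  [Int.ofNat 0, Int.ofNat 2, Int.ofNat 0, Int.ofNat 0, Int.ofNat 2, Int.ofNat 0, Int.ofNat 0, Int.ofNat 0, Int.ofNat 2, Int.ofNat 0, Int.ofNat 0, Int.ofNat 2, Int.ofNat 0, Int.ofNat 0, Int.negSucc 1, Int.negSucc 1, Int.ofNat 0, Int.ofNat 0, Int.negSucc 1, Int.negSucc 1, Int.ofNat 0, Int.ofNat 0, Int.ofNat 0, Int.ofNat 0],
  [Int.ofNat 1, Int.negSucc 0, Int.ofNat 1, Int.ofNat 1, Int.ofNat 1, Int.ofNat 1, Int.ofNat 1, Int.ofNat 1, Int.ofNat 1, Int.ofNat 1, Int.ofNat 1, Int.ofNat 1, Int.negSucc 0, Int.negSucc 0, Int.negSucc 0, Int.negSucc 0, Int.negSucc 0, Int.ofNat 1, Int.negSucc 2, Int.negSucc 0, Int.ofNat 1, Int.ofNat 1, Int.negSucc 0, Int.ofNat 1],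
  [Int.ofNat 1, Int.negSucc 0, Int.negSucc 0, Int.ofNat 1, Int.ofNat 1, Int.negSucc 0, Int.negSucc 0, Int.ofNat 1, Int.ofNat 1, Int.negSucc 0, Int.negSucc 0, Int.ofNat 1, Int.negSucc 0, Int.negSucc 0, Int.negSucc 0, Int.ofNat 1, Int.negSucc 0, Int.ofNat 1, Int.ofNat 3, Int.negSucc 0, Int.ofNat 1, Int.ofNat 1, Int.ofNat 1, Int.ofNat 1],
  [Int.negSucc 0, Int.negSucc 0, Int.ofNat 1, Int.ofNat 1, Int.ofNat 1, Int.ofNat 3, Int.ofNat 1, Int.negSucc 0, Int.negSucc 0, Int.ofNat 1, Int.ofNat 1, Int.ofNat 1, Int.negSucc 0, Int.negSucc 0, Int.ofNat 1, Int.negSucc 0, Int.negSucc 0, Int.negSucc 0, Int.ofNat 1, Int.negSucc 0, Int.negSucc 0, Int.ofNat 1, Int.ofNat 1, Int.ofNat 1],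
  [Int.negSucc 0, Int.negSucc 0, Int.negSucc 0, Int.ofNat 1, Int.ofNat 1, Int.negSucc 2, Int.negSucc 0, Int.negSucc 0, Int.negSucc 0, Int.negSucc 0, Int.negSucc 0, Int.ofNat 1, Int.negSucc 0, Int.negSucc 0, Int.ofNat 1, Int.ofNat 1, Int.negSucc 0, Int.negSucc 0, Int.negSucc 0, Int.negSucc 0, Int.negSucc 0, Int.ofNat 1, Int.negSucc 0, Int.ofNat 1],
  [Int.ofNat 0, Int.ofNat 0, Int.ofNat 0, Int.ofNat 2, Int.ofNat 2, Int.negSucc 1, Int.ofNat 0, Int.ofNat 0, Int.ofNat 0, Int.ofNat 0, Int.ofNat 0, Int.ofNat 2, Int.ofNat 0, Int.ofNat 0, Int.ofNat 2, Int.ofNat 2, Int.ofNat 0, Int.ofNat 0, Int.ofNat 0, Int.ofNat 0, Int.ofNat 0, Int.ofNat 2, Int.ofNat 0, Int.negSucc 1],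
  [Int.ofNat 0, Int.ofNat 0, Int.ofNat 0, Int.ofNat 2, Int.ofNat 0, Int.ofNat 2, Int.ofNat 0, Int.negSucc 1, Int.ofNat 0, Int.ofNat 0, Int.ofNat 0, Int.ofNat 0, Int.ofNat 0, Int.ofNat 0, Int.ofNat 0, Int.ofNat 2, Int.ofNat 0, Int.ofNat 2, Int.ofNat 2, Int.ofNat 0, Int.ofNat 0, Int.ofNat 0, Int.ofNat 2, Int.negSucc 1],
  [Int.negSucc 0, Int.negSucc 0, Int.negSucc 0, Int.negSucc 0, Int.negSucc 0, Int.negSucc 0, Int.ofNat 1, Int.negSucc 0, Int.negSucc 0, Int.negSucc 0, Int.negSucc 0, Int.negSucc 0, Int.negSucc 0, Int.negSucc 0, Int.negSucc 2, Int.ofNat 1, Int.negSucc 0, Int.negSucc 0, Int.ofNat 1, Int.ofNat 1, Int.negSucc 0, Int.ofNat 1, Int.ofNat 1, Int.ofNat 1],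
  [Int.negSucc 0, Int.ofNat 1, Int.ofNat 1, Int.negSucc 0, Int.negSucc 0, Int.negSucc 0, Int.negSucc 0, Int.negSucc 0, Int.negSucc 0, Int.ofNat 1, Int.negSucc 0, Int.negSucc 0, Int.negSucc 0, Int.negSucc 0, Int.negSucc 0, Int.negSucc 0, Int.negSucc 0, Int.negSucc 2, Int.ofNat 1, Int.negSucc 0, Int.negSucc 0, Int.ofNat 1, Int.ofNat 1, Int.ofNat 1],
  [Int.ofNat 2, Int.ofNat 0, Int.ofNat 0, Int.ofNat 2, Int.ofNat 0, Int.ofNat 2, Int.ofNat 0, Int.ofNat 0, Int.ofNat 0, Int.ofNat 2, Int.ofNat 0, Int.ofNat 0, Int.ofNat 0, Int.ofNat 0, Int.ofNat 2, Int.ofNat 0, Int.ofNat 0, Int.ofNat 0, Int.ofNat 2, Int.ofNat 0, Int.ofNat 0, Int.ofNat 2, Int.ofNat 2, Int.ofNat 0],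
  [Int.ofNat 0, Int.ofNat 0, Int.ofNat 2, Int.ofNat 0, Int.ofNat 2, Int.ofNat 0, Int.ofNat 0, Int.ofNat 0, Int.ofNat 2, Int.ofNat 0, Int.ofNat 0, Int.ofNat 0, Int.ofNat 0, Int.ofNat 2, Int.ofNat 0, Int.ofNat 0, Int.ofNat 0, Int.ofNat 2, Int.ofNat 0, Int.ofNat 0, Int.ofNat 2, Int.ofNat 2, Int.ofNat 2, Int.ofNat 0],
  [Int.ofNat 0, Int.ofNat 0, Int.negSucc 1, Int.ofNat 0, Int.ofNat 2, Int.ofNat 0, Int.ofNat 0, Int.ofNat 0, Int.ofNat 2, Int.ofNat 0, Int.ofNat 0, Int.ofNat 0, Int.ofNat 0, Int.ofNat 2, Int.ofNat 0, Int.ofNat 0, Int.ofNat 0, Int.ofNat 2, Int.ofNat 0, Int.ofNat 0, Int.ofNat 2, Int.negSucc 1, Int.ofNat 2, Int.ofNat 0],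
  [Int.ofNat 0, Int.ofNat 0, Int.ofNat 2, Int.ofNat 0, Int.negSucc 1, Int.ofNat 0, Int.ofNat 0, Int.ofNat 0, Int.negSucc 1, Int.ofNat 0, Int.ofNat 0, Int.ofNat 0, Int.ofNat 0, Int.negSucc 1, Int.ofNat 0, Int.ofNat 0, Int.ofNat 0, Int.ofNat 2, Int.ofNat 0, Int.ofNat 0, Int.ofNat 2, Int.negSucc 1, Int.ofNat 2, Int.ofNat 0],
  [Int.ofNat 0, Int.ofNat 2, Int.ofNat 0, Int.ofNat 0, Int.ofNat 2, Int.ofNat 0, Int.ofNat 0, Int.negSucc 1, Int.ofNat 2, Int.ofNat 0, Int.ofNat 0, Int.ofNat 2, Int.negSucc 1, Int.ofNat 0, Int.ofNat 0, Int.ofNat 0, Int.ofNat 0, Int.negSucc 1, Int.ofNat 0, Int.ofNat 0, Int.negSucc 1, Int.ofNat 0, Int.ofNat 0, Int.ofNat 0],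
  [Int.ofNat 0, Int.ofNat 2, Int.ofNat 0, Int.ofNat 0, Int.ofNat 2, Int.ofNat 0, Int.ofNat 0, Int.ofNat 2, Int.ofNat 2, Int.ofNat 0, Int.ofNat 0, Int.negSucc 1, Int.negSucc 1, Int.ofNat 0, Int.ofNat 0, Int.ofNat 0, Int.ofNat 0, Int.negSucc 1, Int.ofNat 0, Int.ofNat 0, Int.negSucc 1, Int.ofNat 0, Int.ofNat 0, Int.ofNat 0],
  [Int.ofNat 0, Int.ofNat 0, Int.ofNat 2, Int.ofNat 0, Int.ofNat 0, Int.ofNat 2, Int.ofNat 0, Int.ofNat 0, Int.ofNat 2, Int.ofNat 2, Int.ofNat 0, Int.ofNat 0, Int.negSucc 1, Int.negSucc 1, Int.ofNat 0, Int.ofNat 0, Int.ofNat 0, Int.ofNat 0, Int.negSucc 1, Int.ofNat 0, Int.ofNat 0, Int.negSucc 1, Int.ofNat 0, Int.ofNat 0],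
  [Int.ofNat 1, Int.ofNat 1, Int.negSucc 0, Int.negSucc 0, Int.ofNat 1, Int.ofNat 1, Int.ofNat 1, Int.ofNat 1, Int.ofNat 3, Int.ofNat 1, Int.negSucc 0, Int.ofNat 1, Int.negSucc 0, Int.negSucc 0, Int.negSucc 0, Int.negSucc 0, Int.ofNat 1, Int.negSucc 0, Int.negSucc 0, Int.ofNat 1, Int.negSucc 0, Int.negSucc 0, Int.ofNat 1, Int.ofNat 1],
  [Int.negSucc 0, Int.ofNat 1, Int.ofNat 1, Int.ofNat 1, Int.ofNat 1, Int.ofNat 3, Int.ofNat 1, Int.negSucc 0, Int.ofNat 1, Int.negSucc 0, Int.negSucc 0, Int.negSucc 0, Int.negSucc 0, Int.ofNat 1, Int.negSucc 0, Int.negSucc 0, Int.ofNat 1, Int.negSucc 0, Int.negSucc 0, Int.ofNat 1, Int.ofNat 1, Int.ofNat 1, Int.negSucc 0, Int.ofNat 1],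
  [Int.ofNat 2, Int.ofNat 0, Int.ofNat 0, Int.ofNat 0, Int.ofNat 0, Int.ofNat 2, Int.ofNat 0, Int.negSucc 1, Int.ofNat 2, Int.ofNat 0, Int.ofNat 0, Int.ofNat 0, Int.ofNat 0, Int.ofNat 0, Int.negSucc 1, Int.ofNat 0, Int.ofNat 0, Int.negSucc 1, Int.ofNat 0, Int.ofNat 0, Int.ofNat 2, Int.ofNat 0, Int.negSucc 1, Int.ofNat 0],
  [Int.ofNat 2, Int.ofNat 0, Int.ofNat 0, Int.ofNat 0, Int.ofNat 0, Int.negSucc 1, Int.ofNat 0, Int.ofNat 0, Int.ofNat 0, Int.ofNat 0, Int.ofNat 2, Int.negSucc 1, Int.ofNat 0, Int.ofNat 0, Int.negSucc 1, Int.ofNat 0, Int.ofNat 2, Int.negSucc 1, Int.ofNat 0, Int.ofNat 0, Int.ofNat 0, Int.ofNat 2, Int.ofNat 0, Int.ofNat 0],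
  [Int.negSucc 0, Int.ofNat 1, Int.ofNat 1, Int.ofNat 3, Int.negSucc 0, Int.ofNat 1, Int.negSucc 0, Int.negSucc 0, Int.ofNat 1, Int.negSucc 0, Int.ofNat 1, Int.negSucc 0, Int.ofNat 1, Int.negSucc 0, Int.ofNat 1, Int.negSucc 0, Int.ofNat 1, Int.ofNat 1, Int.ofNat 1, Int.negSucc 0, Int.negSucc 0, Int.ofNat 1, Int.negSucc 0, Int.ofNat 1],
  [Int.negSucc 0, Int.ofNat 1, Int.negSucc 0, Int.ofNat 3, Int.negSucc 0, Int.negSucc 0, Int.ofNat 1, Int.negSucc 0, Int.ofNat 1, Int.ofNat 1, Int.negSucc 0, Int.negSucc 0, Int.ofNat 1, Int.negSucc 0, Int.ofNat 1, Int.ofNat 1, Int.ofNat 1, Int.ofNat 1, Int.negSucc 0, Int.negSucc 0, Int.negSucc 0, Int.ofNat 1, Int.ofNat 1, Int.ofNat 1],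
  [Int.ofNat 1, Int.ofNat 1, Int.ofNat 1, Int.ofNat 1, Int.negSucc 0, Int.negSucc 0, Int.ofNat 1, Int.ofNat 1, Int.negSucc 0, Int.negSucc 0, Int.ofNat 3, Int.negSucc 0, Int.ofNat 1, Int.ofNat 1, Int.negSucc 0, Int.negSucc 0, Int.negSucc 0, Int.ofNat 1, Int.ofNat 1, Int.negSucc 0, Int.negSucc 0, Int.negSucc 0, Int.ofNat 1, Int.ofNat 1],
  [Int.ofNat 1, Int.ofNat 1, Int.negSucc 0, Int.ofNat 1, Int.negSucc 0, Int.ofNat 1, Int.negSucc 0, Int.ofNat 1, Int.negSucc 0, Int.ofNat 1, Int.negSucc 2, Int.negSucc 0, Int.ofNat 1, Int.ofNat 1, Int.negSucc 0, Int.ofNat 1, Int.negSucc 0, Int.ofNat 1, Int.negSucc 0, Int.negSucc 0, Int.negSucc 0, Int.negSucc 0, Int.negSucc 0, Int.ofNat 1],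
  [Int.ofNat 0, Int.ofNat 0, Int.ofNat 2, Int.ofNat 0, Int.ofNat 0, Int.ofNat 0, Int.ofNat 0, Int.ofNat 2, Int.ofNat 0, Int.ofNat 2, Int.negSucc 1, Int.ofNat 0, Int.ofNat 2, Int.ofNat 2, Int.negSucc 1, Int.ofNat 2, Int.ofNat 0, Int.ofNat 0, Int.ofNat 0, Int.ofNat 0, Int.ofNat 0, Int.ofNat 0, Int.ofNat 0, Int.ofNat 0],
  [Int.ofNat 0, Int.ofNat 0, Int.ofNat 0, Int.ofNat 0, Int.ofNat 2, Int.ofNat 0, Int.ofNat 0, Int.ofNat 0, Int.ofNat 0, Int.ofNat 2, Int.ofNat 2, Int.ofNat 0, Int.ofNat 0, Int.ofNat 2, Int.ofNat 0, Int.ofNat 2, Int.ofNat 2, Int.ofNat 0, Int.ofNat 0, Int.ofNat 0, Int.negSucc 1, Int.ofNat 0, Int.negSucc 1, Int.ofNat 0],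
  [Int.ofNat 0, Int.ofNat 0, Int.ofNat 0, Int.ofNat 0, Int.ofNat 0, Int.ofNat 0, Int.ofNat 0, Int.ofNat 0, Int.ofNat 0, Int.ofNat 0, Int.ofNat 0, Int.ofNat 0, Int.ofNat 0, Int.ofNat 0, Int.ofNat 0, Int.ofNat 0, Int.ofNat 0, Int.ofNat 0, Int.ofNat 0, Int.ofNat 0, Int.negSucc 3, Int.ofNat 0, Int.negSucc 3, Int.ofNat 0],
  [Int.negSucc 3, Int.ofNat 0, Int.negSucc 3, Int.ofNat 0, Int.ofNat 0, Int.ofNat 0, Int.ofNat 0, Int.ofNat 0, Int.ofNat 0, Int.ofNat 0, Int.ofNat 0, Int.ofNat 0, Int.ofNat 0, Int.ofNat 0, Int.ofNat 0, Int.ofNat 0, Int.ofNat 0, Int.ofNat 0, Int.ofNat 0, Int.ofNat 0, Int.ofNat 0, Int.ofNat 0, Int.ofNat 0, Int.ofNat 0],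
  [Int.ofNat 0, Int.negSucc 3, Int.ofNat 0, Int.ofNat 0, Int.ofNat 0, Int.ofNat 0, Int.ofNat 0, Int.ofNat 0, Int.ofNat 0, Int.ofNat 0, Int.ofNat 0, Int.ofNat 0, Int.ofNat 0, Int.ofNat 0, Int.ofNat 0, Int.ofNat 0, Int.ofNat 0, Int.ofNat 0, Int.ofNat 0, Int.ofNat 0, Int.ofNat 0, Int.ofNat 0, Int.ofNat 0, Int.negSucc 3],
  [Int.negSucc 3, Int.ofNat 0, Int.ofNat 0, Int.ofNat 0, Int.ofNat 0, Int.ofNat 0, Int.ofNat 0, Int.ofNat 0, Int.ofNat 0, Int.ofNat 0, Int.ofNat 0, Int.ofNat 0, Int.ofNat 0, Int.ofNat 0, Int.ofNat 0, Int.ofNat 0, Int.ofNat 0, Int.ofNat 0, Int.ofNat 0, Int.ofNat 0, Int.ofNat 0, Int.ofNat 0, Int.ofNat 0, Int.negSucc 3],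
  [Int.ofNat 4, Int.ofNat 0, Int.ofNat 0, Int.ofNat 0, Int.ofNat 0, Int.ofNat 0, Int.ofNat 0, Int.ofNat 0, Int.ofNat 0, Int.ofNat 0, Int.ofNat 0, Int.ofNat 0, Int.ofNat 0, Int.ofNat 0, Int.ofNat 0, Int.ofNat 0, Int.ofNat 0, Int.ofNat 0, Int.ofNat 0, Int.ofNat 0, Int.ofNat 0, Int.ofNat 0, Int.ofNat 0, Int.negSucc 3],
  [Int.negSucc 3, Int.ofNat 0, Int.ofNat 0, Int.ofNat 0, Int.ofNat 0, Int.ofNat 0, Int.ofNat 0, Int.ofNat 0, Int.ofNat 0, Int.ofNat 0, Int.ofNat 0, Int.ofNat 0, Int.ofNat 0, Int.ofNat 0, Int.ofNat 0, Int.ofNat 0, Int.ofNat 0, Int.ofNat 0, Int.ofNat 0, Int.ofNat 0, Int.ofNat 0, Int.ofNat 0, Int.ofNat 0, Int.negSucc 3],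
  [Int.negSucc 3, Int.ofNat 0, Int.ofNat 0, Int.ofNat 0, Int.ofNat 0, Int.ofNat 0, Int.ofNat 0, Int.ofNat 0, Int.ofNat 0, Int.ofNat 0, Int.ofNat 0, Int.ofNat 0, Int.ofNat 0, Int.ofNat 0, Int.ofNat 0, Int.ofNat 0, Int.ofNat 0, Int.ofNat 0, Int.ofNat 0, Int.ofNat 0, Int.ofNat 0, Int.ofNat 0, Int.ofNat 0, Int.negSucc 3],
  [Int.ofNat 4, Int.ofNat 0, Int.ofNat 0, Int.ofNat 0, Int.ofNat 0, Int.ofNat 0, Int.ofNat 0, Int.ofNat 0, Int.ofNat 0, Int.ofNat 0, Int.ofNat 0, Int.ofNat 0, Int.ofNat 0, Int.ofNat 0, Int.ofNat 0, Int.ofNat 0, Int.ofNat 0, Int.ofNat 0, Int.ofNat 0, Int.ofNat 0, Int.ofNat 0, Int.ofNat 0, Int.ofNat 0, Int.negSucc 3],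
  [Int.ofNat 0, Int.ofNat 4, Int.ofNat 0, Int.ofNat 0, Int.ofNat 0, Int.ofNat 0, Int.ofNat 0, Int.ofNat 0, Int.ofNat 0, Int.ofNat 0, Int.ofNat 0, Int.ofNat 0, Int.ofNat 0, Int.ofNat 0, Int.ofNat 0, Int.ofNat 0, Int.ofNat 0, Int.ofNat 0, Int.ofNat 0, Int.ofNat 0, Int.ofNat 0, Int.ofNat 0, Int.ofNat 0, Int.negSucc 3],
  [Int.ofNat 0, Int.negSucc 3, Int.ofNat 0, Int.ofNat 0, Int.ofNat 0, Int.ofNat 0, Int.ofNat 0, Int.ofNat 0, Int.ofNat 0, Int.ofNat 0, Int.ofNat 0, Int.ofNat 0, Int.ofNat 0, Int.ofNat 0, Int.ofNat 0, Int.ofNat 0, Int.ofNat 0, Int.ofNat 0, Int.ofNat 0, Int.ofNat 0, Int.ofNat 0, Int.ofNat 0, Int.ofNat 0, Int.ofNat 4],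
  [Int.ofNat 0, Int.ofNat 0, Int.ofNat 0, Int.ofNat 0, Int.ofNat 0, Int.ofNat 0, Int.ofNat 0, Int.ofNat 0, Int.ofNat 0, Int.ofNat 0, Int.ofNat 0, Int.ofNat 0, Int.ofNat 0, Int.ofNat 0, Int.ofNat 0, Int.ofNat 0, Int.ofNat 0, Int.ofNat 0, Int.ofNat 0, Int.ofNat 0, Int.ofNat 0, Int.negSucc 3, Int.ofNat 0, Int.ofNat 4],
  [Int.ofNat 2, Int.ofNat 2, Int.ofNat 2, Int.ofNat 0, Int.ofNat 0, Int.ofNat 0, Int.ofNat 2, Int.ofNat 2, Int.ofNat 0, Int.ofNat 0, Int.ofNat 0, Int.ofNat 0, Int.ofNat 0, Int.ofNat 0, Int.ofNat 0, Int.ofNat 0, Int.ofNat 0, Int.ofNat 0, Int.ofNat 0, Int.ofNat 2, Int.ofNat 0, Int.negSucc 1, Int.ofNat 0, Int.negSucc 1],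
  [Int.ofNat 2, Int.ofNat 2, Int.ofNat 0, Int.ofNat 0, Int.ofNat 0, Int.ofNat 2, Int.ofNat 2, Int.ofNat 0, Int.ofNat 0, Int.ofNat 0, Int.ofNat 0, Int.ofNat 0, Int.ofNat 0, Int.ofNat 0, Int.ofNat 0, Int.ofNat 0, Int.ofNat 0, Int.ofNat 0, Int.ofNat 2, Int.ofNat 0, Int.negSucc 1, Int.ofNat 0, Int.ofNat 2, Int.negSucc 1],
  [Int.negSucc 0, Int.negSucc 0, Int.ofNat 1, Int.negSucc 0, Int.negSucc 0, Int.ofNat 1, Int.ofNat 1, Int.negSucc 0, Int.negSucc 0, Int.ofNat 1, Int.ofNat 1, Int.negSucc 0, Int.negSucc 0, Int.negSucc 0, Int.negSucc 0, Int.ofNat 1, Int.negSucc 0, Int.negSucc 0, Int.ofNat 1, Int.negSucc 0, Int.negSucc 0, Int.negSucc 0, Int.ofNat 1, Int.ofNat 3],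
  [Int.negSucc 0, Int.negSucc 0, Int.negSucc 0, Int.negSucc 0, Int.negSucc 0, Int.negSucc 0, Int.negSucc 0, Int.negSucc 0, Int.negSucc 0, Int.negSucc 0, Int.negSucc 0, Int.negSucc 0, Int.negSucc 0, Int.negSucc 0, Int.negSucc 0, Int.negSucc 0, Int.negSucc 0, Int.negSucc 0, Int.negSucc 0, Int.negSucc 0, Int.negSucc 0, Int.negSucc 0, Int.negSucc 0, Int.ofNat 3],
  [Int.negSucc 0, Int.negSucc 0, Int.negSucc 0, Int.negSucc 0, Int.negSucc 0, Int.negSucc 0, Int.negSucc 0, Int.negSucc 0, Int.negSucc 0, Int.negSucc 0, Int.negSucc 0, Int.negSucc 0, Int.negSucc 0, Int.negSucc 0, Int.negSucc 0, Int.negSucc 0, Int.negSucc 0, Int.negSucc 0, Int.negSucc 0, Int.negSucc 0, Int.negSucc 0, Int.negSucc 0, Int.negSucc 0, Int.ofNat 3],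
  [Int.negSucc 0, Int.negSucc 0, Int.ofNat 1, Int.negSucc 0, Int.negSucc 0, Int.ofNat 1, Int.ofNat 1, Int.negSucc 0, Int.negSucc 0, Int.ofNat 1, Int.ofNat 1, Int.negSucc 0, Int.negSucc 0, Int.negSucc 0, Int.negSucc 0, Int.ofNat 1, Int.negSucc 0, Int.negSucc 0, Int.ofNat 1, Int.negSucc 0, Int.negSucc 0, Int.negSucc 0, Int.ofNat 1, Int.ofNat 3],
  [Int.ofNat 2, Int.ofNat 2, Int.ofNat 0, Int.ofNat 0, Int.ofNat 0, Int.ofNat 2, Int.ofNat 2, Int.ofNat 0, Int.ofNat 0, Int.ofNat 0, Int.ofNat 0, Int.ofNat 0, Int.ofNat 0, Int.ofNat 0, Int.ofNat 0, Int.ofNat 0, Int.ofNat 0, Int.ofNat 0, Int.ofNat 2, Int.ofNat 0, Int.negSucc 1, Int.ofNat 0, Int.ofNat 2, Int.negSucc 1],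
  [Int.ofNat 2, Int.ofNat 2, Int.ofNat 2, Int.ofNat 0, Int.ofNat 0, Int.ofNat 0, Int.ofNat 2, Int.ofNat 2, Int.ofNat 0, Int.ofNat 0, Int.ofNat 0, Int.ofNat 0, Int.ofNat 0, Int.ofNat 0, Int.ofNat 0, Int.ofNat 0, Int.ofNat 0, Int.ofNat 0, Int.ofNat 0, Int.ofNat 2, Int.ofNat 0, Int.negSucc 1, Int.ofNat 0, Int.negSucc 1],
  [Int.ofNat 0, Int.ofNat 0, Int.ofNat 0, Int.ofNat 0, Int.ofNat 0, Int.ofNat 0, Int.ofNat 0, Int.ofNat 0, Int.ofNat 0, Int.ofNat 0, Int.ofNat 0, Int.ofNat 0, Int.ofNat 0, Int.ofNat 0, Int.ofNat 0, Int.ofNat 0, Int.ofNat 0, Int.ofNat 0, Int.ofNat 0, Int.ofNat 0, Int.ofNat 0, Int.negSucc 3, Int.ofNat 0, Int.ofNat 4],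
  [Int.ofNat 0, Int.negSucc 3, Int.ofNat 0, Int.ofNat 0, Int.ofNat 0, Int.ofNat 0, Int.ofNat 0, Int.ofNat 0, Int.ofNat 0, Int.ofNat 0, Int.ofNat 0, Int.ofNat 0, Int.ofNat 0, Int.ofNat 0, Int.ofNat 0, Int.ofNat 0, Int.ofNat 0, Int.ofNat 0, Int.ofNat 0, Int.ofNat 0, Int.ofNat 0, Int.ofNat 0, Int.ofNat 0, Int.ofNat 4],
  [Int.ofNat 0, Int.ofNat 4, Int.ofNat 0, Int.ofNat 0, Int.ofNat 0, Int.ofNat 0, Int.ofNat 0, Int.ofNat 0, Int.ofNat 0, Int.ofNat 0, Int.ofNat 0, Int.ofNat 0, Int.ofNat 0, Int.ofNat 0, Int.ofNat 0, Int.ofNat 0, Int.ofNat 0, Int.ofNat 0, Int.ofNat 0, Int.ofNat 0, Int.ofNat 0, Int.ofNat 0, Int.ofNat 0, Int.negSucc 3],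
  [Int.ofNat 4, Int.ofNat 0, Int.ofNat 0, Int.ofNat 0, Int.ofNat 0, Int.ofNat 0, Int.ofNat 0, Int.ofNat 0, Int.ofNat 0, Int.ofNat 0, Int.ofNat 0, Int.ofNat 0, Int.ofNat 0, Int.ofNat 0, Int.ofNat 0, Int.ofNat 0, Int.ofNat 0, Int.ofNat 0, Int.ofNat 0, Int.ofNat 0, Int.ofNat 0, Int.ofNat 0, Int.ofNat 0, Int.negSucc 3],
  [Int.negSucc 3, Int.ofNat 0, Int.ofNat 0, Int.ofNat 0, Int.ofNat 0, Int.ofNat 0, Int.ofNat 0, Int.ofNat 0, Int.ofNat 0, Int.ofNat 0, Int.ofNat 0, Int.ofNat 0, Int.ofNat 0, Int.ofNat 0, Int.ofNat 0, Int.ofNat 0, Int.ofNat 0, Int.ofNat 0, Int.ofNat 0, Int.ofNat 0, Int.ofNat 0, Int.ofNat 0, Int.ofNat 0, Int.negSucc 3],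
  [Int.ofNat 4, Int.ofNat 0, Int.ofNat 0, Int.ofNat 0, Int.ofNat 0, Int.ofNat 0, Int.ofNat 0, Int.ofNat 0, Int.ofNat 0, Int.ofNat 0, Int.ofNat 0, Int.ofNat 0, Int.ofNat 0, Int.ofNat 0, Int.ofNat 0, Int.ofNat 0, Int.ofNat 0, Int.ofNat 0, Int.ofNat 0, Int.ofNat 0, Int.ofNat 0, Int.ofNat 0, Int.ofNat 0, Int.negSucc 3],
  [Int.negSucc 3, Int.ofNat 0, Int.ofNat 0, Int.ofNat 0, Int.ofNat 0, Int.ofNat 0, Int.ofNat 0, Int.ofNat 0, Int.ofNat 0, Int.ofNat 0, Int.ofNat 0, Int.ofNat 0, Int.ofNat 0, Int.ofNat 0, Int.ofNat 0, Int.ofNat 0, Int.ofNat 0, Int.ofNat 0, Int.ofNat 0, Int.ofNat 0, Int.ofNat 0, Int.ofNat 0, Int.ofNat 0, Int.ofNat 4],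
  [Int.ofNat 4, Int.ofNat 0, Int.ofNat 0, Int.ofNat 0, Int.ofNat 0, Int.ofNat 0, Int.ofNat 0, Int.ofNat 0, Int.ofNat 0, Int.ofNat 0, Int.ofNat 0, Int.ofNat 0, Int.ofNat 0, Int.ofNat 0, Int.ofNat 0, Int.ofNat 0, Int.ofNat 0, Int.ofNat 0, Int.ofNat 0, Int.ofNat 0, Int.ofNat 0, Int.ofNat 0, Int.ofNat 0, Int.ofNat 4],
  [Int.ofNat 0, Int.ofNat 4, Int.ofNat 0, Int.ofNat 0, Int.ofNat 0, Int.ofNat 0, Int.ofNat 0, Int.ofNat 0, Int.ofNat 0, Int.ofNat 0, Int.ofNat 0, Int.ofNat 0, Int.ofNat 0, Int.ofNat 0, Int.ofNat 0, Int.ofNat 0, Int.ofNat 0, Int.ofNat 0, Int.ofNat 0, Int.ofNat 0, Int.ofNat 0, Int.ofNat 0, Int.ofNat 0, Int.ofNat 4],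
  [Int.ofNat 4, Int.ofNat 0, Int.ofNat 4, Int.ofNat 0, Int.ofNat 0, Int.ofNat 0, Int.ofNat 0, Int.ofNat 0, Int.ofNat 0, Int.ofNat 0, Int.ofNat 0, Int.ofNat 0, Int.ofNat 0, Int.ofNat 0, Int.ofNat 0, Int.ofNat 0, Int.ofNat 0, Int.ofNat 0, Int.ofNat 0, Int.ofNat 0, Int.ofNat 0, Int.ofNat 0, Int.ofNat 0, Int.ofNat 0],
  [Int.ofNat 0, Int.ofNat 0, Int.ofNat 0, Int.ofNat 0, Int.ofNat 0, Int.ofNat 0, Int.ofNat 0, Int.ofNat 0, Int.ofNat 0, Int.ofNat 0, Int.ofNat 0, Int.ofNat 0, Int.ofNat 0, Int.ofNat 0, Int.ofNat 0, Int.ofNat 0, Int.ofNat 0, Int.ofNat 0, Int.ofNat 0, Int.ofNat 0, Int.ofNat 4, Int.ofNat 0, Int.ofNat 4, Int.ofNat 0],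
  [Int.ofNat 0, Int.ofNat 0, Int.ofNat 0, Int.ofNat 0, Int.negSucc 1, Int.ofNat 0, Int.ofNat 0, Int.ofNat 0, Int.ofNat 0, Int.negSucc 1, Int.negSucc 1, Int.ofNat 0, Int.ofNat 0, Int.negSucc 1, Int.ofNat 0, Int.negSucc 1, Int.negSucc 1, Int.ofNat 0, Int.ofNat 0, Int.ofNat 0, Int.ofNat 2, Int.ofNat 0, Int.ofNat 2, Int.ofNat 0],
  [Int.ofNat 0, Int.ofNat 0, Int.negSucc 1, Int.ofNat 0, Int.ofNat 0, Int.ofNat 0, Int.ofNat 0, Int.negSucc 1, Int.ofNat 0, Int.negSucc 1, Int.ofNat 2, Int.ofNat 0, Int.negSucc 1, Int.negSucc 1, Int.ofNat 2, Int.negSucc 1, Int.ofNat 0, Int.ofNat 0, Int.ofNat 0, Int.ofNat 0, Int.ofNat 0, Int.ofNat 0, Int.ofNat 0, Int.ofNat 0],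
  [Int.negSucc 0, Int.negSucc 0, Int.ofNat 1, Int.negSucc 0, Int.ofNat 1, Int.negSucc 0, Int.ofNat 1, Int.negSucc 0, Int.ofNat 1, Int.negSucc 0, Int.ofNat 3, Int.ofNat 1, Int.negSucc 0, Int.negSucc 0, Int.ofNat 1, Int.negSucc 0, Int.ofNat 1, Int.negSucc 0, Int.ofNat 1, Int.ofNat 1, Int.ofNat 1, Int.ofNat 1, Int.ofNat 1, Int.negSucc 0],
  [Int.negSucc 0, Int.negSucc 0, Int.negSucc 0, Int.negSucc 0, Int.ofNat 1, Int.ofNat 1, Int.negSucc 0, Int.negSucc 0, Int.ofNat 1, Int.ofNat 1, Int.negSucc 2, Int.ofNat 1, Int.negSucc 0, Int.negSucc 0, Int.ofNat 1, Int.ofNat 1, Int.ofNat 1, Int.negSucc 0, Int.negSucc 0, Int.ofNat 1, Int.ofNat 1, Int.ofNat 1, Int.negSucc 0, Int.negSucc 0],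
  [Int.ofNat 1, Int.negSucc 0, Int.ofNat 1, Int.negSucc 0, Int.negSucc 0, Int.negSucc 0, Int.ofNat 1, Int.ofNat 1, Int.negSucc 0, Int.ofNat 1, Int.negSucc 0, Int.ofNat 1, Int.ofNat 1, Int.negSucc 0, Int.negSucc 0, Int.negSucc 0, Int.ofNat 1, Int.negSucc 0, Int.negSucc 0, Int.negSucc 2, Int.ofNat 1, Int.ofNat 1, Int.ofNat 1, Int.negSucc 0],
  [Int.ofNat 1, Int.negSucc 0, Int.negSucc 0, Int.negSucc 0, Int.negSucc 0, Int.ofNat 1, Int.negSucc 0, Int.ofNat 1, Int.negSucc 0, Int.negSucc 0, Int.ofNat 1, Int.ofNat 1, Int.ofNat 1, Int.negSucc 0, Int.negSucc 0, Int.ofNat 1, Int.ofNat 1, Int.negSucc 0, Int.ofNat 1, Int.negSucc 2, Int.ofNat 1, Int.ofNat 1, Int.negSucc 0, Int.negSucc 0],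
  [Int.negSucc 1, Int.ofNat 0, Int.ofNat 0, Int.ofNat 0, Int.ofNat 0, Int.ofNat 2, Int.ofNat 0, Int.ofNat 2, Int.negSucc 1, Int.negSucc 1, Int.ofNat 0, Int.ofNat 0, Int.ofNat 0, Int.ofNat 0, Int.ofNat 0, Int.ofNat 0, Int.ofNat 2, Int.ofNat 0, Int.ofNat 0, Int.negSucc 1, Int.ofNat 0, Int.ofNat 2, Int.ofNat 0, Int.ofNat 0],
  [Int.negSucc 1, Int.ofNat 0, Int.ofNat 0, Int.ofNat 0, Int.ofNat 0, Int.ofNat 2, Int.ofNat 0, Int.ofNat 2, Int.ofNat 2, Int.ofNat 0, Int.ofNat 2, Int.negSucc 1, Int.negSucc 1, Int.negSucc 1, Int.ofNat 0, Int.ofNat 0, Int.ofNat 0, Int.ofNat 0, Int.ofNat 0, Int.ofNat 0, Int.ofNat 0, Int.ofNat 0, Int.ofNat 0, Int.ofNat 0],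
  [Int.ofNat 1, Int.negSucc 0, Int.negSucc 0, Int.negSucc 0, Int.ofNat 1, Int.ofNat 1, Int.negSucc 0, Int.ofNat 1, Int.ofNat 3, Int.negSucc 0, Int.ofNat 1, Int.negSucc 0, Int.negSucc 0, Int.negSucc 0, Int.negSucc 0, Int.negSucc 0, Int.ofNat 1, Int.negSucc 0, Int.ofNat 1, Int.negSucc 0, Int.negSucc 0, Int.negSucc 0, Int.ofNat 1, Int.negSucc 0],
  [Int.negSucc 0, Int.negSucc 0, Int.ofNat 1, Int.ofNat 1, Int.negSucc 0, Int.negSucc 0, Int.negSucc 0, Int.ofNat 1, Int.ofNat 1, Int.negSucc 0, Int.ofNat 1, Int.ofNat 3, Int.negSucc 0, Int.ofNat 1, Int.negSucc 0, Int.negSucc 0, Int.negSucc 0, Int.negSucc 0, Int.negSucc 0, Int.ofNat 1, Int.negSucc 0, Int.ofNat 1, Int.negSucc 0, Int.negSucc 0],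
  [Int.ofNat 0, Int.ofNat 0, Int.negSucc 1, Int.ofNat 2, Int.ofNat 0, Int.ofNat 0, Int.negSucc 1, Int.ofNat 0, Int.ofNat 0, Int.ofNat 0, Int.ofNat 2, Int.ofNat 2, Int.negSucc 1, Int.ofNat 2, Int.ofNat 0, Int.ofNat 0, Int.ofNat 0, Int.ofNat 0, Int.negSucc 1, Int.ofNat 0, Int.ofNat 0, Int.ofNat 0, Int.ofNat 0, Int.ofNat 0],
  [Int.ofNat 0, Int.negSucc 1, Int.ofNat 2, Int.ofNat 0, Int.ofNat 0, Int.negSucc 1, Int.ofNat 0, Int.ofNat 0, Int.ofNat 0, Int.ofNat 2, Int.ofNat 2, Int.negSucc 1, Int.ofNat 2, Int.ofNat 0, Int.ofNat 0, Int.ofNat 0, Int.ofNat 0, Int.negSucc 1, Int.ofNat 0, Int.ofNat 0, Int.ofNat 0, Int.ofNat 0, Int.ofNat 0, Int.ofNat 0],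
  [Int.ofNat 0, Int.negSucc 1, Int.negSucc 1, Int.ofNat 0, Int.ofNat 0, Int.negSucc 1, Int.ofNat 0, Int.ofNat 0, Int.ofNat 0, Int.negSucc 1, Int.negSucc 1, Int.ofNat 2, Int.ofNat 2, Int.ofNat 0, Int.ofNat 0, Int.ofNat 0, Int.ofNat 0, Int.negSucc 1, Int.ofNat 0, Int.ofNat 0, Int.ofNat 0, Int.ofNat 0, Int.ofNat 0, Int.ofNat 0]]

set_option maxRecDepth 100000 in
theorem c1e9_chk : pmChk (List.replicate 14 [9, 0, 25]).flatten nxL c1e9M 0 0 = true := by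
  decide +kernel

theorem c1e9_ne : wE letE2 (List.replicate 14 [9, 0, 25]).flatten ≠ 1 ∧ wE letE2 (List.replicate 14 [9, 0, 25]).flatten ≠ negElt :=
  ne_pm_of_chk nxL_mem c1e9_chk

set_option maxRecDepth 100000 in
def c1e10M : List (List ℤ) :=
  [[Int.ofNat 4, Int.ofNat 0, Int.ofNat 0, Int.ofNat 0, Int.ofNat 0, Int.ofNat 0, Int.ofNat 0, Int.ofNat 0, Int.ofNat 0, Int.ofNat 0, Int.ofNat 0, Int.ofNat 0, Int.ofNat 0, Int.ofNat 0, Int.ofNat 0, Int.ofNat 0, Int.ofNat 0, Int.ofNat 0, Int.ofNat 0, Int.ofNat 0, Int.ofNat 0, Int.ofNat 0, Int.ofNat 0, Int.ofNat 4],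
  [Int.ofNat 4, Int.ofNat 0, Int.ofNat 0, Int.ofNat 0, Int.ofNat 0, Int.ofNat 0, Int.ofNat 0, Int.ofNat 0, Int.ofNat 0, Int.ofNat 0, Int.ofNat 0, Int.ofNat 0, Int.ofNat 0, Int.ofNat 0, Int.ofNat 0, Int.ofNat 0, Int.ofNat 0, Int.ofNat 0, Int.ofNat 0, Int.ofNat 0, Int.ofNat 0, Int.ofNat 0, Int.ofNat 0, Int.ofNat 4],
  [Int.negSucc 3, Int.ofNat 0, Int.ofNat 0, Int.ofNat 0, Int.ofNat 0, Int.ofNat 0, Int.ofNat 0, Int.ofNat 0, Int.ofNat 0, Int.ofNat 0, Int.ofNat 0, Int.ofNat 0, Int.ofNat 0, Int.ofNat 0, Int.ofNat 0, Int.ofNat 0, Int.ofNat 0, Int.ofNat 0, Int.ofNat 0, Int.ofNat 0, Int.ofNat 0, Int.ofNat 0, Int.ofNat 0, Int.ofNat 4],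
  [Int.ofNat 0, Int.negSucc 3, Int.ofNat 0, Int.ofNat 0, Int.ofNat 0, Int.ofNat 0, Int.ofNat 0, Int.ofNat 0, Int.ofNat 0, Int.ofNat 0, Int.ofNat 0, Int.ofNat 0, Int.ofNat 0, Int.ofNat 0, Int.ofNat 0, Int.ofNat 0, Int.ofNat 0, Int.ofNat 0, Int.ofNat 0, Int.ofNat 0, Int.ofNat 0, Int.ofNat 0, Int.ofNat 0, Int.ofNat 4],
  [Int.ofNat 0, Int.ofNat 4, Int.ofNat 0, Int.ofNat 0, Int.ofNat 0, Int.ofNat 0, Int.ofNat 0, Int.ofNat 0, Int.ofNat 0, Int.ofNat 0, Int.ofNat 0, Int.ofNat 0, Int.ofNat 0, Int.ofNat 0, Int.ofNat 0, Int.ofNat 0, Int.ofNat 0, Int.ofNat 0, Int.ofNat 0, Int.ofNat 0, Int.ofNat 0, Int.ofNat 0, Int.ofNat 0, Int.negSucc 3],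
  [Int.ofNat 0, Int.ofNat 0, Int.ofNat 0, Int.ofNat 0, Int.ofNat 0, Int.ofNat 0, Int.ofNat 0, Int.ofNat 0, Int.ofNat 0, Int.ofNat 0, Int.ofNat 0, Int.ofNat 0, Int.ofNat 0, Int.ofNat 0, Int.ofNat 0, Int.ofNat 0, Int.ofNat 0, Int.ofNat 0, Int.ofNat 0, Int.ofNat 0, Int.ofNat 0, Int.ofNat 4, Int.ofNat 0, Int.negSucc 3],
  [Int.negSucc 1, Int.negSucc 1, Int.negSucc 1, Int.ofNat 0, Int.ofNat 0, Int.ofNat 0, Int.negSucc 1, Int.negSucc 1, Int.ofNat 0, Int.ofNat 0, Int.ofNat 0, Int.ofNat 0, Int.ofNat 0, Int.ofNat 0, Int.ofNat 0, Int.ofNat 0, Int.ofNat 0, Int.ofNat 0, Int.ofNat 0, Int.negSucc 1, Int.ofNat 0, Int.ofNat 2, Int.ofNat 0, Int.ofNat 2],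
  [Int.negSucc 1, Int.negSucc 1, Int.ofNat 0, Int.ofNat 0, Int.ofNat 0, Int.negSucc 1, Int.negSucc 1, Int.ofNat 0, Int.ofNat 0, Int.ofNat 0, Int.ofNat 0, Int.ofNat 0, Int.ofNat 0, Int.ofNat 0, Int.ofNat 0, Int.ofNat 0, Int.ofNat 0, Int.ofNat 0, Int.negSucc 1, Int.ofNat 0, Int.ofNat 2, Int.ofNat 0, Int.negSucc 1, Int.ofNat 2],
  [Int.ofNat 1, Int.ofNat 1, Int.negSucc 0, Int.ofNat 1, Int.ofNat 1, Int.negSucc 0, Int.negSucc 0, Int.ofNat 1, Int.ofNat 1, Int.negSucc 0, Int.negSucc 0, Int.ofNat 1, Int.ofNat 1, Int.ofNat 1, Int.ofNat 1, Int.negSucc 0, Int.ofNat 1, Int.ofNat 1, Int.negSucc 0, Int.ofNat 1, Int.ofNat 1, Int.ofNat 1, Int.negSucc 0, Int.negSucc 2],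
  [Int.ofNat 1, Int.ofNat 1, Int.ofNat 1, Int.ofNat 1, Int.ofNat 1, Int.ofNat 1, Int.ofNat 1, Int.ofNat 1, Int.ofNat 1, Int.ofNat 1, Int.ofNat 1, Int.ofNat 1, Int.ofNat 1, Int.ofNat 1, Int.ofNat 1, Int.ofNat 1, Int.ofNat 1, Int.ofNat 1, Int.ofNat 1, Int.ofNat 1, Int.ofNat 1, Int.ofNat 1, Int.ofNat 1, Int.negSucc 2],
  [Int.ofNat 1, Int.ofNat 1, Int.ofNat 1, Int.ofNat 1, Int.ofNat 1, Int.ofNat 1, Int.ofNat 1, Int.ofNat 1, Int.ofNat 1, Int.ofNat 1, Int.ofNat 1, Int.ofNat 1, Int.ofNat 1, Int.ofNat 1, Int.ofNat 1, Int.ofNat 1, Int.ofNat 1, Int.ofNat 1, Int.ofNat 1, Int.ofNat 1, Int.ofNat 1, Int.ofNat 1, Int.ofNat 1, Int.negSucc 2],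
  [Int.ofNat 1, Int.ofNat 1, Int.negSucc 0, Int.ofNat 1, Int.ofNat 1, Int.negSucc 0, Int.negSucc 0, Int.ofNat 1, Int.ofNat 1, Int.negSucc 0, Int.negSucc 0, Int.ofNat 1, Int.ofNat 1, Int.ofNat 1, Int.ofNat 1, Int.negSucc 0, Int.ofNat 1, Int.ofNat 1, Int.negSucc 0, Int.ofNat 1, Int.ofNat 1, Int.ofNat 1, Int.negSucc 0, Int.negSucc 2],
  [Int.negSucc 1, Int.negSucc 1, Int.ofNat 0, Int.ofNat 0, Int.ofNat 0, Int.negSucc 1, Int.negSucc 1, Int.ofNat 0, Int.ofNat 0, Int.ofNat 0, Int.ofNat 0, Int.ofNat 0, Int.ofNat 0, Int.ofNat 0, Int.ofNat 0, Int.ofNat 0, Int.ofNat 0, Int.ofNat 0, Int.negSucc 1, Int.ofNat 0, Int.ofNat 2, Int.ofNat 0, Int.negSucc 1, Int.ofNat 2],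
  [Int.negSucc 1, Int.negSucc 1, Int.negSucc 1, Int.ofNat 0, Int.ofNat 0, Int.ofNat 0, Int.negSucc 1, Int.negSucc 1, Int.ofNat 0, Int.ofNat 0, Int.ofNat 0, Int.ofNat 0, Int.ofNat 0, Int.ofNat 0, Int.ofNat 0, Int.ofNat 0, Int.ofNat 0, Int.ofNat 0, Int.ofNat 0, Int.negSucc 1, Int.ofNat 0, Int.ofNat 2, Int.ofNat 0, Int.ofNat 2],
  [Int.ofNat 0, Int.ofNat 0, Int.ofNat 0, Int.ofNat 0, Int.ofNat 0, Int.ofNat 0, Int.ofNat 0, Int.ofNat 0, Int.ofNat 0, Int.ofNat 0, Int.ofNat 0, Int.ofNat 0, Int.ofNat 0, Int.ofNat 0, Int.ofNat 0, Int.ofNat 0, Int.ofNat 0, Int.ofNat 0, Int.ofNat 0, Int.ofNat 0, Int.ofNat 0, Int.ofNat 4, Int.ofNat 0, Int.negSucc 3],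
  [Int.ofNat 0, Int.ofNat 4, Int.ofNat 0, Int.ofNat 0, Int.ofNat 0, Int.ofNat 0, Int.ofNat 0, Int.ofNat 0, Int.ofNat 0, Int.ofNat 0, Int.ofNat 0, Int.ofNat 0, Int.ofNat 0, Int.ofNat 0, Int.ofNat 0, Int.ofNat 0, Int.ofNat 0, Int.ofNat 0, Int.ofNat 0, Int.ofNat 0, Int.ofNat 0, Int.ofNat 0, Int.ofNat 0, Int.negSucc 3],
  [Int.ofNat 0, Int.negSucc 3, Int.ofNat 0, Int.ofNat 0, Int.ofNat 0, Int.ofNat 0, Int.ofNat 0, Int.ofNat 0, Int.ofNat 0, Int.ofNat 0, Int.ofNat 0, Int.ofNat 0, Int.ofNat 0, Int.ofNat 0, Int.ofNat 0, Int.ofNat 0, Int.ofNat 0, Int.ofNat 0, Int.ofNat 0, Int.ofNat 0, Int.ofNat 0, Int.ofNat 0, Int.ofNat 0, Int.ofNat 4],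
  [Int.negSucc 3, Int.ofNat 0, Int.ofNat 0, Int.ofNat 0, Int.ofNat 0, Int.ofNat 0, Int.ofNat 0, Int.ofNat 0, Int.ofNat 0, Int.ofNat 0, Int.ofNat 0, Int.ofNat 0, Int.ofNat 0, Int.ofNat 0, Int.ofNat 0, Int.ofNat 0, Int.ofNat 0, Int.ofNat 0, Int.ofNat 0, Int.ofNat 0, Int.ofNat 0, Int.ofNat 0, Int.ofNat 0, Int.ofNat 4],
  [Int.ofNat 4, Int.ofNat 0, Int.ofNat 0, Int.ofNat 0, Int.ofNat 0, Int.ofNat 0, Int.ofNat 0, Int.ofNat 0, Int.ofNat 0, Int.ofNat 0, Int.ofNat 0, Int.ofNat 0, Int.ofNat 0, Int.ofNat 0, Int.ofNat 0, Int.ofNat 0, Int.ofNat 0, Int.ofNat 0, Int.ofNat 0, Int.ofNat 0, Int.ofNat 0, Int.ofNat 0, Int.ofNat 0, Int.ofNat 4],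
  [Int.negSucc 3, Int.ofNat 0, Int.ofNat 0, Int.ofNat 0, Int.ofNat 0, Int.ofNat 0, Int.ofNat 0, Int.ofNat 0, Int.ofNat 0, Int.ofNat 0, Int.ofNat 0, Int.ofNat 0, Int.ofNat 0, Int.ofNat 0, Int.ofNat 0, Int.ofNat 0, Int.ofNat 0, Int.ofNat 0, Int.ofNat 0, Int.ofNat 0, Int.ofNat 0, Int.ofNat 0, Int.ofNat 0, Int.ofNat 4],
  [Int.ofNat 4, Int.ofNat 0, Int.ofNat 0, Int.ofNat 0, Int.ofNat 0, Int.ofNat 0, Int.ofNat 0, Int.ofNat 0, Int.ofNat 0, Int.ofNat 0, Int.ofNat 0, Int.ofNat 0, Int.ofNat 0, Int.ofNat 0, Int.ofNat 0, Int.ofNat 0, Int.ofNat 0, Int.ofNat 0, Int.ofNat 0, Int.ofNat 0, Int.ofNat 0, Int.ofNat 0, Int.ofNat 0, Int.negSucc 3],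
  [Int.negSucc 3, Int.ofNat 0, Int.ofNat 0, Int.ofNat 0, Int.ofNat 0, Int.ofNat 0, Int.ofNat 0, Int.ofNat 0, Int.ofNat 0, Int.ofNat 0, Int.ofNat 0, Int.ofNat 0, Int.ofNat 0, Int.ofNat 0, Int.ofNat 0, Int.ofNat 0, Int.ofNat 0, Int.ofNat 0, Int.ofNat 0, Int.ofNat 0, Int.ofNat 0, Int.ofNat 0, Int.ofNat 0, Int.negSucc 3],
  [Int.ofNat 0, Int.negSucc 3, Int.ofNat 0, Int.ofNat 0, Int.ofNat 0, Int.ofNat 0, Int.ofNat 0, Int.ofNat 0, Int.ofNat 0, Int.ofNat 0, Int.ofNat 0, Int.ofNat 0, Int.ofNat 0, Int.ofNat 0, Int.ofNat 0, Int.ofNat 0, Int.ofNat 0, Int.ofNat 0, Int.ofNat 0, Int.ofNat 0, Int.ofNat 0, Int.ofNat 0, Int.ofNat 0, Int.negSucc 3],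
  [Int.negSucc 3, Int.ofNat 0, Int.negSucc 3, Int.ofNat 0, Int.ofNat 0, Int.ofNat 0, Int.ofNat 0, Int.ofNat 0, Int.ofNat 0, Int.ofNat 0, Int.ofNat 0, Int.ofNat 0, Int.ofNat 0, Int.ofNat 0, Int.ofNat 0, Int.ofNat 0, Int.ofNat 0, Int.ofNat 0, Int.ofNat 0, Int.ofNat 0, Int.ofNat 0, Int.ofNat 0, Int.ofNat 0, Int.ofNat 0],
  [Int.ofNat 0, Int.ofNat 0, Int.ofNat 0, Int.ofNat 0, Int.ofNat 0, Int.ofNat 0, Int.ofNat 0, Int.ofNat 0, Int.ofNat 0, Int.ofNat 0, Int.ofNat 0, Int.ofNat 0, Int.ofNat 0, Int.ofNat 0, Int.ofNat 0, Int.ofNat 0, Int.ofNat 0, Int.ofNat 0, Int.ofNat 0, Int.ofNat 0, Int.negSucc 3, Int.ofNat 0, Int.negSucc 3, Int.ofNat 0],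
  [Int.ofNat 0, Int.ofNat 0, Int.ofNat 0, Int.ofNat 0, Int.ofNat 2, Int.ofNat 0, Int.ofNat 0, Int.ofNat 0, Int.ofNat 0, Int.ofNat 2, Int.ofNat 2, Int.ofNat 0, Int.ofNat 0, Int.ofNat 2, Int.ofNat 0, Int.ofNat 2, Int.ofNat 2, Int.ofNat 0, Int.ofNat 0, Int.ofNat 0, Int.negSucc 1, Int.ofNat 0, Int.negSucc 1, Int.ofNat 0],
  [Int.ofNat 0, Int.ofNat 0, Int.ofNat 2, Int.ofNat 0, Int.ofNat 0, Int.ofNat 0, Int.ofNat 0, Int.ofNat 2, Int.ofNat 0, Int.ofNat 2, Int.negSucc 1, Int.ofNat 0, Int.ofNat 2, Int.ofNat 2, Int.negSucc 1, Int.ofNat 2, Int.ofNat 0, Int.ofNat 0, Int.ofNat 0, Int.ofNat 0, Int.ofNat 0, Int.ofNat 0, Int.ofNat 0, Int.ofNat 0],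
  [Int.ofNat 1, Int.ofNat 1, Int.negSucc 0, Int.ofNat 1, Int.negSucc 0, Int.ofNat 1, Int.negSucc 0, Int.ofNat 1, Int.negSucc 0, Int.ofNat 1, Int.negSucc 2, Int.negSucc 0, Int.ofNat 1, Int.ofNat 1, Int.negSucc 0, Int.ofNat 1, Int.negSucc 0, Int.ofNat 1, Int.negSucc 0, Int.negSucc 0, Int.negSucc 0, Int.negSucc 0, Int.negSucc 0, Int.ofNat 1],
  [Int.ofNat 1, Int.ofNat 1, Int.ofNat 1, Int.ofNat 1, Int.negSucc 0, Int.negSucc 0, Int.ofNat 1, Int.ofNat 1, Int.negSucc 0, Int.negSucc 0, Int.ofNat 3, Int.negSucc 0, Int.ofNat 1, Int.ofNat 1, Int.negSucc 0, Int.negSucc 0, Int.negSucc 0, Int.ofNat 1, Int.ofNat 1, Int.negSucc 0, Int.negSucc 0, Int.negSucc 0, Int.ofNat 1, Int.ofNat 1],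
  [Int.ofNat 1, Int.negSucc 0, Int.ofNat 1, Int.negSucc 0, Int.negSucc 0, Int.negSucc 0, Int.ofNat 3, Int.negSucc 0, Int.ofNat 1, Int.negSucc 0, Int.negSucc 0, Int.ofNat 1, Int.negSucc 0, Int.ofNat 1, Int.ofNat 1, Int.ofNat 1, Int.ofNat 1, Int.negSucc 0, Int.ofNat 1, Int.ofNat 1, Int.negSucc 0, Int.negSucc 0, Int.ofNat 1, Int.ofNat 1],
  [Int.ofNat 1, Int.negSucc 0, Int.negSucc 0, Int.negSucc 0, Int.negSucc 0, Int.ofNat 1, Int.negSucc 2, Int.negSucc 0, Int.ofNat 1, Int.ofNat 1, Int.ofNat 1, Int.ofNat 1, Int.negSucc 0, Int.ofNat 1, Int.ofNat 1, Int.negSucc 0, Int.ofNat 1, Int.negSucc 0, Int.negSucc 0, Int.ofNat 1, Int.negSucc 0, Int.negSucc 0, Int.negSucc 0, Int.ofNat 1],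
  [Int.negSucc 0, Int.ofNat 1, Int.ofNat 1, Int.negSucc 0, Int.negSucc 0, Int.ofNat 1, Int.negSucc 0, Int.ofNat 1, Int.ofNat 1, Int.ofNat 1, Int.ofNat 1, Int.ofNat 1, Int.negSucc 0, Int.ofNat 1, Int.ofNat 1, Int.negSucc 0, Int.ofNat 1, Int.negSucc 0, Int.negSucc 0, Int.ofNat 3, Int.negSucc 0, Int.ofNat 1, Int.negSucc 0, Int.negSucc 0],
  [Int.negSucc 0, Int.negSucc 0, Int.negSucc 0, Int.negSucc 0, Int.ofNat 1, Int.ofNat 1, Int.ofNat 1, Int.ofNat 1, Int.ofNat 1, Int.negSucc 0, Int.ofNat 1, Int.ofNat 3, Int.ofNat 1, Int.ofNat 1, Int.negSucc 0, Int.negSucc 0, Int.ofNat 1, Int.ofNat 1, Int.negSucc 0, Int.negSucc 0, Int.ofNat 1, Int.negSucc 0, Int.ofNat 1, Int.negSucc 0],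
  [Int.negSucc 0, Int.negSucc 0, Int.negSucc 0, Int.negSucc 0, Int.negSucc 0, Int.ofNat 1, Int.ofNat 1, Int.ofNat 1, Int.negSucc 0, Int.negSucc 0, Int.ofNat 1, Int.ofNat 1, Int.negSucc 0, Int.negSucc 0, Int.negSucc 0, Int.negSucc 0, Int.negSucc 0, Int.ofNat 1, Int.negSucc 2, Int.negSucc 0, Int.ofNat 1, Int.negSucc 0, Int.negSucc 0, Int.negSucc 0],
  [Int.ofNat 1, Int.negSucc 0, Int.negSucc 0, Int.negSucc 0, Int.negSucc 0, Int.negSucc 0, Int.negSucc 0, Int.negSucc 0, Int.ofNat 1, Int.ofNat 1, Int.ofNat 1, Int.negSucc 0, Int.negSucc 0, Int.ofNat 1, Int.ofNat 1, Int.negSucc 0, Int.negSucc 0, Int.negSucc 0, Int.negSucc 0, Int.negSucc 0, Int.ofNat 1, Int.negSucc 2, Int.negSucc 0, Int.negSucc 0],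
  [Int.negSucc 1, Int.ofNat 0, Int.ofNat 0, Int.ofNat 0, Int.ofNat 0, Int.ofNat 0, Int.ofNat 2, Int.ofNat 2, Int.ofNat 2, Int.ofNat 0, Int.ofNat 0, Int.ofNat 0, Int.ofNat 0, Int.ofNat 2, Int.ofNat 2, Int.negSucc 1, Int.ofNat 0, Int.ofNat 0, Int.ofNat 0, Int.ofNat 2, Int.ofNat 0, Int.ofNat 0, Int.ofNat 0, Int.ofNat 0],
  [Int.ofNat 0, Int.ofNat 0, Int.ofNat 0, Int.ofNat 0, Int.ofNat 0, Int.ofNat 2, Int.ofNat 2, Int.ofNat 2, Int.ofNat 0, Int.ofNat 0, Int.ofNat 0, Int.ofNat 0, Int.ofNat 2, Int.ofNat 2, Int.negSucc 1, Int.ofNat 0, Int.ofNat 0, Int.ofNat 0, Int.ofNat 2, Int.ofNat 0, Int.ofNat 0, Int.ofNat 0, Int.negSucc 1, Int.ofNat 0],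
  [Int.ofNat 0, Int.ofNat 0, Int.ofNat 0, Int.ofNat 0, Int.ofNat 0, Int.ofNat 2, Int.ofNat 2, Int.negSucc 1, Int.ofNat 0, Int.ofNat 0, Int.ofNat 0, Int.ofNat 0, Int.ofNat 2, Int.ofNat 2, Int.negSucc 1, Int.ofNat 0, Int.ofNat 0, Int.ofNat 0, Int.negSucc 1, Int.ofNat 0, Int.ofNat 0, Int.ofNat 0, Int.negSucc 1, Int.ofNat 0],
  [Int.ofNat 0, Int.ofNat 0, Int.ofNat 0, Int.ofNat 0, Int.ofNat 0, Int.ofNat 2, Int.negSucc 1, Int.negSucc 1, Int.ofNat 0, Int.ofNat 0, Int.ofNat 0, Int.ofNat 0, Int.negSucc 1, Int.negSucc 1, Int.negSucc 1, Int.ofNat 0, Int.ofNat 0, Int.ofNat 0, Int.ofNat 2, Int.ofNat 0, Int.ofNat 0, Int.ofNat 0, Int.negSucc 1, Int.ofNat 0],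
  [Int.ofNat 0, Int.negSucc 1, Int.ofNat 0, Int.ofNat 0, Int.ofNat 0, Int.ofNat 0, Int.ofNat 0, Int.negSucc 1, Int.ofNat 0, Int.ofNat 2, Int.ofNat 0, Int.ofNat 0, Int.ofNat 0, Int.negSucc 1, Int.ofNat 2, Int.ofNat 0, Int.ofNat 0, Int.ofNat 0, Int.negSucc 1, Int.negSucc 1, Int.ofNat 0, Int.negSucc 1, Int.ofNat 0, Int.ofNat 0],
  [Int.ofNat 0, Int.negSucc 1, Int.ofNat 0, Int.ofNat 0, Int.ofNat 0, Int.ofNat 0, Int.ofNat 0, Int.ofNat 2, Int.ofNat 0, Int.negSucc 1, Int.ofNat 0, Int.ofNat 0, Int.ofNat 0, Int.negSucc 1, Int.ofNat 2, Int.ofNat 0, Int.ofNat 0, Int.ofNat 0, Int.ofNat 2, Int.negSucc 1, Int.ofNat 0, Int.ofNat 2, Int.ofNat 0, Int.ofNat 0],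
  [Int.ofNat 0, Int.ofNat 0, Int.negSucc 1, Int.ofNat 0, Int.ofNat 0, Int.ofNat 0, Int.ofNat 0, Int.ofNat 0, Int.ofNat 2, Int.ofNat 0, Int.negSucc 1, Int.ofNat 0, Int.ofNat 0, Int.ofNat 0, Int.negSucc 1, Int.ofNat 2, Int.ofNat 0, Int.ofNat 0, Int.ofNat 0, Int.ofNat 2, Int.negSucc 1, Int.ofNat 0, Int.ofNat 2, Int.ofNat 0],
  [Int.negSucc 0, Int.negSucc 0, Int.ofNat 1, Int.ofNat 1, Int.negSucc 0, Int.ofNat 1, Int.negSucc 0, Int.negSucc 0, Int.ofNat 1, Int.ofNat 1, Int.negSucc 0, Int.negSucc 0, Int.negSucc 0, Int.negSucc 0, Int.negSucc 0, Int.ofNat 3, Int.negSucc 0, Int.ofNat 1, Int.negSucc 0, Int.ofNat 1, Int.negSucc 0, Int.negSucc 0, Int.ofNat 1, Int.negSucc 0],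
  [Int.ofNat 1, Int.negSucc 0, Int.ofNat 1, Int.negSucc 0, Int.negSucc 0, Int.ofNat 1, Int.ofNat 1, Int.negSucc 0, Int.negSucc 0, Int.negSucc 0, Int.negSucc 0, Int.negSucc 0, Int.ofNat 3, Int.negSucc 0, Int.ofNat 1, Int.negSucc 0, Int.ofNat 1, Int.negSucc 0, Int.negSucc 0, Int.ofNat 1, Int.negSucc 0, Int.negSucc 0, Int.ofNat 1, Int.negSucc 0],
  [Int.negSucc 0, Int.ofNat 1, Int.negSucc 0, Int.negSucc 0, Int.negSucc 0, Int.ofNat 1, Int.ofNat 1, Int.negSucc 0, Int.negSucc 0, Int.ofNat 1, Int.ofNat 1, Int.negSucc 0, Int.ofNat 3, Int.negSucc 0, Int.ofNat 1, Int.ofNat 1, Int.ofNat 1, Int.negSucc 0, Int.negSucc 0, Int.ofNat 1, Int.ofNat 1, Int.negSucc 0, Int.ofNat 1, Int.ofNat 1],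
  [Int.negSucc 0, Int.ofNat 1, Int.negSucc 0, Int.negSucc 0, Int.negSucc 0, Int.negSucc 0, Int.negSucc 0, Int.ofNat 1, Int.ofNat 3, Int.negSucc 0, Int.ofNat 1, Int.negSucc 0, Int.ofNat 1, Int.ofNat 1, Int.ofNat 1, Int.ofNat 1, Int.negSucc 0, Int.ofNat 1, Int.ofNat 1, Int.negSucc 0, Int.negSucc 0, Int.ofNat 1, Int.ofNat 1, Int.ofNat 1],
  [Int.ofNat 1, Int.negSucc 0, Int.ofNat 1, Int.negSucc 0, Int.negSucc 0, Int.negSucc 0, Int.negSucc 0, Int.ofNat 1, Int.ofNat 1, Int.negSucc 0, Int.ofNat 1, Int.negSucc 2, Int.negSucc 0, Int.ofNat 1, Int.ofNat 1, Int.ofNat 1, Int.negSucc 0, Int.ofNat 1, Int.negSucc 0, Int.negSucc 0, Int.negSucc 0, Int.ofNat 1, Int.ofNat 1, Int.negSucc 0],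
  [Int.ofNat 1, Int.negSucc 0, Int.negSucc 0, Int.negSucc 0, Int.negSucc 0, Int.ofNat 1, Int.ofNat 1, Int.ofNat 1, Int.ofNat 1, Int.ofNat 1, Int.negSucc 0, Int.negSucc 2, Int.negSucc 0, Int.ofNat 1, Int.ofNat 1, Int.negSucc 0, Int.negSucc 0, Int.ofNat 1, Int.ofNat 1, Int.negSucc 0, Int.negSucc 0, Int.ofNat 1, Int.negSucc 0, Int.negSucc 0],
  [Int.ofNat 1, Int.negSucc 0, Int.ofNat 1, Int.negSucc 2, Int.ofNat 1, Int.ofNat 1, Int.negSucc 0, Int.ofNat 1, Int.negSucc 0, Int.negSucc 0, Int.ofNat 1, Int.ofNat 1, Int.negSucc 0, Int.ofNat 1, Int.negSucc 0, Int.negSucc 0, Int.negSucc 0, Int.negSucc 0, Int.ofNat 1, Int.ofNat 1, Int.ofNat 1, Int.negSucc 0, Int.negSucc 0, Int.negSucc 0],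
  [Int.ofNat 1, Int.negSucc 0, Int.negSucc 0, Int.negSucc 2, Int.ofNat 1, Int.negSucc 0, Int.ofNat 1, Int.ofNat 1, Int.negSucc 0, Int.ofNat 1, Int.negSucc 0, Int.ofNat 1, Int.negSucc 0, Int.ofNat 1, Int.negSucc 0, Int.ofNat 1, Int.negSucc 0, Int.negSucc 0, Int.negSucc 0, Int.ofNat 1, Int.ofNat 1, Int.negSucc 0, Int.ofNat 1, Int.negSucc 0],
  [Int.negSucc 1, Int.ofNat 0, Int.ofNat 0, Int.ofNat 0, Int.ofNat 0, Int.ofNat 2, Int.ofNat 0, Int.ofNat 0, Int.ofNat 0, Int.ofNat 0, Int.negSucc 1, Int.ofNat 2, Int.ofNat 0, Int.ofNat 0, Int.ofNat 2, Int.ofNat 0, Int.negSucc 1, Int.ofNat 2, Int.ofNat 0, Int.ofNat 0, Int.ofNat 0, Int.negSucc 1, Int.ofNat 0, Int.ofNat 0],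
  [Int.negSucc 1, Int.ofNat 0, Int.ofNat 0, Int.ofNat 0, Int.ofNat 0, Int.negSucc 1, Int.ofNat 0, Int.ofNat 2, Int.negSucc 1, Int.ofNat 0, Int.ofNat 0, Int.ofNat 0, Int.ofNat 0, Int.ofNat 0, Int.ofNat 2, Int.ofNat 0, Int.ofNat 0, Int.ofNat 2, Int.ofNat 0, Int.ofNat 0, Int.negSucc 1, Int.ofNat 0, Int.ofNat 2, Int.ofNat 0],
  [Int.ofNat 1, Int.negSucc 0, Int.negSucc 0, Int.negSucc 0, Int.negSucc 0, Int.negSucc 2, Int.negSucc 0, Int.ofNat 1, Int.negSucc 0, Int.ofNat 1, Int.ofNat 1, Int.ofNat 1, Int.ofNat 1, Int.negSucc 0, Int.ofNat 1, Int.ofNat 1, Int.negSucc 0, Int.ofNat 1, Int.ofNat 1, Int.negSucc 0, Int.negSucc 0, Int.negSucc 0, Int.ofNat 1, Int.negSucc 0],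
  [Int.negSucc 0, Int.negSucc 0, Int.ofNat 1, Int.ofNat 1, Int.negSucc 0, Int.negSucc 0, Int.negSucc 0, Int.negSucc 0, Int.negSucc 2, Int.negSucc 0, Int.ofNat 1, Int.negSucc 0, Int.ofNat 1, Int.ofNat 1, Int.ofNat 1, Int.ofNat 1, Int.negSucc 0, Int.ofNat 1, Int.ofNat 1, Int.negSucc 0, Int.ofNat 1, Int.ofNat 1, Int.negSucc 0, Int.negSucc 0],
  [Int.ofNat 0, Int.ofNat 0, Int.negSucc 1, Int.ofNat 0, Int.ofNat 0, Int.negSucc 1, Int.ofNat 0, Int.ofNat 0, Int.negSucc 1, Int.negSucc 1, Int.ofNat 0, Int.ofNat 0, Int.ofNat 2, Int.ofNat 2, Int.ofNat 0, Int.ofNat 0, Int.ofNat 0, Int.ofNat 0, Int.ofNat 2, Int.ofNat 0, Int.ofNat 0, Int.ofNat 2, Int.ofNat 0, Int.ofNat 0],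
  [Int.ofNat 0, Int.negSucc 1, Int.ofNat 0, Int.ofNat 0, Int.negSucc 1, Int.ofNat 0, Int.ofNat 0, Int.negSucc 1, Int.negSucc 1, Int.ofNat 0, Int.ofNat 0, Int.ofNat 2, Int.ofNat 2, Int.ofNat 0, Int.ofNat 0, Int.ofNat 0, Int.ofNat 0, Int.ofNat 2, Int.ofNat 0, Int.ofNat 0, Int.ofNat 2, Int.ofNat 0, Int.ofNat 0, Int.ofNat 0],
  [Int.ofNat 0, Int.negSucc 1, Int.ofNat 0, Int.ofNat 0, Int.negSucc 1, Int.ofNat 0, Int.ofNat 0, Int.ofNat 2, Int.negSucc 1, Int.ofNat 0, Int.ofNat 0, Int.negSucc 1, Int.ofNat 2, Int.ofNat 0, Int.ofNat 0, Int.ofNat 0, Int.ofNat 0, Int.ofNat 2, Int.ofNat 0, Int.ofNat 0, Int.ofNat 2, Int.ofNat 0, Int.ofNat 0, Int.ofNat 0],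
  [Int.ofNat 0, Int.ofNat 2, Int.ofNat 0, Int.ofNat 0, Int.ofNat 2, Int.ofNat 0, Int.ofNat 0, Int.ofNat 2, Int.ofNat 2, Int.ofNat 0, Int.ofNat 0, Int.negSucc 1, Int.negSucc 1, Int.ofNat 0, Int.ofNat 0, Int.ofNat 0, Int.ofNat 0, Int.ofNat 2, Int.ofNat 0, Int.ofNat 0, Int.ofNat 2, Int.ofNat 0, Int.ofNat 0, Int.ofNat 0],
  [Int.ofNat 0, Int.ofNat 0, Int.negSucc 1, Int.ofNat 0, Int.ofNat 2, Int.ofNat 0, Int.ofNat 0, Int.ofNat 0, Int.ofNat 2, Int.ofNat 0, Int.ofNat 0, Int.ofNat 0, Int.ofNat 0, Int.ofNat 2, Int.ofNat 0, Int.ofNat 0, Int.ofNat 0, Int.ofNat 2, Int.ofNat 0, Int.ofNat 0, Int.ofNat 2, Int.negSucc 1, Int.ofNat 2, Int.ofNat 0],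
  [Int.ofNat 0, Int.ofNat 0, Int.ofNat 2, Int.ofNat 0, Int.ofNat 2, Int.ofNat 0, Int.ofNat 0, Int.ofNat 0, Int.ofNat 2, Int.ofNat 0, Int.ofNat 0, Int.ofNat 0, Int.ofNat 0, Int.ofNat 2, Int.ofNat 0, Int.ofNat 0, Int.ofNat 0, Int.ofNat 2, Int.ofNat 0, Int.ofNat 0, Int.ofNat 2, Int.ofNat 2, Int.ofNat 2, Int.ofNat 0],
  [Int.ofNat 2, Int.ofNat 0, Int.ofNat 0, Int.ofNat 2, Int.ofNat 0, Int.ofNat 2, Int.ofNat 0, Int.ofNat 0, Int.ofNat 0, Int.ofNat 2, Int.ofNat 0, Int.ofNat 0, Int.ofNat 0, Int.ofNat 0, Int.ofNat 2, Int.ofNat 0, Int.ofNat 0, Int.ofNat 0, Int.ofNat 2, Int.ofNat 0, Int.ofNat 0, Int.ofNat 2, Int.ofNat 2, Int.ofNat 0],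
  [Int.negSucc 0, Int.ofNat 1, Int.ofNat 1, Int.negSucc 0, Int.negSucc 0, Int.negSucc 0, Int.negSucc 0, Int.negSucc 0, Int.negSucc 0, Int.ofNat 1, Int.negSucc 0, Int.negSucc 0, Int.negSucc 0, Int.negSucc 0, Int.negSucc 0, Int.negSucc 0, Int.negSucc 0, Int.negSucc 2, Int.ofNat 1, Int.negSucc 0, Int.negSucc 0, Int.ofNat 1, Int.ofNat 1, Int.ofNat 1],
  [Int.negSucc 0, Int.negSucc 0, Int.negSucc 0, Int.negSucc 0, Int.negSucc 0, Int.negSucc 0, Int.ofNat 1, Int.negSucc 0, Int.negSucc 0, Int.negSucc 0, Int.negSucc 0, Int.negSucc 0, Int.negSucc 0, Int.negSucc 0, Int.negSucc 2, Int.ofNat 1, Int.negSucc 0, Int.negSucc 0, Int.ofNat 1, Int.ofNat 1, Int.negSucc 0, Int.ofNat 1, Int.ofNat 1, Int.ofNat 1],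
  [Int.ofNat 0, Int.ofNat 0, Int.ofNat 0, Int.ofNat 2, Int.ofNat 0, Int.ofNat 2, Int.ofNat 0, Int.negSucc 1, Int.ofNat 0, Int.ofNat 0, Int.ofNat 0, Int.ofNat 0, Int.ofNat 0, Int.ofNat 0, Int.ofNat 0, Int.ofNat 2, Int.ofNat 0, Int.ofNat 2, Int.ofNat 2, Int.ofNat 0, Int.ofNat 0, Int.ofNat 0, Int.ofNat 2, Int.negSucc 1],
  [Int.ofNat 0, Int.ofNat 0, Int.ofNat 0, Int.ofNat 2, Int.ofNat 2, Int.negSucc 1, Int.ofNat 0, Int.ofNat 0, Int.ofNat 0, Int.ofNat 0, Int.ofNat 0, Int.ofNat 2, Int.ofNat 0, Int.ofNat 0, Int.ofNat 2, Int.ofNat 2, Int.ofNat 0, Int.ofNat 0, Int.ofNat 0, Int.ofNat 0, Int.ofNat 0, Int.ofNat 2, Int.ofNat 0, Int.negSucc 1],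
  [Int.negSucc 0, Int.negSucc 0, Int.negSucc 0, Int.ofNat 1, Int.ofNat 1, Int.negSucc 2, Int.negSucc 0, Int.negSucc 0, Int.negSucc 0, Int.negSucc 0, Int.negSucc 0, Int.ofNat 1, Int.negSucc 0, Int.negSucc 0, Int.ofNat 1, Int.ofNat 1, Int.negSucc 0, Int.negSucc 0, Int.negSucc 0, Int.negSucc 0, Int.negSucc 0, Int.ofNat 1, Int.negSucc 0, Int.ofNat 1],
  [Int.negSucc 0, Int.negSucc 0, Int.ofNat 1, Int.ofNat 1, Int.ofNat 1, Int.ofNat 3, Int.ofNat 1, Int.negSucc 0, Int.negSucc 0, Int.ofNat 1, Int.ofNat 1, Int.ofNat 1, Int.negSucc 0, Int.negSucc 0, Int.ofNat 1, Int.negSucc 0, Int.negSucc 0, Int.negSucc 0, Int.ofNat 1, Int.negSucc 0, Int.negSucc 0, Int.ofNat 1, Int.ofNat 1, Int.ofNat 1],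
  [Int.ofNat 1, Int.negSucc 0, Int.negSucc 0, Int.ofNat 1, Int.ofNat 3, Int.negSucc 0, Int.ofNat 1, Int.ofNat 1, Int.negSucc 0, Int.ofNat 1, Int.ofNat 1, Int.negSucc 0, Int.negSucc 0, Int.ofNat 1, Int.ofNat 1, Int.ofNat 1, Int.ofNat 1, Int.negSucc 0, Int.negSucc 0, Int.negSucc 0, Int.ofNat 1, Int.negSucc 0, Int.negSucc 0, Int.ofNat 1],
  [Int.ofNat 1, Int.negSucc 0, Int.ofNat 1, Int.ofNat 1, Int.ofNat 3, Int.ofNat 1, Int.negSucc 0, Int.ofNat 1, Int.negSucc 0, Int.negSucc 0, Int.negSucc 0, Int.negSucc 0, Int.negSucc 0, Int.ofNat 1, Int.ofNat 1, Int.negSucc 0, Int.ofNat 1, Int.negSucc 0, Int.ofNat 1, Int.negSucc 0, Int.ofNat 1, Int.negSucc 0, Int.ofNat 1, Int.ofNat 1],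
  [Int.ofNat 0, Int.ofNat 2, Int.ofNat 0, Int.ofNat 0, Int.ofNat 0, Int.ofNat 0, Int.ofNat 0, Int.ofNat 2, Int.ofNat 0, Int.ofNat 0, Int.ofNat 0, Int.ofNat 0, Int.ofNat 0, Int.negSucc 1, Int.ofNat 0, Int.ofNat 0, Int.negSucc 1, Int.negSucc 1, Int.ofNat 2, Int.ofNat 0, Int.ofNat 2, Int.ofNat 0, Int.negSucc 1, Int.ofNat 0],
  [Int.ofNat 0, Int.ofNat 2, Int.ofNat 0, Int.ofNat 0, Int.ofNat 0, Int.ofNat 0, Int.ofNat 2, Int.ofNat 0, Int.negSucc 1, Int.ofNat 0, Int.ofNat 2, Int.ofNat 0, Int.ofNat 0, Int.ofNat 0, Int.negSucc 1, Int.ofNat 0, Int.negSucc 1, Int.ofNat 0, Int.ofNat 0, Int.negSucc 1, Int.ofNat 0, Int.ofNat 2, Int.ofNat 0, Int.ofNat 0],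
  [Int.ofNat 1, Int.negSucc 0, Int.ofNat 1, Int.ofNat 1, Int.ofNat 1, Int.ofNat 1, Int.ofNat 1, Int.negSucc 0, Int.negSucc 0, Int.negSucc 0, Int.ofNat 1, Int.ofNat 1, Int.ofNat 1, Int.ofNat 1, Int.negSucc 0, Int.negSucc 0, Int.negSucc 0, Int.ofNat 1, Int.ofNat 1, Int.negSucc 2, Int.negSucc 0, Int.ofNat 1, Int.ofNat 1, Int.ofNat 1],
  [Int.negSucc 0, Int.ofNat 1, Int.ofNat 1, Int.ofNat 1, Int.negSucc 0, Int.ofNat 1, Int.ofNat 1, Int.ofNat 1, Int.ofNat 1, Int.ofNat 1, Int.negSucc 0, Int.negSucc 0, Int.negSucc 0, Int.ofNat 1, Int.ofNat 1, Int.ofNat 1, Int.ofNat 1, Int.negSucc 0, Int.negSucc 0, Int.negSucc 0, Int.ofNat 1, Int.ofNat 1, Int.negSucc 2, Int.ofNat 1],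
  [Int.ofNat 2, Int.ofNat 0, Int.ofNat 0, Int.ofNat 0, Int.ofNat 0, Int.ofNat 0, Int.ofNat 0, Int.ofNat 0, Int.ofNat 2, Int.ofNat 0, Int.negSucc 1, Int.ofNat 0, Int.ofNat 0, Int.ofNat 2, Int.ofNat 0, Int.ofNat 0, Int.ofNat 2, Int.negSucc 1, Int.ofNat 0, Int.negSucc 1, Int.ofNat 0, Int.ofNat 0, Int.negSucc 1, Int.ofNat 0],
  [Int.ofNat 0, Int.ofNat 0, Int.ofNat 0, Int.ofNat 0, Int.ofNat 0, Int.ofNat 0, Int.ofNat 0, Int.ofNat 2, Int.ofNat 0, Int.negSucc 1, Int.ofNat 0, Int.ofNat 0, Int.ofNat 2, Int.ofNat 0, Int.ofNat 0, Int.ofNat 2, Int.negSucc 1, Int.ofNat 0, Int.negSucc 1, Int.ofNat 0, Int.ofNat 0, Int.negSucc 1, Int.ofNat 2, Int.ofNat 0],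
  [Int.ofNat 0, Int.ofNat 0, Int.ofNat 0, Int.ofNat 0, Int.ofNat 0, Int.ofNat 0, Int.ofNat 0, Int.negSucc 1, Int.ofNat 0, Int.ofNat 2, Int.ofNat 0, Int.ofNat 0, Int.ofNat 2, Int.ofNat 0, Int.ofNat 0, Int.ofNat 2, Int.negSucc 1, Int.ofNat 0, Int.ofNat 2, Int.ofNat 0, Int.ofNat 0, Int.ofNat 2, Int.ofNat 2, Int.ofNat 0],
  [Int.ofNat 0, Int.ofNat 0, Int.ofNat 0, Int.ofNat 0, Int.ofNat 0, Int.ofNat 0, Int.ofNat 0, Int.negSucc 1, Int.ofNat 0, Int.negSucc 1, Int.ofNat 0, Int.ofNat 0, Int.negSucc 1, Int.ofNat 0, Int.ofNat 0, Int.ofNat 2, Int.ofNat 2, Int.ofNat 0, Int.negSucc 1, Int.ofNat 0, Int.ofNat 0, Int.ofNat 2, Int.ofNat 2, Int.ofNat 0],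
  [Int.ofNat 0, Int.ofNat 2, Int.ofNat 0, Int.ofNat 2, Int.ofNat 0, Int.negSucc 1, Int.ofNat 0, Int.ofNat 0, Int.ofNat 0, Int.ofNat 0, Int.ofNat 2, Int.ofNat 0, Int.ofNat 2, Int.negSucc 1, Int.negSucc 1, Int.ofNat 0, Int.ofNat 0, Int.ofNat 0, Int.ofNat 0, Int.ofNat 0, Int.ofNat 0, Int.negSucc 1, Int.ofNat 0, Int.ofNat 0],
  [Int.ofNat 0, Int.ofNat 2, Int.ofNat 0, Int.ofNat 2, Int.ofNat 0, Int.negSucc 1, Int.ofNat 0, Int.ofNat 0, Int.ofNat 0, Int.ofNat 0, Int.negSucc 1, Int.ofNat 0, Int.ofNat 2, Int.negSucc 1, Int.negSucc 1, Int.ofNat 0, Int.ofNat 0, Int.ofNat 0, Int.ofNat 0, Int.ofNat 0, Int.ofNat 0, Int.ofNat 2, Int.ofNat 0, Int.ofNat 0],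
  [Int.ofNat 0, Int.ofNat 0, Int.ofNat 2, Int.ofNat 0, Int.ofNat 2, Int.ofNat 0, Int.negSucc 1, Int.ofNat 0, Int.ofNat 0, Int.ofNat 0, Int.ofNat 0, Int.negSucc 1, Int.ofNat 0, Int.ofNat 2, Int.negSucc 1, Int.negSucc 1, Int.ofNat 0, Int.ofNat 0, Int.ofNat 0, Int.ofNat 0, Int.ofNat 0, Int.ofNat 0, Int.ofNat 2, Int.ofNat 0],
  [Int.ofNat 1, Int.ofNat 1, Int.negSucc 0, Int.ofNat 1, Int.negSucc 0, Int.ofNat 1, Int.negSucc 0, Int.ofNat 1, Int.ofNat 1, Int.ofNat 1, Int.ofNat 1, Int.negSucc 0, Int.ofNat 1, Int.negSucc 0, Int.negSucc 0, Int.negSucc 0, Int.negSucc 2, Int.ofNat 1, Int.ofNat 1, Int.ofNat 1, Int.ofNat 1, Int.ofNat 1, Int.negSucc 0, Int.ofNat 1],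
  [Int.ofNat 1, Int.negSucc 0, Int.ofNat 1, Int.negSucc 0, Int.ofNat 1, Int.ofNat 1, Int.ofNat 1, Int.ofNat 1, Int.negSucc 0, Int.ofNat 1, Int.negSucc 0, Int.negSucc 0, Int.negSucc 0, Int.negSucc 2, Int.ofNat 1, Int.ofNat 1, Int.ofNat 1, Int.ofNat 1, Int.ofNat 1, Int.negSucc 0, Int.ofNat 1, Int.ofNat 1, Int.negSucc 0, Int.ofNat 1],
  [Int.ofNat 0, Int.ofNat 2, Int.ofNat 0, Int.negSucc 1, Int.ofNat 2, Int.ofNat 0, Int.ofNat 0, Int.ofNat 0, Int.ofNat 0, Int.ofNat 0, Int.negSucc 1, Int.ofNat 0, Int.ofNat 0, Int.negSucc 1, Int.ofNat 0, Int.ofNat 0, Int.ofNat 2, Int.ofNat 0, Int.ofNat 2, Int.negSucc 1, Int.ofNat 0, Int.ofNat 0, Int.ofNat 0, Int.ofNat 0],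
  [Int.ofNat 0, Int.ofNat 0, Int.ofNat 2, Int.negSucc 1, Int.ofNat 2, Int.ofNat 0, Int.ofNat 0, Int.negSucc 1, Int.ofNat 0, Int.negSucc 1, Int.ofNat 0, Int.ofNat 0, Int.ofNat 0, Int.ofNat 2, Int.ofNat 0, Int.ofNat 0, Int.ofNat 0, Int.ofNat 0, Int.ofNat 2, Int.ofNat 0, Int.ofNat 0, Int.ofNat 0, Int.negSucc 1, Int.ofNat 0],
  [Int.ofNat 1, Int.ofNat 1, Int.negSucc 0, Int.negSucc 0, Int.ofNat 1, Int.ofNat 1, Int.ofNat 1, Int.negSucc 0, Int.negSucc 0, Int.negSucc 0, Int.ofNat 1, Int.negSucc 0, Int.negSucc 0, Int.ofNat 1, Int.ofNat 1, Int.ofNat 1, Int.negSucc 0, Int.ofNat 1, Int.ofNat 1, Int.ofNat 1, Int.ofNat 1, Int.ofNat 1, Int.negSucc 2, Int.ofNat 1],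
  [Int.ofNat 1, Int.ofNat 1, Int.ofNat 1, Int.negSucc 0, Int.ofNat 1, Int.negSucc 0, Int.negSucc 0, Int.negSucc 0, Int.negSucc 0, Int.ofNat 1, Int.negSucc 0, Int.negSucc 0, Int.negSucc 0, Int.ofNat 1, Int.ofNat 1, Int.negSucc 0, Int.negSucc 0, Int.ofNat 1, Int.negSucc 0, Int.ofNat 1, Int.ofNat 1, Int.ofNat 1, Int.ofNat 3, Int.ofNat 1],
  [Int.negSucc 0, Int.ofNat 1, Int.ofNat 1, Int.negSucc 0, Int.negSucc 0, Int.negSucc 0, Int.negSucc 0, Int.ofNat 1, Int.ofNat 1, Int.ofNat 1, Int.ofNat 1, Int.ofNat 1, Int.negSucc 0, Int.negSucc 0, Int.ofNat 3, Int.negSucc 0, Int.ofNat 1, Int.ofNat 1, Int.ofNat 1, Int.negSucc 0, Int.ofNat 1, Int.negSucc 0, Int.negSucc 0, Int.ofNat 1],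
  [Int.negSucc 0, Int.ofNat 1, Int.negSucc 0, Int.negSucc 0, Int.negSucc 0, Int.ofNat 1, Int.ofNat 1, Int.ofNat 1, Int.ofNat 1, Int.negSucc 0, Int.negSucc 0, Int.ofNat 1, Int.negSucc 0, Int.negSucc 0, Int.ofNat 3, Int.ofNat 1, Int.ofNat 1, Int.ofNat 1, Int.negSucc 0, Int.negSucc 0, Int.ofNat 1, Int.negSucc 0, Int.ofNat 1, Int.ofNat 1],
  [Int.ofNat 1, Int.negSucc 0, Int.ofNat 1, Int.negSucc 2, Int.negSucc 0, Int.negSucc 0, Int.ofNat 1, Int.ofNat 1, Int.ofNat 1, Int.negSucc 0, Int.negSucc 0, Int.ofNat 1, Int.negSucc 0, Int.negSucc 0, Int.ofNat 1, Int.ofNat 1, Int.ofNat 1, Int.negSucc 0, Int.negSucc 0, Int.negSucc 0, Int.ofNat 1, Int.negSucc 0, Int.ofNat 1, Int.negSucc 0],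
  [Int.ofNat 1, Int.negSucc 0, Int.ofNat 1, Int.negSucc 2, Int.ofNat 1, Int.negSucc 0, Int.negSucc 0, Int.negSucc 0, Int.ofNat 1, Int.negSucc 0, Int.ofNat 1, Int.negSucc 0, Int.ofNat 1, Int.negSucc 0, Int.negSucc 0, Int.ofNat 1, Int.negSucc 0, Int.ofNat 1, Int.negSucc 0, Int.ofNat 1, Int.negSucc 0, Int.ofNat 1, Int.ofNat 1, Int.negSucc 0],
  [Int.negSucc 0, Int.ofNat 1, Int.negSucc 0, Int.negSucc 0, Int.ofNat 1, Int.ofNat 1, Int.negSucc 0, Int.negSucc 0, Int.ofNat 1, Int.negSucc 0, Int.ofNat 1, Int.negSucc 0, Int.ofNat 1, Int.negSucc 0, Int.ofNat 1, Int.ofNat 1, Int.negSucc 0, Int.ofNat 3, Int.negSucc 0, Int.ofNat 1, Int.negSucc 0, Int.ofNat 1, Int.ofNat 1, Int.ofNat 1],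
  [Int.negSucc 0, Int.ofNat 1, Int.ofNat 1, Int.negSucc 0, Int.ofNat 1, Int.negSucc 0, Int.negSucc 0, Int.ofNat 1, Int.ofNat 1, Int.negSucc 0, Int.negSucc 0, Int.ofNat 1, Int.negSucc 0, Int.ofNat 1, Int.negSucc 0, Int.ofNat 1, Int.negSucc 0, Int.ofNat 1, Int.ofNat 1, Int.negSucc 0, Int.ofNat 3, Int.negSucc 0, Int.ofNat 1, Int.ofNat 1],
  [Int.ofNat 2, Int.ofNat 0, Int.ofNat 0, Int.ofNat 0, Int.ofNat 0, Int.ofNat 0, Int.ofNat 0, Int.ofNat 2, Int.ofNat 0, Int.negSucc 1, Int.negSucc 1, Int.ofNat 0, Int.negSucc 1, Int.ofNat 0, Int.ofNat 0, Int.ofNat 0, Int.negSucc 1, Int.ofNat 2, Int.ofNat 0, Int.ofNat 0, Int.ofNat 2, Int.ofNat 0, Int.ofNat 0, Int.ofNat 0],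
  [Int.ofNat 0, Int.ofNat 0, Int.ofNat 0, Int.ofNat 0, Int.ofNat 0, Int.ofNat 0, Int.ofNat 2, Int.ofNat 0, Int.negSucc 1, Int.negSucc 1, Int.ofNat 0, Int.negSucc 1, Int.ofNat 0, Int.ofNat 0, Int.ofNat 0, Int.negSucc 1, Int.ofNat 2, Int.ofNat 0, Int.ofNat 0, Int.ofNat 2, Int.ofNat 0, Int.ofNat 0, Int.ofNat 2, Int.ofNat 0],
  [Int.ofNat 0, Int.ofNat 0, Int.ofNat 0, Int.ofNat 0, Int.ofNat 0, Int.ofNat 0, Int.ofNat 2, Int.ofNat 0, Int.negSucc 1, Int.ofNat 2, Int.ofNat 0, Int.ofNat 2, Int.ofNat 0, Int.ofNat 0, Int.ofNat 0, Int.negSucc 1, Int.ofNat 2, Int.ofNat 0, Int.ofNat 0, Int.ofNat 2, Int.ofNat 0, Int.ofNat 0, Int.ofNat 2, Int.ofNat 0],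
  [Int.ofNat 0, Int.ofNat 0, Int.ofNat 0, Int.ofNat 0, Int.ofNat 0, Int.ofNat 0, Int.negSucc 1, Int.ofNat 0, Int.ofNat 2, Int.negSucc 1, Int.ofNat 0, Int.ofNat 2, Int.ofNat 0, Int.ofNat 0, Int.ofNat 0, Int.negSucc 1, Int.negSucc 1, Int.ofNat 0, Int.ofNat 0, Int.ofNat 2, Int.ofNat 0, Int.ofNat 0, Int.ofNat 2, Int.ofNat 0],
  [Int.ofNat 0, Int.ofNat 2, Int.ofNat 2, Int.negSucc 1, Int.ofNat 0, Int.negSucc 1, Int.ofNat 2, Int.ofNat 0, Int.ofNat 0, Int.ofNat 0, Int.negSucc 1, Int.ofNat 0, Int.ofNat 0, Int.ofNat 0, Int.ofNat 0, Int.ofNat 0, Int.ofNat 0, Int.ofNat 0, Int.ofNat 0, Int.negSucc 1, Int.ofNat 2, Int.ofNat 0, Int.ofNat 0, Int.ofNat 0],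
  [Int.ofNat 0, Int.ofNat 2, Int.negSucc 1, Int.negSucc 1, Int.ofNat 0, Int.negSucc 1, Int.ofNat 2, Int.ofNat 0, Int.ofNat 0, Int.ofNat 0, Int.ofNat 2, Int.ofNat 0, Int.ofNat 0, Int.ofNat 0, Int.ofNat 0, Int.ofNat 0, Int.ofNat 0, Int.ofNat 0, Int.ofNat 0, Int.negSucc 1, Int.ofNat 2, Int.ofNat 0, Int.ofNat 0, Int.ofNat 0],
  [Int.ofNat 0, Int.ofNat 0, Int.ofNat 2, Int.negSucc 1, Int.negSucc 1, Int.ofNat 0, Int.negSucc 1, Int.ofNat 2, Int.ofNat 0, Int.ofNat 0, Int.ofNat 0, Int.ofNat 2, Int.ofNat 0, Int.ofNat 0, Int.ofNat 0, Int.ofNat 0, Int.ofNat 0, Int.ofNat 0, Int.ofNat 0, Int.ofNat 0, Int.negSucc 1, Int.ofNat 2, Int.ofNat 0, Int.ofNat 0],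
  [Int.ofNat 1, Int.ofNat 1, Int.negSucc 0, Int.negSucc 0, Int.negSucc 0, Int.ofNat 1, Int.negSucc 2, Int.ofNat 1, Int.negSucc 0, Int.ofNat 1, Int.ofNat 1, Int.ofNat 1, Int.negSucc 0, Int.ofNat 1, Int.ofNat 1, Int.ofNat 1, Int.ofNat 1, Int.ofNat 1, Int.negSucc 0, Int.negSucc 0, Int.negSucc 0, Int.ofNat 1, Int.ofNat 1, Int.ofNat 1],
  [Int.negSucc 0, Int.negSucc 0, Int.ofNat 1, Int.negSucc 2, Int.ofNat 1, Int.negSucc 0, Int.ofNat 1, Int.ofNat 1, Int.ofNat 1, Int.negSucc 0, Int.ofNat 1, Int.ofNat 1, Int.ofNat 1, Int.ofNat 1, Int.ofNat 1, Int.negSucc 0, Int.negSucc 0, Int.negSucc 0, Int.ofNat 1, Int.ofNat 1, Int.ofNat 1, Int.ofNat 1, Int.negSucc 0, Int.ofNat 1],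
  [Int.ofNat 1, Int.ofNat 1, Int.negSucc 0, Int.negSucc 0, Int.ofNat 1, Int.ofNat 1, Int.negSucc 0, Int.negSucc 0, Int.negSucc 0, Int.negSucc 0, Int.ofNat 1, Int.negSucc 0, Int.negSucc 0, Int.ofNat 1, Int.ofNat 3, Int.negSucc 0, Int.negSucc 0, Int.ofNat 1, Int.negSucc 0, Int.negSucc 0, Int.ofNat 1, Int.negSucc 0, Int.negSucc 0, Int.negSucc 0],
  [Int.ofNat 1, Int.negSucc 0, Int.ofNat 1, Int.negSucc 0, Int.negSucc 0, Int.negSucc 0, Int.negSucc 0, Int.ofNat 1, Int.negSucc 0, Int.ofNat 1, Int.ofNat 1, Int.ofNat 1, Int.negSucc 0, Int.negSucc 0, Int.negSucc 0, Int.negSucc 0, Int.negSucc 0, Int.ofNat 3, Int.ofNat 1, Int.negSucc 0, Int.negSucc 0, Int.ofNat 1, Int.negSucc 0, Int.negSucc 0],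
  [Int.negSucc 0, Int.ofNat 1, Int.negSucc 0, Int.negSucc 0, Int.ofNat 1, Int.negSucc 0, Int.negSucc 0, Int.ofNat 1, Int.negSucc 0, Int.ofNat 1, Int.ofNat 1, Int.ofNat 1, Int.negSucc 0, Int.ofNat 1, Int.negSucc 0, Int.negSucc 0, Int.ofNat 1, Int.ofNat 3, Int.ofNat 1, Int.negSucc 0, Int.negSucc 0, Int.ofNat 1, Int.ofNat 1, Int.ofNat 1],
  [Int.negSucc 0, Int.ofNat 1, Int.ofNat 1, Int.negSucc 0, Int.ofNat 1, Int.ofNat 1, Int.ofNat 1, Int.ofNat 1, Int.negSucc 0, Int.negSucc 0, Int.negSucc 0, Int.ofNat 1, Int.negSucc 0, Int.ofNat 1, Int.negSucc 0, Int.ofNat 1, Int.ofNat 1, Int.ofNat 3, Int.negSucc 0, Int.negSucc 0, Int.negSucc 0, Int.ofNat 1, Int.negSucc 0, Int.ofNat 1],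
  [Int.negSucc 0, Int.negSucc 0, Int.ofNat 3, Int.ofNat 1, Int.ofNat 1, Int.negSucc 0, Int.negSucc 0, Int.ofNat 1, Int.ofNat 1, Int.ofNat 1, Int.negSucc 0, Int.negSucc 0, Int.ofNat 1, Int.ofNat 1, Int.negSucc 0, Int.negSucc 0, Int.ofNat 1, Int.negSucc 0, Int.ofNat 1, Int.ofNat 1, Int.negSucc 0, Int.ofNat 1, Int.negSucc 0, Int.ofNat 1],
  [Int.negSucc 0, Int.negSucc 0, Int.negSucc 2, Int.ofNat 1, Int.ofNat 1, Int.ofNat 1, Int.ofNat 1, Int.ofNat 1, Int.ofNat 1, Int.negSucc 0, Int.ofNat 1, Int.negSucc 0, Int.ofNat 1, Int.ofNat 1, Int.negSucc 0, Int.ofNat 1, Int.ofNat 1, Int.negSucc 0, Int.negSucc 0, Int.ofNat 1, Int.negSucc 0, Int.ofNat 1, Int.ofNat 1, Int.ofNat 1],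
  [Int.negSucc 0, Int.negSucc 0, Int.ofNat 1, Int.ofNat 1, Int.negSucc 0, Int.ofNat 1, Int.negSucc 0, Int.negSucc 0, Int.ofNat 1, Int.negSucc 0, Int.ofNat 1, Int.negSucc 0, Int.ofNat 1, Int.negSucc 0, Int.negSucc 0, Int.ofNat 1, Int.negSucc 0, Int.negSucc 0, Int.negSucc 0, Int.negSucc 0, Int.negSucc 0, Int.negSucc 0, Int.negSucc 0, Int.negSucc 2],
  [Int.negSucc 0, Int.negSucc 0, Int.negSucc 0, Int.ofNat 1, Int.ofNat 1, Int.negSucc 0, Int.negSucc 0, Int.ofNat 1, Int.negSucc 0, Int.ofNat 1, Int.negSucc 0, Int.negSucc 0, Int.ofNat 1, Int.negSucc 0, Int.negSucc 0, Int.ofNat 1, Int.negSucc 0, Int.negSucc 0, Int.negSucc 0, Int.negSucc 0, Int.ofNat 1, Int.negSucc 0, Int.negSucc 0, Int.negSucc 2],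
  [Int.negSucc 1, Int.negSucc 1, Int.negSucc 1, Int.ofNat 2, Int.ofNat 2, Int.ofNat 0, Int.ofNat 0, Int.ofNat 2, Int.ofNat 0, Int.ofNat 0, Int.negSucc 1, Int.ofNat 0, Int.ofNat 2, Int.ofNat 0, Int.ofNat 0, Int.ofNat 0, Int.ofNat 0, Int.ofNat 0, Int.ofNat 0, Int.ofNat 0, Int.ofNat 0, Int.ofNat 0, Int.ofNat 0, Int.ofNat 0],
  [Int.ofNat 0, Int.ofNat 0, Int.ofNat 0, Int.negSucc 1, Int.negSucc 1, Int.negSucc 1, Int.ofNat 2, Int.ofNat 2, Int.ofNat 0, Int.ofNat 0, Int.ofNat 2, Int.ofNat 0, Int.ofNat 0, Int.negSucc 1, Int.ofNat 0, Int.ofNat 2, Int.ofNat 0, Int.ofNat 0, Int.ofNat 0, Int.ofNat 0, Int.ofNat 0, Int.ofNat 0, Int.ofNat 0, Int.ofNat 0],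
  [Int.ofNat 0, Int.ofNat 0, Int.ofNat 0, Int.ofNat 0, Int.ofNat 0, Int.ofNat 0, Int.ofNat 0, Int.ofNat 0, Int.ofNat 0, Int.negSucc 1, Int.ofNat 0, Int.ofNat 0, Int.ofNat 0, Int.ofNat 0, Int.ofNat 2, Int.ofNat 0, Int.ofNat 2, Int.ofNat 2, Int.ofNat 0, Int.negSucc 1, Int.negSucc 1, Int.negSucc 1, Int.ofNat 2, Int.ofNat 0],
  [Int.ofNat 0, Int.ofNat 0, Int.ofNat 0, Int.ofNat 0, Int.ofNat 0, Int.ofNat 0, Int.ofNat 0, Int.ofNat 0, Int.negSucc 1, Int.ofNat 0, Int.ofNat 0, Int.ofNat 0, Int.ofNat 0, Int.ofNat 2, Int.ofNat 0, Int.ofNat 2, Int.ofNat 2, Int.ofNat 0, Int.negSucc 1, Int.negSucc 1, Int.negSucc 1, Int.ofNat 2, Int.ofNat 0, Int.ofNat 0],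
  [Int.ofNat 0, Int.ofNat 0, Int.ofNat 0, Int.ofNat 0, Int.ofNat 0, Int.ofNat 0, Int.ofNat 0, Int.ofNat 0, Int.negSucc 1, Int.ofNat 0, Int.ofNat 0, Int.ofNat 0, Int.ofNat 0, Int.ofNat 2, Int.ofNat 0, Int.ofNat 2, Int.ofNat 2, Int.ofNat 0, Int.ofNat 2, Int.negSucc 1, Int.negSucc 1, Int.negSucc 1, Int.ofNat 0, Int.ofNat 0],
  [Int.ofNat 0, Int.ofNat 0, Int.ofNat 0, Int.ofNat 0, Int.ofNat 0, Int.ofNat 0, Int.ofNat 0, Int.ofNat 0, Int.ofNat 2, Int.ofNat 0, Int.ofNat 0, Int.ofNat 0, Int.ofNat 0, Int.negSucc 1, Int.ofNat 0, Int.ofNat 2, Int.negSucc 1, Int.ofNat 0, Int.negSucc 1, Int.negSucc 1, Int.negSucc 1, Int.negSucc 1, Int.ofNat 0, Int.ofNat 0],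
  [Int.ofNat 0, Int.ofNat 0, Int.ofNat 0, Int.ofNat 2, Int.ofNat 0, Int.ofNat 0, Int.negSucc 1, Int.negSucc 1, Int.negSucc 1, Int.ofNat 0, Int.negSucc 1, Int.ofNat 0, Int.negSucc 1, Int.ofNat 0, Int.negSucc 1, Int.ofNat 0, Int.ofNat 0, Int.ofNat 0, Int.ofNat 0, Int.ofNat 0, Int.ofNat 2, Int.ofNat 0, Int.ofNat 0, Int.ofNat 0],
  [Int.ofNat 0, Int.ofNat 0, Int.ofNat 0, Int.ofNat 2, Int.ofNat 0, Int.ofNat 0, Int.negSucc 1, Int.ofNat 2, Int.negSucc 1, Int.ofNat 0, Int.ofNat 2, Int.ofNat 0, Int.negSucc 1, Int.ofNat 0, Int.negSucc 1, Int.ofNat 0, Int.ofNat 0, Int.ofNat 0, Int.ofNat 0, Int.ofNat 0, Int.ofNat 2, Int.ofNat 0, Int.ofNat 0, Int.ofNat 0],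
  [Int.ofNat 0, Int.ofNat 0, Int.ofNat 0, Int.ofNat 0, Int.ofNat 2, Int.ofNat 0, Int.ofNat 0, Int.negSucc 1, Int.ofNat 2, Int.negSucc 1, Int.ofNat 0, Int.ofNat 2, Int.ofNat 0, Int.negSucc 1, Int.ofNat 0, Int.negSucc 1, Int.ofNat 0, Int.ofNat 0, Int.ofNat 0, Int.ofNat 0, Int.ofNat 0, Int.ofNat 2, Int.ofNat 0, Int.ofNat 0],
  [Int.ofNat 0, Int.ofNat 0, Int.ofNat 0, Int.ofNat 0, Int.ofNat 2, Int.ofNat 0, Int.ofNat 0, Int.negSucc 1, Int.ofNat 0, Int.ofNat 0, Int.ofNat 2, Int.ofNat 0, Int.negSucc 1, Int.negSucc 1, Int.ofNat 0, Int.ofNat 0, Int.ofNat 0, Int.ofNat 0, Int.negSucc 1, Int.ofNat 0, Int.ofNat 2, Int.ofNat 2, Int.ofNat 0, Int.ofNat 0],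
  [Int.ofNat 0, Int.ofNat 2, Int.ofNat 0, Int.ofNat 0, Int.negSucc 1, Int.ofNat 0, Int.ofNat 0, Int.ofNat 2, Int.ofNat 0, Int.negSucc 1, Int.negSucc 1, Int.ofNat 0, Int.ofNat 0, Int.ofNat 0, Int.ofNat 0, Int.negSucc 1, Int.ofNat 0, Int.ofNat 2, Int.ofNat 2, Int.ofNat 0, Int.ofNat 0, Int.ofNat 0, Int.ofNat 0, Int.ofNat 0],
  [Int.ofNat 1, Int.negSucc 0, Int.ofNat 1, Int.negSucc 0, Int.negSucc 0, Int.negSucc 0, Int.negSucc 0, Int.ofNat 1, Int.negSucc 0, Int.ofNat 1, Int.ofNat 1, Int.negSucc 0, Int.negSucc 0, Int.ofNat 1, Int.negSucc 0, Int.ofNat 1, Int.ofNat 1, Int.ofNat 1, Int.ofNat 1, Int.negSucc 0, Int.ofNat 3, Int.negSucc 0, Int.ofNat 1, Int.ofNat 1],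
  [Int.ofNat 1, Int.negSucc 0, Int.negSucc 0, Int.negSucc 0, Int.ofNat 1, Int.ofNat 1, Int.ofNat 1, Int.ofNat 1, Int.negSucc 0, Int.ofNat 1, Int.ofNat 3, Int.ofNat 1, Int.ofNat 1, Int.ofNat 1, Int.ofNat 1, Int.ofNat 1, Int.negSucc 0, Int.negSucc 0, Int.negSucc 0, Int.negSucc 0, Int.negSucc 0, Int.negSucc 0, Int.negSucc 0, Int.ofNat 1],
  [Int.negSucc 0, Int.ofNat 1, Int.ofNat 1, Int.negSucc 0, Int.ofNat 1, Int.ofNat 1, Int.ofNat 1, Int.ofNat 1, Int.negSucc 0, Int.negSucc 0, Int.ofNat 1, Int.ofNat 1, Int.ofNat 1, Int.ofNat 1, Int.ofNat 1, Int.negSucc 0, Int.negSucc 0, Int.negSucc 0, Int.negSucc 0, Int.negSucc 0, Int.negSucc 2, Int.negSucc 0, Int.negSucc 0, Int.negSucc 0],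
  [Int.negSucc 0, Int.ofNat 1, Int.negSucc 0, Int.negSucc 0, Int.ofNat 1, Int.negSucc 0, Int.negSucc 0, Int.ofNat 1, Int.negSucc 0, Int.ofNat 1, Int.negSucc 0, Int.ofNat 1, Int.ofNat 1, Int.ofNat 1, Int.ofNat 1, Int.ofNat 1, Int.negSucc 0, Int.negSucc 0, Int.ofNat 1, Int.negSucc 0, Int.negSucc 2, Int.negSucc 0, Int.ofNat 1, Int.negSucc 0],
  [Int.ofNat 1, Int.negSucc 0, Int.negSucc 0, Int.ofNat 1, Int.negSucc 0, Int.negSucc 0, Int.negSucc 0, Int.negSucc 0, Int.ofNat 1, Int.ofNat 1, Int.ofNat 1, Int.negSucc 0, Int.ofNat 1, Int.negSucc 0, Int.ofNat 1, Int.negSucc 0, Int.negSucc 0, Int.negSucc 2, Int.ofNat 1, Int.ofNat 1, Int.ofNat 1, Int.negSucc 0, Int.ofNat 1, Int.negSucc 0],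
  [Int.ofNat 1, Int.negSucc 0, Int.ofNat 1, Int.ofNat 1, Int.negSucc 0, Int.ofNat 1, Int.ofNat 1, Int.negSucc 0, Int.ofNat 1, Int.negSucc 0, Int.negSucc 0, Int.negSucc 0, Int.ofNat 1, Int.negSucc 0, Int.ofNat 1, Int.ofNat 1, Int.negSucc 0, Int.negSucc 2, Int.negSucc 0, Int.ofNat 1, Int.ofNat 1, Int.negSucc 0, Int.negSucc 0, Int.negSucc 0],
  [Int.negSucc 0, Int.ofNat 1, Int.negSucc 0, Int.ofNat 1, Int.ofNat 1, Int.ofNat 1, Int.ofNat 1, Int.negSucc 0, Int.ofNat 1, Int.negSucc 0, Int.negSucc 0, Int.negSucc 0, Int.ofNat 1, Int.ofNat 1, Int.ofNat 1, Int.ofNat 1, Int.ofNat 1, Int.negSucc 2, Int.negSucc 0, Int.ofNat 1, Int.ofNat 1, Int.negSucc 0, Int.ofNat 1, Int.ofNat 1],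
  [Int.negSucc 0, Int.negSucc 0, Int.ofNat 1, Int.ofNat 1, Int.negSucc 0, Int.negSucc 0, Int.ofNat 1, Int.ofNat 1, Int.ofNat 1, Int.ofNat 1, Int.negSucc 0, Int.ofNat 1, Int.ofNat 1, Int.negSucc 0, Int.negSucc 2, Int.ofNat 1, Int.ofNat 1, Int.negSucc 0, Int.ofNat 1, Int.ofNat 1, Int.negSucc 0, Int.ofNat 1, Int.ofNat 1, Int.ofNat 1],
  [Int.ofNat 1, Int.ofNat 1, Int.negSucc 0, Int.ofNat 3, Int.negSucc 0, Int.ofNat 1, Int.negSucc 0, Int.negSucc 0, Int.negSucc 0, Int.ofNat 1, Int.negSucc 0, Int.negSucc 0, Int.negSucc 0, Int.negSucc 0, Int.negSucc 0, Int.ofNat 1, Int.ofNat 1, Int.ofNat 1, Int.negSucc 0, Int.negSucc 0, Int.negSucc 0, Int.negSucc 0, Int.ofNat 1, Int.negSucc 0],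
  [Int.negSucc 0, Int.negSucc 0, Int.ofNat 1, Int.ofNat 1, Int.ofNat 1, Int.negSucc 0, Int.ofNat 3, Int.negSucc 0, Int.ofNat 1, Int.negSucc 0, Int.negSucc 0, Int.negSucc 0, Int.ofNat 1, Int.negSucc 0, Int.negSucc 0, Int.negSucc 0, Int.negSucc 0, Int.negSucc 0, Int.ofNat 1, Int.ofNat 1, Int.ofNat 1, Int.negSucc 0, Int.negSucc 0, Int.negSucc 0],
  [Int.ofNat 0, Int.ofNat 0, Int.negSucc 1, Int.ofNat 2, Int.ofNat 2, Int.ofNat 0, Int.ofNat 2, Int.negSucc 1, Int.ofNat 0, Int.ofNat 0, Int.ofNat 0, Int.negSucc 1, Int.ofNat 0, Int.ofNat 0, Int.ofNat 0, Int.ofNat 0, Int.ofNat 0, Int.ofNat 0, Int.ofNat 0, Int.ofNat 0, Int.ofNat 2, Int.negSucc 1, Int.ofNat 0, Int.ofNat 0],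
  [Int.ofNat 0, Int.negSucc 1, Int.ofNat 2, Int.ofNat 2, Int.ofNat 0, Int.ofNat 2, Int.negSucc 1, Int.ofNat 0, Int.ofNat 0, Int.ofNat 0, Int.negSucc 1, Int.ofNat 0, Int.ofNat 0, Int.ofNat 0, Int.ofNat 0, Int.ofNat 0, Int.ofNat 0, Int.ofNat 0, Int.ofNat 0, Int.ofNat 2, Int.negSucc 1, Int.ofNat 0, Int.ofNat 0, Int.ofNat 0],
  [Int.ofNat 0, Int.negSucc 1, Int.negSucc 1, Int.ofNat 2, Int.ofNat 0, Int.ofNat 2, Int.negSucc 1, Int.ofNat 0, Int.ofNat 0, Int.ofNat 0, Int.ofNat 2, Int.ofNat 0, Int.ofNat 0, Int.ofNat 0, Int.ofNat 0, Int.ofNat 0, Int.ofNat 0, Int.ofNat 0, Int.ofNat 0, Int.ofNat 2, Int.negSucc 1, Int.ofNat 0, Int.ofNat 0, Int.ofNat 0],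
  [Int.ofNat 0, Int.ofNat 2, Int.ofNat 2, Int.negSucc 1, Int.ofNat 0, Int.ofNat 2, Int.ofNat 2, Int.ofNat 0, Int.ofNat 0, Int.ofNat 0, Int.ofNat 2, Int.ofNat 0, Int.ofNat 0, Int.ofNat 0, Int.ofNat 0, Int.ofNat 0, Int.ofNat 0, Int.ofNat 0, Int.ofNat 0, Int.ofNat 2, Int.negSucc 1, Int.ofNat 0, Int.ofNat 0, Int.ofNat 0],
  [Int.ofNat 0, Int.ofNat 0, Int.ofNat 0, Int.ofNat 0, Int.ofNat 0, Int.ofNat 0, Int.ofNat 2, Int.ofNat 0, Int.negSucc 1, Int.ofNat 2, Int.ofNat 0, Int.ofNat 2, Int.ofNat 0, Int.ofNat 0, Int.ofNat 0, Int.negSucc 1, Int.ofNat 2, Int.ofNat 0, Int.ofNat 0, Int.ofNat 2, Int.ofNat 0, Int.ofNat 0, Int.ofNat 2, Int.ofNat 0],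
  [Int.ofNat 0, Int.ofNat 0, Int.ofNat 0, Int.ofNat 0, Int.ofNat 0, Int.ofNat 0, Int.ofNat 2, Int.ofNat 0, Int.negSucc 1, Int.negSucc 1, Int.ofNat 0, Int.negSucc 1, Int.ofNat 0, Int.ofNat 0, Int.ofNat 0, Int.negSucc 1, Int.ofNat 2, Int.ofNat 0, Int.ofNat 0, Int.ofNat 2, Int.ofNat 0, Int.ofNat 0, Int.ofNat 2, Int.ofNat 0],
  [Int.ofNat 2, Int.ofNat 0, Int.ofNat 0, Int.ofNat 0, Int.ofNat 0, Int.ofNat 0, Int.ofNat 0, Int.ofNat 2, Int.ofNat 0, Int.negSucc 1, Int.negSucc 1, Int.ofNat 0, Int.negSucc 1, Int.ofNat 0, Int.ofNat 0, Int.ofNat 0, Int.negSucc 1, Int.ofNat 2, Int.ofNat 0, Int.ofNat 0, Int.ofNat 2, Int.ofNat 0, Int.ofNat 0, Int.ofNat 0],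
  [Int.negSucc 0, Int.ofNat 1, Int.ofNat 1, Int.negSucc 0, Int.ofNat 1, Int.negSucc 0, Int.negSucc 0, Int.ofNat 1, Int.ofNat 1, Int.negSucc 0, Int.negSucc 0, Int.ofNat 1, Int.negSucc 0, Int.ofNat 1, Int.negSucc 0, Int.ofNat 1, Int.negSucc 0, Int.ofNat 1, Int.ofNat 1, Int.negSucc 0, Int.ofNat 3, Int.negSucc 0, Int.ofNat 1, Int.ofNat 1],
  [Int.negSucc 0, Int.ofNat 1, Int.negSucc 0, Int.negSucc 0, Int.ofNat 1, Int.ofNat 1, Int.negSucc 0, Int.negSucc 0, Int.ofNat 1, Int.negSucc 0, Int.ofNat 1, Int.negSucc 0, Int.ofNat 1, Int.negSucc 0, Int.ofNat 1, Int.ofNat 1, Int.negSucc 0, Int.ofNat 3, Int.negSucc 0, Int.ofNat 1, Int.negSucc 0, Int.ofNat 1, Int.ofNat 1, Int.ofNat 1],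
  [Int.ofNat 1, Int.negSucc 0, Int.ofNat 1, Int.negSucc 2, Int.ofNat 1, Int.negSucc 0, Int.negSucc 0, Int.negSucc 0, Int.ofNat 1, Int.negSucc 0, Int.ofNat 1, Int.negSucc 0, Int.ofNat 1, Int.negSucc 0, Int.negSucc 0, Int.ofNat 1, Int.negSucc 0, Int.ofNat 1, Int.negSucc 0, Int.ofNat 1, Int.negSucc 0, Int.ofNat 1, Int.ofNat 1, Int.negSucc 0],
  [Int.ofNat 1, Int.negSucc 0, Int.ofNat 1, Int.negSucc 2, Int.negSucc 0, Int.negSucc 0, Int.ofNat 1, Int.ofNat 1, Int.ofNat 1, Int.negSucc 0, Int.negSucc 0, Int.ofNat 1, Int.negSucc 0, Int.negSucc 0, Int.ofNat 1, Int.ofNat 1, Int.ofNat 1, Int.negSucc 0, Int.negSucc 0, Int.negSucc 0, Int.ofNat 1, Int.negSucc 0, Int.ofNat 1, Int.negSucc 0],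
  [Int.negSucc 0, Int.ofNat 1, Int.negSucc 0, Int.negSucc 0, Int.negSucc 0, Int.ofNat 1, Int.ofNat 1, Int.ofNat 1, Int.ofNat 1, Int.negSucc 0, Int.negSucc 0, Int.ofNat 1, Int.negSucc 0, Int.negSucc 0, Int.ofNat 3, Int.ofNat 1, Int.ofNat 1, Int.ofNat 1, Int.negSucc 0, Int.negSucc 0, Int.ofNat 1, Int.negSucc 0, Int.ofNat 1, Int.ofNat 1],
  [Int.negSucc 0, Int.ofNat 1, Int.ofNat 1, Int.negSucc 0, Int.negSucc 0, Int.negSucc 0, Int.negSucc 0, Int.ofNat 1, Int.ofNat 1, Int.ofNat 1, Int.ofNat 1, Int.ofNat 1, Int.negSucc 0, Int.negSucc 0, Int.ofNat 3, Int.negSucc 0, Int.ofNat 1, Int.ofNat 1, Int.ofNat 1, Int.negSucc 0, Int.ofNat 1, Int.negSucc 0, Int.negSucc 0, Int.ofNat 1],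
  [Int.ofNat 1, Int.negSucc 0, Int.ofNat 1, Int.ofNat 1, Int.negSucc 0, Int.ofNat 1, Int.ofNat 1, Int.negSucc 0, Int.ofNat 1, Int.negSucc 0, Int.ofNat 1, Int.negSucc 0, Int.negSucc 0, Int.negSucc 0, Int.negSucc 0, Int.negSucc 0, Int.ofNat 1, Int.ofNat 1, Int.negSucc 0, Int.ofNat 1, Int.ofNat 3, Int.ofNat 1, Int.negSucc 0, Int.ofNat 1],
  [Int.ofNat 1, Int.negSucc 0, Int.negSucc 0, Int.ofNat 1, Int.negSucc 0, Int.negSucc 0, Int.negSucc 0, Int.negSucc 0, Int.ofNat 1, Int.ofNat 1, Int.negSucc 0, Int.negSucc 0, Int.negSucc 0, Int.negSucc 0, Int.negSucc 0, Int.ofNat 1, Int.ofNat 1, Int.ofNat 1, Int.ofNat 1, Int.ofNat 1, Int.ofNat 3, Int.ofNat 1, Int.ofNat 1, Int.ofNat 1],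
  [Int.negSucc 0, Int.ofNat 1, Int.ofNat 1, Int.ofNat 1, Int.negSucc 0, Int.negSucc 0, Int.negSucc 0, Int.negSucc 0, Int.ofNat 1, Int.negSucc 0, Int.negSucc 2, Int.negSucc 0, Int.negSucc 0, Int.negSucc 0, Int.negSucc 0, Int.negSucc 0, Int.ofNat 1, Int.ofNat 1, Int.ofNat 1, Int.ofNat 1, Int.ofNat 1, Int.ofNat 1, Int.ofNat 1, Int.negSucc 0],
  [Int.negSucc 0, Int.ofNat 1, Int.negSucc 0, Int.ofNat 1, Int.ofNat 1, Int.ofNat 1, Int.ofNat 1, Int.negSucc 0, Int.ofNat 1, Int.negSucc 0, Int.negSucc 0, Int.ofNat 1, Int.ofNat 1, Int.negSucc 0, Int.ofNat 1, Int.negSucc 0, Int.negSucc 0, Int.negSucc 0, Int.negSucc 0, Int.ofNat 1, Int.negSucc 2, Int.ofNat 1, Int.negSucc 0, Int.negSucc 0],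
  [Int.ofNat 0, Int.negSucc 1, Int.ofNat 0, Int.ofNat 0, Int.ofNat 2, Int.ofNat 0, Int.ofNat 0, Int.negSucc 1, Int.ofNat 0, Int.ofNat 2, Int.ofNat 2, Int.ofNat 0, Int.ofNat 0, Int.ofNat 0, Int.ofNat 0, Int.ofNat 2, Int.ofNat 0, Int.negSucc 1, Int.negSucc 1, Int.ofNat 0, Int.ofNat 0, Int.ofNat 0, Int.ofNat 0, Int.ofNat 0],
  [Int.ofNat 0, Int.ofNat 0, Int.ofNat 0, Int.ofNat 0, Int.negSucc 1, Int.ofNat 0, Int.ofNat 0, Int.ofNat 2, Int.ofNat 0, Int.ofNat 0, Int.negSucc 1, Int.ofNat 0, Int.ofNat 2, Int.ofNat 2, Int.ofNat 0, Int.ofNat 0, Int.ofNat 0, Int.ofNat 0, Int.ofNat 2, Int.ofNat 0, Int.negSucc 1, Int.negSucc 1, Int.ofNat 0, Int.ofNat 0],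
  [Int.ofNat 0, Int.ofNat 0, Int.ofNat 0, Int.ofNat 0, Int.negSucc 1, Int.ofNat 0, Int.ofNat 0, Int.ofNat 2, Int.negSucc 1, Int.ofNat 2, Int.ofNat 0, Int.negSucc 1, Int.ofNat 0, Int.ofNat 2, Int.ofNat 0, Int.ofNat 2, Int.ofNat 0, Int.ofNat 0, Int.ofNat 0, Int.ofNat 0, Int.ofNat 0, Int.negSucc 1, Int.ofNat 0, Int.ofNat 0],
  [Int.ofNat 0, Int.ofNat 0, Int.ofNat 0, Int.negSucc 1, Int.ofNat 0, Int.ofNat 0, Int.ofNat 2, Int.negSucc 1, Int.ofNat 2, Int.ofNat 0, Int.negSucc 1, Int.ofNat 0, Int.ofNat 2, Int.ofNat 0, Int.ofNat 2, Int.ofNat 0, Int.ofNat 0, Int.ofNat 0, Int.ofNat 0, Int.ofNat 0, Int.negSucc 1, Int.ofNat 0, Int.ofNat 0, Int.ofNat 0],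
  [Int.ofNat 0, Int.ofNat 0, Int.ofNat 0, Int.negSucc 1, Int.ofNat 0, Int.ofNat 0, Int.ofNat 2, Int.ofNat 2, Int.ofNat 2, Int.ofNat 0, Int.ofNat 2, Int.ofNat 0, Int.ofNat 2, Int.ofNat 0, Int.ofNat 2, Int.ofNat 0, Int.ofNat 0, Int.ofNat 0, Int.ofNat 0, Int.ofNat 0, Int.negSucc 1, Int.ofNat 0, Int.ofNat 0, Int.ofNat 0],
  [Int.ofNat 0, Int.ofNat 0, Int.ofNat 0, Int.ofNat 2, Int.ofNat 0, Int.ofNat 0, Int.negSucc 1, Int.ofNat 2, Int.negSucc 1, Int.ofNat 0, Int.ofNat 2, Int.ofNat 0, Int.negSucc 1, Int.ofNat 0, Int.ofNat 2, Int.ofNat 0, Int.ofNat 0, Int.ofNat 0, Int.ofNat 0, Int.ofNat 0, Int.negSucc 1, Int.ofNat 0, Int.ofNat 0, Int.ofNat 0],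
  [Int.ofNat 0, Int.ofNat 0, Int.ofNat 0, Int.ofNat 0, Int.ofNat 0, Int.ofNat 0, Int.ofNat 0, Int.ofNat 0, Int.negSucc 1, Int.ofNat 0, Int.ofNat 0, Int.ofNat 0, Int.ofNat 0, Int.ofNat 2, Int.ofNat 0, Int.ofNat 2, Int.ofNat 2, Int.ofNat 0, Int.ofNat 2, Int.negSucc 1, Int.negSucc 1, Int.negSucc 1, Int.ofNat 0, Int.ofNat 0],
  [Int.ofNat 0, Int.ofNat 0, Int.ofNat 0, Int.ofNat 0, Int.ofNat 0, Int.ofNat 0, Int.ofNat 0, Int.ofNat 0, Int.negSucc 1, Int.ofNat 0, Int.ofNat 0, Int.ofNat 0, Int.ofNat 0, Int.ofNat 2, Int.ofNat 0, Int.ofNat 2, Int.ofNat 2, Int.ofNat 0, Int.negSucc 1, Int.negSucc 1, Int.negSucc 1, Int.ofNat 2, Int.ofNat 0, Int.ofNat 0],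
  [Int.ofNat 0, Int.ofNat 0, Int.ofNat 0, Int.ofNat 0, Int.ofNat 0, Int.ofNat 0, Int.ofNat 0, Int.ofNat 0, Int.ofNat 0, Int.negSucc 1, Int.ofNat 0, Int.ofNat 0, Int.ofNat 0, Int.ofNat 0, Int.ofNat 2, Int.ofNat 0, Int.ofNat 2, Int.ofNat 2, Int.ofNat 0, Int.negSucc 1, Int.negSucc 1, Int.negSucc 1, Int.ofNat 2, Int.ofNat 0],
  [Int.ofNat 0, Int.ofNat 0, Int.ofNat 0, Int.negSucc 1, Int.negSucc 1, Int.negSucc 1, Int.ofNat 2, Int.ofNat 2, Int.ofNat 0, Int.ofNat 0, Int.ofNat 2, Int.ofNat 0, Int.ofNat 0, Int.negSucc 1, Int.ofNat 0, Int.ofNat 2, Int.ofNat 0, Int.ofNat 0, Int.ofNat 0, Int.ofNat 0, Int.ofNat 0, Int.ofNat 0, Int.ofNat 0, Int.ofNat 0],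
  [Int.negSucc 1, Int.negSucc 1, Int.negSucc 1, Int.ofNat 2, Int.ofNat 2, Int.ofNat 0, Int.ofNat 0, Int.ofNat 2, Int.ofNat 0, Int.ofNat 0, Int.negSucc 1, Int.ofNat 0, Int.ofNat 2, Int.ofNat 0, Int.ofNat 0, Int.ofNat 0, Int.ofNat 0, Int.ofNat 0, Int.ofNat 0, Int.ofNat 0, Int.ofNat 0, Int.ofNat 0, Int.ofNat 0, Int.ofNat 0],
  [Int.negSucc 0, Int.negSucc 0, Int.negSucc 0, Int.ofNat 1, Int.ofNat 1, Int.negSucc 0, Int.negSucc 0, Int.ofNat 1, Int.negSucc 0, Int.ofNat 1, Int.negSucc 0, Int.negSucc 0, Int.ofNat 1, Int.negSucc 0, Int.negSucc 0, Int.ofNat 1, Int.negSucc 0, Int.negSucc 0, Int.negSucc 0, Int.negSucc 0, Int.ofNat 1, Int.negSucc 0, Int.negSucc 0, Int.negSucc 2],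
  [Int.negSucc 0, Int.negSucc 0, Int.ofNat 1, Int.ofNat 1, Int.negSucc 0, Int.ofNat 1, Int.negSucc 0, Int.negSucc 0, Int.ofNat 1, Int.negSucc 0, Int.ofNat 1, Int.negSucc 0, Int.ofNat 1, Int.negSucc 0, Int.negSucc 0, Int.ofNat 1, Int.negSucc 0, Int.negSucc 0, Int.negSucc 0, Int.negSucc 0, Int.negSucc 0, Int.negSucc 0, Int.negSucc 0, Int.negSucc 2],
  [Int.negSucc 0, Int.negSucc 0, Int.negSucc 2, Int.ofNat 1, Int.ofNat 1, Int.ofNat 1, Int.ofNat 1, Int.ofNat 1, Int.ofNat 1, Int.negSucc 0, Int.ofNat 1, Int.negSucc 0, Int.ofNat 1, Int.ofNat 1, Int.negSucc 0, Int.ofNat 1, Int.ofNat 1, Int.negSucc 0, Int.negSucc 0, Int.ofNat 1, Int.negSucc 0, Int.ofNat 1, Int.ofNat 1, Int.ofNat 1],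
  [Int.negSucc 0, Int.negSucc 0, Int.ofNat 3, Int.ofNat 1, Int.ofNat 1, Int.negSucc 0, Int.negSucc 0, Int.ofNat 1, Int.ofNat 1, Int.ofNat 1, Int.negSucc 0, Int.negSucc 0, Int.ofNat 1, Int.ofNat 1, Int.negSucc 0, Int.negSucc 0, Int.ofNat 1, Int.negSucc 0, Int.ofNat 1, Int.ofNat 1, Int.negSucc 0, Int.ofNat 1, Int.negSucc 0, Int.ofNat 1],
  [Int.ofNat 1, Int.ofNat 1, Int.negSucc 0, Int.negSucc 0, Int.negSucc 0, Int.ofNat 1, Int.negSucc 0, Int.ofNat 1, Int.negSucc 0, Int.ofNat 1, Int.ofNat 1, Int.negSucc 0, Int.negSucc 0, Int.negSucc 0, Int.negSucc 0, Int.ofNat 1, Int.ofNat 3, Int.negSucc 0, Int.ofNat 1, Int.ofNat 1, Int.negSucc 0, Int.ofNat 1, Int.ofNat 1, Int.ofNat 1],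
  [Int.ofNat 1, Int.ofNat 1, Int.ofNat 1, Int.negSucc 0, Int.negSucc 0, Int.negSucc 0, Int.ofNat 1, Int.ofNat 1, Int.negSucc 0, Int.negSucc 0, Int.negSucc 0, Int.negSucc 0, Int.negSucc 0, Int.negSucc 0, Int.negSucc 0, Int.negSucc 0, Int.ofNat 3, Int.negSucc 0, Int.negSucc 0, Int.ofNat 1, Int.negSucc 0, Int.ofNat 1, Int.negSucc 0, Int.ofNat 1],
  [Int.ofNat 1, Int.ofNat 1, Int.ofNat 1, Int.ofNat 1, Int.negSucc 0, Int.ofNat 1, Int.negSucc 0, Int.negSucc 0, Int.ofNat 1, Int.ofNat 1, Int.ofNat 1, Int.ofNat 1, Int.ofNat 1, Int.negSucc 0, Int.ofNat 1, Int.ofNat 1, Int.ofNat 3, Int.ofNat 1, Int.ofNat 1, Int.negSucc 0, Int.ofNat 1, Int.negSucc 0, Int.negSucc 0, Int.ofNat 1],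
  [Int.ofNat 1, Int.ofNat 1, Int.negSucc 0, Int.ofNat 1, Int.ofNat 1, Int.negSucc 0, Int.ofNat 1, Int.ofNat 1, Int.ofNat 3, Int.ofNat 1, Int.negSucc 0, Int.negSucc 0, Int.ofNat 1, Int.ofNat 1, Int.ofNat 1, Int.ofNat 1, Int.negSucc 0, Int.ofNat 1, Int.negSucc 0, Int.negSucc 0, Int.ofNat 1, Int.ofNat 1, Int.ofNat 1, Int.ofNat 1],
  [Int.ofNat 0, Int.ofNat 0, Int.ofNat 2, Int.ofNat 0, Int.ofNat 0, Int.negSucc 1, Int.ofNat 0, Int.ofNat 0, Int.ofNat 2, Int.ofNat 0, Int.negSucc 1, Int.negSucc 1, Int.ofNat 0, Int.ofNat 0, Int.ofNat 0, Int.ofNat 0, Int.negSucc 1, Int.ofNat 0, Int.negSucc 1, Int.negSucc 1, Int.ofNat 0, Int.ofNat 0, Int.ofNat 0, Int.ofNat 0],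
  [Int.ofNat 0, Int.ofNat 0, Int.ofNat 0, Int.ofNat 0, Int.ofNat 0, Int.ofNat 2, Int.ofNat 0, Int.ofNat 0, Int.negSucc 1, Int.ofNat 0, Int.ofNat 0, Int.ofNat 2, Int.ofNat 0, Int.negSucc 1, Int.negSucc 1, Int.ofNat 0, Int.ofNat 0, Int.ofNat 0, Int.ofNat 0, Int.negSucc 1, Int.ofNat 0, Int.negSucc 1, Int.negSucc 1, Int.ofNat 0],
  [Int.ofNat 0, Int.ofNat 0, Int.ofNat 0, Int.ofNat 0, Int.ofNat 2, Int.ofNat 2, Int.ofNat 2, Int.ofNat 2, Int.negSucc 1, Int.ofNat 0, Int.ofNat 0, Int.ofNat 2, Int.ofNat 0, Int.ofNat 0, Int.negSucc 1, Int.ofNat 0, Int.ofNat 2, Int.ofNat 0, Int.ofNat 0, Int.ofNat 0, Int.ofNat 0, Int.ofNat 0, Int.ofNat 0, Int.ofNat 0],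
  [Int.ofNat 0, Int.ofNat 0, Int.ofNat 0, Int.ofNat 2, Int.ofNat 2, Int.ofNat 2, Int.ofNat 2, Int.negSucc 1, Int.ofNat 0, Int.ofNat 0, Int.ofNat 2, Int.ofNat 0, Int.ofNat 0, Int.negSucc 1, Int.ofNat 0, Int.ofNat 2, Int.ofNat 0, Int.ofNat 0, Int.ofNat 0, Int.ofNat 0, Int.ofNat 0, Int.ofNat 0, Int.ofNat 0, Int.ofNat 0],
  [Int.ofNat 0, Int.ofNat 0, Int.ofNat 0, Int.ofNat 2, Int.ofNat 2, Int.ofNat 2, Int.ofNat 2, Int.ofNat 2, Int.ofNat 0, Int.ofNat 0, Int.negSucc 1, Int.ofNat 0, Int.ofNat 0, Int.negSucc 1, Int.ofNat 0, Int.ofNat 2, Int.ofNat 0, Int.ofNat 0, Int.ofNat 0, Int.ofNat 0, Int.ofNat 0, Int.ofNat 0, Int.ofNat 0, Int.ofNat 0],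
  [Int.ofNat 0, Int.ofNat 0, Int.ofNat 0, Int.negSucc 1, Int.negSucc 1, Int.ofNat 2, Int.negSucc 1, Int.ofNat 2, Int.ofNat 0, Int.ofNat 0, Int.negSucc 1, Int.ofNat 0, Int.ofNat 0, Int.ofNat 2, Int.ofNat 0, Int.ofNat 2, Int.ofNat 0, Int.ofNat 0, Int.ofNat 0, Int.ofNat 0, Int.ofNat 0, Int.ofNat 0, Int.ofNat 0, Int.ofNat 0],
  [Int.ofNat 0, Int.ofNat 0, Int.ofNat 0, Int.ofNat 2, Int.ofNat 0, Int.ofNat 0, Int.ofNat 0, Int.ofNat 2, Int.ofNat 0, Int.ofNat 2, Int.ofNat 0, Int.ofNat 0, Int.ofNat 0, Int.ofNat 2, Int.ofNat 0, Int.negSucc 1, Int.negSucc 1, Int.negSucc 1, Int.ofNat 0, Int.negSucc 1, Int.ofNat 0, Int.ofNat 0, Int.ofNat 0, Int.ofNat 0],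
  [Int.ofNat 0, Int.ofNat 0, Int.ofNat 0, Int.ofNat 2, Int.ofNat 0, Int.ofNat 0, Int.ofNat 0, Int.negSucc 1, Int.ofNat 0, Int.negSucc 1, Int.ofNat 0, Int.ofNat 0, Int.ofNat 0, Int.ofNat 2, Int.ofNat 0, Int.negSucc 1, Int.negSucc 1, Int.negSucc 1, Int.ofNat 0, Int.negSucc 1, Int.ofNat 0, Int.ofNat 0, Int.ofNat 0, Int.ofNat 0],
  [Int.ofNat 0, Int.ofNat 0, Int.ofNat 0, Int.ofNat 0, Int.ofNat 2, Int.ofNat 0, Int.ofNat 0, Int.ofNat 0, Int.negSucc 1, Int.ofNat 0, Int.negSucc 1, Int.ofNat 0, Int.ofNat 0, Int.ofNat 0, Int.ofNat 2, Int.ofNat 0, Int.negSucc 1, Int.negSucc 1, Int.negSucc 1, Int.ofNat 0, Int.negSucc 1, Int.ofNat 0, Int.ofNat 0, Int.ofNat 0],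
  [Int.ofNat 0, Int.ofNat 0, Int.ofNat 0, Int.ofNat 0, Int.ofNat 2, Int.ofNat 0, Int.ofNat 0, Int.ofNat 0, Int.ofNat 0, Int.ofNat 2, Int.ofNat 0, Int.ofNat 2, Int.ofNat 2, Int.ofNat 0, Int.ofNat 2, Int.ofNat 2, Int.negSucc 1, Int.negSucc 1, Int.ofNat 0, Int.ofNat 0, Int.ofNat 0, Int.ofNat 0, Int.ofNat 0, Int.ofNat 0],
  [Int.ofNat 0, Int.ofNat 2, Int.ofNat 0, Int.ofNat 0, Int.ofNat 0, Int.ofNat 0, Int.ofNat 2, Int.ofNat 0, Int.ofNat 2, Int.ofNat 2, Int.ofNat 0, Int.ofNat 2, Int.ofNat 2, Int.negSucc 1, Int.negSucc 1, Int.ofNat 0, Int.ofNat 0, Int.ofNat 0, Int.ofNat 0, Int.ofNat 0, Int.ofNat 0, Int.ofNat 0, Int.ofNat 0, Int.ofNat 0],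
  [Int.ofNat 1, Int.negSucc 0, Int.ofNat 1, Int.ofNat 1, Int.ofNat 1, Int.ofNat 1, Int.ofNat 1, Int.negSucc 0, Int.negSucc 0, Int.ofNat 1, Int.negSucc 0, Int.negSucc 0, Int.negSucc 0, Int.negSucc 0, Int.negSucc 0, Int.negSucc 0, Int.ofNat 1, Int.ofNat 1, Int.negSucc 2, Int.negSucc 0, Int.negSucc 0, Int.negSucc 0, Int.ofNat 1, Int.ofNat 1],
  [Int.ofNat 1, Int.ofNat 1, Int.ofNat 1, Int.ofNat 1, Int.negSucc 2, Int.negSucc 0, Int.ofNat 1, Int.negSucc 0, Int.negSucc 0, Int.negSucc 0, Int.negSucc 0, Int.ofNat 1, Int.ofNat 1, Int.ofNat 1, Int.ofNat 1, Int.negSucc 0, Int.negSucc 0, Int.negSucc 0, Int.negSucc 0, Int.negSucc 0, Int.negSucc 0, Int.ofNat 1, Int.negSucc 0, Int.ofNat 1],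
  [Int.ofNat 1, Int.ofNat 1, Int.ofNat 1, Int.ofNat 1, Int.negSucc 0, Int.negSucc 0, Int.ofNat 1, Int.negSucc 0, Int.negSucc 0, Int.ofNat 1, Int.ofNat 1, Int.ofNat 1, Int.ofNat 1, Int.ofNat 3, Int.ofNat 1, Int.ofNat 1, Int.ofNat 1, Int.negSucc 0, Int.negSucc 0, Int.negSucc 0, Int.ofNat 1, Int.ofNat 1, Int.ofNat 1, Int.ofNat 1],
  [Int.ofNat 1, Int.ofNat 1, Int.negSucc 0, Int.ofNat 1, Int.negSucc 0, Int.ofNat 1, Int.negSucc 0, Int.negSucc 0, Int.negSucc 0, Int.negSucc 0, Int.negSucc 0, Int.ofNat 1, Int.ofNat 1, Int.ofNat 3, Int.ofNat 1, Int.negSucc 0, Int.ofNat 1, Int.negSucc 0, Int.ofNat 1, Int.negSucc 0, Int.ofNat 1, Int.ofNat 1, Int.negSucc 0, Int.ofNat 1],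
  [Int.ofNat 1, Int.negSucc 0, Int.negSucc 0, Int.ofNat 1, Int.ofNat 1, Int.negSucc 0, Int.negSucc 0, Int.ofNat 1, Int.ofNat 1, Int.negSucc 0, Int.negSucc 0, Int.ofNat 1, Int.negSucc 0, Int.negSucc 0, Int.negSucc 0, Int.ofNat 1, Int.negSucc 0, Int.ofNat 1, Int.ofNat 3, Int.negSucc 0, Int.ofNat 1, Int.ofNat 1, Int.ofNat 1, Int.ofNat 1],
  [Int.ofNat 1, Int.negSucc 0, Int.ofNat 1, Int.ofNat 1, Int.ofNat 1, Int.ofNat 1, Int.ofNat 1, Int.ofNat 1, Int.ofNat 1, Int.ofNat 1, Int.ofNat 1, Int.ofNat 1, Int.negSucc 0, Int.negSucc 0, Int.negSucc 0, Int.negSucc 0, Int.negSucc 0, Int.ofNat 1, Int.negSucc 2, Int.negSucc 0, Int.ofNat 1, Int.ofNat 1, Int.negSucc 0, Int.ofNat 1],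
  [Int.ofNat 0, Int.ofNat 2, Int.ofNat 0, Int.ofNat 0, Int.ofNat 2, Int.ofNat 0, Int.ofNat 0, Int.ofNat 0, Int.ofNat 2, Int.ofNat 0, Int.ofNat 0, Int.ofNat 2, Int.ofNat 0, Int.ofNat 0, Int.negSucc 1, Int.negSucc 1, Int.ofNat 0, Int.ofNat 0, Int.negSucc 1, Int.negSucc 1, Int.ofNat 0, Int.ofNat 0, Int.ofNat 0, Int.ofNat 0],
  [Int.ofNat 0, Int.negSucc 1, Int.ofNat 0, Int.ofNat 0, Int.ofNat 0, Int.ofNat 0, Int.ofNat 2, Int.ofNat 0, Int.ofNat 0, Int.ofNat 0, Int.ofNat 0, Int.negSucc 1, Int.ofNat 2, Int.ofNat 0, Int.ofNat 0, Int.negSucc 1, Int.ofNat 0, Int.ofNat 2, Int.ofNat 2, Int.ofNat 0, Int.ofNat 0, Int.ofNat 0, Int.negSucc 1, Int.ofNat 0],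
  [Int.negSucc 0, Int.ofNat 1, Int.negSucc 0, Int.negSucc 0, Int.ofNat 1, Int.negSucc 0, Int.ofNat 1, Int.negSucc 0, Int.negSucc 0, Int.ofNat 1, Int.ofNat 1, Int.negSucc 2, Int.ofNat 1, Int.ofNat 1, Int.negSucc 0, Int.negSucc 0, Int.ofNat 1, Int.ofNat 1, Int.ofNat 1, Int.negSucc 0, Int.ofNat 1, Int.negSucc 0, Int.negSucc 0, Int.negSucc 0],
  [Int.ofNat 1, Int.negSucc 0, Int.negSucc 0, Int.negSucc 0, Int.ofNat 1, Int.negSucc 0, Int.negSucc 0, Int.ofNat 1, Int.negSucc 0, Int.ofNat 1, Int.negSucc 0, Int.negSucc 0, Int.ofNat 1, Int.ofNat 1, Int.negSucc 2, Int.ofNat 1, Int.ofNat 1, Int.negSucc 0, Int.negSucc 0, Int.ofNat 1, Int.ofNat 1, Int.ofNat 1, Int.negSucc 0, Int.negSucc 0],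
  [Int.negSucc 1, Int.ofNat 0, Int.ofNat 0, Int.ofNat 2, Int.ofNat 0, Int.ofNat 2, Int.negSucc 1, Int.ofNat 0, Int.ofNat 0, Int.ofNat 0, Int.negSucc 1, Int.ofNat 0, Int.ofNat 2, Int.ofNat 0, Int.ofNat 0, Int.ofNat 0, Int.ofNat 0, Int.ofNat 2, Int.ofNat 0, Int.ofNat 0, Int.ofNat 0, Int.ofNat 0, Int.negSucc 1, Int.ofNat 0],
  [Int.ofNat 0, Int.ofNat 0, Int.ofNat 2, Int.ofNat 0, Int.ofNat 2, Int.negSucc 1, Int.ofNat 0, Int.ofNat 0, Int.ofNat 0, Int.negSucc 1, Int.ofNat 0, Int.ofNat 2, Int.ofNat 0, Int.ofNat 0, Int.ofNat 0, Int.ofNat 0, Int.ofNat 2, Int.ofNat 0, Int.ofNat 0, Int.ofNat 0, Int.ofNat 0, Int.negSucc 1, Int.negSucc 1, Int.ofNat 0],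
  [Int.ofNat 0, Int.ofNat 0, Int.negSucc 1, Int.ofNat 0, Int.ofNat 2, Int.negSucc 1, Int.ofNat 0, Int.ofNat 0, Int.ofNat 0, Int.ofNat 2, Int.ofNat 0, Int.negSucc 1, Int.ofNat 0, Int.ofNat 0, Int.ofNat 0, Int.ofNat 0, Int.ofNat 2, Int.ofNat 0, Int.ofNat 0, Int.ofNat 0, Int.ofNat 0, Int.ofNat 2, Int.negSucc 1, Int.ofNat 0],
  [Int.ofNat 0, Int.ofNat 0, Int.ofNat 2, Int.ofNat 0, Int.negSucc 1, Int.negSucc 1, Int.ofNat 0, Int.ofNat 0, Int.ofNat 0, Int.negSucc 1, Int.ofNat 0, Int.negSucc 1, Int.ofNat 0, Int.ofNat 0, Int.ofNat 0, Int.ofNat 0, Int.negSucc 1, Int.ofNat 0, Int.ofNat 0, Int.ofNat 0, Int.ofNat 0, Int.ofNat 2, Int.negSucc 1, Int.ofNat 0],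
  [Int.ofNat 0, Int.negSucc 1, Int.negSucc 1, Int.ofNat 0, Int.ofNat 0, Int.negSucc 1, Int.ofNat 0, Int.ofNat 0, Int.ofNat 0, Int.negSucc 1, Int.negSucc 1, Int.ofNat 2, Int.ofNat 2, Int.ofNat 0, Int.ofNat 0, Int.ofNat 0, Int.ofNat 0, Int.negSucc 1, Int.ofNat 0, Int.ofNat 0, Int.ofNat 0, Int.ofNat 0, Int.ofNat 0, Int.ofNat 0],
  [Int.ofNat 0, Int.negSucc 1, Int.ofNat 2, Int.ofNat 0, Int.ofNat 0, Int.negSucc 1, Int.ofNat 0, Int.ofNat 0, Int.ofNat 0, Int.ofNat 2, Int.ofNat 2, Int.negSucc 1, Int.ofNat 2, Int.ofNat 0, Int.ofNat 0, Int.ofNat 0, Int.ofNat 0, Int.negSucc 1, Int.ofNat 0, Int.ofNat 0, Int.ofNat 0, Int.ofNat 0, Int.ofNat 0, Int.ofNat 0],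
  [Int.ofNat 0, Int.ofNat 0, Int.negSucc 1, Int.ofNat 2, Int.ofNat 0, Int.ofNat 0, Int.negSucc 1, Int.ofNat 0, Int.ofNat 0, Int.ofNat 0, Int.ofNat 2, Int.ofNat 2, Int.negSucc 1, Int.ofNat 2, Int.ofNat 0, Int.ofNat 0, Int.ofNat 0, Int.ofNat 0, Int.negSucc 1, Int.ofNat 0, Int.ofNat 0, Int.ofNat 0, Int.ofNat 0, Int.ofNat 0],
  [Int.negSucc 0, Int.negSucc 0, Int.ofNat 1, Int.ofNat 1, Int.negSucc 0, Int.negSucc 0, Int.negSucc 0, Int.ofNat 1, Int.ofNat 1, Int.negSucc 0, Int.ofNat 1, Int.ofNat 3, Int.negSucc 0, Int.ofNat 1, Int.negSucc 0, Int.negSucc 0, Int.negSucc 0, Int.negSucc 0, Int.negSucc 0, Int.ofNat 1, Int.negSucc 0, Int.ofNat 1, Int.negSucc 0, Int.negSucc 0],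
  [Int.ofNat 1, Int.negSucc 0, Int.negSucc 0, Int.negSucc 0, Int.ofNat 1, Int.ofNat 1, Int.negSucc 0, Int.ofNat 1, Int.ofNat 3, Int.negSucc 0, Int.ofNat 1, Int.negSucc 0, Int.negSucc 0, Int.negSucc 0, Int.negSucc 0, Int.negSucc 0, Int.ofNat 1, Int.negSucc 0, Int.ofNat 1, Int.negSucc 0, Int.negSucc 0, Int.negSucc 0, Int.ofNat 1, Int.negSucc 0],
  [Int.negSucc 1, Int.ofNat 0, Int.ofNat 0, Int.ofNat 0, Int.ofNat 0, Int.ofNat 2, Int.ofNat 0, Int.ofNat 2, Int.ofNat 2, Int.ofNat 0, Int.ofNat 2, Int.negSucc 1, Int.negSucc 1, Int.negSucc 1, Int.ofNat 0, Int.ofNat 0, Int.ofNat 0, Int.ofNat 0, Int.ofNat 0, Int.ofNat 0, Int.ofNat 0, Int.ofNat 0, Int.ofNat 0, Int.ofNat 0],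
  [Int.negSucc 1, Int.ofNat 0, Int.ofNat 0, Int.ofNat 0, Int.ofNat 0, Int.ofNat 2, Int.ofNat 0, Int.ofNat 2, Int.negSucc 1, Int.negSucc 1, Int.ofNat 0, Int.ofNat 0, Int.ofNat 0, Int.ofNat 0, Int.ofNat 0, Int.ofNat 0, Int.ofNat 2, Int.ofNat 0, Int.ofNat 0, Int.negSucc 1, Int.ofNat 0, Int.ofNat 2, Int.ofNat 0, Int.ofNat 0],
  [Int.ofNat 1, Int.negSucc 0, Int.negSucc 0, Int.negSucc 0, Int.negSucc 0, Int.ofNat 1, Int.negSucc 0, Int.ofNat 1, Int.negSucc 0, Int.negSucc 0, Int.ofNat 1, Int.ofNat 1, Int.ofNat 1, Int.negSucc 0, Int.negSucc 0, Int.ofNat 1, Int.ofNat 1, Int.negSucc 0, Int.ofNat 1, Int.negSucc 2, Int.ofNat 1, Int.ofNat 1, Int.negSucc 0, Int.negSucc 0],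
  [Int.ofNat 1, Int.negSucc 0, Int.ofNat 1, Int.negSucc 0, Int.negSucc 0, Int.negSucc 0, Int.ofNat 1, Int.ofNat 1, Int.negSucc 0, Int.ofNat 1, Int.negSucc 0, Int.ofNat 1, Int.ofNat 1, Int.negSucc 0, Int.negSucc 0, Int.negSucc 0, Int.ofNat 1, Int.negSucc 0, Int.negSucc 0, Int.negSucc 2, Int.ofNat 1, Int.ofNat 1, Int.ofNat 1, Int.negSucc 0],
  [Int.negSucc 0, Int.negSucc 2, Int.negSucc 0, Int.ofNat 1, Int.negSucc 0, Int.negSucc 0, Int.negSucc 0, Int.ofNat 1, Int.negSucc 0, Int.negSucc 0, Int.ofNat 1, Int.ofNat 1, Int.negSucc 0, Int.ofNat 1, Int.ofNat 1, Int.negSucc 0, Int.ofNat 1, Int.ofNat 1, Int.negSucc 0, Int.ofNat 1, Int.negSucc 0, Int.ofNat 1, Int.ofNat 1, Int.negSucc 0],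
  [Int.negSucc 0, Int.negSucc 2, Int.ofNat 1, Int.ofNat 1, Int.negSucc 0, Int.ofNat 1, Int.ofNat 1, Int.ofNat 1, Int.negSucc 0, Int.ofNat 1, Int.negSucc 0, Int.ofNat 1, Int.negSucc 0, Int.ofNat 1, Int.ofNat 1, Int.ofNat 1, Int.ofNat 1, Int.ofNat 1, Int.ofNat 1, Int.ofNat 1, Int.negSucc 0, Int.ofNat 1, Int.negSucc 0, Int.negSucc 0],
  [Int.negSucc 0, Int.ofNat 1, Int.negSucc 2, Int.negSucc 0, Int.negSucc 0, Int.negSucc 0, Int.negSucc 0, Int.negSucc 0, Int.negSucc 0, Int.ofNat 1, Int.negSucc 0, Int.ofNat 1, Int.negSucc 0, Int.ofNat 1, Int.negSucc 0, Int.ofNat 1, Int.ofNat 1, Int.negSucc 0, Int.ofNat 1, Int.negSucc 0, Int.negSucc 0, Int.negSucc 0, Int.negSucc 0, Int.negSucc 0],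
  [Int.negSucc 0, Int.ofNat 1, Int.negSucc 0, Int.negSucc 0, Int.negSucc 2, Int.negSucc 0, Int.ofNat 1, Int.negSucc 0, Int.ofNat 1, Int.negSucc 0, Int.negSucc 0, Int.negSucc 0, Int.negSucc 0, Int.ofNat 1, Int.negSucc 0, Int.ofNat 1, Int.ofNat 1, Int.ofNat 1, Int.negSucc 0, Int.negSucc 0, Int.negSucc 0, Int.negSucc 0, Int.negSucc 0, Int.negSucc 0],
  [Int.ofNat 0, Int.negSucc 1, Int.ofNat 0, Int.ofNat 0, Int.negSucc 1, Int.ofNat 0, Int.ofNat 2, Int.ofNat 0, Int.ofNat 2, Int.ofNat 0, Int.ofNat 0, Int.ofNat 0, Int.ofNat 0, Int.ofNat 2, Int.ofNat 0, Int.ofNat 2, Int.ofNat 2, Int.ofNat 2, Int.ofNat 0, Int.ofNat 0, Int.ofNat 0, Int.ofNat 0, Int.ofNat 0, Int.ofNat 0],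
  [Int.ofNat 0, Int.ofNat 0, Int.ofNat 0, Int.ofNat 0, Int.negSucc 1, Int.ofNat 0, Int.ofNat 0, Int.negSucc 1, Int.ofNat 0, Int.ofNat 2, Int.ofNat 0, Int.ofNat 2, Int.ofNat 0, Int.ofNat 0, Int.ofNat 0, Int.ofNat 0, Int.ofNat 2, Int.ofNat 0, Int.ofNat 2, Int.ofNat 2, Int.ofNat 2, Int.ofNat 0, Int.ofNat 0, Int.ofNat 0],
  [Int.ofNat 0, Int.ofNat 0, Int.ofNat 0, Int.ofNat 0, Int.negSucc 1, Int.ofNat 0, Int.ofNat 0, Int.negSucc 1, Int.negSucc 1, Int.ofNat 0, Int.negSucc 1, Int.ofNat 0, Int.negSucc 1, Int.ofNat 0, Int.ofNat 0, Int.negSucc 1, Int.ofNat 2, Int.ofNat 0, Int.ofNat 0, Int.ofNat 2, Int.ofNat 0, Int.ofNat 0, Int.ofNat 0, Int.ofNat 0],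
  [Int.ofNat 0, Int.ofNat 0, Int.ofNat 0, Int.negSucc 1, Int.ofNat 0, Int.ofNat 0, Int.negSucc 1, Int.negSucc 1, Int.ofNat 0, Int.negSucc 1, Int.ofNat 0, Int.negSucc 1, Int.ofNat 0, Int.ofNat 0, Int.negSucc 1, Int.ofNat 2, Int.ofNat 0, Int.ofNat 0, Int.ofNat 2, Int.ofNat 0, Int.ofNat 0, Int.ofNat 0, Int.ofNat 0, Int.ofNat 0],
  [Int.ofNat 0, Int.ofNat 0, Int.ofNat 0, Int.negSucc 1, Int.ofNat 0, Int.ofNat 0, Int.negSucc 1, Int.ofNat 2, Int.ofNat 0, Int.ofNat 2, Int.ofNat 0, Int.ofNat 2, Int.ofNat 0, Int.ofNat 0, Int.negSucc 1, Int.ofNat 2, Int.ofNat 0, Int.ofNat 0, Int.negSucc 1, Int.ofNat 0, Int.ofNat 0, Int.ofNat 0, Int.ofNat 0, Int.ofNat 0],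
  [Int.ofNat 0, Int.ofNat 0, Int.ofNat 0, Int.ofNat 2, Int.ofNat 0, Int.ofNat 0, Int.ofNat 2, Int.ofNat 2, Int.ofNat 0, Int.negSucc 1, Int.ofNat 0, Int.ofNat 2, Int.ofNat 0, Int.ofNat 0, Int.negSucc 1, Int.ofNat 2, Int.ofNat 0, Int.ofNat 0, Int.ofNat 2, Int.ofNat 0, Int.ofNat 0, Int.ofNat 0, Int.ofNat 0, Int.ofNat 0],
  [Int.ofNat 0, Int.ofNat 0, Int.ofNat 2, Int.ofNat 2, Int.ofNat 0, Int.negSucc 1, Int.ofNat 0, Int.ofNat 0, Int.ofNat 0, Int.ofNat 0, Int.ofNat 0, Int.ofNat 0, Int.ofNat 0, Int.ofNat 2, Int.ofNat 2, Int.ofNat 2, Int.ofNat 0, Int.ofNat 0, Int.negSucc 1, Int.ofNat 2, Int.ofNat 0, Int.ofNat 0, Int.ofNat 0, Int.ofNat 0],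
  [Int.ofNat 0, Int.ofNat 0, Int.negSucc 1, Int.ofNat 2, Int.ofNat 0, Int.negSucc 1, Int.ofNat 0, Int.ofNat 0, Int.ofNat 0, Int.ofNat 0, Int.ofNat 0, Int.ofNat 0, Int.ofNat 0, Int.ofNat 2, Int.ofNat 2, Int.ofNat 2, Int.ofNat 0, Int.ofNat 0, Int.ofNat 2, Int.ofNat 2, Int.ofNat 0, Int.ofNat 0, Int.ofNat 0, Int.ofNat 0],
  [Int.ofNat 0, Int.ofNat 0, Int.ofNat 0, Int.negSucc 1, Int.ofNat 2, Int.ofNat 0, Int.negSucc 1, Int.ofNat 0, Int.ofNat 0, Int.ofNat 0, Int.ofNat 0, Int.ofNat 0, Int.ofNat 0, Int.ofNat 0, Int.ofNat 2, Int.ofNat 2, Int.ofNat 2, Int.ofNat 0, Int.ofNat 0, Int.ofNat 2, Int.ofNat 2, Int.ofNat 0, Int.ofNat 0, Int.ofNat 0],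
  [Int.ofNat 0, Int.ofNat 0, Int.ofNat 0, Int.negSucc 1, Int.ofNat 0, Int.ofNat 0, Int.negSucc 1, Int.ofNat 0, Int.ofNat 0, Int.negSucc 1, Int.negSucc 1, Int.ofNat 0, Int.ofNat 0, Int.negSucc 1, Int.ofNat 2, Int.ofNat 0, Int.ofNat 0, Int.ofNat 0, Int.ofNat 0, Int.ofNat 2, Int.ofNat 0, Int.ofNat 0, Int.negSucc 1, Int.ofNat 0],
  [Int.negSucc 1, Int.ofNat 0, Int.ofNat 0, Int.negSucc 1, Int.ofNat 0, Int.ofNat 0, Int.negSucc 1, Int.negSucc 1, Int.ofNat 0, Int.ofNat 0, Int.negSucc 1, Int.ofNat 2, Int.ofNat 0, Int.ofNat 0, Int.ofNat 0, Int.ofNat 0, Int.ofNat 2, Int.ofNat 0, Int.ofNat 0, Int.negSucc 1, Int.ofNat 0, Int.ofNat 0, Int.ofNat 0, Int.ofNat 0],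
  [Int.ofNat 1, Int.negSucc 0, Int.negSucc 0, Int.negSucc 0, Int.negSucc 0, Int.ofNat 1, Int.ofNat 1, Int.ofNat 1, Int.negSucc 0, Int.ofNat 1, Int.negSucc 0, Int.ofNat 1, Int.negSucc 0, Int.negSucc 0, Int.ofNat 1, Int.ofNat 1, Int.ofNat 1, Int.ofNat 1, Int.negSucc 0, Int.ofNat 1, Int.ofNat 1, Int.ofNat 3, Int.negSucc 0, Int.negSucc 0],
  [Int.ofNat 1, Int.ofNat 1, Int.negSucc 0, Int.negSucc 0, Int.negSucc 0, Int.ofNat 1, Int.negSucc 0, Int.negSucc 0, Int.negSucc 0, Int.negSucc 0, Int.ofNat 1, Int.ofNat 1, Int.ofNat 1, Int.ofNat 1, Int.negSucc 0, Int.ofNat 1, Int.negSucc 0, Int.ofNat 1, Int.negSucc 0, Int.ofNat 1, Int.ofNat 3, Int.ofNat 1, Int.ofNat 1, Int.negSucc 0],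
  [Int.negSucc 0, Int.negSucc 0, Int.ofNat 1, Int.negSucc 0, Int.negSucc 0, Int.ofNat 1, Int.negSucc 0, Int.negSucc 0, Int.negSucc 0, Int.negSucc 2, Int.negSucc 0, Int.ofNat 1, Int.ofNat 1, Int.ofNat 1, Int.negSucc 0, Int.negSucc 0, Int.negSucc 0, Int.ofNat 1, Int.negSucc 0, Int.ofNat 1, Int.ofNat 1, Int.ofNat 1, Int.ofNat 1, Int.ofNat 1],
  [Int.negSucc 0, Int.negSucc 0, Int.negSucc 0, Int.negSucc 0, Int.negSucc 0, Int.negSucc 0, Int.ofNat 1, Int.negSucc 0, Int.negSucc 0, Int.ofNat 3, Int.ofNat 1, Int.ofNat 1, Int.ofNat 1, Int.ofNat 1, Int.negSucc 0, Int.ofNat 1, Int.negSucc 0, Int.ofNat 1, Int.ofNat 1, Int.ofNat 1, Int.ofNat 1, Int.ofNat 1, Int.negSucc 0, Int.ofNat 1],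
  [Int.ofNat 1, Int.ofNat 1, Int.ofNat 1, Int.ofNat 1, Int.negSucc 0, Int.negSucc 0, Int.ofNat 1, Int.ofNat 1, Int.negSucc 0, Int.negSucc 0, Int.ofNat 3, Int.negSucc 0, Int.ofNat 1, Int.ofNat 1, Int.negSucc 0, Int.negSucc 0, Int.negSucc 0, Int.ofNat 1, Int.ofNat 1, Int.negSucc 0, Int.negSucc 0, Int.negSucc 0, Int.ofNat 1, Int.ofNat 1],
  [Int.ofNat 1, Int.ofNat 1, Int.negSucc 0, Int.ofNat 1, Int.negSucc 0, Int.ofNat 1, Int.negSucc 0, Int.ofNat 1, Int.negSucc 0, Int.ofNat 1, Int.negSucc 2, Int.negSucc 0, Int.ofNat 1, Int.ofNat 1, Int.negSucc 0, Int.ofNat 1, Int.negSucc 0, Int.ofNat 1, Int.negSucc 0, Int.negSucc 0, Int.negSucc 0, Int.negSucc 0, Int.negSucc 0, Int.ofNat 1],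
  [Int.ofNat 0, Int.ofNat 0, Int.ofNat 2, Int.ofNat 0, Int.ofNat 0, Int.ofNat 0, Int.ofNat 0, Int.ofNat 2, Int.ofNat 0, Int.ofNat 2, Int.negSucc 1, Int.ofNat 0, Int.ofNat 2, Int.ofNat 2, Int.negSucc 1, Int.ofNat 2, Int.ofNat 0, Int.ofNat 0, Int.ofNat 0, Int.ofNat 0, Int.ofNat 0, Int.ofNat 0, Int.ofNat 0, Int.ofNat 0],
  [Int.ofNat 0, Int.ofNat 0, Int.ofNat 0, Int.ofNat 0, Int.ofNat 2, Int.ofNat 0, Int.ofNat 0, Int.ofNat 0, Int.ofNat 0, Int.ofNat 2, Int.ofNat 2, Int.ofNat 0, Int.ofNat 0, Int.ofNat 2, Int.ofNat 0, Int.ofNat 2, Int.ofNat 2, Int.ofNat 0, Int.ofNat 0, Int.ofNat 0, Int.negSucc 1, Int.ofNat 0, Int.negSucc 1, Int.ofNat 0],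
  [Int.ofNat 0, Int.ofNat 0, Int.ofNat 0, Int.ofNat 0, Int.ofNat 0, Int.ofNat 0, Int.ofNat 0, Int.ofNat 0, Int.ofNat 0, Int.ofNat 0, Int.ofNat 0, Int.ofNat 0, Int.ofNat 0, Int.ofNat 0, Int.ofNat 0, Int.ofNat 0, Int.ofNat 0, Int.ofNat 0, Int.ofNat 0, Int.ofNat 0, Int.negSucc 3, Int.ofNat 0, Int.negSucc 3, Int.ofNat 0],
  [Int.negSucc 3, Int.ofNat 0, Int.negSucc 3, Int.ofNat 0, Int.ofNat 0, Int.ofNat 0, Int.ofNat 0, Int.ofNat 0, Int.ofNat 0, Int.ofNat 0, Int.ofNat 0, Int.ofNat 0, Int.ofNat 0, Int.ofNat 0, Int.ofNat 0, Int.ofNat 0, Int.ofNat 0, Int.ofNat 0, Int.ofNat 0, Int.ofNat 0, Int.ofNat 0, Int.ofNat 0, Int.ofNat 0, Int.ofNat 0],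
  [Int.ofNat 0, Int.negSucc 3, Int.ofNat 0, Int.ofNat 0, Int.ofNat 0, Int.ofNat 0, Int.ofNat 0, Int.ofNat 0, Int.ofNat 0, Int.ofNat 0, Int.ofNat 0, Int.ofNat 0, Int.ofNat 0, Int.ofNat 0, Int.ofNat 0, Int.ofNat 0, Int.ofNat 0, Int.ofNat 0, Int.ofNat 0, Int.ofNat 0, Int.ofNat 0, Int.ofNat 0, Int.ofNat 0, Int.negSucc 3],
  [Int.negSucc 3, Int.ofNat 0, Int.ofNat 0, Int.ofNat 0, Int.ofNat 0, Int.ofNat 0, Int.ofNat 0, Int.ofNat 0, Int.ofNat 0, Int.ofNat 0, Int.ofNat 0, Int.ofNat 0, Int.ofNat 0, Int.ofNat 0, Int.ofNat 0, Int.ofNat 0, Int.ofNat 0, Int.ofNat 0, Int.ofNat 0, Int.ofNat 0, Int.ofNat 0, Int.ofNat 0, Int.ofNat 0, Int.negSucc 3],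
  [Int.ofNat 4, Int.ofNat 0, Int.ofNat 0, Int.ofNat 0, Int.ofNat 0, Int.ofNat 0, Int.ofNat 0, Int.ofNat 0, Int.ofNat 0, Int.ofNat 0, Int.ofNat 0, Int.ofNat 0, Int.ofNat 0, Int.ofNat 0, Int.ofNat 0, Int.ofNat 0, Int.ofNat 0, Int.ofNat 0, Int.ofNat 0, Int.ofNat 0, Int.ofNat 0, Int.ofNat 0, Int.ofNat 0, Int.negSucc 3],
  [Int.negSucc 3, Int.ofNat 0, Int.ofNat 0, Int.ofNat 0, Int.ofNat 0, Int.ofNat 0, Int.ofNat 0, Int.ofNat 0, Int.ofNat 0, Int.ofNat 0, Int.ofNat 0, Int.ofNat 0, Int.ofNat 0, Int.ofNat 0, Int.ofNat 0, Int.ofNat 0, Int.ofNat 0, Int.ofNat 0, Int.ofNat 0, Int.ofNat 0, Int.ofNat 0, Int.ofNat 0, Int.ofNat 0, Int.negSucc 3],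
  [Int.negSucc 3, Int.ofNat 0, Int.ofNat 0, Int.ofNat 0, Int.ofNat 0, Int.ofNat 0, Int.ofNat 0, Int.ofNat 0, Int.ofNat 0, Int.ofNat 0, Int.ofNat 0, Int.ofNat 0, Int.ofNat 0, Int.ofNat 0, Int.ofNat 0, Int.ofNat 0, Int.ofNat 0, Int.ofNat 0, Int.ofNat 0, Int.ofNat 0, Int.ofNat 0, Int.ofNat 0, Int.ofNat 0, Int.negSucc 3],
  [Int.ofNat 4, Int.ofNat 0, Int.ofNat 0, Int.ofNat 0, Int.ofNat 0, Int.ofNat 0, Int.ofNat 0, Int.ofNat 0, Int.ofNat 0, Int.ofNat 0, Int.ofNat 0, Int.ofNat 0, Int.ofNat 0, Int.ofNat 0, Int.ofNat 0, Int.ofNat 0, Int.ofNat 0, Int.ofNat 0, Int.ofNat 0, Int.ofNat 0, Int.ofNat 0, Int.ofNat 0, Int.ofNat 0, Int.negSucc 3],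
  [Int.ofNat 0, Int.ofNat 4, Int.ofNat 0, Int.ofNat 0, Int.ofNat 0, Int.ofNat 0, Int.ofNat 0, Int.ofNat 0, Int.ofNat 0, Int.ofNat 0, Int.ofNat 0, Int.ofNat 0, Int.ofNat 0, Int.ofNat 0, Int.ofNat 0, Int.ofNat 0, Int.ofNat 0, Int.ofNat 0, Int.ofNat 0, Int.ofNat 0, Int.ofNat 0, Int.ofNat 0, Int.ofNat 0, Int.negSucc 3],
  [Int.ofNat 0, Int.negSucc 3, Int.ofNat 0, Int.ofNat 0, Int.ofNat 0, Int.ofNat 0, Int.ofNat 0, Int.ofNat 0, Int.ofNat 0, Int.ofNat 0, Int.ofNat 0, Int.ofNat 0, Int.ofNat 0, Int.ofNat 0, Int.ofNat 0, Int.ofNat 0, Int.ofNat 0, Int.ofNat 0, Int.ofNat 0, Int.ofNat 0, Int.ofNat 0, Int.ofNat 0, Int.ofNat 0, Int.ofNat 4],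
  [Int.ofNat 0, Int.ofNat 0, Int.ofNat 0, Int.ofNat 0, Int.ofNat 0, Int.ofNat 0, Int.ofNat 0, Int.ofNat 0, Int.ofNat 0, Int.ofNat 0, Int.ofNat 0, Int.ofNat 0, Int.ofNat 0, Int.ofNat 0, Int.ofNat 0, Int.ofNat 0, Int.ofNat 0, Int.ofNat 0, Int.ofNat 0, Int.ofNat 0, Int.ofNat 0, Int.negSucc 3, Int.ofNat 0, Int.ofNat 4],
  [Int.ofNat 2, Int.ofNat 2, Int.ofNat 2, Int.ofNat 0, Int.ofNat 0, Int.ofNat 0, Int.ofNat 2, Int.ofNat 2, Int.ofNat 0, Int.ofNat 0, Int.ofNat 0, Int.ofNat 0, Int.ofNat 0, Int.ofNat 0, Int.ofNat 0, Int.ofNat 0, Int.ofNat 0, Int.ofNat 0, Int.ofNat 0, Int.ofNat 2, Int.ofNat 0, Int.negSucc 1, Int.ofNat 0, Int.negSucc 1],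
  [Int.ofNat 2, Int.ofNat 2, Int.ofNat 0, Int.ofNat 0, Int.ofNat 0, Int.ofNat 2, Int.ofNat 2, Int.ofNat 0, Int.ofNat 0, Int.ofNat 0, Int.ofNat 0, Int.ofNat 0, Int.ofNat 0, Int.ofNat 0, Int.ofNat 0, Int.ofNat 0, Int.ofNat 0, Int.ofNat 0, Int.ofNat 2, Int.ofNat 0, Int.negSucc 1, Int.ofNat 0, Int.ofNat 2, Int.negSucc 1],
  [Int.negSucc 0, Int.negSucc 0, Int.ofNat 1, Int.negSucc 0, Int.negSucc 0, Int.ofNat 1, Int.ofNat 1, Int.negSucc 0, Int.negSucc 0, Int.ofNat 1, Int.ofNat 1, Int.negSucc 0, Int.negSucc 0, Int.negSucc 0, Int.negSucc 0, Int.ofNat 1, Int.negSucc 0, Int.negSucc 0, Int.ofNat 1, Int.negSucc 0, Int.negSucc 0, Int.negSucc 0, Int.ofNat 1, Int.ofNat 3],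
  [Int.negSucc 0, Int.negSucc 0, Int.negSucc 0, Int.negSucc 0, Int.negSucc 0, Int.negSucc 0, Int.negSucc 0, Int.negSucc 0, Int.negSucc 0, Int.negSucc 0, Int.negSucc 0, Int.negSucc 0, Int.negSucc 0, Int.negSucc 0, Int.negSucc 0, Int.negSucc 0, Int.negSucc 0, Int.negSucc 0, Int.negSucc 0, Int.negSucc 0, Int.negSucc 0, Int.negSucc 0, Int.negSucc 0, Int.ofNat 3],
  [Int.negSucc 0, Int.negSucc 0, Int.negSucc 0, Int.negSucc 0, Int.negSucc 0, Int.negSucc 0, Int.negSucc 0, Int.negSucc 0, Int.negSucc 0, Int.negSucc 0, Int.negSucc 0, Int.negSucc 0, Int.negSucc 0, Int.negSucc 0, Int.negSucc 0, Int.negSucc 0, Int.negSucc 0, Int.negSucc 0, Int.negSucc 0, Int.negSucc 0, Int.negSucc 0, Int.negSucc 0, Int.negSucc 0, Int.ofNat 3],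
  [Int.negSucc 0, Int.negSucc 0, Int.ofNat 1, Int.negSucc 0, Int.negSucc 0, Int.ofNat 1, Int.ofNat 1, Int.negSucc 0, Int.negSucc 0, Int.ofNat 1, Int.ofNat 1, Int.negSucc 0, Int.negSucc 0, Int.negSucc 0, Int.negSucc 0, Int.ofNat 1, Int.negSucc 0, Int.negSucc 0, Int.ofNat 1, Int.negSucc 0, Int.negSucc 0, Int.negSucc 0, Int.ofNat 1, Int.ofNat 3],
  [Int.ofNat 2, Int.ofNat 2, Int.ofNat 0, Int.ofNat 0, Int.ofNat 0, Int.ofNat 2, Int.ofNat 2, Int.ofNat 0, Int.ofNat 0, Int.ofNat 0, Int.ofNat 0, Int.ofNat 0, Int.ofNat 0, Int.ofNat 0, Int.ofNat 0, Int.ofNat 0, Int.ofNat 0, Int.ofNat 0, Int.ofNat 2, Int.ofNat 0, Int.negSucc 1, Int.ofNat 0, Int.ofNat 2, Int.negSucc 1],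
  [Int.ofNat 2, Int.ofNat 2, Int.ofNat 2, Int.ofNat 0, Int.ofNat 0, Int.ofNat 0, Int.ofNat 2, Int.ofNat 2, Int.ofNat 0, Int.ofNat 0, Int.ofNat 0, Int.ofNat 0, Int.ofNat 0, Int.ofNat 0, Int.ofNat 0, Int.ofNat 0, Int.ofNat 0, Int.ofNat 0, Int.ofNat 0, Int.ofNat 2, Int.ofNat 0, Int.negSucc 1, Int.ofNat 0, Int.negSucc 1],
  [Int.ofNat 0, Int.ofNat 0, Int.ofNat 0, Int.ofNat 0, Int.ofNat 0, Int.ofNat 0, Int.ofNat 0, Int.ofNat 0, Int.ofNat 0, Int.ofNat 0, Int.ofNat 0, Int.ofNat 0, Int.ofNat 0, Int.ofNat 0, Int.ofNat 0, Int.ofNat 0, Int.ofNat 0, Int.ofNat 0, Int.ofNat 0, Int.ofNat 0, Int.ofNat 0, Int.negSucc 3, Int.ofNat 0, Int.ofNat 4],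
  [Int.ofNat 0, Int.negSucc 3, Int.ofNat 0, Int.ofNat 0, Int.ofNat 0, Int.ofNat 0, Int.ofNat 0, Int.ofNat 0, Int.ofNat 0, Int.ofNat 0, Int.ofNat 0, Int.ofNat 0, Int.ofNat 0, Int.ofNat 0, Int.ofNat 0, Int.ofNat 0, Int.ofNat 0, Int.ofNat 0, Int.ofNat 0, Int.ofNat 0, Int.ofNat 0, Int.ofNat 0, Int.ofNat 0, Int.ofNat 4],
  [Int.ofNat 0, Int.ofNat 4, Int.ofNat 0, Int.ofNat 0, Int.ofNat 0, Int.ofNat 0, Int.ofNat 0, Int.ofNat 0, Int.ofNat 0, Int.ofNat 0, Int.ofNat 0, Int.ofNat 0, Int.ofNat 0, Int.ofNat 0, Int.ofNat 0, Int.ofNat 0, Int.ofNat 0, Int.ofNat 0, Int.ofNat 0, Int.ofNat 0, Int.ofNat 0, Int.ofNat 0, Int.ofNat 0, Int.negSucc 3],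
  [Int.ofNat 4, Int.ofNat 0, Int.ofNat 0, Int.ofNat 0, Int.ofNat 0, Int.ofNat 0, Int.ofNat 0, Int.ofNat 0, Int.ofNat 0, Int.ofNat 0, Int.ofNat 0, Int.ofNat 0, Int.ofNat 0, Int.ofNat 0, Int.ofNat 0, Int.ofNat 0, Int.ofNat 0, Int.ofNat 0, Int.ofNat 0, Int.ofNat 0, Int.ofNat 0, Int.ofNat 0, Int.ofNat 0, Int.negSucc 3],
  [Int.negSucc 3, Int.ofNat 0, Int.ofNat 0, Int.ofNat 0, Int.ofNat 0, Int.ofNat 0, Int.ofNat 0, Int.ofNat 0, Int.ofNat 0, Int.ofNat 0, Int.ofNat 0, Int.ofNat 0, Int.ofNat 0, Int.ofNat 0, Int.ofNat 0, Int.ofNat 0, Int.ofNat 0, Int.ofNat 0, Int.ofNat 0, Int.ofNat 0, Int.ofNat 0, Int.ofNat 0, Int.ofNat 0, Int.negSucc 3],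
  [Int.ofNat 4, Int.ofNat 0, Int.ofNat 0, Int.ofNat 0, Int.ofNat 0, Int.ofNat 0, Int.ofNat 0, Int.ofNat 0, Int.ofNat 0, Int.ofNat 0, Int.ofNat 0, Int.ofNat 0, Int.ofNat 0, Int.ofNat 0, Int.ofNat 0, Int.ofNat 0, Int.ofNat 0, Int.ofNat 0, Int.ofNat 0, Int.ofNat 0, Int.ofNat 0, Int.ofNat 0, Int.ofNat 0, Int.negSucc 3],
  [Int.negSucc 3, Int.ofNat 0, Int.ofNat 0, Int.ofNat 0, Int.ofNat 0, Int.ofNat 0, Int.ofNat 0, Int.ofNat 0, Int.ofNat 0, Int.ofNat 0, Int.ofNat 0, Int.ofNat 0, Int.ofNat 0, Int.ofNat 0, Int.ofNat 0, Int.ofNat 0, Int.ofNat 0, Int.ofNat 0, Int.ofNat 0, Int.ofNat 0, Int.ofNat 0, Int.ofNat 0, Int.ofNat 0, Int.ofNat 4],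
  [Int.ofNat 4, Int.ofNat 0, Int.ofNat 0, Int.ofNat 0, Int.ofNat 0, Int.ofNat 0, Int.ofNat 0, Int.ofNat 0, Int.ofNat 0, Int.ofNat 0, Int.ofNat 0, Int.ofNat 0, Int.ofNat 0, Int.ofNat 0, Int.ofNat 0, Int.ofNat 0, Int.ofNat 0, Int.ofNat 0, Int.ofNat 0, Int.ofNat 0, Int.ofNat 0, Int.ofNat 0, Int.ofNat 0, Int.ofNat 4],
  [Int.ofNat 0, Int.ofNat 4, Int.ofNat 0, Int.ofNat 0, Int.ofNat 0, Int.ofNat 0, Int.ofNat 0, Int.ofNat 0, Int.ofNat 0, Int.ofNat 0, Int.ofNat 0, Int.ofNat 0, Int.ofNat 0, Int.ofNat 0, Int.ofNat 0, Int.ofNat 0, Int.ofNat 0, Int.ofNat 0, Int.ofNat 0, Int.ofNat 0, Int.ofNat 0, Int.ofNat 0, Int.ofNat 0, Int.ofNat 4],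
  [Int.ofNat 4, Int.ofNat 0, Int.ofNat 4, Int.ofNat 0, Int.ofNat 0, Int.ofNat 0, Int.ofNat 0, Int.ofNat 0, Int.ofNat 0, Int.ofNat 0, Int.ofNat 0, Int.ofNat 0, Int.ofNat 0, Int.ofNat 0, Int.ofNat 0, Int.ofNat 0, Int.ofNat 0, Int.ofNat 0, Int.ofNat 0, Int.ofNat 0, Int.ofNat 0, Int.ofNat 0, Int.ofNat 0, Int.ofNat 0],
  [Int.ofNat 0, Int.ofNat 0, Int.ofNat 0, Int.ofNat 0, Int.ofNat 0, Int.ofNat 0, Int.ofNat 0, Int.ofNat 0, Int.ofNat 0, Int.ofNat 0, Int.ofNat 0, Int.ofNat 0, Int.ofNat 0, Int.ofNat 0, Int.ofNat 0, Int.ofNat 0, Int.ofNat 0, Int.ofNat 0, Int.ofNat 0, Int.ofNat 0, Int.ofNat 4, Int.ofNat 0, Int.ofNat 4, Int.ofNat 0],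
  [Int.ofNat 0, Int.ofNat 0, Int.ofNat 0, Int.ofNat 0, Int.negSucc 1, Int.ofNat 0, Int.ofNat 0, Int.ofNat 0, Int.ofNat 0, Int.negSucc 1, Int.negSucc 1, Int.ofNat 0, Int.ofNat 0, Int.negSucc 1, Int.ofNat 0, Int.negSucc 1, Int.negSucc 1, Int.ofNat 0, Int.ofNat 0, Int.ofNat 0, Int.ofNat 2, Int.ofNat 0, Int.ofNat 2, Int.ofNat 0],
  [Int.ofNat 0, Int.ofNat 0, Int.negSucc 1, Int.ofNat 0, Int.ofNat 0, Int.ofNat 0, Int.ofNat 0, Int.negSucc 1, Int.ofNat 0, Int.negSucc 1, Int.ofNat 2, Int.ofNat 0, Int.negSucc 1, Int.negSucc 1, Int.ofNat 2, Int.negSucc 1, Int.ofNat 0, Int.ofNat 0, Int.ofNat 0, Int.ofNat 0, Int.ofNat 0, Int.ofNat 0, Int.ofNat 0, Int.ofNat 0],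
  [Int.negSucc 0, Int.negSucc 0, Int.ofNat 1, Int.negSucc 0, Int.ofNat 1, Int.negSucc 0, Int.ofNat 1, Int.negSucc 0, Int.ofNat 1, Int.negSucc 0, Int.ofNat 3, Int.ofNat 1, Int.negSucc 0, Int.negSucc 0, Int.ofNat 1, Int.negSucc 0, Int.ofNat 1, Int.negSucc 0, Int.ofNat 1, Int.ofNat 1, Int.ofNat 1, Int.ofNat 1, Int.ofNat 1, Int.negSucc 0],
  [Int.negSucc 0, Int.negSucc 0, Int.negSucc 0, Int.negSucc 0, Int.ofNat 1, Int.ofNat 1, Int.negSucc 0, Int.negSucc 0, Int.ofNat 1, Int.ofNat 1, Int.negSucc 2, Int.ofNat 1, Int.negSucc 0, Int.negSucc 0, Int.ofNat 1, Int.ofNat 1, Int.ofNat 1, Int.negSucc 0, Int.negSucc 0, Int.ofNat 1, Int.ofNat 1, Int.ofNat 1, Int.negSucc 0, Int.negSucc 0],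
  [Int.negSucc 0, Int.ofNat 1, Int.negSucc 0, Int.ofNat 1, Int.ofNat 1, Int.ofNat 1, Int.negSucc 2, Int.ofNat 1, Int.negSucc 0, Int.ofNat 1, Int.ofNat 1, Int.negSucc 0, Int.ofNat 1, Int.negSucc 0, Int.negSucc 0, Int.negSucc 0, Int.negSucc 0, Int.ofNat 1, Int.negSucc 0, Int.negSucc 0, Int.ofNat 1, Int.ofNat 1, Int.negSucc 0, Int.negSucc 0],
  [Int.negSucc 0, Int.ofNat 1, Int.ofNat 1, Int.ofNat 1, Int.ofNat 1, Int.negSucc 0, Int.ofNat 3, Int.ofNat 1, Int.negSucc 0, Int.negSucc 0, Int.negSucc 0, Int.negSucc 0, Int.ofNat 1, Int.negSucc 0, Int.negSucc 0, Int.ofNat 1, Int.negSucc 0, Int.ofNat 1, Int.ofNat 1, Int.negSucc 0, Int.ofNat 1, Int.ofNat 1, Int.ofNat 1, Int.negSucc 0],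
  [Int.ofNat 1, Int.negSucc 0, Int.negSucc 0, Int.ofNat 1, Int.ofNat 1, Int.negSucc 0, Int.ofNat 1, Int.negSucc 0, Int.negSucc 0, Int.negSucc 0, Int.negSucc 0, Int.negSucc 0, Int.ofNat 1, Int.negSucc 0, Int.negSucc 0, Int.ofNat 1, Int.negSucc 0, Int.ofNat 1, Int.ofNat 1, Int.negSucc 2, Int.ofNat 1, Int.negSucc 0, Int.ofNat 1, Int.ofNat 1],
  [Int.ofNat 1, Int.ofNat 1, Int.ofNat 1, Int.ofNat 1, Int.negSucc 0, Int.negSucc 0, Int.negSucc 0, Int.negSucc 0, Int.negSucc 0, Int.ofNat 1, Int.negSucc 0, Int.negSucc 2, Int.negSucc 0, Int.negSucc 0, Int.ofNat 1, Int.ofNat 1, Int.negSucc 0, Int.negSucc 0, Int.ofNat 1, Int.ofNat 1, Int.negSucc 0, Int.ofNat 1, Int.negSucc 0, Int.ofNat 1],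
  [Int.ofNat 1, Int.ofNat 1, Int.ofNat 1, Int.ofNat 1, Int.ofNat 1, Int.negSucc 0, Int.negSucc 0, Int.negSucc 0, Int.ofNat 1, Int.ofNat 1, Int.negSucc 0, Int.negSucc 0, Int.ofNat 1, Int.ofNat 1, Int.ofNat 1, Int.ofNat 1, Int.ofNat 1, Int.negSucc 0, Int.ofNat 3, Int.ofNat 1, Int.negSucc 0, Int.ofNat 1, Int.ofNat 1, Int.ofNat 1],
  [Int.negSucc 0, Int.ofNat 1, Int.ofNat 1, Int.ofNat 1, Int.ofNat 1, Int.ofNat 1, Int.ofNat 1, Int.ofNat 1, Int.negSucc 0, Int.negSucc 0, Int.negSucc 0, Int.ofNat 1, Int.ofNat 1, Int.negSucc 0, Int.negSucc 0, Int.ofNat 1, Int.ofNat 1, Int.ofNat 1, Int.ofNat 1, Int.ofNat 1, Int.negSucc 0, Int.ofNat 3, Int.ofNat 1, Int.ofNat 1],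
  [Int.ofNat 2, Int.ofNat 0, Int.ofNat 0, Int.ofNat 0, Int.ofNat 0, Int.ofNat 0, Int.negSucc 1, Int.negSucc 1, Int.negSucc 1, Int.ofNat 0, Int.ofNat 0, Int.ofNat 0, Int.ofNat 0, Int.negSucc 1, Int.negSucc 1, Int.ofNat 2, Int.ofNat 0, Int.ofNat 0, Int.ofNat 0, Int.negSucc 1, Int.ofNat 0, Int.ofNat 0, Int.ofNat 0, Int.ofNat 0],
  [Int.ofNat 0, Int.ofNat 0, Int.ofNat 0, Int.ofNat 0, Int.ofNat 0, Int.negSucc 1, Int.negSucc 1, Int.negSucc 1, Int.ofNat 0, Int.ofNat 0, Int.ofNat 0, Int.ofNat 0, Int.negSucc 1, Int.negSucc 1, Int.ofNat 2, Int.ofNat 0, Int.ofNat 0, Int.ofNat 0, Int.negSucc 1, Int.ofNat 0, Int.ofNat 0, Int.ofNat 0, Int.ofNat 2, Int.ofNat 0],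
  [Int.ofNat 0, Int.ofNat 0, Int.ofNat 0, Int.ofNat 0, Int.ofNat 0, Int.negSucc 1, Int.negSucc 1, Int.ofNat 2, Int.ofNat 0, Int.ofNat 0, Int.ofNat 0, Int.ofNat 0, Int.negSucc 1, Int.negSucc 1, Int.ofNat 2, Int.ofNat 0, Int.ofNat 0, Int.ofNat 0, Int.ofNat 2, Int.ofNat 0, Int.ofNat 0, Int.ofNat 0, Int.ofNat 2, Int.ofNat 0]]

set_option maxRecDepth 100000 in
theorem c1e10_chk : pmChk (List.replicate 14 [10, 0, 25]).flatten nxL c1e10M 0 0 = true := by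
  decide +kernel

theorem c1e10_ne : wE letE2 (List.replicate 14 [10, 0, 25]).flatten ≠ 1 ∧ wE letE2 (List.replicate 14 [10, 0, 25]).flatten ≠ negElt :=
  ne_pm_of_chk nxL_mem c1e10_chk

set_option maxRecDepth 100000 in
def c1e11M : List (List ℤ) :=
  [[Int.ofNat 4, Int.ofNat 0, Int.ofNat 0, Int.ofNat 0, Int.ofNat 0, Int.ofNat 0, Int.ofNat 0, Int.ofNat 0, Int.ofNat 0, Int.ofNat 0, Int.ofNat 0, Int.ofNat 0, Int.ofNat 0, Int.ofNat 0, Int.ofNat 0, Int.ofNat 0, Int.ofNat 0, Int.ofNat 0, Int.ofNat 0, Int.ofNat 0, Int.ofNat 0, Int.ofNat 0, Int.ofNat 0, Int.ofNat 4],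
  [Int.ofNat 4, Int.ofNat 0, Int.ofNat 0, Int.ofNat 0, Int.ofNat 0, Int.ofNat 0, Int.ofNat 0, Int.ofNat 0, Int.ofNat 0, Int.ofNat 0, Int.ofNat 0, Int.ofNat 0, Int.ofNat 0, Int.ofNat 0, Int.ofNat 0, Int.ofNat 0, Int.ofNat 0, Int.ofNat 0, Int.ofNat 0, Int.ofNat 0, Int.ofNat 0, Int.ofNat 0, Int.ofNat 0, Int.ofNat 4],
  [Int.negSucc 3, Int.ofNat 0, Int.ofNat 0, Int.ofNat 0, Int.ofNat 0, Int.ofNat 0, Int.ofNat 0, Int.ofNat 0, Int.ofNat 0, Int.ofNat 0, Int.ofNat 0, Int.ofNat 0, Int.ofNat 0, Int.ofNat 0, Int.ofNat 0, Int.ofNat 0, Int.ofNat 0, Int.ofNat 0, Int.ofNat 0, Int.ofNat 0, Int.ofNat 0, Int.ofNat 0, Int.ofNat 0, Int.ofNat 4],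
  [Int.ofNat 0, Int.negSucc 3, Int.ofNat 0, Int.ofNat 0, Int.ofNat 0, Int.ofNat 0, Int.ofNat 0, Int.ofNat 0, Int.ofNat 0, Int.ofNat 0, Int.ofNat 0, Int.ofNat 0, Int.ofNat 0, Int.ofNat 0, Int.ofNat 0, Int.ofNat 0, Int.ofNat 0, Int.ofNat 0, Int.ofNat 0, Int.ofNat 0, Int.ofNat 0, Int.ofNat 0, Int.ofNat 0, Int.ofNat 4],
  [Int.ofNat 0, Int.ofNat 4, Int.ofNat 0, Int.ofNat 0, Int.ofNat 0, Int.ofNat 0, Int.ofNat 0, Int.ofNat 0, Int.ofNat 0, Int.ofNat 0, Int.ofNat 0, Int.ofNat 0, Int.ofNat 0, Int.ofNat 0, Int.ofNat 0, Int.ofNat 0, Int.ofNat 0, Int.ofNat 0, Int.ofNat 0, Int.ofNat 0, Int.ofNat 0, Int.ofNat 0, Int.ofNat 0, Int.negSucc 3],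
  [Int.ofNat 0, Int.ofNat 0, Int.ofNat 0, Int.ofNat 0, Int.ofNat 0, Int.ofNat 0, Int.ofNat 0, Int.ofNat 0, Int.ofNat 0, Int.ofNat 0, Int.ofNat 0, Int.ofNat 0, Int.ofNat 0, Int.ofNat 0, Int.ofNat 0, Int.ofNat 0, Int.ofNat 0, Int.ofNat 0, Int.ofNat 0, Int.ofNat 0, Int.ofNat 0, Int.ofNat 4, Int.ofNat 0, Int.negSucc 3],
  [Int.negSucc 1, Int.negSucc 1, Int.negSucc 1, Int.ofNat 0, Int.ofNat 0, Int.ofNat 0, Int.negSucc 1, Int.negSucc 1, Int.ofNat 0, Int.ofNat 0, Int.ofNat 0, Int.ofNat 0, Int.ofNat 0, Int.ofNat 0, Int.ofNat 0, Int.ofNat 0, Int.ofNat 0, Int.ofNat 0, Int.ofNat 0, Int.negSucc 1, Int.ofNat 0, Int.ofNat 2, Int.ofNat 0, Int.ofNat 2],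
  [Int.negSucc 1, Int.negSucc 1, Int.ofNat 0, Int.ofNat 0, Int.ofNat 0, Int.negSucc 1, Int.negSucc 1, Int.ofNat 0, Int.ofNat 0, Int.ofNat 0, Int.ofNat 0, Int.ofNat 0, Int.ofNat 0, Int.ofNat 0, Int.ofNat 0, Int.ofNat 0, Int.ofNat 0, Int.ofNat 0, Int.negSucc 1, Int.ofNat 0, Int.ofNat 2, Int.ofNat 0, Int.negSucc 1, Int.ofNat 2],
  [Int.ofNat 1, Int.ofNat 1, Int.negSucc 0, Int.ofNat 1, Int.ofNat 1, Int.negSucc 0, Int.negSucc 0, Int.ofNat 1, Int.ofNat 1, Int.negSucc 0, Int.negSucc 0, Int.ofNat 1, Int.ofNat 1, Int.ofNat 1, Int.ofNat 1, Int.negSucc 0, Int.ofNat 1, Int.ofNat 1, Int.negSucc 0, Int.ofNat 1, Int.ofNat 1, Int.ofNat 1, Int.negSucc 0, Int.negSucc 2],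
  [Int.ofNat 1, Int.ofNat 1, Int.ofNat 1, Int.ofNat 1, Int.ofNat 1, Int.ofNat 1, Int.ofNat 1, Int.ofNat 1, Int.ofNat 1, Int.ofNat 1, Int.ofNat 1, Int.ofNat 1, Int.ofNat 1, Int.ofNat 1, Int.ofNat 1, Int.ofNat 1, Int.ofNat 1, Int.ofNat 1, Int.ofNat 1, Int.ofNat 1, Int.ofNat 1, Int.ofNat 1, Int.ofNat 1, Int.negSucc 2],
  [Int.ofNat 1, Int.ofNat 1, Int.ofNat 1, Int.ofNat 1, Int.ofNat 1, Int.ofNat 1, Int.ofNat 1, Int.ofNat 1, Int.ofNat 1, Int.ofNat 1, Int.ofNat 1, Int.ofNat 1, Int.ofNat 1, Int.ofNat 1, Int.ofNat 1, Int.ofNat 1, Int.ofNat 1, Int.ofNat 1, Int.ofNat 1, Int.ofNat 1, Int.ofNat 1, Int.ofNat 1, Int.ofNat 1, Int.negSucc 2],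
  [Int.ofNat 1, Int.ofNat 1, Int.negSucc 0, Int.ofNat 1, Int.ofNat 1, Int.negSucc 0, Int.negSucc 0, Int.ofNat 1, Int.ofNat 1, Int.negSucc 0, Int.negSucc 0, Int.ofNat 1, Int.ofNat 1, Int.ofNat 1, Int.ofNat 1, Int.negSucc 0, Int.ofNat 1, Int.ofNat 1, Int.negSucc 0, Int.ofNat 1, Int.ofNat 1, Int.ofNat 1, Int.negSucc 0, Int.negSucc 2],
  [Int.negSucc 1, Int.negSucc 1, Int.ofNat 0, Int.ofNat 0, Int.ofNat 0, Int.negSucc 1, Int.negSucc 1, Int.ofNat 0, Int.ofNat 0, Int.ofNat 0, Int.ofNat 0, Int.ofNat 0, Int.ofNat 0, Int.ofNat 0, Int.ofNat 0, Int.ofNat 0, Int.ofNat 0, Int.ofNat 0, Int.negSucc 1, Int.ofNat 0, Int.ofNat 2, Int.ofNat 0, Int.negSucc 1, Int.ofNat 2],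
  [Int.negSucc 1, Int.negSucc 1, Int.negSucc 1, Int.ofNat 0, Int.ofNat 0, Int.ofNat 0, Int.negSucc 1, Int.negSucc 1, Int.ofNat 0, Int.ofNat 0, Int.ofNat 0, Int.ofNat 0, Int.ofNat 0, Int.ofNat 0, Int.ofNat 0, Int.ofNat 0, Int.ofNat 0, Int.ofNat 0, Int.ofNat 0, Int.negSucc 1, Int.ofNat 0, Int.ofNat 2, Int.ofNat 0, Int.ofNat 2],
  [Int.ofNat 0, Int.ofNat 0, Int.ofNat 0, Int.ofNat 0, Int.ofNat 0, Int.ofNat 0, Int.ofNat 0, Int.ofNat 0, Int.ofNat 0, Int.ofNat 0, Int.ofNat 0, Int.ofNat 0, Int.ofNat 0, Int.ofNat 0, Int.ofNat 0, Int.ofNat 0, Int.ofNat 0, Int.ofNat 0, Int.ofNat 0, Int.ofNat 0, Int.ofNat 0, Int.ofNat 4, Int.ofNat 0, Int.negSucc 3],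
  [Int.ofNat 0, Int.ofNat 4, Int.ofNat 0, Int.ofNat 0, Int.ofNat 0, Int.ofNat 0, Int.ofNat 0, Int.ofNat 0, Int.ofNat 0, Int.ofNat 0, Int.ofNat 0, Int.ofNat 0, Int.ofNat 0, Int.ofNat 0, Int.ofNat 0, Int.ofNat 0, Int.ofNat 0, Int.ofNat 0, Int.ofNat 0, Int.ofNat 0, Int.ofNat 0, Int.ofNat 0, Int.ofNat 0, Int.negSucc 3],
  [Int.ofNat 0, Int.negSucc 3, Int.ofNat 0, Int.ofNat 0, Int.ofNat 0, Int.ofNat 0, Int.ofNat 0, Int.ofNat 0, Int.ofNat 0, Int.ofNat 0, Int.ofNat 0, Int.ofNat 0, Int.ofNat 0, Int.ofNat 0, Int.ofNat 0, Int.ofNat 0, Int.ofNat 0, Int.ofNat 0, Int.ofNat 0, Int.ofNat 0, Int.ofNat 0, Int.ofNat 0, Int.ofNat 0, Int.ofNat 4],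
  [Int.negSucc 3, Int.ofNat 0, Int.ofNat 0, Int.ofNat 0, Int.ofNat 0, Int.ofNat 0, Int.ofNat 0, Int.ofNat 0, Int.ofNat 0, Int.ofNat 0, Int.ofNat 0, Int.ofNat 0, Int.ofNat 0, Int.ofNat 0, Int.ofNat 0, Int.ofNat 0, Int.ofNat 0, Int.ofNat 0, Int.ofNat 0, Int.ofNat 0, Int.ofNat 0, Int.ofNat 0, Int.ofNat 0, Int.ofNat 4],
  [Int.ofNat 4, Int.ofNat 0, Int.ofNat 0, Int.ofNat 0, Int.ofNat 0, Int.ofNat 0, Int.ofNat 0, Int.ofNat 0, Int.ofNat 0, Int.ofNat 0, Int.ofNat 0, Int.ofNat 0, Int.ofNat 0, Int.ofNat 0, Int.ofNat 0, Int.ofNat 0, Int.ofNat 0, Int.ofNat 0, Int.ofNat 0, Int.ofNat 0, Int.ofNat 0, Int.ofNat 0, Int.ofNat 0, Int.ofNat 4],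
  [Int.negSucc 3, Int.ofNat 0, Int.ofNat 0, Int.ofNat 0, Int.ofNat 0, Int.ofNat 0, Int.ofNat 0, Int.ofNat 0, Int.ofNat 0, Int.ofNat 0, Int.ofNat 0, Int.ofNat 0, Int.ofNat 0, Int.ofNat 0, Int.ofNat 0, Int.ofNat 0, Int.ofNat 0, Int.ofNat 0, Int.ofNat 0, Int.ofNat 0, Int.ofNat 0, Int.ofNat 0, Int.ofNat 0, Int.ofNat 4],
  [Int.ofNat 4, Int.ofNat 0, Int.ofNat 0, Int.ofNat 0, Int.ofNat 0, Int.ofNat 0, Int.ofNat 0, Int.ofNat 0, Int.ofNat 0, Int.ofNat 0, Int.ofNat 0, Int.ofNat 0, Int.ofNat 0, Int.ofNat 0, Int.ofNat 0, Int.ofNat 0, Int.ofNat 0, Int.ofNat 0, Int.ofNat 0, Int.ofNat 0, Int.ofNat 0, Int.ofNat 0, Int.ofNat 0, Int.negSucc 3],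
  [Int.negSucc 3, Int.ofNat 0, Int.ofNat 0, Int.ofNat 0, Int.ofNat 0, Int.ofNat 0, Int.ofNat 0, Int.ofNat 0, Int.ofNat 0, Int.ofNat 0, Int.ofNat 0, Int.ofNat 0, Int.ofNat 0, Int.ofNat 0, Int.ofNat 0, Int.ofNat 0, Int.ofNat 0, Int.ofNat 0, Int.ofNat 0, Int.ofNat 0, Int.ofNat 0, Int.ofNat 0, Int.ofNat 0, Int.negSucc 3],
  [Int.ofNat 0, Int.negSucc 3, Int.ofNat 0, Int.ofNat 0, Int.ofNat 0, Int.ofNat 0, Int.ofNat 0, Int.ofNat 0, Int.ofNat 0, Int.ofNat 0, Int.ofNat 0, Int.ofNat 0, Int.ofNat 0, Int.ofNat 0, Int.ofNat 0, Int.ofNat 0, Int.ofNat 0, Int.ofNat 0, Int.ofNat 0, Int.ofNat 0, Int.ofNat 0, Int.ofNat 0, Int.ofNat 0, Int.negSucc 3],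
  [Int.negSucc 3, Int.ofNat 0, Int.negSucc 3, Int.ofNat 0, Int.ofNat 0, Int.ofNat 0, Int.ofNat 0, Int.ofNat 0, Int.ofNat 0, Int.ofNat 0, Int.ofNat 0, Int.ofNat 0, Int.ofNat 0, Int.ofNat 0, Int.ofNat 0, Int.ofNat 0, Int.ofNat 0, Int.ofNat 0, Int.ofNat 0, Int.ofNat 0, Int.ofNat 0, Int.ofNat 0, Int.ofNat 0, Int.ofNat 0],
  [Int.ofNat 0, Int.ofNat 0, Int.ofNat 0, Int.ofNat 0, Int.ofNat 0, Int.ofNat 0, Int.ofNat 0, Int.ofNat 0, Int.ofNat 0, Int.ofNat 0, Int.ofNat 0, Int.ofNat 0, Int.ofNat 0, Int.ofNat 0, Int.ofNat 0, Int.ofNat 0, Int.ofNat 0, Int.ofNat 0, Int.ofNat 0, Int.ofNat 0, Int.negSucc 3, Int.ofNat 0, Int.negSucc 3, Int.ofNat 0],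
  [Int.ofNat 0, Int.ofNat 0, Int.ofNat 0, Int.ofNat 0, Int.ofNat 2, Int.ofNat 0, Int.ofNat 0, Int.ofNat 0, Int.ofNat 0, Int.ofNat 2, Int.ofNat 2, Int.ofNat 0, Int.ofNat 0, Int.ofNat 2, Int.ofNat 0, Int.ofNat 2, Int.ofNat 2, Int.ofNat 0, Int.ofNat 0, Int.ofNat 0, Int.negSucc 1, Int.ofNat 0, Int.negSucc 1, Int.ofNat 0],
  [Int.ofNat 0, Int.ofNat 0, Int.ofNat 2, Int.ofNat 0, Int.ofNat 0, Int.ofNat 0, Int.ofNat 0, Int.ofNat 2, Int.ofNat 0, Int.ofNat 2, Int.negSucc 1, Int.ofNat 0, Int.ofNat 2, Int.ofNat 2, Int.negSucc 1, Int.ofNat 2, Int.ofNat 0, Int.ofNat 0, Int.ofNat 0, Int.ofNat 0, Int.ofNat 0, Int.ofNat 0, Int.ofNat 0, Int.ofNat 0],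
  [Int.ofNat 1, Int.ofNat 1, Int.negSucc 0, Int.ofNat 1, Int.negSucc 0, Int.ofNat 1, Int.negSucc 0, Int.ofNat 1, Int.negSucc 0, Int.ofNat 1, Int.negSucc 2, Int.negSucc 0, Int.ofNat 1, Int.ofNat 1, Int.negSucc 0, Int.ofNat 1, Int.negSucc 0, Int.ofNat 1, Int.negSucc 0, Int.negSucc 0, Int.negSucc 0, Int.negSucc 0, Int.negSucc 0, Int.ofNat 1],
  [Int.ofNat 1, Int.ofNat 1, Int.ofNat 1, Int.ofNat 1, Int.negSucc 0, Int.negSucc 0, Int.ofNat 1, Int.ofNat 1, Int.negSucc 0, Int.negSucc 0, Int.ofNat 3, Int.negSucc 0, Int.ofNat 1, Int.ofNat 1, Int.negSucc 0, Int.negSucc 0, Int.negSucc 0, Int.ofNat 1, Int.ofNat 1, Int.negSucc 0, Int.negSucc 0, Int.negSucc 0, Int.ofNat 1, Int.ofNat 1],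
  [Int.negSucc 0, Int.negSucc 0, Int.negSucc 0, Int.negSucc 0, Int.ofNat 1, Int.ofNat 1, Int.ofNat 1, Int.ofNat 1, Int.negSucc 0, Int.negSucc 0, Int.negSucc 0, Int.negSucc 0, Int.ofNat 3, Int.negSucc 0, Int.ofNat 1, Int.negSucc 0, Int.ofNat 1, Int.ofNat 1, Int.ofNat 1, Int.ofNat 1, Int.ofNat 1, Int.negSucc 0, Int.ofNat 1, Int.ofNat 1],
  [Int.negSucc 0, Int.negSucc 0, Int.ofNat 1, Int.negSucc 0, Int.ofNat 1, Int.negSucc 0, Int.negSucc 0, Int.ofNat 1, Int.negSucc 0, Int.ofNat 1, Int.ofNat 1, Int.negSucc 0, Int.ofNat 3, Int.negSucc 0, Int.ofNat 1, Int.ofNat 1, Int.ofNat 1, Int.ofNat 1, Int.negSucc 0, Int.ofNat 1, Int.ofNat 1, Int.negSucc 0, Int.negSucc 0, Int.ofNat 1],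
  [Int.ofNat 1, Int.ofNat 1, Int.negSucc 0, Int.negSucc 0, Int.ofNat 1, Int.negSucc 0, Int.negSucc 0, Int.ofNat 1, Int.negSucc 0, Int.negSucc 0, Int.negSucc 0, Int.negSucc 0, Int.ofNat 3, Int.negSucc 0, Int.ofNat 1, Int.negSucc 0, Int.ofNat 1, Int.ofNat 1, Int.negSucc 0, Int.ofNat 1, Int.negSucc 0, Int.negSucc 0, Int.negSucc 0, Int.negSucc 0],
  [Int.ofNat 1, Int.negSucc 0, Int.negSucc 0, Int.negSucc 0, Int.negSucc 0, Int.negSucc 0, Int.ofNat 1, Int.negSucc 0, Int.ofNat 1, Int.ofNat 3, Int.ofNat 1, Int.ofNat 1, Int.negSucc 0, Int.negSucc 0, Int.ofNat 1, Int.negSucc 0, Int.negSucc 0, Int.negSucc 0, Int.ofNat 1, Int.negSucc 0, Int.negSucc 0, Int.negSucc 0, Int.ofNat 1, Int.negSucc 0],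
  [Int.negSucc 1, Int.ofNat 0, Int.ofNat 0, Int.ofNat 0, Int.ofNat 0, Int.ofNat 0, Int.ofNat 2, Int.ofNat 0, Int.ofNat 0, Int.ofNat 2, Int.ofNat 0, Int.ofNat 0, Int.negSucc 1, Int.ofNat 0, Int.ofNat 2, Int.negSucc 1, Int.ofNat 0, Int.ofNat 0, Int.ofNat 0, Int.ofNat 0, Int.negSucc 1, Int.ofNat 0, Int.ofNat 2, Int.ofNat 0],
  [Int.negSucc 1, Int.ofNat 0, Int.ofNat 2, Int.negSucc 1, Int.ofNat 0, Int.ofNat 0, Int.ofNat 0, Int.ofNat 0, Int.ofNat 0, Int.ofNat 2, Int.ofNat 0, Int.ofNat 0, Int.ofNat 2, Int.ofNat 0, Int.ofNat 0, Int.negSucc 1, Int.ofNat 0, Int.ofNat 2, Int.negSucc 1, Int.ofNat 0, Int.ofNat 0, Int.ofNat 0, Int.ofNat 0, Int.ofNat 0],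
  [Int.ofNat 2, Int.ofNat 0, Int.negSucc 1, Int.negSucc 1, Int.ofNat 0, Int.ofNat 0, Int.ofNat 0, Int.ofNat 0, Int.ofNat 0, Int.ofNat 2, Int.ofNat 0, Int.ofNat 0, Int.ofNat 2, Int.ofNat 0, Int.ofNat 0, Int.negSucc 1, Int.ofNat 0, Int.ofNat 2, Int.negSucc 1, Int.ofNat 0, Int.ofNat 0, Int.ofNat 0, Int.ofNat 0, Int.ofNat 0],
  [Int.ofNat 0, Int.negSucc 1, Int.negSucc 1, Int.ofNat 0, Int.ofNat 0, Int.ofNat 0, Int.ofNat 0, Int.ofNat 0, Int.ofNat 2, Int.ofNat 0, Int.ofNat 0, Int.ofNat 2, Int.ofNat 0, Int.ofNat 0, Int.negSucc 1, Int.ofNat 0, Int.ofNat 2, Int.negSucc 1, Int.ofNat 0, Int.ofNat 0, Int.ofNat 0, Int.ofNat 0, Int.ofNat 2, Int.ofNat 0],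
  [Int.ofNat 0, Int.negSucc 1, Int.ofNat 2, Int.ofNat 0, Int.ofNat 0, Int.ofNat 0, Int.ofNat 0, Int.ofNat 0, Int.ofNat 2, Int.ofNat 0, Int.ofNat 0, Int.negSucc 1, Int.ofNat 0, Int.ofNat 0, Int.negSucc 1, Int.ofNat 0, Int.ofNat 2, Int.negSucc 1, Int.ofNat 0, Int.ofNat 0, Int.ofNat 0, Int.ofNat 0, Int.ofNat 2, Int.ofNat 0],
  [Int.ofNat 0, Int.ofNat 2, Int.negSucc 1, Int.ofNat 0, Int.ofNat 0, Int.ofNat 0, Int.ofNat 0, Int.ofNat 0, Int.negSucc 1, Int.ofNat 0, Int.ofNat 0, Int.negSucc 1, Int.ofNat 0, Int.ofNat 0, Int.negSucc 1, Int.ofNat 0, Int.negSucc 1, Int.negSucc 1, Int.ofNat 0, Int.ofNat 0, Int.ofNat 0, Int.ofNat 0, Int.ofNat 2, Int.ofNat 0],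
  [Int.ofNat 0, Int.ofNat 2, Int.negSucc 1, Int.ofNat 0, Int.negSucc 1, Int.ofNat 0, Int.ofNat 0, Int.ofNat 0, Int.ofNat 0, Int.ofNat 0, Int.negSucc 1, Int.negSucc 1, Int.ofNat 0, Int.ofNat 0, Int.ofNat 0, Int.ofNat 0, Int.ofNat 0, Int.ofNat 0, Int.negSucc 1, Int.ofNat 0, Int.negSucc 1, Int.ofNat 0, Int.ofNat 2, Int.ofNat 0],
  [Int.ofNat 0, Int.ofNat 2, Int.ofNat 2, Int.ofNat 0, Int.negSucc 1, Int.ofNat 0, Int.ofNat 0, Int.ofNat 0, Int.ofNat 0, Int.ofNat 0, Int.ofNat 2, Int.ofNat 2, Int.ofNat 0, Int.ofNat 0, Int.ofNat 0, Int.ofNat 0, Int.ofNat 0, Int.ofNat 0, Int.ofNat 2, Int.ofNat 0, Int.negSucc 1, Int.ofNat 0, Int.ofNat 2, Int.ofNat 0],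
  [Int.ofNat 2, Int.ofNat 0, Int.ofNat 2, Int.ofNat 2, Int.ofNat 0, Int.negSucc 1, Int.ofNat 0, Int.ofNat 0, Int.ofNat 0, Int.ofNat 0, Int.ofNat 0, Int.ofNat 2, Int.ofNat 2, Int.ofNat 0, Int.ofNat 0, Int.ofNat 0, Int.ofNat 0, Int.ofNat 0, Int.ofNat 0, Int.ofNat 2, Int.ofNat 0, Int.negSucc 1, Int.ofNat 0, Int.ofNat 0],
  [Int.ofNat 0, Int.ofNat 2, Int.ofNat 0, Int.ofNat 2, Int.ofNat 0, Int.negSucc 1, Int.ofNat 0, Int.ofNat 0, Int.negSucc 1, Int.ofNat 0, Int.ofNat 0, Int.ofNat 0, Int.ofNat 0, Int.ofNat 0, Int.ofNat 0, Int.ofNat 0, Int.ofNat 0, Int.ofNat 0, Int.negSucc 1, Int.ofNat 2, Int.ofNat 0, Int.negSucc 1, Int.ofNat 0, Int.ofNat 2],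
  [Int.ofNat 2, Int.ofNat 0, Int.negSucc 1, Int.ofNat 0, Int.ofNat 0, Int.negSucc 1, Int.ofNat 0, Int.ofNat 0, Int.ofNat 0, Int.ofNat 0, Int.ofNat 0, Int.ofNat 0, Int.ofNat 0, Int.ofNat 0, Int.ofNat 0, Int.negSucc 1, Int.ofNat 2, Int.ofNat 0, Int.negSucc 1, Int.ofNat 0, Int.ofNat 0, Int.ofNat 2, Int.ofNat 0, Int.ofNat 2],
  [Int.negSucc 0, Int.ofNat 1, Int.ofNat 3, Int.ofNat 1, Int.negSucc 0, Int.negSucc 0, Int.negSucc 0, Int.negSucc 0, Int.ofNat 1, Int.ofNat 1, Int.ofNat 1, Int.ofNat 1, Int.ofNat 1, Int.negSucc 0, Int.ofNat 1, Int.negSucc 0, Int.ofNat 1, Int.ofNat 1, Int.negSucc 0, Int.negSucc 0, Int.ofNat 1, Int.ofNat 1, Int.negSucc 0, Int.negSucc 0],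
  [Int.negSucc 0, Int.negSucc 0, Int.negSucc 0, Int.ofNat 1, Int.negSucc 0, Int.negSucc 0, Int.ofNat 3, Int.ofNat 1, Int.ofNat 1, Int.negSucc 0, Int.ofNat 1, Int.ofNat 1, Int.ofNat 1, Int.ofNat 1, Int.negSucc 0, Int.negSucc 0, Int.ofNat 1, Int.ofNat 1, Int.ofNat 1, Int.ofNat 1, Int.ofNat 1, Int.negSucc 0, Int.negSucc 0, Int.negSucc 0],
  [Int.negSucc 0, Int.negSucc 0, Int.negSucc 0, Int.ofNat 1, Int.negSucc 0, Int.negSucc 0, Int.ofNat 1, Int.negSucc 0, Int.negSucc 0, Int.negSucc 0, Int.ofNat 1, Int.negSucc 0, Int.negSucc 0, Int.ofNat 1, Int.negSucc 0, Int.negSucc 0, Int.ofNat 1, Int.ofNat 1, Int.negSucc 0, Int.negSucc 0, Int.ofNat 1, Int.negSucc 2, Int.negSucc 0, Int.negSucc 0],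
  [Int.negSucc 0, Int.negSucc 0, Int.ofNat 1, Int.ofNat 1, Int.negSucc 0, Int.ofNat 1, Int.negSucc 0, Int.negSucc 0, Int.negSucc 0, Int.ofNat 1, Int.negSucc 0, Int.negSucc 0, Int.negSucc 0, Int.ofNat 1, Int.negSucc 0, Int.ofNat 1, Int.ofNat 1, Int.ofNat 1, Int.ofNat 1, Int.negSucc 0, Int.ofNat 1, Int.negSucc 2, Int.ofNat 1, Int.negSucc 0],
  [Int.negSucc 0, Int.negSucc 0, Int.negSucc 0, Int.negSucc 0, Int.ofNat 1, Int.ofNat 1, Int.negSucc 0, Int.negSucc 0, Int.ofNat 1, Int.ofNat 1, Int.negSucc 2, Int.ofNat 1, Int.negSucc 0, Int.negSucc 0, Int.ofNat 1, Int.ofNat 1, Int.ofNat 1, Int.negSucc 0, Int.negSucc 0, Int.ofNat 1, Int.ofNat 1, Int.ofNat 1, Int.negSucc 0, Int.negSucc 0],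
  [Int.negSucc 0, Int.negSucc 0, Int.ofNat 1, Int.negSucc 0, Int.ofNat 1, Int.negSucc 0, Int.ofNat 1, Int.negSucc 0, Int.ofNat 1, Int.negSucc 0, Int.ofNat 3, Int.ofNat 1, Int.negSucc 0, Int.negSucc 0, Int.ofNat 1, Int.negSucc 0, Int.ofNat 1, Int.negSucc 0, Int.ofNat 1, Int.ofNat 1, Int.ofNat 1, Int.ofNat 1, Int.ofNat 1, Int.negSucc 0],
  [Int.ofNat 0, Int.ofNat 0, Int.negSucc 1, Int.ofNat 0, Int.ofNat 0, Int.ofNat 0, Int.ofNat 0, Int.negSucc 1, Int.ofNat 0, Int.negSucc 1, Int.ofNat 2, Int.ofNat 0, Int.negSucc 1, Int.negSucc 1, Int.ofNat 2, Int.negSucc 1, Int.ofNat 0, Int.ofNat 0, Int.ofNat 0, Int.ofNat 0, Int.ofNat 0, Int.ofNat 0, Int.ofNat 0, Int.ofNat 0],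
  [Int.ofNat 0, Int.ofNat 0, Int.ofNat 0, Int.ofNat 0, Int.negSucc 1, Int.ofNat 0, Int.ofNat 0, Int.ofNat 0, Int.ofNat 0, Int.negSucc 1, Int.negSucc 1, Int.ofNat 0, Int.ofNat 0, Int.negSucc 1, Int.ofNat 0, Int.negSucc 1, Int.negSucc 1, Int.ofNat 0, Int.ofNat 0, Int.ofNat 0, Int.ofNat 2, Int.ofNat 0, Int.ofNat 2, Int.ofNat 0],
  [Int.ofNat 0, Int.ofNat 0, Int.ofNat 0, Int.ofNat 0, Int.ofNat 0, Int.ofNat 0, Int.ofNat 0, Int.ofNat 0, Int.ofNat 0, Int.ofNat 0, Int.ofNat 0, Int.ofNat 0, Int.ofNat 0, Int.ofNat 0, Int.ofNat 0, Int.ofNat 0, Int.ofNat 0, Int.ofNat 0, Int.ofNat 0, Int.ofNat 0, Int.ofNat 4, Int.ofNat 0, Int.ofNat 4, Int.ofNat 0],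
  [Int.ofNat 4, Int.ofNat 0, Int.ofNat 4, Int.ofNat 0, Int.ofNat 0, Int.ofNat 0, Int.ofNat 0, Int.ofNat 0, Int.ofNat 0, Int.ofNat 0, Int.ofNat 0, Int.ofNat 0, Int.ofNat 0, Int.ofNat 0, Int.ofNat 0, Int.ofNat 0, Int.ofNat 0, Int.ofNat 0, Int.ofNat 0, Int.ofNat 0, Int.ofNat 0, Int.ofNat 0, Int.ofNat 0, Int.ofNat 0],
  [Int.ofNat 0, Int.ofNat 4, Int.ofNat 0, Int.ofNat 0, Int.ofNat 0, Int.ofNat 0, Int.ofNat 0, Int.ofNat 0, Int.ofNat 0, Int.ofNat 0, Int.ofNat 0, Int.ofNat 0, Int.ofNat 0, Int.ofNat 0, Int.ofNat 0, Int.ofNat 0, Int.ofNat 0, Int.ofNat 0, Int.ofNat 0, Int.ofNat 0, Int.ofNat 0, Int.ofNat 0, Int.ofNat 0, Int.ofNat 4],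
  [Int.ofNat 4, Int.ofNat 0, Int.ofNat 0, Int.ofNat 0, Int.ofNat 0, Int.ofNat 0, Int.ofNat 0, Int.ofNat 0, Int.ofNat 0, Int.ofNat 0, Int.ofNat 0, Int.ofNat 0, Int.ofNat 0, Int.ofNat 0, Int.ofNat 0, Int.ofNat 0, Int.ofNat 0, Int.ofNat 0, Int.ofNat 0, Int.ofNat 0, Int.ofNat 0, Int.ofNat 0, Int.ofNat 0, Int.ofNat 4],
  [Int.negSucc 3, Int.ofNat 0, Int.ofNat 0, Int.ofNat 0, Int.ofNat 0, Int.ofNat 0, Int.ofNat 0, Int.ofNat 0, Int.ofNat 0, Int.ofNat 0, Int.ofNat 0, Int.ofNat 0, Int.ofNat 0, Int.ofNat 0, Int.ofNat 0, Int.ofNat 0, Int.ofNat 0, Int.ofNat 0, Int.ofNat 0, Int.ofNat 0, Int.ofNat 0, Int.ofNat 0, Int.ofNat 0, Int.ofNat 4],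
  [Int.ofNat 4, Int.ofNat 0, Int.ofNat 0, Int.ofNat 0, Int.ofNat 0, Int.ofNat 0, Int.ofNat 0, Int.ofNat 0, Int.ofNat 0, Int.ofNat 0, Int.ofNat 0, Int.ofNat 0, Int.ofNat 0, Int.ofNat 0, Int.ofNat 0, Int.ofNat 0, Int.ofNat 0, Int.ofNat 0, Int.ofNat 0, Int.ofNat 0, Int.ofNat 0, Int.ofNat 0, Int.ofNat 0, Int.ofNat 4],
  [Int.ofNat 4, Int.ofNat 0, Int.ofNat 0, Int.ofNat 0, Int.ofNat 0, Int.ofNat 0, Int.ofNat 0, Int.ofNat 0, Int.ofNat 0, Int.ofNat 0, Int.ofNat 0, Int.ofNat 0, Int.ofNat 0, Int.ofNat 0, Int.ofNat 0, Int.ofNat 0, Int.ofNat 0, Int.ofNat 0, Int.ofNat 0, Int.ofNat 0, Int.ofNat 0, Int.ofNat 0, Int.ofNat 0, Int.ofNat 4],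
  [Int.negSucc 3, Int.ofNat 0, Int.ofNat 0, Int.ofNat 0, Int.ofNat 0, Int.ofNat 0, Int.ofNat 0, Int.ofNat 0, Int.ofNat 0, Int.ofNat 0, Int.ofNat 0, Int.ofNat 0, Int.ofNat 0, Int.ofNat 0, Int.ofNat 0, Int.ofNat 0, Int.ofNat 0, Int.ofNat 0, Int.ofNat 0, Int.ofNat 0, Int.ofNat 0, Int.ofNat 0, Int.ofNat 0, Int.ofNat 4],
  [Int.ofNat 0, Int.negSucc 3, Int.ofNat 0, Int.ofNat 0, Int.ofNat 0, Int.ofNat 0, Int.ofNat 0, Int.ofNat 0, Int.ofNat 0, Int.ofNat 0, Int.ofNat 0, Int.ofNat 0, Int.ofNat 0, Int.ofNat 0, Int.ofNat 0, Int.ofNat 0, Int.ofNat 0, Int.ofNat 0, Int.ofNat 0, Int.ofNat 0, Int.ofNat 0, Int.ofNat 0, Int.ofNat 0, Int.ofNat 4],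
  [Int.ofNat 0, Int.ofNat 4, Int.ofNat 0, Int.ofNat 0, Int.ofNat 0, Int.ofNat 0, Int.ofNat 0, Int.ofNat 0, Int.ofNat 0, Int.ofNat 0, Int.ofNat 0, Int.ofNat 0, Int.ofNat 0, Int.ofNat 0, Int.ofNat 0, Int.ofNat 0, Int.ofNat 0, Int.ofNat 0, Int.ofNat 0, Int.ofNat 0, Int.ofNat 0, Int.ofNat 0, Int.ofNat 0, Int.negSucc 3],
  [Int.ofNat 0, Int.ofNat 0, Int.ofNat 0, Int.ofNat 0, Int.ofNat 0, Int.ofNat 0, Int.ofNat 0, Int.ofNat 0, Int.ofNat 0, Int.ofNat 0, Int.ofNat 0, Int.ofNat 0, Int.ofNat 0, Int.ofNat 0, Int.ofNat 0, Int.ofNat 0, Int.ofNat 0, Int.ofNat 0, Int.ofNat 0, Int.ofNat 0, Int.ofNat 0, Int.ofNat 4, Int.ofNat 0, Int.negSucc 3],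
  [Int.negSucc 1, Int.negSucc 1, Int.negSucc 1, Int.ofNat 0, Int.ofNat 0, Int.ofNat 0, Int.negSucc 1, Int.negSucc 1, Int.ofNat 0, Int.ofNat 0, Int.ofNat 0, Int.ofNat 0, Int.ofNat 0, Int.ofNat 0, Int.ofNat 0, Int.ofNat 0, Int.ofNat 0, Int.ofNat 0, Int.ofNat 0, Int.negSucc 1, Int.ofNat 0, Int.ofNat 2, Int.ofNat 0, Int.ofNat 2],
  [Int.negSucc 1, Int.negSucc 1, Int.ofNat 0, Int.ofNat 0, Int.ofNat 0, Int.negSucc 1, Int.negSucc 1, Int.ofNat 0, Int.ofNat 0, Int.ofNat 0, Int.ofNat 0, Int.ofNat 0, Int.ofNat 0, Int.ofNat 0, Int.ofNat 0, Int.ofNat 0, Int.ofNat 0, Int.ofNat 0, Int.negSucc 1, Int.ofNat 0, Int.ofNat 2, Int.ofNat 0, Int.negSucc 1, Int.ofNat 2],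
  [Int.ofNat 1, Int.ofNat 1, Int.negSucc 0, Int.ofNat 1, Int.ofNat 1, Int.negSucc 0, Int.negSucc 0, Int.ofNat 1, Int.ofNat 1, Int.negSucc 0, Int.negSucc 0, Int.ofNat 1, Int.ofNat 1, Int.ofNat 1, Int.ofNat 1, Int.negSucc 0, Int.ofNat 1, Int.ofNat 1, Int.negSucc 0, Int.ofNat 1, Int.ofNat 1, Int.ofNat 1, Int.negSucc 0, Int.negSucc 2],
  [Int.ofNat 1, Int.ofNat 1, Int.ofNat 1, Int.ofNat 1, Int.ofNat 1, Int.ofNat 1, Int.ofNat 1, Int.ofNat 1, Int.ofNat 1, Int.ofNat 1, Int.ofNat 1, Int.ofNat 1, Int.ofNat 1, Int.ofNat 1, Int.ofNat 1, Int.ofNat 1, Int.ofNat 1, Int.ofNat 1, Int.ofNat 1, Int.ofNat 1, Int.ofNat 1, Int.ofNat 1, Int.ofNat 1, Int.negSucc 2],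
  [Int.ofNat 1, Int.ofNat 1, Int.ofNat 1, Int.ofNat 1, Int.ofNat 1, Int.ofNat 1, Int.ofNat 1, Int.ofNat 1, Int.ofNat 1, Int.ofNat 1, Int.ofNat 1, Int.ofNat 1, Int.ofNat 1, Int.ofNat 1, Int.ofNat 1, Int.ofNat 1, Int.ofNat 1, Int.ofNat 1, Int.ofNat 1, Int.ofNat 1, Int.ofNat 1, Int.ofNat 1, Int.ofNat 1, Int.negSucc 2],
  [Int.ofNat 1, Int.ofNat 1, Int.negSucc 0, Int.ofNat 1, Int.ofNat 1, Int.negSucc 0, Int.negSucc 0, Int.ofNat 1, Int.ofNat 1, Int.negSucc 0, Int.negSucc 0, Int.ofNat 1, Int.ofNat 1, Int.ofNat 1, Int.ofNat 1, Int.negSucc 0, Int.ofNat 1, Int.ofNat 1, Int.negSucc 0, Int.ofNat 1, Int.ofNat 1, Int.ofNat 1, Int.negSucc 0, Int.negSucc 2],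
  [Int.negSucc 1, Int.negSucc 1, Int.ofNat 0, Int.ofNat 0, Int.ofNat 0, Int.negSucc 1, Int.negSucc 1, Int.ofNat 0, Int.ofNat 0, Int.ofNat 0, Int.ofNat 0, Int.ofNat 0, Int.ofNat 0, Int.ofNat 0, Int.ofNat 0, Int.ofNat 0, Int.ofNat 0, Int.ofNat 0, Int.negSucc 1, Int.ofNat 0, Int.ofNat 2, Int.ofNat 0, Int.negSucc 1, Int.ofNat 2],
  [Int.negSucc 1, Int.negSucc 1, Int.negSucc 1, Int.ofNat 0, Int.ofNat 0, Int.ofNat 0, Int.negSucc 1, Int.negSucc 1, Int.ofNat 0, Int.ofNat 0, Int.ofNat 0, Int.ofNat 0, Int.ofNat 0, Int.ofNat 0, Int.ofNat 0, Int.ofNat 0, Int.ofNat 0, Int.ofNat 0, Int.ofNat 0, Int.negSucc 1, Int.ofNat 0, Int.ofNat 2, Int.ofNat 0, Int.ofNat 2],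
  [Int.ofNat 0, Int.ofNat 0, Int.ofNat 0, Int.ofNat 0, Int.ofNat 0, Int.ofNat 0, Int.ofNat 0, Int.ofNat 0, Int.ofNat 0, Int.ofNat 0, Int.ofNat 0, Int.ofNat 0, Int.ofNat 0, Int.ofNat 0, Int.ofNat 0, Int.ofNat 0, Int.ofNat 0, Int.ofNat 0, Int.ofNat 0, Int.ofNat 0, Int.ofNat 0, Int.ofNat 4, Int.ofNat 0, Int.negSucc 3],
  [Int.ofNat 0, Int.ofNat 4, Int.ofNat 0, Int.ofNat 0, Int.ofNat 0, Int.ofNat 0, Int.ofNat 0, Int.ofNat 0, Int.ofNat 0, Int.ofNat 0, Int.ofNat 0, Int.ofNat 0, Int.ofNat 0, Int.ofNat 0, Int.ofNat 0, Int.ofNat 0, Int.ofNat 0, Int.ofNat 0, Int.ofNat 0, Int.ofNat 0, Int.ofNat 0, Int.ofNat 0, Int.ofNat 0, Int.negSucc 3],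
  [Int.ofNat 0, Int.negSucc 3, Int.ofNat 0, Int.ofNat 0, Int.ofNat 0, Int.ofNat 0, Int.ofNat 0, Int.ofNat 0, Int.ofNat 0, Int.ofNat 0, Int.ofNat 0, Int.ofNat 0, Int.ofNat 0, Int.ofNat 0, Int.ofNat 0, Int.ofNat 0, Int.ofNat 0, Int.ofNat 0, Int.ofNat 0, Int.ofNat 0, Int.ofNat 0, Int.ofNat 0, Int.ofNat 0, Int.ofNat 4],
  [Int.negSucc 3, Int.ofNat 0, Int.ofNat 0, Int.ofNat 0, Int.ofNat 0, Int.ofNat 0, Int.ofNat 0, Int.ofNat 0, Int.ofNat 0, Int.ofNat 0, Int.ofNat 0, Int.ofNat 0, Int.ofNat 0, Int.ofNat 0, Int.ofNat 0, Int.ofNat 0, Int.ofNat 0, Int.ofNat 0, Int.ofNat 0, Int.ofNat 0, Int.ofNat 0, Int.ofNat 0, Int.ofNat 0, Int.ofNat 4],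
  [Int.ofNat 4, Int.ofNat 0, Int.ofNat 0, Int.ofNat 0, Int.ofNat 0, Int.ofNat 0, Int.ofNat 0, Int.ofNat 0, Int.ofNat 0, Int.ofNat 0, Int.ofNat 0, Int.ofNat 0, Int.ofNat 0, Int.ofNat 0, Int.ofNat 0, Int.ofNat 0, Int.ofNat 0, Int.ofNat 0, Int.ofNat 0, Int.ofNat 0, Int.ofNat 0, Int.ofNat 0, Int.ofNat 0, Int.ofNat 4],
  [Int.negSucc 3, Int.ofNat 0, Int.ofNat 0, Int.ofNat 0, Int.ofNat 0, Int.ofNat 0, Int.ofNat 0, Int.ofNat 0, Int.ofNat 0, Int.ofNat 0, Int.ofNat 0, Int.ofNat 0, Int.ofNat 0, Int.ofNat 0, Int.ofNat 0, Int.ofNat 0, Int.ofNat 0, Int.ofNat 0, Int.ofNat 0, Int.ofNat 0, Int.ofNat 0, Int.ofNat 0, Int.ofNat 0, Int.ofNat 4],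
  [Int.ofNat 4, Int.ofNat 0, Int.ofNat 0, Int.ofNat 0, Int.ofNat 0, Int.ofNat 0, Int.ofNat 0, Int.ofNat 0, Int.ofNat 0, Int.ofNat 0, Int.ofNat 0, Int.ofNat 0, Int.ofNat 0, Int.ofNat 0, Int.ofNat 0, Int.ofNat 0, Int.ofNat 0, Int.ofNat 0, Int.ofNat 0, Int.ofNat 0, Int.ofNat 0, Int.ofNat 0, Int.ofNat 0, Int.negSucc 3],
  [Int.negSucc 3, Int.ofNat 0, Int.ofNat 0, Int.ofNat 0, Int.ofNat 0, Int.ofNat 0, Int.ofNat 0, Int.ofNat 0, Int.ofNat 0, Int.ofNat 0, Int.ofNat 0, Int.ofNat 0, Int.ofNat 0, Int.ofNat 0, Int.ofNat 0, Int.ofNat 0, Int.ofNat 0, Int.ofNat 0, Int.ofNat 0, Int.ofNat 0, Int.ofNat 0, Int.ofNat 0, Int.ofNat 0, Int.negSucc 3],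
  [Int.ofNat 0, Int.negSucc 3, Int.ofNat 0, Int.ofNat 0, Int.ofNat 0, Int.ofNat 0, Int.ofNat 0, Int.ofNat 0, Int.ofNat 0, Int.ofNat 0, Int.ofNat 0, Int.ofNat 0, Int.ofNat 0, Int.ofNat 0, Int.ofNat 0, Int.ofNat 0, Int.ofNat 0, Int.ofNat 0, Int.ofNat 0, Int.ofNat 0, Int.ofNat 0, Int.ofNat 0, Int.ofNat 0, Int.negSucc 3],
  [Int.negSucc 3, Int.ofNat 0, Int.negSucc 3, Int.ofNat 0, Int.ofNat 0, Int.ofNat 0, Int.ofNat 0, Int.ofNat 0, Int.ofNat 0, Int.ofNat 0, Int.ofNat 0, Int.ofNat 0, Int.ofNat 0, Int.ofNat 0, Int.ofNat 0, Int.ofNat 0, Int.ofNat 0, Int.ofNat 0, Int.ofNat 0, Int.ofNat 0, Int.ofNat 0, Int.ofNat 0, Int.ofNat 0, Int.ofNat 0],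
  [Int.ofNat 0, Int.ofNat 0, Int.ofNat 0, Int.ofNat 0, Int.ofNat 0, Int.ofNat 0, Int.ofNat 0, Int.ofNat 0, Int.ofNat 0, Int.ofNat 0, Int.ofNat 0, Int.ofNat 0, Int.ofNat 0, Int.ofNat 0, Int.ofNat 0, Int.ofNat 0, Int.ofNat 0, Int.ofNat 0, Int.ofNat 0, Int.ofNat 0, Int.negSucc 3, Int.ofNat 0, Int.negSucc 3, Int.ofNat 0],
  [Int.ofNat 0, Int.ofNat 0, Int.ofNat 0, Int.ofNat 0, Int.ofNat 2, Int.ofNat 0, Int.ofNat 0, Int.ofNat 0, Int.ofNat 0, Int.ofNat 2, Int.ofNat 2, Int.ofNat 0, Int.ofNat 0, Int.ofNat 2, Int.ofNat 0, Int.ofNat 2, Int.ofNat 2, Int.ofNat 0, Int.ofNat 0, Int.ofNat 0, Int.negSucc 1, Int.ofNat 0, Int.negSucc 1, Int.ofNat 0],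
  [Int.ofNat 0, Int.ofNat 0, Int.ofNat 2, Int.ofNat 0, Int.ofNat 0, Int.ofNat 0, Int.ofNat 0, Int.ofNat 2, Int.ofNat 0, Int.ofNat 2, Int.negSucc 1, Int.ofNat 0, Int.ofNat 2, Int.ofNat 2, Int.negSucc 1, Int.ofNat 2, Int.ofNat 0, Int.ofNat 0, Int.ofNat 0, Int.ofNat 0, Int.ofNat 0, Int.ofNat 0, Int.ofNat 0, Int.ofNat 0],
  [Int.ofNat 1, Int.ofNat 1, Int.negSucc 0, Int.ofNat 1, Int.negSucc 0, Int.ofNat 1, Int.negSucc 0, Int.ofNat 1, Int.negSucc 0, Int.ofNat 1, Int.negSucc 2, Int.negSucc 0, Int.ofNat 1, Int.ofNat 1, Int.negSucc 0, Int.ofNat 1, Int.negSucc 0, Int.ofNat 1, Int.negSucc 0, Int.negSucc 0, Int.negSucc 0, Int.negSucc 0, Int.negSucc 0, Int.ofNat 1],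
  [Int.ofNat 1, Int.ofNat 1, Int.ofNat 1, Int.ofNat 1, Int.negSucc 0, Int.negSucc 0, Int.ofNat 1, Int.ofNat 1, Int.negSucc 0, Int.negSucc 0, Int.ofNat 3, Int.negSucc 0, Int.ofNat 1, Int.ofNat 1, Int.negSucc 0, Int.negSucc 0, Int.negSucc 0, Int.ofNat 1, Int.ofNat 1, Int.negSucc 0, Int.negSucc 0, Int.negSucc 0, Int.ofNat 1, Int.ofNat 1],
  [Int.negSucc 0, Int.negSucc 0, Int.negSucc 0, Int.negSucc 0, Int.ofNat 1, Int.ofNat 1, Int.ofNat 1, Int.ofNat 1, Int.negSucc 0, Int.negSucc 0, Int.negSucc 0, Int.negSucc 0, Int.ofNat 3, Int.negSucc 0, Int.ofNat 1, Int.negSucc 0, Int.ofNat 1, Int.ofNat 1, Int.ofNat 1, Int.ofNat 1, Int.ofNat 1, Int.negSucc 0, Int.ofNat 1, Int.ofNat 1],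
  [Int.negSucc 0, Int.negSucc 0, Int.ofNat 1, Int.negSucc 0, Int.ofNat 1, Int.negSucc 0, Int.negSucc 0, Int.ofNat 1, Int.negSucc 0, Int.ofNat 1, Int.ofNat 1, Int.negSucc 0, Int.ofNat 3, Int.negSucc 0, Int.ofNat 1, Int.ofNat 1, Int.ofNat 1, Int.ofNat 1, Int.negSucc 0, Int.ofNat 1, Int.ofNat 1, Int.negSucc 0, Int.negSucc 0, Int.ofNat 1],
  [Int.ofNat 1, Int.ofNat 1, Int.negSucc 0, Int.negSucc 0, Int.ofNat 1, Int.negSucc 0, Int.negSucc 0, Int.ofNat 1, Int.negSucc 0, Int.negSucc 0, Int.negSucc 0, Int.negSucc 0, Int.ofNat 3, Int.negSucc 0, Int.ofNat 1, Int.negSucc 0, Int.ofNat 1, Int.ofNat 1, Int.negSucc 0, Int.ofNat 1, Int.negSucc 0, Int.negSucc 0, Int.negSucc 0, Int.negSucc 0],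
  [Int.ofNat 1, Int.negSucc 0, Int.negSucc 0, Int.negSucc 0, Int.negSucc 0, Int.negSucc 0, Int.ofNat 1, Int.negSucc 0, Int.ofNat 1, Int.ofNat 3, Int.ofNat 1, Int.ofNat 1, Int.negSucc 0, Int.negSucc 0, Int.ofNat 1, Int.negSucc 0, Int.negSucc 0, Int.negSucc 0, Int.ofNat 1, Int.negSucc 0, Int.negSucc 0, Int.negSucc 0, Int.ofNat 1, Int.negSucc 0],
  [Int.negSucc 1, Int.ofNat 0, Int.ofNat 0, Int.ofNat 0, Int.ofNat 0, Int.ofNat 0, Int.ofNat 2, Int.ofNat 0, Int.ofNat 0, Int.ofNat 2, Int.ofNat 0, Int.ofNat 0, Int.negSucc 1, Int.ofNat 0, Int.ofNat 2, Int.negSucc 1, Int.ofNat 0, Int.ofNat 0, Int.ofNat 0, Int.ofNat 0, Int.negSucc 1, Int.ofNat 0, Int.ofNat 2, Int.ofNat 0],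
  [Int.negSucc 1, Int.ofNat 0, Int.ofNat 2, Int.negSucc 1, Int.ofNat 0, Int.ofNat 0, Int.ofNat 0, Int.ofNat 0, Int.ofNat 0, Int.ofNat 2, Int.ofNat 0, Int.ofNat 0, Int.ofNat 2, Int.ofNat 0, Int.ofNat 0, Int.negSucc 1, Int.ofNat 0, Int.ofNat 2, Int.negSucc 1, Int.ofNat 0, Int.ofNat 0, Int.ofNat 0, Int.ofNat 0, Int.ofNat 0],
  [Int.ofNat 2, Int.ofNat 0, Int.negSucc 1, Int.negSucc 1, Int.ofNat 0, Int.ofNat 0, Int.ofNat 0, Int.ofNat 0, Int.ofNat 0, Int.ofNat 2, Int.ofNat 0, Int.ofNat 0, Int.ofNat 2, Int.ofNat 0, Int.ofNat 0, Int.negSucc 1, Int.ofNat 0, Int.ofNat 2, Int.negSucc 1, Int.ofNat 0, Int.ofNat 0, Int.ofNat 0, Int.ofNat 0, Int.ofNat 0],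
  [Int.ofNat 0, Int.negSucc 1, Int.negSucc 1, Int.ofNat 0, Int.ofNat 0, Int.ofNat 0, Int.ofNat 0, Int.ofNat 0, Int.ofNat 2, Int.ofNat 0, Int.ofNat 0, Int.ofNat 2, Int.ofNat 0, Int.ofNat 0, Int.negSucc 1, Int.ofNat 0, Int.ofNat 2, Int.negSucc 1, Int.ofNat 0, Int.ofNat 0, Int.ofNat 0, Int.ofNat 0, Int.ofNat 2, Int.ofNat 0],
  [Int.ofNat 0, Int.negSucc 1, Int.ofNat 2, Int.ofNat 0, Int.ofNat 0, Int.ofNat 0, Int.ofNat 0, Int.ofNat 0, Int.ofNat 2, Int.ofNat 0, Int.ofNat 0, Int.negSucc 1, Int.ofNat 0, Int.ofNat 0, Int.negSucc 1, Int.ofNat 0, Int.ofNat 2, Int.negSucc 1, Int.ofNat 0, Int.ofNat 0, Int.ofNat 0, Int.ofNat 0, Int.ofNat 2, Int.ofNat 0],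
  [Int.ofNat 0, Int.ofNat 2, Int.negSucc 1, Int.ofNat 0, Int.ofNat 0, Int.ofNat 0, Int.ofNat 0, Int.ofNat 0, Int.negSucc 1, Int.ofNat 0, Int.ofNat 0, Int.negSucc 1, Int.ofNat 0, Int.ofNat 0, Int.negSucc 1, Int.ofNat 0, Int.negSucc 1, Int.negSucc 1, Int.ofNat 0, Int.ofNat 0, Int.ofNat 0, Int.ofNat 0, Int.ofNat 2, Int.ofNat 0],
  [Int.ofNat 0, Int.ofNat 2, Int.negSucc 1, Int.ofNat 0, Int.negSucc 1, Int.ofNat 0, Int.ofNat 0, Int.ofNat 0, Int.ofNat 0, Int.ofNat 0, Int.negSucc 1, Int.negSucc 1, Int.ofNat 0, Int.ofNat 0, Int.ofNat 0, Int.ofNat 0, Int.ofNat 0, Int.ofNat 0, Int.negSucc 1, Int.ofNat 0, Int.negSucc 1, Int.ofNat 0, Int.ofNat 2, Int.ofNat 0],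
  [Int.ofNat 0, Int.ofNat 2, Int.ofNat 2, Int.ofNat 0, Int.negSucc 1, Int.ofNat 0, Int.ofNat 0, Int.ofNat 0, Int.ofNat 0, Int.ofNat 0, Int.ofNat 2, Int.ofNat 2, Int.ofNat 0, Int.ofNat 0, Int.ofNat 0, Int.ofNat 0, Int.ofNat 0, Int.ofNat 0, Int.ofNat 2, Int.ofNat 0, Int.negSucc 1, Int.ofNat 0, Int.ofNat 2, Int.ofNat 0],
  [Int.ofNat 2, Int.ofNat 0, Int.ofNat 2, Int.ofNat 2, Int.ofNat 0, Int.negSucc 1, Int.ofNat 0, Int.ofNat 0, Int.ofNat 0, Int.ofNat 0, Int.ofNat 0, Int.ofNat 2, Int.ofNat 2, Int.ofNat 0, Int.ofNat 0, Int.ofNat 0, Int.ofNat 0, Int.ofNat 0, Int.ofNat 0, Int.ofNat 2, Int.ofNat 0, Int.negSucc 1, Int.ofNat 0, Int.ofNat 0],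
  [Int.ofNat 0, Int.ofNat 2, Int.ofNat 0, Int.ofNat 2, Int.ofNat 0, Int.negSucc 1, Int.ofNat 0, Int.ofNat 0, Int.negSucc 1, Int.ofNat 0, Int.ofNat 0, Int.ofNat 0, Int.ofNat 0, Int.ofNat 0, Int.ofNat 0, Int.ofNat 0, Int.ofNat 0, Int.ofNat 0, Int.negSucc 1, Int.ofNat 2, Int.ofNat 0, Int.negSucc 1, Int.ofNat 0, Int.ofNat 2],
  [Int.ofNat 2, Int.ofNat 0, Int.negSucc 1, Int.ofNat 0, Int.ofNat 0, Int.negSucc 1, Int.ofNat 0, Int.ofNat 0, Int.ofNat 0, Int.ofNat 0, Int.ofNat 0, Int.ofNat 0, Int.ofNat 0, Int.ofNat 0, Int.ofNat 0, Int.negSucc 1, Int.ofNat 2, Int.ofNat 0, Int.negSucc 1, Int.ofNat 0, Int.ofNat 0, Int.ofNat 2, Int.ofNat 0, Int.ofNat 2],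
  [Int.negSucc 0, Int.ofNat 1, Int.ofNat 3, Int.ofNat 1, Int.negSucc 0, Int.negSucc 0, Int.negSucc 0, Int.negSucc 0, Int.ofNat 1, Int.ofNat 1, Int.ofNat 1, Int.ofNat 1, Int.ofNat 1, Int.negSucc 0, Int.ofNat 1, Int.negSucc 0, Int.ofNat 1, Int.ofNat 1, Int.negSucc 0, Int.negSucc 0, Int.ofNat 1, Int.ofNat 1, Int.negSucc 0, Int.negSucc 0],
  [Int.negSucc 0, Int.negSucc 0, Int.negSucc 0, Int.ofNat 1, Int.negSucc 0, Int.negSucc 0, Int.ofNat 3, Int.ofNat 1, Int.ofNat 1, Int.negSucc 0, Int.ofNat 1, Int.ofNat 1, Int.ofNat 1, Int.ofNat 1, Int.negSucc 0, Int.negSucc 0, Int.ofNat 1, Int.ofNat 1, Int.ofNat 1, Int.ofNat 1, Int.ofNat 1, Int.negSucc 0, Int.negSucc 0, Int.negSucc 0],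
  [Int.negSucc 0, Int.negSucc 0, Int.negSucc 0, Int.ofNat 1, Int.negSucc 0, Int.negSucc 0, Int.ofNat 1, Int.negSucc 0, Int.negSucc 0, Int.negSucc 0, Int.ofNat 1, Int.negSucc 0, Int.negSucc 0, Int.ofNat 1, Int.negSucc 0, Int.negSucc 0, Int.ofNat 1, Int.ofNat 1, Int.negSucc 0, Int.negSucc 0, Int.ofNat 1, Int.negSucc 2, Int.negSucc 0, Int.negSucc 0],
  [Int.negSucc 0, Int.negSucc 0, Int.ofNat 1, Int.ofNat 1, Int.negSucc 0, Int.ofNat 1, Int.negSucc 0, Int.negSucc 0, Int.negSucc 0, Int.ofNat 1, Int.negSucc 0, Int.negSucc 0, Int.negSucc 0, Int.ofNat 1, Int.negSucc 0, Int.ofNat 1, Int.ofNat 1, Int.ofNat 1, Int.ofNat 1, Int.negSucc 0, Int.ofNat 1, Int.negSucc 2, Int.ofNat 1, Int.negSucc 0],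
  [Int.negSucc 0, Int.negSucc 0, Int.negSucc 0, Int.negSucc 0, Int.ofNat 1, Int.ofNat 1, Int.negSucc 0, Int.negSucc 0, Int.ofNat 1, Int.ofNat 1, Int.negSucc 2, Int.ofNat 1, Int.negSucc 0, Int.negSucc 0, Int.ofNat 1, Int.ofNat 1, Int.ofNat 1, Int.negSucc 0, Int.negSucc 0, Int.ofNat 1, Int.ofNat 1, Int.ofNat 1, Int.negSucc 0, Int.negSucc 0],
  [Int.negSucc 0, Int.negSucc 0, Int.ofNat 1, Int.negSucc 0, Int.ofNat 1, Int.negSucc 0, Int.ofNat 1, Int.negSucc 0, Int.ofNat 1, Int.negSucc 0, Int.ofNat 3, Int.ofNat 1, Int.negSucc 0, Int.negSucc 0, Int.ofNat 1, Int.negSucc 0, Int.ofNat 1, Int.negSucc 0, Int.ofNat 1, Int.ofNat 1, Int.ofNat 1, Int.ofNat 1, Int.ofNat 1, Int.negSucc 0],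
  [Int.ofNat 0, Int.ofNat 0, Int.negSucc 1, Int.ofNat 0, Int.ofNat 0, Int.ofNat 0, Int.ofNat 0, Int.negSucc 1, Int.ofNat 0, Int.negSucc 1, Int.ofNat 2, Int.ofNat 0, Int.negSucc 1, Int.negSucc 1, Int.ofNat 2, Int.negSucc 1, Int.ofNat 0, Int.ofNat 0, Int.ofNat 0, Int.ofNat 0, Int.ofNat 0, Int.ofNat 0, Int.ofNat 0, Int.ofNat 0],
  [Int.ofNat 0, Int.ofNat 0, Int.ofNat 0, Int.ofNat 0, Int.negSucc 1, Int.ofNat 0, Int.ofNat 0, Int.ofNat 0, Int.ofNat 0, Int.negSucc 1, Int.negSucc 1, Int.ofNat 0, Int.ofNat 0, Int.negSucc 1, Int.ofNat 0, Int.negSucc 1, Int.negSucc 1, Int.ofNat 0, Int.ofNat 0, Int.ofNat 0, Int.ofNat 2, Int.ofNat 0, Int.ofNat 2, Int.ofNat 0],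
  [Int.ofNat 0, Int.ofNat 0, Int.ofNat 0, Int.ofNat 0, Int.ofNat 0, Int.ofNat 0, Int.ofNat 0, Int.ofNat 0, Int.ofNat 0, Int.ofNat 0, Int.ofNat 0, Int.ofNat 0, Int.ofNat 0, Int.ofNat 0, Int.ofNat 0, Int.ofNat 0, Int.ofNat 0, Int.ofNat 0, Int.ofNat 0, Int.ofNat 0, Int.ofNat 4, Int.ofNat 0, Int.ofNat 4, Int.ofNat 0],
  [Int.ofNat 4, Int.ofNat 0, Int.ofNat 4, Int.ofNat 0, Int.ofNat 0, Int.ofNat 0, Int.ofNat 0, Int.ofNat 0, Int.ofNat 0, Int.ofNat 0, Int.ofNat 0, Int.ofNat 0, Int.ofNat 0, Int.ofNat 0, Int.ofNat 0, Int.ofNat 0, Int.ofNat 0, Int.ofNat 0, Int.ofNat 0, Int.ofNat 0, Int.ofNat 0, Int.ofNat 0, Int.ofNat 0, Int.ofNat 0],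
  [Int.ofNat 0, Int.ofNat 4, Int.ofNat 0, Int.ofNat 0, Int.ofNat 0, Int.ofNat 0, Int.ofNat 0, Int.ofNat 0, Int.ofNat 0, Int.ofNat 0, Int.ofNat 0, Int.ofNat 0, Int.ofNat 0, Int.ofNat 0, Int.ofNat 0, Int.ofNat 0, Int.ofNat 0, Int.ofNat 0, Int.ofNat 0, Int.ofNat 0, Int.ofNat 0, Int.ofNat 0, Int.ofNat 0, Int.ofNat 4],
  [Int.ofNat 4, Int.ofNat 0, Int.ofNat 0, Int.ofNat 0, Int.ofNat 0, Int.ofNat 0, Int.ofNat 0, Int.ofNat 0, Int.ofNat 0, Int.ofNat 0, Int.ofNat 0, Int.ofNat 0, Int.ofNat 0, Int.ofNat 0, Int.ofNat 0, Int.ofNat 0, Int.ofNat 0, Int.ofNat 0, Int.ofNat 0, Int.ofNat 0, Int.ofNat 0, Int.ofNat 0, Int.ofNat 0, Int.ofNat 4],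
  [Int.negSucc 3, Int.ofNat 0, Int.ofNat 0, Int.ofNat 0, Int.ofNat 0, Int.ofNat 0, Int.ofNat 0, Int.ofNat 0, Int.ofNat 0, Int.ofNat 0, Int.ofNat 0, Int.ofNat 0, Int.ofNat 0, Int.ofNat 0, Int.ofNat 0, Int.ofNat 0, Int.ofNat 0, Int.ofNat 0, Int.ofNat 0, Int.ofNat 0, Int.ofNat 0, Int.ofNat 0, Int.ofNat 0, Int.ofNat 4],
  [Int.ofNat 4, Int.ofNat 0, Int.ofNat 0, Int.ofNat 0, Int.ofNat 0, Int.ofNat 0, Int.ofNat 0, Int.ofNat 0, Int.ofNat 0, Int.ofNat 0, Int.ofNat 0, Int.ofNat 0, Int.ofNat 0, Int.ofNat 0, Int.ofNat 0, Int.ofNat 0, Int.ofNat 0, Int.ofNat 0, Int.ofNat 0, Int.ofNat 0, Int.ofNat 0, Int.ofNat 0, Int.ofNat 0, Int.ofNat 4],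
  [Int.ofNat 4, Int.ofNat 0, Int.ofNat 0, Int.ofNat 0, Int.ofNat 0, Int.ofNat 0, Int.ofNat 0, Int.ofNat 0, Int.ofNat 0, Int.ofNat 0, Int.ofNat 0, Int.ofNat 0, Int.ofNat 0, Int.ofNat 0, Int.ofNat 0, Int.ofNat 0, Int.ofNat 0, Int.ofNat 0, Int.ofNat 0, Int.ofNat 0, Int.ofNat 0, Int.ofNat 0, Int.ofNat 0, Int.ofNat 4],
  [Int.negSucc 3, Int.ofNat 0, Int.ofNat 0, Int.ofNat 0, Int.ofNat 0, Int.ofNat 0, Int.ofNat 0, Int.ofNat 0, Int.ofNat 0, Int.ofNat 0, Int.ofNat 0, Int.ofNat 0, Int.ofNat 0, Int.ofNat 0, Int.ofNat 0, Int.ofNat 0, Int.ofNat 0, Int.ofNat 0, Int.ofNat 0, Int.ofNat 0, Int.ofNat 0, Int.ofNat 0, Int.ofNat 0, Int.ofNat 4],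
  [Int.ofNat 0, Int.negSucc 3, Int.ofNat 0, Int.ofNat 0, Int.ofNat 0, Int.ofNat 0, Int.ofNat 0, Int.ofNat 0, Int.ofNat 0, Int.ofNat 0, Int.ofNat 0, Int.ofNat 0, Int.ofNat 0, Int.ofNat 0, Int.ofNat 0, Int.ofNat 0, Int.ofNat 0, Int.ofNat 0, Int.ofNat 0, Int.ofNat 0, Int.ofNat 0, Int.ofNat 0, Int.ofNat 0, Int.ofNat 4],
  [Int.ofNat 0, Int.ofNat 4, Int.ofNat 0, Int.ofNat 0, Int.ofNat 0, Int.ofNat 0, Int.ofNat 0, Int.ofNat 0, Int.ofNat 0, Int.ofNat 0, Int.ofNat 0, Int.ofNat 0, Int.ofNat 0, Int.ofNat 0, Int.ofNat 0, Int.ofNat 0, Int.ofNat 0, Int.ofNat 0, Int.ofNat 0, Int.ofNat 0, Int.ofNat 0, Int.ofNat 0, Int.ofNat 0, Int.negSucc 3],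
  [Int.ofNat 0, Int.ofNat 0, Int.ofNat 0, Int.ofNat 0, Int.ofNat 0, Int.ofNat 0, Int.ofNat 0, Int.ofNat 0, Int.ofNat 0, Int.ofNat 0, Int.ofNat 0, Int.ofNat 0, Int.ofNat 0, Int.ofNat 0, Int.ofNat 0, Int.ofNat 0, Int.ofNat 0, Int.ofNat 0, Int.ofNat 0, Int.ofNat 0, Int.ofNat 0, Int.ofNat 4, Int.ofNat 0, Int.negSucc 3],
  [Int.negSucc 1, Int.negSucc 1, Int.negSucc 1, Int.ofNat 0, Int.ofNat 0, Int.ofNat 0, Int.negSucc 1, Int.negSucc 1, Int.ofNat 0, Int.ofNat 0, Int.ofNat 0, Int.ofNat 0, Int.ofNat 0, Int.ofNat 0, Int.ofNat 0, Int.ofNat 0, Int.ofNat 0, Int.ofNat 0, Int.ofNat 0, Int.negSucc 1, Int.ofNat 0, Int.ofNat 2, Int.ofNat 0, Int.ofNat 2],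
  [Int.negSucc 1, Int.negSucc 1, Int.ofNat 0, Int.ofNat 0, Int.ofNat 0, Int.negSucc 1, Int.negSucc 1, Int.ofNat 0, Int.ofNat 0, Int.ofNat 0, Int.ofNat 0, Int.ofNat 0, Int.ofNat 0, Int.ofNat 0, Int.ofNat 0, Int.ofNat 0, Int.ofNat 0, Int.ofNat 0, Int.negSucc 1, Int.ofNat 0, Int.ofNat 2, Int.ofNat 0, Int.negSucc 1, Int.ofNat 2],
  [Int.ofNat 1, Int.ofNat 1, Int.negSucc 0, Int.ofNat 1, Int.ofNat 1, Int.negSucc 0, Int.negSucc 0, Int.ofNat 1, Int.ofNat 1, Int.negSucc 0, Int.negSucc 0, Int.ofNat 1, Int.ofNat 1, Int.ofNat 1, Int.ofNat 1, Int.negSucc 0, Int.ofNat 1, Int.ofNat 1, Int.negSucc 0, Int.ofNat 1, Int.ofNat 1, Int.ofNat 1, Int.negSucc 0, Int.negSucc 2],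
  [Int.ofNat 1, Int.ofNat 1, Int.ofNat 1, Int.ofNat 1, Int.ofNat 1, Int.ofNat 1, Int.ofNat 1, Int.ofNat 1, Int.ofNat 1, Int.ofNat 1, Int.ofNat 1, Int.ofNat 1, Int.ofNat 1, Int.ofNat 1, Int.ofNat 1, Int.ofNat 1, Int.ofNat 1, Int.ofNat 1, Int.ofNat 1, Int.ofNat 1, Int.ofNat 1, Int.ofNat 1, Int.ofNat 1, Int.negSucc 2],
  [Int.ofNat 1, Int.ofNat 1, Int.ofNat 1, Int.ofNat 1, Int.ofNat 1, Int.ofNat 1, Int.ofNat 1, Int.ofNat 1, Int.ofNat 1, Int.ofNat 1, Int.ofNat 1, Int.ofNat 1, Int.ofNat 1, Int.ofNat 1, Int.ofNat 1, Int.ofNat 1, Int.ofNat 1, Int.ofNat 1, Int.ofNat 1, Int.ofNat 1, Int.ofNat 1, Int.ofNat 1, Int.ofNat 1, Int.negSucc 2],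
  [Int.ofNat 1, Int.ofNat 1, Int.negSucc 0, Int.ofNat 1, Int.ofNat 1, Int.negSucc 0, Int.negSucc 0, Int.ofNat 1, Int.ofNat 1, Int.negSucc 0, Int.negSucc 0, Int.ofNat 1, Int.ofNat 1, Int.ofNat 1, Int.ofNat 1, Int.negSucc 0, Int.ofNat 1, Int.ofNat 1, Int.negSucc 0, Int.ofNat 1, Int.ofNat 1, Int.ofNat 1, Int.negSucc 0, Int.negSucc 2],
  [Int.negSucc 1, Int.negSucc 1, Int.ofNat 0, Int.ofNat 0, Int.ofNat 0, Int.negSucc 1, Int.negSucc 1, Int.ofNat 0, Int.ofNat 0, Int.ofNat 0, Int.ofNat 0, Int.ofNat 0, Int.ofNat 0, Int.ofNat 0, Int.ofNat 0, Int.ofNat 0, Int.ofNat 0, Int.ofNat 0, Int.negSucc 1, Int.ofNat 0, Int.ofNat 2, Int.ofNat 0, Int.negSucc 1, Int.ofNat 2],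
  [Int.negSucc 1, Int.negSucc 1, Int.negSucc 1, Int.ofNat 0, Int.ofNat 0, Int.ofNat 0, Int.negSucc 1, Int.negSucc 1, Int.ofNat 0, Int.ofNat 0, Int.ofNat 0, Int.ofNat 0, Int.ofNat 0, Int.ofNat 0, Int.ofNat 0, Int.ofNat 0, Int.ofNat 0, Int.ofNat 0, Int.ofNat 0, Int.negSucc 1, Int.ofNat 0, Int.ofNat 2, Int.ofNat 0, Int.ofNat 2],
  [Int.ofNat 0, Int.ofNat 0, Int.ofNat 0, Int.ofNat 0, Int.ofNat 0, Int.ofNat 0, Int.ofNat 0, Int.ofNat 0, Int.ofNat 0, Int.ofNat 0, Int.ofNat 0, Int.ofNat 0, Int.ofNat 0, Int.ofNat 0, Int.ofNat 0, Int.ofNat 0, Int.ofNat 0, Int.ofNat 0, Int.ofNat 0, Int.ofNat 0, Int.ofNat 0, Int.ofNat 4, Int.ofNat 0, Int.negSucc 3],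
  [Int.ofNat 0, Int.ofNat 4, Int.ofNat 0, Int.ofNat 0, Int.ofNat 0, Int.ofNat 0, Int.ofNat 0, Int.ofNat 0, Int.ofNat 0, Int.ofNat 0, Int.ofNat 0, Int.ofNat 0, Int.ofNat 0, Int.ofNat 0, Int.ofNat 0, Int.ofNat 0, Int.ofNat 0, Int.ofNat 0, Int.ofNat 0, Int.ofNat 0, Int.ofNat 0, Int.ofNat 0, Int.ofNat 0, Int.negSucc 3],
  [Int.ofNat 0, Int.negSucc 3, Int.ofNat 0, Int.ofNat 0, Int.ofNat 0, Int.ofNat 0, Int.ofNat 0, Int.ofNat 0, Int.ofNat 0, Int.ofNat 0, Int.ofNat 0, Int.ofNat 0, Int.ofNat 0, Int.ofNat 0, Int.ofNat 0, Int.ofNat 0, Int.ofNat 0, Int.ofNat 0, Int.ofNat 0, Int.ofNat 0, Int.ofNat 0, Int.ofNat 0, Int.ofNat 0, Int.ofNat 4],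
  [Int.negSucc 3, Int.ofNat 0, Int.ofNat 0, Int.ofNat 0, Int.ofNat 0, Int.ofNat 0, Int.ofNat 0, Int.ofNat 0, Int.ofNat 0, Int.ofNat 0, Int.ofNat 0, Int.ofNat 0, Int.ofNat 0, Int.ofNat 0, Int.ofNat 0, Int.ofNat 0, Int.ofNat 0, Int.ofNat 0, Int.ofNat 0, Int.ofNat 0, Int.ofNat 0, Int.ofNat 0, Int.ofNat 0, Int.ofNat 4],
  [Int.ofNat 4, Int.ofNat 0, Int.ofNat 0, Int.ofNat 0, Int.ofNat 0, Int.ofNat 0, Int.ofNat 0, Int.ofNat 0, Int.ofNat 0, Int.ofNat 0, Int.ofNat 0, Int.ofNat 0, Int.ofNat 0, Int.ofNat 0, Int.ofNat 0, Int.ofNat 0, Int.ofNat 0, Int.ofNat 0, Int.ofNat 0, Int.ofNat 0, Int.ofNat 0, Int.ofNat 0, Int.ofNat 0, Int.ofNat 4],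
  [Int.negSucc 3, Int.ofNat 0, Int.ofNat 0, Int.ofNat 0, Int.ofNat 0, Int.ofNat 0, Int.ofNat 0, Int.ofNat 0, Int.ofNat 0, Int.ofNat 0, Int.ofNat 0, Int.ofNat 0, Int.ofNat 0, Int.ofNat 0, Int.ofNat 0, Int.ofNat 0, Int.ofNat 0, Int.ofNat 0, Int.ofNat 0, Int.ofNat 0, Int.ofNat 0, Int.ofNat 0, Int.ofNat 0, Int.ofNat 4],
  [Int.ofNat 4, Int.ofNat 0, Int.ofNat 0, Int.ofNat 0, Int.ofNat 0, Int.ofNat 0, Int.ofNat 0, Int.ofNat 0, Int.ofNat 0, Int.ofNat 0, Int.ofNat 0, Int.ofNat 0, Int.ofNat 0, Int.ofNat 0, Int.ofNat 0, Int.ofNat 0, Int.ofNat 0, Int.ofNat 0, Int.ofNat 0, Int.ofNat 0, Int.ofNat 0, Int.ofNat 0, Int.ofNat 0, Int.negSucc 3],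
  [Int.negSucc 3, Int.ofNat 0, Int.ofNat 0, Int.ofNat 0, Int.ofNat 0, Int.ofNat 0, Int.ofNat 0, Int.ofNat 0, Int.ofNat 0, Int.ofNat 0, Int.ofNat 0, Int.ofNat 0, Int.ofNat 0, Int.ofNat 0, Int.ofNat 0, Int.ofNat 0, Int.ofNat 0, Int.ofNat 0, Int.ofNat 0, Int.ofNat 0, Int.ofNat 0, Int.ofNat 0, Int.ofNat 0, Int.negSucc 3],
  [Int.ofNat 0, Int.negSucc 3, Int.ofNat 0, Int.ofNat 0, Int.ofNat 0, Int.ofNat 0, Int.ofNat 0, Int.ofNat 0, Int.ofNat 0, Int.ofNat 0, Int.ofNat 0, Int.ofNat 0, Int.ofNat 0, Int.ofNat 0, Int.ofNat 0, Int.ofNat 0, Int.ofNat 0, Int.ofNat 0, Int.ofNat 0, Int.ofNat 0, Int.ofNat 0, Int.ofNat 0, Int.ofNat 0, Int.negSucc 3],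
  [Int.negSucc 3, Int.ofNat 0, Int.negSucc 3, Int.ofNat 0, Int.ofNat 0, Int.ofNat 0, Int.ofNat 0, Int.ofNat 0, Int.ofNat 0, Int.ofNat 0, Int.ofNat 0, Int.ofNat 0, Int.ofNat 0, Int.ofNat 0, Int.ofNat 0, Int.ofNat 0, Int.ofNat 0, Int.ofNat 0, Int.ofNat 0, Int.ofNat 0, Int.ofNat 0, Int.ofNat 0, Int.ofNat 0, Int.ofNat 0],
  [Int.ofNat 0, Int.ofNat 0, Int.ofNat 0, Int.ofNat 0, Int.ofNat 0, Int.ofNat 0, Int.ofNat 0, Int.ofNat 0, Int.ofNat 0, Int.ofNat 0, Int.ofNat 0, Int.ofNat 0, Int.ofNat 0, Int.ofNat 0, Int.ofNat 0, Int.ofNat 0, Int.ofNat 0, Int.ofNat 0, Int.ofNat 0, Int.ofNat 0, Int.negSucc 3, Int.ofNat 0, Int.negSucc 3, Int.ofNat 0],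
  [Int.ofNat 0, Int.ofNat 0, Int.ofNat 0, Int.ofNat 0, Int.ofNat 2, Int.ofNat 0, Int.ofNat 0, Int.ofNat 0, Int.ofNat 0, Int.ofNat 2, Int.ofNat 2, Int.ofNat 0, Int.ofNat 0, Int.ofNat 2, Int.ofNat 0, Int.ofNat 2, Int.ofNat 2, Int.ofNat 0, Int.ofNat 0, Int.ofNat 0, Int.negSucc 1, Int.ofNat 0, Int.negSucc 1, Int.ofNat 0],
  [Int.ofNat 0, Int.ofNat 0, Int.ofNat 2, Int.ofNat 0, Int.ofNat 0, Int.ofNat 0, Int.ofNat 0, Int.ofNat 2, Int.ofNat 0, Int.ofNat 2, Int.negSucc 1, Int.ofNat 0, Int.ofNat 2, Int.ofNat 2, Int.negSucc 1, Int.ofNat 2, Int.ofNat 0, Int.ofNat 0, Int.ofNat 0, Int.ofNat 0, Int.ofNat 0, Int.ofNat 0, Int.ofNat 0, Int.ofNat 0],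
  [Int.ofNat 1, Int.ofNat 1, Int.negSucc 0, Int.ofNat 1, Int.negSucc 0, Int.ofNat 1, Int.negSucc 0, Int.ofNat 1, Int.negSucc 0, Int.ofNat 1, Int.negSucc 2, Int.negSucc 0, Int.ofNat 1, Int.ofNat 1, Int.negSucc 0, Int.ofNat 1, Int.negSucc 0, Int.ofNat 1, Int.negSucc 0, Int.negSucc 0, Int.negSucc 0, Int.negSucc 0, Int.negSucc 0, Int.ofNat 1],
  [Int.ofNat 1, Int.ofNat 1, Int.ofNat 1, Int.ofNat 1, Int.negSucc 0, Int.negSucc 0, Int.ofNat 1, Int.ofNat 1, Int.negSucc 0, Int.negSucc 0, Int.ofNat 3, Int.negSucc 0, Int.ofNat 1, Int.ofNat 1, Int.negSucc 0, Int.negSucc 0, Int.negSucc 0, Int.ofNat 1, Int.ofNat 1, Int.negSucc 0, Int.negSucc 0, Int.negSucc 0, Int.ofNat 1, Int.ofNat 1],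
  [Int.negSucc 0, Int.negSucc 0, Int.negSucc 0, Int.negSucc 0, Int.ofNat 1, Int.ofNat 1, Int.ofNat 1, Int.ofNat 1, Int.negSucc 0, Int.negSucc 0, Int.negSucc 0, Int.negSucc 0, Int.ofNat 3, Int.negSucc 0, Int.ofNat 1, Int.negSucc 0, Int.ofNat 1, Int.ofNat 1, Int.ofNat 1, Int.ofNat 1, Int.ofNat 1, Int.negSucc 0, Int.ofNat 1, Int.ofNat 1],
  [Int.negSucc 0, Int.negSucc 0, Int.ofNat 1, Int.negSucc 0, Int.ofNat 1, Int.negSucc 0, Int.negSucc 0, Int.ofNat 1, Int.negSucc 0, Int.ofNat 1, Int.ofNat 1, Int.negSucc 0, Int.ofNat 3, Int.negSucc 0, Int.ofNat 1, Int.ofNat 1, Int.ofNat 1, Int.ofNat 1, Int.negSucc 0, Int.ofNat 1, Int.ofNat 1, Int.negSucc 0, Int.negSucc 0, Int.ofNat 1],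
  [Int.ofNat 1, Int.ofNat 1, Int.negSucc 0, Int.negSucc 0, Int.ofNat 1, Int.negSucc 0, Int.negSucc 0, Int.ofNat 1, Int.negSucc 0, Int.negSucc 0, Int.negSucc 0, Int.negSucc 0, Int.ofNat 3, Int.negSucc 0, Int.ofNat 1, Int.negSucc 0, Int.ofNat 1, Int.ofNat 1, Int.negSucc 0, Int.ofNat 1, Int.negSucc 0, Int.negSucc 0, Int.negSucc 0, Int.negSucc 0],
  [Int.ofNat 1, Int.negSucc 0, Int.negSucc 0, Int.negSucc 0, Int.negSucc 0, Int.negSucc 0, Int.ofNat 1, Int.negSucc 0, Int.ofNat 1, Int.ofNat 3, Int.ofNat 1, Int.ofNat 1, Int.negSucc 0, Int.negSucc 0, Int.ofNat 1, Int.negSucc 0, Int.negSucc 0, Int.negSucc 0, Int.ofNat 1, Int.negSucc 0, Int.negSucc 0, Int.negSucc 0, Int.ofNat 1, Int.negSucc 0],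
  [Int.negSucc 1, Int.ofNat 0, Int.ofNat 0, Int.ofNat 0, Int.ofNat 0, Int.ofNat 0, Int.ofNat 2, Int.ofNat 0, Int.ofNat 0, Int.ofNat 2, Int.ofNat 0, Int.ofNat 0, Int.negSucc 1, Int.ofNat 0, Int.ofNat 2, Int.negSucc 1, Int.ofNat 0, Int.ofNat 0, Int.ofNat 0, Int.ofNat 0, Int.negSucc 1, Int.ofNat 0, Int.ofNat 2, Int.ofNat 0],
  [Int.negSucc 1, Int.ofNat 0, Int.ofNat 2, Int.negSucc 1, Int.ofNat 0, Int.ofNat 0, Int.ofNat 0, Int.ofNat 0, Int.ofNat 0, Int.ofNat 2, Int.ofNat 0, Int.ofNat 0, Int.ofNat 2, Int.ofNat 0, Int.ofNat 0, Int.negSucc 1, Int.ofNat 0, Int.ofNat 2, Int.negSucc 1, Int.ofNat 0, Int.ofNat 0, Int.ofNat 0, Int.ofNat 0, Int.ofNat 0],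
  [Int.ofNat 2, Int.ofNat 0, Int.negSucc 1, Int.negSucc 1, Int.ofNat 0, Int.ofNat 0, Int.ofNat 0, Int.ofNat 0, Int.ofNat 0, Int.ofNat 2, Int.ofNat 0, Int.ofNat 0, Int.ofNat 2, Int.ofNat 0, Int.ofNat 0, Int.negSucc 1, Int.ofNat 0, Int.ofNat 2, Int.negSucc 1, Int.ofNat 0, Int.ofNat 0, Int.ofNat 0, Int.ofNat 0, Int.ofNat 0],
  [Int.ofNat 0, Int.negSucc 1, Int.negSucc 1, Int.ofNat 0, Int.ofNat 0, Int.ofNat 0, Int.ofNat 0, Int.ofNat 0, Int.ofNat 2, Int.ofNat 0, Int.ofNat 0, Int.ofNat 2, Int.ofNat 0, Int.ofNat 0, Int.negSucc 1, Int.ofNat 0, Int.ofNat 2, Int.negSucc 1, Int.ofNat 0, Int.ofNat 0, Int.ofNat 0, Int.ofNat 0, Int.ofNat 2, Int.ofNat 0],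
  [Int.ofNat 0, Int.negSucc 1, Int.ofNat 2, Int.ofNat 0, Int.ofNat 0, Int.ofNat 0, Int.ofNat 0, Int.ofNat 0, Int.ofNat 2, Int.ofNat 0, Int.ofNat 0, Int.negSucc 1, Int.ofNat 0, Int.ofNat 0, Int.negSucc 1, Int.ofNat 0, Int.ofNat 2, Int.negSucc 1, Int.ofNat 0, Int.ofNat 0, Int.ofNat 0, Int.ofNat 0, Int.ofNat 2, Int.ofNat 0],
  [Int.ofNat 0, Int.ofNat 2, Int.negSucc 1, Int.ofNat 0, Int.ofNat 0, Int.ofNat 0, Int.ofNat 0, Int.ofNat 0, Int.negSucc 1, Int.ofNat 0, Int.ofNat 0, Int.negSucc 1, Int.ofNat 0, Int.ofNat 0, Int.negSucc 1, Int.ofNat 0, Int.negSucc 1, Int.negSucc 1, Int.ofNat 0, Int.ofNat 0, Int.ofNat 0, Int.ofNat 0, Int.ofNat 2, Int.ofNat 0],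
  [Int.ofNat 0, Int.ofNat 2, Int.negSucc 1, Int.ofNat 0, Int.negSucc 1, Int.ofNat 0, Int.ofNat 0, Int.ofNat 0, Int.ofNat 0, Int.ofNat 0, Int.negSucc 1, Int.negSucc 1, Int.ofNat 0, Int.ofNat 0, Int.ofNat 0, Int.ofNat 0, Int.ofNat 0, Int.ofNat 0, Int.negSucc 1, Int.ofNat 0, Int.negSucc 1, Int.ofNat 0, Int.ofNat 2, Int.ofNat 0],
  [Int.ofNat 0, Int.ofNat 2, Int.ofNat 2, Int.ofNat 0, Int.negSucc 1, Int.ofNat 0, Int.ofNat 0, Int.ofNat 0, Int.ofNat 0, Int.ofNat 0, Int.ofNat 2, Int.ofNat 2, Int.ofNat 0, Int.ofNat 0, Int.ofNat 0, Int.ofNat 0, Int.ofNat 0, Int.ofNat 0, Int.ofNat 2, Int.ofNat 0, Int.negSucc 1, Int.ofNat 0, Int.ofNat 2, Int.ofNat 0],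
  [Int.ofNat 2, Int.ofNat 0, Int.ofNat 2, Int.ofNat 2, Int.ofNat 0, Int.negSucc 1, Int.ofNat 0, Int.ofNat 0, Int.ofNat 0, Int.ofNat 0, Int.ofNat 0, Int.ofNat 2, Int.ofNat 2, Int.ofNat 0, Int.ofNat 0, Int.ofNat 0, Int.ofNat 0, Int.ofNat 0, Int.ofNat 0, Int.ofNat 2, Int.ofNat 0, Int.negSucc 1, Int.ofNat 0, Int.ofNat 0],
  [Int.ofNat 0, Int.ofNat 2, Int.ofNat 0, Int.ofNat 2, Int.ofNat 0, Int.negSucc 1, Int.ofNat 0, Int.ofNat 0, Int.negSucc 1, Int.ofNat 0, Int.ofNat 0, Int.ofNat 0, Int.ofNat 0, Int.ofNat 0, Int.ofNat 0, Int.ofNat 0, Int.ofNat 0, Int.ofNat 0, Int.negSucc 1, Int.ofNat 2, Int.ofNat 0, Int.negSucc 1, Int.ofNat 0, Int.ofNat 2],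
  [Int.ofNat 2, Int.ofNat 0, Int.negSucc 1, Int.ofNat 0, Int.ofNat 0, Int.negSucc 1, Int.ofNat 0, Int.ofNat 0, Int.ofNat 0, Int.ofNat 0, Int.ofNat 0, Int.ofNat 0, Int.ofNat 0, Int.ofNat 0, Int.ofNat 0, Int.negSucc 1, Int.ofNat 2, Int.ofNat 0, Int.negSucc 1, Int.ofNat 0, Int.ofNat 0, Int.ofNat 2, Int.ofNat 0, Int.ofNat 2],
  [Int.negSucc 0, Int.ofNat 1, Int.ofNat 3, Int.ofNat 1, Int.negSucc 0, Int.negSucc 0, Int.negSucc 0, Int.negSucc 0, Int.ofNat 1, Int.ofNat 1, Int.ofNat 1, Int.ofNat 1, Int.ofNat 1, Int.negSucc 0, Int.ofNat 1, Int.negSucc 0, Int.ofNat 1, Int.ofNat 1, Int.negSucc 0, Int.negSucc 0, Int.ofNat 1, Int.ofNat 1, Int.negSucc 0, Int.negSucc 0],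
  [Int.negSucc 0, Int.negSucc 0, Int.negSucc 0, Int.ofNat 1, Int.negSucc 0, Int.negSucc 0, Int.ofNat 3, Int.ofNat 1, Int.ofNat 1, Int.negSucc 0, Int.ofNat 1, Int.ofNat 1, Int.ofNat 1, Int.ofNat 1, Int.negSucc 0, Int.negSucc 0, Int.ofNat 1, Int.ofNat 1, Int.ofNat 1, Int.ofNat 1, Int.ofNat 1, Int.negSucc 0, Int.negSucc 0, Int.negSucc 0],
  [Int.negSucc 0, Int.negSucc 0, Int.negSucc 0, Int.ofNat 1, Int.negSucc 0, Int.negSucc 0, Int.ofNat 1, Int.negSucc 0, Int.negSucc 0, Int.negSucc 0, Int.ofNat 1, Int.negSucc 0, Int.negSucc 0, Int.ofNat 1, Int.negSucc 0, Int.negSucc 0, Int.ofNat 1, Int.ofNat 1, Int.negSucc 0, Int.negSucc 0, Int.ofNat 1, Int.negSucc 2, Int.negSucc 0, Int.negSucc 0],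
  [Int.negSucc 0, Int.negSucc 0, Int.ofNat 1, Int.ofNat 1, Int.negSucc 0, Int.ofNat 1, Int.negSucc 0, Int.negSucc 0, Int.negSucc 0, Int.ofNat 1, Int.negSucc 0, Int.negSucc 0, Int.negSucc 0, Int.ofNat 1, Int.negSucc 0, Int.ofNat 1, Int.ofNat 1, Int.ofNat 1, Int.ofNat 1, Int.negSucc 0, Int.ofNat 1, Int.negSucc 2, Int.ofNat 1, Int.negSucc 0],
  [Int.negSucc 0, Int.negSucc 0, Int.negSucc 0, Int.negSucc 0, Int.ofNat 1, Int.ofNat 1, Int.negSucc 0, Int.negSucc 0, Int.ofNat 1, Int.ofNat 1, Int.negSucc 2, Int.ofNat 1, Int.negSucc 0, Int.negSucc 0, Int.ofNat 1, Int.ofNat 1, Int.ofNat 1, Int.negSucc 0, Int.negSucc 0, Int.ofNat 1, Int.ofNat 1, Int.ofNat 1, Int.negSucc 0, Int.negSucc 0],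
  [Int.negSucc 0, Int.negSucc 0, Int.ofNat 1, Int.negSucc 0, Int.ofNat 1, Int.negSucc 0, Int.ofNat 1, Int.negSucc 0, Int.ofNat 1, Int.negSucc 0, Int.ofNat 3, Int.ofNat 1, Int.negSucc 0, Int.negSucc 0, Int.ofNat 1, Int.negSucc 0, Int.ofNat 1, Int.negSucc 0, Int.ofNat 1, Int.ofNat 1, Int.ofNat 1, Int.ofNat 1, Int.ofNat 1, Int.negSucc 0],
  [Int.ofNat 0, Int.ofNat 0, Int.negSucc 1, Int.ofNat 0, Int.ofNat 0, Int.ofNat 0, Int.ofNat 0, Int.negSucc 1, Int.ofNat 0, Int.negSucc 1, Int.ofNat 2, Int.ofNat 0, Int.negSucc 1, Int.negSucc 1, Int.ofNat 2, Int.negSucc 1, Int.ofNat 0, Int.ofNat 0, Int.ofNat 0, Int.ofNat 0, Int.ofNat 0, Int.ofNat 0, Int.ofNat 0, Int.ofNat 0],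
  [Int.ofNat 0, Int.ofNat 0, Int.ofNat 0, Int.ofNat 0, Int.negSucc 1, Int.ofNat 0, Int.ofNat 0, Int.ofNat 0, Int.ofNat 0, Int.negSucc 1, Int.negSucc 1, Int.ofNat 0, Int.ofNat 0, Int.negSucc 1, Int.ofNat 0, Int.negSucc 1, Int.negSucc 1, Int.ofNat 0, Int.ofNat 0, Int.ofNat 0, Int.ofNat 2, Int.ofNat 0, Int.ofNat 2, Int.ofNat 0],
  [Int.ofNat 0, Int.ofNat 0, Int.ofNat 0, Int.ofNat 0, Int.ofNat 0, Int.ofNat 0, Int.ofNat 0, Int.ofNat 0, Int.ofNat 0, Int.ofNat 0, Int.ofNat 0, Int.ofNat 0, Int.ofNat 0, Int.ofNat 0, Int.ofNat 0, Int.ofNat 0, Int.ofNat 0, Int.ofNat 0, Int.ofNat 0, Int.ofNat 0, Int.ofNat 4, Int.ofNat 0, Int.ofNat 4, Int.ofNat 0],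
  [Int.ofNat 4, Int.ofNat 0, Int.ofNat 4, Int.ofNat 0, Int.ofNat 0, Int.ofNat 0, Int.ofNat 0, Int.ofNat 0, Int.ofNat 0, Int.ofNat 0, Int.ofNat 0, Int.ofNat 0, Int.ofNat 0, Int.ofNat 0, Int.ofNat 0, Int.ofNat 0, Int.ofNat 0, Int.ofNat 0, Int.ofNat 0, Int.ofNat 0, Int.ofNat 0, Int.ofNat 0, Int.ofNat 0, Int.ofNat 0],
  [Int.ofNat 0, Int.ofNat 4, Int.ofNat 0, Int.ofNat 0, Int.ofNat 0, Int.ofNat 0, Int.ofNat 0, Int.ofNat 0, Int.ofNat 0, Int.ofNat 0, Int.ofNat 0, Int.ofNat 0, Int.ofNat 0, Int.ofNat 0, Int.ofNat 0, Int.ofNat 0, Int.ofNat 0, Int.ofNat 0, Int.ofNat 0, Int.ofNat 0, Int.ofNat 0, Int.ofNat 0, Int.ofNat 0, Int.ofNat 4],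
  [Int.ofNat 4, Int.ofNat 0, Int.ofNat 0, Int.ofNat 0, Int.ofNat 0, Int.ofNat 0, Int.ofNat 0, Int.ofNat 0, Int.ofNat 0, Int.ofNat 0, Int.ofNat 0, Int.ofNat 0, Int.ofNat 0, Int.ofNat 0, Int.ofNat 0, Int.ofNat 0, Int.ofNat 0, Int.ofNat 0, Int.ofNat 0, Int.ofNat 0, Int.ofNat 0, Int.ofNat 0, Int.ofNat 0, Int.ofNat 4],
  [Int.negSucc 3, Int.ofNat 0, Int.ofNat 0, Int.ofNat 0, Int.ofNat 0, Int.ofNat 0, Int.ofNat 0, Int.ofNat 0, Int.ofNat 0, Int.ofNat 0, Int.ofNat 0, Int.ofNat 0, Int.ofNat 0, Int.ofNat 0, Int.ofNat 0, Int.ofNat 0, Int.ofNat 0, Int.ofNat 0, Int.ofNat 0, Int.ofNat 0, Int.ofNat 0, Int.ofNat 0, Int.ofNat 0, Int.ofNat 4],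
  [Int.ofNat 4, Int.ofNat 0, Int.ofNat 0, Int.ofNat 0, Int.ofNat 0, Int.ofNat 0, Int.ofNat 0, Int.ofNat 0, Int.ofNat 0, Int.ofNat 0, Int.ofNat 0, Int.ofNat 0, Int.ofNat 0, Int.ofNat 0, Int.ofNat 0, Int.ofNat 0, Int.ofNat 0, Int.ofNat 0, Int.ofNat 0, Int.ofNat 0, Int.ofNat 0, Int.ofNat 0, Int.ofNat 0, Int.ofNat 4],
  [Int.ofNat 4, Int.ofNat 0, Int.ofNat 0, Int.ofNat 0, Int.ofNat 0, Int.ofNat 0, Int.ofNat 0, Int.ofNat 0, Int.ofNat 0, Int.ofNat 0, Int.ofNat 0, Int.ofNat 0, Int.ofNat 0, Int.ofNat 0, Int.ofNat 0, Int.ofNat 0, Int.ofNat 0, Int.ofNat 0, Int.ofNat 0, Int.ofNat 0, Int.ofNat 0, Int.ofNat 0, Int.ofNat 0, Int.ofNat 4],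
  [Int.negSucc 3, Int.ofNat 0, Int.ofNat 0, Int.ofNat 0, Int.ofNat 0, Int.ofNat 0, Int.ofNat 0, Int.ofNat 0, Int.ofNat 0, Int.ofNat 0, Int.ofNat 0, Int.ofNat 0, Int.ofNat 0, Int.ofNat 0, Int.ofNat 0, Int.ofNat 0, Int.ofNat 0, Int.ofNat 0, Int.ofNat 0, Int.ofNat 0, Int.ofNat 0, Int.ofNat 0, Int.ofNat 0, Int.ofNat 4],
  [Int.ofNat 0, Int.negSucc 3, Int.ofNat 0, Int.ofNat 0, Int.ofNat 0, Int.ofNat 0, Int.ofNat 0, Int.ofNat 0, Int.ofNat 0, Int.ofNat 0, Int.ofNat 0, Int.ofNat 0, Int.ofNat 0, Int.ofNat 0, Int.ofNat 0, Int.ofNat 0, Int.ofNat 0, Int.ofNat 0, Int.ofNat 0, Int.ofNat 0, Int.ofNat 0, Int.ofNat 0, Int.ofNat 0, Int.ofNat 4],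
  [Int.ofNat 0, Int.ofNat 4, Int.ofNat 0, Int.ofNat 0, Int.ofNat 0, Int.ofNat 0, Int.ofNat 0, Int.ofNat 0, Int.ofNat 0, Int.ofNat 0, Int.ofNat 0, Int.ofNat 0, Int.ofNat 0, Int.ofNat 0, Int.ofNat 0, Int.ofNat 0, Int.ofNat 0, Int.ofNat 0, Int.ofNat 0, Int.ofNat 0, Int.ofNat 0, Int.ofNat 0, Int.ofNat 0, Int.negSucc 3],
  [Int.ofNat 0, Int.ofNat 0, Int.ofNat 0, Int.ofNat 0, Int.ofNat 0, Int.ofNat 0, Int.ofNat 0, Int.ofNat 0, Int.ofNat 0, Int.ofNat 0, Int.ofNat 0, Int.ofNat 0, Int.ofNat 0, Int.ofNat 0, Int.ofNat 0, Int.ofNat 0, Int.ofNat 0, Int.ofNat 0, Int.ofNat 0, Int.ofNat 0, Int.ofNat 0, Int.ofNat 4, Int.ofNat 0, Int.negSucc 3],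
  [Int.negSucc 1, Int.negSucc 1, Int.negSucc 1, Int.ofNat 0, Int.ofNat 0, Int.ofNat 0, Int.negSucc 1, Int.negSucc 1, Int.ofNat 0, Int.ofNat 0, Int.ofNat 0, Int.ofNat 0, Int.ofNat 0, Int.ofNat 0, Int.ofNat 0, Int.ofNat 0, Int.ofNat 0, Int.ofNat 0, Int.ofNat 0, Int.negSucc 1, Int.ofNat 0, Int.ofNat 2, Int.ofNat 0, Int.ofNat 2],
  [Int.negSucc 1, Int.negSucc 1, Int.ofNat 0, Int.ofNat 0, Int.ofNat 0, Int.negSucc 1, Int.negSucc 1, Int.ofNat 0, Int.ofNat 0, Int.ofNat 0, Int.ofNat 0, Int.ofNat 0, Int.ofNat 0, Int.ofNat 0, Int.ofNat 0, Int.ofNat 0, Int.ofNat 0, Int.ofNat 0, Int.negSucc 1, Int.ofNat 0, Int.ofNat 2, Int.ofNat 0, Int.negSucc 1, Int.ofNat 2],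
  [Int.ofNat 1, Int.ofNat 1, Int.negSucc 0, Int.ofNat 1, Int.ofNat 1, Int.negSucc 0, Int.negSucc 0, Int.ofNat 1, Int.ofNat 1, Int.negSucc 0, Int.negSucc 0, Int.ofNat 1, Int.ofNat 1, Int.ofNat 1, Int.ofNat 1, Int.negSucc 0, Int.ofNat 1, Int.ofNat 1, Int.negSucc 0, Int.ofNat 1, Int.ofNat 1, Int.ofNat 1, Int.negSucc 0, Int.negSucc 2],
  [Int.ofNat 1, Int.ofNat 1, Int.ofNat 1, Int.ofNat 1, Int.ofNat 1, Int.ofNat 1, Int.ofNat 1, Int.ofNat 1, Int.ofNat 1, Int.ofNat 1, Int.ofNat 1, Int.ofNat 1, Int.ofNat 1, Int.ofNat 1, Int.ofNat 1, Int.ofNat 1, Int.ofNat 1, Int.ofNat 1, Int.ofNat 1, Int.ofNat 1, Int.ofNat 1, Int.ofNat 1, Int.ofNat 1, Int.negSucc 2],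
  [Int.ofNat 1, Int.ofNat 1, Int.ofNat 1, Int.ofNat 1, Int.ofNat 1, Int.ofNat 1, Int.ofNat 1, Int.ofNat 1, Int.ofNat 1, Int.ofNat 1, Int.ofNat 1, Int.ofNat 1, Int.ofNat 1, Int.ofNat 1, Int.ofNat 1, Int.ofNat 1, Int.ofNat 1, Int.ofNat 1, Int.ofNat 1, Int.ofNat 1, Int.ofNat 1, Int.ofNat 1, Int.ofNat 1, Int.negSucc 2],
  [Int.ofNat 1, Int.ofNat 1, Int.negSucc 0, Int.ofNat 1, Int.ofNat 1, Int.negSucc 0, Int.negSucc 0, Int.ofNat 1, Int.ofNat 1, Int.negSucc 0, Int.negSucc 0, Int.ofNat 1, Int.ofNat 1, Int.ofNat 1, Int.ofNat 1, Int.negSucc 0, Int.ofNat 1, Int.ofNat 1, Int.negSucc 0, Int.ofNat 1, Int.ofNat 1, Int.ofNat 1, Int.negSucc 0, Int.negSucc 2],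
  [Int.negSucc 1, Int.negSucc 1, Int.ofNat 0, Int.ofNat 0, Int.ofNat 0, Int.negSucc 1, Int.negSucc 1, Int.ofNat 0, Int.ofNat 0, Int.ofNat 0, Int.ofNat 0, Int.ofNat 0, Int.ofNat 0, Int.ofNat 0, Int.ofNat 0, Int.ofNat 0, Int.ofNat 0, Int.ofNat 0, Int.negSucc 1, Int.ofNat 0, Int.ofNat 2, Int.ofNat 0, Int.negSucc 1, Int.ofNat 2],
  [Int.negSucc 1, Int.negSucc 1, Int.negSucc 1, Int.ofNat 0, Int.ofNat 0, Int.ofNat 0, Int.negSucc 1, Int.negSucc 1, Int.ofNat 0, Int.ofNat 0, Int.ofNat 0, Int.ofNat 0, Int.ofNat 0, Int.ofNat 0, Int.ofNat 0, Int.ofNat 0, Int.ofNat 0, Int.ofNat 0, Int.ofNat 0, Int.negSucc 1, Int.ofNat 0, Int.ofNat 2, Int.ofNat 0, Int.ofNat 2],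
  [Int.ofNat 0, Int.ofNat 0, Int.ofNat 0, Int.ofNat 0, Int.ofNat 0, Int.ofNat 0, Int.ofNat 0, Int.ofNat 0, Int.ofNat 0, Int.ofNat 0, Int.ofNat 0, Int.ofNat 0, Int.ofNat 0, Int.ofNat 0, Int.ofNat 0, Int.ofNat 0, Int.ofNat 0, Int.ofNat 0, Int.ofNat 0, Int.ofNat 0, Int.ofNat 0, Int.ofNat 4, Int.ofNat 0, Int.negSucc 3],
  [Int.ofNat 0, Int.ofNat 4, Int.ofNat 0, Int.ofNat 0, Int.ofNat 0, Int.ofNat 0, Int.ofNat 0, Int.ofNat 0, Int.ofNat 0, Int.ofNat 0, Int.ofNat 0, Int.ofNat 0, Int.ofNat 0, Int.ofNat 0, Int.ofNat 0, Int.ofNat 0, Int.ofNat 0, Int.ofNat 0, Int.ofNat 0, Int.ofNat 0, Int.ofNat 0, Int.ofNat 0, Int.ofNat 0, Int.negSucc 3],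
  [Int.ofNat 0, Int.negSucc 3, Int.ofNat 0, Int.ofNat 0, Int.ofNat 0, Int.ofNat 0, Int.ofNat 0, Int.ofNat 0, Int.ofNat 0, Int.ofNat 0, Int.ofNat 0, Int.ofNat 0, Int.ofNat 0, Int.ofNat 0, Int.ofNat 0, Int.ofNat 0, Int.ofNat 0, Int.ofNat 0, Int.ofNat 0, Int.ofNat 0, Int.ofNat 0, Int.ofNat 0, Int.ofNat 0, Int.ofNat 4],
  [Int.negSucc 3, Int.ofNat 0, Int.ofNat 0, Int.ofNat 0, Int.ofNat 0, Int.ofNat 0, Int.ofNat 0, Int.ofNat 0, Int.ofNat 0, Int.ofNat 0, Int.ofNat 0, Int.ofNat 0, Int.ofNat 0, Int.ofNat 0, Int.ofNat 0, Int.ofNat 0, Int.ofNat 0, Int.ofNat 0, Int.ofNat 0, Int.ofNat 0, Int.ofNat 0, Int.ofNat 0, Int.ofNat 0, Int.ofNat 4],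
  [Int.ofNat 4, Int.ofNat 0, Int.ofNat 0, Int.ofNat 0, Int.ofNat 0, Int.ofNat 0, Int.ofNat 0, Int.ofNat 0, Int.ofNat 0, Int.ofNat 0, Int.ofNat 0, Int.ofNat 0, Int.ofNat 0, Int.ofNat 0, Int.ofNat 0, Int.ofNat 0, Int.ofNat 0, Int.ofNat 0, Int.ofNat 0, Int.ofNat 0, Int.ofNat 0, Int.ofNat 0, Int.ofNat 0, Int.ofNat 4],
  [Int.negSucc 3, Int.ofNat 0, Int.ofNat 0, Int.ofNat 0, Int.ofNat 0, Int.ofNat 0, Int.ofNat 0, Int.ofNat 0, Int.ofNat 0, Int.ofNat 0, Int.ofNat 0, Int.ofNat 0, Int.ofNat 0, Int.ofNat 0, Int.ofNat 0, Int.ofNat 0, Int.ofNat 0, Int.ofNat 0, Int.ofNat 0, Int.ofNat 0, Int.ofNat 0, Int.ofNat 0, Int.ofNat 0, Int.ofNat 4],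
  [Int.ofNat 4, Int.ofNat 0, Int.ofNat 0, Int.ofNat 0, Int.ofNat 0, Int.ofNat 0, Int.ofNat 0, Int.ofNat 0, Int.ofNat 0, Int.ofNat 0, Int.ofNat 0, Int.ofNat 0, Int.ofNat 0, Int.ofNat 0, Int.ofNat 0, Int.ofNat 0, Int.ofNat 0, Int.ofNat 0, Int.ofNat 0, Int.ofNat 0, Int.ofNat 0, Int.ofNat 0, Int.ofNat 0, Int.negSucc 3],
  [Int.negSucc 3, Int.ofNat 0, Int.ofNat 0, Int.ofNat 0, Int.ofNat 0, Int.ofNat 0, Int.ofNat 0, Int.ofNat 0, Int.ofNat 0, Int.ofNat 0, Int.ofNat 0, Int.ofNat 0, Int.ofNat 0, Int.ofNat 0, Int.ofNat 0, Int.ofNat 0, Int.ofNat 0, Int.ofNat 0, Int.ofNat 0, Int.ofNat 0, Int.ofNat 0, Int.ofNat 0, Int.ofNat 0, Int.negSucc 3],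
  [Int.ofNat 0, Int.negSucc 3, Int.ofNat 0, Int.ofNat 0, Int.ofNat 0, Int.ofNat 0, Int.ofNat 0, Int.ofNat 0, Int.ofNat 0, Int.ofNat 0, Int.ofNat 0, Int.ofNat 0, Int.ofNat 0, Int.ofNat 0, Int.ofNat 0, Int.ofNat 0, Int.ofNat 0, Int.ofNat 0, Int.ofNat 0, Int.ofNat 0, Int.ofNat 0, Int.ofNat 0, Int.ofNat 0, Int.negSucc 3],
  [Int.negSucc 3, Int.ofNat 0, Int.negSucc 3, Int.ofNat 0, Int.ofNat 0, Int.ofNat 0, Int.ofNat 0, Int.ofNat 0, Int.ofNat 0, Int.ofNat 0, Int.ofNat 0, Int.ofNat 0, Int.ofNat 0, Int.ofNat 0, Int.ofNat 0, Int.ofNat 0, Int.ofNat 0, Int.ofNat 0, Int.ofNat 0, Int.ofNat 0, Int.ofNat 0, Int.ofNat 0, Int.ofNat 0, Int.ofNat 0],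
  [Int.ofNat 0, Int.ofNat 0, Int.ofNat 0, Int.ofNat 0, Int.ofNat 0, Int.ofNat 0, Int.ofNat 0, Int.ofNat 0, Int.ofNat 0, Int.ofNat 0, Int.ofNat 0, Int.ofNat 0, Int.ofNat 0, Int.ofNat 0, Int.ofNat 0, Int.ofNat 0, Int.ofNat 0, Int.ofNat 0, Int.ofNat 0, Int.ofNat 0, Int.negSucc 3, Int.ofNat 0, Int.negSucc 3, Int.ofNat 0],
  [Int.ofNat 0, Int.ofNat 0, Int.ofNat 0, Int.ofNat 0, Int.ofNat 2, Int.ofNat 0, Int.ofNat 0, Int.ofNat 0, Int.ofNat 0, Int.ofNat 2, Int.ofNat 2, Int.ofNat 0, Int.ofNat 0, Int.ofNat 2, Int.ofNat 0, Int.ofNat 2, Int.ofNat 2, Int.ofNat 0, Int.ofNat 0, Int.ofNat 0, Int.negSucc 1, Int.ofNat 0, Int.negSucc 1, Int.ofNat 0],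
  [Int.ofNat 0, Int.ofNat 0, Int.ofNat 2, Int.ofNat 0, Int.ofNat 0, Int.ofNat 0, Int.ofNat 0, Int.ofNat 2, Int.ofNat 0, Int.ofNat 2, Int.negSucc 1, Int.ofNat 0, Int.ofNat 2, Int.ofNat 2, Int.negSucc 1, Int.ofNat 2, Int.ofNat 0, Int.ofNat 0, Int.ofNat 0, Int.ofNat 0, Int.ofNat 0, Int.ofNat 0, Int.ofNat 0, Int.ofNat 0],
  [Int.ofNat 1, Int.ofNat 1, Int.negSucc 0, Int.ofNat 1, Int.negSucc 0, Int.ofNat 1, Int.negSucc 0, Int.ofNat 1, Int.negSucc 0, Int.ofNat 1, Int.negSucc 2, Int.negSucc 0, Int.ofNat 1, Int.ofNat 1, Int.negSucc 0, Int.ofNat 1, Int.negSucc 0, Int.ofNat 1, Int.negSucc 0, Int.negSucc 0, Int.negSucc 0, Int.negSucc 0, Int.negSucc 0, Int.ofNat 1],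
  [Int.ofNat 1, Int.ofNat 1, Int.ofNat 1, Int.ofNat 1, Int.negSucc 0, Int.negSucc 0, Int.ofNat 1, Int.ofNat 1, Int.negSucc 0, Int.negSucc 0, Int.ofNat 3, Int.negSucc 0, Int.ofNat 1, Int.ofNat 1, Int.negSucc 0, Int.negSucc 0, Int.negSucc 0, Int.ofNat 1, Int.ofNat 1, Int.negSucc 0, Int.negSucc 0, Int.negSucc 0, Int.ofNat 1, Int.ofNat 1],
  [Int.negSucc 0, Int.negSucc 0, Int.negSucc 0, Int.negSucc 0, Int.ofNat 1, Int.ofNat 1, Int.ofNat 1, Int.ofNat 1, Int.negSucc 0, Int.negSucc 0, Int.negSucc 0, Int.negSucc 0, Int.ofNat 3, Int.negSucc 0, Int.ofNat 1, Int.negSucc 0, Int.ofNat 1, Int.ofNat 1, Int.ofNat 1, Int.ofNat 1, Int.ofNat 1, Int.negSucc 0, Int.ofNat 1, Int.ofNat 1],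
  [Int.negSucc 0, Int.negSucc 0, Int.ofNat 1, Int.negSucc 0, Int.ofNat 1, Int.negSucc 0, Int.negSucc 0, Int.ofNat 1, Int.negSucc 0, Int.ofNat 1, Int.ofNat 1, Int.negSucc 0, Int.ofNat 3, Int.negSucc 0, Int.ofNat 1, Int.ofNat 1, Int.ofNat 1, Int.ofNat 1, Int.negSucc 0, Int.ofNat 1, Int.ofNat 1, Int.negSucc 0, Int.negSucc 0, Int.ofNat 1],
  [Int.ofNat 1, Int.ofNat 1, Int.negSucc 0, Int.negSucc 0, Int.ofNat 1, Int.negSucc 0, Int.negSucc 0, Int.ofNat 1, Int.negSucc 0, Int.negSucc 0, Int.negSucc 0, Int.negSucc 0, Int.ofNat 3, Int.negSucc 0, Int.ofNat 1, Int.negSucc 0, Int.ofNat 1, Int.ofNat 1, Int.negSucc 0, Int.ofNat 1, Int.negSucc 0, Int.negSucc 0, Int.negSucc 0, Int.negSucc 0],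
  [Int.ofNat 1, Int.negSucc 0, Int.negSucc 0, Int.negSucc 0, Int.negSucc 0, Int.negSucc 0, Int.ofNat 1, Int.negSucc 0, Int.ofNat 1, Int.ofNat 3, Int.ofNat 1, Int.ofNat 1, Int.negSucc 0, Int.negSucc 0, Int.ofNat 1, Int.negSucc 0, Int.negSucc 0, Int.negSucc 0, Int.ofNat 1, Int.negSucc 0, Int.negSucc 0, Int.negSucc 0, Int.ofNat 1, Int.negSucc 0],
  [Int.negSucc 1, Int.ofNat 0, Int.ofNat 0, Int.ofNat 0, Int.ofNat 0, Int.ofNat 0, Int.ofNat 2, Int.ofNat 0, Int.ofNat 0, Int.ofNat 2, Int.ofNat 0, Int.ofNat 0, Int.negSucc 1, Int.ofNat 0, Int.ofNat 2, Int.negSucc 1, Int.ofNat 0, Int.ofNat 0, Int.ofNat 0, Int.ofNat 0, Int.negSucc 1, Int.ofNat 0, Int.ofNat 2, Int.ofNat 0],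
  [Int.negSucc 1, Int.ofNat 0, Int.ofNat 2, Int.negSucc 1, Int.ofNat 0, Int.ofNat 0, Int.ofNat 0, Int.ofNat 0, Int.ofNat 0, Int.ofNat 2, Int.ofNat 0, Int.ofNat 0, Int.ofNat 2, Int.ofNat 0, Int.ofNat 0, Int.negSucc 1, Int.ofNat 0, Int.ofNat 2, Int.negSucc 1, Int.ofNat 0, Int.ofNat 0, Int.ofNat 0, Int.ofNat 0, Int.ofNat 0],
  [Int.ofNat 2, Int.ofNat 0, Int.negSucc 1, Int.negSucc 1, Int.ofNat 0, Int.ofNat 0, Int.ofNat 0, Int.ofNat 0, Int.ofNat 0, Int.ofNat 2, Int.ofNat 0, Int.ofNat 0, Int.ofNat 2, Int.ofNat 0, Int.ofNat 0, Int.negSucc 1, Int.ofNat 0, Int.ofNat 2, Int.negSucc 1, Int.ofNat 0, Int.ofNat 0, Int.ofNat 0, Int.ofNat 0, Int.ofNat 0],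
  [Int.ofNat 0, Int.negSucc 1, Int.negSucc 1, Int.ofNat 0, Int.ofNat 0, Int.ofNat 0, Int.ofNat 0, Int.ofNat 0, Int.ofNat 2, Int.ofNat 0, Int.ofNat 0, Int.ofNat 2, Int.ofNat 0, Int.ofNat 0, Int.negSucc 1, Int.ofNat 0, Int.ofNat 2, Int.negSucc 1, Int.ofNat 0, Int.ofNat 0, Int.ofNat 0, Int.ofNat 0, Int.ofNat 2, Int.ofNat 0],
  [Int.ofNat 0, Int.negSucc 1, Int.ofNat 2, Int.ofNat 0, Int.ofNat 0, Int.ofNat 0, Int.ofNat 0, Int.ofNat 0, Int.ofNat 2, Int.ofNat 0, Int.ofNat 0, Int.negSucc 1, Int.ofNat 0, Int.ofNat 0, Int.negSucc 1, Int.ofNat 0, Int.ofNat 2, Int.negSucc 1, Int.ofNat 0, Int.ofNat 0, Int.ofNat 0, Int.ofNat 0, Int.ofNat 2, Int.ofNat 0],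
  [Int.ofNat 0, Int.ofNat 2, Int.negSucc 1, Int.ofNat 0, Int.ofNat 0, Int.ofNat 0, Int.ofNat 0, Int.ofNat 0, Int.negSucc 1, Int.ofNat 0, Int.ofNat 0, Int.negSucc 1, Int.ofNat 0, Int.ofNat 0, Int.negSucc 1, Int.ofNat 0, Int.negSucc 1, Int.negSucc 1, Int.ofNat 0, Int.ofNat 0, Int.ofNat 0, Int.ofNat 0, Int.ofNat 2, Int.ofNat 0],
  [Int.ofNat 0, Int.ofNat 2, Int.negSucc 1, Int.ofNat 0, Int.negSucc 1, Int.ofNat 0, Int.ofNat 0, Int.ofNat 0, Int.ofNat 0, Int.ofNat 0, Int.negSucc 1, Int.negSucc 1, Int.ofNat 0, Int.ofNat 0, Int.ofNat 0, Int.ofNat 0, Int.ofNat 0, Int.ofNat 0, Int.negSucc 1, Int.ofNat 0, Int.negSucc 1, Int.ofNat 0, Int.ofNat 2, Int.ofNat 0],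
  [Int.ofNat 0, Int.ofNat 2, Int.ofNat 2, Int.ofNat 0, Int.negSucc 1, Int.ofNat 0, Int.ofNat 0, Int.ofNat 0, Int.ofNat 0, Int.ofNat 0, Int.ofNat 2, Int.ofNat 2, Int.ofNat 0, Int.ofNat 0, Int.ofNat 0, Int.ofNat 0, Int.ofNat 0, Int.ofNat 0, Int.ofNat 2, Int.ofNat 0, Int.negSucc 1, Int.ofNat 0, Int.ofNat 2, Int.ofNat 0],
  [Int.ofNat 2, Int.ofNat 0, Int.ofNat 2, Int.ofNat 2, Int.ofNat 0, Int.negSucc 1, Int.ofNat 0, Int.ofNat 0, Int.ofNat 0, Int.ofNat 0, Int.ofNat 0, Int.ofNat 2, Int.ofNat 2, Int.ofNat 0, Int.ofNat 0, Int.ofNat 0, Int.ofNat 0, Int.ofNat 0, Int.ofNat 0, Int.ofNat 2, Int.ofNat 0, Int.negSucc 1, Int.ofNat 0, Int.ofNat 0],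
  [Int.ofNat 0, Int.ofNat 2, Int.ofNat 0, Int.ofNat 2, Int.ofNat 0, Int.negSucc 1, Int.ofNat 0, Int.ofNat 0, Int.negSucc 1, Int.ofNat 0, Int.ofNat 0, Int.ofNat 0, Int.ofNat 0, Int.ofNat 0, Int.ofNat 0, Int.ofNat 0, Int.ofNat 0, Int.ofNat 0, Int.negSucc 1, Int.ofNat 2, Int.ofNat 0, Int.negSucc 1, Int.ofNat 0, Int.ofNat 2],
  [Int.ofNat 2, Int.ofNat 0, Int.negSucc 1, Int.ofNat 0, Int.ofNat 0, Int.negSucc 1, Int.ofNat 0, Int.ofNat 0, Int.ofNat 0, Int.ofNat 0, Int.ofNat 0, Int.ofNat 0, Int.ofNat 0, Int.ofNat 0, Int.ofNat 0, Int.negSucc 1, Int.ofNat 2, Int.ofNat 0, Int.negSucc 1, Int.ofNat 0, Int.ofNat 0, Int.ofNat 2, Int.ofNat 0, Int.ofNat 2],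
  [Int.negSucc 0, Int.ofNat 1, Int.ofNat 3, Int.ofNat 1, Int.negSucc 0, Int.negSucc 0, Int.negSucc 0, Int.negSucc 0, Int.ofNat 1, Int.ofNat 1, Int.ofNat 1, Int.ofNat 1, Int.ofNat 1, Int.negSucc 0, Int.ofNat 1, Int.negSucc 0, Int.ofNat 1, Int.ofNat 1, Int.negSucc 0, Int.negSucc 0, Int.ofNat 1, Int.ofNat 1, Int.negSucc 0, Int.negSucc 0],
  [Int.negSucc 0, Int.negSucc 0, Int.negSucc 0, Int.ofNat 1, Int.negSucc 0, Int.negSucc 0, Int.ofNat 3, Int.ofNat 1, Int.ofNat 1, Int.negSucc 0, Int.ofNat 1, Int.ofNat 1, Int.ofNat 1, Int.ofNat 1, Int.negSucc 0, Int.negSucc 0, Int.ofNat 1, Int.ofNat 1, Int.ofNat 1, Int.ofNat 1, Int.ofNat 1, Int.negSucc 0, Int.negSucc 0, Int.negSucc 0],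
  [Int.negSucc 0, Int.negSucc 0, Int.negSucc 0, Int.ofNat 1, Int.negSucc 0, Int.negSucc 0, Int.ofNat 1, Int.negSucc 0, Int.negSucc 0, Int.negSucc 0, Int.ofNat 1, Int.negSucc 0, Int.negSucc 0, Int.ofNat 1, Int.negSucc 0, Int.negSucc 0, Int.ofNat 1, Int.ofNat 1, Int.negSucc 0, Int.negSucc 0, Int.ofNat 1, Int.negSucc 2, Int.negSucc 0, Int.negSucc 0],
  [Int.negSucc 0, Int.negSucc 0, Int.ofNat 1, Int.ofNat 1, Int.negSucc 0, Int.ofNat 1, Int.negSucc 0, Int.negSucc 0, Int.negSucc 0, Int.ofNat 1, Int.negSucc 0, Int.negSucc 0, Int.negSucc 0, Int.ofNat 1, Int.negSucc 0, Int.ofNat 1, Int.ofNat 1, Int.ofNat 1, Int.ofNat 1, Int.negSucc 0, Int.ofNat 1, Int.negSucc 2, Int.ofNat 1, Int.negSucc 0],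
  [Int.negSucc 0, Int.negSucc 0, Int.negSucc 0, Int.negSucc 0, Int.ofNat 1, Int.ofNat 1, Int.negSucc 0, Int.negSucc 0, Int.ofNat 1, Int.ofNat 1, Int.negSucc 2, Int.ofNat 1, Int.negSucc 0, Int.negSucc 0, Int.ofNat 1, Int.ofNat 1, Int.ofNat 1, Int.negSucc 0, Int.negSucc 0, Int.ofNat 1, Int.ofNat 1, Int.ofNat 1, Int.negSucc 0, Int.negSucc 0],
  [Int.negSucc 0, Int.negSucc 0, Int.ofNat 1, Int.negSucc 0, Int.ofNat 1, Int.negSucc 0, Int.ofNat 1, Int.negSucc 0, Int.ofNat 1, Int.negSucc 0, Int.ofNat 3, Int.ofNat 1, Int.negSucc 0, Int.negSucc 0, Int.ofNat 1, Int.negSucc 0, Int.ofNat 1, Int.negSucc 0, Int.ofNat 1, Int.ofNat 1, Int.ofNat 1, Int.ofNat 1, Int.ofNat 1, Int.negSucc 0],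
  [Int.ofNat 0, Int.ofNat 0, Int.negSucc 1, Int.ofNat 0, Int.ofNat 0, Int.ofNat 0, Int.ofNat 0, Int.negSucc 1, Int.ofNat 0, Int.negSucc 1, Int.ofNat 2, Int.ofNat 0, Int.negSucc 1, Int.negSucc 1, Int.ofNat 2, Int.negSucc 1, Int.ofNat 0, Int.ofNat 0, Int.ofNat 0, Int.ofNat 0, Int.ofNat 0, Int.ofNat 0, Int.ofNat 0, Int.ofNat 0],
  [Int.ofNat 0, Int.ofNat 0, Int.ofNat 0, Int.ofNat 0, Int.negSucc 1, Int.ofNat 0, Int.ofNat 0, Int.ofNat 0, Int.ofNat 0, Int.negSucc 1, Int.negSucc 1, Int.ofNat 0, Int.ofNat 0, Int.negSucc 1, Int.ofNat 0, Int.negSucc 1, Int.negSucc 1, Int.ofNat 0, Int.ofNat 0, Int.ofNat 0, Int.ofNat 2, Int.ofNat 0, Int.ofNat 2, Int.ofNat 0],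
  [Int.ofNat 0, Int.ofNat 0, Int.ofNat 0, Int.ofNat 0, Int.ofNat 0, Int.ofNat 0, Int.ofNat 0, Int.ofNat 0, Int.ofNat 0, Int.ofNat 0, Int.ofNat 0, Int.ofNat 0, Int.ofNat 0, Int.ofNat 0, Int.ofNat 0, Int.ofNat 0, Int.ofNat 0, Int.ofNat 0, Int.ofNat 0, Int.ofNat 0, Int.ofNat 4, Int.ofNat 0, Int.ofNat 4, Int.ofNat 0],
  [Int.ofNat 4, Int.ofNat 0, Int.ofNat 4, Int.ofNat 0, Int.ofNat 0, Int.ofNat 0, Int.ofNat 0, Int.ofNat 0, Int.ofNat 0, Int.ofNat 0, Int.ofNat 0, Int.ofNat 0, Int.ofNat 0, Int.ofNat 0, Int.ofNat 0, Int.ofNat 0, Int.ofNat 0, Int.ofNat 0, Int.ofNat 0, Int.ofNat 0, Int.ofNat 0, Int.ofNat 0, Int.ofNat 0, Int.ofNat 0],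
  [Int.ofNat 0, Int.ofNat 4, Int.ofNat 0, Int.ofNat 0, Int.ofNat 0, Int.ofNat 0, Int.ofNat 0, Int.ofNat 0, Int.ofNat 0, Int.ofNat 0, Int.ofNat 0, Int.ofNat 0, Int.ofNat 0, Int.ofNat 0, Int.ofNat 0, Int.ofNat 0, Int.ofNat 0, Int.ofNat 0, Int.ofNat 0, Int.ofNat 0, Int.ofNat 0, Int.ofNat 0, Int.ofNat 0, Int.ofNat 4],
  [Int.ofNat 4, Int.ofNat 0, Int.ofNat 0, Int.ofNat 0, Int.ofNat 0, Int.ofNat 0, Int.ofNat 0, Int.ofNat 0, Int.ofNat 0, Int.ofNat 0, Int.ofNat 0, Int.ofNat 0, Int.ofNat 0, Int.ofNat 0, Int.ofNat 0, Int.ofNat 0, Int.ofNat 0, Int.ofNat 0, Int.ofNat 0, Int.ofNat 0, Int.ofNat 0, Int.ofNat 0, Int.ofNat 0, Int.ofNat 4],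
  [Int.negSucc 3, Int.ofNat 0, Int.ofNat 0, Int.ofNat 0, Int.ofNat 0, Int.ofNat 0, Int.ofNat 0, Int.ofNat 0, Int.ofNat 0, Int.ofNat 0, Int.ofNat 0, Int.ofNat 0, Int.ofNat 0, Int.ofNat 0, Int.ofNat 0, Int.ofNat 0, Int.ofNat 0, Int.ofNat 0, Int.ofNat 0, Int.ofNat 0, Int.ofNat 0, Int.ofNat 0, Int.ofNat 0, Int.ofNat 4],
  [Int.ofNat 4, Int.ofNat 0, Int.ofNat 0, Int.ofNat 0, Int.ofNat 0, Int.ofNat 0, Int.ofNat 0, Int.ofNat 0, Int.ofNat 0, Int.ofNat 0, Int.ofNat 0, Int.ofNat 0, Int.ofNat 0, Int.ofNat 0, Int.ofNat 0, Int.ofNat 0, Int.ofNat 0, Int.ofNat 0, Int.ofNat 0, Int.ofNat 0, Int.ofNat 0, Int.ofNat 0, Int.ofNat 0, Int.ofNat 4],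
  [Int.ofNat 4, Int.ofNat 0, Int.ofNat 0, Int.ofNat 0, Int.ofNat 0, Int.ofNat 0, Int.ofNat 0, Int.ofNat 0, Int.ofNat 0, Int.ofNat 0, Int.ofNat 0, Int.ofNat 0, Int.ofNat 0, Int.ofNat 0, Int.ofNat 0, Int.ofNat 0, Int.ofNat 0, Int.ofNat 0, Int.ofNat 0, Int.ofNat 0, Int.ofNat 0, Int.ofNat 0, Int.ofNat 0, Int.ofNat 4],
  [Int.negSucc 3, Int.ofNat 0, Int.ofNat 0, Int.ofNat 0, Int.ofNat 0, Int.ofNat 0, Int.ofNat 0, Int.ofNat 0, Int.ofNat 0, Int.ofNat 0, Int.ofNat 0, Int.ofNat 0, Int.ofNat 0, Int.ofNat 0, Int.ofNat 0, Int.ofNat 0, Int.ofNat 0, Int.ofNat 0, Int.ofNat 0, Int.ofNat 0, Int.ofNat 0, Int.ofNat 0, Int.ofNat 0, Int.ofNat 4],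
  [Int.ofNat 0, Int.negSucc 3, Int.ofNat 0, Int.ofNat 0, Int.ofNat 0, Int.ofNat 0, Int.ofNat 0, Int.ofNat 0, Int.ofNat 0, Int.ofNat 0, Int.ofNat 0, Int.ofNat 0, Int.ofNat 0, Int.ofNat 0, Int.ofNat 0, Int.ofNat 0, Int.ofNat 0, Int.ofNat 0, Int.ofNat 0, Int.ofNat 0, Int.ofNat 0, Int.ofNat 0, Int.ofNat 0, Int.ofNat 4],
  [Int.ofNat 0, Int.ofNat 4, Int.ofNat 0, Int.ofNat 0, Int.ofNat 0, Int.ofNat 0, Int.ofNat 0, Int.ofNat 0, Int.ofNat 0, Int.ofNat 0, Int.ofNat 0, Int.ofNat 0, Int.ofNat 0, Int.ofNat 0, Int.ofNat 0, Int.ofNat 0, Int.ofNat 0, Int.ofNat 0, Int.ofNat 0, Int.ofNat 0, Int.ofNat 0, Int.ofNat 0, Int.ofNat 0, Int.negSucc 3],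
  [Int.ofNat 0, Int.ofNat 0, Int.ofNat 0, Int.ofNat 0, Int.ofNat 0, Int.ofNat 0, Int.ofNat 0, Int.ofNat 0, Int.ofNat 0, Int.ofNat 0, Int.ofNat 0, Int.ofNat 0, Int.ofNat 0, Int.ofNat 0, Int.ofNat 0, Int.ofNat 0, Int.ofNat 0, Int.ofNat 0, Int.ofNat 0, Int.ofNat 0, Int.ofNat 0, Int.ofNat 4, Int.ofNat 0, Int.negSucc 3],
  [Int.negSucc 1, Int.negSucc 1, Int.negSucc 1, Int.ofNat 0, Int.ofNat 0, Int.ofNat 0, Int.negSucc 1, Int.negSucc 1, Int.ofNat 0, Int.ofNat 0, Int.ofNat 0, Int.ofNat 0, Int.ofNat 0, Int.ofNat 0, Int.ofNat 0, Int.ofNat 0, Int.ofNat 0, Int.ofNat 0, Int.ofNat 0, Int.negSucc 1, Int.ofNat 0, Int.ofNat 2, Int.ofNat 0, Int.ofNat 2],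
  [Int.negSucc 1, Int.negSucc 1, Int.ofNat 0, Int.ofNat 0, Int.ofNat 0, Int.negSucc 1, Int.negSucc 1, Int.ofNat 0, Int.ofNat 0, Int.ofNat 0, Int.ofNat 0, Int.ofNat 0, Int.ofNat 0, Int.ofNat 0, Int.ofNat 0, Int.ofNat 0, Int.ofNat 0, Int.ofNat 0, Int.negSucc 1, Int.ofNat 0, Int.ofNat 2, Int.ofNat 0, Int.negSucc 1, Int.ofNat 2],
  [Int.ofNat 1, Int.ofNat 1, Int.negSucc 0, Int.ofNat 1, Int.ofNat 1, Int.negSucc 0, Int.negSucc 0, Int.ofNat 1, Int.ofNat 1, Int.negSucc 0, Int.negSucc 0, Int.ofNat 1, Int.ofNat 1, Int.ofNat 1, Int.ofNat 1, Int.negSucc 0, Int.ofNat 1, Int.ofNat 1, Int.negSucc 0, Int.ofNat 1, Int.ofNat 1, Int.ofNat 1, Int.negSucc 0, Int.negSucc 2],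
  [Int.ofNat 1, Int.ofNat 1, Int.ofNat 1, Int.ofNat 1, Int.ofNat 1, Int.ofNat 1, Int.ofNat 1, Int.ofNat 1, Int.ofNat 1, Int.ofNat 1, Int.ofNat 1, Int.ofNat 1, Int.ofNat 1, Int.ofNat 1, Int.ofNat 1, Int.ofNat 1, Int.ofNat 1, Int.ofNat 1, Int.ofNat 1, Int.ofNat 1, Int.ofNat 1, Int.ofNat 1, Int.ofNat 1, Int.negSucc 2],
  [Int.ofNat 1, Int.ofNat 1, Int.ofNat 1, Int.ofNat 1, Int.ofNat 1, Int.ofNat 1, Int.ofNat 1, Int.ofNat 1, Int.ofNat 1, Int.ofNat 1, Int.ofNat 1, Int.ofNat 1, Int.ofNat 1, Int.ofNat 1, Int.ofNat 1, Int.ofNat 1, Int.ofNat 1, Int.ofNat 1, Int.ofNat 1, Int.ofNat 1, Int.ofNat 1, Int.ofNat 1, Int.ofNat 1, Int.negSucc 2],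
  [Int.ofNat 1, Int.ofNat 1, Int.negSucc 0, Int.ofNat 1, Int.ofNat 1, Int.negSucc 0, Int.negSucc 0, Int.ofNat 1, Int.ofNat 1, Int.negSucc 0, Int.negSucc 0, Int.ofNat 1, Int.ofNat 1, Int.ofNat 1, Int.ofNat 1, Int.negSucc 0, Int.ofNat 1, Int.ofNat 1, Int.negSucc 0, Int.ofNat 1, Int.ofNat 1, Int.ofNat 1, Int.negSucc 0, Int.negSucc 2],
  [Int.negSucc 1, Int.negSucc 1, Int.ofNat 0, Int.ofNat 0, Int.ofNat 0, Int.negSucc 1, Int.negSucc 1, Int.ofNat 0, Int.ofNat 0, Int.ofNat 0, Int.ofNat 0, Int.ofNat 0, Int.ofNat 0, Int.ofNat 0, Int.ofNat 0, Int.ofNat 0, Int.ofNat 0, Int.ofNat 0, Int.negSucc 1, Int.ofNat 0, Int.ofNat 2, Int.ofNat 0, Int.negSucc 1, Int.ofNat 2],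
  [Int.negSucc 1, Int.negSucc 1, Int.negSucc 1, Int.ofNat 0, Int.ofNat 0, Int.ofNat 0, Int.negSucc 1, Int.negSucc 1, Int.ofNat 0, Int.ofNat 0, Int.ofNat 0, Int.ofNat 0, Int.ofNat 0, Int.ofNat 0, Int.ofNat 0, Int.ofNat 0, Int.ofNat 0, Int.ofNat 0, Int.ofNat 0, Int.negSucc 1, Int.ofNat 0, Int.ofNat 2, Int.ofNat 0, Int.ofNat 2],
  [Int.ofNat 0, Int.ofNat 0, Int.ofNat 0, Int.ofNat 0, Int.ofNat 0, Int.ofNat 0, Int.ofNat 0, Int.ofNat 0, Int.ofNat 0, Int.ofNat 0, Int.ofNat 0, Int.ofNat 0, Int.ofNat 0, Int.ofNat 0, Int.ofNat 0, Int.ofNat 0, Int.ofNat 0, Int.ofNat 0, Int.ofNat 0, Int.ofNat 0, Int.ofNat 0, Int.ofNat 4, Int.ofNat 0, Int.negSucc 3],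
  [Int.ofNat 0, Int.ofNat 4, Int.ofNat 0, Int.ofNat 0, Int.ofNat 0, Int.ofNat 0, Int.ofNat 0, Int.ofNat 0, Int.ofNat 0, Int.ofNat 0, Int.ofNat 0, Int.ofNat 0, Int.ofNat 0, Int.ofNat 0, Int.ofNat 0, Int.ofNat 0, Int.ofNat 0, Int.ofNat 0, Int.ofNat 0, Int.ofNat 0, Int.ofNat 0, Int.ofNat 0, Int.ofNat 0, Int.negSucc 3],
  [Int.ofNat 0, Int.negSucc 3, Int.ofNat 0, Int.ofNat 0, Int.ofNat 0, Int.ofNat 0, Int.ofNat 0, Int.ofNat 0, Int.ofNat 0, Int.ofNat 0, Int.ofNat 0, Int.ofNat 0, Int.ofNat 0, Int.ofNat 0, Int.ofNat 0, Int.ofNat 0, Int.ofNat 0, Int.ofNat 0, Int.ofNat 0, Int.ofNat 0, Int.ofNat 0, Int.ofNat 0, Int.ofNat 0, Int.ofNat 4],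
  [Int.negSucc 3, Int.ofNat 0, Int.ofNat 0, Int.ofNat 0, Int.ofNat 0, Int.ofNat 0, Int.ofNat 0, Int.ofNat 0, Int.ofNat 0, Int.ofNat 0, Int.ofNat 0, Int.ofNat 0, Int.ofNat 0, Int.ofNat 0, Int.ofNat 0, Int.ofNat 0, Int.ofNat 0, Int.ofNat 0, Int.ofNat 0, Int.ofNat 0, Int.ofNat 0, Int.ofNat 0, Int.ofNat 0, Int.ofNat 4],
  [Int.ofNat 4, Int.ofNat 0, Int.ofNat 0, Int.ofNat 0, Int.ofNat 0, Int.ofNat 0, Int.ofNat 0, Int.ofNat 0, Int.ofNat 0, Int.ofNat 0, Int.ofNat 0, Int.ofNat 0, Int.ofNat 0, Int.ofNat 0, Int.ofNat 0, Int.ofNat 0, Int.ofNat 0, Int.ofNat 0, Int.ofNat 0, Int.ofNat 0, Int.ofNat 0, Int.ofNat 0, Int.ofNat 0, Int.ofNat 4],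
  [Int.negSucc 3, Int.ofNat 0, Int.ofNat 0, Int.ofNat 0, Int.ofNat 0, Int.ofNat 0, Int.ofNat 0, Int.ofNat 0, Int.ofNat 0, Int.ofNat 0, Int.ofNat 0, Int.ofNat 0, Int.ofNat 0, Int.ofNat 0, Int.ofNat 0, Int.ofNat 0, Int.ofNat 0, Int.ofNat 0, Int.ofNat 0, Int.ofNat 0, Int.ofNat 0, Int.ofNat 0, Int.ofNat 0, Int.ofNat 4],
  [Int.ofNat 4, Int.ofNat 0, Int.ofNat 0, Int.ofNat 0, Int.ofNat 0, Int.ofNat 0, Int.ofNat 0, Int.ofNat 0, Int.ofNat 0, Int.ofNat 0, Int.ofNat 0, Int.ofNat 0, Int.ofNat 0, Int.ofNat 0, Int.ofNat 0, Int.ofNat 0, Int.ofNat 0, Int.ofNat 0, Int.ofNat 0, Int.ofNat 0, Int.ofNat 0, Int.ofNat 0, Int.ofNat 0, Int.negSucc 3],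
  [Int.negSucc 3, Int.ofNat 0, Int.ofNat 0, Int.ofNat 0, Int.ofNat 0, Int.ofNat 0, Int.ofNat 0, Int.ofNat 0, Int.ofNat 0, Int.ofNat 0, Int.ofNat 0, Int.ofNat 0, Int.ofNat 0, Int.ofNat 0, Int.ofNat 0, Int.ofNat 0, Int.ofNat 0, Int.ofNat 0, Int.ofNat 0, Int.ofNat 0, Int.ofNat 0, Int.ofNat 0, Int.ofNat 0, Int.negSucc 3],
  [Int.ofNat 0, Int.negSucc 3, Int.ofNat 0, Int.ofNat 0, Int.ofNat 0, Int.ofNat 0, Int.ofNat 0, Int.ofNat 0, Int.ofNat 0, Int.ofNat 0, Int.ofNat 0, Int.ofNat 0, Int.ofNat 0, Int.ofNat 0, Int.ofNat 0, Int.ofNat 0, Int.ofNat 0, Int.ofNat 0, Int.ofNat 0, Int.ofNat 0, Int.ofNat 0, Int.ofNat 0, Int.ofNat 0, Int.negSucc 3],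
  [Int.negSucc 3, Int.ofNat 0, Int.negSucc 3, Int.ofNat 0, Int.ofNat 0, Int.ofNat 0, Int.ofNat 0, Int.ofNat 0, Int.ofNat 0, Int.ofNat 0, Int.ofNat 0, Int.ofNat 0, Int.ofNat 0, Int.ofNat 0, Int.ofNat 0, Int.ofNat 0, Int.ofNat 0, Int.ofNat 0, Int.ofNat 0, Int.ofNat 0, Int.ofNat 0, Int.ofNat 0, Int.ofNat 0, Int.ofNat 0],
  [Int.ofNat 0, Int.ofNat 0, Int.ofNat 0, Int.ofNat 0, Int.ofNat 0, Int.ofNat 0, Int.ofNat 0, Int.ofNat 0, Int.ofNat 0, Int.ofNat 0, Int.ofNat 0, Int.ofNat 0, Int.ofNat 0, Int.ofNat 0, Int.ofNat 0, Int.ofNat 0, Int.ofNat 0, Int.ofNat 0, Int.ofNat 0, Int.ofNat 0, Int.negSucc 3, Int.ofNat 0, Int.negSucc 3, Int.ofNat 0],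
  [Int.ofNat 0, Int.ofNat 0, Int.ofNat 0, Int.ofNat 0, Int.ofNat 2, Int.ofNat 0, Int.ofNat 0, Int.ofNat 0, Int.ofNat 0, Int.ofNat 2, Int.ofNat 2, Int.ofNat 0, Int.ofNat 0, Int.ofNat 2, Int.ofNat 0, Int.ofNat 2, Int.ofNat 2, Int.ofNat 0, Int.ofNat 0, Int.ofNat 0, Int.negSucc 1, Int.ofNat 0, Int.negSucc 1, Int.ofNat 0],
  [Int.ofNat 0, Int.ofNat 0, Int.ofNat 2, Int.ofNat 0, Int.ofNat 0, Int.ofNat 0, Int.ofNat 0, Int.ofNat 2, Int.ofNat 0, Int.ofNat 2, Int.negSucc 1, Int.ofNat 0, Int.ofNat 2, Int.ofNat 2, Int.negSucc 1, Int.ofNat 2, Int.ofNat 0, Int.ofNat 0, Int.ofNat 0, Int.ofNat 0, Int.ofNat 0, Int.ofNat 0, Int.ofNat 0, Int.ofNat 0],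
  [Int.ofNat 1, Int.ofNat 1, Int.negSucc 0, Int.ofNat 1, Int.negSucc 0, Int.ofNat 1, Int.negSucc 0, Int.ofNat 1, Int.negSucc 0, Int.ofNat 1, Int.negSucc 2, Int.negSucc 0, Int.ofNat 1, Int.ofNat 1, Int.negSucc 0, Int.ofNat 1, Int.negSucc 0, Int.ofNat 1, Int.negSucc 0, Int.negSucc 0, Int.negSucc 0, Int.negSucc 0, Int.negSucc 0, Int.ofNat 1],
  [Int.ofNat 1, Int.ofNat 1, Int.ofNat 1, Int.ofNat 1, Int.negSucc 0, Int.negSucc 0, Int.ofNat 1, Int.ofNat 1, Int.negSucc 0, Int.negSucc 0, Int.ofNat 3, Int.negSucc 0, Int.ofNat 1, Int.ofNat 1, Int.negSucc 0, Int.negSucc 0, Int.negSucc 0, Int.ofNat 1, Int.ofNat 1, Int.negSucc 0, Int.negSucc 0, Int.negSucc 0, Int.ofNat 1, Int.ofNat 1],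
  [Int.negSucc 0, Int.negSucc 0, Int.negSucc 0, Int.negSucc 0, Int.ofNat 1, Int.ofNat 1, Int.ofNat 1, Int.ofNat 1, Int.negSucc 0, Int.negSucc 0, Int.negSucc 0, Int.negSucc 0, Int.ofNat 3, Int.negSucc 0, Int.ofNat 1, Int.negSucc 0, Int.ofNat 1, Int.ofNat 1, Int.ofNat 1, Int.ofNat 1, Int.ofNat 1, Int.negSucc 0, Int.ofNat 1, Int.ofNat 1],
  [Int.negSucc 0, Int.negSucc 0, Int.ofNat 1, Int.negSucc 0, Int.ofNat 1, Int.negSucc 0, Int.negSucc 0, Int.ofNat 1, Int.negSucc 0, Int.ofNat 1, Int.ofNat 1, Int.negSucc 0, Int.ofNat 3, Int.negSucc 0, Int.ofNat 1, Int.ofNat 1, Int.ofNat 1, Int.ofNat 1, Int.negSucc 0, Int.ofNat 1, Int.ofNat 1, Int.negSucc 0, Int.negSucc 0, Int.ofNat 1],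
  [Int.ofNat 1, Int.ofNat 1, Int.negSucc 0, Int.negSucc 0, Int.ofNat 1, Int.negSucc 0, Int.negSucc 0, Int.ofNat 1, Int.negSucc 0, Int.negSucc 0, Int.negSucc 0, Int.negSucc 0, Int.ofNat 3, Int.negSucc 0, Int.ofNat 1, Int.negSucc 0, Int.ofNat 1, Int.ofNat 1, Int.negSucc 0, Int.ofNat 1, Int.negSucc 0, Int.negSucc 0, Int.negSucc 0, Int.negSucc 0],
  [Int.ofNat 1, Int.negSucc 0, Int.negSucc 0, Int.negSucc 0, Int.negSucc 0, Int.negSucc 0, Int.ofNat 1, Int.negSucc 0, Int.ofNat 1, Int.ofNat 3, Int.ofNat 1, Int.ofNat 1, Int.negSucc 0, Int.negSucc 0, Int.ofNat 1, Int.negSucc 0, Int.negSucc 0, Int.negSucc 0, Int.ofNat 1, Int.negSucc 0, Int.negSucc 0, Int.negSucc 0, Int.ofNat 1, Int.negSucc 0],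
  [Int.negSucc 1, Int.ofNat 0, Int.ofNat 0, Int.ofNat 0, Int.ofNat 0, Int.ofNat 0, Int.ofNat 2, Int.ofNat 0, Int.ofNat 0, Int.ofNat 2, Int.ofNat 0, Int.ofNat 0, Int.negSucc 1, Int.ofNat 0, Int.ofNat 2, Int.negSucc 1, Int.ofNat 0, Int.ofNat 0, Int.ofNat 0, Int.ofNat 0, Int.negSucc 1, Int.ofNat 0, Int.ofNat 2, Int.ofNat 0],
  [Int.negSucc 1, Int.ofNat 0, Int.ofNat 2, Int.negSucc 1, Int.ofNat 0, Int.ofNat 0, Int.ofNat 0, Int.ofNat 0, Int.ofNat 0, Int.ofNat 2, Int.ofNat 0, Int.ofNat 0, Int.ofNat 2, Int.ofNat 0, Int.ofNat 0, Int.negSucc 1, Int.ofNat 0, Int.ofNat 2, Int.negSucc 1, Int.ofNat 0, Int.ofNat 0, Int.ofNat 0, Int.ofNat 0, Int.ofNat 0],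
  [Int.ofNat 2, Int.ofNat 0, Int.negSucc 1, Int.negSucc 1, Int.ofNat 0, Int.ofNat 0, Int.ofNat 0, Int.ofNat 0, Int.ofNat 0, Int.ofNat 2, Int.ofNat 0, Int.ofNat 0, Int.ofNat 2, Int.ofNat 0, Int.ofNat 0, Int.negSucc 1, Int.ofNat 0, Int.ofNat 2, Int.negSucc 1, Int.ofNat 0, Int.ofNat 0, Int.ofNat 0, Int.ofNat 0, Int.ofNat 0],
  [Int.ofNat 0, Int.negSucc 1, Int.negSucc 1, Int.ofNat 0, Int.ofNat 0, Int.ofNat 0, Int.ofNat 0, Int.ofNat 0, Int.ofNat 2, Int.ofNat 0, Int.ofNat 0, Int.ofNat 2, Int.ofNat 0, Int.ofNat 0, Int.negSucc 1, Int.ofNat 0, Int.ofNat 2, Int.negSucc 1, Int.ofNat 0, Int.ofNat 0, Int.ofNat 0, Int.ofNat 0, Int.ofNat 2, Int.ofNat 0],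
  [Int.ofNat 0, Int.negSucc 1, Int.ofNat 2, Int.ofNat 0, Int.ofNat 0, Int.ofNat 0, Int.ofNat 0, Int.ofNat 0, Int.ofNat 2, Int.ofNat 0, Int.ofNat 0, Int.negSucc 1, Int.ofNat 0, Int.ofNat 0, Int.negSucc 1, Int.ofNat 0, Int.ofNat 2, Int.negSucc 1, Int.ofNat 0, Int.ofNat 0, Int.ofNat 0, Int.ofNat 0, Int.ofNat 2, Int.ofNat 0]]

set_option maxRecDepth 100000 in
theorem c1e11_chk : pmChk (List.replicate 14 [11, 0, 25]).flatten nxL c1e11M 0 0 = true := by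
  decide +kernel

theorem c1e11_ne : wE letE2 (List.replicate 14 [11, 0, 25]).flatten ≠ 1 ∧ wE letE2 (List.replicate 14 [11, 0, 25]).flatten ≠ negElt :=
  ne_pm_of_chk nxL_mem c1e11_chk

set_option maxRecDepth 100000 in
def c1e12M : List (List ℤ) :=
  [[Int.ofNat 4, Int.ofNat 0, Int.ofNat 0, Int.ofNat 0, Int.ofNat 0, Int.ofNat 0, Int.ofNat 0, Int.ofNat 0, Int.ofNat 0, Int.ofNat 0, Int.ofNat 0, Int.ofNat 0, Int.ofNat 0, Int.ofNat 0, Int.ofNat 0, Int.ofNat 0, Int.ofNat 0, Int.ofNat 0, Int.ofNat 0, Int.ofNat 0, Int.ofNat 0, Int.ofNat 0, Int.ofNat 0, Int.ofNat 4],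
  [Int.ofNat 4, Int.ofNat 0, Int.ofNat 0, Int.ofNat 0, Int.ofNat 0, Int.ofNat 0, Int.ofNat 0, Int.ofNat 0, Int.ofNat 0, Int.ofNat 0, Int.ofNat 0, Int.ofNat 0, Int.ofNat 0, Int.ofNat 0, Int.ofNat 0, Int.ofNat 0, Int.ofNat 0, Int.ofNat 0, Int.ofNat 0, Int.ofNat 0, Int.ofNat 0, Int.ofNat 0, Int.ofNat 0, Int.ofNat 4],
  [Int.negSucc 3, Int.ofNat 0, Int.ofNat 0, Int.ofNat 0, Int.ofNat 0, Int.ofNat 0, Int.ofNat 0, Int.ofNat 0, Int.ofNat 0, Int.ofNat 0, Int.ofNat 0, Int.ofNat 0, Int.ofNat 0, Int.ofNat 0, Int.ofNat 0, Int.ofNat 0, Int.ofNat 0, Int.ofNat 0, Int.ofNat 0, Int.ofNat 0, Int.ofNat 0, Int.ofNat 0, Int.ofNat 0, Int.ofNat 4],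
  [Int.ofNat 0, Int.negSucc 3, Int.ofNat 0, Int.ofNat 0, Int.ofNat 0, Int.ofNat 0, Int.ofNat 0, Int.ofNat 0, Int.ofNat 0, Int.ofNat 0, Int.ofNat 0, Int.ofNat 0, Int.ofNat 0, Int.ofNat 0, Int.ofNat 0, Int.ofNat 0, Int.ofNat 0, Int.ofNat 0, Int.ofNat 0, Int.ofNat 0, Int.ofNat 0, Int.ofNat 0, Int.ofNat 0, Int.ofNat 4],
  [Int.ofNat 0, Int.ofNat 4, Int.ofNat 0, Int.ofNat 0, Int.ofNat 0, Int.ofNat 0, Int.ofNat 0, Int.ofNat 0, Int.ofNat 0, Int.ofNat 0, Int.ofNat 0, Int.ofNat 0, Int.ofNat 0, Int.ofNat 0, Int.ofNat 0, Int.ofNat 0, Int.ofNat 0, Int.ofNat 0, Int.ofNat 0, Int.ofNat 0, Int.ofNat 0, Int.ofNat 0, Int.ofNat 0, Int.negSucc 3],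
  [Int.ofNat 0, Int.ofNat 0, Int.ofNat 0, Int.ofNat 0, Int.ofNat 0, Int.ofNat 0, Int.ofNat 0, Int.ofNat 0, Int.ofNat 0, Int.ofNat 0, Int.ofNat 0, Int.ofNat 0, Int.ofNat 0, Int.ofNat 0, Int.ofNat 0, Int.ofNat 0, Int.ofNat 0, Int.ofNat 0, Int.ofNat 0, Int.ofNat 0, Int.ofNat 0, Int.ofNat 4, Int.ofNat 0, Int.negSucc 3],
  [Int.negSucc 1, Int.negSucc 1, Int.negSucc 1, Int.ofNat 0, Int.ofNat 0, Int.ofNat 0, Int.negSucc 1, Int.negSucc 1, Int.ofNat 0, Int.ofNat 0, Int.ofNat 0, Int.ofNat 0, Int.ofNat 0, Int.ofNat 0, Int.ofNat 0, Int.ofNat 0, Int.ofNat 0, Int.ofNat 0, Int.ofNat 0, Int.negSucc 1, Int.ofNat 0, Int.ofNat 2, Int.ofNat 0, Int.ofNat 2],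
  [Int.negSucc 1, Int.negSucc 1, Int.ofNat 0, Int.ofNat 0, Int.ofNat 0, Int.negSucc 1, Int.negSucc 1, Int.ofNat 0, Int.ofNat 0, Int.ofNat 0, Int.ofNat 0, Int.ofNat 0, Int.ofNat 0, Int.ofNat 0, Int.ofNat 0, Int.ofNat 0, Int.ofNat 0, Int.ofNat 0, Int.negSucc 1, Int.ofNat 0, Int.ofNat 2, Int.ofNat 0, Int.negSucc 1, Int.ofNat 2],
  [Int.ofNat 1, Int.ofNat 1, Int.negSucc 0, Int.ofNat 1, Int.ofNat 1, Int.negSucc 0, Int.negSucc 0, Int.ofNat 1, Int.ofNat 1, Int.negSucc 0, Int.negSucc 0, Int.ofNat 1, Int.ofNat 1, Int.ofNat 1, Int.ofNat 1, Int.negSucc 0, Int.ofNat 1, Int.ofNat 1, Int.negSucc 0, Int.ofNat 1, Int.ofNat 1, Int.ofNat 1, Int.negSucc 0, Int.negSucc 2],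
  [Int.ofNat 1, Int.ofNat 1, Int.ofNat 1, Int.ofNat 1, Int.ofNat 1, Int.ofNat 1, Int.ofNat 1, Int.ofNat 1, Int.ofNat 1, Int.ofNat 1, Int.ofNat 1, Int.ofNat 1, Int.ofNat 1, Int.ofNat 1, Int.ofNat 1, Int.ofNat 1, Int.ofNat 1, Int.ofNat 1, Int.ofNat 1, Int.ofNat 1, Int.ofNat 1, Int.ofNat 1, Int.ofNat 1, Int.negSucc 2],
  [Int.ofNat 1, Int.ofNat 1, Int.ofNat 1, Int.ofNat 1, Int.ofNat 1, Int.ofNat 1, Int.ofNat 1, Int.ofNat 1, Int.ofNat 1, Int.ofNat 1, Int.ofNat 1, Int.ofNat 1, Int.ofNat 1, Int.ofNat 1, Int.ofNat 1, Int.ofNat 1, Int.ofNat 1, Int.ofNat 1, Int.ofNat 1, Int.ofNat 1, Int.ofNat 1, Int.ofNat 1, Int.ofNat 1, Int.negSucc 2],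
  [Int.ofNat 1, Int.ofNat 1, Int.negSucc 0, Int.ofNat 1, Int.ofNat 1, Int.negSucc 0, Int.negSucc 0, Int.ofNat 1, Int.ofNat 1, Int.negSucc 0, Int.negSucc 0, Int.ofNat 1, Int.ofNat 1, Int.ofNat 1, Int.ofNat 1, Int.negSucc 0, Int.ofNat 1, Int.ofNat 1, Int.negSucc 0, Int.ofNat 1, Int.ofNat 1, Int.ofNat 1, Int.negSucc 0, Int.negSucc 2],
  [Int.negSucc 1, Int.negSucc 1, Int.ofNat 0, Int.ofNat 0, Int.ofNat 0, Int.negSucc 1, Int.negSucc 1, Int.ofNat 0, Int.ofNat 0, Int.ofNat 0, Int.ofNat 0, Int.ofNat 0, Int.ofNat 0, Int.ofNat 0, Int.ofNat 0, Int.ofNat 0, Int.ofNat 0, Int.ofNat 0, Int.negSucc 1, Int.ofNat 0, Int.ofNat 2, Int.ofNat 0, Int.negSucc 1, Int.ofNat 2],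
  [Int.negSucc 1, Int.negSucc 1, Int.negSucc 1, Int.ofNat 0, Int.ofNat 0, Int.ofNat 0, Int.negSucc 1, Int.negSucc 1, Int.ofNat 0, Int.ofNat 0, Int.ofNat 0, Int.ofNat 0, Int.ofNat 0, Int.ofNat 0, Int.ofNat 0, Int.ofNat 0, Int.ofNat 0, Int.ofNat 0, Int.ofNat 0, Int.negSucc 1, Int.ofNat 0, Int.ofNat 2, Int.ofNat 0, Int.ofNat 2],
  [Int.ofNat 0, Int.ofNat 0, Int.ofNat 0, Int.ofNat 0, Int.ofNat 0, Int.ofNat 0, Int.ofNat 0, Int.ofNat 0, Int.ofNat 0, Int.ofNat 0, Int.ofNat 0, Int.ofNat 0, Int.ofNat 0, Int.ofNat 0, Int.ofNat 0, Int.ofNat 0, Int.ofNat 0, Int.ofNat 0, Int.ofNat 0, Int.ofNat 0, Int.ofNat 0, Int.ofNat 4, Int.ofNat 0, Int.negSucc 3],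
  [Int.ofNat 0, Int.ofNat 4, Int.ofNat 0, Int.ofNat 0, Int.ofNat 0, Int.ofNat 0, Int.ofNat 0, Int.ofNat 0, Int.ofNat 0, Int.ofNat 0, Int.ofNat 0, Int.ofNat 0, Int.ofNat 0, Int.ofNat 0, Int.ofNat 0, Int.ofNat 0, Int.ofNat 0, Int.ofNat 0, Int.ofNat 0, Int.ofNat 0, Int.ofNat 0, Int.ofNat 0, Int.ofNat 0, Int.negSucc 3],
  [Int.ofNat 0, Int.negSucc 3, Int.ofNat 0, Int.ofNat 0, Int.ofNat 0, Int.ofNat 0, Int.ofNat 0, Int.ofNat 0, Int.ofNat 0, Int.ofNat 0, Int.ofNat 0, Int.ofNat 0, Int.ofNat 0, Int.ofNat 0, Int.ofNat 0, Int.ofNat 0, Int.ofNat 0, Int.ofNat 0, Int.ofNat 0, Int.ofNat 0, Int.ofNat 0, Int.ofNat 0, Int.ofNat 0, Int.ofNat 4],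
  [Int.negSucc 3, Int.ofNat 0, Int.ofNat 0, Int.ofNat 0, Int.ofNat 0, Int.ofNat 0, Int.ofNat 0, Int.ofNat 0, Int.ofNat 0, Int.ofNat 0, Int.ofNat 0, Int.ofNat 0, Int.ofNat 0, Int.ofNat 0, Int.ofNat 0, Int.ofNat 0, Int.ofNat 0, Int.ofNat 0, Int.ofNat 0, Int.ofNat 0, Int.ofNat 0, Int.ofNat 0, Int.ofNat 0, Int.ofNat 4],
  [Int.ofNat 4, Int.ofNat 0, Int.ofNat 0, Int.ofNat 0, Int.ofNat 0, Int.ofNat 0, Int.ofNat 0, Int.ofNat 0, Int.ofNat 0, Int.ofNat 0, Int.ofNat 0, Int.ofNat 0, Int.ofNat 0, Int.ofNat 0, Int.ofNat 0, Int.ofNat 0, Int.ofNat 0, Int.ofNat 0, Int.ofNat 0, Int.ofNat 0, Int.ofNat 0, Int.ofNat 0, Int.ofNat 0, Int.ofNat 4],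
  [Int.negSucc 3, Int.ofNat 0, Int.ofNat 0, Int.ofNat 0, Int.ofNat 0, Int.ofNat 0, Int.ofNat 0, Int.ofNat 0, Int.ofNat 0, Int.ofNat 0, Int.ofNat 0, Int.ofNat 0, Int.ofNat 0, Int.ofNat 0, Int.ofNat 0, Int.ofNat 0, Int.ofNat 0, Int.ofNat 0, Int.ofNat 0, Int.ofNat 0, Int.ofNat 0, Int.ofNat 0, Int.ofNat 0, Int.ofNat 4],
  [Int.ofNat 4, Int.ofNat 0, Int.ofNat 0, Int.ofNat 0, Int.ofNat 0, Int.ofNat 0, Int.ofNat 0, Int.ofNat 0, Int.ofNat 0, Int.ofNat 0, Int.ofNat 0, Int.ofNat 0, Int.ofNat 0, Int.ofNat 0, Int.ofNat 0, Int.ofNat 0, Int.ofNat 0, Int.ofNat 0, Int.ofNat 0, Int.ofNat 0, Int.ofNat 0, Int.ofNat 0, Int.ofNat 0, Int.negSucc 3],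
  [Int.negSucc 3, Int.ofNat 0, Int.ofNat 0, Int.ofNat 0, Int.ofNat 0, Int.ofNat 0, Int.ofNat 0, Int.ofNat 0, Int.ofNat 0, Int.ofNat 0, Int.ofNat 0, Int.ofNat 0, Int.ofNat 0, Int.ofNat 0, Int.ofNat 0, Int.ofNat 0, Int.ofNat 0, Int.ofNat 0, Int.ofNat 0, Int.ofNat 0, Int.ofNat 0, Int.ofNat 0, Int.ofNat 0, Int.negSucc 3],
  [Int.ofNat 0, Int.negSucc 3, Int.ofNat 0, Int.ofNat 0, Int.ofNat 0, Int.ofNat 0, Int.ofNat 0, Int.ofNat 0, Int.ofNat 0, Int.ofNat 0, Int.ofNat 0, Int.ofNat 0, Int.ofNat 0, Int.ofNat 0, Int.ofNat 0, Int.ofNat 0, Int.ofNat 0, Int.ofNat 0, Int.ofNat 0, Int.ofNat 0, Int.ofNat 0, Int.ofNat 0, Int.ofNat 0, Int.negSucc 3],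
  [Int.negSucc 3, Int.ofNat 0, Int.negSucc 3, Int.ofNat 0, Int.ofNat 0, Int.ofNat 0, Int.ofNat 0, Int.ofNat 0, Int.ofNat 0, Int.ofNat 0, Int.ofNat 0, Int.ofNat 0, Int.ofNat 0, Int.ofNat 0, Int.ofNat 0, Int.ofNat 0, Int.ofNat 0, Int.ofNat 0, Int.ofNat 0, Int.ofNat 0, Int.ofNat 0, Int.ofNat 0, Int.ofNat 0, Int.ofNat 0],
  [Int.ofNat 0, Int.ofNat 0, Int.ofNat 0, Int.ofNat 0, Int.ofNat 0, Int.ofNat 0, Int.ofNat 0, Int.ofNat 0, Int.ofNat 0, Int.ofNat 0, Int.ofNat 0, Int.ofNat 0, Int.ofNat 0, Int.ofNat 0, Int.ofNat 0, Int.ofNat 0, Int.ofNat 0, Int.ofNat 0, Int.ofNat 0, Int.ofNat 0, Int.negSucc 3, Int.ofNat 0, Int.negSucc 3, Int.ofNat 0],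
  [Int.ofNat 0, Int.ofNat 0, Int.ofNat 0, Int.ofNat 0, Int.ofNat 2, Int.ofNat 0, Int.ofNat 0, Int.ofNat 0, Int.ofNat 0, Int.ofNat 2, Int.ofNat 2, Int.ofNat 0, Int.ofNat 0, Int.ofNat 2, Int.ofNat 0, Int.ofNat 2, Int.ofNat 2, Int.ofNat 0, Int.ofNat 0, Int.ofNat 0, Int.negSucc 1, Int.ofNat 0, Int.negSucc 1, Int.ofNat 0],
  [Int.ofNat 0, Int.ofNat 0, Int.ofNat 2, Int.ofNat 0, Int.ofNat 0, Int.ofNat 0, Int.ofNat 0, Int.ofNat 2, Int.ofNat 0, Int.ofNat 2, Int.negSucc 1, Int.ofNat 0, Int.ofNat 2, Int.ofNat 2, Int.negSucc 1, Int.ofNat 2, Int.ofNat 0, Int.ofNat 0, Int.ofNat 0, Int.ofNat 0, Int.ofNat 0, Int.ofNat 0, Int.ofNat 0, Int.ofNat 0],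
  [Int.ofNat 1, Int.ofNat 1, Int.negSucc 0, Int.ofNat 1, Int.negSucc 0, Int.ofNat 1, Int.negSucc 0, Int.ofNat 1, Int.negSucc 0, Int.ofNat 1, Int.negSucc 2, Int.negSucc 0, Int.ofNat 1, Int.ofNat 1, Int.negSucc 0, Int.ofNat 1, Int.negSucc 0, Int.ofNat 1, Int.negSucc 0, Int.negSucc 0, Int.negSucc 0, Int.negSucc 0, Int.negSucc 0, Int.ofNat 1],
  [Int.ofNat 1, Int.ofNat 1, Int.ofNat 1, Int.ofNat 1, Int.negSucc 0, Int.negSucc 0, Int.ofNat 1, Int.ofNat 1, Int.negSucc 0, Int.negSucc 0, Int.ofNat 3, Int.negSucc 0, Int.ofNat 1, Int.ofNat 1, Int.negSucc 0, Int.negSucc 0, Int.negSucc 0, Int.ofNat 1, Int.ofNat 1, Int.negSucc 0, Int.negSucc 0, Int.negSucc 0, Int.ofNat 1, Int.ofNat 1],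
  [Int.ofNat 1, Int.ofNat 1, Int.negSucc 0, Int.negSucc 0, Int.ofNat 1, Int.negSucc 0, Int.ofNat 1, Int.ofNat 1, Int.ofNat 1, Int.negSucc 0, Int.ofNat 1, Int.ofNat 1, Int.ofNat 1, Int.negSucc 0, Int.ofNat 1, Int.negSucc 0, Int.negSucc 0, Int.negSucc 0, Int.negSucc 0, Int.ofNat 1, Int.negSucc 0, Int.ofNat 3, Int.negSucc 0, Int.ofNat 1],
  [Int.ofNat 1, Int.ofNat 1, Int.ofNat 1, Int.negSucc 0, Int.ofNat 1, Int.ofNat 1, Int.negSucc 0, Int.ofNat 1, Int.ofNat 1, Int.ofNat 1, Int.negSucc 0, Int.ofNat 1, Int.ofNat 1, Int.negSucc 0, Int.ofNat 1, Int.ofNat 1, Int.negSucc 0, Int.negSucc 0, Int.ofNat 1, Int.ofNat 1, Int.negSucc 0, Int.ofNat 3, Int.ofNat 1, Int.ofNat 1],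
  [Int.ofNat 1, Int.ofNat 1, Int.ofNat 1, Int.negSucc 0, Int.ofNat 1, Int.ofNat 1, Int.negSucc 2, Int.negSucc 0, Int.negSucc 0, Int.ofNat 1, Int.negSucc 0, Int.negSucc 0, Int.negSucc 0, Int.negSucc 0, Int.ofNat 1, Int.ofNat 1, Int.negSucc 0, Int.negSucc 0, Int.negSucc 0, Int.negSucc 0, Int.negSucc 0, Int.ofNat 1, Int.ofNat 1, Int.ofNat 1],
  [Int.ofNat 1, Int.negSucc 0, Int.negSucc 2, Int.negSucc 0, Int.ofNat 1, Int.ofNat 1, Int.ofNat 1, Int.ofNat 1, Int.negSucc 0, Int.negSucc 0, Int.negSucc 0, Int.negSucc 0, Int.negSucc 0, Int.ofNat 1, Int.negSucc 0, Int.ofNat 1, Int.negSucc 0, Int.negSucc 0, Int.ofNat 1, Int.ofNat 1, Int.negSucc 0, Int.negSucc 0, Int.ofNat 1, Int.ofNat 1],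
  [Int.negSucc 1, Int.ofNat 0, Int.ofNat 2, Int.ofNat 0, Int.ofNat 0, Int.ofNat 2, Int.ofNat 0, Int.ofNat 0, Int.ofNat 0, Int.ofNat 0, Int.ofNat 0, Int.ofNat 0, Int.ofNat 0, Int.ofNat 0, Int.ofNat 0, Int.ofNat 2, Int.negSucc 1, Int.ofNat 0, Int.ofNat 2, Int.ofNat 0, Int.ofNat 0, Int.negSucc 1, Int.ofNat 0, Int.negSucc 1],
  [Int.ofNat 0, Int.negSucc 1, Int.ofNat 0, Int.negSucc 1, Int.ofNat 0, Int.ofNat 2, Int.ofNat 0, Int.ofNat 0, Int.ofNat 2, Int.ofNat 0, Int.ofNat 0, Int.ofNat 0, Int.ofNat 0, Int.ofNat 0, Int.ofNat 0, Int.ofNat 0, Int.ofNat 0, Int.ofNat 0, Int.ofNat 2, Int.negSucc 1, Int.ofNat 0, Int.ofNat 2, Int.ofNat 0, Int.negSucc 1],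
  [Int.negSucc 1, Int.ofNat 0, Int.negSucc 1, Int.negSucc 1, Int.ofNat 0, Int.ofNat 2, Int.ofNat 0, Int.ofNat 0, Int.ofNat 0, Int.ofNat 0, Int.ofNat 0, Int.negSucc 1, Int.negSucc 1, Int.ofNat 0, Int.ofNat 0, Int.ofNat 0, Int.ofNat 0, Int.ofNat 0, Int.ofNat 0, Int.negSucc 1, Int.ofNat 0, Int.ofNat 2, Int.ofNat 0, Int.ofNat 0],
  [Int.ofNat 0, Int.negSucc 1, Int.negSucc 1, Int.ofNat 0, Int.ofNat 2, Int.ofNat 0, Int.ofNat 0, Int.ofNat 0, Int.ofNat 0, Int.ofNat 0, Int.negSucc 1, Int.negSucc 1, Int.ofNat 0, Int.ofNat 0, Int.ofNat 0, Int.ofNat 0, Int.ofNat 0, Int.ofNat 0, Int.negSucc 1, Int.ofNat 0, Int.ofNat 2, Int.ofNat 0, Int.negSucc 1, Int.ofNat 0],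
  [Int.ofNat 0, Int.negSucc 1, Int.ofNat 2, Int.ofNat 0, Int.ofNat 2, Int.ofNat 0, Int.ofNat 0, Int.ofNat 0, Int.ofNat 0, Int.ofNat 0, Int.ofNat 2, Int.ofNat 2, Int.ofNat 0, Int.ofNat 0, Int.ofNat 0, Int.ofNat 0, Int.ofNat 0, Int.ofNat 0, Int.ofNat 2, Int.ofNat 0, Int.ofNat 2, Int.ofNat 0, Int.negSucc 1, Int.ofNat 0],
  [Int.ofNat 0, Int.ofNat 2, Int.negSucc 1, Int.ofNat 0, Int.negSucc 1, Int.ofNat 0, Int.ofNat 0, Int.ofNat 0, Int.ofNat 0, Int.ofNat 0, Int.ofNat 2, Int.ofNat 2, Int.ofNat 0, Int.ofNat 0, Int.ofNat 0, Int.ofNat 0, Int.ofNat 0, Int.ofNat 0, Int.negSucc 1, Int.ofNat 0, Int.ofNat 2, Int.ofNat 0, Int.negSucc 1, Int.ofNat 0],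
  [Int.ofNat 0, Int.negSucc 1, Int.ofNat 2, Int.ofNat 0, Int.ofNat 0, Int.ofNat 0, Int.ofNat 0, Int.ofNat 0, Int.ofNat 2, Int.ofNat 0, Int.ofNat 0, Int.negSucc 1, Int.ofNat 0, Int.ofNat 0, Int.negSucc 1, Int.ofNat 0, Int.ofNat 2, Int.negSucc 1, Int.ofNat 0, Int.ofNat 0, Int.ofNat 0, Int.ofNat 0, Int.ofNat 2, Int.ofNat 0],
  [Int.ofNat 0, Int.negSucc 1, Int.negSucc 1, Int.ofNat 0, Int.ofNat 0, Int.ofNat 0, Int.ofNat 0, Int.ofNat 0, Int.ofNat 2, Int.ofNat 0, Int.ofNat 0, Int.ofNat 2, Int.ofNat 0, Int.ofNat 0, Int.negSucc 1, Int.ofNat 0, Int.ofNat 2, Int.negSucc 1, Int.ofNat 0, Int.ofNat 0, Int.ofNat 0, Int.ofNat 0, Int.ofNat 2, Int.ofNat 0],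
  [Int.ofNat 2, Int.ofNat 0, Int.negSucc 1, Int.negSucc 1, Int.ofNat 0, Int.ofNat 0, Int.ofNat 0, Int.ofNat 0, Int.ofNat 0, Int.ofNat 2, Int.ofNat 0, Int.ofNat 0, Int.ofNat 2, Int.ofNat 0, Int.ofNat 0, Int.negSucc 1, Int.ofNat 0, Int.ofNat 2, Int.negSucc 1, Int.ofNat 0, Int.ofNat 0, Int.ofNat 0, Int.ofNat 0, Int.ofNat 0],
  [Int.negSucc 1, Int.ofNat 0, Int.ofNat 2, Int.negSucc 1, Int.ofNat 0, Int.ofNat 0, Int.ofNat 0, Int.ofNat 0, Int.ofNat 0, Int.ofNat 2, Int.ofNat 0, Int.ofNat 0, Int.ofNat 2, Int.ofNat 0, Int.ofNat 0, Int.negSucc 1, Int.ofNat 0, Int.ofNat 2, Int.negSucc 1, Int.ofNat 0, Int.ofNat 0, Int.ofNat 0, Int.ofNat 0, Int.ofNat 0],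
  [Int.negSucc 1, Int.ofNat 0, Int.ofNat 0, Int.ofNat 0, Int.ofNat 0, Int.ofNat 0, Int.ofNat 2, Int.ofNat 0, Int.ofNat 0, Int.ofNat 2, Int.ofNat 0, Int.ofNat 0, Int.negSucc 1, Int.ofNat 0, Int.ofNat 2, Int.negSucc 1, Int.ofNat 0, Int.ofNat 0, Int.ofNat 0, Int.ofNat 0, Int.negSucc 1, Int.ofNat 0, Int.ofNat 2, Int.ofNat 0],
  [Int.ofNat 1, Int.negSucc 0, Int.negSucc 0, Int.negSucc 0, Int.negSucc 0, Int.negSucc 0, Int.ofNat 1, Int.negSucc 0, Int.ofNat 1, Int.ofNat 3, Int.ofNat 1, Int.ofNat 1, Int.negSucc 0, Int.negSucc 0, Int.ofNat 1, Int.negSucc 0, Int.negSucc 0, Int.negSucc 0, Int.ofNat 1, Int.negSucc 0, Int.negSucc 0, Int.negSucc 0, Int.ofNat 1, Int.negSucc 0],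
  [Int.ofNat 1, Int.ofNat 1, Int.negSucc 0, Int.negSucc 0, Int.ofNat 1, Int.negSucc 0, Int.negSucc 0, Int.ofNat 1, Int.negSucc 0, Int.negSucc 0, Int.negSucc 0, Int.negSucc 0, Int.ofNat 3, Int.negSucc 0, Int.ofNat 1, Int.negSucc 0, Int.ofNat 1, Int.ofNat 1, Int.negSucc 0, Int.ofNat 1, Int.negSucc 0, Int.negSucc 0, Int.negSucc 0, Int.negSucc 0],
  [Int.negSucc 0, Int.negSucc 0, Int.ofNat 1, Int.negSucc 0, Int.ofNat 1, Int.negSucc 0, Int.negSucc 0, Int.ofNat 1, Int.negSucc 0, Int.ofNat 1, Int.ofNat 1, Int.negSucc 0, Int.ofNat 3, Int.negSucc 0, Int.ofNat 1, Int.ofNat 1, Int.ofNat 1, Int.ofNat 1, Int.negSucc 0, Int.ofNat 1, Int.ofNat 1, Int.negSucc 0, Int.negSucc 0, Int.ofNat 1],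
  [Int.negSucc 0, Int.negSucc 0, Int.negSucc 0, Int.negSucc 0, Int.ofNat 1, Int.ofNat 1, Int.ofNat 1, Int.ofNat 1, Int.negSucc 0, Int.negSucc 0, Int.negSucc 0, Int.negSucc 0, Int.ofNat 3, Int.negSucc 0, Int.ofNat 1, Int.negSucc 0, Int.ofNat 1, Int.ofNat 1, Int.ofNat 1, Int.ofNat 1, Int.ofNat 1, Int.negSucc 0, Int.ofNat 1, Int.ofNat 1],
  [Int.ofNat 1, Int.ofNat 1, Int.ofNat 1, Int.ofNat 1, Int.negSucc 0, Int.negSucc 0, Int.ofNat 1, Int.ofNat 1, Int.negSucc 0, Int.negSucc 0, Int.ofNat 3, Int.negSucc 0, Int.ofNat 1, Int.ofNat 1, Int.negSucc 0, Int.negSucc 0, Int.negSucc 0, Int.ofNat 1, Int.ofNat 1, Int.negSucc 0, Int.negSucc 0, Int.negSucc 0, Int.ofNat 1, Int.ofNat 1],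
  [Int.ofNat 1, Int.ofNat 1, Int.negSucc 0, Int.ofNat 1, Int.negSucc 0, Int.ofNat 1, Int.negSucc 0, Int.ofNat 1, Int.negSucc 0, Int.ofNat 1, Int.negSucc 2, Int.negSucc 0, Int.ofNat 1, Int.ofNat 1, Int.negSucc 0, Int.ofNat 1, Int.negSucc 0, Int.ofNat 1, Int.negSucc 0, Int.negSucc 0, Int.negSucc 0, Int.negSucc 0, Int.negSucc 0, Int.ofNat 1],
  [Int.ofNat 0, Int.ofNat 0, Int.ofNat 2, Int.ofNat 0, Int.ofNat 0, Int.ofNat 0, Int.ofNat 0, Int.ofNat 2, Int.ofNat 0, Int.ofNat 2, Int.negSucc 1, Int.ofNat 0, Int.ofNat 2, Int.ofNat 2, Int.negSucc 1, Int.ofNat 2, Int.ofNat 0, Int.ofNat 0, Int.ofNat 0, Int.ofNat 0, Int.ofNat 0, Int.ofNat 0, Int.ofNat 0, Int.ofNat 0],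
  [Int.ofNat 0, Int.ofNat 0, Int.ofNat 0, Int.ofNat 0, Int.ofNat 2, Int.ofNat 0, Int.ofNat 0, Int.ofNat 0, Int.ofNat 0, Int.ofNat 2, Int.ofNat 2, Int.ofNat 0, Int.ofNat 0, Int.ofNat 2, Int.ofNat 0, Int.ofNat 2, Int.ofNat 2, Int.ofNat 0, Int.ofNat 0, Int.ofNat 0, Int.negSucc 1, Int.ofNat 0, Int.negSucc 1, Int.ofNat 0],
  [Int.ofNat 0, Int.ofNat 0, Int.ofNat 0, Int.ofNat 0, Int.ofNat 0, Int.ofNat 0, Int.ofNat 0, Int.ofNat 0, Int.ofNat 0, Int.ofNat 0, Int.ofNat 0, Int.ofNat 0, Int.ofNat 0, Int.ofNat 0, Int.ofNat 0, Int.ofNat 0, Int.ofNat 0, Int.ofNat 0, Int.ofNat 0, Int.ofNat 0, Int.negSucc 3, Int.ofNat 0, Int.negSucc 3, Int.ofNat 0],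
  [Int.negSucc 3, Int.ofNat 0, Int.negSucc 3, Int.ofNat 0, Int.ofNat 0, Int.ofNat 0, Int.ofNat 0, Int.ofNat 0, Int.ofNat 0, Int.ofNat 0, Int.ofNat 0, Int.ofNat 0, Int.ofNat 0, Int.ofNat 0, Int.ofNat 0, Int.ofNat 0, Int.ofNat 0, Int.ofNat 0, Int.ofNat 0, Int.ofNat 0, Int.ofNat 0, Int.ofNat 0, Int.ofNat 0, Int.ofNat 0],
  [Int.ofNat 0, Int.negSucc 3, Int.ofNat 0, Int.ofNat 0, Int.ofNat 0, Int.ofNat 0, Int.ofNat 0, Int.ofNat 0, Int.ofNat 0, Int.ofNat 0, Int.ofNat 0, Int.ofNat 0, Int.ofNat 0, Int.ofNat 0, Int.ofNat 0, Int.ofNat 0, Int.ofNat 0, Int.ofNat 0, Int.ofNat 0, Int.ofNat 0, Int.ofNat 0, Int.ofNat 0, Int.ofNat 0, Int.negSucc 3],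
  [Int.negSucc 3, Int.ofNat 0, Int.ofNat 0, Int.ofNat 0, Int.ofNat 0, Int.ofNat 0, Int.ofNat 0, Int.ofNat 0, Int.ofNat 0, Int.ofNat 0, Int.ofNat 0, Int.ofNat 0, Int.ofNat 0, Int.ofNat 0, Int.ofNat 0, Int.ofNat 0, Int.ofNat 0, Int.ofNat 0, Int.ofNat 0, Int.ofNat 0, Int.ofNat 0, Int.ofNat 0, Int.ofNat 0, Int.negSucc 3],
  [Int.ofNat 4, Int.ofNat 0, Int.ofNat 0, Int.ofNat 0, Int.ofNat 0, Int.ofNat 0, Int.ofNat 0, Int.ofNat 0, Int.ofNat 0, Int.ofNat 0, Int.ofNat 0, Int.ofNat 0, Int.ofNat 0, Int.ofNat 0, Int.ofNat 0, Int.ofNat 0, Int.ofNat 0, Int.ofNat 0, Int.ofNat 0, Int.ofNat 0, Int.ofNat 0, Int.ofNat 0, Int.ofNat 0, Int.negSucc 3],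
  [Int.negSucc 3, Int.ofNat 0, Int.ofNat 0, Int.ofNat 0, Int.ofNat 0, Int.ofNat 0, Int.ofNat 0, Int.ofNat 0, Int.ofNat 0, Int.ofNat 0, Int.ofNat 0, Int.ofNat 0, Int.ofNat 0, Int.ofNat 0, Int.ofNat 0, Int.ofNat 0, Int.ofNat 0, Int.ofNat 0, Int.ofNat 0, Int.ofNat 0, Int.ofNat 0, Int.ofNat 0, Int.ofNat 0, Int.negSucc 3],
  [Int.negSucc 3, Int.ofNat 0, Int.ofNat 0, Int.ofNat 0, Int.ofNat 0, Int.ofNat 0, Int.ofNat 0, Int.ofNat 0, Int.ofNat 0, Int.ofNat 0, Int.ofNat 0, Int.ofNat 0, Int.ofNat 0, Int.ofNat 0, Int.ofNat 0, Int.ofNat 0, Int.ofNat 0, Int.ofNat 0, Int.ofNat 0, Int.ofNat 0, Int.ofNat 0, Int.ofNat 0, Int.ofNat 0, Int.negSucc 3],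
  [Int.ofNat 4, Int.ofNat 0, Int.ofNat 0, Int.ofNat 0, Int.ofNat 0, Int.ofNat 0, Int.ofNat 0, Int.ofNat 0, Int.ofNat 0, Int.ofNat 0, Int.ofNat 0, Int.ofNat 0, Int.ofNat 0, Int.ofNat 0, Int.ofNat 0, Int.ofNat 0, Int.ofNat 0, Int.ofNat 0, Int.ofNat 0, Int.ofNat 0, Int.ofNat 0, Int.ofNat 0, Int.ofNat 0, Int.negSucc 3],
  [Int.ofNat 0, Int.ofNat 4, Int.ofNat 0, Int.ofNat 0, Int.ofNat 0, Int.ofNat 0, Int.ofNat 0, Int.ofNat 0, Int.ofNat 0, Int.ofNat 0, Int.ofNat 0, Int.ofNat 0, Int.ofNat 0, Int.ofNat 0, Int.ofNat 0, Int.ofNat 0, Int.ofNat 0, Int.ofNat 0, Int.ofNat 0, Int.ofNat 0, Int.ofNat 0, Int.ofNat 0, Int.ofNat 0, Int.negSucc 3],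
  [Int.ofNat 0, Int.negSucc 3, Int.ofNat 0, Int.ofNat 0, Int.ofNat 0, Int.ofNat 0, Int.ofNat 0, Int.ofNat 0, Int.ofNat 0, Int.ofNat 0, Int.ofNat 0, Int.ofNat 0, Int.ofNat 0, Int.ofNat 0, Int.ofNat 0, Int.ofNat 0, Int.ofNat 0, Int.ofNat 0, Int.ofNat 0, Int.ofNat 0, Int.ofNat 0, Int.ofNat 0, Int.ofNat 0, Int.ofNat 4],
  [Int.ofNat 0, Int.ofNat 0, Int.ofNat 0, Int.ofNat 0, Int.ofNat 0, Int.ofNat 0, Int.ofNat 0, Int.ofNat 0, Int.ofNat 0, Int.ofNat 0, Int.ofNat 0, Int.ofNat 0, Int.ofNat 0, Int.ofNat 0, Int.ofNat 0, Int.ofNat 0, Int.ofNat 0, Int.ofNat 0, Int.ofNat 0, Int.ofNat 0, Int.ofNat 0, Int.negSucc 3, Int.ofNat 0, Int.ofNat 4],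
  [Int.ofNat 2, Int.ofNat 2, Int.ofNat 2, Int.ofNat 0, Int.ofNat 0, Int.ofNat 0, Int.ofNat 2, Int.ofNat 2, Int.ofNat 0, Int.ofNat 0, Int.ofNat 0, Int.ofNat 0, Int.ofNat 0, Int.ofNat 0, Int.ofNat 0, Int.ofNat 0, Int.ofNat 0, Int.ofNat 0, Int.ofNat 0, Int.ofNat 2, Int.ofNat 0, Int.negSucc 1, Int.ofNat 0, Int.negSucc 1],
  [Int.ofNat 2, Int.ofNat 2, Int.ofNat 0, Int.ofNat 0, Int.ofNat 0, Int.ofNat 2, Int.ofNat 2, Int.ofNat 0, Int.ofNat 0, Int.ofNat 0, Int.ofNat 0, Int.ofNat 0, Int.ofNat 0, Int.ofNat 0, Int.ofNat 0, Int.ofNat 0, Int.ofNat 0, Int.ofNat 0, Int.ofNat 2, Int.ofNat 0, Int.negSucc 1, Int.ofNat 0, Int.ofNat 2, Int.negSucc 1],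
  [Int.negSucc 0, Int.negSucc 0, Int.ofNat 1, Int.negSucc 0, Int.negSucc 0, Int.ofNat 1, Int.ofNat 1, Int.negSucc 0, Int.negSucc 0, Int.ofNat 1, Int.ofNat 1, Int.negSucc 0, Int.negSucc 0, Int.negSucc 0, Int.negSucc 0, Int.ofNat 1, Int.negSucc 0, Int.negSucc 0, Int.ofNat 1, Int.negSucc 0, Int.negSucc 0, Int.negSucc 0, Int.ofNat 1, Int.ofNat 3],
  [Int.negSucc 0, Int.negSucc 0, Int.negSucc 0, Int.negSucc 0, Int.negSucc 0, Int.negSucc 0, Int.negSucc 0, Int.negSucc 0, Int.negSucc 0, Int.negSucc 0, Int.negSucc 0, Int.negSucc 0, Int.negSucc 0, Int.negSucc 0, Int.negSucc 0, Int.negSucc 0, Int.negSucc 0, Int.negSucc 0, Int.negSucc 0, Int.negSucc 0, Int.negSucc 0, Int.negSucc 0, Int.negSucc 0, Int.ofNat 3],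
  [Int.negSucc 0, Int.negSucc 0, Int.negSucc 0, Int.negSucc 0, Int.negSucc 0, Int.negSucc 0, Int.negSucc 0, Int.negSucc 0, Int.negSucc 0, Int.negSucc 0, Int.negSucc 0, Int.negSucc 0, Int.negSucc 0, Int.negSucc 0, Int.negSucc 0, Int.negSucc 0, Int.negSucc 0, Int.negSucc 0, Int.negSucc 0, Int.negSucc 0, Int.negSucc 0, Int.negSucc 0, Int.negSucc 0, Int.ofNat 3],
  [Int.negSucc 0, Int.negSucc 0, Int.ofNat 1, Int.negSucc 0, Int.negSucc 0, Int.ofNat 1, Int.ofNat 1, Int.negSucc 0, Int.negSucc 0, Int.ofNat 1, Int.ofNat 1, Int.negSucc 0, Int.negSucc 0, Int.negSucc 0, Int.negSucc 0, Int.ofNat 1, Int.negSucc 0, Int.negSucc 0, Int.ofNat 1, Int.negSucc 0, Int.negSucc 0, Int.negSucc 0, Int.ofNat 1, Int.ofNat 3],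
  [Int.ofNat 2, Int.ofNat 2, Int.ofNat 0, Int.ofNat 0, Int.ofNat 0, Int.ofNat 2, Int.ofNat 2, Int.ofNat 0, Int.ofNat 0, Int.ofNat 0, Int.ofNat 0, Int.ofNat 0, Int.ofNat 0, Int.ofNat 0, Int.ofNat 0, Int.ofNat 0, Int.ofNat 0, Int.ofNat 0, Int.ofNat 2, Int.ofNat 0, Int.negSucc 1, Int.ofNat 0, Int.ofNat 2, Int.negSucc 1],
  [Int.ofNat 2, Int.ofNat 2, Int.ofNat 2, Int.ofNat 0, Int.ofNat 0, Int.ofNat 0, Int.ofNat 2, Int.ofNat 2, Int.ofNat 0, Int.ofNat 0, Int.ofNat 0, Int.ofNat 0, Int.ofNat 0, Int.ofNat 0, Int.ofNat 0, Int.ofNat 0, Int.ofNat 0, Int.ofNat 0, Int.ofNat 0, Int.ofNat 2, Int.ofNat 0, Int.negSucc 1, Int.ofNat 0, Int.negSucc 1],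
  [Int.ofNat 0, Int.ofNat 0, Int.ofNat 0, Int.ofNat 0, Int.ofNat 0, Int.ofNat 0, Int.ofNat 0, Int.ofNat 0, Int.ofNat 0, Int.ofNat 0, Int.ofNat 0, Int.ofNat 0, Int.ofNat 0, Int.ofNat 0, Int.ofNat 0, Int.ofNat 0, Int.ofNat 0, Int.ofNat 0, Int.ofNat 0, Int.ofNat 0, Int.ofNat 0, Int.negSucc 3, Int.ofNat 0, Int.ofNat 4],
  [Int.ofNat 0, Int.negSucc 3, Int.ofNat 0, Int.ofNat 0, Int.ofNat 0, Int.ofNat 0, Int.ofNat 0, Int.ofNat 0, Int.ofNat 0, Int.ofNat 0, Int.ofNat 0, Int.ofNat 0, Int.ofNat 0, Int.ofNat 0, Int.ofNat 0, Int.ofNat 0, Int.ofNat 0, Int.ofNat 0, Int.ofNat 0, Int.ofNat 0, Int.ofNat 0, Int.ofNat 0, Int.ofNat 0, Int.ofNat 4],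
  [Int.ofNat 0, Int.ofNat 4, Int.ofNat 0, Int.ofNat 0, Int.ofNat 0, Int.ofNat 0, Int.ofNat 0, Int.ofNat 0, Int.ofNat 0, Int.ofNat 0, Int.ofNat 0, Int.ofNat 0, Int.ofNat 0, Int.ofNat 0, Int.ofNat 0, Int.ofNat 0, Int.ofNat 0, Int.ofNat 0, Int.ofNat 0, Int.ofNat 0, Int.ofNat 0, Int.ofNat 0, Int.ofNat 0, Int.negSucc 3],
  [Int.ofNat 4, Int.ofNat 0, Int.ofNat 0, Int.ofNat 0, Int.ofNat 0, Int.ofNat 0, Int.ofNat 0, Int.ofNat 0, Int.ofNat 0, Int.ofNat 0, Int.ofNat 0, Int.ofNat 0, Int.ofNat 0, Int.ofNat 0, Int.ofNat 0, Int.ofNat 0, Int.ofNat 0, Int.ofNat 0, Int.ofNat 0, Int.ofNat 0, Int.ofNat 0, Int.ofNat 0, Int.ofNat 0, Int.negSucc 3],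
  [Int.negSucc 3, Int.ofNat 0, Int.ofNat 0, Int.ofNat 0, Int.ofNat 0, Int.ofNat 0, Int.ofNat 0, Int.ofNat 0, Int.ofNat 0, Int.ofNat 0, Int.ofNat 0, Int.ofNat 0, Int.ofNat 0, Int.ofNat 0, Int.ofNat 0, Int.ofNat 0, Int.ofNat 0, Int.ofNat 0, Int.ofNat 0, Int.ofNat 0, Int.ofNat 0, Int.ofNat 0, Int.ofNat 0, Int.negSucc 3],
  [Int.ofNat 4, Int.ofNat 0, Int.ofNat 0, Int.ofNat 0, Int.ofNat 0, Int.ofNat 0, Int.ofNat 0, Int.ofNat 0, Int.ofNat 0, Int.ofNat 0, Int.ofNat 0, Int.ofNat 0, Int.ofNat 0, Int.ofNat 0, Int.ofNat 0, Int.ofNat 0, Int.ofNat 0, Int.ofNat 0, Int.ofNat 0, Int.ofNat 0, Int.ofNat 0, Int.ofNat 0, Int.ofNat 0, Int.negSucc 3],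
  [Int.negSucc 3, Int.ofNat 0, Int.ofNat 0, Int.ofNat 0, Int.ofNat 0, Int.ofNat 0, Int.ofNat 0, Int.ofNat 0, Int.ofNat 0, Int.ofNat 0, Int.ofNat 0, Int.ofNat 0, Int.ofNat 0, Int.ofNat 0, Int.ofNat 0, Int.ofNat 0, Int.ofNat 0, Int.ofNat 0, Int.ofNat 0, Int.ofNat 0, Int.ofNat 0, Int.ofNat 0, Int.ofNat 0, Int.ofNat 4],
  [Int.ofNat 4, Int.ofNat 0, Int.ofNat 0, Int.ofNat 0, Int.ofNat 0, Int.ofNat 0, Int.ofNat 0, Int.ofNat 0, Int.ofNat 0, Int.ofNat 0, Int.ofNat 0, Int.ofNat 0, Int.ofNat 0, Int.ofNat 0, Int.ofNat 0, Int.ofNat 0, Int.ofNat 0, Int.ofNat 0, Int.ofNat 0, Int.ofNat 0, Int.ofNat 0, Int.ofNat 0, Int.ofNat 0, Int.ofNat 4],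
  [Int.ofNat 0, Int.ofNat 4, Int.ofNat 0, Int.ofNat 0, Int.ofNat 0, Int.ofNat 0, Int.ofNat 0, Int.ofNat 0, Int.ofNat 0, Int.ofNat 0, Int.ofNat 0, Int.ofNat 0, Int.ofNat 0, Int.ofNat 0, Int.ofNat 0, Int.ofNat 0, Int.ofNat 0, Int.ofNat 0, Int.ofNat 0, Int.ofNat 0, Int.ofNat 0, Int.ofNat 0, Int.ofNat 0, Int.ofNat 4],
  [Int.ofNat 4, Int.ofNat 0, Int.ofNat 4, Int.ofNat 0, Int.ofNat 0, Int.ofNat 0, Int.ofNat 0, Int.ofNat 0, Int.ofNat 0, Int.ofNat 0, Int.ofNat 0, Int.ofNat 0, Int.ofNat 0, Int.ofNat 0, Int.ofNat 0, Int.ofNat 0, Int.ofNat 0, Int.ofNat 0, Int.ofNat 0, Int.ofNat 0, Int.ofNat 0, Int.ofNat 0, Int.ofNat 0, Int.ofNat 0],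
  [Int.ofNat 0, Int.ofNat 0, Int.ofNat 0, Int.ofNat 0, Int.ofNat 0, Int.ofNat 0, Int.ofNat 0, Int.ofNat 0, Int.ofNat 0, Int.ofNat 0, Int.ofNat 0, Int.ofNat 0, Int.ofNat 0, Int.ofNat 0, Int.ofNat 0, Int.ofNat 0, Int.ofNat 0, Int.ofNat 0, Int.ofNat 0, Int.ofNat 0, Int.ofNat 4, Int.ofNat 0, Int.ofNat 4, Int.ofNat 0],
  [Int.ofNat 0, Int.ofNat 0, Int.ofNat 0, Int.ofNat 0, Int.negSucc 1, Int.ofNat 0, Int.ofNat 0, Int.ofNat 0, Int.ofNat 0, Int.negSucc 1, Int.negSucc 1, Int.ofNat 0, Int.ofNat 0, Int.negSucc 1, Int.ofNat 0, Int.negSucc 1, Int.negSucc 1, Int.ofNat 0, Int.ofNat 0, Int.ofNat 0, Int.ofNat 2, Int.ofNat 0, Int.ofNat 2, Int.ofNat 0],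
  [Int.ofNat 0, Int.ofNat 0, Int.negSucc 1, Int.ofNat 0, Int.ofNat 0, Int.ofNat 0, Int.ofNat 0, Int.negSucc 1, Int.ofNat 0, Int.negSucc 1, Int.ofNat 2, Int.ofNat 0, Int.negSucc 1, Int.negSucc 1, Int.ofNat 2, Int.negSucc 1, Int.ofNat 0, Int.ofNat 0, Int.ofNat 0, Int.ofNat 0, Int.ofNat 0, Int.ofNat 0, Int.ofNat 0, Int.ofNat 0],
  [Int.negSucc 0, Int.negSucc 0, Int.ofNat 1, Int.negSucc 0, Int.ofNat 1, Int.negSucc 0, Int.ofNat 1, Int.negSucc 0, Int.ofNat 1, Int.negSucc 0, Int.ofNat 3, Int.ofNat 1, Int.negSucc 0, Int.negSucc 0, Int.ofNat 1, Int.negSucc 0, Int.ofNat 1, Int.negSucc 0, Int.ofNat 1, Int.ofNat 1, Int.ofNat 1, Int.ofNat 1, Int.ofNat 1, Int.negSucc 0],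
  [Int.negSucc 0, Int.negSucc 0, Int.negSucc 0, Int.negSucc 0, Int.ofNat 1, Int.ofNat 1, Int.negSucc 0, Int.negSucc 0, Int.ofNat 1, Int.ofNat 1, Int.negSucc 2, Int.ofNat 1, Int.negSucc 0, Int.negSucc 0, Int.ofNat 1, Int.ofNat 1, Int.ofNat 1, Int.negSucc 0, Int.negSucc 0, Int.ofNat 1, Int.ofNat 1, Int.ofNat 1, Int.negSucc 0, Int.negSucc 0],
  [Int.negSucc 0, Int.negSucc 0, Int.ofNat 1, Int.ofNat 1, Int.negSucc 0, Int.ofNat 1, Int.negSucc 0, Int.negSucc 0, Int.negSucc 0, Int.ofNat 1, Int.negSucc 0, Int.negSucc 0, Int.negSucc 0, Int.ofNat 1, Int.negSucc 0, Int.ofNat 1, Int.ofNat 1, Int.ofNat 1, Int.ofNat 1, Int.negSucc 0, Int.ofNat 1, Int.negSucc 2, Int.ofNat 1, Int.negSucc 0],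
  [Int.negSucc 0, Int.negSucc 0, Int.negSucc 0, Int.ofNat 1, Int.negSucc 0, Int.negSucc 0, Int.ofNat 1, Int.negSucc 0, Int.negSucc 0, Int.negSucc 0, Int.ofNat 1, Int.negSucc 0, Int.negSucc 0, Int.ofNat 1, Int.negSucc 0, Int.negSucc 0, Int.ofNat 1, Int.ofNat 1, Int.negSucc 0, Int.negSucc 0, Int.ofNat 1, Int.negSucc 2, Int.negSucc 0, Int.negSucc 0],
  [Int.negSucc 0, Int.negSucc 0, Int.negSucc 0, Int.ofNat 1, Int.negSucc 0, Int.negSucc 0, Int.ofNat 3, Int.ofNat 1, Int.ofNat 1, Int.negSucc 0, Int.ofNat 1, Int.ofNat 1, Int.ofNat 1, Int.ofNat 1, Int.negSucc 0, Int.negSucc 0, Int.ofNat 1, Int.ofNat 1, Int.ofNat 1, Int.ofNat 1, Int.ofNat 1, Int.negSucc 0, Int.negSucc 0, Int.negSucc 0],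
  [Int.negSucc 0, Int.ofNat 1, Int.ofNat 3, Int.ofNat 1, Int.negSucc 0, Int.negSucc 0, Int.negSucc 0, Int.negSucc 0, Int.ofNat 1, Int.ofNat 1, Int.ofNat 1, Int.ofNat 1, Int.ofNat 1, Int.negSucc 0, Int.ofNat 1, Int.negSucc 0, Int.ofNat 1, Int.ofNat 1, Int.negSucc 0, Int.negSucc 0, Int.ofNat 1, Int.ofNat 1, Int.negSucc 0, Int.negSucc 0],
  [Int.ofNat 2, Int.ofNat 0, Int.negSucc 1, Int.ofNat 0, Int.ofNat 0, Int.negSucc 1, Int.ofNat 0, Int.ofNat 0, Int.ofNat 0, Int.ofNat 0, Int.ofNat 0, Int.ofNat 0, Int.ofNat 0, Int.ofNat 0, Int.ofNat 0, Int.negSucc 1, Int.ofNat 2, Int.ofNat 0, Int.negSucc 1, Int.ofNat 0, Int.ofNat 0, Int.ofNat 2, Int.ofNat 0, Int.ofNat 2],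
  [Int.ofNat 0, Int.ofNat 2, Int.ofNat 0, Int.ofNat 2, Int.ofNat 0, Int.negSucc 1, Int.ofNat 0, Int.ofNat 0, Int.negSucc 1, Int.ofNat 0, Int.ofNat 0, Int.ofNat 0, Int.ofNat 0, Int.ofNat 0, Int.ofNat 0, Int.ofNat 0, Int.ofNat 0, Int.ofNat 0, Int.negSucc 1, Int.ofNat 2, Int.ofNat 0, Int.negSucc 1, Int.ofNat 0, Int.ofNat 2],
  [Int.ofNat 2, Int.ofNat 0, Int.ofNat 2, Int.ofNat 2, Int.ofNat 0, Int.negSucc 1, Int.ofNat 0, Int.ofNat 0, Int.ofNat 0, Int.ofNat 0, Int.ofNat 0, Int.ofNat 2, Int.ofNat 2, Int.ofNat 0, Int.ofNat 0, Int.ofNat 0, Int.ofNat 0, Int.ofNat 0, Int.ofNat 0, Int.ofNat 2, Int.ofNat 0, Int.negSucc 1, Int.ofNat 0, Int.ofNat 0],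
  [Int.ofNat 0, Int.ofNat 2, Int.ofNat 2, Int.ofNat 0, Int.negSucc 1, Int.ofNat 0, Int.ofNat 0, Int.ofNat 0, Int.ofNat 0, Int.ofNat 0, Int.ofNat 2, Int.ofNat 2, Int.ofNat 0, Int.ofNat 0, Int.ofNat 0, Int.ofNat 0, Int.ofNat 0, Int.ofNat 0, Int.ofNat 2, Int.ofNat 0, Int.negSucc 1, Int.ofNat 0, Int.ofNat 2, Int.ofNat 0],
  [Int.ofNat 0, Int.ofNat 2, Int.negSucc 1, Int.ofNat 0, Int.negSucc 1, Int.ofNat 0, Int.ofNat 0, Int.ofNat 0, Int.ofNat 0, Int.ofNat 0, Int.negSucc 1, Int.negSucc 1, Int.ofNat 0, Int.ofNat 0, Int.ofNat 0, Int.ofNat 0, Int.ofNat 0, Int.ofNat 0, Int.negSucc 1, Int.ofNat 0, Int.negSucc 1, Int.ofNat 0, Int.ofNat 2, Int.ofNat 0],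
  [Int.ofNat 0, Int.negSucc 1, Int.ofNat 2, Int.ofNat 0, Int.ofNat 2, Int.ofNat 0, Int.ofNat 0, Int.ofNat 0, Int.ofNat 0, Int.ofNat 0, Int.negSucc 1, Int.negSucc 1, Int.ofNat 0, Int.ofNat 0, Int.ofNat 0, Int.ofNat 0, Int.ofNat 0, Int.ofNat 0, Int.ofNat 2, Int.ofNat 0, Int.negSucc 1, Int.ofNat 0, Int.ofNat 2, Int.ofNat 0],
  [Int.ofNat 0, Int.ofNat 2, Int.negSucc 1, Int.ofNat 0, Int.ofNat 0, Int.ofNat 0, Int.ofNat 0, Int.ofNat 0, Int.negSucc 1, Int.ofNat 0, Int.ofNat 0, Int.ofNat 2, Int.ofNat 0, Int.ofNat 0, Int.ofNat 2, Int.ofNat 0, Int.negSucc 1, Int.ofNat 2, Int.ofNat 0, Int.ofNat 0, Int.ofNat 0, Int.ofNat 0, Int.negSucc 1, Int.ofNat 0],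
  [Int.ofNat 0, Int.ofNat 2, Int.ofNat 2, Int.ofNat 0, Int.ofNat 0, Int.ofNat 0, Int.ofNat 0, Int.ofNat 0, Int.negSucc 1, Int.ofNat 0, Int.ofNat 0, Int.negSucc 1, Int.ofNat 0, Int.ofNat 0, Int.ofNat 2, Int.ofNat 0, Int.negSucc 1, Int.ofNat 2, Int.ofNat 0, Int.ofNat 0, Int.ofNat 0, Int.ofNat 0, Int.negSucc 1, Int.ofNat 0],
  [Int.negSucc 1, Int.ofNat 0, Int.ofNat 2, Int.ofNat 2, Int.ofNat 0, Int.ofNat 0, Int.ofNat 0, Int.ofNat 0, Int.ofNat 0, Int.negSucc 1, Int.ofNat 0, Int.ofNat 0, Int.negSucc 1, Int.ofNat 0, Int.ofNat 0, Int.ofNat 2, Int.ofNat 0, Int.negSucc 1, Int.ofNat 2, Int.ofNat 0, Int.ofNat 0, Int.ofNat 0, Int.ofNat 0, Int.ofNat 0],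
  [Int.ofNat 2, Int.ofNat 0, Int.negSucc 1, Int.ofNat 2, Int.ofNat 0, Int.ofNat 0, Int.ofNat 0, Int.ofNat 0, Int.ofNat 0, Int.negSucc 1, Int.ofNat 0, Int.ofNat 0, Int.negSucc 1, Int.ofNat 0, Int.ofNat 0, Int.ofNat 2, Int.ofNat 0, Int.negSucc 1, Int.ofNat 2, Int.ofNat 0, Int.ofNat 0, Int.ofNat 0, Int.ofNat 0, Int.ofNat 0],
  [Int.ofNat 2, Int.ofNat 0, Int.ofNat 0, Int.ofNat 0, Int.ofNat 0, Int.ofNat 0, Int.negSucc 1, Int.ofNat 0, Int.ofNat 0, Int.negSucc 1, Int.ofNat 0, Int.ofNat 0, Int.ofNat 2, Int.ofNat 0, Int.negSucc 1, Int.ofNat 2, Int.ofNat 0, Int.ofNat 0, Int.ofNat 0, Int.ofNat 0, Int.ofNat 2, Int.ofNat 0, Int.negSucc 1, Int.ofNat 0],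
  [Int.negSucc 0, Int.ofNat 1, Int.ofNat 1, Int.ofNat 1, Int.ofNat 1, Int.ofNat 1, Int.negSucc 0, Int.ofNat 1, Int.negSucc 0, Int.negSucc 2, Int.negSucc 0, Int.negSucc 0, Int.ofNat 1, Int.ofNat 1, Int.negSucc 0, Int.ofNat 1, Int.ofNat 1, Int.ofNat 1, Int.negSucc 0, Int.ofNat 1, Int.ofNat 1, Int.ofNat 1, Int.negSucc 0, Int.ofNat 1],
  [Int.negSucc 0, Int.negSucc 0, Int.ofNat 1, Int.ofNat 1, Int.negSucc 0, Int.ofNat 1, Int.ofNat 1, Int.negSucc 0, Int.ofNat 1, Int.ofNat 1, Int.ofNat 1, Int.ofNat 1, Int.negSucc 2, Int.ofNat 1, Int.negSucc 0, Int.ofNat 1, Int.negSucc 0, Int.negSucc 0, Int.ofNat 1, Int.negSucc 0, Int.ofNat 1, Int.ofNat 1, Int.ofNat 1, Int.ofNat 1],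
  [Int.ofNat 1, Int.ofNat 1, Int.negSucc 0, Int.ofNat 1, Int.negSucc 0, Int.ofNat 1, Int.ofNat 1, Int.negSucc 0, Int.ofNat 1, Int.negSucc 0, Int.negSucc 0, Int.ofNat 1, Int.negSucc 2, Int.ofNat 1, Int.negSucc 0, Int.negSucc 0, Int.negSucc 0, Int.negSucc 0, Int.ofNat 1, Int.negSucc 0, Int.negSucc 0, Int.ofNat 1, Int.ofNat 1, Int.negSucc 0],
  [Int.ofNat 1, Int.ofNat 1, Int.ofNat 1, Int.ofNat 1, Int.negSucc 0, Int.negSucc 0, Int.negSucc 0, Int.negSucc 0, Int.ofNat 1, Int.ofNat 1, Int.ofNat 1, Int.ofNat 1, Int.negSucc 2, Int.ofNat 1, Int.negSucc 0, Int.ofNat 1, Int.negSucc 0, Int.negSucc 0, Int.negSucc 0, Int.negSucc 0, Int.negSucc 0, Int.ofNat 1, Int.negSucc 0, Int.negSucc 0],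
  [Int.negSucc 0, Int.negSucc 0, Int.negSucc 0, Int.negSucc 0, Int.ofNat 1, Int.ofNat 1, Int.negSucc 0, Int.negSucc 0, Int.ofNat 1, Int.ofNat 1, Int.negSucc 2, Int.ofNat 1, Int.negSucc 0, Int.negSucc 0, Int.ofNat 1, Int.ofNat 1, Int.ofNat 1, Int.negSucc 0, Int.negSucc 0, Int.ofNat 1, Int.ofNat 1, Int.ofNat 1, Int.negSucc 0, Int.negSucc 0],
  [Int.negSucc 0, Int.negSucc 0, Int.ofNat 1, Int.negSucc 0, Int.ofNat 1, Int.negSucc 0, Int.ofNat 1, Int.negSucc 0, Int.ofNat 1, Int.negSucc 0, Int.ofNat 3, Int.ofNat 1, Int.negSucc 0, Int.negSucc 0, Int.ofNat 1, Int.negSucc 0, Int.ofNat 1, Int.negSucc 0, Int.ofNat 1, Int.ofNat 1, Int.ofNat 1, Int.ofNat 1, Int.ofNat 1, Int.negSucc 0],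
  [Int.ofNat 0, Int.ofNat 0, Int.negSucc 1, Int.ofNat 0, Int.ofNat 0, Int.ofNat 0, Int.ofNat 0, Int.negSucc 1, Int.ofNat 0, Int.negSucc 1, Int.ofNat 2, Int.ofNat 0, Int.negSucc 1, Int.negSucc 1, Int.ofNat 2, Int.negSucc 1, Int.ofNat 0, Int.ofNat 0, Int.ofNat 0, Int.ofNat 0, Int.ofNat 0, Int.ofNat 0, Int.ofNat 0, Int.ofNat 0],
  [Int.ofNat 0, Int.ofNat 0, Int.ofNat 0, Int.ofNat 0, Int.negSucc 1, Int.ofNat 0, Int.ofNat 0, Int.ofNat 0, Int.ofNat 0, Int.negSucc 1, Int.negSucc 1, Int.ofNat 0, Int.ofNat 0, Int.negSucc 1, Int.ofNat 0, Int.negSucc 1, Int.negSucc 1, Int.ofNat 0, Int.ofNat 0, Int.ofNat 0, Int.ofNat 2, Int.ofNat 0, Int.ofNat 2, Int.ofNat 0],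
  [Int.ofNat 0, Int.ofNat 0, Int.ofNat 0, Int.ofNat 0, Int.ofNat 0, Int.ofNat 0, Int.ofNat 0, Int.ofNat 0, Int.ofNat 0, Int.ofNat 0, Int.ofNat 0, Int.ofNat 0, Int.ofNat 0, Int.ofNat 0, Int.ofNat 0, Int.ofNat 0, Int.ofNat 0, Int.ofNat 0, Int.ofNat 0, Int.ofNat 0, Int.ofNat 4, Int.ofNat 0, Int.ofNat 4, Int.ofNat 0],
  [Int.ofNat 4, Int.ofNat 0, Int.ofNat 4, Int.ofNat 0, Int.ofNat 0, Int.ofNat 0, Int.ofNat 0, Int.ofNat 0, Int.ofNat 0, Int.ofNat 0, Int.ofNat 0, Int.ofNat 0, Int.ofNat 0, Int.ofNat 0, Int.ofNat 0, Int.ofNat 0, Int.ofNat 0, Int.ofNat 0, Int.ofNat 0, Int.ofNat 0, Int.ofNat 0, Int.ofNat 0, Int.ofNat 0, Int.ofNat 0],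
  [Int.ofNat 0, Int.ofNat 4, Int.ofNat 0, Int.ofNat 0, Int.ofNat 0, Int.ofNat 0, Int.ofNat 0, Int.ofNat 0, Int.ofNat 0, Int.ofNat 0, Int.ofNat 0, Int.ofNat 0, Int.ofNat 0, Int.ofNat 0, Int.ofNat 0, Int.ofNat 0, Int.ofNat 0, Int.ofNat 0, Int.ofNat 0, Int.ofNat 0, Int.ofNat 0, Int.ofNat 0, Int.ofNat 0, Int.ofNat 4],
  [Int.ofNat 4, Int.ofNat 0, Int.ofNat 0, Int.ofNat 0, Int.ofNat 0, Int.ofNat 0, Int.ofNat 0, Int.ofNat 0, Int.ofNat 0, Int.ofNat 0, Int.ofNat 0, Int.ofNat 0, Int.ofNat 0, Int.ofNat 0, Int.ofNat 0, Int.ofNat 0, Int.ofNat 0, Int.ofNat 0, Int.ofNat 0, Int.ofNat 0, Int.ofNat 0, Int.ofNat 0, Int.ofNat 0, Int.ofNat 4],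
  [Int.negSucc 3, Int.ofNat 0, Int.ofNat 0, Int.ofNat 0, Int.ofNat 0, Int.ofNat 0, Int.ofNat 0, Int.ofNat 0, Int.ofNat 0, Int.ofNat 0, Int.ofNat 0, Int.ofNat 0, Int.ofNat 0, Int.ofNat 0, Int.ofNat 0, Int.ofNat 0, Int.ofNat 0, Int.ofNat 0, Int.ofNat 0, Int.ofNat 0, Int.ofNat 0, Int.ofNat 0, Int.ofNat 0, Int.ofNat 4],
  [Int.ofNat 4, Int.ofNat 0, Int.ofNat 0, Int.ofNat 0, Int.ofNat 0, Int.ofNat 0, Int.ofNat 0, Int.ofNat 0, Int.ofNat 0, Int.ofNat 0, Int.ofNat 0, Int.ofNat 0, Int.ofNat 0, Int.ofNat 0, Int.ofNat 0, Int.ofNat 0, Int.ofNat 0, Int.ofNat 0, Int.ofNat 0, Int.ofNat 0, Int.ofNat 0, Int.ofNat 0, Int.ofNat 0, Int.ofNat 4],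
  [Int.ofNat 4, Int.ofNat 0, Int.ofNat 0, Int.ofNat 0, Int.ofNat 0, Int.ofNat 0, Int.ofNat 0, Int.ofNat 0, Int.ofNat 0, Int.ofNat 0, Int.ofNat 0, Int.ofNat 0, Int.ofNat 0, Int.ofNat 0, Int.ofNat 0, Int.ofNat 0, Int.ofNat 0, Int.ofNat 0, Int.ofNat 0, Int.ofNat 0, Int.ofNat 0, Int.ofNat 0, Int.ofNat 0, Int.ofNat 4],
  [Int.negSucc 3, Int.ofNat 0, Int.ofNat 0, Int.ofNat 0, Int.ofNat 0, Int.ofNat 0, Int.ofNat 0, Int.ofNat 0, Int.ofNat 0, Int.ofNat 0, Int.ofNat 0, Int.ofNat 0, Int.ofNat 0, Int.ofNat 0, Int.ofNat 0, Int.ofNat 0, Int.ofNat 0, Int.ofNat 0, Int.ofNat 0, Int.ofNat 0, Int.ofNat 0, Int.ofNat 0, Int.ofNat 0, Int.ofNat 4],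
  [Int.ofNat 0, Int.negSucc 3, Int.ofNat 0, Int.ofNat 0, Int.ofNat 0, Int.ofNat 0, Int.ofNat 0, Int.ofNat 0, Int.ofNat 0, Int.ofNat 0, Int.ofNat 0, Int.ofNat 0, Int.ofNat 0, Int.ofNat 0, Int.ofNat 0, Int.ofNat 0, Int.ofNat 0, Int.ofNat 0, Int.ofNat 0, Int.ofNat 0, Int.ofNat 0, Int.ofNat 0, Int.ofNat 0, Int.ofNat 4],
  [Int.ofNat 0, Int.ofNat 4, Int.ofNat 0, Int.ofNat 0, Int.ofNat 0, Int.ofNat 0, Int.ofNat 0, Int.ofNat 0, Int.ofNat 0, Int.ofNat 0, Int.ofNat 0, Int.ofNat 0, Int.ofNat 0, Int.ofNat 0, Int.ofNat 0, Int.ofNat 0, Int.ofNat 0, Int.ofNat 0, Int.ofNat 0, Int.ofNat 0, Int.ofNat 0, Int.ofNat 0, Int.ofNat 0, Int.negSucc 3],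
  [Int.ofNat 0, Int.ofNat 0, Int.ofNat 0, Int.ofNat 0, Int.ofNat 0, Int.ofNat 0, Int.ofNat 0, Int.ofNat 0, Int.ofNat 0, Int.ofNat 0, Int.ofNat 0, Int.ofNat 0, Int.ofNat 0, Int.ofNat 0, Int.ofNat 0, Int.ofNat 0, Int.ofNat 0, Int.ofNat 0, Int.ofNat 0, Int.ofNat 0, Int.ofNat 0, Int.ofNat 4, Int.ofNat 0, Int.negSucc 3],
  [Int.negSucc 1, Int.negSucc 1, Int.negSucc 1, Int.ofNat 0, Int.ofNat 0, Int.ofNat 0, Int.negSucc 1, Int.negSucc 1, Int.ofNat 0, Int.ofNat 0, Int.ofNat 0, Int.ofNat 0, Int.ofNat 0, Int.ofNat 0, Int.ofNat 0, Int.ofNat 0, Int.ofNat 0, Int.ofNat 0, Int.ofNat 0, Int.negSucc 1, Int.ofNat 0, Int.ofNat 2, Int.ofNat 0, Int.ofNat 2],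
  [Int.negSucc 1, Int.negSucc 1, Int.ofNat 0, Int.ofNat 0, Int.ofNat 0, Int.negSucc 1, Int.negSucc 1, Int.ofNat 0, Int.ofNat 0, Int.ofNat 0, Int.ofNat 0, Int.ofNat 0, Int.ofNat 0, Int.ofNat 0, Int.ofNat 0, Int.ofNat 0, Int.ofNat 0, Int.ofNat 0, Int.negSucc 1, Int.ofNat 0, Int.ofNat 2, Int.ofNat 0, Int.negSucc 1, Int.ofNat 2],
  [Int.ofNat 1, Int.ofNat 1, Int.negSucc 0, Int.ofNat 1, Int.ofNat 1, Int.negSucc 0, Int.negSucc 0, Int.ofNat 1, Int.ofNat 1, Int.negSucc 0, Int.negSucc 0, Int.ofNat 1, Int.ofNat 1, Int.ofNat 1, Int.ofNat 1, Int.negSucc 0, Int.ofNat 1, Int.ofNat 1, Int.negSucc 0, Int.ofNat 1, Int.ofNat 1, Int.ofNat 1, Int.negSucc 0, Int.negSucc 2],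
  [Int.ofNat 1, Int.ofNat 1, Int.ofNat 1, Int.ofNat 1, Int.ofNat 1, Int.ofNat 1, Int.ofNat 1, Int.ofNat 1, Int.ofNat 1, Int.ofNat 1, Int.ofNat 1, Int.ofNat 1, Int.ofNat 1, Int.ofNat 1, Int.ofNat 1, Int.ofNat 1, Int.ofNat 1, Int.ofNat 1, Int.ofNat 1, Int.ofNat 1, Int.ofNat 1, Int.ofNat 1, Int.ofNat 1, Int.negSucc 2],
  [Int.ofNat 1, Int.ofNat 1, Int.ofNat 1, Int.ofNat 1, Int.ofNat 1, Int.ofNat 1, Int.ofNat 1, Int.ofNat 1, Int.ofNat 1, Int.ofNat 1, Int.ofNat 1, Int.ofNat 1, Int.ofNat 1, Int.ofNat 1, Int.ofNat 1, Int.ofNat 1, Int.ofNat 1, Int.ofNat 1, Int.ofNat 1, Int.ofNat 1, Int.ofNat 1, Int.ofNat 1, Int.ofNat 1, Int.negSucc 2],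
  [Int.ofNat 1, Int.ofNat 1, Int.negSucc 0, Int.ofNat 1, Int.ofNat 1, Int.negSucc 0, Int.negSucc 0, Int.ofNat 1, Int.ofNat 1, Int.negSucc 0, Int.negSucc 0, Int.ofNat 1, Int.ofNat 1, Int.ofNat 1, Int.ofNat 1, Int.negSucc 0, Int.ofNat 1, Int.ofNat 1, Int.negSucc 0, Int.ofNat 1, Int.ofNat 1, Int.ofNat 1, Int.negSucc 0, Int.negSucc 2],
  [Int.negSucc 1, Int.negSucc 1, Int.ofNat 0, Int.ofNat 0, Int.ofNat 0, Int.negSucc 1, Int.negSucc 1, Int.ofNat 0, Int.ofNat 0, Int.ofNat 0, Int.ofNat 0, Int.ofNat 0, Int.ofNat 0, Int.ofNat 0, Int.ofNat 0, Int.ofNat 0, Int.ofNat 0, Int.ofNat 0, Int.negSucc 1, Int.ofNat 0, Int.ofNat 2, Int.ofNat 0, Int.negSucc 1, Int.ofNat 2],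
  [Int.negSucc 1, Int.negSucc 1, Int.negSucc 1, Int.ofNat 0, Int.ofNat 0, Int.ofNat 0, Int.negSucc 1, Int.negSucc 1, Int.ofNat 0, Int.ofNat 0, Int.ofNat 0, Int.ofNat 0, Int.ofNat 0, Int.ofNat 0, Int.ofNat 0, Int.ofNat 0, Int.ofNat 0, Int.ofNat 0, Int.ofNat 0, Int.negSucc 1, Int.ofNat 0, Int.ofNat 2, Int.ofNat 0, Int.ofNat 2],
  [Int.ofNat 0, Int.ofNat 0, Int.ofNat 0, Int.ofNat 0, Int.ofNat 0, Int.ofNat 0, Int.ofNat 0, Int.ofNat 0, Int.ofNat 0, Int.ofNat 0, Int.ofNat 0, Int.ofNat 0, Int.ofNat 0, Int.ofNat 0, Int.ofNat 0, Int.ofNat 0, Int.ofNat 0, Int.ofNat 0, Int.ofNat 0, Int.ofNat 0, Int.ofNat 0, Int.ofNat 4, Int.ofNat 0, Int.negSucc 3],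
  [Int.ofNat 0, Int.ofNat 4, Int.ofNat 0, Int.ofNat 0, Int.ofNat 0, Int.ofNat 0, Int.ofNat 0, Int.ofNat 0, Int.ofNat 0, Int.ofNat 0, Int.ofNat 0, Int.ofNat 0, Int.ofNat 0, Int.ofNat 0, Int.ofNat 0, Int.ofNat 0, Int.ofNat 0, Int.ofNat 0, Int.ofNat 0, Int.ofNat 0, Int.ofNat 0, Int.ofNat 0, Int.ofNat 0, Int.negSucc 3],
  [Int.ofNat 0, Int.negSucc 3, Int.ofNat 0, Int.ofNat 0, Int.ofNat 0, Int.ofNat 0, Int.ofNat 0, Int.ofNat 0, Int.ofNat 0, Int.ofNat 0, Int.ofNat 0, Int.ofNat 0, Int.ofNat 0, Int.ofNat 0, Int.ofNat 0, Int.ofNat 0, Int.ofNat 0, Int.ofNat 0, Int.ofNat 0, Int.ofNat 0, Int.ofNat 0, Int.ofNat 0, Int.ofNat 0, Int.ofNat 4],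
  [Int.negSucc 3, Int.ofNat 0, Int.ofNat 0, Int.ofNat 0, Int.ofNat 0, Int.ofNat 0, Int.ofNat 0, Int.ofNat 0, Int.ofNat 0, Int.ofNat 0, Int.ofNat 0, Int.ofNat 0, Int.ofNat 0, Int.ofNat 0, Int.ofNat 0, Int.ofNat 0, Int.ofNat 0, Int.ofNat 0, Int.ofNat 0, Int.ofNat 0, Int.ofNat 0, Int.ofNat 0, Int.ofNat 0, Int.ofNat 4],
  [Int.ofNat 4, Int.ofNat 0, Int.ofNat 0, Int.ofNat 0, Int.ofNat 0, Int.ofNat 0, Int.ofNat 0, Int.ofNat 0, Int.ofNat 0, Int.ofNat 0, Int.ofNat 0, Int.ofNat 0, Int.ofNat 0, Int.ofNat 0, Int.ofNat 0, Int.ofNat 0, Int.ofNat 0, Int.ofNat 0, Int.ofNat 0, Int.ofNat 0, Int.ofNat 0, Int.ofNat 0, Int.ofNat 0, Int.ofNat 4],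
  [Int.negSucc 3, Int.ofNat 0, Int.ofNat 0, Int.ofNat 0, Int.ofNat 0, Int.ofNat 0, Int.ofNat 0, Int.ofNat 0, Int.ofNat 0, Int.ofNat 0, Int.ofNat 0, Int.ofNat 0, Int.ofNat 0, Int.ofNat 0, Int.ofNat 0, Int.ofNat 0, Int.ofNat 0, Int.ofNat 0, Int.ofNat 0, Int.ofNat 0, Int.ofNat 0, Int.ofNat 0, Int.ofNat 0, Int.ofNat 4],
  [Int.ofNat 4, Int.ofNat 0, Int.ofNat 0, Int.ofNat 0, Int.ofNat 0, Int.ofNat 0, Int.ofNat 0, Int.ofNat 0, Int.ofNat 0, Int.ofNat 0, Int.ofNat 0, Int.ofNat 0, Int.ofNat 0, Int.ofNat 0, Int.ofNat 0, Int.ofNat 0, Int.ofNat 0, Int.ofNat 0, Int.ofNat 0, Int.ofNat 0, Int.ofNat 0, Int.ofNat 0, Int.ofNat 0, Int.negSucc 3],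
  [Int.negSucc 3, Int.ofNat 0, Int.ofNat 0, Int.ofNat 0, Int.ofNat 0, Int.ofNat 0, Int.ofNat 0, Int.ofNat 0, Int.ofNat 0, Int.ofNat 0, Int.ofNat 0, Int.ofNat 0, Int.ofNat 0, Int.ofNat 0, Int.ofNat 0, Int.ofNat 0, Int.ofNat 0, Int.ofNat 0, Int.ofNat 0, Int.ofNat 0, Int.ofNat 0, Int.ofNat 0, Int.ofNat 0, Int.negSucc 3],
  [Int.ofNat 0, Int.negSucc 3, Int.ofNat 0, Int.ofNat 0, Int.ofNat 0, Int.ofNat 0, Int.ofNat 0, Int.ofNat 0, Int.ofNat 0, Int.ofNat 0, Int.ofNat 0, Int.ofNat 0, Int.ofNat 0, Int.ofNat 0, Int.ofNat 0, Int.ofNat 0, Int.ofNat 0, Int.ofNat 0, Int.ofNat 0, Int.ofNat 0, Int.ofNat 0, Int.ofNat 0, Int.ofNat 0, Int.negSucc 3],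
  [Int.negSucc 3, Int.ofNat 0, Int.negSucc 3, Int.ofNat 0, Int.ofNat 0, Int.ofNat 0, Int.ofNat 0, Int.ofNat 0, Int.ofNat 0, Int.ofNat 0, Int.ofNat 0, Int.ofNat 0, Int.ofNat 0, Int.ofNat 0, Int.ofNat 0, Int.ofNat 0, Int.ofNat 0, Int.ofNat 0, Int.ofNat 0, Int.ofNat 0, Int.ofNat 0, Int.ofNat 0, Int.ofNat 0, Int.ofNat 0],
  [Int.ofNat 0, Int.ofNat 0, Int.ofNat 0, Int.ofNat 0, Int.ofNat 0, Int.ofNat 0, Int.ofNat 0, Int.ofNat 0, Int.ofNat 0, Int.ofNat 0, Int.ofNat 0, Int.ofNat 0, Int.ofNat 0, Int.ofNat 0, Int.ofNat 0, Int.ofNat 0, Int.ofNat 0, Int.ofNat 0, Int.ofNat 0, Int.ofNat 0, Int.negSucc 3, Int.ofNat 0, Int.negSucc 3, Int.ofNat 0],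
  [Int.ofNat 0, Int.ofNat 0, Int.ofNat 0, Int.ofNat 0, Int.ofNat 2, Int.ofNat 0, Int.ofNat 0, Int.ofNat 0, Int.ofNat 0, Int.ofNat 2, Int.ofNat 2, Int.ofNat 0, Int.ofNat 0, Int.ofNat 2, Int.ofNat 0, Int.ofNat 2, Int.ofNat 2, Int.ofNat 0, Int.ofNat 0, Int.ofNat 0, Int.negSucc 1, Int.ofNat 0, Int.negSucc 1, Int.ofNat 0],
  [Int.ofNat 0, Int.ofNat 0, Int.ofNat 2, Int.ofNat 0, Int.ofNat 0, Int.ofNat 0, Int.ofNat 0, Int.ofNat 2, Int.ofNat 0, Int.ofNat 2, Int.negSucc 1, Int.ofNat 0, Int.ofNat 2, Int.ofNat 2, Int.negSucc 1, Int.ofNat 2, Int.ofNat 0, Int.ofNat 0, Int.ofNat 0, Int.ofNat 0, Int.ofNat 0, Int.ofNat 0, Int.ofNat 0, Int.ofNat 0],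
  [Int.ofNat 1, Int.ofNat 1, Int.negSucc 0, Int.ofNat 1, Int.negSucc 0, Int.ofNat 1, Int.negSucc 0, Int.ofNat 1, Int.negSucc 0, Int.ofNat 1, Int.negSucc 2, Int.negSucc 0, Int.ofNat 1, Int.ofNat 1, Int.negSucc 0, Int.ofNat 1, Int.negSucc 0, Int.ofNat 1, Int.negSucc 0, Int.negSucc 0, Int.negSucc 0, Int.negSucc 0, Int.negSucc 0, Int.ofNat 1],
  [Int.ofNat 1, Int.ofNat 1, Int.ofNat 1, Int.ofNat 1, Int.negSucc 0, Int.negSucc 0, Int.ofNat 1, Int.ofNat 1, Int.negSucc 0, Int.negSucc 0, Int.ofNat 3, Int.negSucc 0, Int.ofNat 1, Int.ofNat 1, Int.negSucc 0, Int.negSucc 0, Int.negSucc 0, Int.ofNat 1, Int.ofNat 1, Int.negSucc 0, Int.negSucc 0, Int.negSucc 0, Int.ofNat 1, Int.ofNat 1],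
  [Int.ofNat 1, Int.ofNat 1, Int.negSucc 0, Int.negSucc 0, Int.ofNat 1, Int.negSucc 0, Int.ofNat 1, Int.ofNat 1, Int.ofNat 1, Int.negSucc 0, Int.ofNat 1, Int.ofNat 1, Int.ofNat 1, Int.negSucc 0, Int.ofNat 1, Int.negSucc 0, Int.negSucc 0, Int.negSucc 0, Int.negSucc 0, Int.ofNat 1, Int.negSucc 0, Int.ofNat 3, Int.negSucc 0, Int.ofNat 1],
  [Int.ofNat 1, Int.ofNat 1, Int.ofNat 1, Int.negSucc 0, Int.ofNat 1, Int.ofNat 1, Int.negSucc 0, Int.ofNat 1, Int.ofNat 1, Int.ofNat 1, Int.negSucc 0, Int.ofNat 1, Int.ofNat 1, Int.negSucc 0, Int.ofNat 1, Int.ofNat 1, Int.negSucc 0, Int.negSucc 0, Int.ofNat 1, Int.ofNat 1, Int.negSucc 0, Int.ofNat 3, Int.ofNat 1, Int.ofNat 1],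
  [Int.ofNat 1, Int.ofNat 1, Int.ofNat 1, Int.negSucc 0, Int.ofNat 1, Int.ofNat 1, Int.negSucc 2, Int.negSucc 0, Int.negSucc 0, Int.ofNat 1, Int.negSucc 0, Int.negSucc 0, Int.negSucc 0, Int.negSucc 0, Int.ofNat 1, Int.ofNat 1, Int.negSucc 0, Int.negSucc 0, Int.negSucc 0, Int.negSucc 0, Int.negSucc 0, Int.ofNat 1, Int.ofNat 1, Int.ofNat 1],
  [Int.ofNat 1, Int.negSucc 0, Int.negSucc 2, Int.negSucc 0, Int.ofNat 1, Int.ofNat 1, Int.ofNat 1, Int.ofNat 1, Int.negSucc 0, Int.negSucc 0, Int.negSucc 0, Int.negSucc 0, Int.negSucc 0, Int.ofNat 1, Int.negSucc 0, Int.ofNat 1, Int.negSucc 0, Int.negSucc 0, Int.ofNat 1, Int.ofNat 1, Int.negSucc 0, Int.negSucc 0, Int.ofNat 1, Int.ofNat 1],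
  [Int.negSucc 1, Int.ofNat 0, Int.ofNat 2, Int.ofNat 0, Int.ofNat 0, Int.ofNat 2, Int.ofNat 0, Int.ofNat 0, Int.ofNat 0, Int.ofNat 0, Int.ofNat 0, Int.ofNat 0, Int.ofNat 0, Int.ofNat 0, Int.ofNat 0, Int.ofNat 2, Int.negSucc 1, Int.ofNat 0, Int.ofNat 2, Int.ofNat 0, Int.ofNat 0, Int.negSucc 1, Int.ofNat 0, Int.negSucc 1],
  [Int.ofNat 0, Int.negSucc 1, Int.ofNat 0, Int.negSucc 1, Int.ofNat 0, Int.ofNat 2, Int.ofNat 0, Int.ofNat 0, Int.ofNat 2, Int.ofNat 0, Int.ofNat 0, Int.ofNat 0, Int.ofNat 0, Int.ofNat 0, Int.ofNat 0, Int.ofNat 0, Int.ofNat 0, Int.ofNat 0, Int.ofNat 2, Int.negSucc 1, Int.ofNat 0, Int.ofNat 2, Int.ofNat 0, Int.negSucc 1],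
  [Int.negSucc 1, Int.ofNat 0, Int.negSucc 1, Int.negSucc 1, Int.ofNat 0, Int.ofNat 2, Int.ofNat 0, Int.ofNat 0, Int.ofNat 0, Int.ofNat 0, Int.ofNat 0, Int.negSucc 1, Int.negSucc 1, Int.ofNat 0, Int.ofNat 0, Int.ofNat 0, Int.ofNat 0, Int.ofNat 0, Int.ofNat 0, Int.negSucc 1, Int.ofNat 0, Int.ofNat 2, Int.ofNat 0, Int.ofNat 0],
  [Int.ofNat 0, Int.negSucc 1, Int.negSucc 1, Int.ofNat 0, Int.ofNat 2, Int.ofNat 0, Int.ofNat 0, Int.ofNat 0, Int.ofNat 0, Int.ofNat 0, Int.negSucc 1, Int.negSucc 1, Int.ofNat 0, Int.ofNat 0, Int.ofNat 0, Int.ofNat 0, Int.ofNat 0, Int.ofNat 0, Int.negSucc 1, Int.ofNat 0, Int.ofNat 2, Int.ofNat 0, Int.negSucc 1, Int.ofNat 0],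
  [Int.ofNat 0, Int.negSucc 1, Int.ofNat 2, Int.ofNat 0, Int.ofNat 2, Int.ofNat 0, Int.ofNat 0, Int.ofNat 0, Int.ofNat 0, Int.ofNat 0, Int.ofNat 2, Int.ofNat 2, Int.ofNat 0, Int.ofNat 0, Int.ofNat 0, Int.ofNat 0, Int.ofNat 0, Int.ofNat 0, Int.ofNat 2, Int.ofNat 0, Int.ofNat 2, Int.ofNat 0, Int.negSucc 1, Int.ofNat 0],
  [Int.ofNat 0, Int.ofNat 2, Int.negSucc 1, Int.ofNat 0, Int.negSucc 1, Int.ofNat 0, Int.ofNat 0, Int.ofNat 0, Int.ofNat 0, Int.ofNat 0, Int.ofNat 2, Int.ofNat 2, Int.ofNat 0, Int.ofNat 0, Int.ofNat 0, Int.ofNat 0, Int.ofNat 0, Int.ofNat 0, Int.negSucc 1, Int.ofNat 0, Int.ofNat 2, Int.ofNat 0, Int.negSucc 1, Int.ofNat 0],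
  [Int.ofNat 0, Int.negSucc 1, Int.ofNat 2, Int.ofNat 0, Int.ofNat 0, Int.ofNat 0, Int.ofNat 0, Int.ofNat 0, Int.ofNat 2, Int.ofNat 0, Int.ofNat 0, Int.negSucc 1, Int.ofNat 0, Int.ofNat 0, Int.negSucc 1, Int.ofNat 0, Int.ofNat 2, Int.negSucc 1, Int.ofNat 0, Int.ofNat 0, Int.ofNat 0, Int.ofNat 0, Int.ofNat 2, Int.ofNat 0],
  [Int.ofNat 0, Int.negSucc 1, Int.negSucc 1, Int.ofNat 0, Int.ofNat 0, Int.ofNat 0, Int.ofNat 0, Int.ofNat 0, Int.ofNat 2, Int.ofNat 0, Int.ofNat 0, Int.ofNat 2, Int.ofNat 0, Int.ofNat 0, Int.negSucc 1, Int.ofNat 0, Int.ofNat 2, Int.negSucc 1, Int.ofNat 0, Int.ofNat 0, Int.ofNat 0, Int.ofNat 0, Int.ofNat 2, Int.ofNat 0],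
  [Int.ofNat 2, Int.ofNat 0, Int.negSucc 1, Int.negSucc 1, Int.ofNat 0, Int.ofNat 0, Int.ofNat 0, Int.ofNat 0, Int.ofNat 0, Int.ofNat 2, Int.ofNat 0, Int.ofNat 0, Int.ofNat 2, Int.ofNat 0, Int.ofNat 0, Int.negSucc 1, Int.ofNat 0, Int.ofNat 2, Int.negSucc 1, Int.ofNat 0, Int.ofNat 0, Int.ofNat 0, Int.ofNat 0, Int.ofNat 0],
  [Int.negSucc 1, Int.ofNat 0, Int.ofNat 2, Int.negSucc 1, Int.ofNat 0, Int.ofNat 0, Int.ofNat 0, Int.ofNat 0, Int.ofNat 0, Int.ofNat 2, Int.ofNat 0, Int.ofNat 0, Int.ofNat 2, Int.ofNat 0, Int.ofNat 0, Int.negSucc 1, Int.ofNat 0, Int.ofNat 2, Int.negSucc 1, Int.ofNat 0, Int.ofNat 0, Int.ofNat 0, Int.ofNat 0, Int.ofNat 0],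
  [Int.negSucc 1, Int.ofNat 0, Int.ofNat 0, Int.ofNat 0, Int.ofNat 0, Int.ofNat 0, Int.ofNat 2, Int.ofNat 0, Int.ofNat 0, Int.ofNat 2, Int.ofNat 0, Int.ofNat 0, Int.negSucc 1, Int.ofNat 0, Int.ofNat 2, Int.negSucc 1, Int.ofNat 0, Int.ofNat 0, Int.ofNat 0, Int.ofNat 0, Int.negSucc 1, Int.ofNat 0, Int.ofNat 2, Int.ofNat 0],
  [Int.ofNat 1, Int.negSucc 0, Int.negSucc 0, Int.negSucc 0, Int.negSucc 0, Int.negSucc 0, Int.ofNat 1, Int.negSucc 0, Int.ofNat 1, Int.ofNat 3, Int.ofNat 1, Int.ofNat 1, Int.negSucc 0, Int.negSucc 0, Int.ofNat 1, Int.negSucc 0, Int.negSucc 0, Int.negSucc 0, Int.ofNat 1, Int.negSucc 0, Int.negSucc 0, Int.negSucc 0, Int.ofNat 1, Int.negSucc 0],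
  [Int.ofNat 1, Int.ofNat 1, Int.negSucc 0, Int.negSucc 0, Int.ofNat 1, Int.negSucc 0, Int.negSucc 0, Int.ofNat 1, Int.negSucc 0, Int.negSucc 0, Int.negSucc 0, Int.negSucc 0, Int.ofNat 3, Int.negSucc 0, Int.ofNat 1, Int.negSucc 0, Int.ofNat 1, Int.ofNat 1, Int.negSucc 0, Int.ofNat 1, Int.negSucc 0, Int.negSucc 0, Int.negSucc 0, Int.negSucc 0],
  [Int.negSucc 0, Int.negSucc 0, Int.ofNat 1, Int.negSucc 0, Int.ofNat 1, Int.negSucc 0, Int.negSucc 0, Int.ofNat 1, Int.negSucc 0, Int.ofNat 1, Int.ofNat 1, Int.negSucc 0, Int.ofNat 3, Int.negSucc 0, Int.ofNat 1, Int.ofNat 1, Int.ofNat 1, Int.ofNat 1, Int.negSucc 0, Int.ofNat 1, Int.ofNat 1, Int.negSucc 0, Int.negSucc 0, Int.ofNat 1],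
  [Int.negSucc 0, Int.negSucc 0, Int.negSucc 0, Int.negSucc 0, Int.ofNat 1, Int.ofNat 1, Int.ofNat 1, Int.ofNat 1, Int.negSucc 0, Int.negSucc 0, Int.negSucc 0, Int.negSucc 0, Int.ofNat 3, Int.negSucc 0, Int.ofNat 1, Int.negSucc 0, Int.ofNat 1, Int.ofNat 1, Int.ofNat 1, Int.ofNat 1, Int.ofNat 1, Int.negSucc 0, Int.ofNat 1, Int.ofNat 1],
  [Int.ofNat 1, Int.ofNat 1, Int.ofNat 1, Int.ofNat 1, Int.negSucc 0, Int.negSucc 0, Int.ofNat 1, Int.ofNat 1, Int.negSucc 0, Int.negSucc 0, Int.ofNat 3, Int.negSucc 0, Int.ofNat 1, Int.ofNat 1, Int.negSucc 0, Int.negSucc 0, Int.negSucc 0, Int.ofNat 1, Int.ofNat 1, Int.negSucc 0, Int.negSucc 0, Int.negSucc 0, Int.ofNat 1, Int.ofNat 1],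
  [Int.ofNat 1, Int.ofNat 1, Int.negSucc 0, Int.ofNat 1, Int.negSucc 0, Int.ofNat 1, Int.negSucc 0, Int.ofNat 1, Int.negSucc 0, Int.ofNat 1, Int.negSucc 2, Int.negSucc 0, Int.ofNat 1, Int.ofNat 1, Int.negSucc 0, Int.ofNat 1, Int.negSucc 0, Int.ofNat 1, Int.negSucc 0, Int.negSucc 0, Int.negSucc 0, Int.negSucc 0, Int.negSucc 0, Int.ofNat 1],
  [Int.ofNat 0, Int.ofNat 0, Int.ofNat 2, Int.ofNat 0, Int.ofNat 0, Int.ofNat 0, Int.ofNat 0, Int.ofNat 2, Int.ofNat 0, Int.ofNat 2, Int.negSucc 1, Int.ofNat 0, Int.ofNat 2, Int.ofNat 2, Int.negSucc 1, Int.ofNat 2, Int.ofNat 0, Int.ofNat 0, Int.ofNat 0, Int.ofNat 0, Int.ofNat 0, Int.ofNat 0, Int.ofNat 0, Int.ofNat 0],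
  [Int.ofNat 0, Int.ofNat 0, Int.ofNat 0, Int.ofNat 0, Int.ofNat 2, Int.ofNat 0, Int.ofNat 0, Int.ofNat 0, Int.ofNat 0, Int.ofNat 2, Int.ofNat 2, Int.ofNat 0, Int.ofNat 0, Int.ofNat 2, Int.ofNat 0, Int.ofNat 2, Int.ofNat 2, Int.ofNat 0, Int.ofNat 0, Int.ofNat 0, Int.negSucc 1, Int.ofNat 0, Int.negSucc 1, Int.ofNat 0],
  [Int.ofNat 0, Int.ofNat 0, Int.ofNat 0, Int.ofNat 0, Int.ofNat 0, Int.ofNat 0, Int.ofNat 0, Int.ofNat 0, Int.ofNat 0, Int.ofNat 0, Int.ofNat 0, Int.ofNat 0, Int.ofNat 0, Int.ofNat 0, Int.ofNat 0, Int.ofNat 0, Int.ofNat 0, Int.ofNat 0, Int.ofNat 0, Int.ofNat 0, Int.negSucc 3, Int.ofNat 0, Int.negSucc 3, Int.ofNat 0],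
  [Int.negSucc 3, Int.ofNat 0, Int.negSucc 3, Int.ofNat 0, Int.ofNat 0, Int.ofNat 0, Int.ofNat 0, Int.ofNat 0, Int.ofNat 0, Int.ofNat 0, Int.ofNat 0, Int.ofNat 0, Int.ofNat 0, Int.ofNat 0, Int.ofNat 0, Int.ofNat 0, Int.ofNat 0, Int.ofNat 0, Int.ofNat 0, Int.ofNat 0, Int.ofNat 0, Int.ofNat 0, Int.ofNat 0, Int.ofNat 0],
  [Int.ofNat 0, Int.negSucc 3, Int.ofNat 0, Int.ofNat 0, Int.ofNat 0, Int.ofNat 0, Int.ofNat 0, Int.ofNat 0, Int.ofNat 0, Int.ofNat 0, Int.ofNat 0, Int.ofNat 0, Int.ofNat 0, Int.ofNat 0, Int.ofNat 0, Int.ofNat 0, Int.ofNat 0, Int.ofNat 0, Int.ofNat 0, Int.ofNat 0, Int.ofNat 0, Int.ofNat 0, Int.ofNat 0, Int.negSucc 3],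
  [Int.negSucc 3, Int.ofNat 0, Int.ofNat 0, Int.ofNat 0, Int.ofNat 0, Int.ofNat 0, Int.ofNat 0, Int.ofNat 0, Int.ofNat 0, Int.ofNat 0, Int.ofNat 0, Int.ofNat 0, Int.ofNat 0, Int.ofNat 0, Int.ofNat 0, Int.ofNat 0, Int.ofNat 0, Int.ofNat 0, Int.ofNat 0, Int.ofNat 0, Int.ofNat 0, Int.ofNat 0, Int.ofNat 0, Int.negSucc 3],
  [Int.ofNat 4, Int.ofNat 0, Int.ofNat 0, Int.ofNat 0, Int.ofNat 0, Int.ofNat 0, Int.ofNat 0, Int.ofNat 0, Int.ofNat 0, Int.ofNat 0, Int.ofNat 0, Int.ofNat 0, Int.ofNat 0, Int.ofNat 0, Int.ofNat 0, Int.ofNat 0, Int.ofNat 0, Int.ofNat 0, Int.ofNat 0, Int.ofNat 0, Int.ofNat 0, Int.ofNat 0, Int.ofNat 0, Int.negSucc 3],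
  [Int.negSucc 3, Int.ofNat 0, Int.ofNat 0, Int.ofNat 0, Int.ofNat 0, Int.ofNat 0, Int.ofNat 0, Int.ofNat 0, Int.ofNat 0, Int.ofNat 0, Int.ofNat 0, Int.ofNat 0, Int.ofNat 0, Int.ofNat 0, Int.ofNat 0, Int.ofNat 0, Int.ofNat 0, Int.ofNat 0, Int.ofNat 0, Int.ofNat 0, Int.ofNat 0, Int.ofNat 0, Int.ofNat 0, Int.negSucc 3],
  [Int.negSucc 3, Int.ofNat 0, Int.ofNat 0, Int.ofNat 0, Int.ofNat 0, Int.ofNat 0, Int.ofNat 0, Int.ofNat 0, Int.ofNat 0, Int.ofNat 0, Int.ofNat 0, Int.ofNat 0, Int.ofNat 0, Int.ofNat 0, Int.ofNat 0, Int.ofNat 0, Int.ofNat 0, Int.ofNat 0, Int.ofNat 0, Int.ofNat 0, Int.ofNat 0, Int.ofNat 0, Int.ofNat 0, Int.negSucc 3],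
  [Int.ofNat 4, Int.ofNat 0, Int.ofNat 0, Int.ofNat 0, Int.ofNat 0, Int.ofNat 0, Int.ofNat 0, Int.ofNat 0, Int.ofNat 0, Int.ofNat 0, Int.ofNat 0, Int.ofNat 0, Int.ofNat 0, Int.ofNat 0, Int.ofNat 0, Int.ofNat 0, Int.ofNat 0, Int.ofNat 0, Int.ofNat 0, Int.ofNat 0, Int.ofNat 0, Int.ofNat 0, Int.ofNat 0, Int.negSucc 3],
  [Int.ofNat 0, Int.ofNat 4, Int.ofNat 0, Int.ofNat 0, Int.ofNat 0, Int.ofNat 0, Int.ofNat 0, Int.ofNat 0, Int.ofNat 0, Int.ofNat 0, Int.ofNat 0, Int.ofNat 0, Int.ofNat 0, Int.ofNat 0, Int.ofNat 0, Int.ofNat 0, Int.ofNat 0, Int.ofNat 0, Int.ofNat 0, Int.ofNat 0, Int.ofNat 0, Int.ofNat 0, Int.ofNat 0, Int.negSucc 3],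
  [Int.ofNat 0, Int.negSucc 3, Int.ofNat 0, Int.ofNat 0, Int.ofNat 0, Int.ofNat 0, Int.ofNat 0, Int.ofNat 0, Int.ofNat 0, Int.ofNat 0, Int.ofNat 0, Int.ofNat 0, Int.ofNat 0, Int.ofNat 0, Int.ofNat 0, Int.ofNat 0, Int.ofNat 0, Int.ofNat 0, Int.ofNat 0, Int.ofNat 0, Int.ofNat 0, Int.ofNat 0, Int.ofNat 0, Int.ofNat 4],
  [Int.ofNat 0, Int.ofNat 0, Int.ofNat 0, Int.ofNat 0, Int.ofNat 0, Int.ofNat 0, Int.ofNat 0, Int.ofNat 0, Int.ofNat 0, Int.ofNat 0, Int.ofNat 0, Int.ofNat 0, Int.ofNat 0, Int.ofNat 0, Int.ofNat 0, Int.ofNat 0, Int.ofNat 0, Int.ofNat 0, Int.ofNat 0, Int.ofNat 0, Int.ofNat 0, Int.negSucc 3, Int.ofNat 0, Int.ofNat 4],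
  [Int.ofNat 2, Int.ofNat 2, Int.ofNat 2, Int.ofNat 0, Int.ofNat 0, Int.ofNat 0, Int.ofNat 2, Int.ofNat 2, Int.ofNat 0, Int.ofNat 0, Int.ofNat 0, Int.ofNat 0, Int.ofNat 0, Int.ofNat 0, Int.ofNat 0, Int.ofNat 0, Int.ofNat 0, Int.ofNat 0, Int.ofNat 0, Int.ofNat 2, Int.ofNat 0, Int.negSucc 1, Int.ofNat 0, Int.negSucc 1],
  [Int.ofNat 2, Int.ofNat 2, Int.ofNat 0, Int.ofNat 0, Int.ofNat 0, Int.ofNat 2, Int.ofNat 2, Int.ofNat 0, Int.ofNat 0, Int.ofNat 0, Int.ofNat 0, Int.ofNat 0, Int.ofNat 0, Int.ofNat 0, Int.ofNat 0, Int.ofNat 0, Int.ofNat 0, Int.ofNat 0, Int.ofNat 2, Int.ofNat 0, Int.negSucc 1, Int.ofNat 0, Int.ofNat 2, Int.negSucc 1],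
  [Int.negSucc 0, Int.negSucc 0, Int.ofNat 1, Int.negSucc 0, Int.negSucc 0, Int.ofNat 1, Int.ofNat 1, Int.negSucc 0, Int.negSucc 0, Int.ofNat 1, Int.ofNat 1, Int.negSucc 0, Int.negSucc 0, Int.negSucc 0, Int.negSucc 0, Int.ofNat 1, Int.negSucc 0, Int.negSucc 0, Int.ofNat 1, Int.negSucc 0, Int.negSucc 0, Int.negSucc 0, Int.ofNat 1, Int.ofNat 3],
  [Int.negSucc 0, Int.negSucc 0, Int.negSucc 0, Int.negSucc 0, Int.negSucc 0, Int.negSucc 0, Int.negSucc 0, Int.negSucc 0, Int.negSucc 0, Int.negSucc 0, Int.negSucc 0, Int.negSucc 0, Int.negSucc 0, Int.negSucc 0, Int.negSucc 0, Int.negSucc 0, Int.negSucc 0, Int.negSucc 0, Int.negSucc 0, Int.negSucc 0, Int.negSucc 0, Int.negSucc 0, Int.negSucc 0, Int.ofNat 3],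
  [Int.negSucc 0, Int.negSucc 0, Int.negSucc 0, Int.negSucc 0, Int.negSucc 0, Int.negSucc 0, Int.negSucc 0, Int.negSucc 0, Int.negSucc 0, Int.negSucc 0, Int.negSucc 0, Int.negSucc 0, Int.negSucc 0, Int.negSucc 0, Int.negSucc 0, Int.negSucc 0, Int.negSucc 0, Int.negSucc 0, Int.negSucc 0, Int.negSucc 0, Int.negSucc 0, Int.negSucc 0, Int.negSucc 0, Int.ofNat 3],
  [Int.negSucc 0, Int.negSucc 0, Int.ofNat 1, Int.negSucc 0, Int.negSucc 0, Int.ofNat 1, Int.ofNat 1, Int.negSucc 0, Int.negSucc 0, Int.ofNat 1, Int.ofNat 1, Int.negSucc 0, Int.negSucc 0, Int.negSucc 0, Int.negSucc 0, Int.ofNat 1, Int.negSucc 0, Int.negSucc 0, Int.ofNat 1, Int.negSucc 0, Int.negSucc 0, Int.negSucc 0, Int.ofNat 1, Int.ofNat 3],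
  [Int.ofNat 2, Int.ofNat 2, Int.ofNat 0, Int.ofNat 0, Int.ofNat 0, Int.ofNat 2, Int.ofNat 2, Int.ofNat 0, Int.ofNat 0, Int.ofNat 0, Int.ofNat 0, Int.ofNat 0, Int.ofNat 0, Int.ofNat 0, Int.ofNat 0, Int.ofNat 0, Int.ofNat 0, Int.ofNat 0, Int.ofNat 2, Int.ofNat 0, Int.negSucc 1, Int.ofNat 0, Int.ofNat 2, Int.negSucc 1],
  [Int.ofNat 2, Int.ofNat 2, Int.ofNat 2, Int.ofNat 0, Int.ofNat 0, Int.ofNat 0, Int.ofNat 2, Int.ofNat 2, Int.ofNat 0, Int.ofNat 0, Int.ofNat 0, Int.ofNat 0, Int.ofNat 0, Int.ofNat 0, Int.ofNat 0, Int.ofNat 0, Int.ofNat 0, Int.ofNat 0, Int.ofNat 0, Int.ofNat 2, Int.ofNat 0, Int.negSucc 1, Int.ofNat 0, Int.negSucc 1],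
  [Int.ofNat 0, Int.ofNat 0, Int.ofNat 0, Int.ofNat 0, Int.ofNat 0, Int.ofNat 0, Int.ofNat 0, Int.ofNat 0, Int.ofNat 0, Int.ofNat 0, Int.ofNat 0, Int.ofNat 0, Int.ofNat 0, Int.ofNat 0, Int.ofNat 0, Int.ofNat 0, Int.ofNat 0, Int.ofNat 0, Int.ofNat 0, Int.ofNat 0, Int.ofNat 0, Int.negSucc 3, Int.ofNat 0, Int.ofNat 4],
  [Int.ofNat 0, Int.negSucc 3, Int.ofNat 0, Int.ofNat 0, Int.ofNat 0, Int.ofNat 0, Int.ofNat 0, Int.ofNat 0, Int.ofNat 0, Int.ofNat 0, Int.ofNat 0, Int.ofNat 0, Int.ofNat 0, Int.ofNat 0, Int.ofNat 0, Int.ofNat 0, Int.ofNat 0, Int.ofNat 0, Int.ofNat 0, Int.ofNat 0, Int.ofNat 0, Int.ofNat 0, Int.ofNat 0, Int.ofNat 4],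
  [Int.ofNat 0, Int.ofNat 4, Int.ofNat 0, Int.ofNat 0, Int.ofNat 0, Int.ofNat 0, Int.ofNat 0, Int.ofNat 0, Int.ofNat 0, Int.ofNat 0, Int.ofNat 0, Int.ofNat 0, Int.ofNat 0, Int.ofNat 0, Int.ofNat 0, Int.ofNat 0, Int.ofNat 0, Int.ofNat 0, Int.ofNat 0, Int.ofNat 0, Int.ofNat 0, Int.ofNat 0, Int.ofNat 0, Int.negSucc 3],
  [Int.ofNat 4, Int.ofNat 0, Int.ofNat 0, Int.ofNat 0, Int.ofNat 0, Int.ofNat 0, Int.ofNat 0, Int.ofNat 0, Int.ofNat 0, Int.ofNat 0, Int.ofNat 0, Int.ofNat 0, Int.ofNat 0, Int.ofNat 0, Int.ofNat 0, Int.ofNat 0, Int.ofNat 0, Int.ofNat 0, Int.ofNat 0, Int.ofNat 0, Int.ofNat 0, Int.ofNat 0, Int.ofNat 0, Int.negSucc 3],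
  [Int.negSucc 3, Int.ofNat 0, Int.ofNat 0, Int.ofNat 0, Int.ofNat 0, Int.ofNat 0, Int.ofNat 0, Int.ofNat 0, Int.ofNat 0, Int.ofNat 0, Int.ofNat 0, Int.ofNat 0, Int.ofNat 0, Int.ofNat 0, Int.ofNat 0, Int.ofNat 0, Int.ofNat 0, Int.ofNat 0, Int.ofNat 0, Int.ofNat 0, Int.ofNat 0, Int.ofNat 0, Int.ofNat 0, Int.negSucc 3],
  [Int.ofNat 4, Int.ofNat 0, Int.ofNat 0, Int.ofNat 0, Int.ofNat 0, Int.ofNat 0, Int.ofNat 0, Int.ofNat 0, Int.ofNat 0, Int.ofNat 0, Int.ofNat 0, Int.ofNat 0, Int.ofNat 0, Int.ofNat 0, Int.ofNat 0, Int.ofNat 0, Int.ofNat 0, Int.ofNat 0, Int.ofNat 0, Int.ofNat 0, Int.ofNat 0, Int.ofNat 0, Int.ofNat 0, Int.negSucc 3],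
  [Int.negSucc 3, Int.ofNat 0, Int.ofNat 0, Int.ofNat 0, Int.ofNat 0, Int.ofNat 0, Int.ofNat 0, Int.ofNat 0, Int.ofNat 0, Int.ofNat 0, Int.ofNat 0, Int.ofNat 0, Int.ofNat 0, Int.ofNat 0, Int.ofNat 0, Int.ofNat 0, Int.ofNat 0, Int.ofNat 0, Int.ofNat 0, Int.ofNat 0, Int.ofNat 0, Int.ofNat 0, Int.ofNat 0, Int.ofNat 4],
  [Int.ofNat 4, Int.ofNat 0, Int.ofNat 0, Int.ofNat 0, Int.ofNat 0, Int.ofNat 0, Int.ofNat 0, Int.ofNat 0, Int.ofNat 0, Int.ofNat 0, Int.ofNat 0, Int.ofNat 0, Int.ofNat 0, Int.ofNat 0, Int.ofNat 0, Int.ofNat 0, Int.ofNat 0, Int.ofNat 0, Int.ofNat 0, Int.ofNat 0, Int.ofNat 0, Int.ofNat 0, Int.ofNat 0, Int.ofNat 4],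
  [Int.ofNat 0, Int.ofNat 4, Int.ofNat 0, Int.ofNat 0, Int.ofNat 0, Int.ofNat 0, Int.ofNat 0, Int.ofNat 0, Int.ofNat 0, Int.ofNat 0, Int.ofNat 0, Int.ofNat 0, Int.ofNat 0, Int.ofNat 0, Int.ofNat 0, Int.ofNat 0, Int.ofNat 0, Int.ofNat 0, Int.ofNat 0, Int.ofNat 0, Int.ofNat 0, Int.ofNat 0, Int.ofNat 0, Int.ofNat 4],
  [Int.ofNat 4, Int.ofNat 0, Int.ofNat 4, Int.ofNat 0, Int.ofNat 0, Int.ofNat 0, Int.ofNat 0, Int.ofNat 0, Int.ofNat 0, Int.ofNat 0, Int.ofNat 0, Int.ofNat 0, Int.ofNat 0, Int.ofNat 0, Int.ofNat 0, Int.ofNat 0, Int.ofNat 0, Int.ofNat 0, Int.ofNat 0, Int.ofNat 0, Int.ofNat 0, Int.ofNat 0, Int.ofNat 0, Int.ofNat 0],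
  [Int.ofNat 0, Int.ofNat 0, Int.ofNat 0, Int.ofNat 0, Int.ofNat 0, Int.ofNat 0, Int.ofNat 0, Int.ofNat 0, Int.ofNat 0, Int.ofNat 0, Int.ofNat 0, Int.ofNat 0, Int.ofNat 0, Int.ofNat 0, Int.ofNat 0, Int.ofNat 0, Int.ofNat 0, Int.ofNat 0, Int.ofNat 0, Int.ofNat 0, Int.ofNat 4, Int.ofNat 0, Int.ofNat 4, Int.ofNat 0],
  [Int.ofNat 0, Int.ofNat 0, Int.ofNat 0, Int.ofNat 0, Int.negSucc 1, Int.ofNat 0, Int.ofNat 0, Int.ofNat 0, Int.ofNat 0, Int.negSucc 1, Int.negSucc 1, Int.ofNat 0, Int.ofNat 0, Int.negSucc 1, Int.ofNat 0, Int.negSucc 1, Int.negSucc 1, Int.ofNat 0, Int.ofNat 0, Int.ofNat 0, Int.ofNat 2, Int.ofNat 0, Int.ofNat 2, Int.ofNat 0],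
  [Int.ofNat 0, Int.ofNat 0, Int.negSucc 1, Int.ofNat 0, Int.ofNat 0, Int.ofNat 0, Int.ofNat 0, Int.negSucc 1, Int.ofNat 0, Int.negSucc 1, Int.ofNat 2, Int.ofNat 0, Int.negSucc 1, Int.negSucc 1, Int.ofNat 2, Int.negSucc 1, Int.ofNat 0, Int.ofNat 0, Int.ofNat 0, Int.ofNat 0, Int.ofNat 0, Int.ofNat 0, Int.ofNat 0, Int.ofNat 0],
  [Int.negSucc 0, Int.negSucc 0, Int.ofNat 1, Int.negSucc 0, Int.ofNat 1, Int.negSucc 0, Int.ofNat 1, Int.negSucc 0, Int.ofNat 1, Int.negSucc 0, Int.ofNat 3, Int.ofNat 1, Int.negSucc 0, Int.negSucc 0, Int.ofNat 1, Int.negSucc 0, Int.ofNat 1, Int.negSucc 0, Int.ofNat 1, Int.ofNat 1, Int.ofNat 1, Int.ofNat 1, Int.ofNat 1, Int.negSucc 0],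
  [Int.negSucc 0, Int.negSucc 0, Int.negSucc 0, Int.negSucc 0, Int.ofNat 1, Int.ofNat 1, Int.negSucc 0, Int.negSucc 0, Int.ofNat 1, Int.ofNat 1, Int.negSucc 2, Int.ofNat 1, Int.negSucc 0, Int.negSucc 0, Int.ofNat 1, Int.ofNat 1, Int.ofNat 1, Int.negSucc 0, Int.negSucc 0, Int.ofNat 1, Int.ofNat 1, Int.ofNat 1, Int.negSucc 0, Int.negSucc 0],
  [Int.negSucc 0, Int.negSucc 0, Int.ofNat 1, Int.ofNat 1, Int.negSucc 0, Int.ofNat 1, Int.negSucc 0, Int.negSucc 0, Int.negSucc 0, Int.ofNat 1, Int.negSucc 0, Int.negSucc 0, Int.negSucc 0, Int.ofNat 1, Int.negSucc 0, Int.ofNat 1, Int.ofNat 1, Int.ofNat 1, Int.ofNat 1, Int.negSucc 0, Int.ofNat 1, Int.negSucc 2, Int.ofNat 1, Int.negSucc 0],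
  [Int.negSucc 0, Int.negSucc 0, Int.negSucc 0, Int.ofNat 1, Int.negSucc 0, Int.negSucc 0, Int.ofNat 1, Int.negSucc 0, Int.negSucc 0, Int.negSucc 0, Int.ofNat 1, Int.negSucc 0, Int.negSucc 0, Int.ofNat 1, Int.negSucc 0, Int.negSucc 0, Int.ofNat 1, Int.ofNat 1, Int.negSucc 0, Int.negSucc 0, Int.ofNat 1, Int.negSucc 2, Int.negSucc 0, Int.negSucc 0],
  [Int.negSucc 0, Int.negSucc 0, Int.negSucc 0, Int.ofNat 1, Int.negSucc 0, Int.negSucc 0, Int.ofNat 3, Int.ofNat 1, Int.ofNat 1, Int.negSucc 0, Int.ofNat 1, Int.ofNat 1, Int.ofNat 1, Int.ofNat 1, Int.negSucc 0, Int.negSucc 0, Int.ofNat 1, Int.ofNat 1, Int.ofNat 1, Int.ofNat 1, Int.ofNat 1, Int.negSucc 0, Int.negSucc 0, Int.negSucc 0],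
  [Int.negSucc 0, Int.ofNat 1, Int.ofNat 3, Int.ofNat 1, Int.negSucc 0, Int.negSucc 0, Int.negSucc 0, Int.negSucc 0, Int.ofNat 1, Int.ofNat 1, Int.ofNat 1, Int.ofNat 1, Int.ofNat 1, Int.negSucc 0, Int.ofNat 1, Int.negSucc 0, Int.ofNat 1, Int.ofNat 1, Int.negSucc 0, Int.negSucc 0, Int.ofNat 1, Int.ofNat 1, Int.negSucc 0, Int.negSucc 0],
  [Int.ofNat 2, Int.ofNat 0, Int.negSucc 1, Int.ofNat 0, Int.ofNat 0, Int.negSucc 1, Int.ofNat 0, Int.ofNat 0, Int.ofNat 0, Int.ofNat 0, Int.ofNat 0, Int.ofNat 0, Int.ofNat 0, Int.ofNat 0, Int.ofNat 0, Int.negSucc 1, Int.ofNat 2, Int.ofNat 0, Int.negSucc 1, Int.ofNat 0, Int.ofNat 0, Int.ofNat 2, Int.ofNat 0, Int.ofNat 2],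
  [Int.ofNat 0, Int.ofNat 2, Int.ofNat 0, Int.ofNat 2, Int.ofNat 0, Int.negSucc 1, Int.ofNat 0, Int.ofNat 0, Int.negSucc 1, Int.ofNat 0, Int.ofNat 0, Int.ofNat 0, Int.ofNat 0, Int.ofNat 0, Int.ofNat 0, Int.ofNat 0, Int.ofNat 0, Int.ofNat 0, Int.negSucc 1, Int.ofNat 2, Int.ofNat 0, Int.negSucc 1, Int.ofNat 0, Int.ofNat 2],
  [Int.ofNat 2, Int.ofNat 0, Int.ofNat 2, Int.ofNat 2, Int.ofNat 0, Int.negSucc 1, Int.ofNat 0, Int.ofNat 0, Int.ofNat 0, Int.ofNat 0, Int.ofNat 0, Int.ofNat 2, Int.ofNat 2, Int.ofNat 0, Int.ofNat 0, Int.ofNat 0, Int.ofNat 0, Int.ofNat 0, Int.ofNat 0, Int.ofNat 2, Int.ofNat 0, Int.negSucc 1, Int.ofNat 0, Int.ofNat 0],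
  [Int.ofNat 0, Int.ofNat 2, Int.ofNat 2, Int.ofNat 0, Int.negSucc 1, Int.ofNat 0, Int.ofNat 0, Int.ofNat 0, Int.ofNat 0, Int.ofNat 0, Int.ofNat 2, Int.ofNat 2, Int.ofNat 0, Int.ofNat 0, Int.ofNat 0, Int.ofNat 0, Int.ofNat 0, Int.ofNat 0, Int.ofNat 2, Int.ofNat 0, Int.negSucc 1, Int.ofNat 0, Int.ofNat 2, Int.ofNat 0],
  [Int.ofNat 0, Int.ofNat 2, Int.negSucc 1, Int.ofNat 0, Int.negSucc 1, Int.ofNat 0, Int.ofNat 0, Int.ofNat 0, Int.ofNat 0, Int.ofNat 0, Int.negSucc 1, Int.negSucc 1, Int.ofNat 0, Int.ofNat 0, Int.ofNat 0, Int.ofNat 0, Int.ofNat 0, Int.ofNat 0, Int.negSucc 1, Int.ofNat 0, Int.negSucc 1, Int.ofNat 0, Int.ofNat 2, Int.ofNat 0],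
  [Int.ofNat 0, Int.negSucc 1, Int.ofNat 2, Int.ofNat 0, Int.ofNat 2, Int.ofNat 0, Int.ofNat 0, Int.ofNat 0, Int.ofNat 0, Int.ofNat 0, Int.negSucc 1, Int.negSucc 1, Int.ofNat 0, Int.ofNat 0, Int.ofNat 0, Int.ofNat 0, Int.ofNat 0, Int.ofNat 0, Int.ofNat 2, Int.ofNat 0, Int.negSucc 1, Int.ofNat 0, Int.ofNat 2, Int.ofNat 0],
  [Int.ofNat 0, Int.ofNat 2, Int.negSucc 1, Int.ofNat 0, Int.ofNat 0, Int.ofNat 0, Int.ofNat 0, Int.ofNat 0, Int.negSucc 1, Int.ofNat 0, Int.ofNat 0, Int.ofNat 2, Int.ofNat 0, Int.ofNat 0, Int.ofNat 2, Int.ofNat 0, Int.negSucc 1, Int.ofNat 2, Int.ofNat 0, Int.ofNat 0, Int.ofNat 0, Int.ofNat 0, Int.negSucc 1, Int.ofNat 0],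
  [Int.ofNat 0, Int.ofNat 2, Int.ofNat 2, Int.ofNat 0, Int.ofNat 0, Int.ofNat 0, Int.ofNat 0, Int.ofNat 0, Int.negSucc 1, Int.ofNat 0, Int.ofNat 0, Int.negSucc 1, Int.ofNat 0, Int.ofNat 0, Int.ofNat 2, Int.ofNat 0, Int.negSucc 1, Int.ofNat 2, Int.ofNat 0, Int.ofNat 0, Int.ofNat 0, Int.ofNat 0, Int.negSucc 1, Int.ofNat 0],
  [Int.negSucc 1, Int.ofNat 0, Int.ofNat 2, Int.ofNat 2, Int.ofNat 0, Int.ofNat 0, Int.ofNat 0, Int.ofNat 0, Int.ofNat 0, Int.negSucc 1, Int.ofNat 0, Int.ofNat 0, Int.negSucc 1, Int.ofNat 0, Int.ofNat 0, Int.ofNat 2, Int.ofNat 0, Int.negSucc 1, Int.ofNat 2, Int.ofNat 0, Int.ofNat 0, Int.ofNat 0, Int.ofNat 0, Int.ofNat 0],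
  [Int.ofNat 2, Int.ofNat 0, Int.negSucc 1, Int.ofNat 2, Int.ofNat 0, Int.ofNat 0, Int.ofNat 0, Int.ofNat 0, Int.ofNat 0, Int.negSucc 1, Int.ofNat 0, Int.ofNat 0, Int.negSucc 1, Int.ofNat 0, Int.ofNat 0, Int.ofNat 2, Int.ofNat 0, Int.negSucc 1, Int.ofNat 2, Int.ofNat 0, Int.ofNat 0, Int.ofNat 0, Int.ofNat 0, Int.ofNat 0],
  [Int.ofNat 2, Int.ofNat 0, Int.ofNat 0, Int.ofNat 0, Int.ofNat 0, Int.ofNat 0, Int.negSucc 1, Int.ofNat 0, Int.ofNat 0, Int.negSucc 1, Int.ofNat 0, Int.ofNat 0, Int.ofNat 2, Int.ofNat 0, Int.negSucc 1, Int.ofNat 2, Int.ofNat 0, Int.ofNat 0, Int.ofNat 0, Int.ofNat 0, Int.ofNat 2, Int.ofNat 0, Int.negSucc 1, Int.ofNat 0],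
  [Int.negSucc 0, Int.ofNat 1, Int.ofNat 1, Int.ofNat 1, Int.ofNat 1, Int.ofNat 1, Int.negSucc 0, Int.ofNat 1, Int.negSucc 0, Int.negSucc 2, Int.negSucc 0, Int.negSucc 0, Int.ofNat 1, Int.ofNat 1, Int.negSucc 0, Int.ofNat 1, Int.ofNat 1, Int.ofNat 1, Int.negSucc 0, Int.ofNat 1, Int.ofNat 1, Int.ofNat 1, Int.negSucc 0, Int.ofNat 1],
  [Int.negSucc 0, Int.negSucc 0, Int.ofNat 1, Int.ofNat 1, Int.negSucc 0, Int.ofNat 1, Int.ofNat 1, Int.negSucc 0, Int.ofNat 1, Int.ofNat 1, Int.ofNat 1, Int.ofNat 1, Int.negSucc 2, Int.ofNat 1, Int.negSucc 0, Int.ofNat 1, Int.negSucc 0, Int.negSucc 0, Int.ofNat 1, Int.negSucc 0, Int.ofNat 1, Int.ofNat 1, Int.ofNat 1, Int.ofNat 1],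
  [Int.ofNat 1, Int.ofNat 1, Int.negSucc 0, Int.ofNat 1, Int.negSucc 0, Int.ofNat 1, Int.ofNat 1, Int.negSucc 0, Int.ofNat 1, Int.negSucc 0, Int.negSucc 0, Int.ofNat 1, Int.negSucc 2, Int.ofNat 1, Int.negSucc 0, Int.negSucc 0, Int.negSucc 0, Int.negSucc 0, Int.ofNat 1, Int.negSucc 0, Int.negSucc 0, Int.ofNat 1, Int.ofNat 1, Int.negSucc 0],
  [Int.ofNat 1, Int.ofNat 1, Int.ofNat 1, Int.ofNat 1, Int.negSucc 0, Int.negSucc 0, Int.negSucc 0, Int.negSucc 0, Int.ofNat 1, Int.ofNat 1, Int.ofNat 1, Int.ofNat 1, Int.negSucc 2, Int.ofNat 1, Int.negSucc 0, Int.ofNat 1, Int.negSucc 0, Int.negSucc 0, Int.negSucc 0, Int.negSucc 0, Int.negSucc 0, Int.ofNat 1, Int.negSucc 0, Int.negSucc 0],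
  [Int.negSucc 0, Int.negSucc 0, Int.negSucc 0, Int.negSucc 0, Int.ofNat 1, Int.ofNat 1, Int.negSucc 0, Int.negSucc 0, Int.ofNat 1, Int.ofNat 1, Int.negSucc 2, Int.ofNat 1, Int.negSucc 0, Int.negSucc 0, Int.ofNat 1, Int.ofNat 1, Int.ofNat 1, Int.negSucc 0, Int.negSucc 0, Int.ofNat 1, Int.ofNat 1, Int.ofNat 1, Int.negSucc 0, Int.negSucc 0],
  [Int.negSucc 0, Int.negSucc 0, Int.ofNat 1, Int.negSucc 0, Int.ofNat 1, Int.negSucc 0, Int.ofNat 1, Int.negSucc 0, Int.ofNat 1, Int.negSucc 0, Int.ofNat 3, Int.ofNat 1, Int.negSucc 0, Int.negSucc 0, Int.ofNat 1, Int.negSucc 0, Int.ofNat 1, Int.negSucc 0, Int.ofNat 1, Int.ofNat 1, Int.ofNat 1, Int.ofNat 1, Int.ofNat 1, Int.negSucc 0],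
  [Int.ofNat 0, Int.ofNat 0, Int.negSucc 1, Int.ofNat 0, Int.ofNat 0, Int.ofNat 0, Int.ofNat 0, Int.negSucc 1, Int.ofNat 0, Int.negSucc 1, Int.ofNat 2, Int.ofNat 0, Int.negSucc 1, Int.negSucc 1, Int.ofNat 2, Int.negSucc 1, Int.ofNat 0, Int.ofNat 0, Int.ofNat 0, Int.ofNat 0, Int.ofNat 0, Int.ofNat 0, Int.ofNat 0, Int.ofNat 0],
  [Int.ofNat 0, Int.ofNat 0, Int.ofNat 0, Int.ofNat 0, Int.negSucc 1, Int.ofNat 0, Int.ofNat 0, Int.ofNat 0, Int.ofNat 0, Int.negSucc 1, Int.negSucc 1, Int.ofNat 0, Int.ofNat 0, Int.negSucc 1, Int.ofNat 0, Int.negSucc 1, Int.negSucc 1, Int.ofNat 0, Int.ofNat 0, Int.ofNat 0, Int.ofNat 2, Int.ofNat 0, Int.ofNat 2, Int.ofNat 0],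
  [Int.ofNat 0, Int.ofNat 0, Int.ofNat 0, Int.ofNat 0, Int.ofNat 0, Int.ofNat 0, Int.ofNat 0, Int.ofNat 0, Int.ofNat 0, Int.ofNat 0, Int.ofNat 0, Int.ofNat 0, Int.ofNat 0, Int.ofNat 0, Int.ofNat 0, Int.ofNat 0, Int.ofNat 0, Int.ofNat 0, Int.ofNat 0, Int.ofNat 0, Int.ofNat 4, Int.ofNat 0, Int.ofNat 4, Int.ofNat 0],
  [Int.ofNat 4, Int.ofNat 0, Int.ofNat 4, Int.ofNat 0, Int.ofNat 0, Int.ofNat 0, Int.ofNat 0, Int.ofNat 0, Int.ofNat 0, Int.ofNat 0, Int.ofNat 0, Int.ofNat 0, Int.ofNat 0, Int.ofNat 0, Int.ofNat 0, Int.ofNat 0, Int.ofNat 0, Int.ofNat 0, Int.ofNat 0, Int.ofNat 0, Int.ofNat 0, Int.ofNat 0, Int.ofNat 0, Int.ofNat 0],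
  [Int.ofNat 0, Int.ofNat 4, Int.ofNat 0, Int.ofNat 0, Int.ofNat 0, Int.ofNat 0, Int.ofNat 0, Int.ofNat 0, Int.ofNat 0, Int.ofNat 0, Int.ofNat 0, Int.ofNat 0, Int.ofNat 0, Int.ofNat 0, Int.ofNat 0, Int.ofNat 0, Int.ofNat 0, Int.ofNat 0, Int.ofNat 0, Int.ofNat 0, Int.ofNat 0, Int.ofNat 0, Int.ofNat 0, Int.ofNat 4],
  [Int.ofNat 4, Int.ofNat 0, Int.ofNat 0, Int.ofNat 0, Int.ofNat 0, Int.ofNat 0, Int.ofNat 0, Int.ofNat 0, Int.ofNat 0, Int.ofNat 0, Int.ofNat 0, Int.ofNat 0, Int.ofNat 0, Int.ofNat 0, Int.ofNat 0, Int.ofNat 0, Int.ofNat 0, Int.ofNat 0, Int.ofNat 0, Int.ofNat 0, Int.ofNat 0, Int.ofNat 0, Int.ofNat 0, Int.ofNat 4],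
  [Int.negSucc 3, Int.ofNat 0, Int.ofNat 0, Int.ofNat 0, Int.ofNat 0, Int.ofNat 0, Int.ofNat 0, Int.ofNat 0, Int.ofNat 0, Int.ofNat 0, Int.ofNat 0, Int.ofNat 0, Int.ofNat 0, Int.ofNat 0, Int.ofNat 0, Int.ofNat 0, Int.ofNat 0, Int.ofNat 0, Int.ofNat 0, Int.ofNat 0, Int.ofNat 0, Int.ofNat 0, Int.ofNat 0, Int.ofNat 4],
  [Int.ofNat 4, Int.ofNat 0, Int.ofNat 0, Int.ofNat 0, Int.ofNat 0, Int.ofNat 0, Int.ofNat 0, Int.ofNat 0, Int.ofNat 0, Int.ofNat 0, Int.ofNat 0, Int.ofNat 0, Int.ofNat 0, Int.ofNat 0, Int.ofNat 0, Int.ofNat 0, Int.ofNat 0, Int.ofNat 0, Int.ofNat 0, Int.ofNat 0, Int.ofNat 0, Int.ofNat 0, Int.ofNat 0, Int.ofNat 4],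
  [Int.ofNat 4, Int.ofNat 0, Int.ofNat 0, Int.ofNat 0, Int.ofNat 0, Int.ofNat 0, Int.ofNat 0, Int.ofNat 0, Int.ofNat 0, Int.ofNat 0, Int.ofNat 0, Int.ofNat 0, Int.ofNat 0, Int.ofNat 0, Int.ofNat 0, Int.ofNat 0, Int.ofNat 0, Int.ofNat 0, Int.ofNat 0, Int.ofNat 0, Int.ofNat 0, Int.ofNat 0, Int.ofNat 0, Int.ofNat 4],
  [Int.negSucc 3, Int.ofNat 0, Int.ofNat 0, Int.ofNat 0, Int.ofNat 0, Int.ofNat 0, Int.ofNat 0, Int.ofNat 0, Int.ofNat 0, Int.ofNat 0, Int.ofNat 0, Int.ofNat 0, Int.ofNat 0, Int.ofNat 0, Int.ofNat 0, Int.ofNat 0, Int.ofNat 0, Int.ofNat 0, Int.ofNat 0, Int.ofNat 0, Int.ofNat 0, Int.ofNat 0, Int.ofNat 0, Int.ofNat 4],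
  [Int.ofNat 0, Int.negSucc 3, Int.ofNat 0, Int.ofNat 0, Int.ofNat 0, Int.ofNat 0, Int.ofNat 0, Int.ofNat 0, Int.ofNat 0, Int.ofNat 0, Int.ofNat 0, Int.ofNat 0, Int.ofNat 0, Int.ofNat 0, Int.ofNat 0, Int.ofNat 0, Int.ofNat 0, Int.ofNat 0, Int.ofNat 0, Int.ofNat 0, Int.ofNat 0, Int.ofNat 0, Int.ofNat 0, Int.ofNat 4],
  [Int.ofNat 0, Int.ofNat 4, Int.ofNat 0, Int.ofNat 0, Int.ofNat 0, Int.ofNat 0, Int.ofNat 0, Int.ofNat 0, Int.ofNat 0, Int.ofNat 0, Int.ofNat 0, Int.ofNat 0, Int.ofNat 0, Int.ofNat 0, Int.ofNat 0, Int.ofNat 0, Int.ofNat 0, Int.ofNat 0, Int.ofNat 0, Int.ofNat 0, Int.ofNat 0, Int.ofNat 0, Int.ofNat 0, Int.negSucc 3],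
  [Int.ofNat 0, Int.ofNat 0, Int.ofNat 0, Int.ofNat 0, Int.ofNat 0, Int.ofNat 0, Int.ofNat 0, Int.ofNat 0, Int.ofNat 0, Int.ofNat 0, Int.ofNat 0, Int.ofNat 0, Int.ofNat 0, Int.ofNat 0, Int.ofNat 0, Int.ofNat 0, Int.ofNat 0, Int.ofNat 0, Int.ofNat 0, Int.ofNat 0, Int.ofNat 0, Int.ofNat 4, Int.ofNat 0, Int.negSucc 3],
  [Int.negSucc 1, Int.negSucc 1, Int.negSucc 1, Int.ofNat 0, Int.ofNat 0, Int.ofNat 0, Int.negSucc 1, Int.negSucc 1, Int.ofNat 0, Int.ofNat 0, Int.ofNat 0, Int.ofNat 0, Int.ofNat 0, Int.ofNat 0, Int.ofNat 0, Int.ofNat 0, Int.ofNat 0, Int.ofNat 0, Int.ofNat 0, Int.negSucc 1, Int.ofNat 0, Int.ofNat 2, Int.ofNat 0, Int.ofNat 2],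
  [Int.negSucc 1, Int.negSucc 1, Int.ofNat 0, Int.ofNat 0, Int.ofNat 0, Int.negSucc 1, Int.negSucc 1, Int.ofNat 0, Int.ofNat 0, Int.ofNat 0, Int.ofNat 0, Int.ofNat 0, Int.ofNat 0, Int.ofNat 0, Int.ofNat 0, Int.ofNat 0, Int.ofNat 0, Int.ofNat 0, Int.negSucc 1, Int.ofNat 0, Int.ofNat 2, Int.ofNat 0, Int.negSucc 1, Int.ofNat 2],
  [Int.ofNat 1, Int.ofNat 1, Int.negSucc 0, Int.ofNat 1, Int.ofNat 1, Int.negSucc 0, Int.negSucc 0, Int.ofNat 1, Int.ofNat 1, Int.negSucc 0, Int.negSucc 0, Int.ofNat 1, Int.ofNat 1, Int.ofNat 1, Int.ofNat 1, Int.negSucc 0, Int.ofNat 1, Int.ofNat 1, Int.negSucc 0, Int.ofNat 1, Int.ofNat 1, Int.ofNat 1, Int.negSucc 0, Int.negSucc 2],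
  [Int.ofNat 1, Int.ofNat 1, Int.ofNat 1, Int.ofNat 1, Int.ofNat 1, Int.ofNat 1, Int.ofNat 1, Int.ofNat 1, Int.ofNat 1, Int.ofNat 1, Int.ofNat 1, Int.ofNat 1, Int.ofNat 1, Int.ofNat 1, Int.ofNat 1, Int.ofNat 1, Int.ofNat 1, Int.ofNat 1, Int.ofNat 1, Int.ofNat 1, Int.ofNat 1, Int.ofNat 1, Int.ofNat 1, Int.negSucc 2],
  [Int.ofNat 1, Int.ofNat 1, Int.ofNat 1, Int.ofNat 1, Int.ofNat 1, Int.ofNat 1, Int.ofNat 1, Int.ofNat 1, Int.ofNat 1, Int.ofNat 1, Int.ofNat 1, Int.ofNat 1, Int.ofNat 1, Int.ofNat 1, Int.ofNat 1, Int.ofNat 1, Int.ofNat 1, Int.ofNat 1, Int.ofNat 1, Int.ofNat 1, Int.ofNat 1, Int.ofNat 1, Int.ofNat 1, Int.negSucc 2],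
  [Int.ofNat 1, Int.ofNat 1, Int.negSucc 0, Int.ofNat 1, Int.ofNat 1, Int.negSucc 0, Int.negSucc 0, Int.ofNat 1, Int.ofNat 1, Int.negSucc 0, Int.negSucc 0, Int.ofNat 1, Int.ofNat 1, Int.ofNat 1, Int.ofNat 1, Int.negSucc 0, Int.ofNat 1, Int.ofNat 1, Int.negSucc 0, Int.ofNat 1, Int.ofNat 1, Int.ofNat 1, Int.negSucc 0, Int.negSucc 2],
  [Int.negSucc 1, Int.negSucc 1, Int.ofNat 0, Int.ofNat 0, Int.ofNat 0, Int.negSucc 1, Int.negSucc 1, Int.ofNat 0, Int.ofNat 0, Int.ofNat 0, Int.ofNat 0, Int.ofNat 0, Int.ofNat 0, Int.ofNat 0, Int.ofNat 0, Int.ofNat 0, Int.ofNat 0, Int.ofNat 0, Int.negSucc 1, Int.ofNat 0, Int.ofNat 2, Int.ofNat 0, Int.negSucc 1, Int.ofNat 2],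
  [Int.negSucc 1, Int.negSucc 1, Int.negSucc 1, Int.ofNat 0, Int.ofNat 0, Int.ofNat 0, Int.negSucc 1, Int.negSucc 1, Int.ofNat 0, Int.ofNat 0, Int.ofNat 0, Int.ofNat 0, Int.ofNat 0, Int.ofNat 0, Int.ofNat 0, Int.ofNat 0, Int.ofNat 0, Int.ofNat 0, Int.ofNat 0, Int.negSucc 1, Int.ofNat 0, Int.ofNat 2, Int.ofNat 0, Int.ofNat 2],
  [Int.ofNat 0, Int.ofNat 0, Int.ofNat 0, Int.ofNat 0, Int.ofNat 0, Int.ofNat 0, Int.ofNat 0, Int.ofNat 0, Int.ofNat 0, Int.ofNat 0, Int.ofNat 0, Int.ofNat 0, Int.ofNat 0, Int.ofNat 0, Int.ofNat 0, Int.ofNat 0, Int.ofNat 0, Int.ofNat 0, Int.ofNat 0, Int.ofNat 0, Int.ofNat 0, Int.ofNat 4, Int.ofNat 0, Int.negSucc 3],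
  [Int.ofNat 0, Int.ofNat 4, Int.ofNat 0, Int.ofNat 0, Int.ofNat 0, Int.ofNat 0, Int.ofNat 0, Int.ofNat 0, Int.ofNat 0, Int.ofNat 0, Int.ofNat 0, Int.ofNat 0, Int.ofNat 0, Int.ofNat 0, Int.ofNat 0, Int.ofNat 0, Int.ofNat 0, Int.ofNat 0, Int.ofNat 0, Int.ofNat 0, Int.ofNat 0, Int.ofNat 0, Int.ofNat 0, Int.negSucc 3],
  [Int.ofNat 0, Int.negSucc 3, Int.ofNat 0, Int.ofNat 0, Int.ofNat 0, Int.ofNat 0, Int.ofNat 0, Int.ofNat 0, Int.ofNat 0, Int.ofNat 0, Int.ofNat 0, Int.ofNat 0, Int.ofNat 0, Int.ofNat 0, Int.ofNat 0, Int.ofNat 0, Int.ofNat 0, Int.ofNat 0, Int.ofNat 0, Int.ofNat 0, Int.ofNat 0, Int.ofNat 0, Int.ofNat 0, Int.ofNat 4],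
  [Int.negSucc 3, Int.ofNat 0, Int.ofNat 0, Int.ofNat 0, Int.ofNat 0, Int.ofNat 0, Int.ofNat 0, Int.ofNat 0, Int.ofNat 0, Int.ofNat 0, Int.ofNat 0, Int.ofNat 0, Int.ofNat 0, Int.ofNat 0, Int.ofNat 0, Int.ofNat 0, Int.ofNat 0, Int.ofNat 0, Int.ofNat 0, Int.ofNat 0, Int.ofNat 0, Int.ofNat 0, Int.ofNat 0, Int.ofNat 4],
  [Int.ofNat 4, Int.ofNat 0, Int.ofNat 0, Int.ofNat 0, Int.ofNat 0, Int.ofNat 0, Int.ofNat 0, Int.ofNat 0, Int.ofNat 0, Int.ofNat 0, Int.ofNat 0, Int.ofNat 0, Int.ofNat 0, Int.ofNat 0, Int.ofNat 0, Int.ofNat 0, Int.ofNat 0, Int.ofNat 0, Int.ofNat 0, Int.ofNat 0, Int.ofNat 0, Int.ofNat 0, Int.ofNat 0, Int.ofNat 4],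
  [Int.negSucc 3, Int.ofNat 0, Int.ofNat 0, Int.ofNat 0, Int.ofNat 0, Int.ofNat 0, Int.ofNat 0, Int.ofNat 0, Int.ofNat 0, Int.ofNat 0, Int.ofNat 0, Int.ofNat 0, Int.ofNat 0, Int.ofNat 0, Int.ofNat 0, Int.ofNat 0, Int.ofNat 0, Int.ofNat 0, Int.ofNat 0, Int.ofNat 0, Int.ofNat 0, Int.ofNat 0, Int.ofNat 0, Int.ofNat 4],
  [Int.ofNat 4, Int.ofNat 0, Int.ofNat 0, Int.ofNat 0, Int.ofNat 0, Int.ofNat 0, Int.ofNat 0, Int.ofNat 0, Int.ofNat 0, Int.ofNat 0, Int.ofNat 0, Int.ofNat 0, Int.ofNat 0, Int.ofNat 0, Int.ofNat 0, Int.ofNat 0, Int.ofNat 0, Int.ofNat 0, Int.ofNat 0, Int.ofNat 0, Int.ofNat 0, Int.ofNat 0, Int.ofNat 0, Int.negSucc 3],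
  [Int.negSucc 3, Int.ofNat 0, Int.ofNat 0, Int.ofNat 0, Int.ofNat 0, Int.ofNat 0, Int.ofNat 0, Int.ofNat 0, Int.ofNat 0, Int.ofNat 0, Int.ofNat 0, Int.ofNat 0, Int.ofNat 0, Int.ofNat 0, Int.ofNat 0, Int.ofNat 0, Int.ofNat 0, Int.ofNat 0, Int.ofNat 0, Int.ofNat 0, Int.ofNat 0, Int.ofNat 0, Int.ofNat 0, Int.negSucc 3],
  [Int.ofNat 0, Int.negSucc 3, Int.ofNat 0, Int.ofNat 0, Int.ofNat 0, Int.ofNat 0, Int.ofNat 0, Int.ofNat 0, Int.ofNat 0, Int.ofNat 0, Int.ofNat 0, Int.ofNat 0, Int.ofNat 0, Int.ofNat 0, Int.ofNat 0, Int.ofNat 0, Int.ofNat 0, Int.ofNat 0, Int.ofNat 0, Int.ofNat 0, Int.ofNat 0, Int.ofNat 0, Int.ofNat 0, Int.negSucc 3],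
  [Int.negSucc 3, Int.ofNat 0, Int.negSucc 3, Int.ofNat 0, Int.ofNat 0, Int.ofNat 0, Int.ofNat 0, Int.ofNat 0, Int.ofNat 0, Int.ofNat 0, Int.ofNat 0, Int.ofNat 0, Int.ofNat 0, Int.ofNat 0, Int.ofNat 0, Int.ofNat 0, Int.ofNat 0, Int.ofNat 0, Int.ofNat 0, Int.ofNat 0, Int.ofNat 0, Int.ofNat 0, Int.ofNat 0, Int.ofNat 0],
  [Int.ofNat 0, Int.ofNat 0, Int.ofNat 0, Int.ofNat 0, Int.ofNat 0, Int.ofNat 0, Int.ofNat 0, Int.ofNat 0, Int.ofNat 0, Int.ofNat 0, Int.ofNat 0, Int.ofNat 0, Int.ofNat 0, Int.ofNat 0, Int.ofNat 0, Int.ofNat 0, Int.ofNat 0, Int.ofNat 0, Int.ofNat 0, Int.ofNat 0, Int.negSucc 3, Int.ofNat 0, Int.negSucc 3, Int.ofNat 0],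
  [Int.ofNat 0, Int.ofNat 0, Int.ofNat 0, Int.ofNat 0, Int.ofNat 2, Int.ofNat 0, Int.ofNat 0, Int.ofNat 0, Int.ofNat 0, Int.ofNat 2, Int.ofNat 2, Int.ofNat 0, Int.ofNat 0, Int.ofNat 2, Int.ofNat 0, Int.ofNat 2, Int.ofNat 2, Int.ofNat 0, Int.ofNat 0, Int.ofNat 0, Int.negSucc 1, Int.ofNat 0, Int.negSucc 1, Int.ofNat 0],
  [Int.ofNat 0, Int.ofNat 0, Int.ofNat 2, Int.ofNat 0, Int.ofNat 0, Int.ofNat 0, Int.ofNat 0, Int.ofNat 2, Int.ofNat 0, Int.ofNat 2, Int.negSucc 1, Int.ofNat 0, Int.ofNat 2, Int.ofNat 2, Int.negSucc 1, Int.ofNat 2, Int.ofNat 0, Int.ofNat 0, Int.ofNat 0, Int.ofNat 0, Int.ofNat 0, Int.ofNat 0, Int.ofNat 0, Int.ofNat 0],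
  [Int.ofNat 1, Int.ofNat 1, Int.negSucc 0, Int.ofNat 1, Int.negSucc 0, Int.ofNat 1, Int.negSucc 0, Int.ofNat 1, Int.negSucc 0, Int.ofNat 1, Int.negSucc 2, Int.negSucc 0, Int.ofNat 1, Int.ofNat 1, Int.negSucc 0, Int.ofNat 1, Int.negSucc 0, Int.ofNat 1, Int.negSucc 0, Int.negSucc 0, Int.negSucc 0, Int.negSucc 0, Int.negSucc 0, Int.ofNat 1],
  [Int.ofNat 1, Int.ofNat 1, Int.ofNat 1, Int.ofNat 1, Int.negSucc 0, Int.negSucc 0, Int.ofNat 1, Int.ofNat 1, Int.negSucc 0, Int.negSucc 0, Int.ofNat 3, Int.negSucc 0, Int.ofNat 1, Int.ofNat 1, Int.negSucc 0, Int.negSucc 0, Int.negSucc 0, Int.ofNat 1, Int.ofNat 1, Int.negSucc 0, Int.negSucc 0, Int.negSucc 0, Int.ofNat 1, Int.ofNat 1],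
  [Int.ofNat 1, Int.ofNat 1, Int.negSucc 0, Int.negSucc 0, Int.ofNat 1, Int.negSucc 0, Int.ofNat 1, Int.ofNat 1, Int.ofNat 1, Int.negSucc 0, Int.ofNat 1, Int.ofNat 1, Int.ofNat 1, Int.negSucc 0, Int.ofNat 1, Int.negSucc 0, Int.negSucc 0, Int.negSucc 0, Int.negSucc 0, Int.ofNat 1, Int.negSucc 0, Int.ofNat 3, Int.negSucc 0, Int.ofNat 1],
  [Int.ofNat 1, Int.ofNat 1, Int.ofNat 1, Int.negSucc 0, Int.ofNat 1, Int.ofNat 1, Int.negSucc 0, Int.ofNat 1, Int.ofNat 1, Int.ofNat 1, Int.negSucc 0, Int.ofNat 1, Int.ofNat 1, Int.negSucc 0, Int.ofNat 1, Int.ofNat 1, Int.negSucc 0, Int.negSucc 0, Int.ofNat 1, Int.ofNat 1, Int.negSucc 0, Int.ofNat 3, Int.ofNat 1, Int.ofNat 1],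
  [Int.ofNat 1, Int.ofNat 1, Int.ofNat 1, Int.negSucc 0, Int.ofNat 1, Int.ofNat 1, Int.negSucc 2, Int.negSucc 0, Int.negSucc 0, Int.ofNat 1, Int.negSucc 0, Int.negSucc 0, Int.negSucc 0, Int.negSucc 0, Int.ofNat 1, Int.ofNat 1, Int.negSucc 0, Int.negSucc 0, Int.negSucc 0, Int.negSucc 0, Int.negSucc 0, Int.ofNat 1, Int.ofNat 1, Int.ofNat 1],
  [Int.ofNat 1, Int.negSucc 0, Int.negSucc 2, Int.negSucc 0, Int.ofNat 1, Int.ofNat 1, Int.ofNat 1, Int.ofNat 1, Int.negSucc 0, Int.negSucc 0, Int.negSucc 0, Int.negSucc 0, Int.negSucc 0, Int.ofNat 1, Int.negSucc 0, Int.ofNat 1, Int.negSucc 0, Int.negSucc 0, Int.ofNat 1, Int.ofNat 1, Int.negSucc 0, Int.negSucc 0, Int.ofNat 1, Int.ofNat 1],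
  [Int.negSucc 1, Int.ofNat 0, Int.ofNat 2, Int.ofNat 0, Int.ofNat 0, Int.ofNat 2, Int.ofNat 0, Int.ofNat 0, Int.ofNat 0, Int.ofNat 0, Int.ofNat 0, Int.ofNat 0, Int.ofNat 0, Int.ofNat 0, Int.ofNat 0, Int.ofNat 2, Int.negSucc 1, Int.ofNat 0, Int.ofNat 2, Int.ofNat 0, Int.ofNat 0, Int.negSucc 1, Int.ofNat 0, Int.negSucc 1],
  [Int.ofNat 0, Int.negSucc 1, Int.ofNat 0, Int.negSucc 1, Int.ofNat 0, Int.ofNat 2, Int.ofNat 0, Int.ofNat 0, Int.ofNat 2, Int.ofNat 0, Int.ofNat 0, Int.ofNat 0, Int.ofNat 0, Int.ofNat 0, Int.ofNat 0, Int.ofNat 0, Int.ofNat 0, Int.ofNat 0, Int.ofNat 2, Int.negSucc 1, Int.ofNat 0, Int.ofNat 2, Int.ofNat 0, Int.negSucc 1],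
  [Int.negSucc 1, Int.ofNat 0, Int.negSucc 1, Int.negSucc 1, Int.ofNat 0, Int.ofNat 2, Int.ofNat 0, Int.ofNat 0, Int.ofNat 0, Int.ofNat 0, Int.ofNat 0, Int.negSucc 1, Int.negSucc 1, Int.ofNat 0, Int.ofNat 0, Int.ofNat 0, Int.ofNat 0, Int.ofNat 0, Int.ofNat 0, Int.negSucc 1, Int.ofNat 0, Int.ofNat 2, Int.ofNat 0, Int.ofNat 0],
  [Int.ofNat 0, Int.negSucc 1, Int.negSucc 1, Int.ofNat 0, Int.ofNat 2, Int.ofNat 0, Int.ofNat 0, Int.ofNat 0, Int.ofNat 0, Int.ofNat 0, Int.negSucc 1, Int.negSucc 1, Int.ofNat 0, Int.ofNat 0, Int.ofNat 0, Int.ofNat 0, Int.ofNat 0, Int.ofNat 0, Int.negSucc 1, Int.ofNat 0, Int.ofNat 2, Int.ofNat 0, Int.negSucc 1, Int.ofNat 0],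
  [Int.ofNat 0, Int.negSucc 1, Int.ofNat 2, Int.ofNat 0, Int.ofNat 2, Int.ofNat 0, Int.ofNat 0, Int.ofNat 0, Int.ofNat 0, Int.ofNat 0, Int.ofNat 2, Int.ofNat 2, Int.ofNat 0, Int.ofNat 0, Int.ofNat 0, Int.ofNat 0, Int.ofNat 0, Int.ofNat 0, Int.ofNat 2, Int.ofNat 0, Int.ofNat 2, Int.ofNat 0, Int.negSucc 1, Int.ofNat 0]]

set_option maxRecDepth 100000 in
theorem c1e12_chk : pmChk (List.replicate 14 [12, 0, 25]).flatten nxL c1e12M 0 0 = true := by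
  decide +kernel

theorem c1e12_ne : wE letE2 (List.replicate 14 [12, 0, 25]).flatten ≠ 1 ∧ wE letE2 (List.replicate 14 [12, 0, 25]).flatten ≠ negElt :=
  ne_pm_of_chk nxL_mem c1e12_chk

set_option maxRecDepth 100000 in
def c1e13M : List (List ℤ) :=
  [[Int.ofNat 4, Int.ofNat 0, Int.ofNat 0, Int.ofNat 0, Int.ofNat 0, Int.ofNat 0, Int.ofNat 0, Int.ofNat 0, Int.ofNat 0, Int.ofNat 0, Int.ofNat 0, Int.ofNat 0, Int.ofNat 0, Int.ofNat 0, Int.ofNat 0, Int.ofNat 0, Int.ofNat 0, Int.ofNat 0, Int.ofNat 0, Int.ofNat 0, Int.ofNat 0, Int.ofNat 0, Int.ofNat 0, Int.ofNat 4],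
  [Int.ofNat 4, Int.ofNat 0, Int.ofNat 0, Int.ofNat 0, Int.ofNat 0, Int.ofNat 0, Int.ofNat 0, Int.ofNat 0, Int.ofNat 0, Int.ofNat 0, Int.ofNat 0, Int.ofNat 0, Int.ofNat 0, Int.ofNat 0, Int.ofNat 0, Int.ofNat 0, Int.ofNat 0, Int.ofNat 0, Int.ofNat 0, Int.ofNat 0, Int.ofNat 0, Int.ofNat 0, Int.ofNat 0, Int.ofNat 4],
  [Int.negSucc 3, Int.ofNat 0, Int.ofNat 0, Int.ofNat 0, Int.ofNat 0, Int.ofNat 0, Int.ofNat 0, Int.ofNat 0, Int.ofNat 0, Int.ofNat 0, Int.ofNat 0, Int.ofNat 0, Int.ofNat 0, Int.ofNat 0, Int.ofNat 0, Int.ofNat 0, Int.ofNat 0, Int.ofNat 0, Int.ofNat 0, Int.ofNat 0, Int.ofNat 0, Int.ofNat 0, Int.ofNat 0, Int.ofNat 4],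
  [Int.ofNat 0, Int.negSucc 3, Int.ofNat 0, Int.ofNat 0, Int.ofNat 0, Int.ofNat 0, Int.ofNat 0, Int.ofNat 0, Int.ofNat 0, Int.ofNat 0, Int.ofNat 0, Int.ofNat 0, Int.ofNat 0, Int.ofNat 0, Int.ofNat 0, Int.ofNat 0, Int.ofNat 0, Int.ofNat 0, Int.ofNat 0, Int.ofNat 0, Int.ofNat 0, Int.ofNat 0, Int.ofNat 0, Int.ofNat 4],
  [Int.ofNat 0, Int.ofNat 4, Int.ofNat 0, Int.ofNat 0, Int.ofNat 0, Int.ofNat 0, Int.ofNat 0, Int.ofNat 0, Int.ofNat 0, Int.ofNat 0, Int.ofNat 0, Int.ofNat 0, Int.ofNat 0, Int.ofNat 0, Int.ofNat 0, Int.ofNat 0, Int.ofNat 0, Int.ofNat 0, Int.ofNat 0, Int.ofNat 0, Int.ofNat 0, Int.ofNat 0, Int.ofNat 0, Int.negSucc 3],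
  [Int.ofNat 0, Int.ofNat 0, Int.ofNat 0, Int.ofNat 0, Int.ofNat 0, Int.ofNat 0, Int.ofNat 0, Int.ofNat 0, Int.ofNat 0, Int.ofNat 0, Int.ofNat 0, Int.ofNat 0, Int.ofNat 0, Int.ofNat 0, Int.ofNat 0, Int.ofNat 0, Int.ofNat 0, Int.ofNat 0, Int.ofNat 0, Int.ofNat 0, Int.ofNat 0, Int.ofNat 4, Int.ofNat 0, Int.negSucc 3],
  [Int.negSucc 1, Int.negSucc 1, Int.negSucc 1, Int.ofNat 0, Int.ofNat 0, Int.ofNat 0, Int.negSucc 1, Int.negSucc 1, Int.ofNat 0, Int.ofNat 0, Int.ofNat 0, Int.ofNat 0, Int.ofNat 0, Int.ofNat 0, Int.ofNat 0, Int.ofNat 0, Int.ofNat 0, Int.ofNat 0, Int.ofNat 0, Int.negSucc 1, Int.ofNat 0, Int.ofNat 2, Int.ofNat 0, Int.ofNat 2],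
  [Int.negSucc 1, Int.negSucc 1, Int.ofNat 0, Int.ofNat 0, Int.ofNat 0, Int.negSucc 1, Int.negSucc 1, Int.ofNat 0, Int.ofNat 0, Int.ofNat 0, Int.ofNat 0, Int.ofNat 0, Int.ofNat 0, Int.ofNat 0, Int.ofNat 0, Int.ofNat 0, Int.ofNat 0, Int.ofNat 0, Int.negSucc 1, Int.ofNat 0, Int.ofNat 2, Int.ofNat 0, Int.negSucc 1, Int.ofNat 2],
  [Int.ofNat 1, Int.ofNat 1, Int.negSucc 0, Int.ofNat 1, Int.ofNat 1, Int.negSucc 0, Int.negSucc 0, Int.ofNat 1, Int.ofNat 1, Int.negSucc 0, Int.negSucc 0, Int.ofNat 1, Int.ofNat 1, Int.ofNat 1, Int.ofNat 1, Int.negSucc 0, Int.ofNat 1, Int.ofNat 1, Int.negSucc 0, Int.ofNat 1, Int.ofNat 1, Int.ofNat 1, Int.negSucc 0, Int.negSucc 2],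
  [Int.ofNat 1, Int.ofNat 1, Int.ofNat 1, Int.ofNat 1, Int.ofNat 1, Int.ofNat 1, Int.ofNat 1, Int.ofNat 1, Int.ofNat 1, Int.ofNat 1, Int.ofNat 1, Int.ofNat 1, Int.ofNat 1, Int.ofNat 1, Int.ofNat 1, Int.ofNat 1, Int.ofNat 1, Int.ofNat 1, Int.ofNat 1, Int.ofNat 1, Int.ofNat 1, Int.ofNat 1, Int.ofNat 1, Int.negSucc 2],
  [Int.ofNat 1, Int.ofNat 1, Int.ofNat 1, Int.ofNat 1, Int.ofNat 1, Int.ofNat 1, Int.ofNat 1, Int.ofNat 1, Int.ofNat 1, Int.ofNat 1, Int.ofNat 1, Int.ofNat 1, Int.ofNat 1, Int.ofNat 1, Int.ofNat 1, Int.ofNat 1, Int.ofNat 1, Int.ofNat 1, Int.ofNat 1, Int.ofNat 1, Int.ofNat 1, Int.ofNat 1, Int.ofNat 1, Int.negSucc 2],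
  [Int.ofNat 1, Int.ofNat 1, Int.negSucc 0, Int.ofNat 1, Int.ofNat 1, Int.negSucc 0, Int.negSucc 0, Int.ofNat 1, Int.ofNat 1, Int.negSucc 0, Int.negSucc 0, Int.ofNat 1, Int.ofNat 1, Int.ofNat 1, Int.ofNat 1, Int.negSucc 0, Int.ofNat 1, Int.ofNat 1, Int.negSucc 0, Int.ofNat 1, Int.ofNat 1, Int.ofNat 1, Int.negSucc 0, Int.negSucc 2],
  [Int.negSucc 1, Int.negSucc 1, Int.ofNat 0, Int.ofNat 0, Int.ofNat 0, Int.negSucc 1, Int.negSucc 1, Int.ofNat 0, Int.ofNat 0, Int.ofNat 0, Int.ofNat 0, Int.ofNat 0, Int.ofNat 0, Int.ofNat 0, Int.ofNat 0, Int.ofNat 0, Int.ofNat 0, Int.ofNat 0, Int.negSucc 1, Int.ofNat 0, Int.ofNat 2, Int.ofNat 0, Int.negSucc 1, Int.ofNat 2],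
  [Int.negSucc 1, Int.negSucc 1, Int.negSucc 1, Int.ofNat 0, Int.ofNat 0, Int.ofNat 0, Int.negSucc 1, Int.negSucc 1, Int.ofNat 0, Int.ofNat 0, Int.ofNat 0, Int.ofNat 0, Int.ofNat 0, Int.ofNat 0, Int.ofNat 0, Int.ofNat 0, Int.ofNat 0, Int.ofNat 0, Int.ofNat 0, Int.negSucc 1, Int.ofNat 0, Int.ofNat 2, Int.ofNat 0, Int.ofNat 2],
  [Int.ofNat 0, Int.ofNat 0, Int.ofNat 0, Int.ofNat 0, Int.ofNat 0, Int.ofNat 0, Int.ofNat 0, Int.ofNat 0, Int.ofNat 0, Int.ofNat 0, Int.ofNat 0, Int.ofNat 0, Int.ofNat 0, Int.ofNat 0, Int.ofNat 0, Int.ofNat 0, Int.ofNat 0, Int.ofNat 0, Int.ofNat 0, Int.ofNat 0, Int.ofNat 0, Int.ofNat 4, Int.ofNat 0, Int.negSucc 3],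
  [Int.ofNat 0, Int.ofNat 4, Int.ofNat 0, Int.ofNat 0, Int.ofNat 0, Int.ofNat 0, Int.ofNat 0, Int.ofNat 0, Int.ofNat 0, Int.ofNat 0, Int.ofNat 0, Int.ofNat 0, Int.ofNat 0, Int.ofNat 0, Int.ofNat 0, Int.ofNat 0, Int.ofNat 0, Int.ofNat 0, Int.ofNat 0, Int.ofNat 0, Int.ofNat 0, Int.ofNat 0, Int.ofNat 0, Int.negSucc 3],
  [Int.ofNat 0, Int.negSucc 3, Int.ofNat 0, Int.ofNat 0, Int.ofNat 0, Int.ofNat 0, Int.ofNat 0, Int.ofNat 0, Int.ofNat 0, Int.ofNat 0, Int.ofNat 0, Int.ofNat 0, Int.ofNat 0, Int.ofNat 0, Int.ofNat 0, Int.ofNat 0, Int.ofNat 0, Int.ofNat 0, Int.ofNat 0, Int.ofNat 0, Int.ofNat 0, Int.ofNat 0, Int.ofNat 0, Int.ofNat 4],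
  [Int.negSucc 3, Int.ofNat 0, Int.ofNat 0, Int.ofNat 0, Int.ofNat 0, Int.ofNat 0, Int.ofNat 0, Int.ofNat 0, Int.ofNat 0, Int.ofNat 0, Int.ofNat 0, Int.ofNat 0, Int.ofNat 0, Int.ofNat 0, Int.ofNat 0, Int.ofNat 0, Int.ofNat 0, Int.ofNat 0, Int.ofNat 0, Int.ofNat 0, Int.ofNat 0, Int.ofNat 0, Int.ofNat 0, Int.ofNat 4],
  [Int.ofNat 4, Int.ofNat 0, Int.ofNat 0, Int.ofNat 0, Int.ofNat 0, Int.ofNat 0, Int.ofNat 0, Int.ofNat 0, Int.ofNat 0, Int.ofNat 0, Int.ofNat 0, Int.ofNat 0, Int.ofNat 0, Int.ofNat 0, Int.ofNat 0, Int.ofNat 0, Int.ofNat 0, Int.ofNat 0, Int.ofNat 0, Int.ofNat 0, Int.ofNat 0, Int.ofNat 0, Int.ofNat 0, Int.ofNat 4],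
  [Int.negSucc 3, Int.ofNat 0, Int.ofNat 0, Int.ofNat 0, Int.ofNat 0, Int.ofNat 0, Int.ofNat 0, Int.ofNat 0, Int.ofNat 0, Int.ofNat 0, Int.ofNat 0, Int.ofNat 0, Int.ofNat 0, Int.ofNat 0, Int.ofNat 0, Int.ofNat 0, Int.ofNat 0, Int.ofNat 0, Int.ofNat 0, Int.ofNat 0, Int.ofNat 0, Int.ofNat 0, Int.ofNat 0, Int.ofNat 4],
  [Int.ofNat 4, Int.ofNat 0, Int.ofNat 0, Int.ofNat 0, Int.ofNat 0, Int.ofNat 0, Int.ofNat 0, Int.ofNat 0, Int.ofNat 0, Int.ofNat 0, Int.ofNat 0, Int.ofNat 0, Int.ofNat 0, Int.ofNat 0, Int.ofNat 0, Int.ofNat 0, Int.ofNat 0, Int.ofNat 0, Int.ofNat 0, Int.ofNat 0, Int.ofNat 0, Int.ofNat 0, Int.ofNat 0, Int.negSucc 3],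
  [Int.negSucc 3, Int.ofNat 0, Int.ofNat 0, Int.ofNat 0, Int.ofNat 0, Int.ofNat 0, Int.ofNat 0, Int.ofNat 0, Int.ofNat 0, Int.ofNat 0, Int.ofNat 0, Int.ofNat 0, Int.ofNat 0, Int.ofNat 0, Int.ofNat 0, Int.ofNat 0, Int.ofNat 0, Int.ofNat 0, Int.ofNat 0, Int.ofNat 0, Int.ofNat 0, Int.ofNat 0, Int.ofNat 0, Int.negSucc 3],
  [Int.ofNat 0, Int.negSucc 3, Int.ofNat 0, Int.ofNat 0, Int.ofNat 0, Int.ofNat 0, Int.ofNat 0, Int.ofNat 0, Int.ofNat 0, Int.ofNat 0, Int.ofNat 0, Int.ofNat 0, Int.ofNat 0, Int.ofNat 0, Int.ofNat 0, Int.ofNat 0, Int.ofNat 0, Int.ofNat 0, Int.ofNat 0, Int.ofNat 0, Int.ofNat 0, Int.ofNat 0, Int.ofNat 0, Int.negSucc 3],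
  [Int.negSucc 3, Int.ofNat 0, Int.negSucc 3, Int.ofNat 0, Int.ofNat 0, Int.ofNat 0, Int.ofNat 0, Int.ofNat 0, Int.ofNat 0, Int.ofNat 0, Int.ofNat 0, Int.ofNat 0, Int.ofNat 0, Int.ofNat 0, Int.ofNat 0, Int.ofNat 0, Int.ofNat 0, Int.ofNat 0, Int.ofNat 0, Int.ofNat 0, Int.ofNat 0, Int.ofNat 0, Int.ofNat 0, Int.ofNat 0],
  [Int.ofNat 0, Int.ofNat 0, Int.ofNat 0, Int.ofNat 0, Int.ofNat 0, Int.ofNat 0, Int.ofNat 0, Int.ofNat 0, Int.ofNat 0, Int.ofNat 0, Int.ofNat 0, Int.ofNat 0, Int.ofNat 0, Int.ofNat 0, Int.ofNat 0, Int.ofNat 0, Int.ofNat 0, Int.ofNat 0, Int.ofNat 0, Int.ofNat 0, Int.negSucc 3, Int.ofNat 0, Int.negSucc 3, Int.ofNat 0],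
  [Int.ofNat 0, Int.ofNat 0, Int.ofNat 0, Int.ofNat 0, Int.ofNat 2, Int.ofNat 0, Int.ofNat 0, Int.ofNat 0, Int.ofNat 0, Int.ofNat 2, Int.ofNat 2, Int.ofNat 0, Int.ofNat 0, Int.ofNat 2, Int.ofNat 0, Int.ofNat 2, Int.ofNat 2, Int.ofNat 0, Int.ofNat 0, Int.ofNat 0, Int.negSucc 1, Int.ofNat 0, Int.negSucc 1, Int.ofNat 0],
  [Int.ofNat 0, Int.ofNat 0, Int.ofNat 2, Int.ofNat 0, Int.ofNat 0, Int.ofNat 0, Int.ofNat 0, Int.ofNat 2, Int.ofNat 0, Int.ofNat 2, Int.negSucc 1, Int.ofNat 0, Int.ofNat 2, Int.ofNat 2, Int.negSucc 1, Int.ofNat 2, Int.ofNat 0, Int.ofNat 0, Int.ofNat 0, Int.ofNat 0, Int.ofNat 0, Int.ofNat 0, Int.ofNat 0, Int.ofNat 0],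
  [Int.ofNat 1, Int.ofNat 1, Int.negSucc 0, Int.ofNat 1, Int.negSucc 0, Int.ofNat 1, Int.negSucc 0, Int.ofNat 1, Int.negSucc 0, Int.ofNat 1, Int.negSucc 2, Int.negSucc 0, Int.ofNat 1, Int.ofNat 1, Int.negSucc 0, Int.ofNat 1, Int.negSucc 0, Int.ofNat 1, Int.negSucc 0, Int.negSucc 0, Int.negSucc 0, Int.negSucc 0, Int.negSucc 0, Int.ofNat 1],
  [Int.ofNat 1, Int.ofNat 1, Int.ofNat 1, Int.ofNat 1, Int.negSucc 0, Int.negSucc 0, Int.ofNat 1, Int.ofNat 1, Int.negSucc 0, Int.negSucc 0, Int.ofNat 3, Int.negSucc 0, Int.ofNat 1, Int.ofNat 1, Int.negSucc 0, Int.negSucc 0, Int.negSucc 0, Int.ofNat 1, Int.ofNat 1, Int.negSucc 0, Int.negSucc 0, Int.negSucc 0, Int.ofNat 1, Int.ofNat 1],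
  [Int.negSucc 0, Int.negSucc 0, Int.negSucc 0, Int.negSucc 0, Int.negSucc 0, Int.negSucc 0, Int.ofNat 1, Int.negSucc 0, Int.negSucc 0, Int.ofNat 3, Int.ofNat 1, Int.ofNat 1, Int.ofNat 1, Int.ofNat 1, Int.negSucc 0, Int.ofNat 1, Int.negSucc 0, Int.ofNat 1, Int.ofNat 1, Int.ofNat 1, Int.ofNat 1, Int.ofNat 1, Int.negSucc 0, Int.ofNat 1],
  [Int.negSucc 0, Int.negSucc 0, Int.ofNat 1, Int.negSucc 0, Int.negSucc 0, Int.ofNat 1, Int.negSucc 0, Int.negSucc 0, Int.negSucc 0, Int.negSucc 2, Int.negSucc 0, Int.ofNat 1, Int.ofNat 1, Int.ofNat 1, Int.negSucc 0, Int.negSucc 0, Int.negSucc 0, Int.ofNat 1, Int.negSucc 0, Int.ofNat 1, Int.ofNat 1, Int.ofNat 1, Int.ofNat 1, Int.ofNat 1],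
  [Int.ofNat 1, Int.ofNat 1, Int.negSucc 0, Int.negSucc 0, Int.negSucc 0, Int.ofNat 1, Int.negSucc 0, Int.negSucc 0, Int.negSucc 0, Int.negSucc 0, Int.ofNat 1, Int.ofNat 1, Int.ofNat 1, Int.ofNat 1, Int.negSucc 0, Int.ofNat 1, Int.negSucc 0, Int.ofNat 1, Int.negSucc 0, Int.ofNat 1, Int.ofNat 3, Int.ofNat 1, Int.ofNat 1, Int.negSucc 0],
  [Int.ofNat 1, Int.negSucc 0, Int.negSucc 0, Int.negSucc 0, Int.negSucc 0, Int.ofNat 1, Int.ofNat 1, Int.ofNat 1, Int.negSucc 0, Int.ofNat 1, Int.negSucc 0, Int.ofNat 1, Int.negSucc 0, Int.negSucc 0, Int.ofNat 1, Int.ofNat 1, Int.ofNat 1, Int.ofNat 1, Int.negSucc 0, Int.ofNat 1, Int.ofNat 1, Int.ofNat 3, Int.negSucc 0, Int.negSucc 0],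
  [Int.negSucc 1, Int.ofNat 0, Int.ofNat 0, Int.negSucc 1, Int.ofNat 0, Int.ofNat 0, Int.negSucc 1, Int.negSucc 1, Int.ofNat 0, Int.ofNat 0, Int.negSucc 1, Int.ofNat 2, Int.ofNat 0, Int.ofNat 0, Int.ofNat 0, Int.ofNat 0, Int.ofNat 2, Int.ofNat 0, Int.ofNat 0, Int.negSucc 1, Int.ofNat 0, Int.ofNat 0, Int.ofNat 0, Int.ofNat 0],
  [Int.ofNat 0, Int.ofNat 0, Int.ofNat 0, Int.negSucc 1, Int.ofNat 0, Int.ofNat 0, Int.negSucc 1, Int.ofNat 0, Int.ofNat 0, Int.negSucc 1, Int.negSucc 1, Int.ofNat 0, Int.ofNat 0, Int.negSucc 1, Int.ofNat 2, Int.ofNat 0, Int.ofNat 0, Int.ofNat 0, Int.ofNat 0, Int.ofNat 2, Int.ofNat 0, Int.ofNat 0, Int.negSucc 1, Int.ofNat 0],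
  [Int.ofNat 0, Int.ofNat 0, Int.ofNat 0, Int.negSucc 1, Int.ofNat 2, Int.ofNat 0, Int.negSucc 1, Int.ofNat 0, Int.ofNat 0, Int.ofNat 0, Int.ofNat 0, Int.ofNat 0, Int.ofNat 0, Int.ofNat 0, Int.ofNat 2, Int.ofNat 2, Int.ofNat 2, Int.ofNat 0, Int.ofNat 0, Int.ofNat 2, Int.ofNat 2, Int.ofNat 0, Int.ofNat 0, Int.ofNat 0],
  [Int.ofNat 0, Int.ofNat 0, Int.negSucc 1, Int.ofNat 2, Int.ofNat 0, Int.negSucc 1, Int.ofNat 0, Int.ofNat 0, Int.ofNat 0, Int.ofNat 0, Int.ofNat 0, Int.ofNat 0, Int.ofNat 0, Int.ofNat 2, Int.ofNat 2, Int.ofNat 2, Int.ofNat 0, Int.ofNat 0, Int.ofNat 2, Int.ofNat 2, Int.ofNat 0, Int.ofNat 0, Int.ofNat 0, Int.ofNat 0],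
  [Int.ofNat 0, Int.ofNat 0, Int.ofNat 2, Int.ofNat 2, Int.ofNat 0, Int.negSucc 1, Int.ofNat 0, Int.ofNat 0, Int.ofNat 0, Int.ofNat 0, Int.ofNat 0, Int.ofNat 0, Int.ofNat 0, Int.ofNat 2, Int.ofNat 2, Int.ofNat 2, Int.ofNat 0, Int.ofNat 0, Int.negSucc 1, Int.ofNat 2, Int.ofNat 0, Int.ofNat 0, Int.ofNat 0, Int.ofNat 0],
  [Int.ofNat 0, Int.ofNat 0, Int.negSucc 1, Int.negSucc 1, Int.ofNat 0, Int.negSucc 1, Int.ofNat 0, Int.ofNat 0, Int.ofNat 0, Int.ofNat 0, Int.ofNat 0, Int.ofNat 0, Int.ofNat 0, Int.negSucc 1, Int.ofNat 2, Int.ofNat 2, Int.ofNat 0, Int.ofNat 0, Int.ofNat 2, Int.ofNat 2, Int.ofNat 0, Int.ofNat 0, Int.ofNat 0, Int.ofNat 0],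
  [Int.ofNat 0, Int.ofNat 0, Int.ofNat 0, Int.ofNat 2, Int.ofNat 0, Int.ofNat 0, Int.ofNat 2, Int.negSucc 1, Int.ofNat 0, Int.negSucc 1, Int.ofNat 0, Int.negSucc 1, Int.ofNat 0, Int.ofNat 0, Int.ofNat 2, Int.negSucc 1, Int.ofNat 0, Int.ofNat 0, Int.ofNat 2, Int.ofNat 0, Int.ofNat 0, Int.ofNat 0, Int.ofNat 0, Int.ofNat 0],
  [Int.ofNat 0, Int.ofNat 0, Int.ofNat 0, Int.ofNat 2, Int.ofNat 0, Int.ofNat 0, Int.ofNat 2, Int.ofNat 2, Int.ofNat 0, Int.ofNat 2, Int.ofNat 0, Int.ofNat 2, Int.ofNat 0, Int.ofNat 0, Int.ofNat 2, Int.negSucc 1, Int.ofNat 0, Int.ofNat 0, Int.negSucc 1, Int.ofNat 0, Int.ofNat 0, Int.ofNat 0, Int.ofNat 0, Int.ofNat 0],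
  [Int.ofNat 0, Int.ofNat 0, Int.ofNat 0, Int.ofNat 0, Int.ofNat 2, Int.ofNat 0, Int.ofNat 0, Int.ofNat 2, Int.ofNat 2, Int.ofNat 0, Int.ofNat 2, Int.ofNat 0, Int.ofNat 2, Int.ofNat 0, Int.ofNat 0, Int.ofNat 2, Int.negSucc 1, Int.ofNat 0, Int.ofNat 0, Int.negSucc 1, Int.ofNat 0, Int.ofNat 0, Int.ofNat 0, Int.ofNat 0],
  [Int.ofNat 0, Int.ofNat 0, Int.ofNat 0, Int.ofNat 0, Int.ofNat 2, Int.ofNat 0, Int.ofNat 0, Int.ofNat 2, Int.ofNat 0, Int.negSucc 1, Int.ofNat 0, Int.negSucc 1, Int.ofNat 0, Int.ofNat 0, Int.ofNat 0, Int.ofNat 0, Int.negSucc 1, Int.ofNat 0, Int.negSucc 1, Int.negSucc 1, Int.negSucc 1, Int.ofNat 0, Int.ofNat 0, Int.ofNat 0],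
  [Int.ofNat 0, Int.ofNat 2, Int.ofNat 0, Int.ofNat 0, Int.ofNat 2, Int.ofNat 0, Int.negSucc 1, Int.ofNat 0, Int.negSucc 1, Int.ofNat 0, Int.ofNat 0, Int.ofNat 0, Int.ofNat 0, Int.negSucc 1, Int.ofNat 0, Int.negSucc 1, Int.negSucc 1, Int.negSucc 1, Int.ofNat 0, Int.ofNat 0, Int.ofNat 0, Int.ofNat 0, Int.ofNat 0, Int.ofNat 0],
  [Int.ofNat 1, Int.negSucc 0, Int.ofNat 1, Int.ofNat 1, Int.ofNat 3, Int.ofNat 1, Int.negSucc 0, Int.ofNat 1, Int.negSucc 0, Int.ofNat 1, Int.ofNat 1, Int.ofNat 1, Int.ofNat 1, Int.negSucc 0, Int.ofNat 1, Int.negSucc 0, Int.negSucc 0, Int.negSucc 0, Int.ofNat 1, Int.ofNat 1, Int.ofNat 1, Int.ofNat 1, Int.ofNat 1, Int.ofNat 1],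
  [Int.ofNat 1, Int.negSucc 0, Int.ofNat 3, Int.ofNat 1, Int.ofNat 1, Int.ofNat 1, Int.ofNat 1, Int.ofNat 1, Int.ofNat 1, Int.negSucc 0, Int.ofNat 1, Int.negSucc 0, Int.ofNat 1, Int.negSucc 0, Int.ofNat 1, Int.negSucc 0, Int.negSucc 0, Int.ofNat 1, Int.negSucc 0, Int.ofNat 1, Int.ofNat 1, Int.ofNat 1, Int.ofNat 1, Int.ofNat 1],
  [Int.ofNat 1, Int.ofNat 3, Int.negSucc 0, Int.negSucc 0, Int.ofNat 1, Int.negSucc 0, Int.negSucc 0, Int.negSucc 0, Int.ofNat 1, Int.negSucc 0, Int.ofNat 1, Int.negSucc 0, Int.ofNat 1, Int.negSucc 0, Int.negSucc 0, Int.negSucc 0, Int.negSucc 0, Int.negSucc 0, Int.negSucc 0, Int.negSucc 0, Int.ofNat 1, Int.negSucc 0, Int.ofNat 1, Int.ofNat 1],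
  [Int.ofNat 1, Int.ofNat 3, Int.ofNat 1, Int.negSucc 0, Int.ofNat 1, Int.ofNat 1, Int.ofNat 1, Int.negSucc 0, Int.ofNat 1, Int.ofNat 1, Int.negSucc 0, Int.negSucc 0, Int.ofNat 1, Int.negSucc 0, Int.negSucc 0, Int.ofNat 1, Int.negSucc 0, Int.negSucc 0, Int.ofNat 1, Int.negSucc 0, Int.ofNat 1, Int.negSucc 0, Int.negSucc 0, Int.ofNat 1],
  [Int.negSucc 0, Int.ofNat 1, Int.negSucc 0, Int.ofNat 1, Int.ofNat 1, Int.ofNat 1, Int.negSucc 0, Int.negSucc 0, Int.ofNat 1, Int.negSucc 0, Int.ofNat 1, Int.negSucc 0, Int.negSucc 0, Int.ofNat 1, Int.ofNat 1, Int.ofNat 1, Int.negSucc 0, Int.ofNat 1, Int.ofNat 1, Int.ofNat 3, Int.negSucc 0, Int.negSucc 0, Int.negSucc 0, Int.ofNat 1],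
  [Int.negSucc 0, Int.ofNat 1, Int.ofNat 1, Int.ofNat 1, Int.ofNat 1, Int.negSucc 0, Int.ofNat 1, Int.negSucc 0, Int.ofNat 1, Int.ofNat 1, Int.negSucc 0, Int.negSucc 0, Int.negSucc 0, Int.ofNat 1, Int.ofNat 1, Int.negSucc 0, Int.negSucc 0, Int.ofNat 1, Int.negSucc 0, Int.ofNat 3, Int.negSucc 0, Int.negSucc 0, Int.ofNat 1, Int.ofNat 1],
  [Int.ofNat 2, Int.ofNat 0, Int.ofNat 0, Int.ofNat 0, Int.ofNat 0, Int.negSucc 1, Int.ofNat 0, Int.negSucc 1, Int.ofNat 2, Int.ofNat 2, Int.ofNat 0, Int.ofNat 0, Int.ofNat 0, Int.ofNat 0, Int.ofNat 0, Int.ofNat 0, Int.negSucc 1, Int.ofNat 0, Int.ofNat 0, Int.ofNat 2, Int.ofNat 0, Int.negSucc 1, Int.ofNat 0, Int.ofNat 0],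
  [Int.ofNat 2, Int.ofNat 0, Int.ofNat 0, Int.ofNat 0, Int.ofNat 0, Int.negSucc 1, Int.ofNat 0, Int.negSucc 1, Int.negSucc 1, Int.ofNat 0, Int.negSucc 1, Int.ofNat 2, Int.ofNat 2, Int.ofNat 2, Int.ofNat 0, Int.ofNat 0, Int.ofNat 0, Int.ofNat 0, Int.ofNat 0, Int.ofNat 0, Int.ofNat 0, Int.ofNat 0, Int.ofNat 0, Int.ofNat 0],
  [Int.negSucc 0, Int.ofNat 1, Int.ofNat 1, Int.ofNat 1, Int.negSucc 0, Int.negSucc 0, Int.ofNat 1, Int.negSucc 0, Int.negSucc 2, Int.ofNat 1, Int.negSucc 0, Int.ofNat 1, Int.ofNat 1, Int.ofNat 1, Int.ofNat 1, Int.ofNat 1, Int.negSucc 0, Int.ofNat 1, Int.negSucc 0, Int.ofNat 1, Int.ofNat 1, Int.ofNat 1, Int.negSucc 0, Int.ofNat 1],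
  [Int.ofNat 1, Int.ofNat 1, Int.negSucc 0, Int.negSucc 0, Int.ofNat 1, Int.ofNat 1, Int.ofNat 1, Int.negSucc 0, Int.negSucc 0, Int.ofNat 1, Int.negSucc 0, Int.negSucc 2, Int.ofNat 1, Int.negSucc 0, Int.ofNat 1, Int.ofNat 1, Int.ofNat 1, Int.ofNat 1, Int.ofNat 1, Int.negSucc 0, Int.ofNat 1, Int.negSucc 0, Int.ofNat 1, Int.ofNat 1],
  [Int.ofNat 0, Int.ofNat 0, Int.ofNat 2, Int.negSucc 1, Int.ofNat 0, Int.ofNat 0, Int.ofNat 2, Int.ofNat 0, Int.ofNat 0, Int.ofNat 0, Int.negSucc 1, Int.negSucc 1, Int.ofNat 2, Int.negSucc 1, Int.ofNat 0, Int.ofNat 0, Int.ofNat 0, Int.ofNat 0, Int.ofNat 2, Int.ofNat 0, Int.ofNat 0, Int.ofNat 0, Int.ofNat 0, Int.ofNat 0],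
  [Int.ofNat 0, Int.ofNat 2, Int.negSucc 1, Int.ofNat 0, Int.ofNat 0, Int.ofNat 2, Int.ofNat 0, Int.ofNat 0, Int.ofNat 0, Int.negSucc 1, Int.negSucc 1, Int.ofNat 2, Int.negSucc 1, Int.ofNat 0, Int.ofNat 0, Int.ofNat 0, Int.ofNat 0, Int.ofNat 2, Int.ofNat 0, Int.ofNat 0, Int.ofNat 0, Int.ofNat 0, Int.ofNat 0, Int.ofNat 0],
  [Int.ofNat 0, Int.ofNat 2, Int.ofNat 2, Int.ofNat 0, Int.ofNat 0, Int.ofNat 2, Int.ofNat 0, Int.ofNat 0, Int.ofNat 0, Int.ofNat 2, Int.ofNat 2, Int.negSucc 1, Int.negSucc 1, Int.ofNat 0, Int.ofNat 0, Int.ofNat 0, Int.ofNat 0, Int.ofNat 2, Int.ofNat 0, Int.ofNat 0, Int.ofNat 0, Int.ofNat 0, Int.ofNat 0, Int.ofNat 0],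
  [Int.ofNat 0, Int.negSucc 1, Int.negSucc 1, Int.ofNat 0, Int.ofNat 0, Int.ofNat 2, Int.ofNat 0, Int.ofNat 0, Int.ofNat 0, Int.negSucc 1, Int.ofNat 2, Int.negSucc 1, Int.ofNat 2, Int.ofNat 0, Int.ofNat 0, Int.ofNat 0, Int.ofNat 0, Int.ofNat 2, Int.ofNat 0, Int.ofNat 0, Int.ofNat 0, Int.ofNat 0, Int.ofNat 0, Int.ofNat 0],
  [Int.ofNat 0, Int.ofNat 0, Int.negSucc 1, Int.ofNat 0, Int.ofNat 2, Int.negSucc 1, Int.ofNat 0, Int.ofNat 0, Int.ofNat 0, Int.ofNat 2, Int.ofNat 0, Int.negSucc 1, Int.ofNat 0, Int.ofNat 0, Int.ofNat 0, Int.ofNat 0, Int.ofNat 2, Int.ofNat 0, Int.ofNat 0, Int.ofNat 0, Int.ofNat 0, Int.ofNat 2, Int.negSucc 1, Int.ofNat 0],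
  [Int.ofNat 0, Int.ofNat 0, Int.ofNat 2, Int.ofNat 0, Int.ofNat 2, Int.negSucc 1, Int.ofNat 0, Int.ofNat 0, Int.ofNat 0, Int.negSucc 1, Int.ofNat 0, Int.ofNat 2, Int.ofNat 0, Int.ofNat 0, Int.ofNat 0, Int.ofNat 0, Int.ofNat 2, Int.ofNat 0, Int.ofNat 0, Int.ofNat 0, Int.ofNat 0, Int.negSucc 1, Int.negSucc 1, Int.ofNat 0],
  [Int.negSucc 1, Int.ofNat 0, Int.ofNat 0, Int.ofNat 2, Int.ofNat 0, Int.ofNat 2, Int.negSucc 1, Int.ofNat 0, Int.ofNat 0, Int.ofNat 0, Int.negSucc 1, Int.ofNat 0, Int.ofNat 2, Int.ofNat 0, Int.ofNat 0, Int.ofNat 0, Int.ofNat 0, Int.ofNat 2, Int.ofNat 0, Int.ofNat 0, Int.ofNat 0, Int.ofNat 0, Int.negSucc 1, Int.ofNat 0],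
  [Int.ofNat 1, Int.negSucc 0, Int.negSucc 0, Int.negSucc 0, Int.ofNat 1, Int.negSucc 0, Int.negSucc 0, Int.ofNat 1, Int.negSucc 0, Int.ofNat 1, Int.negSucc 0, Int.negSucc 0, Int.ofNat 1, Int.ofNat 1, Int.negSucc 2, Int.ofNat 1, Int.ofNat 1, Int.negSucc 0, Int.negSucc 0, Int.ofNat 1, Int.ofNat 1, Int.ofNat 1, Int.negSucc 0, Int.negSucc 0],
  [Int.negSucc 0, Int.ofNat 1, Int.negSucc 0, Int.negSucc 0, Int.ofNat 1, Int.negSucc 0, Int.ofNat 1, Int.negSucc 0, Int.negSucc 0, Int.ofNat 1, Int.ofNat 1, Int.negSucc 2, Int.ofNat 1, Int.ofNat 1, Int.negSucc 0, Int.negSucc 0, Int.ofNat 1, Int.ofNat 1, Int.ofNat 1, Int.negSucc 0, Int.ofNat 1, Int.negSucc 0, Int.negSucc 0, Int.negSucc 0],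
  [Int.ofNat 0, Int.negSucc 1, Int.ofNat 0, Int.ofNat 0, Int.ofNat 0, Int.ofNat 0, Int.ofNat 2, Int.ofNat 0, Int.ofNat 0, Int.ofNat 0, Int.ofNat 0, Int.negSucc 1, Int.ofNat 2, Int.ofNat 0, Int.ofNat 0, Int.negSucc 1, Int.ofNat 0, Int.ofNat 2, Int.ofNat 2, Int.ofNat 0, Int.ofNat 0, Int.ofNat 0, Int.negSucc 1, Int.ofNat 0],
  [Int.ofNat 0, Int.ofNat 2, Int.ofNat 0, Int.ofNat 0, Int.ofNat 2, Int.ofNat 0, Int.ofNat 0, Int.ofNat 0, Int.ofNat 2, Int.ofNat 0, Int.ofNat 0, Int.ofNat 2, Int.ofNat 0, Int.ofNat 0, Int.negSucc 1, Int.negSucc 1, Int.ofNat 0, Int.ofNat 0, Int.negSucc 1, Int.negSucc 1, Int.ofNat 0, Int.ofNat 0, Int.ofNat 0, Int.ofNat 0],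
  [Int.ofNat 1, Int.negSucc 0, Int.ofNat 1, Int.ofNat 1, Int.ofNat 1, Int.ofNat 1, Int.ofNat 1, Int.ofNat 1, Int.ofNat 1, Int.ofNat 1, Int.ofNat 1, Int.ofNat 1, Int.negSucc 0, Int.negSucc 0, Int.negSucc 0, Int.negSucc 0, Int.negSucc 0, Int.ofNat 1, Int.negSucc 2, Int.negSucc 0, Int.ofNat 1, Int.ofNat 1, Int.negSucc 0, Int.ofNat 1],
  [Int.ofNat 1, Int.negSucc 0, Int.negSucc 0, Int.ofNat 1, Int.ofNat 1, Int.negSucc 0, Int.negSucc 0, Int.ofNat 1, Int.ofNat 1, Int.negSucc 0, Int.negSucc 0, Int.ofNat 1, Int.negSucc 0, Int.negSucc 0, Int.negSucc 0, Int.ofNat 1, Int.negSucc 0, Int.ofNat 1, Int.ofNat 3, Int.negSucc 0, Int.ofNat 1, Int.ofNat 1, Int.ofNat 1, Int.ofNat 1],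
  [Int.ofNat 1, Int.ofNat 1, Int.negSucc 0, Int.ofNat 1, Int.negSucc 0, Int.ofNat 1, Int.negSucc 0, Int.negSucc 0, Int.negSucc 0, Int.negSucc 0, Int.negSucc 0, Int.ofNat 1, Int.ofNat 1, Int.ofNat 3, Int.ofNat 1, Int.negSucc 0, Int.ofNat 1, Int.negSucc 0, Int.ofNat 1, Int.negSucc 0, Int.ofNat 1, Int.ofNat 1, Int.negSucc 0, Int.ofNat 1],
  [Int.ofNat 1, Int.ofNat 1, Int.ofNat 1, Int.ofNat 1, Int.negSucc 0, Int.negSucc 0, Int.ofNat 1, Int.negSucc 0, Int.negSucc 0, Int.ofNat 1, Int.ofNat 1, Int.ofNat 1, Int.ofNat 1, Int.ofNat 3, Int.ofNat 1, Int.ofNat 1, Int.ofNat 1, Int.negSucc 0, Int.negSucc 0, Int.negSucc 0, Int.ofNat 1, Int.ofNat 1, Int.ofNat 1, Int.ofNat 1],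
  [Int.ofNat 1, Int.ofNat 1, Int.ofNat 1, Int.ofNat 1, Int.negSucc 2, Int.negSucc 0, Int.ofNat 1, Int.negSucc 0, Int.negSucc 0, Int.negSucc 0, Int.negSucc 0, Int.ofNat 1, Int.ofNat 1, Int.ofNat 1, Int.ofNat 1, Int.negSucc 0, Int.negSucc 0, Int.negSucc 0, Int.negSucc 0, Int.negSucc 0, Int.negSucc 0, Int.ofNat 1, Int.negSucc 0, Int.ofNat 1],
  [Int.ofNat 1, Int.negSucc 0, Int.ofNat 1, Int.ofNat 1, Int.ofNat 1, Int.ofNat 1, Int.ofNat 1, Int.negSucc 0, Int.negSucc 0, Int.ofNat 1, Int.negSucc 0, Int.negSucc 0, Int.negSucc 0, Int.negSucc 0, Int.negSucc 0, Int.negSucc 0, Int.ofNat 1, Int.ofNat 1, Int.negSucc 2, Int.negSucc 0, Int.negSucc 0, Int.negSucc 0, Int.ofNat 1, Int.ofNat 1],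
  [Int.ofNat 0, Int.ofNat 2, Int.ofNat 0, Int.ofNat 0, Int.ofNat 0, Int.ofNat 0, Int.ofNat 2, Int.ofNat 0, Int.ofNat 2, Int.ofNat 2, Int.ofNat 0, Int.ofNat 2, Int.ofNat 2, Int.negSucc 1, Int.negSucc 1, Int.ofNat 0, Int.ofNat 0, Int.ofNat 0, Int.ofNat 0, Int.ofNat 0, Int.ofNat 0, Int.ofNat 0, Int.ofNat 0, Int.ofNat 0],
  [Int.ofNat 0, Int.ofNat 0, Int.ofNat 0, Int.ofNat 0, Int.ofNat 2, Int.ofNat 0, Int.ofNat 0, Int.ofNat 0, Int.ofNat 0, Int.ofNat 2, Int.ofNat 0, Int.ofNat 2, Int.ofNat 2, Int.ofNat 0, Int.ofNat 2, Int.ofNat 2, Int.negSucc 1, Int.negSucc 1, Int.ofNat 0, Int.ofNat 0, Int.ofNat 0, Int.ofNat 0, Int.ofNat 0, Int.ofNat 0],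
  [Int.ofNat 0, Int.ofNat 0, Int.ofNat 0, Int.ofNat 0, Int.ofNat 2, Int.ofNat 0, Int.ofNat 0, Int.ofNat 0, Int.negSucc 1, Int.ofNat 0, Int.negSucc 1, Int.ofNat 0, Int.ofNat 0, Int.ofNat 0, Int.ofNat 2, Int.ofNat 0, Int.negSucc 1, Int.negSucc 1, Int.negSucc 1, Int.ofNat 0, Int.negSucc 1, Int.ofNat 0, Int.ofNat 0, Int.ofNat 0],
  [Int.ofNat 0, Int.ofNat 0, Int.ofNat 0, Int.ofNat 2, Int.ofNat 0, Int.ofNat 0, Int.ofNat 0, Int.negSucc 1, Int.ofNat 0, Int.negSucc 1, Int.ofNat 0, Int.ofNat 0, Int.ofNat 0, Int.ofNat 2, Int.ofNat 0, Int.negSucc 1, Int.negSucc 1, Int.negSucc 1, Int.ofNat 0, Int.negSucc 1, Int.ofNat 0, Int.ofNat 0, Int.ofNat 0, Int.ofNat 0],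
  [Int.ofNat 0, Int.ofNat 0, Int.ofNat 0, Int.ofNat 2, Int.ofNat 0, Int.ofNat 0, Int.ofNat 0, Int.ofNat 2, Int.ofNat 0, Int.ofNat 2, Int.ofNat 0, Int.ofNat 0, Int.ofNat 0, Int.ofNat 2, Int.ofNat 0, Int.negSucc 1, Int.negSucc 1, Int.negSucc 1, Int.ofNat 0, Int.negSucc 1, Int.ofNat 0, Int.ofNat 0, Int.ofNat 0, Int.ofNat 0],
  [Int.ofNat 0, Int.ofNat 0, Int.ofNat 0, Int.negSucc 1, Int.ofNat 0, Int.ofNat 0, Int.ofNat 0, Int.ofNat 2, Int.ofNat 0, Int.negSucc 1, Int.ofNat 0, Int.ofNat 0, Int.ofNat 0, Int.negSucc 1, Int.ofNat 0, Int.negSucc 1, Int.ofNat 2, Int.negSucc 1, Int.ofNat 0, Int.negSucc 1, Int.ofNat 0, Int.ofNat 0, Int.ofNat 0, Int.ofNat 0],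
  [Int.ofNat 0, Int.ofNat 0, Int.ofNat 0, Int.negSucc 1, Int.negSucc 1, Int.negSucc 1, Int.negSucc 1, Int.negSucc 1, Int.ofNat 0, Int.ofNat 0, Int.ofNat 2, Int.ofNat 0, Int.ofNat 0, Int.ofNat 2, Int.ofNat 0, Int.negSucc 1, Int.ofNat 0, Int.ofNat 0, Int.ofNat 0, Int.ofNat 0, Int.ofNat 0, Int.ofNat 0, Int.ofNat 0, Int.ofNat 0],
  [Int.ofNat 0, Int.ofNat 0, Int.ofNat 0, Int.negSucc 1, Int.negSucc 1, Int.negSucc 1, Int.negSucc 1, Int.ofNat 2, Int.ofNat 0, Int.ofNat 0, Int.negSucc 1, Int.ofNat 0, Int.ofNat 0, Int.ofNat 2, Int.ofNat 0, Int.negSucc 1, Int.ofNat 0, Int.ofNat 0, Int.ofNat 0, Int.ofNat 0, Int.ofNat 0, Int.ofNat 0, Int.ofNat 0, Int.ofNat 0],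
  [Int.ofNat 0, Int.ofNat 0, Int.ofNat 0, Int.ofNat 0, Int.negSucc 1, Int.negSucc 1, Int.negSucc 1, Int.negSucc 1, Int.ofNat 2, Int.ofNat 0, Int.ofNat 0, Int.negSucc 1, Int.ofNat 0, Int.ofNat 0, Int.ofNat 2, Int.ofNat 0, Int.negSucc 1, Int.ofNat 0, Int.ofNat 0, Int.ofNat 0, Int.ofNat 0, Int.ofNat 0, Int.ofNat 0, Int.ofNat 0],
  [Int.ofNat 0, Int.ofNat 0, Int.ofNat 0, Int.ofNat 0, Int.ofNat 0, Int.negSucc 1, Int.ofNat 0, Int.ofNat 0, Int.ofNat 2, Int.ofNat 0, Int.ofNat 0, Int.negSucc 1, Int.ofNat 0, Int.ofNat 2, Int.ofNat 2, Int.ofNat 0, Int.ofNat 0, Int.ofNat 0, Int.ofNat 0, Int.ofNat 2, Int.ofNat 0, Int.ofNat 2, Int.ofNat 2, Int.ofNat 0],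
  [Int.ofNat 0, Int.ofNat 0, Int.negSucc 1, Int.ofNat 0, Int.ofNat 0, Int.ofNat 2, Int.ofNat 0, Int.ofNat 0, Int.negSucc 1, Int.ofNat 0, Int.ofNat 2, Int.ofNat 2, Int.ofNat 0, Int.ofNat 0, Int.ofNat 0, Int.ofNat 0, Int.ofNat 2, Int.ofNat 0, Int.ofNat 2, Int.ofNat 2, Int.ofNat 0, Int.ofNat 0, Int.ofNat 0, Int.ofNat 0],
  [Int.negSucc 0, Int.negSucc 0, Int.ofNat 1, Int.negSucc 0, Int.negSucc 0, Int.ofNat 1, Int.negSucc 0, Int.negSucc 0, Int.negSucc 2, Int.negSucc 0, Int.ofNat 1, Int.ofNat 1, Int.negSucc 0, Int.negSucc 0, Int.negSucc 0, Int.negSucc 0, Int.ofNat 1, Int.negSucc 0, Int.ofNat 1, Int.ofNat 1, Int.negSucc 0, Int.negSucc 0, Int.negSucc 0, Int.negSucc 0],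
  [Int.negSucc 0, Int.negSucc 0, Int.negSucc 0, Int.negSucc 0, Int.ofNat 1, Int.negSucc 0, Int.ofNat 1, Int.ofNat 1, Int.negSucc 0, Int.negSucc 0, Int.negSucc 0, Int.negSucc 0, Int.negSucc 0, Int.ofNat 1, Int.negSucc 0, Int.negSucc 0, Int.negSucc 2, Int.negSucc 0, Int.negSucc 0, Int.ofNat 1, Int.negSucc 0, Int.ofNat 1, Int.ofNat 1, Int.negSucc 0],
  [Int.negSucc 0, Int.negSucc 0, Int.negSucc 0, Int.ofNat 1, Int.ofNat 1, Int.ofNat 1, Int.negSucc 0, Int.negSucc 0, Int.ofNat 1, Int.ofNat 1, Int.ofNat 1, Int.ofNat 1, Int.ofNat 1, Int.ofNat 1, Int.ofNat 1, Int.ofNat 1, Int.negSucc 2, Int.ofNat 1, Int.ofNat 1, Int.negSucc 0, Int.ofNat 1, Int.negSucc 0, Int.ofNat 1, Int.negSucc 0],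
  [Int.negSucc 0, Int.negSucc 0, Int.ofNat 1, Int.ofNat 1, Int.ofNat 1, Int.negSucc 0, Int.ofNat 1, Int.negSucc 0, Int.ofNat 1, Int.negSucc 0, Int.negSucc 0, Int.ofNat 1, Int.ofNat 1, Int.ofNat 1, Int.ofNat 1, Int.negSucc 0, Int.negSucc 2, Int.ofNat 1, Int.negSucc 0, Int.negSucc 0, Int.ofNat 1, Int.negSucc 0, Int.negSucc 0, Int.negSucc 0],
  [Int.ofNat 1, Int.ofNat 1, Int.negSucc 2, Int.negSucc 0, Int.negSucc 0, Int.ofNat 1, Int.ofNat 1, Int.negSucc 0, Int.negSucc 0, Int.negSucc 0, Int.ofNat 1, Int.ofNat 1, Int.negSucc 0, Int.negSucc 0, Int.ofNat 1, Int.ofNat 1, Int.negSucc 0, Int.ofNat 1, Int.negSucc 0, Int.negSucc 0, Int.ofNat 1, Int.negSucc 0, Int.ofNat 1, Int.negSucc 0],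
  [Int.ofNat 1, Int.ofNat 1, Int.ofNat 3, Int.negSucc 0, Int.negSucc 0, Int.negSucc 0, Int.negSucc 0, Int.negSucc 0, Int.negSucc 0, Int.ofNat 1, Int.negSucc 0, Int.ofNat 1, Int.negSucc 0, Int.negSucc 0, Int.ofNat 1, Int.negSucc 0, Int.negSucc 0, Int.ofNat 1, Int.ofNat 1, Int.negSucc 0, Int.ofNat 1, Int.negSucc 0, Int.negSucc 0, Int.negSucc 0],
  [Int.ofNat 1, Int.ofNat 1, Int.negSucc 0, Int.negSucc 0, Int.ofNat 1, Int.negSucc 0, Int.ofNat 1, Int.ofNat 1, Int.negSucc 0, Int.ofNat 1, Int.negSucc 0, Int.ofNat 1, Int.negSucc 0, Int.ofNat 1, Int.ofNat 1, Int.negSucc 0, Int.ofNat 1, Int.ofNat 1, Int.ofNat 1, Int.ofNat 1, Int.ofNat 1, Int.ofNat 1, Int.ofNat 1, Int.ofNat 3],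
  [Int.ofNat 1, Int.ofNat 1, Int.ofNat 1, Int.negSucc 0, Int.negSucc 0, Int.ofNat 1, Int.ofNat 1, Int.negSucc 0, Int.ofNat 1, Int.negSucc 0, Int.ofNat 1, Int.ofNat 1, Int.negSucc 0, Int.ofNat 1, Int.ofNat 1, Int.negSucc 0, Int.ofNat 1, Int.ofNat 1, Int.ofNat 1, Int.ofNat 1, Int.negSucc 0, Int.ofNat 1, Int.ofNat 1, Int.ofNat 3],
  [Int.ofNat 2, Int.ofNat 2, Int.ofNat 2, Int.negSucc 1, Int.negSucc 1, Int.ofNat 0, Int.ofNat 0, Int.negSucc 1, Int.ofNat 0, Int.ofNat 0, Int.ofNat 2, Int.ofNat 0, Int.negSucc 1, Int.ofNat 0, Int.ofNat 0, Int.ofNat 0, Int.ofNat 0, Int.ofNat 0, Int.ofNat 0, Int.ofNat 0, Int.ofNat 0, Int.ofNat 0, Int.ofNat 0, Int.ofNat 0],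
  [Int.ofNat 0, Int.ofNat 0, Int.ofNat 0, Int.ofNat 2, Int.ofNat 2, Int.ofNat 2, Int.negSucc 1, Int.negSucc 1, Int.ofNat 0, Int.ofNat 0, Int.negSucc 1, Int.ofNat 0, Int.ofNat 0, Int.ofNat 2, Int.ofNat 0, Int.negSucc 1, Int.ofNat 0, Int.ofNat 0, Int.ofNat 0, Int.ofNat 0, Int.ofNat 0, Int.ofNat 0, Int.ofNat 0, Int.ofNat 0],
  [Int.ofNat 0, Int.ofNat 0, Int.ofNat 0, Int.ofNat 0, Int.ofNat 0, Int.ofNat 0, Int.ofNat 0, Int.ofNat 0, Int.ofNat 0, Int.ofNat 2, Int.ofNat 0, Int.ofNat 0, Int.ofNat 0, Int.ofNat 0, Int.negSucc 1, Int.ofNat 0, Int.negSucc 1, Int.negSucc 1, Int.ofNat 0, Int.ofNat 2, Int.ofNat 2, Int.ofNat 2, Int.negSucc 1, Int.ofNat 0],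
  [Int.ofNat 0, Int.ofNat 0, Int.ofNat 0, Int.ofNat 0, Int.ofNat 0, Int.ofNat 0, Int.ofNat 0, Int.ofNat 0, Int.ofNat 2, Int.ofNat 0, Int.ofNat 0, Int.ofNat 0, Int.ofNat 0, Int.negSucc 1, Int.ofNat 0, Int.negSucc 1, Int.negSucc 1, Int.ofNat 0, Int.ofNat 2, Int.ofNat 2, Int.ofNat 2, Int.negSucc 1, Int.ofNat 0, Int.ofNat 0],
  [Int.ofNat 0, Int.ofNat 0, Int.ofNat 0, Int.ofNat 0, Int.ofNat 0, Int.ofNat 0, Int.ofNat 0, Int.ofNat 0, Int.ofNat 2, Int.ofNat 0, Int.ofNat 0, Int.ofNat 0, Int.ofNat 0, Int.negSucc 1, Int.ofNat 0, Int.negSucc 1, Int.negSucc 1, Int.ofNat 0, Int.negSucc 1, Int.ofNat 2, Int.ofNat 2, Int.ofNat 2, Int.ofNat 0, Int.ofNat 0],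
  [Int.ofNat 0, Int.ofNat 0, Int.ofNat 0, Int.ofNat 0, Int.ofNat 0, Int.ofNat 0, Int.ofNat 0, Int.ofNat 0, Int.negSucc 1, Int.ofNat 0, Int.ofNat 0, Int.ofNat 0, Int.ofNat 0, Int.ofNat 2, Int.ofNat 0, Int.negSucc 1, Int.ofNat 2, Int.ofNat 0, Int.ofNat 2, Int.ofNat 2, Int.ofNat 2, Int.ofNat 2, Int.ofNat 0, Int.ofNat 0],
  [Int.ofNat 0, Int.ofNat 0, Int.ofNat 0, Int.negSucc 1, Int.ofNat 0, Int.ofNat 0, Int.ofNat 2, Int.ofNat 2, Int.ofNat 2, Int.ofNat 0, Int.ofNat 2, Int.ofNat 0, Int.ofNat 2, Int.ofNat 0, Int.ofNat 2, Int.ofNat 0, Int.ofNat 0, Int.ofNat 0, Int.ofNat 0, Int.ofNat 0, Int.negSucc 1, Int.ofNat 0, Int.ofNat 0, Int.ofNat 0],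
  [Int.ofNat 0, Int.ofNat 0, Int.ofNat 0, Int.negSucc 1, Int.ofNat 0, Int.ofNat 0, Int.ofNat 2, Int.negSucc 1, Int.ofNat 2, Int.ofNat 0, Int.negSucc 1, Int.ofNat 0, Int.ofNat 2, Int.ofNat 0, Int.ofNat 2, Int.ofNat 0, Int.ofNat 0, Int.ofNat 0, Int.ofNat 0, Int.ofNat 0, Int.negSucc 1, Int.ofNat 0, Int.ofNat 0, Int.ofNat 0],
  [Int.ofNat 0, Int.ofNat 0, Int.ofNat 0, Int.ofNat 0, Int.negSucc 1, Int.ofNat 0, Int.ofNat 0, Int.ofNat 2, Int.negSucc 1, Int.ofNat 2, Int.ofNat 0, Int.negSucc 1, Int.ofNat 0, Int.ofNat 2, Int.ofNat 0, Int.ofNat 2, Int.ofNat 0, Int.ofNat 0, Int.ofNat 0, Int.ofNat 0, Int.ofNat 0, Int.negSucc 1, Int.ofNat 0, Int.ofNat 0],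
  [Int.ofNat 0, Int.ofNat 0, Int.ofNat 0, Int.ofNat 0, Int.negSucc 1, Int.ofNat 0, Int.ofNat 0, Int.ofNat 2, Int.ofNat 0, Int.ofNat 0, Int.negSucc 1, Int.ofNat 0, Int.ofNat 2, Int.ofNat 2, Int.ofNat 0, Int.ofNat 0, Int.ofNat 0, Int.ofNat 0, Int.ofNat 2, Int.ofNat 0, Int.negSucc 1, Int.negSucc 1, Int.ofNat 0, Int.ofNat 0],
  [Int.ofNat 0, Int.negSucc 1, Int.ofNat 0, Int.ofNat 0, Int.ofNat 2, Int.ofNat 0, Int.ofNat 0, Int.negSucc 1, Int.ofNat 0, Int.ofNat 2, Int.ofNat 2, Int.ofNat 0, Int.ofNat 0, Int.ofNat 0, Int.ofNat 0, Int.ofNat 2, Int.ofNat 0, Int.negSucc 1, Int.negSucc 1, Int.ofNat 0, Int.ofNat 0, Int.ofNat 0, Int.ofNat 0, Int.ofNat 0],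
  [Int.negSucc 0, Int.ofNat 1, Int.negSucc 0, Int.ofNat 1, Int.ofNat 1, Int.ofNat 1, Int.ofNat 1, Int.negSucc 0, Int.ofNat 1, Int.negSucc 0, Int.negSucc 0, Int.ofNat 1, Int.ofNat 1, Int.negSucc 0, Int.ofNat 1, Int.negSucc 0, Int.negSucc 0, Int.negSucc 0, Int.negSucc 0, Int.ofNat 1, Int.negSucc 2, Int.ofNat 1, Int.negSucc 0, Int.negSucc 0],
  [Int.negSucc 0, Int.ofNat 1, Int.ofNat 1, Int.ofNat 1, Int.negSucc 0, Int.negSucc 0, Int.negSucc 0, Int.negSucc 0, Int.ofNat 1, Int.negSucc 0, Int.negSucc 2, Int.negSucc 0, Int.negSucc 0, Int.negSucc 0, Int.negSucc 0, Int.negSucc 0, Int.ofNat 1, Int.ofNat 1, Int.ofNat 1, Int.ofNat 1, Int.ofNat 1, Int.ofNat 1, Int.ofNat 1, Int.negSucc 0],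
  [Int.ofNat 1, Int.negSucc 0, Int.negSucc 0, Int.ofNat 1, Int.negSucc 0, Int.negSucc 0, Int.negSucc 0, Int.negSucc 0, Int.ofNat 1, Int.ofNat 1, Int.negSucc 0, Int.negSucc 0, Int.negSucc 0, Int.negSucc 0, Int.negSucc 0, Int.ofNat 1, Int.ofNat 1, Int.ofNat 1, Int.ofNat 1, Int.ofNat 1, Int.ofNat 3, Int.ofNat 1, Int.ofNat 1, Int.ofNat 1],
  [Int.ofNat 1, Int.negSucc 0, Int.ofNat 1, Int.ofNat 1, Int.negSucc 0, Int.ofNat 1, Int.ofNat 1, Int.negSucc 0, Int.ofNat 1, Int.negSucc 0, Int.ofNat 1, Int.negSucc 0, Int.negSucc 0, Int.negSucc 0, Int.negSucc 0, Int.negSucc 0, Int.ofNat 1, Int.ofNat 1, Int.negSucc 0, Int.ofNat 1, Int.ofNat 3, Int.ofNat 1, Int.negSucc 0, Int.ofNat 1],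
  [Int.negSucc 0, Int.ofNat 1, Int.ofNat 1, Int.negSucc 0, Int.negSucc 0, Int.negSucc 0, Int.negSucc 0, Int.ofNat 1, Int.ofNat 1, Int.ofNat 1, Int.ofNat 1, Int.ofNat 1, Int.negSucc 0, Int.negSucc 0, Int.ofNat 3, Int.negSucc 0, Int.ofNat 1, Int.ofNat 1, Int.ofNat 1, Int.negSucc 0, Int.ofNat 1, Int.negSucc 0, Int.negSucc 0, Int.ofNat 1],
  [Int.negSucc 0, Int.ofNat 1, Int.negSucc 0, Int.negSucc 0, Int.negSucc 0, Int.ofNat 1, Int.ofNat 1, Int.ofNat 1, Int.ofNat 1, Int.negSucc 0, Int.negSucc 0, Int.ofNat 1, Int.negSucc 0, Int.negSucc 0, Int.ofNat 3, Int.ofNat 1, Int.ofNat 1, Int.ofNat 1, Int.negSucc 0, Int.negSucc 0, Int.ofNat 1, Int.negSucc 0, Int.ofNat 1, Int.ofNat 1],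
  [Int.ofNat 1, Int.negSucc 0, Int.ofNat 1, Int.negSucc 2, Int.negSucc 0, Int.negSucc 0, Int.ofNat 1, Int.ofNat 1, Int.ofNat 1, Int.negSucc 0, Int.negSucc 0, Int.ofNat 1, Int.negSucc 0, Int.negSucc 0, Int.ofNat 1, Int.ofNat 1, Int.ofNat 1, Int.negSucc 0, Int.negSucc 0, Int.negSucc 0, Int.ofNat 1, Int.negSucc 0, Int.ofNat 1, Int.negSucc 0],
  [Int.ofNat 1, Int.negSucc 0, Int.ofNat 1, Int.negSucc 2, Int.ofNat 1, Int.negSucc 0, Int.negSucc 0, Int.negSucc 0, Int.ofNat 1, Int.negSucc 0, Int.ofNat 1, Int.negSucc 0, Int.ofNat 1, Int.negSucc 0, Int.negSucc 0, Int.ofNat 1, Int.negSucc 0, Int.ofNat 1, Int.negSucc 0, Int.ofNat 1, Int.negSucc 0, Int.ofNat 1, Int.ofNat 1, Int.negSucc 0],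
  [Int.negSucc 0, Int.ofNat 1, Int.negSucc 0, Int.negSucc 0, Int.ofNat 1, Int.ofNat 1, Int.negSucc 0, Int.negSucc 0, Int.ofNat 1, Int.negSucc 0, Int.ofNat 1, Int.negSucc 0, Int.ofNat 1, Int.negSucc 0, Int.ofNat 1, Int.ofNat 1, Int.negSucc 0, Int.ofNat 3, Int.negSucc 0, Int.ofNat 1, Int.negSucc 0, Int.ofNat 1, Int.ofNat 1, Int.ofNat 1],
  [Int.negSucc 0, Int.ofNat 1, Int.ofNat 1, Int.negSucc 0, Int.ofNat 1, Int.negSucc 0, Int.negSucc 0, Int.ofNat 1, Int.ofNat 1, Int.negSucc 0, Int.negSucc 0, Int.ofNat 1, Int.negSucc 0, Int.ofNat 1, Int.negSucc 0, Int.ofNat 1, Int.negSucc 0, Int.ofNat 1, Int.ofNat 1, Int.negSucc 0, Int.ofNat 3, Int.negSucc 0, Int.ofNat 1, Int.ofNat 1],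
  [Int.ofNat 2, Int.ofNat 0, Int.ofNat 0, Int.ofNat 0, Int.ofNat 0, Int.ofNat 0, Int.ofNat 0, Int.ofNat 2, Int.ofNat 0, Int.negSucc 1, Int.negSucc 1, Int.ofNat 0, Int.negSucc 1, Int.ofNat 0, Int.ofNat 0, Int.ofNat 0, Int.negSucc 1, Int.ofNat 2, Int.ofNat 0, Int.ofNat 0, Int.ofNat 2, Int.ofNat 0, Int.ofNat 0, Int.ofNat 0],
  [Int.ofNat 0, Int.ofNat 0, Int.ofNat 0, Int.ofNat 0, Int.ofNat 0, Int.ofNat 0, Int.ofNat 2, Int.ofNat 0, Int.negSucc 1, Int.negSucc 1, Int.ofNat 0, Int.negSucc 1, Int.ofNat 0, Int.ofNat 0, Int.ofNat 0, Int.negSucc 1, Int.ofNat 2, Int.ofNat 0, Int.ofNat 0, Int.ofNat 2, Int.ofNat 0, Int.ofNat 0, Int.ofNat 2, Int.ofNat 0],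
  [Int.ofNat 0, Int.ofNat 0, Int.ofNat 0, Int.ofNat 0, Int.ofNat 0, Int.ofNat 0, Int.ofNat 2, Int.ofNat 0, Int.negSucc 1, Int.ofNat 2, Int.ofNat 0, Int.ofNat 2, Int.ofNat 0, Int.ofNat 0, Int.ofNat 0, Int.negSucc 1, Int.ofNat 2, Int.ofNat 0, Int.ofNat 0, Int.ofNat 2, Int.ofNat 0, Int.ofNat 0, Int.ofNat 2, Int.ofNat 0],
  [Int.ofNat 0, Int.ofNat 0, Int.ofNat 0, Int.ofNat 0, Int.ofNat 0, Int.ofNat 0, Int.negSucc 1, Int.ofNat 0, Int.ofNat 2, Int.negSucc 1, Int.ofNat 0, Int.ofNat 2, Int.ofNat 0, Int.ofNat 0, Int.ofNat 0, Int.negSucc 1, Int.negSucc 1, Int.ofNat 0, Int.ofNat 0, Int.ofNat 2, Int.ofNat 0, Int.ofNat 0, Int.ofNat 2, Int.ofNat 0],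
  [Int.ofNat 0, Int.ofNat 2, Int.ofNat 2, Int.negSucc 1, Int.ofNat 0, Int.negSucc 1, Int.ofNat 2, Int.ofNat 0, Int.ofNat 0, Int.ofNat 0, Int.negSucc 1, Int.ofNat 0, Int.ofNat 0, Int.ofNat 0, Int.ofNat 0, Int.ofNat 0, Int.ofNat 0, Int.ofNat 0, Int.ofNat 0, Int.negSucc 1, Int.ofNat 2, Int.ofNat 0, Int.ofNat 0, Int.ofNat 0],
  [Int.ofNat 0, Int.ofNat 2, Int.negSucc 1, Int.negSucc 1, Int.ofNat 0, Int.negSucc 1, Int.ofNat 2, Int.ofNat 0, Int.ofNat 0, Int.ofNat 0, Int.ofNat 2, Int.ofNat 0, Int.ofNat 0, Int.ofNat 0, Int.ofNat 0, Int.ofNat 0, Int.ofNat 0, Int.ofNat 0, Int.ofNat 0, Int.negSucc 1, Int.ofNat 2, Int.ofNat 0, Int.ofNat 0, Int.ofNat 0],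
  [Int.ofNat 0, Int.ofNat 0, Int.ofNat 2, Int.negSucc 1, Int.negSucc 1, Int.ofNat 0, Int.negSucc 1, Int.ofNat 2, Int.ofNat 0, Int.ofNat 0, Int.ofNat 0, Int.ofNat 2, Int.ofNat 0, Int.ofNat 0, Int.ofNat 0, Int.ofNat 0, Int.ofNat 0, Int.ofNat 0, Int.ofNat 0, Int.ofNat 0, Int.negSucc 1, Int.ofNat 2, Int.ofNat 0, Int.ofNat 0],
  [Int.ofNat 1, Int.ofNat 1, Int.negSucc 0, Int.negSucc 0, Int.negSucc 0, Int.ofNat 1, Int.negSucc 2, Int.ofNat 1, Int.negSucc 0, Int.ofNat 1, Int.ofNat 1, Int.ofNat 1, Int.negSucc 0, Int.ofNat 1, Int.ofNat 1, Int.ofNat 1, Int.ofNat 1, Int.ofNat 1, Int.negSucc 0, Int.negSucc 0, Int.negSucc 0, Int.ofNat 1, Int.ofNat 1, Int.ofNat 1],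
  [Int.negSucc 0, Int.negSucc 0, Int.ofNat 1, Int.negSucc 2, Int.ofNat 1, Int.negSucc 0, Int.ofNat 1, Int.ofNat 1, Int.ofNat 1, Int.negSucc 0, Int.ofNat 1, Int.ofNat 1, Int.ofNat 1, Int.ofNat 1, Int.ofNat 1, Int.negSucc 0, Int.negSucc 0, Int.negSucc 0, Int.ofNat 1, Int.ofNat 1, Int.ofNat 1, Int.ofNat 1, Int.negSucc 0, Int.ofNat 1],
  [Int.ofNat 1, Int.ofNat 1, Int.negSucc 0, Int.negSucc 0, Int.ofNat 1, Int.ofNat 1, Int.negSucc 0, Int.negSucc 0, Int.negSucc 0, Int.negSucc 0, Int.ofNat 1, Int.negSucc 0, Int.negSucc 0, Int.ofNat 1, Int.ofNat 3, Int.negSucc 0, Int.negSucc 0, Int.ofNat 1, Int.negSucc 0, Int.negSucc 0, Int.ofNat 1, Int.negSucc 0, Int.negSucc 0, Int.negSucc 0],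
  [Int.ofNat 1, Int.negSucc 0, Int.ofNat 1, Int.negSucc 0, Int.negSucc 0, Int.negSucc 0, Int.negSucc 0, Int.ofNat 1, Int.negSucc 0, Int.ofNat 1, Int.ofNat 1, Int.ofNat 1, Int.negSucc 0, Int.negSucc 0, Int.negSucc 0, Int.negSucc 0, Int.negSucc 0, Int.ofNat 3, Int.ofNat 1, Int.negSucc 0, Int.negSucc 0, Int.ofNat 1, Int.negSucc 0, Int.negSucc 0],
  [Int.negSucc 0, Int.ofNat 1, Int.negSucc 0, Int.negSucc 0, Int.ofNat 1, Int.negSucc 0, Int.negSucc 0, Int.ofNat 1, Int.negSucc 0, Int.ofNat 1, Int.ofNat 1, Int.ofNat 1, Int.negSucc 0, Int.ofNat 1, Int.negSucc 0, Int.negSucc 0, Int.ofNat 1, Int.ofNat 3, Int.ofNat 1, Int.negSucc 0, Int.negSucc 0, Int.ofNat 1, Int.ofNat 1, Int.ofNat 1],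
  [Int.negSucc 0, Int.ofNat 1, Int.ofNat 1, Int.negSucc 0, Int.ofNat 1, Int.ofNat 1, Int.ofNat 1, Int.ofNat 1, Int.negSucc 0, Int.negSucc 0, Int.negSucc 0, Int.ofNat 1, Int.negSucc 0, Int.ofNat 1, Int.negSucc 0, Int.ofNat 1, Int.ofNat 1, Int.ofNat 3, Int.negSucc 0, Int.negSucc 0, Int.negSucc 0, Int.ofNat 1, Int.negSucc 0, Int.ofNat 1],
  [Int.ofNat 1, Int.negSucc 0, Int.ofNat 1, Int.ofNat 1, Int.negSucc 0, Int.ofNat 1, Int.ofNat 1, Int.negSucc 0, Int.ofNat 1, Int.negSucc 0, Int.ofNat 1, Int.negSucc 0, Int.negSucc 0, Int.negSucc 0, Int.negSucc 0, Int.negSucc 0, Int.ofNat 1, Int.ofNat 1, Int.negSucc 0, Int.ofNat 1, Int.ofNat 3, Int.ofNat 1, Int.negSucc 0, Int.ofNat 1],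
  [Int.ofNat 1, Int.negSucc 0, Int.negSucc 0, Int.ofNat 1, Int.negSucc 0, Int.negSucc 0, Int.negSucc 0, Int.negSucc 0, Int.ofNat 1, Int.ofNat 1, Int.negSucc 0, Int.negSucc 0, Int.negSucc 0, Int.negSucc 0, Int.negSucc 0, Int.ofNat 1, Int.ofNat 1, Int.ofNat 1, Int.ofNat 1, Int.ofNat 1, Int.ofNat 3, Int.ofNat 1, Int.ofNat 1, Int.ofNat 1],
  [Int.negSucc 0, Int.ofNat 1, Int.ofNat 1, Int.ofNat 1, Int.negSucc 0, Int.negSucc 0, Int.negSucc 0, Int.negSucc 0, Int.ofNat 1, Int.negSucc 0, Int.negSucc 2, Int.negSucc 0, Int.negSucc 0, Int.negSucc 0, Int.negSucc 0, Int.negSucc 0, Int.ofNat 1, Int.ofNat 1, Int.ofNat 1, Int.ofNat 1, Int.ofNat 1, Int.ofNat 1, Int.ofNat 1, Int.negSucc 0],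
  [Int.negSucc 0, Int.ofNat 1, Int.negSucc 0, Int.ofNat 1, Int.ofNat 1, Int.ofNat 1, Int.ofNat 1, Int.negSucc 0, Int.ofNat 1, Int.negSucc 0, Int.negSucc 0, Int.ofNat 1, Int.ofNat 1, Int.negSucc 0, Int.ofNat 1, Int.negSucc 0, Int.negSucc 0, Int.negSucc 0, Int.negSucc 0, Int.ofNat 1, Int.negSucc 2, Int.ofNat 1, Int.negSucc 0, Int.negSucc 0],
  [Int.ofNat 0, Int.negSucc 1, Int.ofNat 0, Int.ofNat 0, Int.ofNat 2, Int.ofNat 0, Int.ofNat 0, Int.negSucc 1, Int.ofNat 0, Int.ofNat 2, Int.ofNat 2, Int.ofNat 0, Int.ofNat 0, Int.ofNat 0, Int.ofNat 0, Int.ofNat 2, Int.ofNat 0, Int.negSucc 1, Int.negSucc 1, Int.ofNat 0, Int.ofNat 0, Int.ofNat 0, Int.ofNat 0, Int.ofNat 0],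
  [Int.ofNat 0, Int.ofNat 0, Int.ofNat 0, Int.ofNat 0, Int.negSucc 1, Int.ofNat 0, Int.ofNat 0, Int.ofNat 2, Int.ofNat 0, Int.ofNat 0, Int.negSucc 1, Int.ofNat 0, Int.ofNat 2, Int.ofNat 2, Int.ofNat 0, Int.ofNat 0, Int.ofNat 0, Int.ofNat 0, Int.ofNat 2, Int.ofNat 0, Int.negSucc 1, Int.negSucc 1, Int.ofNat 0, Int.ofNat 0],
  [Int.ofNat 0, Int.ofNat 0, Int.ofNat 0, Int.ofNat 0, Int.negSucc 1, Int.ofNat 0, Int.ofNat 0, Int.ofNat 2, Int.negSucc 1, Int.ofNat 2, Int.ofNat 0, Int.negSucc 1, Int.ofNat 0, Int.ofNat 2, Int.ofNat 0, Int.ofNat 2, Int.ofNat 0, Int.ofNat 0, Int.ofNat 0, Int.ofNat 0, Int.ofNat 0, Int.negSucc 1, Int.ofNat 0, Int.ofNat 0],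
  [Int.ofNat 0, Int.ofNat 0, Int.ofNat 0, Int.negSucc 1, Int.ofNat 0, Int.ofNat 0, Int.ofNat 2, Int.negSucc 1, Int.ofNat 2, Int.ofNat 0, Int.negSucc 1, Int.ofNat 0, Int.ofNat 2, Int.ofNat 0, Int.ofNat 2, Int.ofNat 0, Int.ofNat 0, Int.ofNat 0, Int.ofNat 0, Int.ofNat 0, Int.negSucc 1, Int.ofNat 0, Int.ofNat 0, Int.ofNat 0],
  [Int.ofNat 0, Int.ofNat 0, Int.ofNat 0, Int.negSucc 1, Int.ofNat 0, Int.ofNat 0, Int.ofNat 2, Int.ofNat 2, Int.ofNat 2, Int.ofNat 0, Int.ofNat 2, Int.ofNat 0, Int.ofNat 2, Int.ofNat 0, Int.ofNat 2, Int.ofNat 0, Int.ofNat 0, Int.ofNat 0, Int.ofNat 0, Int.ofNat 0, Int.negSucc 1, Int.ofNat 0, Int.ofNat 0, Int.ofNat 0],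
  [Int.ofNat 0, Int.ofNat 0, Int.ofNat 0, Int.ofNat 2, Int.ofNat 0, Int.ofNat 0, Int.negSucc 1, Int.ofNat 2, Int.negSucc 1, Int.ofNat 0, Int.ofNat 2, Int.ofNat 0, Int.negSucc 1, Int.ofNat 0, Int.ofNat 2, Int.ofNat 0, Int.ofNat 0, Int.ofNat 0, Int.ofNat 0, Int.ofNat 0, Int.negSucc 1, Int.ofNat 0, Int.ofNat 0, Int.ofNat 0],
  [Int.ofNat 0, Int.ofNat 0, Int.ofNat 0, Int.ofNat 0, Int.ofNat 0, Int.ofNat 0, Int.ofNat 0, Int.ofNat 0, Int.negSucc 1, Int.ofNat 0, Int.ofNat 0, Int.ofNat 0, Int.ofNat 0, Int.ofNat 2, Int.ofNat 0, Int.ofNat 2, Int.ofNat 2, Int.ofNat 0, Int.ofNat 2, Int.negSucc 1, Int.negSucc 1, Int.negSucc 1, Int.ofNat 0, Int.ofNat 0],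
  [Int.ofNat 0, Int.ofNat 0, Int.ofNat 0, Int.ofNat 0, Int.ofNat 0, Int.ofNat 0, Int.ofNat 0, Int.ofNat 0, Int.negSucc 1, Int.ofNat 0, Int.ofNat 0, Int.ofNat 0, Int.ofNat 0, Int.ofNat 2, Int.ofNat 0, Int.ofNat 2, Int.ofNat 2, Int.ofNat 0, Int.negSucc 1, Int.negSucc 1, Int.negSucc 1, Int.ofNat 2, Int.ofNat 0, Int.ofNat 0],
  [Int.ofNat 0, Int.ofNat 0, Int.ofNat 0, Int.ofNat 0, Int.ofNat 0, Int.ofNat 0, Int.ofNat 0, Int.ofNat 0, Int.ofNat 0, Int.negSucc 1, Int.ofNat 0, Int.ofNat 0, Int.ofNat 0, Int.ofNat 0, Int.ofNat 2, Int.ofNat 0, Int.ofNat 2, Int.ofNat 2, Int.ofNat 0, Int.negSucc 1, Int.negSucc 1, Int.negSucc 1, Int.ofNat 2, Int.ofNat 0],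
  [Int.ofNat 0, Int.ofNat 0, Int.ofNat 0, Int.negSucc 1, Int.negSucc 1, Int.negSucc 1, Int.ofNat 2, Int.ofNat 2, Int.ofNat 0, Int.ofNat 0, Int.ofNat 2, Int.ofNat 0, Int.ofNat 0, Int.negSucc 1, Int.ofNat 0, Int.ofNat 2, Int.ofNat 0, Int.ofNat 0, Int.ofNat 0, Int.ofNat 0, Int.ofNat 0, Int.ofNat 0, Int.ofNat 0, Int.ofNat 0],
  [Int.negSucc 1, Int.negSucc 1, Int.negSucc 1, Int.ofNat 2, Int.ofNat 2, Int.ofNat 0, Int.ofNat 0, Int.ofNat 2, Int.ofNat 0, Int.ofNat 0, Int.negSucc 1, Int.ofNat 0, Int.ofNat 2, Int.ofNat 0, Int.ofNat 0, Int.ofNat 0, Int.ofNat 0, Int.ofNat 0, Int.ofNat 0, Int.ofNat 0, Int.ofNat 0, Int.ofNat 0, Int.ofNat 0, Int.ofNat 0],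
  [Int.negSucc 0, Int.negSucc 0, Int.negSucc 0, Int.ofNat 1, Int.ofNat 1, Int.negSucc 0, Int.negSucc 0, Int.ofNat 1, Int.negSucc 0, Int.ofNat 1, Int.negSucc 0, Int.negSucc 0, Int.ofNat 1, Int.negSucc 0, Int.negSucc 0, Int.ofNat 1, Int.negSucc 0, Int.negSucc 0, Int.negSucc 0, Int.negSucc 0, Int.ofNat 1, Int.negSucc 0, Int.negSucc 0, Int.negSucc 2],
  [Int.negSucc 0, Int.negSucc 0, Int.ofNat 1, Int.ofNat 1, Int.negSucc 0, Int.ofNat 1, Int.negSucc 0, Int.negSucc 0, Int.ofNat 1, Int.negSucc 0, Int.ofNat 1, Int.negSucc 0, Int.ofNat 1, Int.negSucc 0, Int.negSucc 0, Int.ofNat 1, Int.negSucc 0, Int.negSucc 0, Int.negSucc 0, Int.negSucc 0, Int.negSucc 0, Int.negSucc 0, Int.negSucc 0, Int.negSucc 2],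
  [Int.negSucc 0, Int.negSucc 0, Int.negSucc 2, Int.ofNat 1, Int.ofNat 1, Int.ofNat 1, Int.ofNat 1, Int.ofNat 1, Int.ofNat 1, Int.negSucc 0, Int.ofNat 1, Int.negSucc 0, Int.ofNat 1, Int.ofNat 1, Int.negSucc 0, Int.ofNat 1, Int.ofNat 1, Int.negSucc 0, Int.negSucc 0, Int.ofNat 1, Int.negSucc 0, Int.ofNat 1, Int.ofNat 1, Int.ofNat 1],
  [Int.negSucc 0, Int.negSucc 0, Int.ofNat 3, Int.ofNat 1, Int.ofNat 1, Int.negSucc 0, Int.negSucc 0, Int.ofNat 1, Int.ofNat 1, Int.ofNat 1, Int.negSucc 0, Int.negSucc 0, Int.ofNat 1, Int.ofNat 1, Int.negSucc 0, Int.negSucc 0, Int.ofNat 1, Int.negSucc 0, Int.ofNat 1, Int.ofNat 1, Int.negSucc 0, Int.ofNat 1, Int.negSucc 0, Int.ofNat 1],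
  [Int.negSucc 0, Int.ofNat 1, Int.ofNat 1, Int.negSucc 0, Int.ofNat 1, Int.ofNat 1, Int.ofNat 1, Int.ofNat 1, Int.negSucc 0, Int.negSucc 0, Int.negSucc 0, Int.ofNat 1, Int.negSucc 0, Int.ofNat 1, Int.negSucc 0, Int.ofNat 1, Int.ofNat 1, Int.ofNat 3, Int.negSucc 0, Int.negSucc 0, Int.negSucc 0, Int.ofNat 1, Int.negSucc 0, Int.ofNat 1],
  [Int.negSucc 0, Int.ofNat 1, Int.negSucc 0, Int.negSucc 0, Int.ofNat 1, Int.negSucc 0, Int.negSucc 0, Int.ofNat 1, Int.negSucc 0, Int.ofNat 1, Int.ofNat 1, Int.ofNat 1, Int.negSucc 0, Int.ofNat 1, Int.negSucc 0, Int.negSucc 0, Int.ofNat 1, Int.ofNat 3, Int.ofNat 1, Int.negSucc 0, Int.negSucc 0, Int.ofNat 1, Int.ofNat 1, Int.ofNat 1],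
  [Int.ofNat 1, Int.negSucc 0, Int.ofNat 1, Int.negSucc 0, Int.negSucc 0, Int.negSucc 0, Int.negSucc 0, Int.ofNat 1, Int.negSucc 0, Int.ofNat 1, Int.ofNat 1, Int.ofNat 1, Int.negSucc 0, Int.negSucc 0, Int.negSucc 0, Int.negSucc 0, Int.negSucc 0, Int.ofNat 3, Int.ofNat 1, Int.negSucc 0, Int.negSucc 0, Int.ofNat 1, Int.negSucc 0, Int.negSucc 0],
  [Int.ofNat 1, Int.ofNat 1, Int.negSucc 0, Int.negSucc 0, Int.ofNat 1, Int.ofNat 1, Int.negSucc 0, Int.negSucc 0, Int.negSucc 0, Int.negSucc 0, Int.ofNat 1, Int.negSucc 0, Int.negSucc 0, Int.ofNat 1, Int.ofNat 3, Int.negSucc 0, Int.negSucc 0, Int.ofNat 1, Int.negSucc 0, Int.negSucc 0, Int.ofNat 1, Int.negSucc 0, Int.negSucc 0, Int.negSucc 0],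
  [Int.negSucc 0, Int.negSucc 0, Int.ofNat 1, Int.negSucc 2, Int.ofNat 1, Int.negSucc 0, Int.ofNat 1, Int.ofNat 1, Int.ofNat 1, Int.negSucc 0, Int.ofNat 1, Int.ofNat 1, Int.ofNat 1, Int.ofNat 1, Int.ofNat 1, Int.negSucc 0, Int.negSucc 0, Int.negSucc 0, Int.ofNat 1, Int.ofNat 1, Int.ofNat 1, Int.ofNat 1, Int.negSucc 0, Int.ofNat 1],
  [Int.ofNat 1, Int.ofNat 1, Int.negSucc 0, Int.negSucc 0, Int.negSucc 0, Int.ofNat 1, Int.negSucc 2, Int.ofNat 1, Int.negSucc 0, Int.ofNat 1, Int.ofNat 1, Int.ofNat 1, Int.negSucc 0, Int.ofNat 1, Int.ofNat 1, Int.ofNat 1, Int.ofNat 1, Int.ofNat 1, Int.negSucc 0, Int.negSucc 0, Int.negSucc 0, Int.ofNat 1, Int.ofNat 1, Int.ofNat 1],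
  [Int.ofNat 0, Int.ofNat 0, Int.ofNat 2, Int.negSucc 1, Int.negSucc 1, Int.ofNat 0, Int.negSucc 1, Int.ofNat 2, Int.ofNat 0, Int.ofNat 0, Int.ofNat 0, Int.ofNat 2, Int.ofNat 0, Int.ofNat 0, Int.ofNat 0, Int.ofNat 0, Int.ofNat 0, Int.ofNat 0, Int.ofNat 0, Int.ofNat 0, Int.negSucc 1, Int.ofNat 2, Int.ofNat 0, Int.ofNat 0],
  [Int.ofNat 0, Int.ofNat 2, Int.negSucc 1, Int.negSucc 1, Int.ofNat 0, Int.negSucc 1, Int.ofNat 2, Int.ofNat 0, Int.ofNat 0, Int.ofNat 0, Int.ofNat 2, Int.ofNat 0, Int.ofNat 0, Int.ofNat 0, Int.ofNat 0, Int.ofNat 0, Int.ofNat 0, Int.ofNat 0, Int.ofNat 0, Int.negSucc 1, Int.ofNat 2, Int.ofNat 0, Int.ofNat 0, Int.ofNat 0],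
  [Int.ofNat 0, Int.ofNat 2, Int.ofNat 2, Int.negSucc 1, Int.ofNat 0, Int.negSucc 1, Int.ofNat 2, Int.ofNat 0, Int.ofNat 0, Int.ofNat 0, Int.negSucc 1, Int.ofNat 0, Int.ofNat 0, Int.ofNat 0, Int.ofNat 0, Int.ofNat 0, Int.ofNat 0, Int.ofNat 0, Int.ofNat 0, Int.negSucc 1, Int.ofNat 2, Int.ofNat 0, Int.ofNat 0, Int.ofNat 0],
  [Int.ofNat 0, Int.negSucc 1, Int.negSucc 1, Int.ofNat 2, Int.ofNat 0, Int.negSucc 1, Int.negSucc 1, Int.ofNat 0, Int.ofNat 0, Int.ofNat 0, Int.negSucc 1, Int.ofNat 0, Int.ofNat 0, Int.ofNat 0, Int.ofNat 0, Int.ofNat 0, Int.ofNat 0, Int.ofNat 0, Int.ofNat 0, Int.negSucc 1, Int.ofNat 2, Int.ofNat 0, Int.ofNat 0, Int.ofNat 0],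
  [Int.ofNat 0, Int.ofNat 0, Int.ofNat 0, Int.ofNat 0, Int.ofNat 0, Int.ofNat 0, Int.negSucc 1, Int.ofNat 0, Int.ofNat 2, Int.negSucc 1, Int.ofNat 0, Int.negSucc 1, Int.ofNat 0, Int.ofNat 0, Int.ofNat 0, Int.ofNat 2, Int.negSucc 1, Int.ofNat 0, Int.ofNat 0, Int.negSucc 1, Int.ofNat 0, Int.ofNat 0, Int.negSucc 1, Int.ofNat 0],
  [Int.ofNat 0, Int.ofNat 0, Int.ofNat 0, Int.ofNat 0, Int.ofNat 0, Int.ofNat 0, Int.negSucc 1, Int.ofNat 0, Int.ofNat 2, Int.ofNat 2, Int.ofNat 0, Int.ofNat 2, Int.ofNat 0, Int.ofNat 0, Int.ofNat 0, Int.ofNat 2, Int.negSucc 1, Int.ofNat 0, Int.ofNat 0, Int.negSucc 1, Int.ofNat 0, Int.ofNat 0, Int.negSucc 1, Int.ofNat 0],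
  [Int.negSucc 1, Int.ofNat 0, Int.ofNat 0, Int.ofNat 0, Int.ofNat 0, Int.ofNat 0, Int.ofNat 0, Int.negSucc 1, Int.ofNat 0, Int.ofNat 2, Int.ofNat 2, Int.ofNat 0, Int.ofNat 2, Int.ofNat 0, Int.ofNat 0, Int.ofNat 0, Int.ofNat 2, Int.negSucc 1, Int.ofNat 0, Int.ofNat 0, Int.negSucc 1, Int.ofNat 0, Int.ofNat 0, Int.ofNat 0],
  [Int.ofNat 1, Int.negSucc 0, Int.negSucc 0, Int.ofNat 1, Int.negSucc 0, Int.ofNat 1, Int.ofNat 1, Int.negSucc 0, Int.negSucc 0, Int.ofNat 1, Int.ofNat 1, Int.negSucc 0, Int.ofNat 1, Int.negSucc 0, Int.ofNat 1, Int.negSucc 0, Int.ofNat 1, Int.negSucc 0, Int.negSucc 0, Int.ofNat 1, Int.negSucc 2, Int.ofNat 1, Int.negSucc 0, Int.negSucc 0],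
  [Int.ofNat 1, Int.negSucc 0, Int.ofNat 1, Int.ofNat 1, Int.negSucc 0, Int.negSucc 0, Int.ofNat 1, Int.ofNat 1, Int.negSucc 0, Int.ofNat 1, Int.negSucc 0, Int.ofNat 1, Int.negSucc 0, Int.ofNat 1, Int.negSucc 0, Int.negSucc 0, Int.ofNat 1, Int.negSucc 2, Int.ofNat 1, Int.negSucc 0, Int.ofNat 1, Int.negSucc 0, Int.negSucc 0, Int.negSucc 0],
  [Int.negSucc 0, Int.ofNat 1, Int.negSucc 0, Int.ofNat 3, Int.negSucc 0, Int.ofNat 1, Int.ofNat 1, Int.ofNat 1, Int.negSucc 0, Int.ofNat 1, Int.negSucc 0, Int.ofNat 1, Int.negSucc 0, Int.ofNat 1, Int.ofNat 1, Int.negSucc 0, Int.ofNat 1, Int.negSucc 0, Int.ofNat 1, Int.negSucc 0, Int.ofNat 1, Int.negSucc 0, Int.negSucc 0, Int.ofNat 1],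
  [Int.negSucc 0, Int.ofNat 1, Int.negSucc 0, Int.ofNat 3, Int.ofNat 1, Int.ofNat 1, Int.negSucc 0, Int.negSucc 0, Int.negSucc 0, Int.ofNat 1, Int.ofNat 1, Int.negSucc 0, Int.ofNat 1, Int.ofNat 1, Int.negSucc 0, Int.negSucc 0, Int.negSucc 0, Int.ofNat 1, Int.ofNat 1, Int.ofNat 1, Int.negSucc 0, Int.ofNat 1, Int.negSucc 0, Int.ofNat 1],
  [Int.ofNat 1, Int.negSucc 0, Int.ofNat 1, Int.ofNat 1, Int.ofNat 1, Int.negSucc 0, Int.negSucc 0, Int.negSucc 0, Int.negSucc 0, Int.ofNat 1, Int.ofNat 1, Int.negSucc 0, Int.ofNat 1, Int.ofNat 1, Int.negSucc 2, Int.negSucc 0, Int.negSucc 0, Int.negSucc 0, Int.ofNat 1, Int.ofNat 1, Int.negSucc 0, Int.ofNat 1, Int.negSucc 0, Int.negSucc 0],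
  [Int.ofNat 1, Int.negSucc 0, Int.negSucc 0, Int.ofNat 1, Int.ofNat 1, Int.ofNat 1, Int.ofNat 1, Int.negSucc 0, Int.negSucc 0, Int.negSucc 0, Int.negSucc 0, Int.negSucc 0, Int.ofNat 1, Int.ofNat 1, Int.negSucc 2, Int.ofNat 1, Int.negSucc 0, Int.negSucc 0, Int.negSucc 0, Int.ofNat 1, Int.negSucc 0, Int.ofNat 1, Int.ofNat 1, Int.negSucc 0],
  [Int.negSucc 0, Int.negSucc 0, Int.negSucc 0, Int.ofNat 1, Int.negSucc 0, Int.ofNat 1, Int.ofNat 1, Int.ofNat 1, Int.ofNat 1, Int.negSucc 0, Int.ofNat 1, Int.ofNat 1, Int.ofNat 1, Int.negSucc 0, Int.negSucc 0, Int.ofNat 1, Int.ofNat 1, Int.negSucc 0, Int.ofNat 1, Int.negSucc 0, Int.negSucc 0, Int.negSucc 0, Int.negSucc 2, Int.negSucc 0],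
  [Int.negSucc 0, Int.negSucc 0, Int.ofNat 1, Int.ofNat 1, Int.negSucc 0, Int.negSucc 0, Int.negSucc 0, Int.ofNat 1, Int.ofNat 1, Int.ofNat 1, Int.negSucc 0, Int.ofNat 1, Int.ofNat 1, Int.negSucc 0, Int.negSucc 0, Int.negSucc 0, Int.ofNat 1, Int.negSucc 0, Int.negSucc 0, Int.negSucc 0, Int.negSucc 0, Int.negSucc 0, Int.ofNat 3, Int.negSucc 0],
  [Int.ofNat 0, Int.ofNat 0, Int.negSucc 1, Int.ofNat 2, Int.negSucc 1, Int.ofNat 0, Int.ofNat 0, Int.ofNat 2, Int.ofNat 0, Int.ofNat 2, Int.ofNat 0, Int.ofNat 0, Int.ofNat 0, Int.negSucc 1, Int.ofNat 0, Int.ofNat 0, Int.ofNat 0, Int.ofNat 0, Int.negSucc 1, Int.ofNat 0, Int.ofNat 0, Int.ofNat 0, Int.ofNat 2, Int.ofNat 0],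
  [Int.ofNat 0, Int.negSucc 1, Int.ofNat 0, Int.ofNat 2, Int.negSucc 1, Int.ofNat 0, Int.ofNat 0, Int.ofNat 0, Int.ofNat 0, Int.ofNat 0, Int.ofNat 2, Int.ofNat 0, Int.ofNat 0, Int.ofNat 2, Int.ofNat 0, Int.ofNat 0, Int.negSucc 1, Int.ofNat 0, Int.negSucc 1, Int.ofNat 2, Int.ofNat 0, Int.ofNat 0, Int.ofNat 0, Int.ofNat 0],
  [Int.negSucc 0, Int.ofNat 1, Int.negSucc 0, Int.ofNat 1, Int.negSucc 0, Int.negSucc 0, Int.negSucc 0, Int.negSucc 0, Int.ofNat 1, Int.negSucc 0, Int.ofNat 1, Int.ofNat 1, Int.ofNat 1, Int.ofNat 3, Int.negSucc 0, Int.negSucc 0, Int.negSucc 0, Int.negSucc 0, Int.negSucc 0, Int.ofNat 1, Int.negSucc 0, Int.negSucc 0, Int.ofNat 1, Int.negSucc 0],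
  [Int.negSucc 0, Int.negSucc 0, Int.ofNat 1, Int.negSucc 0, Int.ofNat 1, Int.negSucc 0, Int.ofNat 1, Int.negSucc 0, Int.negSucc 0, Int.negSucc 0, Int.negSucc 0, Int.ofNat 1, Int.negSucc 0, Int.ofNat 1, Int.ofNat 1, Int.ofNat 1, Int.ofNat 3, Int.negSucc 0, Int.negSucc 0, Int.negSucc 0, Int.negSucc 0, Int.negSucc 0, Int.ofNat 1, Int.negSucc 0],
  [Int.ofNat 0, Int.ofNat 0, Int.negSucc 1, Int.ofNat 0, Int.negSucc 1, Int.ofNat 0, Int.ofNat 2, Int.ofNat 0, Int.ofNat 0, Int.ofNat 0, Int.ofNat 0, Int.ofNat 2, Int.ofNat 0, Int.negSucc 1, Int.ofNat 2, Int.ofNat 2, Int.ofNat 0, Int.ofNat 0, Int.ofNat 0, Int.ofNat 0, Int.ofNat 0, Int.ofNat 0, Int.negSucc 1, Int.ofNat 0],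
  [Int.ofNat 0, Int.negSucc 1, Int.ofNat 0, Int.negSucc 1, Int.ofNat 0, Int.ofNat 2, Int.ofNat 0, Int.ofNat 0, Int.ofNat 0, Int.ofNat 0, Int.ofNat 2, Int.ofNat 0, Int.negSucc 1, Int.ofNat 2, Int.ofNat 2, Int.ofNat 0, Int.ofNat 0, Int.ofNat 0, Int.ofNat 0, Int.ofNat 0, Int.ofNat 0, Int.negSucc 1, Int.ofNat 0, Int.ofNat 0],
  [Int.ofNat 0, Int.negSucc 1, Int.ofNat 0, Int.negSucc 1, Int.ofNat 0, Int.ofNat 2, Int.ofNat 0, Int.ofNat 0, Int.ofNat 0, Int.ofNat 0, Int.negSucc 1, Int.ofNat 0, Int.negSucc 1, Int.ofNat 2, Int.ofNat 2, Int.ofNat 0, Int.ofNat 0, Int.ofNat 0, Int.ofNat 0, Int.ofNat 0, Int.ofNat 0, Int.ofNat 2, Int.ofNat 0, Int.ofNat 0],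
  [Int.ofNat 0, Int.ofNat 2, Int.ofNat 0, Int.ofNat 2, Int.ofNat 0, Int.ofNat 2, Int.ofNat 0, Int.ofNat 0, Int.ofNat 0, Int.ofNat 0, Int.negSucc 1, Int.ofNat 0, Int.ofNat 2, Int.negSucc 1, Int.ofNat 2, Int.ofNat 0, Int.ofNat 0, Int.ofNat 0, Int.ofNat 0, Int.ofNat 0, Int.ofNat 0, Int.ofNat 2, Int.ofNat 0, Int.ofNat 0],
  [Int.ofNat 0, Int.ofNat 0, Int.ofNat 0, Int.ofNat 0, Int.ofNat 0, Int.ofNat 0, Int.ofNat 0, Int.negSucc 1, Int.ofNat 0, Int.ofNat 2, Int.ofNat 0, Int.ofNat 0, Int.ofNat 2, Int.ofNat 0, Int.ofNat 0, Int.ofNat 2, Int.negSucc 1, Int.ofNat 0, Int.ofNat 2, Int.ofNat 0, Int.ofNat 0, Int.ofNat 2, Int.ofNat 2, Int.ofNat 0],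
  [Int.ofNat 0, Int.ofNat 0, Int.ofNat 0, Int.ofNat 0, Int.ofNat 0, Int.ofNat 0, Int.ofNat 0, Int.ofNat 2, Int.ofNat 0, Int.negSucc 1, Int.ofNat 0, Int.ofNat 0, Int.ofNat 2, Int.ofNat 0, Int.ofNat 0, Int.ofNat 2, Int.negSucc 1, Int.ofNat 0, Int.negSucc 1, Int.ofNat 0, Int.ofNat 0, Int.negSucc 1, Int.ofNat 2, Int.ofNat 0],
  [Int.ofNat 2, Int.ofNat 0, Int.ofNat 0, Int.ofNat 0, Int.ofNat 0, Int.ofNat 0, Int.ofNat 0, Int.ofNat 0, Int.ofNat 2, Int.ofNat 0, Int.negSucc 1, Int.ofNat 0, Int.ofNat 0, Int.ofNat 2, Int.ofNat 0, Int.ofNat 0, Int.ofNat 2, Int.negSucc 1, Int.ofNat 0, Int.negSucc 1, Int.ofNat 0, Int.ofNat 0, Int.negSucc 1, Int.ofNat 0],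
  [Int.negSucc 0, Int.ofNat 1, Int.ofNat 1, Int.ofNat 1, Int.negSucc 0, Int.ofNat 1, Int.ofNat 1, Int.ofNat 1, Int.ofNat 1, Int.ofNat 1, Int.negSucc 0, Int.negSucc 0, Int.negSucc 0, Int.ofNat 1, Int.ofNat 1, Int.ofNat 1, Int.ofNat 1, Int.negSucc 0, Int.negSucc 0, Int.negSucc 0, Int.ofNat 1, Int.ofNat 1, Int.negSucc 2, Int.ofNat 1],
  [Int.ofNat 1, Int.negSucc 0, Int.ofNat 1, Int.ofNat 1, Int.ofNat 1, Int.ofNat 1, Int.ofNat 1, Int.negSucc 0, Int.negSucc 0, Int.negSucc 0, Int.ofNat 1, Int.ofNat 1, Int.ofNat 1, Int.ofNat 1, Int.negSucc 0, Int.negSucc 0, Int.negSucc 0, Int.ofNat 1, Int.ofNat 1, Int.negSucc 2, Int.negSucc 0, Int.ofNat 1, Int.ofNat 1, Int.ofNat 1],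
  [Int.ofNat 0, Int.ofNat 2, Int.ofNat 0, Int.ofNat 0, Int.ofNat 0, Int.ofNat 0, Int.ofNat 2, Int.ofNat 0, Int.negSucc 1, Int.ofNat 0, Int.ofNat 2, Int.ofNat 0, Int.ofNat 0, Int.ofNat 0, Int.negSucc 1, Int.ofNat 0, Int.negSucc 1, Int.ofNat 0, Int.ofNat 0, Int.negSucc 1, Int.ofNat 0, Int.ofNat 2, Int.ofNat 0, Int.ofNat 0],
  [Int.ofNat 0, Int.ofNat 2, Int.ofNat 0, Int.ofNat 0, Int.ofNat 0, Int.ofNat 0, Int.ofNat 0, Int.ofNat 2, Int.ofNat 0, Int.ofNat 0, Int.ofNat 0, Int.ofNat 0, Int.ofNat 0, Int.negSucc 1, Int.ofNat 0, Int.ofNat 0, Int.negSucc 1, Int.negSucc 1, Int.ofNat 2, Int.ofNat 0, Int.ofNat 2, Int.ofNat 0, Int.negSucc 1, Int.ofNat 0],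
  [Int.ofNat 1, Int.negSucc 0, Int.ofNat 1, Int.ofNat 1, Int.ofNat 3, Int.ofNat 1, Int.negSucc 0, Int.ofNat 1, Int.negSucc 0, Int.negSucc 0, Int.negSucc 0, Int.negSucc 0, Int.negSucc 0, Int.ofNat 1, Int.ofNat 1, Int.negSucc 0, Int.ofNat 1, Int.negSucc 0, Int.ofNat 1, Int.negSucc 0, Int.ofNat 1, Int.negSucc 0, Int.ofNat 1, Int.ofNat 1],
  [Int.ofNat 1, Int.negSucc 0, Int.negSucc 0, Int.ofNat 1, Int.ofNat 3, Int.negSucc 0, Int.ofNat 1, Int.ofNat 1, Int.negSucc 0, Int.ofNat 1, Int.ofNat 1, Int.negSucc 0, Int.negSucc 0, Int.ofNat 1, Int.ofNat 1, Int.ofNat 1, Int.ofNat 1, Int.negSucc 0, Int.negSucc 0, Int.negSucc 0, Int.ofNat 1, Int.negSucc 0, Int.negSucc 0, Int.ofNat 1],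
  [Int.negSucc 0, Int.negSucc 0, Int.ofNat 1, Int.ofNat 1, Int.ofNat 1, Int.ofNat 3, Int.ofNat 1, Int.negSucc 0, Int.negSucc 0, Int.ofNat 1, Int.ofNat 1, Int.ofNat 1, Int.negSucc 0, Int.negSucc 0, Int.ofNat 1, Int.negSucc 0, Int.negSucc 0, Int.negSucc 0, Int.ofNat 1, Int.negSucc 0, Int.negSucc 0, Int.ofNat 1, Int.ofNat 1, Int.ofNat 1],
  [Int.negSucc 0, Int.negSucc 0, Int.negSucc 0, Int.ofNat 1, Int.ofNat 1, Int.negSucc 2, Int.negSucc 0, Int.negSucc 0, Int.negSucc 0, Int.negSucc 0, Int.negSucc 0, Int.ofNat 1, Int.negSucc 0, Int.negSucc 0, Int.ofNat 1, Int.ofNat 1, Int.negSucc 0, Int.negSucc 0, Int.negSucc 0, Int.negSucc 0, Int.negSucc 0, Int.ofNat 1, Int.negSucc 0, Int.ofNat 1],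
  [Int.ofNat 0, Int.ofNat 0, Int.ofNat 0, Int.ofNat 2, Int.ofNat 2, Int.negSucc 1, Int.ofNat 0, Int.ofNat 0, Int.ofNat 0, Int.ofNat 0, Int.ofNat 0, Int.ofNat 2, Int.ofNat 0, Int.ofNat 0, Int.ofNat 2, Int.ofNat 2, Int.ofNat 0, Int.ofNat 0, Int.ofNat 0, Int.ofNat 0, Int.ofNat 0, Int.ofNat 2, Int.ofNat 0, Int.negSucc 1],
  [Int.ofNat 0, Int.ofNat 0, Int.ofNat 0, Int.ofNat 2, Int.ofNat 0, Int.ofNat 2, Int.ofNat 0, Int.negSucc 1, Int.ofNat 0, Int.ofNat 0, Int.ofNat 0, Int.ofNat 0, Int.ofNat 0, Int.ofNat 0, Int.ofNat 0, Int.ofNat 2, Int.ofNat 0, Int.ofNat 2, Int.ofNat 2, Int.ofNat 0, Int.ofNat 0, Int.ofNat 0, Int.ofNat 2, Int.negSucc 1],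
  [Int.negSucc 0, Int.negSucc 0, Int.negSucc 0, Int.negSucc 0, Int.negSucc 0, Int.negSucc 0, Int.ofNat 1, Int.negSucc 0, Int.negSucc 0, Int.negSucc 0, Int.negSucc 0, Int.negSucc 0, Int.negSucc 0, Int.negSucc 0, Int.negSucc 2, Int.ofNat 1, Int.negSucc 0, Int.negSucc 0, Int.ofNat 1, Int.ofNat 1, Int.negSucc 0, Int.ofNat 1, Int.ofNat 1, Int.ofNat 1],
  [Int.negSucc 0, Int.ofNat 1, Int.ofNat 1, Int.negSucc 0, Int.negSucc 0, Int.negSucc 0, Int.negSucc 0, Int.negSucc 0, Int.negSucc 0, Int.ofNat 1, Int.negSucc 0, Int.negSucc 0, Int.negSucc 0, Int.negSucc 0, Int.negSucc 0, Int.negSucc 0, Int.negSucc 0, Int.negSucc 2, Int.ofNat 1, Int.negSucc 0, Int.negSucc 0, Int.ofNat 1, Int.ofNat 1, Int.ofNat 1],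
  [Int.ofNat 2, Int.ofNat 0, Int.ofNat 0, Int.ofNat 2, Int.ofNat 0, Int.ofNat 2, Int.ofNat 0, Int.ofNat 0, Int.ofNat 0, Int.ofNat 2, Int.ofNat 0, Int.ofNat 0, Int.ofNat 0, Int.ofNat 0, Int.ofNat 2, Int.ofNat 0, Int.ofNat 0, Int.ofNat 0, Int.ofNat 2, Int.ofNat 0, Int.ofNat 0, Int.ofNat 2, Int.ofNat 2, Int.ofNat 0],
  [Int.ofNat 0, Int.ofNat 0, Int.ofNat 2, Int.ofNat 0, Int.ofNat 2, Int.ofNat 0, Int.ofNat 0, Int.ofNat 0, Int.ofNat 2, Int.ofNat 0, Int.ofNat 0, Int.ofNat 0, Int.ofNat 0, Int.ofNat 2, Int.ofNat 0, Int.ofNat 0, Int.ofNat 0, Int.ofNat 2, Int.ofNat 0, Int.ofNat 0, Int.ofNat 2, Int.ofNat 2, Int.ofNat 2, Int.ofNat 0],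
  [Int.ofNat 0, Int.ofNat 0, Int.negSucc 1, Int.ofNat 0, Int.ofNat 2, Int.ofNat 0, Int.ofNat 0, Int.ofNat 0, Int.ofNat 2, Int.ofNat 0, Int.ofNat 0, Int.ofNat 0, Int.ofNat 0, Int.ofNat 2, Int.ofNat 0, Int.ofNat 0, Int.ofNat 0, Int.ofNat 2, Int.ofNat 0, Int.ofNat 0, Int.ofNat 2, Int.negSucc 1, Int.ofNat 2, Int.ofNat 0],
  [Int.ofNat 0, Int.ofNat 0, Int.ofNat 2, Int.ofNat 0, Int.negSucc 1, Int.ofNat 0, Int.ofNat 0, Int.ofNat 0, Int.negSucc 1, Int.ofNat 0, Int.ofNat 0, Int.ofNat 0, Int.ofNat 0, Int.negSucc 1, Int.ofNat 0, Int.ofNat 0, Int.ofNat 0, Int.ofNat 2, Int.ofNat 0, Int.ofNat 0, Int.ofNat 2, Int.negSucc 1, Int.ofNat 2, Int.ofNat 0],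
  [Int.ofNat 0, Int.ofNat 2, Int.ofNat 0, Int.ofNat 0, Int.ofNat 2, Int.ofNat 0, Int.ofNat 0, Int.negSucc 1, Int.ofNat 2, Int.ofNat 0, Int.ofNat 0, Int.ofNat 2, Int.negSucc 1, Int.ofNat 0, Int.ofNat 0, Int.ofNat 0, Int.ofNat 0, Int.negSucc 1, Int.ofNat 0, Int.ofNat 0, Int.negSucc 1, Int.ofNat 0, Int.ofNat 0, Int.ofNat 0],
  [Int.ofNat 0, Int.ofNat 2, Int.ofNat 0, Int.ofNat 0, Int.ofNat 2, Int.ofNat 0, Int.ofNat 0, Int.ofNat 2, Int.ofNat 2, Int.ofNat 0, Int.ofNat 0, Int.negSucc 1, Int.negSucc 1, Int.ofNat 0, Int.ofNat 0, Int.ofNat 0, Int.ofNat 0, Int.negSucc 1, Int.ofNat 0, Int.ofNat 0, Int.negSucc 1, Int.ofNat 0, Int.ofNat 0, Int.ofNat 0],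
  [Int.ofNat 0, Int.ofNat 0, Int.ofNat 2, Int.ofNat 0, Int.ofNat 0, Int.ofNat 2, Int.ofNat 0, Int.ofNat 0, Int.ofNat 2, Int.ofNat 2, Int.ofNat 0, Int.ofNat 0, Int.negSucc 1, Int.negSucc 1, Int.ofNat 0, Int.ofNat 0, Int.ofNat 0, Int.ofNat 0, Int.negSucc 1, Int.ofNat 0, Int.ofNat 0, Int.negSucc 1, Int.ofNat 0, Int.ofNat 0],
  [Int.ofNat 1, Int.ofNat 1, Int.negSucc 0, Int.negSucc 0, Int.ofNat 1, Int.ofNat 1, Int.ofNat 1, Int.ofNat 1, Int.ofNat 3, Int.ofNat 1, Int.negSucc 0, Int.ofNat 1, Int.negSucc 0, Int.negSucc 0, Int.negSucc 0, Int.negSucc 0, Int.ofNat 1, Int.negSucc 0, Int.negSucc 0, Int.ofNat 1, Int.negSucc 0, Int.negSucc 0, Int.ofNat 1, Int.ofNat 1],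
  [Int.negSucc 0, Int.ofNat 1, Int.ofNat 1, Int.ofNat 1, Int.ofNat 1, Int.ofNat 3, Int.ofNat 1, Int.negSucc 0, Int.ofNat 1, Int.negSucc 0, Int.negSucc 0, Int.negSucc 0, Int.negSucc 0, Int.ofNat 1, Int.negSucc 0, Int.negSucc 0, Int.ofNat 1, Int.negSucc 0, Int.negSucc 0, Int.ofNat 1, Int.ofNat 1, Int.ofNat 1, Int.negSucc 0, Int.ofNat 1],
  [Int.ofNat 2, Int.ofNat 0, Int.ofNat 0, Int.ofNat 0, Int.ofNat 0, Int.ofNat 2, Int.ofNat 0, Int.negSucc 1, Int.ofNat 2, Int.ofNat 0, Int.ofNat 0, Int.ofNat 0, Int.ofNat 0, Int.ofNat 0, Int.negSucc 1, Int.ofNat 0, Int.ofNat 0, Int.negSucc 1, Int.ofNat 0, Int.ofNat 0, Int.ofNat 2, Int.ofNat 0, Int.negSucc 1, Int.ofNat 0],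
  [Int.ofNat 2, Int.ofNat 0, Int.ofNat 0, Int.ofNat 0, Int.ofNat 0, Int.negSucc 1, Int.ofNat 0, Int.ofNat 0, Int.ofNat 0, Int.ofNat 0, Int.ofNat 2, Int.negSucc 1, Int.ofNat 0, Int.ofNat 0, Int.negSucc 1, Int.ofNat 0, Int.ofNat 2, Int.negSucc 1, Int.ofNat 0, Int.ofNat 0, Int.ofNat 0, Int.ofNat 2, Int.ofNat 0, Int.ofNat 0],
  [Int.negSucc 0, Int.ofNat 1, Int.ofNat 1, Int.ofNat 3, Int.negSucc 0, Int.ofNat 1, Int.negSucc 0, Int.negSucc 0, Int.ofNat 1, Int.negSucc 0, Int.ofNat 1, Int.negSucc 0, Int.ofNat 1, Int.negSucc 0, Int.ofNat 1, Int.negSucc 0, Int.ofNat 1, Int.ofNat 1, Int.ofNat 1, Int.negSucc 0, Int.negSucc 0, Int.ofNat 1, Int.negSucc 0, Int.ofNat 1],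
  [Int.negSucc 0, Int.ofNat 1, Int.negSucc 0, Int.ofNat 3, Int.negSucc 0, Int.negSucc 0, Int.ofNat 1, Int.negSucc 0, Int.ofNat 1, Int.ofNat 1, Int.negSucc 0, Int.negSucc 0, Int.ofNat 1, Int.negSucc 0, Int.ofNat 1, Int.ofNat 1, Int.ofNat 1, Int.ofNat 1, Int.negSucc 0, Int.negSucc 0, Int.negSucc 0, Int.ofNat 1, Int.ofNat 1, Int.ofNat 1],
  [Int.negSucc 0, Int.ofNat 1, Int.ofNat 1, Int.ofNat 1, Int.ofNat 1, Int.negSucc 0, Int.negSucc 0, Int.negSucc 0, Int.negSucc 0, Int.negSucc 0, Int.ofNat 1, Int.ofNat 3, Int.ofNat 1, Int.negSucc 0, Int.negSucc 0, Int.ofNat 1, Int.ofNat 1, Int.negSucc 0, Int.negSucc 0, Int.ofNat 1, Int.ofNat 1, Int.negSucc 0, Int.ofNat 1, Int.ofNat 1],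
  [Int.negSucc 0, Int.ofNat 1, Int.negSucc 0, Int.ofNat 1, Int.ofNat 1, Int.ofNat 1, Int.ofNat 1, Int.negSucc 0, Int.negSucc 0, Int.ofNat 1, Int.negSucc 0, Int.ofNat 3, Int.ofNat 1, Int.negSucc 0, Int.negSucc 0, Int.negSucc 0, Int.ofNat 1, Int.negSucc 0, Int.ofNat 1, Int.ofNat 1, Int.ofNat 1, Int.negSucc 0, Int.negSucc 0, Int.ofNat 1],
  [Int.ofNat 1, Int.negSucc 0, Int.ofNat 1, Int.ofNat 1, Int.ofNat 1, Int.ofNat 1, Int.ofNat 1, Int.negSucc 0, Int.negSucc 2, Int.ofNat 1, Int.negSucc 0, Int.ofNat 1, Int.negSucc 0, Int.negSucc 0, Int.negSucc 0, Int.negSucc 0, Int.ofNat 1, Int.negSucc 0, Int.negSucc 0, Int.ofNat 1, Int.ofNat 1, Int.negSucc 0, Int.negSucc 0, Int.negSucc 0],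
  [Int.ofNat 1, Int.negSucc 0, Int.ofNat 1, Int.ofNat 1, Int.ofNat 1, Int.negSucc 0, Int.negSucc 0, Int.ofNat 1, Int.ofNat 1, Int.negSucc 0, Int.negSucc 0, Int.ofNat 1, Int.negSucc 2, Int.ofNat 1, Int.negSucc 0, Int.negSucc 0, Int.negSucc 0, Int.ofNat 1, Int.ofNat 1, Int.negSucc 0, Int.negSucc 0, Int.ofNat 1, Int.negSucc 0, Int.negSucc 0],
  [Int.negSucc 0, Int.ofNat 1, Int.negSucc 0, Int.ofNat 1, Int.ofNat 1, Int.negSucc 0, Int.negSucc 0, Int.ofNat 1, Int.ofNat 1, Int.ofNat 1, Int.ofNat 1, Int.ofNat 1, Int.negSucc 2, Int.ofNat 1, Int.negSucc 0, Int.ofNat 1, Int.negSucc 0, Int.ofNat 1, Int.ofNat 1, Int.negSucc 0, Int.ofNat 1, Int.ofNat 1, Int.negSucc 0, Int.ofNat 1],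
  [Int.ofNat 1, Int.ofNat 1, Int.negSucc 0, Int.negSucc 0, Int.ofNat 1, Int.negSucc 0, Int.ofNat 1, Int.ofNat 1, Int.negSucc 0, Int.negSucc 0, Int.ofNat 1, Int.ofNat 1, Int.ofNat 1, Int.ofNat 1, Int.ofNat 1, Int.negSucc 2, Int.ofNat 1, Int.negSucc 0, Int.ofNat 1, Int.negSucc 0, Int.ofNat 1, Int.ofNat 1, Int.negSucc 0, Int.ofNat 1],
  [Int.ofNat 0, Int.ofNat 0, Int.ofNat 2, Int.ofNat 0, Int.ofNat 0, Int.ofNat 0, Int.ofNat 0, Int.ofNat 0, Int.negSucc 1, Int.ofNat 0, Int.ofNat 2, Int.ofNat 0, Int.ofNat 0, Int.ofNat 0, Int.ofNat 2, Int.negSucc 1, Int.ofNat 0, Int.ofNat 0, Int.ofNat 0, Int.negSucc 1, Int.ofNat 2, Int.ofNat 0, Int.negSucc 1, Int.ofNat 0],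
  [Int.ofNat 0, Int.ofNat 2, Int.ofNat 0, Int.ofNat 0, Int.ofNat 0, Int.ofNat 0, Int.ofNat 0, Int.negSucc 1, Int.ofNat 0, Int.ofNat 2, Int.ofNat 0, Int.ofNat 0, Int.ofNat 0, Int.ofNat 2, Int.negSucc 1, Int.ofNat 0, Int.ofNat 0, Int.ofNat 0, Int.negSucc 1, Int.ofNat 2, Int.ofNat 0, Int.negSucc 1, Int.ofNat 0, Int.ofNat 0],
  [Int.ofNat 0, Int.ofNat 2, Int.ofNat 0, Int.ofNat 0, Int.ofNat 0, Int.ofNat 0, Int.ofNat 0, Int.ofNat 2, Int.ofNat 0, Int.negSucc 1, Int.ofNat 0, Int.ofNat 0, Int.ofNat 0, Int.ofNat 2, Int.negSucc 1, Int.ofNat 0, Int.ofNat 0, Int.ofNat 0, Int.ofNat 2, Int.ofNat 2, Int.ofNat 0, Int.ofNat 2, Int.ofNat 0, Int.ofNat 0],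
  [Int.ofNat 0, Int.negSucc 1, Int.ofNat 0, Int.ofNat 0, Int.ofNat 0, Int.ofNat 0, Int.ofNat 0, Int.ofNat 2, Int.ofNat 0, Int.ofNat 2, Int.ofNat 0, Int.ofNat 0, Int.ofNat 0, Int.negSucc 1, Int.negSucc 1, Int.ofNat 0, Int.ofNat 0, Int.ofNat 0, Int.negSucc 1, Int.ofNat 2, Int.ofNat 0, Int.ofNat 2, Int.ofNat 0, Int.ofNat 0],
  [Int.ofNat 0, Int.ofNat 0, Int.ofNat 0, Int.ofNat 0, Int.ofNat 0, Int.ofNat 2, Int.ofNat 2, Int.negSucc 1, Int.ofNat 0, Int.ofNat 0, Int.ofNat 0, Int.ofNat 0, Int.ofNat 2, Int.ofNat 2, Int.negSucc 1, Int.ofNat 0, Int.ofNat 0, Int.ofNat 0, Int.negSucc 1, Int.ofNat 0, Int.ofNat 0, Int.ofNat 0, Int.negSucc 1, Int.ofNat 0],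
  [Int.ofNat 0, Int.ofNat 0, Int.ofNat 0, Int.ofNat 0, Int.ofNat 0, Int.ofNat 2, Int.ofNat 2, Int.ofNat 2, Int.ofNat 0, Int.ofNat 0, Int.ofNat 0, Int.ofNat 0, Int.ofNat 2, Int.ofNat 2, Int.negSucc 1, Int.ofNat 0, Int.ofNat 0, Int.ofNat 0, Int.ofNat 2, Int.ofNat 0, Int.ofNat 0, Int.ofNat 0, Int.negSucc 1, Int.ofNat 0],
  [Int.negSucc 1, Int.ofNat 0, Int.ofNat 0, Int.ofNat 0, Int.ofNat 0, Int.ofNat 0, Int.ofNat 2, Int.ofNat 2, Int.ofNat 2, Int.ofNat 0, Int.ofNat 0, Int.ofNat 0, Int.ofNat 0, Int.ofNat 2, Int.ofNat 2, Int.negSucc 1, Int.ofNat 0, Int.ofNat 0, Int.ofNat 0, Int.ofNat 2, Int.ofNat 0, Int.ofNat 0, Int.ofNat 0, Int.ofNat 0],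
  [Int.ofNat 1, Int.negSucc 0, Int.negSucc 0, Int.negSucc 0, Int.negSucc 0, Int.negSucc 0, Int.negSucc 0, Int.negSucc 0, Int.ofNat 1, Int.ofNat 1, Int.ofNat 1, Int.negSucc 0, Int.negSucc 0, Int.ofNat 1, Int.ofNat 1, Int.negSucc 0, Int.negSucc 0, Int.negSucc 0, Int.negSucc 0, Int.negSucc 0, Int.ofNat 1, Int.negSucc 2, Int.negSucc 0, Int.negSucc 0],
  [Int.negSucc 0, Int.negSucc 0, Int.negSucc 0, Int.negSucc 0, Int.negSucc 0, Int.ofNat 1, Int.ofNat 1, Int.ofNat 1, Int.negSucc 0, Int.negSucc 0, Int.ofNat 1, Int.ofNat 1, Int.negSucc 0, Int.negSucc 0, Int.negSucc 0, Int.negSucc 0, Int.negSucc 0, Int.ofNat 1, Int.negSucc 2, Int.negSucc 0, Int.ofNat 1, Int.negSucc 0, Int.negSucc 0, Int.negSucc 0],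
  [Int.negSucc 0, Int.negSucc 0, Int.negSucc 0, Int.negSucc 0, Int.ofNat 1, Int.ofNat 1, Int.ofNat 1, Int.ofNat 1, Int.ofNat 1, Int.negSucc 0, Int.ofNat 1, Int.ofNat 3, Int.ofNat 1, Int.ofNat 1, Int.negSucc 0, Int.negSucc 0, Int.ofNat 1, Int.ofNat 1, Int.negSucc 0, Int.negSucc 0, Int.ofNat 1, Int.negSucc 0, Int.ofNat 1, Int.negSucc 0],
  [Int.negSucc 0, Int.ofNat 1, Int.ofNat 1, Int.negSucc 0, Int.negSucc 0, Int.ofNat 1, Int.negSucc 0, Int.ofNat 1, Int.ofNat 1, Int.ofNat 1, Int.ofNat 1, Int.ofNat 1, Int.negSucc 0, Int.ofNat 1, Int.ofNat 1, Int.negSucc 0, Int.ofNat 1, Int.negSucc 0, Int.negSucc 0, Int.ofNat 3, Int.negSucc 0, Int.ofNat 1, Int.negSucc 0, Int.negSucc 0],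
  [Int.ofNat 1, Int.negSucc 0, Int.negSucc 0, Int.negSucc 0, Int.negSucc 0, Int.ofNat 1, Int.negSucc 2, Int.negSucc 0, Int.ofNat 1, Int.ofNat 1, Int.ofNat 1, Int.ofNat 1, Int.negSucc 0, Int.ofNat 1, Int.ofNat 1, Int.negSucc 0, Int.ofNat 1, Int.negSucc 0, Int.negSucc 0, Int.ofNat 1, Int.negSucc 0, Int.negSucc 0, Int.negSucc 0, Int.ofNat 1],
  [Int.ofNat 1, Int.negSucc 0, Int.ofNat 1, Int.negSucc 0, Int.negSucc 0, Int.negSucc 0, Int.ofNat 3, Int.negSucc 0, Int.ofNat 1, Int.negSucc 0, Int.negSucc 0, Int.ofNat 1, Int.negSucc 0, Int.ofNat 1, Int.ofNat 1, Int.ofNat 1, Int.ofNat 1, Int.negSucc 0, Int.ofNat 1, Int.ofNat 1, Int.negSucc 0, Int.negSucc 0, Int.ofNat 1, Int.ofNat 1],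
  [Int.ofNat 1, Int.ofNat 1, Int.ofNat 1, Int.ofNat 1, Int.negSucc 0, Int.negSucc 0, Int.ofNat 1, Int.ofNat 1, Int.negSucc 0, Int.negSucc 0, Int.ofNat 3, Int.negSucc 0, Int.ofNat 1, Int.ofNat 1, Int.negSucc 0, Int.negSucc 0, Int.negSucc 0, Int.ofNat 1, Int.ofNat 1, Int.negSucc 0, Int.negSucc 0, Int.negSucc 0, Int.ofNat 1, Int.ofNat 1],
  [Int.ofNat 1, Int.ofNat 1, Int.negSucc 0, Int.ofNat 1, Int.negSucc 0, Int.ofNat 1, Int.negSucc 0, Int.ofNat 1, Int.negSucc 0, Int.ofNat 1, Int.negSucc 2, Int.negSucc 0, Int.ofNat 1, Int.ofNat 1, Int.negSucc 0, Int.ofNat 1, Int.negSucc 0, Int.ofNat 1, Int.negSucc 0, Int.negSucc 0, Int.negSucc 0, Int.negSucc 0, Int.negSucc 0, Int.ofNat 1],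
  [Int.ofNat 0, Int.ofNat 0, Int.ofNat 2, Int.ofNat 0, Int.ofNat 0, Int.ofNat 0, Int.ofNat 0, Int.ofNat 2, Int.ofNat 0, Int.ofNat 2, Int.negSucc 1, Int.ofNat 0, Int.ofNat 2, Int.ofNat 2, Int.negSucc 1, Int.ofNat 2, Int.ofNat 0, Int.ofNat 0, Int.ofNat 0, Int.ofNat 0, Int.ofNat 0, Int.ofNat 0, Int.ofNat 0, Int.ofNat 0],
  [Int.ofNat 0, Int.ofNat 0, Int.ofNat 0, Int.ofNat 0, Int.ofNat 2, Int.ofNat 0, Int.ofNat 0, Int.ofNat 0, Int.ofNat 0, Int.ofNat 2, Int.ofNat 2, Int.ofNat 0, Int.ofNat 0, Int.ofNat 2, Int.ofNat 0, Int.ofNat 2, Int.ofNat 2, Int.ofNat 0, Int.ofNat 0, Int.ofNat 0, Int.negSucc 1, Int.ofNat 0, Int.negSucc 1, Int.ofNat 0],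
  [Int.ofNat 0, Int.ofNat 0, Int.ofNat 0, Int.ofNat 0, Int.ofNat 0, Int.ofNat 0, Int.ofNat 0, Int.ofNat 0, Int.ofNat 0, Int.ofNat 0, Int.ofNat 0, Int.ofNat 0, Int.ofNat 0, Int.ofNat 0, Int.ofNat 0, Int.ofNat 0, Int.ofNat 0, Int.ofNat 0, Int.ofNat 0, Int.ofNat 0, Int.negSucc 3, Int.ofNat 0, Int.negSucc 3, Int.ofNat 0],
  [Int.negSucc 3, Int.ofNat 0, Int.negSucc 3, Int.ofNat 0, Int.ofNat 0, Int.ofNat 0, Int.ofNat 0, Int.ofNat 0, Int.ofNat 0, Int.ofNat 0, Int.ofNat 0, Int.ofNat 0, Int.ofNat 0, Int.ofNat 0, Int.ofNat 0, Int.ofNat 0, Int.ofNat 0, Int.ofNat 0, Int.ofNat 0, Int.ofNat 0, Int.ofNat 0, Int.ofNat 0, Int.ofNat 0, Int.ofNat 0],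
  [Int.ofNat 0, Int.negSucc 3, Int.ofNat 0, Int.ofNat 0, Int.ofNat 0, Int.ofNat 0, Int.ofNat 0, Int.ofNat 0, Int.ofNat 0, Int.ofNat 0, Int.ofNat 0, Int.ofNat 0, Int.ofNat 0, Int.ofNat 0, Int.ofNat 0, Int.ofNat 0, Int.ofNat 0, Int.ofNat 0, Int.ofNat 0, Int.ofNat 0, Int.ofNat 0, Int.ofNat 0, Int.ofNat 0, Int.negSucc 3],
  [Int.negSucc 3, Int.ofNat 0, Int.ofNat 0, Int.ofNat 0, Int.ofNat 0, Int.ofNat 0, Int.ofNat 0, Int.ofNat 0, Int.ofNat 0, Int.ofNat 0, Int.ofNat 0, Int.ofNat 0, Int.ofNat 0, Int.ofNat 0, Int.ofNat 0, Int.ofNat 0, Int.ofNat 0, Int.ofNat 0, Int.ofNat 0, Int.ofNat 0, Int.ofNat 0, Int.ofNat 0, Int.ofNat 0, Int.negSucc 3],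
  [Int.ofNat 4, Int.ofNat 0, Int.ofNat 0, Int.ofNat 0, Int.ofNat 0, Int.ofNat 0, Int.ofNat 0, Int.ofNat 0, Int.ofNat 0, Int.ofNat 0, Int.ofNat 0, Int.ofNat 0, Int.ofNat 0, Int.ofNat 0, Int.ofNat 0, Int.ofNat 0, Int.ofNat 0, Int.ofNat 0, Int.ofNat 0, Int.ofNat 0, Int.ofNat 0, Int.ofNat 0, Int.ofNat 0, Int.negSucc 3],
  [Int.negSucc 3, Int.ofNat 0, Int.ofNat 0, Int.ofNat 0, Int.ofNat 0, Int.ofNat 0, Int.ofNat 0, Int.ofNat 0, Int.ofNat 0, Int.ofNat 0, Int.ofNat 0, Int.ofNat 0, Int.ofNat 0, Int.ofNat 0, Int.ofNat 0, Int.ofNat 0, Int.ofNat 0, Int.ofNat 0, Int.ofNat 0, Int.ofNat 0, Int.ofNat 0, Int.ofNat 0, Int.ofNat 0, Int.negSucc 3],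
  [Int.negSucc 3, Int.ofNat 0, Int.ofNat 0, Int.ofNat 0, Int.ofNat 0, Int.ofNat 0, Int.ofNat 0, Int.ofNat 0, Int.ofNat 0, Int.ofNat 0, Int.ofNat 0, Int.ofNat 0, Int.ofNat 0, Int.ofNat 0, Int.ofNat 0, Int.ofNat 0, Int.ofNat 0, Int.ofNat 0, Int.ofNat 0, Int.ofNat 0, Int.ofNat 0, Int.ofNat 0, Int.ofNat 0, Int.negSucc 3],
  [Int.ofNat 4, Int.ofNat 0, Int.ofNat 0, Int.ofNat 0, Int.ofNat 0, Int.ofNat 0, Int.ofNat 0, Int.ofNat 0, Int.ofNat 0, Int.ofNat 0, Int.ofNat 0, Int.ofNat 0, Int.ofNat 0, Int.ofNat 0, Int.ofNat 0, Int.ofNat 0, Int.ofNat 0, Int.ofNat 0, Int.ofNat 0, Int.ofNat 0, Int.ofNat 0, Int.ofNat 0, Int.ofNat 0, Int.negSucc 3],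
  [Int.ofNat 0, Int.ofNat 4, Int.ofNat 0, Int.ofNat 0, Int.ofNat 0, Int.ofNat 0, Int.ofNat 0, Int.ofNat 0, Int.ofNat 0, Int.ofNat 0, Int.ofNat 0, Int.ofNat 0, Int.ofNat 0, Int.ofNat 0, Int.ofNat 0, Int.ofNat 0, Int.ofNat 0, Int.ofNat 0, Int.ofNat 0, Int.ofNat 0, Int.ofNat 0, Int.ofNat 0, Int.ofNat 0, Int.negSucc 3],
  [Int.ofNat 0, Int.negSucc 3, Int.ofNat 0, Int.ofNat 0, Int.ofNat 0, Int.ofNat 0, Int.ofNat 0, Int.ofNat 0, Int.ofNat 0, Int.ofNat 0, Int.ofNat 0, Int.ofNat 0, Int.ofNat 0, Int.ofNat 0, Int.ofNat 0, Int.ofNat 0, Int.ofNat 0, Int.ofNat 0, Int.ofNat 0, Int.ofNat 0, Int.ofNat 0, Int.ofNat 0, Int.ofNat 0, Int.ofNat 4],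
  [Int.ofNat 0, Int.ofNat 0, Int.ofNat 0, Int.ofNat 0, Int.ofNat 0, Int.ofNat 0, Int.ofNat 0, Int.ofNat 0, Int.ofNat 0, Int.ofNat 0, Int.ofNat 0, Int.ofNat 0, Int.ofNat 0, Int.ofNat 0, Int.ofNat 0, Int.ofNat 0, Int.ofNat 0, Int.ofNat 0, Int.ofNat 0, Int.ofNat 0, Int.ofNat 0, Int.negSucc 3, Int.ofNat 0, Int.ofNat 4],
  [Int.ofNat 2, Int.ofNat 2, Int.ofNat 2, Int.ofNat 0, Int.ofNat 0, Int.ofNat 0, Int.ofNat 2, Int.ofNat 2, Int.ofNat 0, Int.ofNat 0, Int.ofNat 0, Int.ofNat 0, Int.ofNat 0, Int.ofNat 0, Int.ofNat 0, Int.ofNat 0, Int.ofNat 0, Int.ofNat 0, Int.ofNat 0, Int.ofNat 2, Int.ofNat 0, Int.negSucc 1, Int.ofNat 0, Int.negSucc 1],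
  [Int.ofNat 2, Int.ofNat 2, Int.ofNat 0, Int.ofNat 0, Int.ofNat 0, Int.ofNat 2, Int.ofNat 2, Int.ofNat 0, Int.ofNat 0, Int.ofNat 0, Int.ofNat 0, Int.ofNat 0, Int.ofNat 0, Int.ofNat 0, Int.ofNat 0, Int.ofNat 0, Int.ofNat 0, Int.ofNat 0, Int.ofNat 2, Int.ofNat 0, Int.negSucc 1, Int.ofNat 0, Int.ofNat 2, Int.negSucc 1],
  [Int.negSucc 0, Int.negSucc 0, Int.ofNat 1, Int.negSucc 0, Int.negSucc 0, Int.ofNat 1, Int.ofNat 1, Int.negSucc 0, Int.negSucc 0, Int.ofNat 1, Int.ofNat 1, Int.negSucc 0, Int.negSucc 0, Int.negSucc 0, Int.negSucc 0, Int.ofNat 1, Int.negSucc 0, Int.negSucc 0, Int.ofNat 1, Int.negSucc 0, Int.negSucc 0, Int.negSucc 0, Int.ofNat 1, Int.ofNat 3],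
  [Int.negSucc 0, Int.negSucc 0, Int.negSucc 0, Int.negSucc 0, Int.negSucc 0, Int.negSucc 0, Int.negSucc 0, Int.negSucc 0, Int.negSucc 0, Int.negSucc 0, Int.negSucc 0, Int.negSucc 0, Int.negSucc 0, Int.negSucc 0, Int.negSucc 0, Int.negSucc 0, Int.negSucc 0, Int.negSucc 0, Int.negSucc 0, Int.negSucc 0, Int.negSucc 0, Int.negSucc 0, Int.negSucc 0, Int.ofNat 3],
  [Int.negSucc 0, Int.negSucc 0, Int.negSucc 0, Int.negSucc 0, Int.negSucc 0, Int.negSucc 0, Int.negSucc 0, Int.negSucc 0, Int.negSucc 0, Int.negSucc 0, Int.negSucc 0, Int.negSucc 0, Int.negSucc 0, Int.negSucc 0, Int.negSucc 0, Int.negSucc 0, Int.negSucc 0, Int.negSucc 0, Int.negSucc 0, Int.negSucc 0, Int.negSucc 0, Int.negSucc 0, Int.negSucc 0, Int.ofNat 3],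
  [Int.negSucc 0, Int.negSucc 0, Int.ofNat 1, Int.negSucc 0, Int.negSucc 0, Int.ofNat 1, Int.ofNat 1, Int.negSucc 0, Int.negSucc 0, Int.ofNat 1, Int.ofNat 1, Int.negSucc 0, Int.negSucc 0, Int.negSucc 0, Int.negSucc 0, Int.ofNat 1, Int.negSucc 0, Int.negSucc 0, Int.ofNat 1, Int.negSucc 0, Int.negSucc 0, Int.negSucc 0, Int.ofNat 1, Int.ofNat 3],
  [Int.ofNat 2, Int.ofNat 2, Int.ofNat 0, Int.ofNat 0, Int.ofNat 0, Int.ofNat 2, Int.ofNat 2, Int.ofNat 0, Int.ofNat 0, Int.ofNat 0, Int.ofNat 0, Int.ofNat 0, Int.ofNat 0, Int.ofNat 0, Int.ofNat 0, Int.ofNat 0, Int.ofNat 0, Int.ofNat 0, Int.ofNat 2, Int.ofNat 0, Int.negSucc 1, Int.ofNat 0, Int.ofNat 2, Int.negSucc 1],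
  [Int.ofNat 2, Int.ofNat 2, Int.ofNat 2, Int.ofNat 0, Int.ofNat 0, Int.ofNat 0, Int.ofNat 2, Int.ofNat 2, Int.ofNat 0, Int.ofNat 0, Int.ofNat 0, Int.ofNat 0, Int.ofNat 0, Int.ofNat 0, Int.ofNat 0, Int.ofNat 0, Int.ofNat 0, Int.ofNat 0, Int.ofNat 0, Int.ofNat 2, Int.ofNat 0, Int.negSucc 1, Int.ofNat 0, Int.negSucc 1],
  [Int.ofNat 0, Int.ofNat 0, Int.ofNat 0, Int.ofNat 0, Int.ofNat 0, Int.ofNat 0, Int.ofNat 0, Int.ofNat 0, Int.ofNat 0, Int.ofNat 0, Int.ofNat 0, Int.ofNat 0, Int.ofNat 0, Int.ofNat 0, Int.ofNat 0, Int.ofNat 0, Int.ofNat 0, Int.ofNat 0, Int.ofNat 0, Int.ofNat 0, Int.ofNat 0, Int.negSucc 3, Int.ofNat 0, Int.ofNat 4],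
  [Int.ofNat 0, Int.negSucc 3, Int.ofNat 0, Int.ofNat 0, Int.ofNat 0, Int.ofNat 0, Int.ofNat 0, Int.ofNat 0, Int.ofNat 0, Int.ofNat 0, Int.ofNat 0, Int.ofNat 0, Int.ofNat 0, Int.ofNat 0, Int.ofNat 0, Int.ofNat 0, Int.ofNat 0, Int.ofNat 0, Int.ofNat 0, Int.ofNat 0, Int.ofNat 0, Int.ofNat 0, Int.ofNat 0, Int.ofNat 4],
  [Int.ofNat 0, Int.ofNat 4, Int.ofNat 0, Int.ofNat 0, Int.ofNat 0, Int.ofNat 0, Int.ofNat 0, Int.ofNat 0, Int.ofNat 0, Int.ofNat 0, Int.ofNat 0, Int.ofNat 0, Int.ofNat 0, Int.ofNat 0, Int.ofNat 0, Int.ofNat 0, Int.ofNat 0, Int.ofNat 0, Int.ofNat 0, Int.ofNat 0, Int.ofNat 0, Int.ofNat 0, Int.ofNat 0, Int.negSucc 3],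
  [Int.ofNat 4, Int.ofNat 0, Int.ofNat 0, Int.ofNat 0, Int.ofNat 0, Int.ofNat 0, Int.ofNat 0, Int.ofNat 0, Int.ofNat 0, Int.ofNat 0, Int.ofNat 0, Int.ofNat 0, Int.ofNat 0, Int.ofNat 0, Int.ofNat 0, Int.ofNat 0, Int.ofNat 0, Int.ofNat 0, Int.ofNat 0, Int.ofNat 0, Int.ofNat 0, Int.ofNat 0, Int.ofNat 0, Int.negSucc 3],
  [Int.negSucc 3, Int.ofNat 0, Int.ofNat 0, Int.ofNat 0, Int.ofNat 0, Int.ofNat 0, Int.ofNat 0, Int.ofNat 0, Int.ofNat 0, Int.ofNat 0, Int.ofNat 0, Int.ofNat 0, Int.ofNat 0, Int.ofNat 0, Int.ofNat 0, Int.ofNat 0, Int.ofNat 0, Int.ofNat 0, Int.ofNat 0, Int.ofNat 0, Int.ofNat 0, Int.ofNat 0, Int.ofNat 0, Int.negSucc 3],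
  [Int.ofNat 4, Int.ofNat 0, Int.ofNat 0, Int.ofNat 0, Int.ofNat 0, Int.ofNat 0, Int.ofNat 0, Int.ofNat 0, Int.ofNat 0, Int.ofNat 0, Int.ofNat 0, Int.ofNat 0, Int.ofNat 0, Int.ofNat 0, Int.ofNat 0, Int.ofNat 0, Int.ofNat 0, Int.ofNat 0, Int.ofNat 0, Int.ofNat 0, Int.ofNat 0, Int.ofNat 0, Int.ofNat 0, Int.negSucc 3],
  [Int.negSucc 3, Int.ofNat 0, Int.ofNat 0, Int.ofNat 0, Int.ofNat 0, Int.ofNat 0, Int.ofNat 0, Int.ofNat 0, Int.ofNat 0, Int.ofNat 0, Int.ofNat 0, Int.ofNat 0, Int.ofNat 0, Int.ofNat 0, Int.ofNat 0, Int.ofNat 0, Int.ofNat 0, Int.ofNat 0, Int.ofNat 0, Int.ofNat 0, Int.ofNat 0, Int.ofNat 0, Int.ofNat 0, Int.ofNat 4],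
  [Int.ofNat 4, Int.ofNat 0, Int.ofNat 0, Int.ofNat 0, Int.ofNat 0, Int.ofNat 0, Int.ofNat 0, Int.ofNat 0, Int.ofNat 0, Int.ofNat 0, Int.ofNat 0, Int.ofNat 0, Int.ofNat 0, Int.ofNat 0, Int.ofNat 0, Int.ofNat 0, Int.ofNat 0, Int.ofNat 0, Int.ofNat 0, Int.ofNat 0, Int.ofNat 0, Int.ofNat 0, Int.ofNat 0, Int.ofNat 4],
  [Int.ofNat 0, Int.ofNat 4, Int.ofNat 0, Int.ofNat 0, Int.ofNat 0, Int.ofNat 0, Int.ofNat 0, Int.ofNat 0, Int.ofNat 0, Int.ofNat 0, Int.ofNat 0, Int.ofNat 0, Int.ofNat 0, Int.ofNat 0, Int.ofNat 0, Int.ofNat 0, Int.ofNat 0, Int.ofNat 0, Int.ofNat 0, Int.ofNat 0, Int.ofNat 0, Int.ofNat 0, Int.ofNat 0, Int.ofNat 4],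
  [Int.ofNat 4, Int.ofNat 0, Int.ofNat 4, Int.ofNat 0, Int.ofNat 0, Int.ofNat 0, Int.ofNat 0, Int.ofNat 0, Int.ofNat 0, Int.ofNat 0, Int.ofNat 0, Int.ofNat 0, Int.ofNat 0, Int.ofNat 0, Int.ofNat 0, Int.ofNat 0, Int.ofNat 0, Int.ofNat 0, Int.ofNat 0, Int.ofNat 0, Int.ofNat 0, Int.ofNat 0, Int.ofNat 0, Int.ofNat 0],
  [Int.ofNat 0, Int.ofNat 0, Int.ofNat 0, Int.ofNat 0, Int.ofNat 0, Int.ofNat 0, Int.ofNat 0, Int.ofNat 0, Int.ofNat 0, Int.ofNat 0, Int.ofNat 0, Int.ofNat 0, Int.ofNat 0, Int.ofNat 0, Int.ofNat 0, Int.ofNat 0, Int.ofNat 0, Int.ofNat 0, Int.ofNat 0, Int.ofNat 0, Int.ofNat 4, Int.ofNat 0, Int.ofNat 4, Int.ofNat 0],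
  [Int.ofNat 0, Int.ofNat 0, Int.ofNat 0, Int.ofNat 0, Int.negSucc 1, Int.ofNat 0, Int.ofNat 0, Int.ofNat 0, Int.ofNat 0, Int.negSucc 1, Int.negSucc 1, Int.ofNat 0, Int.ofNat 0, Int.negSucc 1, Int.ofNat 0, Int.negSucc 1, Int.negSucc 1, Int.ofNat 0, Int.ofNat 0, Int.ofNat 0, Int.ofNat 2, Int.ofNat 0, Int.ofNat 2, Int.ofNat 0],
  [Int.ofNat 0, Int.ofNat 0, Int.negSucc 1, Int.ofNat 0, Int.ofNat 0, Int.ofNat 0, Int.ofNat 0, Int.negSucc 1, Int.ofNat 0, Int.negSucc 1, Int.ofNat 2, Int.ofNat 0, Int.negSucc 1, Int.negSucc 1, Int.ofNat 2, Int.negSucc 1, Int.ofNat 0, Int.ofNat 0, Int.ofNat 0, Int.ofNat 0, Int.ofNat 0, Int.ofNat 0, Int.ofNat 0, Int.ofNat 0],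
  [Int.negSucc 0, Int.negSucc 0, Int.ofNat 1, Int.negSucc 0, Int.ofNat 1, Int.negSucc 0, Int.ofNat 1, Int.negSucc 0, Int.ofNat 1, Int.negSucc 0, Int.ofNat 3, Int.ofNat 1, Int.negSucc 0, Int.negSucc 0, Int.ofNat 1, Int.negSucc 0, Int.ofNat 1, Int.negSucc 0, Int.ofNat 1, Int.ofNat 1, Int.ofNat 1, Int.ofNat 1, Int.ofNat 1, Int.negSucc 0],
  [Int.negSucc 0, Int.negSucc 0, Int.negSucc 0, Int.negSucc 0, Int.ofNat 1, Int.ofNat 1, Int.negSucc 0, Int.negSucc 0, Int.ofNat 1, Int.ofNat 1, Int.negSucc 2, Int.ofNat 1, Int.negSucc 0, Int.negSucc 0, Int.ofNat 1, Int.ofNat 1, Int.ofNat 1, Int.negSucc 0, Int.negSucc 0, Int.ofNat 1, Int.ofNat 1, Int.ofNat 1, Int.negSucc 0, Int.negSucc 0],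
  [Int.ofNat 1, Int.ofNat 1, Int.ofNat 1, Int.ofNat 1, Int.ofNat 1, Int.ofNat 1, Int.negSucc 0, Int.ofNat 1, Int.ofNat 1, Int.negSucc 2, Int.negSucc 0, Int.negSucc 0, Int.negSucc 0, Int.negSucc 0, Int.ofNat 1, Int.negSucc 0, Int.ofNat 1, Int.negSucc 0, Int.negSucc 0, Int.negSucc 0, Int.negSucc 0, Int.negSucc 0, Int.ofNat 1, Int.negSucc 0],
  [Int.ofNat 1, Int.ofNat 1, Int.negSucc 0, Int.ofNat 1, Int.ofNat 1, Int.negSucc 0, Int.ofNat 1, Int.ofNat 1, Int.ofNat 1, Int.ofNat 3, Int.ofNat 1, Int.negSucc 0, Int.negSucc 0, Int.negSucc 0, Int.ofNat 1, Int.ofNat 1, Int.ofNat 1, Int.negSucc 0, Int.ofNat 1, Int.negSucc 0, Int.negSucc 0, Int.negSucc 0, Int.negSucc 0, Int.negSucc 0],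
  [Int.negSucc 0, Int.negSucc 0, Int.ofNat 1, Int.ofNat 1, Int.ofNat 1, Int.negSucc 0, Int.ofNat 1, Int.ofNat 1, Int.ofNat 1, Int.ofNat 1, Int.negSucc 0, Int.negSucc 0, Int.negSucc 0, Int.negSucc 0, Int.ofNat 1, Int.negSucc 0, Int.ofNat 1, Int.negSucc 0, Int.ofNat 1, Int.negSucc 0, Int.negSucc 2, Int.negSucc 0, Int.negSucc 0, Int.ofNat 1],
  [Int.negSucc 0, Int.ofNat 1, Int.ofNat 1, Int.ofNat 1, Int.ofNat 1, Int.negSucc 0, Int.negSucc 0, Int.negSucc 0, Int.ofNat 1, Int.negSucc 0, Int.ofNat 1, Int.negSucc 0, Int.ofNat 1, Int.ofNat 1, Int.negSucc 0, Int.negSucc 0, Int.negSucc 0, Int.negSucc 0, Int.ofNat 1, Int.negSucc 0, Int.negSucc 0, Int.negSucc 2, Int.ofNat 1, Int.ofNat 1],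
  [Int.ofNat 2, Int.ofNat 0, Int.ofNat 0, Int.ofNat 2, Int.ofNat 0, Int.ofNat 0, Int.ofNat 2, Int.ofNat 2, Int.ofNat 0, Int.ofNat 0, Int.ofNat 2, Int.negSucc 1, Int.ofNat 0, Int.ofNat 0, Int.ofNat 0, Int.ofNat 0, Int.negSucc 1, Int.ofNat 0, Int.ofNat 0, Int.ofNat 2, Int.ofNat 0, Int.ofNat 0, Int.ofNat 0, Int.ofNat 0],
  [Int.ofNat 0, Int.ofNat 0, Int.ofNat 0, Int.ofNat 2, Int.ofNat 0, Int.ofNat 0, Int.ofNat 2, Int.ofNat 0, Int.ofNat 0, Int.ofNat 2, Int.ofNat 2, Int.ofNat 0, Int.ofNat 0, Int.ofNat 2, Int.negSucc 1, Int.ofNat 0, Int.ofNat 0, Int.ofNat 0, Int.ofNat 0, Int.negSucc 1, Int.ofNat 0, Int.ofNat 0, Int.ofNat 2, Int.ofNat 0],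
  [Int.ofNat 0, Int.ofNat 0, Int.ofNat 0, Int.ofNat 2, Int.negSucc 1, Int.ofNat 0, Int.ofNat 2, Int.ofNat 0, Int.ofNat 0, Int.ofNat 0, Int.ofNat 0, Int.ofNat 0, Int.ofNat 0, Int.ofNat 0, Int.negSucc 1, Int.negSucc 1, Int.negSucc 1, Int.ofNat 0, Int.ofNat 0, Int.negSucc 1, Int.negSucc 1, Int.ofNat 0, Int.ofNat 0, Int.ofNat 0],
  [Int.ofNat 0, Int.ofNat 0, Int.ofNat 2, Int.negSucc 1, Int.ofNat 0, Int.ofNat 2, Int.ofNat 0, Int.ofNat 0, Int.ofNat 0, Int.ofNat 0, Int.ofNat 0, Int.ofNat 0, Int.ofNat 0, Int.negSucc 1, Int.negSucc 1, Int.negSucc 1, Int.ofNat 0, Int.ofNat 0, Int.negSucc 1, Int.negSucc 1, Int.ofNat 0, Int.ofNat 0, Int.ofNat 0, Int.ofNat 0],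
  [Int.ofNat 0, Int.ofNat 0, Int.negSucc 1, Int.negSucc 1, Int.ofNat 0, Int.ofNat 2, Int.ofNat 0, Int.ofNat 0, Int.ofNat 0, Int.ofNat 0, Int.ofNat 0, Int.ofNat 0, Int.ofNat 0, Int.negSucc 1, Int.negSucc 1, Int.negSucc 1, Int.ofNat 0, Int.ofNat 0, Int.ofNat 2, Int.negSucc 1, Int.ofNat 0, Int.ofNat 0, Int.ofNat 0, Int.ofNat 0]]

set_option maxRecDepth 100000 in
theorem c1e13_chk : pmChk (List.replicate 14 [13, 0, 25]).flatten nxL c1e13M 0 0 = true := by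
  decide +kernel

theorem c1e13_ne : wE letE2 (List.replicate 14 [13, 0, 25]).flatten ≠ 1 ∧ wE letE2 (List.replicate 14 [13, 0, 25]).flatten ≠ negElt :=
  ne_pm_of_chk nxL_mem c1e13_chk

set_option maxRecDepth 100000 in
def c1e14M : List (List ℤ) :=
  [[Int.ofNat 4, Int.ofNat 0, Int.ofNat 0, Int.ofNat 0, Int.ofNat 0, Int.ofNat 0, Int.ofNat 0, Int.ofNat 0, Int.ofNat 0, Int.ofNat 0, Int.ofNat 0, Int.ofNat 0, Int.ofNat 0, Int.ofNat 0, Int.ofNat 0, Int.ofNat 0, Int.ofNat 0, Int.ofNat 0, Int.ofNat 0, Int.ofNat 0, Int.ofNat 0, Int.ofNat 0, Int.ofNat 0, Int.ofNat 4],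
  [Int.ofNat 4, Int.ofNat 0, Int.ofNat 0, Int.ofNat 0, Int.ofNat 0, Int.ofNat 0, Int.ofNat 0, Int.ofNat 0, Int.ofNat 0, Int.ofNat 0, Int.ofNat 0, Int.ofNat 0, Int.ofNat 0, Int.ofNat 0, Int.ofNat 0, Int.ofNat 0, Int.ofNat 0, Int.ofNat 0, Int.ofNat 0, Int.ofNat 0, Int.ofNat 0, Int.ofNat 0, Int.ofNat 0, Int.ofNat 4],
  [Int.negSucc 3, Int.ofNat 0, Int.ofNat 0, Int.ofNat 0, Int.ofNat 0, Int.ofNat 0, Int.ofNat 0, Int.ofNat 0, Int.ofNat 0, Int.ofNat 0, Int.ofNat 0, Int.ofNat 0, Int.ofNat 0, Int.ofNat 0, Int.ofNat 0, Int.ofNat 0, Int.ofNat 0, Int.ofNat 0, Int.ofNat 0, Int.ofNat 0, Int.ofNat 0, Int.ofNat 0, Int.ofNat 0, Int.ofNat 4],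
  [Int.ofNat 0, Int.negSucc 3, Int.ofNat 0, Int.ofNat 0, Int.ofNat 0, Int.ofNat 0, Int.ofNat 0, Int.ofNat 0, Int.ofNat 0, Int.ofNat 0, Int.ofNat 0, Int.ofNat 0, Int.ofNat 0, Int.ofNat 0, Int.ofNat 0, Int.ofNat 0, Int.ofNat 0, Int.ofNat 0, Int.ofNat 0, Int.ofNat 0, Int.ofNat 0, Int.ofNat 0, Int.ofNat 0, Int.ofNat 4],
  [Int.ofNat 0, Int.ofNat 4, Int.ofNat 0, Int.ofNat 0, Int.ofNat 0, Int.ofNat 0, Int.ofNat 0, Int.ofNat 0, Int.ofNat 0, Int.ofNat 0, Int.ofNat 0, Int.ofNat 0, Int.ofNat 0, Int.ofNat 0, Int.ofNat 0, Int.ofNat 0, Int.ofNat 0, Int.ofNat 0, Int.ofNat 0, Int.ofNat 0, Int.ofNat 0, Int.ofNat 0, Int.ofNat 0, Int.negSucc 3],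
  [Int.ofNat 0, Int.ofNat 0, Int.ofNat 0, Int.ofNat 0, Int.ofNat 0, Int.ofNat 0, Int.ofNat 0, Int.ofNat 0, Int.ofNat 0, Int.ofNat 0, Int.ofNat 0, Int.ofNat 0, Int.ofNat 0, Int.ofNat 0, Int.ofNat 0, Int.ofNat 0, Int.ofNat 0, Int.ofNat 0, Int.ofNat 0, Int.ofNat 0, Int.ofNat 0, Int.ofNat 4, Int.ofNat 0, Int.negSucc 3],
  [Int.negSucc 1, Int.negSucc 1, Int.negSucc 1, Int.ofNat 0, Int.ofNat 0, Int.ofNat 0, Int.negSucc 1, Int.negSucc 1, Int.ofNat 0, Int.ofNat 0, Int.ofNat 0, Int.ofNat 0, Int.ofNat 0, Int.ofNat 0, Int.ofNat 0, Int.ofNat 0, Int.ofNat 0, Int.ofNat 0, Int.ofNat 0, Int.negSucc 1, Int.ofNat 0, Int.ofNat 2, Int.ofNat 0, Int.ofNat 2],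
  [Int.negSucc 1, Int.negSucc 1, Int.ofNat 0, Int.ofNat 0, Int.ofNat 0, Int.negSucc 1, Int.negSucc 1, Int.ofNat 0, Int.ofNat 0, Int.ofNat 0, Int.ofNat 0, Int.ofNat 0, Int.ofNat 0, Int.ofNat 0, Int.ofNat 0, Int.ofNat 0, Int.ofNat 0, Int.ofNat 0, Int.negSucc 1, Int.ofNat 0, Int.ofNat 2, Int.ofNat 0, Int.negSucc 1, Int.ofNat 2],
  [Int.ofNat 1, Int.ofNat 1, Int.negSucc 0, Int.ofNat 1, Int.ofNat 1, Int.negSucc 0, Int.negSucc 0, Int.ofNat 1, Int.ofNat 1, Int.negSucc 0, Int.negSucc 0, Int.ofNat 1, Int.ofNat 1, Int.ofNat 1, Int.ofNat 1, Int.negSucc 0, Int.ofNat 1, Int.ofNat 1, Int.negSucc 0, Int.ofNat 1, Int.ofNat 1, Int.ofNat 1, Int.negSucc 0, Int.negSucc 2],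
  [Int.ofNat 1, Int.ofNat 1, Int.ofNat 1, Int.ofNat 1, Int.ofNat 1, Int.ofNat 1, Int.ofNat 1, Int.ofNat 1, Int.ofNat 1, Int.ofNat 1, Int.ofNat 1, Int.ofNat 1, Int.ofNat 1, Int.ofNat 1, Int.ofNat 1, Int.ofNat 1, Int.ofNat 1, Int.ofNat 1, Int.ofNat 1, Int.ofNat 1, Int.ofNat 1, Int.ofNat 1, Int.ofNat 1, Int.negSucc 2],
  [Int.ofNat 1, Int.ofNat 1, Int.ofNat 1, Int.ofNat 1, Int.ofNat 1, Int.ofNat 1, Int.ofNat 1, Int.ofNat 1, Int.ofNat 1, Int.ofNat 1, Int.ofNat 1, Int.ofNat 1, Int.ofNat 1, Int.ofNat 1, Int.ofNat 1, Int.ofNat 1, Int.ofNat 1, Int.ofNat 1, Int.ofNat 1, Int.ofNat 1, Int.ofNat 1, Int.ofNat 1, Int.ofNat 1, Int.negSucc 2],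
  [Int.ofNat 1, Int.ofNat 1, Int.negSucc 0, Int.ofNat 1, Int.ofNat 1, Int.negSucc 0, Int.negSucc 0, Int.ofNat 1, Int.ofNat 1, Int.negSucc 0, Int.negSucc 0, Int.ofNat 1, Int.ofNat 1, Int.ofNat 1, Int.ofNat 1, Int.negSucc 0, Int.ofNat 1, Int.ofNat 1, Int.negSucc 0, Int.ofNat 1, Int.ofNat 1, Int.ofNat 1, Int.negSucc 0, Int.negSucc 2],
  [Int.negSucc 1, Int.negSucc 1, Int.ofNat 0, Int.ofNat 0, Int.ofNat 0, Int.negSucc 1, Int.negSucc 1, Int.ofNat 0, Int.ofNat 0, Int.ofNat 0, Int.ofNat 0, Int.ofNat 0, Int.ofNat 0, Int.ofNat 0, Int.ofNat 0, Int.ofNat 0, Int.ofNat 0, Int.ofNat 0, Int.negSucc 1, Int.ofNat 0, Int.ofNat 2, Int.ofNat 0, Int.negSucc 1, Int.ofNat 2],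
  [Int.negSucc 1, Int.negSucc 1, Int.negSucc 1, Int.ofNat 0, Int.ofNat 0, Int.ofNat 0, Int.negSucc 1, Int.negSucc 1, Int.ofNat 0, Int.ofNat 0, Int.ofNat 0, Int.ofNat 0, Int.ofNat 0, Int.ofNat 0, Int.ofNat 0, Int.ofNat 0, Int.ofNat 0, Int.ofNat 0, Int.ofNat 0, Int.negSucc 1, Int.ofNat 0, Int.ofNat 2, Int.ofNat 0, Int.ofNat 2],
  [Int.ofNat 0, Int.ofNat 0, Int.ofNat 0, Int.ofNat 0, Int.ofNat 0, Int.ofNat 0, Int.ofNat 0, Int.ofNat 0, Int.ofNat 0, Int.ofNat 0, Int.ofNat 0, Int.ofNat 0, Int.ofNat 0, Int.ofNat 0, Int.ofNat 0, Int.ofNat 0, Int.ofNat 0, Int.ofNat 0, Int.ofNat 0, Int.ofNat 0, Int.ofNat 0, Int.ofNat 4, Int.ofNat 0, Int.negSucc 3],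
  [Int.ofNat 0, Int.ofNat 4, Int.ofNat 0, Int.ofNat 0, Int.ofNat 0, Int.ofNat 0, Int.ofNat 0, Int.ofNat 0, Int.ofNat 0, Int.ofNat 0, Int.ofNat 0, Int.ofNat 0, Int.ofNat 0, Int.ofNat 0, Int.ofNat 0, Int.ofNat 0, Int.ofNat 0, Int.ofNat 0, Int.ofNat 0, Int.ofNat 0, Int.ofNat 0, Int.ofNat 0, Int.ofNat 0, Int.negSucc 3],
  [Int.ofNat 0, Int.negSucc 3, Int.ofNat 0, Int.ofNat 0, Int.ofNat 0, Int.ofNat 0, Int.ofNat 0, Int.ofNat 0, Int.ofNat 0, Int.ofNat 0, Int.ofNat 0, Int.ofNat 0, Int.ofNat 0, Int.ofNat 0, Int.ofNat 0, Int.ofNat 0, Int.ofNat 0, Int.ofNat 0, Int.ofNat 0, Int.ofNat 0, Int.ofNat 0, Int.ofNat 0, Int.ofNat 0, Int.ofNat 4],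
  [Int.negSucc 3, Int.ofNat 0, Int.ofNat 0, Int.ofNat 0, Int.ofNat 0, Int.ofNat 0, Int.ofNat 0, Int.ofNat 0, Int.ofNat 0, Int.ofNat 0, Int.ofNat 0, Int.ofNat 0, Int.ofNat 0, Int.ofNat 0, Int.ofNat 0, Int.ofNat 0, Int.ofNat 0, Int.ofNat 0, Int.ofNat 0, Int.ofNat 0, Int.ofNat 0, Int.ofNat 0, Int.ofNat 0, Int.ofNat 4],
  [Int.ofNat 4, Int.ofNat 0, Int.ofNat 0, Int.ofNat 0, Int.ofNat 0, Int.ofNat 0, Int.ofNat 0, Int.ofNat 0, Int.ofNat 0, Int.ofNat 0, Int.ofNat 0, Int.ofNat 0, Int.ofNat 0, Int.ofNat 0, Int.ofNat 0, Int.ofNat 0, Int.ofNat 0, Int.ofNat 0, Int.ofNat 0, Int.ofNat 0, Int.ofNat 0, Int.ofNat 0, Int.ofNat 0, Int.ofNat 4],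
  [Int.negSucc 3, Int.ofNat 0, Int.ofNat 0, Int.ofNat 0, Int.ofNat 0, Int.ofNat 0, Int.ofNat 0, Int.ofNat 0, Int.ofNat 0, Int.ofNat 0, Int.ofNat 0, Int.ofNat 0, Int.ofNat 0, Int.ofNat 0, Int.ofNat 0, Int.ofNat 0, Int.ofNat 0, Int.ofNat 0, Int.ofNat 0, Int.ofNat 0, Int.ofNat 0, Int.ofNat 0, Int.ofNat 0, Int.ofNat 4],
  [Int.ofNat 4, Int.ofNat 0, Int.ofNat 0, Int.ofNat 0, Int.ofNat 0, Int.ofNat 0, Int.ofNat 0, Int.ofNat 0, Int.ofNat 0, Int.ofNat 0, Int.ofNat 0, Int.ofNat 0, Int.ofNat 0, Int.ofNat 0, Int.ofNat 0, Int.ofNat 0, Int.ofNat 0, Int.ofNat 0, Int.ofNat 0, Int.ofNat 0, Int.ofNat 0, Int.ofNat 0, Int.ofNat 0, Int.negSucc 3],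
  [Int.negSucc 3, Int.ofNat 0, Int.ofNat 0, Int.ofNat 0, Int.ofNat 0, Int.ofNat 0, Int.ofNat 0, Int.ofNat 0, Int.ofNat 0, Int.ofNat 0, Int.ofNat 0, Int.ofNat 0, Int.ofNat 0, Int.ofNat 0, Int.ofNat 0, Int.ofNat 0, Int.ofNat 0, Int.ofNat 0, Int.ofNat 0, Int.ofNat 0, Int.ofNat 0, Int.ofNat 0, Int.ofNat 0, Int.negSucc 3],
  [Int.ofNat 0, Int.negSucc 3, Int.ofNat 0, Int.ofNat 0, Int.ofNat 0, Int.ofNat 0, Int.ofNat 0, Int.ofNat 0, Int.ofNat 0, Int.ofNat 0, Int.ofNat 0, Int.ofNat 0, Int.ofNat 0, Int.ofNat 0, Int.ofNat 0, Int.ofNat 0, Int.ofNat 0, Int.ofNat 0, Int.ofNat 0, Int.ofNat 0, Int.ofNat 0, Int.ofNat 0, Int.ofNat 0, Int.negSucc 3],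
  [Int.negSucc 3, Int.ofNat 0, Int.negSucc 3, Int.ofNat 0, Int.ofNat 0, Int.ofNat 0, Int.ofNat 0, Int.ofNat 0, Int.ofNat 0, Int.ofNat 0, Int.ofNat 0, Int.ofNat 0, Int.ofNat 0, Int.ofNat 0, Int.ofNat 0, Int.ofNat 0, Int.ofNat 0, Int.ofNat 0, Int.ofNat 0, Int.ofNat 0, Int.ofNat 0, Int.ofNat 0, Int.ofNat 0, Int.ofNat 0],
  [Int.ofNat 0, Int.ofNat 0, Int.ofNat 0, Int.ofNat 0, Int.ofNat 0, Int.ofNat 0, Int.ofNat 0, Int.ofNat 0, Int.ofNat 0, Int.ofNat 0, Int.ofNat 0, Int.ofNat 0, Int.ofNat 0, Int.ofNat 0, Int.ofNat 0, Int.ofNat 0, Int.ofNat 0, Int.ofNat 0, Int.ofNat 0, Int.ofNat 0, Int.negSucc 3, Int.ofNat 0, Int.negSucc 3, Int.ofNat 0],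
  [Int.ofNat 0, Int.ofNat 0, Int.ofNat 0, Int.ofNat 0, Int.ofNat 2, Int.ofNat 0, Int.ofNat 0, Int.ofNat 0, Int.ofNat 0, Int.ofNat 2, Int.ofNat 2, Int.ofNat 0, Int.ofNat 0, Int.ofNat 2, Int.ofNat 0, Int.ofNat 2, Int.ofNat 2, Int.ofNat 0, Int.ofNat 0, Int.ofNat 0, Int.negSucc 1, Int.ofNat 0, Int.negSucc 1, Int.ofNat 0],
  [Int.ofNat 0, Int.ofNat 0, Int.ofNat 2, Int.ofNat 0, Int.ofNat 0, Int.ofNat 0, Int.ofNat 0, Int.ofNat 2, Int.ofNat 0, Int.ofNat 2, Int.negSucc 1, Int.ofNat 0, Int.ofNat 2, Int.ofNat 2, Int.negSucc 1, Int.ofNat 2, Int.ofNat 0, Int.ofNat 0, Int.ofNat 0, Int.ofNat 0, Int.ofNat 0, Int.ofNat 0, Int.ofNat 0, Int.ofNat 0],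
  [Int.ofNat 1, Int.ofNat 1, Int.negSucc 0, Int.ofNat 1, Int.negSucc 0, Int.ofNat 1, Int.negSucc 0, Int.ofNat 1, Int.negSucc 0, Int.ofNat 1, Int.negSucc 2, Int.negSucc 0, Int.ofNat 1, Int.ofNat 1, Int.negSucc 0, Int.ofNat 1, Int.negSucc 0, Int.ofNat 1, Int.negSucc 0, Int.negSucc 0, Int.negSucc 0, Int.negSucc 0, Int.negSucc 0, Int.ofNat 1],
  [Int.ofNat 1, Int.ofNat 1, Int.ofNat 1, Int.ofNat 1, Int.negSucc 0, Int.negSucc 0, Int.ofNat 1, Int.ofNat 1, Int.negSucc 0, Int.negSucc 0, Int.ofNat 3, Int.negSucc 0, Int.ofNat 1, Int.ofNat 1, Int.negSucc 0, Int.negSucc 0, Int.negSucc 0, Int.ofNat 1, Int.ofNat 1, Int.negSucc 0, Int.negSucc 0, Int.negSucc 0, Int.ofNat 1, Int.ofNat 1],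
  [Int.negSucc 0, Int.ofNat 1, Int.negSucc 0, Int.ofNat 3, Int.negSucc 0, Int.negSucc 0, Int.ofNat 1, Int.negSucc 0, Int.ofNat 1, Int.ofNat 1, Int.negSucc 0, Int.negSucc 0, Int.ofNat 1, Int.negSucc 0, Int.ofNat 1, Int.ofNat 1, Int.ofNat 1, Int.ofNat 1, Int.negSucc 0, Int.negSucc 0, Int.negSucc 0, Int.ofNat 1, Int.ofNat 1, Int.ofNat 1],
  [Int.negSucc 0, Int.ofNat 1, Int.ofNat 1, Int.ofNat 3, Int.negSucc 0, Int.ofNat 1, Int.negSucc 0, Int.negSucc 0, Int.ofNat 1, Int.negSucc 0, Int.ofNat 1, Int.negSucc 0, Int.ofNat 1, Int.negSucc 0, Int.ofNat 1, Int.negSucc 0, Int.ofNat 1, Int.ofNat 1, Int.ofNat 1, Int.negSucc 0, Int.negSucc 0, Int.ofNat 1, Int.negSucc 0, Int.ofNat 1],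
  [Int.ofNat 2, Int.ofNat 0, Int.ofNat 0, Int.ofNat 0, Int.ofNat 0, Int.negSucc 1, Int.ofNat 0, Int.ofNat 0, Int.ofNat 0, Int.ofNat 0, Int.ofNat 2, Int.negSucc 1, Int.ofNat 0, Int.ofNat 0, Int.negSucc 1, Int.ofNat 0, Int.ofNat 2, Int.negSucc 1, Int.ofNat 0, Int.ofNat 0, Int.ofNat 0, Int.ofNat 2, Int.ofNat 0, Int.ofNat 0],
  [Int.ofNat 2, Int.ofNat 0, Int.ofNat 0, Int.ofNat 0, Int.ofNat 0, Int.ofNat 2, Int.ofNat 0, Int.negSucc 1, Int.ofNat 2, Int.ofNat 0, Int.ofNat 0, Int.ofNat 0, Int.ofNat 0, Int.ofNat 0, Int.negSucc 1, Int.ofNat 0, Int.ofNat 0, Int.negSucc 1, Int.ofNat 0, Int.ofNat 0, Int.ofNat 2, Int.ofNat 0, Int.negSucc 1, Int.ofNat 0],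
  [Int.negSucc 0, Int.ofNat 1, Int.ofNat 1, Int.ofNat 1, Int.ofNat 1, Int.ofNat 3, Int.ofNat 1, Int.negSucc 0, Int.ofNat 1, Int.negSucc 0, Int.negSucc 0, Int.negSucc 0, Int.negSucc 0, Int.ofNat 1, Int.negSucc 0, Int.negSucc 0, Int.ofNat 1, Int.negSucc 0, Int.negSucc 0, Int.ofNat 1, Int.ofNat 1, Int.ofNat 1, Int.negSucc 0, Int.ofNat 1],
  [Int.ofNat 1, Int.ofNat 1, Int.negSucc 0, Int.negSucc 0, Int.ofNat 1, Int.ofNat 1, Int.ofNat 1, Int.ofNat 1, Int.ofNat 3, Int.ofNat 1, Int.negSucc 0, Int.ofNat 1, Int.negSucc 0, Int.negSucc 0, Int.negSucc 0, Int.negSucc 0, Int.ofNat 1, Int.negSucc 0, Int.negSucc 0, Int.ofNat 1, Int.negSucc 0, Int.negSucc 0, Int.ofNat 1, Int.ofNat 1],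
  [Int.ofNat 0, Int.ofNat 0, Int.ofNat 2, Int.ofNat 0, Int.ofNat 0, Int.ofNat 2, Int.ofNat 0, Int.ofNat 0, Int.ofNat 2, Int.ofNat 2, Int.ofNat 0, Int.ofNat 0, Int.negSucc 1, Int.negSucc 1, Int.ofNat 0, Int.ofNat 0, Int.ofNat 0, Int.ofNat 0, Int.negSucc 1, Int.ofNat 0, Int.ofNat 0, Int.negSucc 1, Int.ofNat 0, Int.ofNat 0],
  [Int.ofNat 0, Int.ofNat 2, Int.ofNat 0, Int.ofNat 0, Int.ofNat 2, Int.ofNat 0, Int.ofNat 0, Int.ofNat 2, Int.ofNat 2, Int.ofNat 0, Int.ofNat 0, Int.negSucc 1, Int.negSucc 1, Int.ofNat 0, Int.ofNat 0, Int.ofNat 0, Int.ofNat 0, Int.negSucc 1, Int.ofNat 0, Int.ofNat 0, Int.negSucc 1, Int.ofNat 0, Int.ofNat 0, Int.ofNat 0],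
  [Int.ofNat 0, Int.ofNat 2, Int.ofNat 0, Int.ofNat 0, Int.ofNat 2, Int.ofNat 0, Int.ofNat 0, Int.negSucc 1, Int.ofNat 2, Int.ofNat 0, Int.ofNat 0, Int.ofNat 2, Int.negSucc 1, Int.ofNat 0, Int.ofNat 0, Int.ofNat 0, Int.ofNat 0, Int.negSucc 1, Int.ofNat 0, Int.ofNat 0, Int.negSucc 1, Int.ofNat 0, Int.ofNat 0, Int.ofNat 0],
  [Int.ofNat 0, Int.negSucc 1, Int.ofNat 0, Int.ofNat 0, Int.negSucc 1, Int.ofNat 0, Int.ofNat 0, Int.negSucc 1, Int.negSucc 1, Int.ofNat 0, Int.ofNat 0, Int.ofNat 2, Int.ofNat 2, Int.ofNat 0, Int.ofNat 0, Int.ofNat 0, Int.ofNat 0, Int.negSucc 1, Int.ofNat 0, Int.ofNat 0, Int.negSucc 1, Int.ofNat 0, Int.ofNat 0, Int.ofNat 0],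
  [Int.ofNat 0, Int.ofNat 0, Int.ofNat 2, Int.ofNat 0, Int.negSucc 1, Int.ofNat 0, Int.ofNat 0, Int.ofNat 0, Int.negSucc 1, Int.ofNat 0, Int.ofNat 0, Int.ofNat 0, Int.ofNat 0, Int.negSucc 1, Int.ofNat 0, Int.ofNat 0, Int.ofNat 0, Int.negSucc 1, Int.ofNat 0, Int.ofNat 0, Int.negSucc 1, Int.ofNat 2, Int.negSucc 1, Int.ofNat 0],
  [Int.ofNat 0, Int.ofNat 0, Int.negSucc 1, Int.ofNat 0, Int.negSucc 1, Int.ofNat 0, Int.ofNat 0, Int.ofNat 0, Int.negSucc 1, Int.ofNat 0, Int.ofNat 0, Int.ofNat 0, Int.ofNat 0, Int.negSucc 1, Int.ofNat 0, Int.ofNat 0, Int.ofNat 0, Int.negSucc 1, Int.ofNat 0, Int.ofNat 0, Int.negSucc 1, Int.negSucc 1, Int.negSucc 1, Int.ofNat 0],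
  [Int.negSucc 1, Int.ofNat 0, Int.ofNat 0, Int.negSucc 1, Int.ofNat 0, Int.negSucc 1, Int.ofNat 0, Int.ofNat 0, Int.ofNat 0, Int.negSucc 1, Int.ofNat 0, Int.ofNat 0, Int.ofNat 0, Int.ofNat 0, Int.negSucc 1, Int.ofNat 0, Int.ofNat 0, Int.ofNat 0, Int.negSucc 1, Int.ofNat 0, Int.ofNat 0, Int.negSucc 1, Int.negSucc 1, Int.ofNat 0],
  [Int.ofNat 1, Int.negSucc 0, Int.negSucc 0, Int.ofNat 1, Int.ofNat 1, Int.ofNat 1, Int.ofNat 1, Int.ofNat 1, Int.ofNat 1, Int.negSucc 0, Int.ofNat 1, Int.ofNat 1, Int.ofNat 1, Int.ofNat 1, Int.ofNat 1, Int.ofNat 1, Int.ofNat 1, Int.ofNat 3, Int.negSucc 0, Int.ofNat 1, Int.ofNat 1, Int.negSucc 0, Int.negSucc 0, Int.negSucc 0],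
  [Int.ofNat 1, Int.ofNat 1, Int.ofNat 1, Int.ofNat 1, Int.ofNat 1, Int.ofNat 1, Int.negSucc 0, Int.ofNat 1, Int.ofNat 1, Int.ofNat 1, Int.ofNat 1, Int.ofNat 1, Int.ofNat 1, Int.ofNat 1, Int.ofNat 3, Int.negSucc 0, Int.ofNat 1, Int.ofNat 1, Int.negSucc 0, Int.negSucc 0, Int.ofNat 1, Int.negSucc 0, Int.negSucc 0, Int.negSucc 0],
  [Int.ofNat 0, Int.ofNat 0, Int.ofNat 0, Int.negSucc 1, Int.ofNat 0, Int.negSucc 1, Int.ofNat 0, Int.ofNat 2, Int.ofNat 0, Int.ofNat 0, Int.ofNat 0, Int.ofNat 0, Int.ofNat 0, Int.ofNat 0, Int.ofNat 0, Int.negSucc 1, Int.ofNat 0, Int.negSucc 1, Int.negSucc 1, Int.ofNat 0, Int.ofNat 0, Int.ofNat 0, Int.negSucc 1, Int.ofNat 2],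
  [Int.ofNat 0, Int.ofNat 0, Int.ofNat 0, Int.negSucc 1, Int.negSucc 1, Int.ofNat 2, Int.ofNat 0, Int.ofNat 0, Int.ofNat 0, Int.ofNat 0, Int.ofNat 0, Int.negSucc 1, Int.ofNat 0, Int.ofNat 0, Int.negSucc 1, Int.negSucc 1, Int.ofNat 0, Int.ofNat 0, Int.ofNat 0, Int.ofNat 0, Int.ofNat 0, Int.negSucc 1, Int.ofNat 0, Int.ofNat 2],
  [Int.ofNat 1, Int.ofNat 1, Int.ofNat 1, Int.negSucc 0, Int.negSucc 0, Int.ofNat 3, Int.ofNat 1, Int.ofNat 1, Int.ofNat 1, Int.ofNat 1, Int.ofNat 1, Int.negSucc 0, Int.ofNat 1, Int.ofNat 1, Int.negSucc 0, Int.negSucc 0, Int.ofNat 1, Int.ofNat 1, Int.ofNat 1, Int.ofNat 1, Int.ofNat 1, Int.negSucc 0, Int.ofNat 1, Int.negSucc 0],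
  [Int.ofNat 1, Int.ofNat 1, Int.negSucc 0, Int.negSucc 0, Int.negSucc 0, Int.negSucc 2, Int.negSucc 0, Int.ofNat 1, Int.ofNat 1, Int.negSucc 0, Int.negSucc 0, Int.negSucc 0, Int.ofNat 1, Int.ofNat 1, Int.negSucc 0, Int.ofNat 1, Int.ofNat 1, Int.ofNat 1, Int.negSucc 0, Int.ofNat 1, Int.ofNat 1, Int.negSucc 0, Int.negSucc 0, Int.negSucc 0],
  [Int.negSucc 0, Int.ofNat 1, Int.ofNat 1, Int.negSucc 0, Int.negSucc 0, Int.ofNat 1, Int.ofNat 1, Int.negSucc 0, Int.negSucc 0, Int.ofNat 1, Int.ofNat 1, Int.negSucc 0, Int.ofNat 1, Int.ofNat 1, Int.ofNat 1, Int.negSucc 0, Int.ofNat 1, Int.negSucc 0, Int.negSucc 2, Int.ofNat 1, Int.negSucc 0, Int.negSucc 0, Int.negSucc 0, Int.negSucc 0],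
  [Int.negSucc 0, Int.ofNat 1, Int.negSucc 0, Int.negSucc 0, Int.negSucc 0, Int.negSucc 0, Int.negSucc 0, Int.negSucc 0, Int.negSucc 0, Int.negSucc 0, Int.negSucc 0, Int.negSucc 0, Int.ofNat 1, Int.ofNat 1, Int.ofNat 1, Int.ofNat 1, Int.ofNat 1, Int.negSucc 0, Int.ofNat 3, Int.ofNat 1, Int.negSucc 0, Int.negSucc 0, Int.ofNat 1, Int.negSucc 0],
  [Int.ofNat 0, Int.negSucc 1, Int.ofNat 0, Int.ofNat 0, Int.negSucc 1, Int.ofNat 0, Int.ofNat 0, Int.ofNat 0, Int.negSucc 1, Int.ofNat 0, Int.ofNat 0, Int.negSucc 1, Int.ofNat 0, Int.ofNat 0, Int.ofNat 2, Int.ofNat 2, Int.ofNat 0, Int.ofNat 0, Int.ofNat 2, Int.ofNat 2, Int.ofNat 0, Int.ofNat 0, Int.ofNat 0, Int.ofNat 0],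
  [Int.ofNat 0, Int.ofNat 2, Int.ofNat 0, Int.ofNat 0, Int.ofNat 0, Int.ofNat 0, Int.negSucc 1, Int.ofNat 0, Int.ofNat 0, Int.ofNat 0, Int.ofNat 0, Int.ofNat 2, Int.negSucc 1, Int.ofNat 0, Int.ofNat 0, Int.ofNat 2, Int.ofNat 0, Int.negSucc 1, Int.negSucc 1, Int.ofNat 0, Int.ofNat 0, Int.ofNat 0, Int.ofNat 2, Int.ofNat 0],
  [Int.ofNat 1, Int.negSucc 0, Int.ofNat 1, Int.ofNat 1, Int.negSucc 0, Int.ofNat 1, Int.negSucc 0, Int.ofNat 1, Int.ofNat 1, Int.negSucc 0, Int.negSucc 0, Int.ofNat 3, Int.negSucc 0, Int.negSucc 0, Int.ofNat 1, Int.ofNat 1, Int.negSucc 0, Int.negSucc 0, Int.negSucc 0, Int.ofNat 1, Int.negSucc 0, Int.ofNat 1, Int.ofNat 1, Int.ofNat 1],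
  [Int.negSucc 0, Int.ofNat 1, Int.ofNat 1, Int.ofNat 1, Int.negSucc 0, Int.ofNat 1, Int.ofNat 1, Int.negSucc 0, Int.ofNat 1, Int.negSucc 0, Int.ofNat 1, Int.ofNat 1, Int.negSucc 0, Int.negSucc 0, Int.ofNat 3, Int.negSucc 0, Int.negSucc 0, Int.ofNat 1, Int.ofNat 1, Int.negSucc 0, Int.negSucc 0, Int.negSucc 0, Int.ofNat 1, Int.ofNat 1],
  [Int.ofNat 2, Int.ofNat 0, Int.ofNat 0, Int.negSucc 1, Int.ofNat 0, Int.negSucc 1, Int.ofNat 2, Int.ofNat 0, Int.ofNat 0, Int.ofNat 0, Int.ofNat 2, Int.ofNat 0, Int.negSucc 1, Int.ofNat 0, Int.ofNat 0, Int.ofNat 0, Int.ofNat 0, Int.negSucc 1, Int.ofNat 0, Int.ofNat 0, Int.ofNat 0, Int.ofNat 0, Int.ofNat 2, Int.ofNat 0],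
  [Int.ofNat 0, Int.ofNat 0, Int.negSucc 1, Int.ofNat 0, Int.negSucc 1, Int.ofNat 2, Int.ofNat 0, Int.ofNat 0, Int.ofNat 0, Int.ofNat 2, Int.ofNat 0, Int.negSucc 1, Int.ofNat 0, Int.ofNat 0, Int.ofNat 0, Int.ofNat 0, Int.negSucc 1, Int.ofNat 0, Int.ofNat 0, Int.ofNat 0, Int.ofNat 0, Int.ofNat 2, Int.ofNat 2, Int.ofNat 0],
  [Int.ofNat 0, Int.ofNat 0, Int.ofNat 2, Int.ofNat 0, Int.negSucc 1, Int.ofNat 2, Int.ofNat 0, Int.ofNat 0, Int.ofNat 0, Int.negSucc 1, Int.ofNat 0, Int.ofNat 2, Int.ofNat 0, Int.ofNat 0, Int.ofNat 0, Int.ofNat 0, Int.negSucc 1, Int.ofNat 0, Int.ofNat 0, Int.ofNat 0, Int.ofNat 0, Int.negSucc 1, Int.ofNat 2, Int.ofNat 0],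
  [Int.ofNat 0, Int.ofNat 0, Int.negSucc 1, Int.ofNat 0, Int.ofNat 2, Int.ofNat 2, Int.ofNat 0, Int.ofNat 0, Int.ofNat 0, Int.ofNat 2, Int.ofNat 0, Int.ofNat 2, Int.ofNat 0, Int.ofNat 0, Int.ofNat 0, Int.ofNat 0, Int.ofNat 2, Int.ofNat 0, Int.ofNat 0, Int.ofNat 0, Int.ofNat 0, Int.negSucc 1, Int.ofNat 2, Int.ofNat 0],
  [Int.ofNat 0, Int.ofNat 2, Int.ofNat 2, Int.ofNat 0, Int.ofNat 0, Int.ofNat 2, Int.ofNat 0, Int.ofNat 0, Int.ofNat 0, Int.ofNat 2, Int.ofNat 2, Int.negSucc 1, Int.negSucc 1, Int.ofNat 0, Int.ofNat 0, Int.ofNat 0, Int.ofNat 0, Int.ofNat 2, Int.ofNat 0, Int.ofNat 0, Int.ofNat 0, Int.ofNat 0, Int.ofNat 0, Int.ofNat 0],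
  [Int.ofNat 0, Int.ofNat 2, Int.negSucc 1, Int.ofNat 0, Int.ofNat 0, Int.ofNat 2, Int.ofNat 0, Int.ofNat 0, Int.ofNat 0, Int.negSucc 1, Int.negSucc 1, Int.ofNat 2, Int.negSucc 1, Int.ofNat 0, Int.ofNat 0, Int.ofNat 0, Int.ofNat 0, Int.ofNat 2, Int.ofNat 0, Int.ofNat 0, Int.ofNat 0, Int.ofNat 0, Int.ofNat 0, Int.ofNat 0],
  [Int.ofNat 0, Int.ofNat 0, Int.ofNat 2, Int.negSucc 1, Int.ofNat 0, Int.ofNat 0, Int.ofNat 2, Int.ofNat 0, Int.ofNat 0, Int.ofNat 0, Int.negSucc 1, Int.negSucc 1, Int.ofNat 2, Int.negSucc 1, Int.ofNat 0, Int.ofNat 0, Int.ofNat 0, Int.ofNat 0, Int.ofNat 2, Int.ofNat 0, Int.ofNat 0, Int.ofNat 0, Int.ofNat 0, Int.ofNat 0],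
  [Int.ofNat 1, Int.ofNat 1, Int.negSucc 0, Int.negSucc 0, Int.ofNat 1, Int.ofNat 1, Int.ofNat 1, Int.negSucc 0, Int.negSucc 0, Int.ofNat 1, Int.negSucc 0, Int.negSucc 2, Int.ofNat 1, Int.negSucc 0, Int.ofNat 1, Int.ofNat 1, Int.ofNat 1, Int.ofNat 1, Int.ofNat 1, Int.negSucc 0, Int.ofNat 1, Int.negSucc 0, Int.ofNat 1, Int.ofNat 1],
  [Int.negSucc 0, Int.ofNat 1, Int.ofNat 1, Int.ofNat 1, Int.negSucc 0, Int.negSucc 0, Int.ofNat 1, Int.negSucc 0, Int.negSucc 2, Int.ofNat 1, Int.negSucc 0, Int.ofNat 1, Int.ofNat 1, Int.ofNat 1, Int.ofNat 1, Int.ofNat 1, Int.negSucc 0, Int.ofNat 1, Int.negSucc 0, Int.ofNat 1, Int.ofNat 1, Int.ofNat 1, Int.negSucc 0, Int.ofNat 1],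
  [Int.ofNat 2, Int.ofNat 0, Int.ofNat 0, Int.ofNat 0, Int.ofNat 0, Int.negSucc 1, Int.ofNat 0, Int.negSucc 1, Int.negSucc 1, Int.ofNat 0, Int.negSucc 1, Int.ofNat 2, Int.ofNat 2, Int.ofNat 2, Int.ofNat 0, Int.ofNat 0, Int.ofNat 0, Int.ofNat 0, Int.ofNat 0, Int.ofNat 0, Int.ofNat 0, Int.ofNat 0, Int.ofNat 0, Int.ofNat 0],
  [Int.ofNat 2, Int.ofNat 0, Int.ofNat 0, Int.ofNat 0, Int.ofNat 0, Int.negSucc 1, Int.ofNat 0, Int.negSucc 1, Int.ofNat 2, Int.ofNat 2, Int.ofNat 0, Int.ofNat 0, Int.ofNat 0, Int.ofNat 0, Int.ofNat 0, Int.ofNat 0, Int.negSucc 1, Int.ofNat 0, Int.ofNat 0, Int.ofNat 2, Int.ofNat 0, Int.negSucc 1, Int.ofNat 0, Int.ofNat 0],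
  [Int.negSucc 0, Int.ofNat 1, Int.ofNat 1, Int.ofNat 1, Int.ofNat 1, Int.negSucc 0, Int.ofNat 1, Int.negSucc 0, Int.ofNat 1, Int.ofNat 1, Int.negSucc 0, Int.negSucc 0, Int.negSucc 0, Int.ofNat 1, Int.ofNat 1, Int.negSucc 0, Int.negSucc 0, Int.ofNat 1, Int.negSucc 0, Int.ofNat 3, Int.negSucc 0, Int.negSucc 0, Int.ofNat 1, Int.ofNat 1],
  [Int.negSucc 0, Int.ofNat 1, Int.negSucc 0, Int.ofNat 1, Int.ofNat 1, Int.ofNat 1, Int.negSucc 0, Int.negSucc 0, Int.ofNat 1, Int.negSucc 0, Int.ofNat 1, Int.negSucc 0, Int.negSucc 0, Int.ofNat 1, Int.ofNat 1, Int.ofNat 1, Int.negSucc 0, Int.ofNat 1, Int.ofNat 1, Int.ofNat 3, Int.negSucc 0, Int.negSucc 0, Int.negSucc 0, Int.ofNat 1],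
  [Int.ofNat 1, Int.ofNat 1, Int.ofNat 1, Int.ofNat 1, Int.negSucc 0, Int.negSucc 0, Int.ofNat 1, Int.ofNat 1, Int.negSucc 0, Int.negSucc 0, Int.ofNat 3, Int.negSucc 0, Int.ofNat 1, Int.ofNat 1, Int.negSucc 0, Int.negSucc 0, Int.negSucc 0, Int.ofNat 1, Int.ofNat 1, Int.negSucc 0, Int.negSucc 0, Int.negSucc 0, Int.ofNat 1, Int.ofNat 1],
  [Int.ofNat 1, Int.ofNat 1, Int.negSucc 0, Int.ofNat 1, Int.negSucc 0, Int.ofNat 1, Int.negSucc 0, Int.ofNat 1, Int.negSucc 0, Int.ofNat 1, Int.negSucc 2, Int.negSucc 0, Int.ofNat 1, Int.ofNat 1, Int.negSucc 0, Int.ofNat 1, Int.negSucc 0, Int.ofNat 1, Int.negSucc 0, Int.negSucc 0, Int.negSucc 0, Int.negSucc 0, Int.negSucc 0, Int.ofNat 1],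
  [Int.ofNat 0, Int.ofNat 0, Int.ofNat 2, Int.ofNat 0, Int.ofNat 0, Int.ofNat 0, Int.ofNat 0, Int.ofNat 2, Int.ofNat 0, Int.ofNat 2, Int.negSucc 1, Int.ofNat 0, Int.ofNat 2, Int.ofNat 2, Int.negSucc 1, Int.ofNat 2, Int.ofNat 0, Int.ofNat 0, Int.ofNat 0, Int.ofNat 0, Int.ofNat 0, Int.ofNat 0, Int.ofNat 0, Int.ofNat 0],
  [Int.ofNat 0, Int.ofNat 0, Int.ofNat 0, Int.ofNat 0, Int.ofNat 2, Int.ofNat 0, Int.ofNat 0, Int.ofNat 0, Int.ofNat 0, Int.ofNat 2, Int.ofNat 2, Int.ofNat 0, Int.ofNat 0, Int.ofNat 2, Int.ofNat 0, Int.ofNat 2, Int.ofNat 2, Int.ofNat 0, Int.ofNat 0, Int.ofNat 0, Int.negSucc 1, Int.ofNat 0, Int.negSucc 1, Int.ofNat 0],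
  [Int.ofNat 0, Int.ofNat 0, Int.ofNat 0, Int.ofNat 0, Int.ofNat 0, Int.ofNat 0, Int.ofNat 0, Int.ofNat 0, Int.ofNat 0, Int.ofNat 0, Int.ofNat 0, Int.ofNat 0, Int.ofNat 0, Int.ofNat 0, Int.ofNat 0, Int.ofNat 0, Int.ofNat 0, Int.ofNat 0, Int.ofNat 0, Int.ofNat 0, Int.negSucc 3, Int.ofNat 0, Int.negSucc 3, Int.ofNat 0],
  [Int.negSucc 3, Int.ofNat 0, Int.negSucc 3, Int.ofNat 0, Int.ofNat 0, Int.ofNat 0, Int.ofNat 0, Int.ofNat 0, Int.ofNat 0, Int.ofNat 0, Int.ofNat 0, Int.ofNat 0, Int.ofNat 0, Int.ofNat 0, Int.ofNat 0, Int.ofNat 0, Int.ofNat 0, Int.ofNat 0, Int.ofNat 0, Int.ofNat 0, Int.ofNat 0, Int.ofNat 0, Int.ofNat 0, Int.ofNat 0],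
  [Int.ofNat 0, Int.negSucc 3, Int.ofNat 0, Int.ofNat 0, Int.ofNat 0, Int.ofNat 0, Int.ofNat 0, Int.ofNat 0, Int.ofNat 0, Int.ofNat 0, Int.ofNat 0, Int.ofNat 0, Int.ofNat 0, Int.ofNat 0, Int.ofNat 0, Int.ofNat 0, Int.ofNat 0, Int.ofNat 0, Int.ofNat 0, Int.ofNat 0, Int.ofNat 0, Int.ofNat 0, Int.ofNat 0, Int.negSucc 3],
  [Int.negSucc 3, Int.ofNat 0, Int.ofNat 0, Int.ofNat 0, Int.ofNat 0, Int.ofNat 0, Int.ofNat 0, Int.ofNat 0, Int.ofNat 0, Int.ofNat 0, Int.ofNat 0, Int.ofNat 0, Int.ofNat 0, Int.ofNat 0, Int.ofNat 0, Int.ofNat 0, Int.ofNat 0, Int.ofNat 0, Int.ofNat 0, Int.ofNat 0, Int.ofNat 0, Int.ofNat 0, Int.ofNat 0, Int.negSucc 3],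
  [Int.ofNat 4, Int.ofNat 0, Int.ofNat 0, Int.ofNat 0, Int.ofNat 0, Int.ofNat 0, Int.ofNat 0, Int.ofNat 0, Int.ofNat 0, Int.ofNat 0, Int.ofNat 0, Int.ofNat 0, Int.ofNat 0, Int.ofNat 0, Int.ofNat 0, Int.ofNat 0, Int.ofNat 0, Int.ofNat 0, Int.ofNat 0, Int.ofNat 0, Int.ofNat 0, Int.ofNat 0, Int.ofNat 0, Int.negSucc 3],
  [Int.negSucc 3, Int.ofNat 0, Int.ofNat 0, Int.ofNat 0, Int.ofNat 0, Int.ofNat 0, Int.ofNat 0, Int.ofNat 0, Int.ofNat 0, Int.ofNat 0, Int.ofNat 0, Int.ofNat 0, Int.ofNat 0, Int.ofNat 0, Int.ofNat 0, Int.ofNat 0, Int.ofNat 0, Int.ofNat 0, Int.ofNat 0, Int.ofNat 0, Int.ofNat 0, Int.ofNat 0, Int.ofNat 0, Int.negSucc 3],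
  [Int.negSucc 3, Int.ofNat 0, Int.ofNat 0, Int.ofNat 0, Int.ofNat 0, Int.ofNat 0, Int.ofNat 0, Int.ofNat 0, Int.ofNat 0, Int.ofNat 0, Int.ofNat 0, Int.ofNat 0, Int.ofNat 0, Int.ofNat 0, Int.ofNat 0, Int.ofNat 0, Int.ofNat 0, Int.ofNat 0, Int.ofNat 0, Int.ofNat 0, Int.ofNat 0, Int.ofNat 0, Int.ofNat 0, Int.negSucc 3],
  [Int.ofNat 4, Int.ofNat 0, Int.ofNat 0, Int.ofNat 0, Int.ofNat 0, Int.ofNat 0, Int.ofNat 0, Int.ofNat 0, Int.ofNat 0, Int.ofNat 0, Int.ofNat 0, Int.ofNat 0, Int.ofNat 0, Int.ofNat 0, Int.ofNat 0, Int.ofNat 0, Int.ofNat 0, Int.ofNat 0, Int.ofNat 0, Int.ofNat 0, Int.ofNat 0, Int.ofNat 0, Int.ofNat 0, Int.negSucc 3],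
  [Int.ofNat 0, Int.ofNat 4, Int.ofNat 0, Int.ofNat 0, Int.ofNat 0, Int.ofNat 0, Int.ofNat 0, Int.ofNat 0, Int.ofNat 0, Int.ofNat 0, Int.ofNat 0, Int.ofNat 0, Int.ofNat 0, Int.ofNat 0, Int.ofNat 0, Int.ofNat 0, Int.ofNat 0, Int.ofNat 0, Int.ofNat 0, Int.ofNat 0, Int.ofNat 0, Int.ofNat 0, Int.ofNat 0, Int.negSucc 3],
  [Int.ofNat 0, Int.negSucc 3, Int.ofNat 0, Int.ofNat 0, Int.ofNat 0, Int.ofNat 0, Int.ofNat 0, Int.ofNat 0, Int.ofNat 0, Int.ofNat 0, Int.ofNat 0, Int.ofNat 0, Int.ofNat 0, Int.ofNat 0, Int.ofNat 0, Int.ofNat 0, Int.ofNat 0, Int.ofNat 0, Int.ofNat 0, Int.ofNat 0, Int.ofNat 0, Int.ofNat 0, Int.ofNat 0, Int.ofNat 4],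
  [Int.ofNat 0, Int.ofNat 0, Int.ofNat 0, Int.ofNat 0, Int.ofNat 0, Int.ofNat 0, Int.ofNat 0, Int.ofNat 0, Int.ofNat 0, Int.ofNat 0, Int.ofNat 0, Int.ofNat 0, Int.ofNat 0, Int.ofNat 0, Int.ofNat 0, Int.ofNat 0, Int.ofNat 0, Int.ofNat 0, Int.ofNat 0, Int.ofNat 0, Int.ofNat 0, Int.negSucc 3, Int.ofNat 0, Int.ofNat 4],
  [Int.ofNat 2, Int.ofNat 2, Int.ofNat 2, Int.ofNat 0, Int.ofNat 0, Int.ofNat 0, Int.ofNat 2, Int.ofNat 2, Int.ofNat 0, Int.ofNat 0, Int.ofNat 0, Int.ofNat 0, Int.ofNat 0, Int.ofNat 0, Int.ofNat 0, Int.ofNat 0, Int.ofNat 0, Int.ofNat 0, Int.ofNat 0, Int.ofNat 2, Int.ofNat 0, Int.negSucc 1, Int.ofNat 0, Int.negSucc 1],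
  [Int.ofNat 2, Int.ofNat 2, Int.ofNat 0, Int.ofNat 0, Int.ofNat 0, Int.ofNat 2, Int.ofNat 2, Int.ofNat 0, Int.ofNat 0, Int.ofNat 0, Int.ofNat 0, Int.ofNat 0, Int.ofNat 0, Int.ofNat 0, Int.ofNat 0, Int.ofNat 0, Int.ofNat 0, Int.ofNat 0, Int.ofNat 2, Int.ofNat 0, Int.negSucc 1, Int.ofNat 0, Int.ofNat 2, Int.negSucc 1],
  [Int.negSucc 0, Int.negSucc 0, Int.ofNat 1, Int.negSucc 0, Int.negSucc 0, Int.ofNat 1, Int.ofNat 1, Int.negSucc 0, Int.negSucc 0, Int.ofNat 1, Int.ofNat 1, Int.negSucc 0, Int.negSucc 0, Int.negSucc 0, Int.negSucc 0, Int.ofNat 1, Int.negSucc 0, Int.negSucc 0, Int.ofNat 1, Int.negSucc 0, Int.negSucc 0, Int.negSucc 0, Int.ofNat 1, Int.ofNat 3],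
  [Int.negSucc 0, Int.negSucc 0, Int.negSucc 0, Int.negSucc 0, Int.negSucc 0, Int.negSucc 0, Int.negSucc 0, Int.negSucc 0, Int.negSucc 0, Int.negSucc 0, Int.negSucc 0, Int.negSucc 0, Int.negSucc 0, Int.negSucc 0, Int.negSucc 0, Int.negSucc 0, Int.negSucc 0, Int.negSucc 0, Int.negSucc 0, Int.negSucc 0, Int.negSucc 0, Int.negSucc 0, Int.negSucc 0, Int.ofNat 3],
  [Int.negSucc 0, Int.negSucc 0, Int.negSucc 0, Int.negSucc 0, Int.negSucc 0, Int.negSucc 0, Int.negSucc 0, Int.negSucc 0, Int.negSucc 0, Int.negSucc 0, Int.negSucc 0, Int.negSucc 0, Int.negSucc 0, Int.negSucc 0, Int.negSucc 0, Int.negSucc 0, Int.negSucc 0, Int.negSucc 0, Int.negSucc 0, Int.negSucc 0, Int.negSucc 0, Int.negSucc 0, Int.negSucc 0, Int.ofNat 3],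
  [Int.negSucc 0, Int.negSucc 0, Int.ofNat 1, Int.negSucc 0, Int.negSucc 0, Int.ofNat 1, Int.ofNat 1, Int.negSucc 0, Int.negSucc 0, Int.ofNat 1, Int.ofNat 1, Int.negSucc 0, Int.negSucc 0, Int.negSucc 0, Int.negSucc 0, Int.ofNat 1, Int.negSucc 0, Int.negSucc 0, Int.ofNat 1, Int.negSucc 0, Int.negSucc 0, Int.negSucc 0, Int.ofNat 1, Int.ofNat 3],
  [Int.ofNat 2, Int.ofNat 2, Int.ofNat 0, Int.ofNat 0, Int.ofNat 0, Int.ofNat 2, Int.ofNat 2, Int.ofNat 0, Int.ofNat 0, Int.ofNat 0, Int.ofNat 0, Int.ofNat 0, Int.ofNat 0, Int.ofNat 0, Int.ofNat 0, Int.ofNat 0, Int.ofNat 0, Int.ofNat 0, Int.ofNat 2, Int.ofNat 0, Int.negSucc 1, Int.ofNat 0, Int.ofNat 2, Int.negSucc 1],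
  [Int.ofNat 2, Int.ofNat 2, Int.ofNat 2, Int.ofNat 0, Int.ofNat 0, Int.ofNat 0, Int.ofNat 2, Int.ofNat 2, Int.ofNat 0, Int.ofNat 0, Int.ofNat 0, Int.ofNat 0, Int.ofNat 0, Int.ofNat 0, Int.ofNat 0, Int.ofNat 0, Int.ofNat 0, Int.ofNat 0, Int.ofNat 0, Int.ofNat 2, Int.ofNat 0, Int.negSucc 1, Int.ofNat 0, Int.negSucc 1],
  [Int.ofNat 0, Int.ofNat 0, Int.ofNat 0, Int.ofNat 0, Int.ofNat 0, Int.ofNat 0, Int.ofNat 0, Int.ofNat 0, Int.ofNat 0, Int.ofNat 0, Int.ofNat 0, Int.ofNat 0, Int.ofNat 0, Int.ofNat 0, Int.ofNat 0, Int.ofNat 0, Int.ofNat 0, Int.ofNat 0, Int.ofNat 0, Int.ofNat 0, Int.ofNat 0, Int.negSucc 3, Int.ofNat 0, Int.ofNat 4],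
  [Int.ofNat 0, Int.negSucc 3, Int.ofNat 0, Int.ofNat 0, Int.ofNat 0, Int.ofNat 0, Int.ofNat 0, Int.ofNat 0, Int.ofNat 0, Int.ofNat 0, Int.ofNat 0, Int.ofNat 0, Int.ofNat 0, Int.ofNat 0, Int.ofNat 0, Int.ofNat 0, Int.ofNat 0, Int.ofNat 0, Int.ofNat 0, Int.ofNat 0, Int.ofNat 0, Int.ofNat 0, Int.ofNat 0, Int.ofNat 4],
  [Int.ofNat 0, Int.ofNat 4, Int.ofNat 0, Int.ofNat 0, Int.ofNat 0, Int.ofNat 0, Int.ofNat 0, Int.ofNat 0, Int.ofNat 0, Int.ofNat 0, Int.ofNat 0, Int.ofNat 0, Int.ofNat 0, Int.ofNat 0, Int.ofNat 0, Int.ofNat 0, Int.ofNat 0, Int.ofNat 0, Int.ofNat 0, Int.ofNat 0, Int.ofNat 0, Int.ofNat 0, Int.ofNat 0, Int.negSucc 3],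
  [Int.ofNat 4, Int.ofNat 0, Int.ofNat 0, Int.ofNat 0, Int.ofNat 0, Int.ofNat 0, Int.ofNat 0, Int.ofNat 0, Int.ofNat 0, Int.ofNat 0, Int.ofNat 0, Int.ofNat 0, Int.ofNat 0, Int.ofNat 0, Int.ofNat 0, Int.ofNat 0, Int.ofNat 0, Int.ofNat 0, Int.ofNat 0, Int.ofNat 0, Int.ofNat 0, Int.ofNat 0, Int.ofNat 0, Int.negSucc 3],
  [Int.negSucc 3, Int.ofNat 0, Int.ofNat 0, Int.ofNat 0, Int.ofNat 0, Int.ofNat 0, Int.ofNat 0, Int.ofNat 0, Int.ofNat 0, Int.ofNat 0, Int.ofNat 0, Int.ofNat 0, Int.ofNat 0, Int.ofNat 0, Int.ofNat 0, Int.ofNat 0, Int.ofNat 0, Int.ofNat 0, Int.ofNat 0, Int.ofNat 0, Int.ofNat 0, Int.ofNat 0, Int.ofNat 0, Int.negSucc 3],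
  [Int.ofNat 4, Int.ofNat 0, Int.ofNat 0, Int.ofNat 0, Int.ofNat 0, Int.ofNat 0, Int.ofNat 0, Int.ofNat 0, Int.ofNat 0, Int.ofNat 0, Int.ofNat 0, Int.ofNat 0, Int.ofNat 0, Int.ofNat 0, Int.ofNat 0, Int.ofNat 0, Int.ofNat 0, Int.ofNat 0, Int.ofNat 0, Int.ofNat 0, Int.ofNat 0, Int.ofNat 0, Int.ofNat 0, Int.negSucc 3],
  [Int.negSucc 3, Int.ofNat 0, Int.ofNat 0, Int.ofNat 0, Int.ofNat 0, Int.ofNat 0, Int.ofNat 0, Int.ofNat 0, Int.ofNat 0, Int.ofNat 0, Int.ofNat 0, Int.ofNat 0, Int.ofNat 0, Int.ofNat 0, Int.ofNat 0, Int.ofNat 0, Int.ofNat 0, Int.ofNat 0, Int.ofNat 0, Int.ofNat 0, Int.ofNat 0, Int.ofNat 0, Int.ofNat 0, Int.ofNat 4],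
  [Int.ofNat 4, Int.ofNat 0, Int.ofNat 0, Int.ofNat 0, Int.ofNat 0, Int.ofNat 0, Int.ofNat 0, Int.ofNat 0, Int.ofNat 0, Int.ofNat 0, Int.ofNat 0, Int.ofNat 0, Int.ofNat 0, Int.ofNat 0, Int.ofNat 0, Int.ofNat 0, Int.ofNat 0, Int.ofNat 0, Int.ofNat 0, Int.ofNat 0, Int.ofNat 0, Int.ofNat 0, Int.ofNat 0, Int.ofNat 4],
  [Int.ofNat 0, Int.ofNat 4, Int.ofNat 0, Int.ofNat 0, Int.ofNat 0, Int.ofNat 0, Int.ofNat 0, Int.ofNat 0, Int.ofNat 0, Int.ofNat 0, Int.ofNat 0, Int.ofNat 0, Int.ofNat 0, Int.ofNat 0, Int.ofNat 0, Int.ofNat 0, Int.ofNat 0, Int.ofNat 0, Int.ofNat 0, Int.ofNat 0, Int.ofNat 0, Int.ofNat 0, Int.ofNat 0, Int.ofNat 4],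
  [Int.ofNat 4, Int.ofNat 0, Int.ofNat 4, Int.ofNat 0, Int.ofNat 0, Int.ofNat 0, Int.ofNat 0, Int.ofNat 0, Int.ofNat 0, Int.ofNat 0, Int.ofNat 0, Int.ofNat 0, Int.ofNat 0, Int.ofNat 0, Int.ofNat 0, Int.ofNat 0, Int.ofNat 0, Int.ofNat 0, Int.ofNat 0, Int.ofNat 0, Int.ofNat 0, Int.ofNat 0, Int.ofNat 0, Int.ofNat 0],
  [Int.ofNat 0, Int.ofNat 0, Int.ofNat 0, Int.ofNat 0, Int.ofNat 0, Int.ofNat 0, Int.ofNat 0, Int.ofNat 0, Int.ofNat 0, Int.ofNat 0, Int.ofNat 0, Int.ofNat 0, Int.ofNat 0, Int.ofNat 0, Int.ofNat 0, Int.ofNat 0, Int.ofNat 0, Int.ofNat 0, Int.ofNat 0, Int.ofNat 0, Int.ofNat 4, Int.ofNat 0, Int.ofNat 4, Int.ofNat 0],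
  [Int.ofNat 0, Int.ofNat 0, Int.ofNat 0, Int.ofNat 0, Int.negSucc 1, Int.ofNat 0, Int.ofNat 0, Int.ofNat 0, Int.ofNat 0, Int.negSucc 1, Int.negSucc 1, Int.ofNat 0, Int.ofNat 0, Int.negSucc 1, Int.ofNat 0, Int.negSucc 1, Int.negSucc 1, Int.ofNat 0, Int.ofNat 0, Int.ofNat 0, Int.ofNat 2, Int.ofNat 0, Int.ofNat 2, Int.ofNat 0],
  [Int.ofNat 0, Int.ofNat 0, Int.negSucc 1, Int.ofNat 0, Int.ofNat 0, Int.ofNat 0, Int.ofNat 0, Int.negSucc 1, Int.ofNat 0, Int.negSucc 1, Int.ofNat 2, Int.ofNat 0, Int.negSucc 1, Int.negSucc 1, Int.ofNat 2, Int.negSucc 1, Int.ofNat 0, Int.ofNat 0, Int.ofNat 0, Int.ofNat 0, Int.ofNat 0, Int.ofNat 0, Int.ofNat 0, Int.ofNat 0],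
  [Int.negSucc 0, Int.negSucc 0, Int.ofNat 1, Int.negSucc 0, Int.ofNat 1, Int.negSucc 0, Int.ofNat 1, Int.negSucc 0, Int.ofNat 1, Int.negSucc 0, Int.ofNat 3, Int.ofNat 1, Int.negSucc 0, Int.negSucc 0, Int.ofNat 1, Int.negSucc 0, Int.ofNat 1, Int.negSucc 0, Int.ofNat 1, Int.ofNat 1, Int.ofNat 1, Int.ofNat 1, Int.ofNat 1, Int.negSucc 0],
  [Int.negSucc 0, Int.negSucc 0, Int.negSucc 0, Int.negSucc 0, Int.ofNat 1, Int.ofNat 1, Int.negSucc 0, Int.negSucc 0, Int.ofNat 1, Int.ofNat 1, Int.negSucc 2, Int.ofNat 1, Int.negSucc 0, Int.negSucc 0, Int.ofNat 1, Int.ofNat 1, Int.ofNat 1, Int.negSucc 0, Int.negSucc 0, Int.ofNat 1, Int.ofNat 1, Int.ofNat 1, Int.negSucc 0, Int.negSucc 0],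
  [Int.ofNat 1, Int.negSucc 0, Int.ofNat 1, Int.negSucc 2, Int.ofNat 1, Int.ofNat 1, Int.negSucc 0, Int.ofNat 1, Int.negSucc 0, Int.negSucc 0, Int.ofNat 1, Int.ofNat 1, Int.negSucc 0, Int.ofNat 1, Int.negSucc 0, Int.negSucc 0, Int.negSucc 0, Int.negSucc 0, Int.ofNat 1, Int.ofNat 1, Int.ofNat 1, Int.negSucc 0, Int.negSucc 0, Int.negSucc 0],
  [Int.ofNat 1, Int.negSucc 0, Int.negSucc 0, Int.negSucc 2, Int.ofNat 1, Int.negSucc 0, Int.ofNat 1, Int.ofNat 1, Int.negSucc 0, Int.ofNat 1, Int.negSucc 0, Int.ofNat 1, Int.negSucc 0, Int.ofNat 1, Int.negSucc 0, Int.ofNat 1, Int.negSucc 0, Int.negSucc 0, Int.negSucc 0, Int.ofNat 1, Int.ofNat 1, Int.negSucc 0, Int.ofNat 1, Int.negSucc 0],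
  [Int.negSucc 1, Int.ofNat 0, Int.ofNat 0, Int.ofNat 0, Int.ofNat 0, Int.ofNat 2, Int.ofNat 0, Int.ofNat 0, Int.ofNat 0, Int.ofNat 0, Int.negSucc 1, Int.ofNat 2, Int.ofNat 0, Int.ofNat 0, Int.ofNat 2, Int.ofNat 0, Int.negSucc 1, Int.ofNat 2, Int.ofNat 0, Int.ofNat 0, Int.ofNat 0, Int.negSucc 1, Int.ofNat 0, Int.ofNat 0],
  [Int.negSucc 1, Int.ofNat 0, Int.ofNat 0, Int.ofNat 0, Int.ofNat 0, Int.negSucc 1, Int.ofNat 0, Int.ofNat 2, Int.negSucc 1, Int.ofNat 0, Int.ofNat 0, Int.ofNat 0, Int.ofNat 0, Int.ofNat 0, Int.ofNat 2, Int.ofNat 0, Int.ofNat 0, Int.ofNat 2, Int.ofNat 0, Int.ofNat 0, Int.negSucc 1, Int.ofNat 0, Int.ofNat 2, Int.ofNat 0],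
  [Int.ofNat 1, Int.negSucc 0, Int.negSucc 0, Int.negSucc 0, Int.negSucc 0, Int.negSucc 2, Int.negSucc 0, Int.ofNat 1, Int.negSucc 0, Int.ofNat 1, Int.ofNat 1, Int.ofNat 1, Int.ofNat 1, Int.negSucc 0, Int.ofNat 1, Int.ofNat 1, Int.negSucc 0, Int.ofNat 1, Int.ofNat 1, Int.negSucc 0, Int.negSucc 0, Int.negSucc 0, Int.ofNat 1, Int.negSucc 0],
  [Int.negSucc 0, Int.negSucc 0, Int.ofNat 1, Int.ofNat 1, Int.negSucc 0, Int.negSucc 0, Int.negSucc 0, Int.negSucc 0, Int.negSucc 2, Int.negSucc 0, Int.ofNat 1, Int.negSucc 0, Int.ofNat 1, Int.ofNat 1, Int.ofNat 1, Int.ofNat 1, Int.negSucc 0, Int.ofNat 1, Int.ofNat 1, Int.negSucc 0, Int.ofNat 1, Int.ofNat 1, Int.negSucc 0, Int.negSucc 0],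
  [Int.ofNat 0, Int.ofNat 0, Int.negSucc 1, Int.ofNat 0, Int.ofNat 0, Int.negSucc 1, Int.ofNat 0, Int.ofNat 0, Int.negSucc 1, Int.negSucc 1, Int.ofNat 0, Int.ofNat 0, Int.ofNat 2, Int.ofNat 2, Int.ofNat 0, Int.ofNat 0, Int.ofNat 0, Int.ofNat 0, Int.ofNat 2, Int.ofNat 0, Int.ofNat 0, Int.ofNat 2, Int.ofNat 0, Int.ofNat 0],
  [Int.ofNat 0, Int.negSucc 1, Int.ofNat 0, Int.ofNat 0, Int.negSucc 1, Int.ofNat 0, Int.ofNat 0, Int.negSucc 1, Int.negSucc 1, Int.ofNat 0, Int.ofNat 0, Int.ofNat 2, Int.ofNat 2, Int.ofNat 0, Int.ofNat 0, Int.ofNat 0, Int.ofNat 0, Int.ofNat 2, Int.ofNat 0, Int.ofNat 0, Int.ofNat 2, Int.ofNat 0, Int.ofNat 0, Int.ofNat 0],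
  [Int.ofNat 0, Int.negSucc 1, Int.ofNat 0, Int.ofNat 0, Int.negSucc 1, Int.ofNat 0, Int.ofNat 0, Int.ofNat 2, Int.negSucc 1, Int.ofNat 0, Int.ofNat 0, Int.negSucc 1, Int.ofNat 2, Int.ofNat 0, Int.ofNat 0, Int.ofNat 0, Int.ofNat 0, Int.ofNat 2, Int.ofNat 0, Int.ofNat 0, Int.ofNat 2, Int.ofNat 0, Int.ofNat 0, Int.ofNat 0],
  [Int.ofNat 0, Int.ofNat 2, Int.ofNat 0, Int.ofNat 0, Int.ofNat 2, Int.ofNat 0, Int.ofNat 0, Int.ofNat 2, Int.ofNat 2, Int.ofNat 0, Int.ofNat 0, Int.negSucc 1, Int.negSucc 1, Int.ofNat 0, Int.ofNat 0, Int.ofNat 0, Int.ofNat 0, Int.ofNat 2, Int.ofNat 0, Int.ofNat 0, Int.ofNat 2, Int.ofNat 0, Int.ofNat 0, Int.ofNat 0],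
  [Int.ofNat 0, Int.ofNat 0, Int.negSucc 1, Int.ofNat 0, Int.ofNat 2, Int.ofNat 0, Int.ofNat 0, Int.ofNat 0, Int.ofNat 2, Int.ofNat 0, Int.ofNat 0, Int.ofNat 0, Int.ofNat 0, Int.ofNat 2, Int.ofNat 0, Int.ofNat 0, Int.ofNat 0, Int.ofNat 2, Int.ofNat 0, Int.ofNat 0, Int.ofNat 2, Int.negSucc 1, Int.ofNat 2, Int.ofNat 0],
  [Int.ofNat 0, Int.ofNat 0, Int.ofNat 2, Int.ofNat 0, Int.ofNat 2, Int.ofNat 0, Int.ofNat 0, Int.ofNat 0, Int.ofNat 2, Int.ofNat 0, Int.ofNat 0, Int.ofNat 0, Int.ofNat 0, Int.ofNat 2, Int.ofNat 0, Int.ofNat 0, Int.ofNat 0, Int.ofNat 2, Int.ofNat 0, Int.ofNat 0, Int.ofNat 2, Int.ofNat 2, Int.ofNat 2, Int.ofNat 0],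
  [Int.ofNat 2, Int.ofNat 0, Int.ofNat 0, Int.ofNat 2, Int.ofNat 0, Int.ofNat 2, Int.ofNat 0, Int.ofNat 0, Int.ofNat 0, Int.ofNat 2, Int.ofNat 0, Int.ofNat 0, Int.ofNat 0, Int.ofNat 0, Int.ofNat 2, Int.ofNat 0, Int.ofNat 0, Int.ofNat 0, Int.ofNat 2, Int.ofNat 0, Int.ofNat 0, Int.ofNat 2, Int.ofNat 2, Int.ofNat 0],
  [Int.negSucc 0, Int.ofNat 1, Int.ofNat 1, Int.negSucc 0, Int.negSucc 0, Int.negSucc 0, Int.negSucc 0, Int.negSucc 0, Int.negSucc 0, Int.ofNat 1, Int.negSucc 0, Int.negSucc 0, Int.negSucc 0, Int.negSucc 0, Int.negSucc 0, Int.negSucc 0, Int.negSucc 0, Int.negSucc 2, Int.ofNat 1, Int.negSucc 0, Int.negSucc 0, Int.ofNat 1, Int.ofNat 1, Int.ofNat 1],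
  [Int.negSucc 0, Int.negSucc 0, Int.negSucc 0, Int.negSucc 0, Int.negSucc 0, Int.negSucc 0, Int.ofNat 1, Int.negSucc 0, Int.negSucc 0, Int.negSucc 0, Int.negSucc 0, Int.negSucc 0, Int.negSucc 0, Int.negSucc 0, Int.negSucc 2, Int.ofNat 1, Int.negSucc 0, Int.negSucc 0, Int.ofNat 1, Int.ofNat 1, Int.negSucc 0, Int.ofNat 1, Int.ofNat 1, Int.ofNat 1],
  [Int.ofNat 0, Int.ofNat 0, Int.ofNat 0, Int.ofNat 2, Int.ofNat 0, Int.ofNat 2, Int.ofNat 0, Int.negSucc 1, Int.ofNat 0, Int.ofNat 0, Int.ofNat 0, Int.ofNat 0, Int.ofNat 0, Int.ofNat 0, Int.ofNat 0, Int.ofNat 2, Int.ofNat 0, Int.ofNat 2, Int.ofNat 2, Int.ofNat 0, Int.ofNat 0, Int.ofNat 0, Int.ofNat 2, Int.negSucc 1],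
  [Int.ofNat 0, Int.ofNat 0, Int.ofNat 0, Int.ofNat 2, Int.ofNat 2, Int.negSucc 1, Int.ofNat 0, Int.ofNat 0, Int.ofNat 0, Int.ofNat 0, Int.ofNat 0, Int.ofNat 2, Int.ofNat 0, Int.ofNat 0, Int.ofNat 2, Int.ofNat 2, Int.ofNat 0, Int.ofNat 0, Int.ofNat 0, Int.ofNat 0, Int.ofNat 0, Int.ofNat 2, Int.ofNat 0, Int.negSucc 1],
  [Int.negSucc 0, Int.negSucc 0, Int.negSucc 0, Int.ofNat 1, Int.ofNat 1, Int.negSucc 2, Int.negSucc 0, Int.negSucc 0, Int.negSucc 0, Int.negSucc 0, Int.negSucc 0, Int.ofNat 1, Int.negSucc 0, Int.negSucc 0, Int.ofNat 1, Int.ofNat 1, Int.negSucc 0, Int.negSucc 0, Int.negSucc 0, Int.negSucc 0, Int.negSucc 0, Int.ofNat 1, Int.negSucc 0, Int.ofNat 1],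
  [Int.negSucc 0, Int.negSucc 0, Int.ofNat 1, Int.ofNat 1, Int.ofNat 1, Int.ofNat 3, Int.ofNat 1, Int.negSucc 0, Int.negSucc 0, Int.ofNat 1, Int.ofNat 1, Int.ofNat 1, Int.negSucc 0, Int.negSucc 0, Int.ofNat 1, Int.negSucc 0, Int.negSucc 0, Int.negSucc 0, Int.ofNat 1, Int.negSucc 0, Int.negSucc 0, Int.ofNat 1, Int.ofNat 1, Int.ofNat 1],
  [Int.ofNat 1, Int.negSucc 0, Int.negSucc 0, Int.ofNat 1, Int.ofNat 1, Int.negSucc 0, Int.negSucc 0, Int.ofNat 1, Int.ofNat 1, Int.negSucc 0, Int.negSucc 0, Int.ofNat 1, Int.negSucc 0, Int.negSucc 0, Int.negSucc 0, Int.ofNat 1, Int.negSucc 0, Int.ofNat 1, Int.ofNat 3, Int.negSucc 0, Int.ofNat 1, Int.ofNat 1, Int.ofNat 1, Int.ofNat 1],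
  [Int.ofNat 1, Int.negSucc 0, Int.ofNat 1, Int.ofNat 1, Int.ofNat 1, Int.ofNat 1, Int.ofNat 1, Int.ofNat 1, Int.ofNat 1, Int.ofNat 1, Int.ofNat 1, Int.ofNat 1, Int.negSucc 0, Int.negSucc 0, Int.negSucc 0, Int.negSucc 0, Int.negSucc 0, Int.ofNat 1, Int.negSucc 2, Int.negSucc 0, Int.ofNat 1, Int.ofNat 1, Int.negSucc 0, Int.ofNat 1],
  [Int.ofNat 0, Int.ofNat 2, Int.ofNat 0, Int.ofNat 0, Int.ofNat 2, Int.ofNat 0, Int.ofNat 0, Int.ofNat 0, Int.ofNat 2, Int.ofNat 0, Int.ofNat 0, Int.ofNat 2, Int.ofNat 0, Int.ofNat 0, Int.negSucc 1, Int.negSucc 1, Int.ofNat 0, Int.ofNat 0, Int.negSucc 1, Int.negSucc 1, Int.ofNat 0, Int.ofNat 0, Int.ofNat 0, Int.ofNat 0],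
  [Int.ofNat 0, Int.negSucc 1, Int.ofNat 0, Int.ofNat 0, Int.ofNat 0, Int.ofNat 0, Int.ofNat 2, Int.ofNat 0, Int.ofNat 0, Int.ofNat 0, Int.ofNat 0, Int.negSucc 1, Int.ofNat 2, Int.ofNat 0, Int.ofNat 0, Int.negSucc 1, Int.ofNat 0, Int.ofNat 2, Int.ofNat 2, Int.ofNat 0, Int.ofNat 0, Int.ofNat 0, Int.negSucc 1, Int.ofNat 0],
  [Int.negSucc 0, Int.ofNat 1, Int.negSucc 0, Int.negSucc 0, Int.ofNat 1, Int.negSucc 0, Int.ofNat 1, Int.negSucc 0, Int.negSucc 0, Int.ofNat 1, Int.ofNat 1, Int.negSucc 2, Int.ofNat 1, Int.ofNat 1, Int.negSucc 0, Int.negSucc 0, Int.ofNat 1, Int.ofNat 1, Int.ofNat 1, Int.negSucc 0, Int.ofNat 1, Int.negSucc 0, Int.negSucc 0, Int.negSucc 0],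
  [Int.ofNat 1, Int.negSucc 0, Int.negSucc 0, Int.negSucc 0, Int.ofNat 1, Int.negSucc 0, Int.negSucc 0, Int.ofNat 1, Int.negSucc 0, Int.ofNat 1, Int.negSucc 0, Int.negSucc 0, Int.ofNat 1, Int.ofNat 1, Int.negSucc 2, Int.ofNat 1, Int.ofNat 1, Int.negSucc 0, Int.negSucc 0, Int.ofNat 1, Int.ofNat 1, Int.ofNat 1, Int.negSucc 0, Int.negSucc 0],
  [Int.negSucc 1, Int.ofNat 0, Int.ofNat 0, Int.ofNat 2, Int.ofNat 0, Int.ofNat 2, Int.negSucc 1, Int.ofNat 0, Int.ofNat 0, Int.ofNat 0, Int.negSucc 1, Int.ofNat 0, Int.ofNat 2, Int.ofNat 0, Int.ofNat 0, Int.ofNat 0, Int.ofNat 0, Int.ofNat 2, Int.ofNat 0, Int.ofNat 0, Int.ofNat 0, Int.ofNat 0, Int.negSucc 1, Int.ofNat 0],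
  [Int.ofNat 0, Int.ofNat 0, Int.ofNat 2, Int.ofNat 0, Int.ofNat 2, Int.negSucc 1, Int.ofNat 0, Int.ofNat 0, Int.ofNat 0, Int.negSucc 1, Int.ofNat 0, Int.ofNat 2, Int.ofNat 0, Int.ofNat 0, Int.ofNat 0, Int.ofNat 0, Int.ofNat 2, Int.ofNat 0, Int.ofNat 0, Int.ofNat 0, Int.ofNat 0, Int.negSucc 1, Int.negSucc 1, Int.ofNat 0],
  [Int.ofNat 0, Int.ofNat 0, Int.negSucc 1, Int.ofNat 0, Int.ofNat 2, Int.negSucc 1, Int.ofNat 0, Int.ofNat 0, Int.ofNat 0, Int.ofNat 2, Int.ofNat 0, Int.negSucc 1, Int.ofNat 0, Int.ofNat 0, Int.ofNat 0, Int.ofNat 0, Int.ofNat 2, Int.ofNat 0, Int.ofNat 0, Int.ofNat 0, Int.ofNat 0, Int.ofNat 2, Int.negSucc 1, Int.ofNat 0],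
  [Int.ofNat 0, Int.ofNat 0, Int.ofNat 2, Int.ofNat 0, Int.negSucc 1, Int.negSucc 1, Int.ofNat 0, Int.ofNat 0, Int.ofNat 0, Int.negSucc 1, Int.ofNat 0, Int.negSucc 1, Int.ofNat 0, Int.ofNat 0, Int.ofNat 0, Int.ofNat 0, Int.negSucc 1, Int.ofNat 0, Int.ofNat 0, Int.ofNat 0, Int.ofNat 0, Int.ofNat 2, Int.negSucc 1, Int.ofNat 0],
  [Int.ofNat 0, Int.negSucc 1, Int.negSucc 1, Int.ofNat 0, Int.ofNat 0, Int.negSucc 1, Int.ofNat 0, Int.ofNat 0, Int.ofNat 0, Int.negSucc 1, Int.negSucc 1, Int.ofNat 2, Int.ofNat 2, Int.ofNat 0, Int.ofNat 0, Int.ofNat 0, Int.ofNat 0, Int.negSucc 1, Int.ofNat 0, Int.ofNat 0, Int.ofNat 0, Int.ofNat 0, Int.ofNat 0, Int.ofNat 0],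
  [Int.ofNat 0, Int.negSucc 1, Int.ofNat 2, Int.ofNat 0, Int.ofNat 0, Int.negSucc 1, Int.ofNat 0, Int.ofNat 0, Int.ofNat 0, Int.ofNat 2, Int.ofNat 2, Int.negSucc 1, Int.ofNat 2, Int.ofNat 0, Int.ofNat 0, Int.ofNat 0, Int.ofNat 0, Int.negSucc 1, Int.ofNat 0, Int.ofNat 0, Int.ofNat 0, Int.ofNat 0, Int.ofNat 0, Int.ofNat 0],
  [Int.ofNat 0, Int.ofNat 0, Int.negSucc 1, Int.ofNat 2, Int.ofNat 0, Int.ofNat 0, Int.negSucc 1, Int.ofNat 0, Int.ofNat 0, Int.ofNat 0, Int.ofNat 2, Int.ofNat 2, Int.negSucc 1, Int.ofNat 2, Int.ofNat 0, Int.ofNat 0, Int.ofNat 0, Int.ofNat 0, Int.negSucc 1, Int.ofNat 0, Int.ofNat 0, Int.ofNat 0, Int.ofNat 0, Int.ofNat 0],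
  [Int.negSucc 0, Int.negSucc 0, Int.ofNat 1, Int.ofNat 1, Int.negSucc 0, Int.negSucc 0, Int.negSucc 0, Int.ofNat 1, Int.ofNat 1, Int.negSucc 0, Int.ofNat 1, Int.ofNat 3, Int.negSucc 0, Int.ofNat 1, Int.negSucc 0, Int.negSucc 0, Int.negSucc 0, Int.negSucc 0, Int.negSucc 0, Int.ofNat 1, Int.negSucc 0, Int.ofNat 1, Int.negSucc 0, Int.negSucc 0],
  [Int.ofNat 1, Int.negSucc 0, Int.negSucc 0, Int.negSucc 0, Int.ofNat 1, Int.ofNat 1, Int.negSucc 0, Int.ofNat 1, Int.ofNat 3, Int.negSucc 0, Int.ofNat 1, Int.negSucc 0, Int.negSucc 0, Int.negSucc 0, Int.negSucc 0, Int.negSucc 0, Int.ofNat 1, Int.negSucc 0, Int.ofNat 1, Int.negSucc 0, Int.negSucc 0, Int.negSucc 0, Int.ofNat 1, Int.negSucc 0],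
  [Int.negSucc 1, Int.ofNat 0, Int.ofNat 0, Int.ofNat 0, Int.ofNat 0, Int.ofNat 2, Int.ofNat 0, Int.ofNat 2, Int.ofNat 2, Int.ofNat 0, Int.ofNat 2, Int.negSucc 1, Int.negSucc 1, Int.negSucc 1, Int.ofNat 0, Int.ofNat 0, Int.ofNat 0, Int.ofNat 0, Int.ofNat 0, Int.ofNat 0, Int.ofNat 0, Int.ofNat 0, Int.ofNat 0, Int.ofNat 0],
  [Int.negSucc 1, Int.ofNat 0, Int.ofNat 0, Int.ofNat 0, Int.ofNat 0, Int.ofNat 2, Int.ofNat 0, Int.ofNat 2, Int.negSucc 1, Int.negSucc 1, Int.ofNat 0, Int.ofNat 0, Int.ofNat 0, Int.ofNat 0, Int.ofNat 0, Int.ofNat 0, Int.ofNat 2, Int.ofNat 0, Int.ofNat 0, Int.negSucc 1, Int.ofNat 0, Int.ofNat 2, Int.ofNat 0, Int.ofNat 0],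
  [Int.ofNat 1, Int.negSucc 0, Int.negSucc 0, Int.negSucc 0, Int.negSucc 0, Int.ofNat 1, Int.negSucc 0, Int.ofNat 1, Int.negSucc 0, Int.negSucc 0, Int.ofNat 1, Int.ofNat 1, Int.ofNat 1, Int.negSucc 0, Int.negSucc 0, Int.ofNat 1, Int.ofNat 1, Int.negSucc 0, Int.ofNat 1, Int.negSucc 2, Int.ofNat 1, Int.ofNat 1, Int.negSucc 0, Int.negSucc 0],
  [Int.ofNat 1, Int.negSucc 0, Int.ofNat 1, Int.negSucc 0, Int.negSucc 0, Int.negSucc 0, Int.ofNat 1, Int.ofNat 1, Int.negSucc 0, Int.ofNat 1, Int.negSucc 0, Int.ofNat 1, Int.ofNat 1, Int.negSucc 0, Int.negSucc 0, Int.negSucc 0, Int.ofNat 1, Int.negSucc 0, Int.negSucc 0, Int.negSucc 2, Int.ofNat 1, Int.ofNat 1, Int.ofNat 1, Int.negSucc 0],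
  [Int.negSucc 0, Int.negSucc 0, Int.negSucc 0, Int.negSucc 0, Int.ofNat 1, Int.ofNat 1, Int.negSucc 0, Int.negSucc 0, Int.ofNat 1, Int.ofNat 1, Int.negSucc 2, Int.ofNat 1, Int.negSucc 0, Int.negSucc 0, Int.ofNat 1, Int.ofNat 1, Int.ofNat 1, Int.negSucc 0, Int.negSucc 0, Int.ofNat 1, Int.ofNat 1, Int.ofNat 1, Int.negSucc 0, Int.negSucc 0],
  [Int.negSucc 0, Int.negSucc 0, Int.ofNat 1, Int.negSucc 0, Int.ofNat 1, Int.negSucc 0, Int.ofNat 1, Int.negSucc 0, Int.ofNat 1, Int.negSucc 0, Int.ofNat 3, Int.ofNat 1, Int.negSucc 0, Int.negSucc 0, Int.ofNat 1, Int.negSucc 0, Int.ofNat 1, Int.negSucc 0, Int.ofNat 1, Int.ofNat 1, Int.ofNat 1, Int.ofNat 1, Int.ofNat 1, Int.negSucc 0],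
  [Int.ofNat 0, Int.ofNat 0, Int.negSucc 1, Int.ofNat 0, Int.ofNat 0, Int.ofNat 0, Int.ofNat 0, Int.negSucc 1, Int.ofNat 0, Int.negSucc 1, Int.ofNat 2, Int.ofNat 0, Int.negSucc 1, Int.negSucc 1, Int.ofNat 2, Int.negSucc 1, Int.ofNat 0, Int.ofNat 0, Int.ofNat 0, Int.ofNat 0, Int.ofNat 0, Int.ofNat 0, Int.ofNat 0, Int.ofNat 0],
  [Int.ofNat 0, Int.ofNat 0, Int.ofNat 0, Int.ofNat 0, Int.negSucc 1, Int.ofNat 0, Int.ofNat 0, Int.ofNat 0, Int.ofNat 0, Int.negSucc 1, Int.negSucc 1, Int.ofNat 0, Int.ofNat 0, Int.negSucc 1, Int.ofNat 0, Int.negSucc 1, Int.negSucc 1, Int.ofNat 0, Int.ofNat 0, Int.ofNat 0, Int.ofNat 2, Int.ofNat 0, Int.ofNat 2, Int.ofNat 0],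
  [Int.ofNat 0, Int.ofNat 0, Int.ofNat 0, Int.ofNat 0, Int.ofNat 0, Int.ofNat 0, Int.ofNat 0, Int.ofNat 0, Int.ofNat 0, Int.ofNat 0, Int.ofNat 0, Int.ofNat 0, Int.ofNat 0, Int.ofNat 0, Int.ofNat 0, Int.ofNat 0, Int.ofNat 0, Int.ofNat 0, Int.ofNat 0, Int.ofNat 0, Int.ofNat 4, Int.ofNat 0, Int.ofNat 4, Int.ofNat 0],
  [Int.ofNat 4, Int.ofNat 0, Int.ofNat 4, Int.ofNat 0, Int.ofNat 0, Int.ofNat 0, Int.ofNat 0, Int.ofNat 0, Int.ofNat 0, Int.ofNat 0, Int.ofNat 0, Int.ofNat 0, Int.ofNat 0, Int.ofNat 0, Int.ofNat 0, Int.ofNat 0, Int.ofNat 0, Int.ofNat 0, Int.ofNat 0, Int.ofNat 0, Int.ofNat 0, Int.ofNat 0, Int.ofNat 0, Int.ofNat 0],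
  [Int.ofNat 0, Int.ofNat 4, Int.ofNat 0, Int.ofNat 0, Int.ofNat 0, Int.ofNat 0, Int.ofNat 0, Int.ofNat 0, Int.ofNat 0, Int.ofNat 0, Int.ofNat 0, Int.ofNat 0, Int.ofNat 0, Int.ofNat 0, Int.ofNat 0, Int.ofNat 0, Int.ofNat 0, Int.ofNat 0, Int.ofNat 0, Int.ofNat 0, Int.ofNat 0, Int.ofNat 0, Int.ofNat 0, Int.ofNat 4],
  [Int.ofNat 4, Int.ofNat 0, Int.ofNat 0, Int.ofNat 0, Int.ofNat 0, Int.ofNat 0, Int.ofNat 0, Int.ofNat 0, Int.ofNat 0, Int.ofNat 0, Int.ofNat 0, Int.ofNat 0, Int.ofNat 0, Int.ofNat 0, Int.ofNat 0, Int.ofNat 0, Int.ofNat 0, Int.ofNat 0, Int.ofNat 0, Int.ofNat 0, Int.ofNat 0, Int.ofNat 0, Int.ofNat 0, Int.ofNat 4],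
  [Int.negSucc 3, Int.ofNat 0, Int.ofNat 0, Int.ofNat 0, Int.ofNat 0, Int.ofNat 0, Int.ofNat 0, Int.ofNat 0, Int.ofNat 0, Int.ofNat 0, Int.ofNat 0, Int.ofNat 0, Int.ofNat 0, Int.ofNat 0, Int.ofNat 0, Int.ofNat 0, Int.ofNat 0, Int.ofNat 0, Int.ofNat 0, Int.ofNat 0, Int.ofNat 0, Int.ofNat 0, Int.ofNat 0, Int.ofNat 4],
  [Int.ofNat 4, Int.ofNat 0, Int.ofNat 0, Int.ofNat 0, Int.ofNat 0, Int.ofNat 0, Int.ofNat 0, Int.ofNat 0, Int.ofNat 0, Int.ofNat 0, Int.ofNat 0, Int.ofNat 0, Int.ofNat 0, Int.ofNat 0, Int.ofNat 0, Int.ofNat 0, Int.ofNat 0, Int.ofNat 0, Int.ofNat 0, Int.ofNat 0, Int.ofNat 0, Int.ofNat 0, Int.ofNat 0, Int.ofNat 4],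
  [Int.ofNat 4, Int.ofNat 0, Int.ofNat 0, Int.ofNat 0, Int.ofNat 0, Int.ofNat 0, Int.ofNat 0, Int.ofNat 0, Int.ofNat 0, Int.ofNat 0, Int.ofNat 0, Int.ofNat 0, Int.ofNat 0, Int.ofNat 0, Int.ofNat 0, Int.ofNat 0, Int.ofNat 0, Int.ofNat 0, Int.ofNat 0, Int.ofNat 0, Int.ofNat 0, Int.ofNat 0, Int.ofNat 0, Int.ofNat 4],
  [Int.negSucc 3, Int.ofNat 0, Int.ofNat 0, Int.ofNat 0, Int.ofNat 0, Int.ofNat 0, Int.ofNat 0, Int.ofNat 0, Int.ofNat 0, Int.ofNat 0, Int.ofNat 0, Int.ofNat 0, Int.ofNat 0, Int.ofNat 0, Int.ofNat 0, Int.ofNat 0, Int.ofNat 0, Int.ofNat 0, Int.ofNat 0, Int.ofNat 0, Int.ofNat 0, Int.ofNat 0, Int.ofNat 0, Int.ofNat 4],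
  [Int.ofNat 0, Int.negSucc 3, Int.ofNat 0, Int.ofNat 0, Int.ofNat 0, Int.ofNat 0, Int.ofNat 0, Int.ofNat 0, Int.ofNat 0, Int.ofNat 0, Int.ofNat 0, Int.ofNat 0, Int.ofNat 0, Int.ofNat 0, Int.ofNat 0, Int.ofNat 0, Int.ofNat 0, Int.ofNat 0, Int.ofNat 0, Int.ofNat 0, Int.ofNat 0, Int.ofNat 0, Int.ofNat 0, Int.ofNat 4],
  [Int.ofNat 0, Int.ofNat 4, Int.ofNat 0, Int.ofNat 0, Int.ofNat 0, Int.ofNat 0, Int.ofNat 0, Int.ofNat 0, Int.ofNat 0, Int.ofNat 0, Int.ofNat 0, Int.ofNat 0, Int.ofNat 0, Int.ofNat 0, Int.ofNat 0, Int.ofNat 0, Int.ofNat 0, Int.ofNat 0, Int.ofNat 0, Int.ofNat 0, Int.ofNat 0, Int.ofNat 0, Int.ofNat 0, Int.negSucc 3],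
  [Int.ofNat 0, Int.ofNat 0, Int.ofNat 0, Int.ofNat 0, Int.ofNat 0, Int.ofNat 0, Int.ofNat 0, Int.ofNat 0, Int.ofNat 0, Int.ofNat 0, Int.ofNat 0, Int.ofNat 0, Int.ofNat 0, Int.ofNat 0, Int.ofNat 0, Int.ofNat 0, Int.ofNat 0, Int.ofNat 0, Int.ofNat 0, Int.ofNat 0, Int.ofNat 0, Int.ofNat 4, Int.ofNat 0, Int.negSucc 3],
  [Int.negSucc 1, Int.negSucc 1, Int.negSucc 1, Int.ofNat 0, Int.ofNat 0, Int.ofNat 0, Int.negSucc 1, Int.negSucc 1, Int.ofNat 0, Int.ofNat 0, Int.ofNat 0, Int.ofNat 0, Int.ofNat 0, Int.ofNat 0, Int.ofNat 0, Int.ofNat 0, Int.ofNat 0, Int.ofNat 0, Int.ofNat 0, Int.negSucc 1, Int.ofNat 0, Int.ofNat 2, Int.ofNat 0, Int.ofNat 2],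
  [Int.negSucc 1, Int.negSucc 1, Int.ofNat 0, Int.ofNat 0, Int.ofNat 0, Int.negSucc 1, Int.negSucc 1, Int.ofNat 0, Int.ofNat 0, Int.ofNat 0, Int.ofNat 0, Int.ofNat 0, Int.ofNat 0, Int.ofNat 0, Int.ofNat 0, Int.ofNat 0, Int.ofNat 0, Int.ofNat 0, Int.negSucc 1, Int.ofNat 0, Int.ofNat 2, Int.ofNat 0, Int.negSucc 1, Int.ofNat 2],
  [Int.ofNat 1, Int.ofNat 1, Int.negSucc 0, Int.ofNat 1, Int.ofNat 1, Int.negSucc 0, Int.negSucc 0, Int.ofNat 1, Int.ofNat 1, Int.negSucc 0, Int.negSucc 0, Int.ofNat 1, Int.ofNat 1, Int.ofNat 1, Int.ofNat 1, Int.negSucc 0, Int.ofNat 1, Int.ofNat 1, Int.negSucc 0, Int.ofNat 1, Int.ofNat 1, Int.ofNat 1, Int.negSucc 0, Int.negSucc 2],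
  [Int.ofNat 1, Int.ofNat 1, Int.ofNat 1, Int.ofNat 1, Int.ofNat 1, Int.ofNat 1, Int.ofNat 1, Int.ofNat 1, Int.ofNat 1, Int.ofNat 1, Int.ofNat 1, Int.ofNat 1, Int.ofNat 1, Int.ofNat 1, Int.ofNat 1, Int.ofNat 1, Int.ofNat 1, Int.ofNat 1, Int.ofNat 1, Int.ofNat 1, Int.ofNat 1, Int.ofNat 1, Int.ofNat 1, Int.negSucc 2],
  [Int.ofNat 1, Int.ofNat 1, Int.ofNat 1, Int.ofNat 1, Int.ofNat 1, Int.ofNat 1, Int.ofNat 1, Int.ofNat 1, Int.ofNat 1, Int.ofNat 1, Int.ofNat 1, Int.ofNat 1, Int.ofNat 1, Int.ofNat 1, Int.ofNat 1, Int.ofNat 1, Int.ofNat 1, Int.ofNat 1, Int.ofNat 1, Int.ofNat 1, Int.ofNat 1, Int.ofNat 1, Int.ofNat 1, Int.negSucc 2],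
  [Int.ofNat 1, Int.ofNat 1, Int.negSucc 0, Int.ofNat 1, Int.ofNat 1, Int.negSucc 0, Int.negSucc 0, Int.ofNat 1, Int.ofNat 1, Int.negSucc 0, Int.negSucc 0, Int.ofNat 1, Int.ofNat 1, Int.ofNat 1, Int.ofNat 1, Int.negSucc 0, Int.ofNat 1, Int.ofNat 1, Int.negSucc 0, Int.ofNat 1, Int.ofNat 1, Int.ofNat 1, Int.negSucc 0, Int.negSucc 2],
  [Int.negSucc 1, Int.negSucc 1, Int.ofNat 0, Int.ofNat 0, Int.ofNat 0, Int.negSucc 1, Int.negSucc 1, Int.ofNat 0, Int.ofNat 0, Int.ofNat 0, Int.ofNat 0, Int.ofNat 0, Int.ofNat 0, Int.ofNat 0, Int.ofNat 0, Int.ofNat 0, Int.ofNat 0, Int.ofNat 0, Int.negSucc 1, Int.ofNat 0, Int.ofNat 2, Int.ofNat 0, Int.negSucc 1, Int.ofNat 2],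
  [Int.negSucc 1, Int.negSucc 1, Int.negSucc 1, Int.ofNat 0, Int.ofNat 0, Int.ofNat 0, Int.negSucc 1, Int.negSucc 1, Int.ofNat 0, Int.ofNat 0, Int.ofNat 0, Int.ofNat 0, Int.ofNat 0, Int.ofNat 0, Int.ofNat 0, Int.ofNat 0, Int.ofNat 0, Int.ofNat 0, Int.ofNat 0, Int.negSucc 1, Int.ofNat 0, Int.ofNat 2, Int.ofNat 0, Int.ofNat 2],
  [Int.ofNat 0, Int.ofNat 0, Int.ofNat 0, Int.ofNat 0, Int.ofNat 0, Int.ofNat 0, Int.ofNat 0, Int.ofNat 0, Int.ofNat 0, Int.ofNat 0, Int.ofNat 0, Int.ofNat 0, Int.ofNat 0, Int.ofNat 0, Int.ofNat 0, Int.ofNat 0, Int.ofNat 0, Int.ofNat 0, Int.ofNat 0, Int.ofNat 0, Int.ofNat 0, Int.ofNat 4, Int.ofNat 0, Int.negSucc 3],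
  [Int.ofNat 0, Int.ofNat 4, Int.ofNat 0, Int.ofNat 0, Int.ofNat 0, Int.ofNat 0, Int.ofNat 0, Int.ofNat 0, Int.ofNat 0, Int.ofNat 0, Int.ofNat 0, Int.ofNat 0, Int.ofNat 0, Int.ofNat 0, Int.ofNat 0, Int.ofNat 0, Int.ofNat 0, Int.ofNat 0, Int.ofNat 0, Int.ofNat 0, Int.ofNat 0, Int.ofNat 0, Int.ofNat 0, Int.negSucc 3],
  [Int.ofNat 0, Int.negSucc 3, Int.ofNat 0, Int.ofNat 0, Int.ofNat 0, Int.ofNat 0, Int.ofNat 0, Int.ofNat 0, Int.ofNat 0, Int.ofNat 0, Int.ofNat 0, Int.ofNat 0, Int.ofNat 0, Int.ofNat 0, Int.ofNat 0, Int.ofNat 0, Int.ofNat 0, Int.ofNat 0, Int.ofNat 0, Int.ofNat 0, Int.ofNat 0, Int.ofNat 0, Int.ofNat 0, Int.ofNat 4],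
  [Int.negSucc 3, Int.ofNat 0, Int.ofNat 0, Int.ofNat 0, Int.ofNat 0, Int.ofNat 0, Int.ofNat 0, Int.ofNat 0, Int.ofNat 0, Int.ofNat 0, Int.ofNat 0, Int.ofNat 0, Int.ofNat 0, Int.ofNat 0, Int.ofNat 0, Int.ofNat 0, Int.ofNat 0, Int.ofNat 0, Int.ofNat 0, Int.ofNat 0, Int.ofNat 0, Int.ofNat 0, Int.ofNat 0, Int.ofNat 4],
  [Int.ofNat 4, Int.ofNat 0, Int.ofNat 0, Int.ofNat 0, Int.ofNat 0, Int.ofNat 0, Int.ofNat 0, Int.ofNat 0, Int.ofNat 0, Int.ofNat 0, Int.ofNat 0, Int.ofNat 0, Int.ofNat 0, Int.ofNat 0, Int.ofNat 0, Int.ofNat 0, Int.ofNat 0, Int.ofNat 0, Int.ofNat 0, Int.ofNat 0, Int.ofNat 0, Int.ofNat 0, Int.ofNat 0, Int.ofNat 4],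
  [Int.negSucc 3, Int.ofNat 0, Int.ofNat 0, Int.ofNat 0, Int.ofNat 0, Int.ofNat 0, Int.ofNat 0, Int.ofNat 0, Int.ofNat 0, Int.ofNat 0, Int.ofNat 0, Int.ofNat 0, Int.ofNat 0, Int.ofNat 0, Int.ofNat 0, Int.ofNat 0, Int.ofNat 0, Int.ofNat 0, Int.ofNat 0, Int.ofNat 0, Int.ofNat 0, Int.ofNat 0, Int.ofNat 0, Int.ofNat 4],
  [Int.ofNat 4, Int.ofNat 0, Int.ofNat 0, Int.ofNat 0, Int.ofNat 0, Int.ofNat 0, Int.ofNat 0, Int.ofNat 0, Int.ofNat 0, Int.ofNat 0, Int.ofNat 0, Int.ofNat 0, Int.ofNat 0, Int.ofNat 0, Int.ofNat 0, Int.ofNat 0, Int.ofNat 0, Int.ofNat 0, Int.ofNat 0, Int.ofNat 0, Int.ofNat 0, Int.ofNat 0, Int.ofNat 0, Int.negSucc 3],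
  [Int.negSucc 3, Int.ofNat 0, Int.ofNat 0, Int.ofNat 0, Int.ofNat 0, Int.ofNat 0, Int.ofNat 0, Int.ofNat 0, Int.ofNat 0, Int.ofNat 0, Int.ofNat 0, Int.ofNat 0, Int.ofNat 0, Int.ofNat 0, Int.ofNat 0, Int.ofNat 0, Int.ofNat 0, Int.ofNat 0, Int.ofNat 0, Int.ofNat 0, Int.ofNat 0, Int.ofNat 0, Int.ofNat 0, Int.negSucc 3],
  [Int.ofNat 0, Int.negSucc 3, Int.ofNat 0, Int.ofNat 0, Int.ofNat 0, Int.ofNat 0, Int.ofNat 0, Int.ofNat 0, Int.ofNat 0, Int.ofNat 0, Int.ofNat 0, Int.ofNat 0, Int.ofNat 0, Int.ofNat 0, Int.ofNat 0, Int.ofNat 0, Int.ofNat 0, Int.ofNat 0, Int.ofNat 0, Int.ofNat 0, Int.ofNat 0, Int.ofNat 0, Int.ofNat 0, Int.negSucc 3],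
  [Int.negSucc 3, Int.ofNat 0, Int.negSucc 3, Int.ofNat 0, Int.ofNat 0, Int.ofNat 0, Int.ofNat 0, Int.ofNat 0, Int.ofNat 0, Int.ofNat 0, Int.ofNat 0, Int.ofNat 0, Int.ofNat 0, Int.ofNat 0, Int.ofNat 0, Int.ofNat 0, Int.ofNat 0, Int.ofNat 0, Int.ofNat 0, Int.ofNat 0, Int.ofNat 0, Int.ofNat 0, Int.ofNat 0, Int.ofNat 0],
  [Int.ofNat 0, Int.ofNat 0, Int.ofNat 0, Int.ofNat 0, Int.ofNat 0, Int.ofNat 0, Int.ofNat 0, Int.ofNat 0, Int.ofNat 0, Int.ofNat 0, Int.ofNat 0, Int.ofNat 0, Int.ofNat 0, Int.ofNat 0, Int.ofNat 0, Int.ofNat 0, Int.ofNat 0, Int.ofNat 0, Int.ofNat 0, Int.ofNat 0, Int.negSucc 3, Int.ofNat 0, Int.negSucc 3, Int.ofNat 0],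
  [Int.ofNat 0, Int.ofNat 0, Int.ofNat 0, Int.ofNat 0, Int.ofNat 2, Int.ofNat 0, Int.ofNat 0, Int.ofNat 0, Int.ofNat 0, Int.ofNat 2, Int.ofNat 2, Int.ofNat 0, Int.ofNat 0, Int.ofNat 2, Int.ofNat 0, Int.ofNat 2, Int.ofNat 2, Int.ofNat 0, Int.ofNat 0, Int.ofNat 0, Int.negSucc 1, Int.ofNat 0, Int.negSucc 1, Int.ofNat 0],
  [Int.ofNat 0, Int.ofNat 0, Int.ofNat 2, Int.ofNat 0, Int.ofNat 0, Int.ofNat 0, Int.ofNat 0, Int.ofNat 2, Int.ofNat 0, Int.ofNat 2, Int.negSucc 1, Int.ofNat 0, Int.ofNat 2, Int.ofNat 2, Int.negSucc 1, Int.ofNat 2, Int.ofNat 0, Int.ofNat 0, Int.ofNat 0, Int.ofNat 0, Int.ofNat 0, Int.ofNat 0, Int.ofNat 0, Int.ofNat 0],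
  [Int.ofNat 1, Int.ofNat 1, Int.negSucc 0, Int.ofNat 1, Int.negSucc 0, Int.ofNat 1, Int.negSucc 0, Int.ofNat 1, Int.negSucc 0, Int.ofNat 1, Int.negSucc 2, Int.negSucc 0, Int.ofNat 1, Int.ofNat 1, Int.negSucc 0, Int.ofNat 1, Int.negSucc 0, Int.ofNat 1, Int.negSucc 0, Int.negSucc 0, Int.negSucc 0, Int.negSucc 0, Int.negSucc 0, Int.ofNat 1],
  [Int.ofNat 1, Int.ofNat 1, Int.ofNat 1, Int.ofNat 1, Int.negSucc 0, Int.negSucc 0, Int.ofNat 1, Int.ofNat 1, Int.negSucc 0, Int.negSucc 0, Int.ofNat 3, Int.negSucc 0, Int.ofNat 1, Int.ofNat 1, Int.negSucc 0, Int.negSucc 0, Int.negSucc 0, Int.ofNat 1, Int.ofNat 1, Int.negSucc 0, Int.negSucc 0, Int.negSucc 0, Int.ofNat 1, Int.ofNat 1],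
  [Int.negSucc 0, Int.ofNat 1, Int.negSucc 0, Int.ofNat 3, Int.negSucc 0, Int.negSucc 0, Int.ofNat 1, Int.negSucc 0, Int.ofNat 1, Int.ofNat 1, Int.negSucc 0, Int.negSucc 0, Int.ofNat 1, Int.negSucc 0, Int.ofNat 1, Int.ofNat 1, Int.ofNat 1, Int.ofNat 1, Int.negSucc 0, Int.negSucc 0, Int.negSucc 0, Int.ofNat 1, Int.ofNat 1, Int.ofNat 1],
  [Int.negSucc 0, Int.ofNat 1, Int.ofNat 1, Int.ofNat 3, Int.negSucc 0, Int.ofNat 1, Int.negSucc 0, Int.negSucc 0, Int.ofNat 1, Int.negSucc 0, Int.ofNat 1, Int.negSucc 0, Int.ofNat 1, Int.negSucc 0, Int.ofNat 1, Int.negSucc 0, Int.ofNat 1, Int.ofNat 1, Int.ofNat 1, Int.negSucc 0, Int.negSucc 0, Int.ofNat 1, Int.negSucc 0, Int.ofNat 1],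
  [Int.ofNat 2, Int.ofNat 0, Int.ofNat 0, Int.ofNat 0, Int.ofNat 0, Int.negSucc 1, Int.ofNat 0, Int.ofNat 0, Int.ofNat 0, Int.ofNat 0, Int.ofNat 2, Int.negSucc 1, Int.ofNat 0, Int.ofNat 0, Int.negSucc 1, Int.ofNat 0, Int.ofNat 2, Int.negSucc 1, Int.ofNat 0, Int.ofNat 0, Int.ofNat 0, Int.ofNat 2, Int.ofNat 0, Int.ofNat 0],
  [Int.ofNat 2, Int.ofNat 0, Int.ofNat 0, Int.ofNat 0, Int.ofNat 0, Int.ofNat 2, Int.ofNat 0, Int.negSucc 1, Int.ofNat 2, Int.ofNat 0, Int.ofNat 0, Int.ofNat 0, Int.ofNat 0, Int.ofNat 0, Int.negSucc 1, Int.ofNat 0, Int.ofNat 0, Int.negSucc 1, Int.ofNat 0, Int.ofNat 0, Int.ofNat 2, Int.ofNat 0, Int.negSucc 1, Int.ofNat 0],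
  [Int.negSucc 0, Int.ofNat 1, Int.ofNat 1, Int.ofNat 1, Int.ofNat 1, Int.ofNat 3, Int.ofNat 1, Int.negSucc 0, Int.ofNat 1, Int.negSucc 0, Int.negSucc 0, Int.negSucc 0, Int.negSucc 0, Int.ofNat 1, Int.negSucc 0, Int.negSucc 0, Int.ofNat 1, Int.negSucc 0, Int.negSucc 0, Int.ofNat 1, Int.ofNat 1, Int.ofNat 1, Int.negSucc 0, Int.ofNat 1],
  [Int.ofNat 1, Int.ofNat 1, Int.negSucc 0, Int.negSucc 0, Int.ofNat 1, Int.ofNat 1, Int.ofNat 1, Int.ofNat 1, Int.ofNat 3, Int.ofNat 1, Int.negSucc 0, Int.ofNat 1, Int.negSucc 0, Int.negSucc 0, Int.negSucc 0, Int.negSucc 0, Int.ofNat 1, Int.negSucc 0, Int.negSucc 0, Int.ofNat 1, Int.negSucc 0, Int.negSucc 0, Int.ofNat 1, Int.ofNat 1],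
  [Int.ofNat 0, Int.ofNat 0, Int.ofNat 2, Int.ofNat 0, Int.ofNat 0, Int.ofNat 2, Int.ofNat 0, Int.ofNat 0, Int.ofNat 2, Int.ofNat 2, Int.ofNat 0, Int.ofNat 0, Int.negSucc 1, Int.negSucc 1, Int.ofNat 0, Int.ofNat 0, Int.ofNat 0, Int.ofNat 0, Int.negSucc 1, Int.ofNat 0, Int.ofNat 0, Int.negSucc 1, Int.ofNat 0, Int.ofNat 0],
  [Int.ofNat 0, Int.ofNat 2, Int.ofNat 0, Int.ofNat 0, Int.ofNat 2, Int.ofNat 0, Int.ofNat 0, Int.ofNat 2, Int.ofNat 2, Int.ofNat 0, Int.ofNat 0, Int.negSucc 1, Int.negSucc 1, Int.ofNat 0, Int.ofNat 0, Int.ofNat 0, Int.ofNat 0, Int.negSucc 1, Int.ofNat 0, Int.ofNat 0, Int.negSucc 1, Int.ofNat 0, Int.ofNat 0, Int.ofNat 0],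
  [Int.ofNat 0, Int.ofNat 2, Int.ofNat 0, Int.ofNat 0, Int.ofNat 2, Int.ofNat 0, Int.ofNat 0, Int.negSucc 1, Int.ofNat 2, Int.ofNat 0, Int.ofNat 0, Int.ofNat 2, Int.negSucc 1, Int.ofNat 0, Int.ofNat 0, Int.ofNat 0, Int.ofNat 0, Int.negSucc 1, Int.ofNat 0, Int.ofNat 0, Int.negSucc 1, Int.ofNat 0, Int.ofNat 0, Int.ofNat 0],
  [Int.ofNat 0, Int.negSucc 1, Int.ofNat 0, Int.ofNat 0, Int.negSucc 1, Int.ofNat 0, Int.ofNat 0, Int.negSucc 1, Int.negSucc 1, Int.ofNat 0, Int.ofNat 0, Int.ofNat 2, Int.ofNat 2, Int.ofNat 0, Int.ofNat 0, Int.ofNat 0, Int.ofNat 0, Int.negSucc 1, Int.ofNat 0, Int.ofNat 0, Int.negSucc 1, Int.ofNat 0, Int.ofNat 0, Int.ofNat 0],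
  [Int.ofNat 0, Int.ofNat 0, Int.ofNat 2, Int.ofNat 0, Int.negSucc 1, Int.ofNat 0, Int.ofNat 0, Int.ofNat 0, Int.negSucc 1, Int.ofNat 0, Int.ofNat 0, Int.ofNat 0, Int.ofNat 0, Int.negSucc 1, Int.ofNat 0, Int.ofNat 0, Int.ofNat 0, Int.negSucc 1, Int.ofNat 0, Int.ofNat 0, Int.negSucc 1, Int.ofNat 2, Int.negSucc 1, Int.ofNat 0],
  [Int.ofNat 0, Int.ofNat 0, Int.negSucc 1, Int.ofNat 0, Int.negSucc 1, Int.ofNat 0, Int.ofNat 0, Int.ofNat 0, Int.negSucc 1, Int.ofNat 0, Int.ofNat 0, Int.ofNat 0, Int.ofNat 0, Int.negSucc 1, Int.ofNat 0, Int.ofNat 0, Int.ofNat 0, Int.negSucc 1, Int.ofNat 0, Int.ofNat 0, Int.negSucc 1, Int.negSucc 1, Int.negSucc 1, Int.ofNat 0],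
  [Int.negSucc 1, Int.ofNat 0, Int.ofNat 0, Int.negSucc 1, Int.ofNat 0, Int.negSucc 1, Int.ofNat 0, Int.ofNat 0, Int.ofNat 0, Int.negSucc 1, Int.ofNat 0, Int.ofNat 0, Int.ofNat 0, Int.ofNat 0, Int.negSucc 1, Int.ofNat 0, Int.ofNat 0, Int.ofNat 0, Int.negSucc 1, Int.ofNat 0, Int.ofNat 0, Int.negSucc 1, Int.negSucc 1, Int.ofNat 0],
  [Int.ofNat 1, Int.negSucc 0, Int.negSucc 0, Int.ofNat 1, Int.ofNat 1, Int.ofNat 1, Int.ofNat 1, Int.ofNat 1, Int.ofNat 1, Int.negSucc 0, Int.ofNat 1, Int.ofNat 1, Int.ofNat 1, Int.ofNat 1, Int.ofNat 1, Int.ofNat 1, Int.ofNat 1, Int.ofNat 3, Int.negSucc 0, Int.ofNat 1, Int.ofNat 1, Int.negSucc 0, Int.negSucc 0, Int.negSucc 0],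
  [Int.ofNat 1, Int.ofNat 1, Int.ofNat 1, Int.ofNat 1, Int.ofNat 1, Int.ofNat 1, Int.negSucc 0, Int.ofNat 1, Int.ofNat 1, Int.ofNat 1, Int.ofNat 1, Int.ofNat 1, Int.ofNat 1, Int.ofNat 1, Int.ofNat 3, Int.negSucc 0, Int.ofNat 1, Int.ofNat 1, Int.negSucc 0, Int.negSucc 0, Int.ofNat 1, Int.negSucc 0, Int.negSucc 0, Int.negSucc 0],
  [Int.ofNat 0, Int.ofNat 0, Int.ofNat 0, Int.negSucc 1, Int.ofNat 0, Int.negSucc 1, Int.ofNat 0, Int.ofNat 2, Int.ofNat 0, Int.ofNat 0, Int.ofNat 0, Int.ofNat 0, Int.ofNat 0, Int.ofNat 0, Int.ofNat 0, Int.negSucc 1, Int.ofNat 0, Int.negSucc 1, Int.negSucc 1, Int.ofNat 0, Int.ofNat 0, Int.ofNat 0, Int.negSucc 1, Int.ofNat 2],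
  [Int.ofNat 0, Int.ofNat 0, Int.ofNat 0, Int.negSucc 1, Int.negSucc 1, Int.ofNat 2, Int.ofNat 0, Int.ofNat 0, Int.ofNat 0, Int.ofNat 0, Int.ofNat 0, Int.negSucc 1, Int.ofNat 0, Int.ofNat 0, Int.negSucc 1, Int.negSucc 1, Int.ofNat 0, Int.ofNat 0, Int.ofNat 0, Int.ofNat 0, Int.ofNat 0, Int.negSucc 1, Int.ofNat 0, Int.ofNat 2],
  [Int.ofNat 1, Int.ofNat 1, Int.ofNat 1, Int.negSucc 0, Int.negSucc 0, Int.ofNat 3, Int.ofNat 1, Int.ofNat 1, Int.ofNat 1, Int.ofNat 1, Int.ofNat 1, Int.negSucc 0, Int.ofNat 1, Int.ofNat 1, Int.negSucc 0, Int.negSucc 0, Int.ofNat 1, Int.ofNat 1, Int.ofNat 1, Int.ofNat 1, Int.ofNat 1, Int.negSucc 0, Int.ofNat 1, Int.negSucc 0],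
  [Int.ofNat 1, Int.ofNat 1, Int.negSucc 0, Int.negSucc 0, Int.negSucc 0, Int.negSucc 2, Int.negSucc 0, Int.ofNat 1, Int.ofNat 1, Int.negSucc 0, Int.negSucc 0, Int.negSucc 0, Int.ofNat 1, Int.ofNat 1, Int.negSucc 0, Int.ofNat 1, Int.ofNat 1, Int.ofNat 1, Int.negSucc 0, Int.ofNat 1, Int.ofNat 1, Int.negSucc 0, Int.negSucc 0, Int.negSucc 0],
  [Int.negSucc 0, Int.ofNat 1, Int.ofNat 1, Int.negSucc 0, Int.negSucc 0, Int.ofNat 1, Int.ofNat 1, Int.negSucc 0, Int.negSucc 0, Int.ofNat 1, Int.ofNat 1, Int.negSucc 0, Int.ofNat 1, Int.ofNat 1, Int.ofNat 1, Int.negSucc 0, Int.ofNat 1, Int.negSucc 0, Int.negSucc 2, Int.ofNat 1, Int.negSucc 0, Int.negSucc 0, Int.negSucc 0, Int.negSucc 0],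
  [Int.negSucc 0, Int.ofNat 1, Int.negSucc 0, Int.negSucc 0, Int.negSucc 0, Int.negSucc 0, Int.negSucc 0, Int.negSucc 0, Int.negSucc 0, Int.negSucc 0, Int.negSucc 0, Int.negSucc 0, Int.ofNat 1, Int.ofNat 1, Int.ofNat 1, Int.ofNat 1, Int.ofNat 1, Int.negSucc 0, Int.ofNat 3, Int.ofNat 1, Int.negSucc 0, Int.negSucc 0, Int.ofNat 1, Int.negSucc 0],
  [Int.ofNat 0, Int.negSucc 1, Int.ofNat 0, Int.ofNat 0, Int.negSucc 1, Int.ofNat 0, Int.ofNat 0, Int.ofNat 0, Int.negSucc 1, Int.ofNat 0, Int.ofNat 0, Int.negSucc 1, Int.ofNat 0, Int.ofNat 0, Int.ofNat 2, Int.ofNat 2, Int.ofNat 0, Int.ofNat 0, Int.ofNat 2, Int.ofNat 2, Int.ofNat 0, Int.ofNat 0, Int.ofNat 0, Int.ofNat 0],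
  [Int.ofNat 0, Int.ofNat 2, Int.ofNat 0, Int.ofNat 0, Int.ofNat 0, Int.ofNat 0, Int.negSucc 1, Int.ofNat 0, Int.ofNat 0, Int.ofNat 0, Int.ofNat 0, Int.ofNat 2, Int.negSucc 1, Int.ofNat 0, Int.ofNat 0, Int.ofNat 2, Int.ofNat 0, Int.negSucc 1, Int.negSucc 1, Int.ofNat 0, Int.ofNat 0, Int.ofNat 0, Int.ofNat 2, Int.ofNat 0],
  [Int.ofNat 1, Int.negSucc 0, Int.ofNat 1, Int.ofNat 1, Int.negSucc 0, Int.ofNat 1, Int.negSucc 0, Int.ofNat 1, Int.ofNat 1, Int.negSucc 0, Int.negSucc 0, Int.ofNat 3, Int.negSucc 0, Int.negSucc 0, Int.ofNat 1, Int.ofNat 1, Int.negSucc 0, Int.negSucc 0, Int.negSucc 0, Int.ofNat 1, Int.negSucc 0, Int.ofNat 1, Int.ofNat 1, Int.ofNat 1],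
  [Int.negSucc 0, Int.ofNat 1, Int.ofNat 1, Int.ofNat 1, Int.negSucc 0, Int.ofNat 1, Int.ofNat 1, Int.negSucc 0, Int.ofNat 1, Int.negSucc 0, Int.ofNat 1, Int.ofNat 1, Int.negSucc 0, Int.negSucc 0, Int.ofNat 3, Int.negSucc 0, Int.negSucc 0, Int.ofNat 1, Int.ofNat 1, Int.negSucc 0, Int.negSucc 0, Int.negSucc 0, Int.ofNat 1, Int.ofNat 1],
  [Int.ofNat 2, Int.ofNat 0, Int.ofNat 0, Int.negSucc 1, Int.ofNat 0, Int.negSucc 1, Int.ofNat 2, Int.ofNat 0, Int.ofNat 0, Int.ofNat 0, Int.ofNat 2, Int.ofNat 0, Int.negSucc 1, Int.ofNat 0, Int.ofNat 0, Int.ofNat 0, Int.ofNat 0, Int.negSucc 1, Int.ofNat 0, Int.ofNat 0, Int.ofNat 0, Int.ofNat 0, Int.ofNat 2, Int.ofNat 0],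
  [Int.ofNat 0, Int.ofNat 0, Int.negSucc 1, Int.ofNat 0, Int.negSucc 1, Int.ofNat 2, Int.ofNat 0, Int.ofNat 0, Int.ofNat 0, Int.ofNat 2, Int.ofNat 0, Int.negSucc 1, Int.ofNat 0, Int.ofNat 0, Int.ofNat 0, Int.ofNat 0, Int.negSucc 1, Int.ofNat 0, Int.ofNat 0, Int.ofNat 0, Int.ofNat 0, Int.ofNat 2, Int.ofNat 2, Int.ofNat 0],
  [Int.ofNat 0, Int.ofNat 0, Int.ofNat 2, Int.ofNat 0, Int.negSucc 1, Int.ofNat 2, Int.ofNat 0, Int.ofNat 0, Int.ofNat 0, Int.negSucc 1, Int.ofNat 0, Int.ofNat 2, Int.ofNat 0, Int.ofNat 0, Int.ofNat 0, Int.ofNat 0, Int.negSucc 1, Int.ofNat 0, Int.ofNat 0, Int.ofNat 0, Int.ofNat 0, Int.negSucc 1, Int.ofNat 2, Int.ofNat 0],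
  [Int.ofNat 0, Int.ofNat 0, Int.negSucc 1, Int.ofNat 0, Int.ofNat 2, Int.ofNat 2, Int.ofNat 0, Int.ofNat 0, Int.ofNat 0, Int.ofNat 2, Int.ofNat 0, Int.ofNat 2, Int.ofNat 0, Int.ofNat 0, Int.ofNat 0, Int.ofNat 0, Int.ofNat 2, Int.ofNat 0, Int.ofNat 0, Int.ofNat 0, Int.ofNat 0, Int.negSucc 1, Int.ofNat 2, Int.ofNat 0],
  [Int.ofNat 0, Int.ofNat 2, Int.ofNat 2, Int.ofNat 0, Int.ofNat 0, Int.ofNat 2, Int.ofNat 0, Int.ofNat 0, Int.ofNat 0, Int.ofNat 2, Int.ofNat 2, Int.negSucc 1, Int.negSucc 1, Int.ofNat 0, Int.ofNat 0, Int.ofNat 0, Int.ofNat 0, Int.ofNat 2, Int.ofNat 0, Int.ofNat 0, Int.ofNat 0, Int.ofNat 0, Int.ofNat 0, Int.ofNat 0],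
  [Int.ofNat 0, Int.ofNat 2, Int.negSucc 1, Int.ofNat 0, Int.ofNat 0, Int.ofNat 2, Int.ofNat 0, Int.ofNat 0, Int.ofNat 0, Int.negSucc 1, Int.negSucc 1, Int.ofNat 2, Int.negSucc 1, Int.ofNat 0, Int.ofNat 0, Int.ofNat 0, Int.ofNat 0, Int.ofNat 2, Int.ofNat 0, Int.ofNat 0, Int.ofNat 0, Int.ofNat 0, Int.ofNat 0, Int.ofNat 0],
  [Int.ofNat 0, Int.ofNat 0, Int.ofNat 2, Int.negSucc 1, Int.ofNat 0, Int.ofNat 0, Int.ofNat 2, Int.ofNat 0, Int.ofNat 0, Int.ofNat 0, Int.negSucc 1, Int.negSucc 1, Int.ofNat 2, Int.negSucc 1, Int.ofNat 0, Int.ofNat 0, Int.ofNat 0, Int.ofNat 0, Int.ofNat 2, Int.ofNat 0, Int.ofNat 0, Int.ofNat 0, Int.ofNat 0, Int.ofNat 0],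
  [Int.ofNat 1, Int.ofNat 1, Int.negSucc 0, Int.negSucc 0, Int.ofNat 1, Int.ofNat 1, Int.ofNat 1, Int.negSucc 0, Int.negSucc 0, Int.ofNat 1, Int.negSucc 0, Int.negSucc 2, Int.ofNat 1, Int.negSucc 0, Int.ofNat 1, Int.ofNat 1, Int.ofNat 1, Int.ofNat 1, Int.ofNat 1, Int.negSucc 0, Int.ofNat 1, Int.negSucc 0, Int.ofNat 1, Int.ofNat 1],
  [Int.negSucc 0, Int.ofNat 1, Int.ofNat 1, Int.ofNat 1, Int.negSucc 0, Int.negSucc 0, Int.ofNat 1, Int.negSucc 0, Int.negSucc 2, Int.ofNat 1, Int.negSucc 0, Int.ofNat 1, Int.ofNat 1, Int.ofNat 1, Int.ofNat 1, Int.ofNat 1, Int.negSucc 0, Int.ofNat 1, Int.negSucc 0, Int.ofNat 1, Int.ofNat 1, Int.ofNat 1, Int.negSucc 0, Int.ofNat 1],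
  [Int.ofNat 2, Int.ofNat 0, Int.ofNat 0, Int.ofNat 0, Int.ofNat 0, Int.negSucc 1, Int.ofNat 0, Int.negSucc 1, Int.negSucc 1, Int.ofNat 0, Int.negSucc 1, Int.ofNat 2, Int.ofNat 2, Int.ofNat 2, Int.ofNat 0, Int.ofNat 0, Int.ofNat 0, Int.ofNat 0, Int.ofNat 0, Int.ofNat 0, Int.ofNat 0, Int.ofNat 0, Int.ofNat 0, Int.ofNat 0],
  [Int.ofNat 2, Int.ofNat 0, Int.ofNat 0, Int.ofNat 0, Int.ofNat 0, Int.negSucc 1, Int.ofNat 0, Int.negSucc 1, Int.ofNat 2, Int.ofNat 2, Int.ofNat 0, Int.ofNat 0, Int.ofNat 0, Int.ofNat 0, Int.ofNat 0, Int.ofNat 0, Int.negSucc 1, Int.ofNat 0, Int.ofNat 0, Int.ofNat 2, Int.ofNat 0, Int.negSucc 1, Int.ofNat 0, Int.ofNat 0],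
  [Int.negSucc 0, Int.ofNat 1, Int.ofNat 1, Int.ofNat 1, Int.ofNat 1, Int.negSucc 0, Int.ofNat 1, Int.negSucc 0, Int.ofNat 1, Int.ofNat 1, Int.negSucc 0, Int.negSucc 0, Int.negSucc 0, Int.ofNat 1, Int.ofNat 1, Int.negSucc 0, Int.negSucc 0, Int.ofNat 1, Int.negSucc 0, Int.ofNat 3, Int.negSucc 0, Int.negSucc 0, Int.ofNat 1, Int.ofNat 1],
  [Int.negSucc 0, Int.ofNat 1, Int.negSucc 0, Int.ofNat 1, Int.ofNat 1, Int.ofNat 1, Int.negSucc 0, Int.negSucc 0, Int.ofNat 1, Int.negSucc 0, Int.ofNat 1, Int.negSucc 0, Int.negSucc 0, Int.ofNat 1, Int.ofNat 1, Int.ofNat 1, Int.negSucc 0, Int.ofNat 1, Int.ofNat 1, Int.ofNat 3, Int.negSucc 0, Int.negSucc 0, Int.negSucc 0, Int.ofNat 1],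
  [Int.ofNat 1, Int.ofNat 1, Int.ofNat 1, Int.ofNat 1, Int.negSucc 0, Int.negSucc 0, Int.ofNat 1, Int.ofNat 1, Int.negSucc 0, Int.negSucc 0, Int.ofNat 3, Int.negSucc 0, Int.ofNat 1, Int.ofNat 1, Int.negSucc 0, Int.negSucc 0, Int.negSucc 0, Int.ofNat 1, Int.ofNat 1, Int.negSucc 0, Int.negSucc 0, Int.negSucc 0, Int.ofNat 1, Int.ofNat 1],
  [Int.ofNat 1, Int.ofNat 1, Int.negSucc 0, Int.ofNat 1, Int.negSucc 0, Int.ofNat 1, Int.negSucc 0, Int.ofNat 1, Int.negSucc 0, Int.ofNat 1, Int.negSucc 2, Int.negSucc 0, Int.ofNat 1, Int.ofNat 1, Int.negSucc 0, Int.ofNat 1, Int.negSucc 0, Int.ofNat 1, Int.negSucc 0, Int.negSucc 0, Int.negSucc 0, Int.negSucc 0, Int.negSucc 0, Int.ofNat 1],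
  [Int.ofNat 0, Int.ofNat 0, Int.ofNat 2, Int.ofNat 0, Int.ofNat 0, Int.ofNat 0, Int.ofNat 0, Int.ofNat 2, Int.ofNat 0, Int.ofNat 2, Int.negSucc 1, Int.ofNat 0, Int.ofNat 2, Int.ofNat 2, Int.negSucc 1, Int.ofNat 2, Int.ofNat 0, Int.ofNat 0, Int.ofNat 0, Int.ofNat 0, Int.ofNat 0, Int.ofNat 0, Int.ofNat 0, Int.ofNat 0],
  [Int.ofNat 0, Int.ofNat 0, Int.ofNat 0, Int.ofNat 0, Int.ofNat 2, Int.ofNat 0, Int.ofNat 0, Int.ofNat 0, Int.ofNat 0, Int.ofNat 2, Int.ofNat 2, Int.ofNat 0, Int.ofNat 0, Int.ofNat 2, Int.ofNat 0, Int.ofNat 2, Int.ofNat 2, Int.ofNat 0, Int.ofNat 0, Int.ofNat 0, Int.negSucc 1, Int.ofNat 0, Int.negSucc 1, Int.ofNat 0],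
  [Int.ofNat 0, Int.ofNat 0, Int.ofNat 0, Int.ofNat 0, Int.ofNat 0, Int.ofNat 0, Int.ofNat 0, Int.ofNat 0, Int.ofNat 0, Int.ofNat 0, Int.ofNat 0, Int.ofNat 0, Int.ofNat 0, Int.ofNat 0, Int.ofNat 0, Int.ofNat 0, Int.ofNat 0, Int.ofNat 0, Int.ofNat 0, Int.ofNat 0, Int.negSucc 3, Int.ofNat 0, Int.negSucc 3, Int.ofNat 0],
  [Int.negSucc 3, Int.ofNat 0, Int.negSucc 3, Int.ofNat 0, Int.ofNat 0, Int.ofNat 0, Int.ofNat 0, Int.ofNat 0, Int.ofNat 0, Int.ofNat 0, Int.ofNat 0, Int.ofNat 0, Int.ofNat 0, Int.ofNat 0, Int.ofNat 0, Int.ofNat 0, Int.ofNat 0, Int.ofNat 0, Int.ofNat 0, Int.ofNat 0, Int.ofNat 0, Int.ofNat 0, Int.ofNat 0, Int.ofNat 0],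
  [Int.ofNat 0, Int.negSucc 3, Int.ofNat 0, Int.ofNat 0, Int.ofNat 0, Int.ofNat 0, Int.ofNat 0, Int.ofNat 0, Int.ofNat 0, Int.ofNat 0, Int.ofNat 0, Int.ofNat 0, Int.ofNat 0, Int.ofNat 0, Int.ofNat 0, Int.ofNat 0, Int.ofNat 0, Int.ofNat 0, Int.ofNat 0, Int.ofNat 0, Int.ofNat 0, Int.ofNat 0, Int.ofNat 0, Int.negSucc 3],
  [Int.negSucc 3, Int.ofNat 0, Int.ofNat 0, Int.ofNat 0, Int.ofNat 0, Int.ofNat 0, Int.ofNat 0, Int.ofNat 0, Int.ofNat 0, Int.ofNat 0, Int.ofNat 0, Int.ofNat 0, Int.ofNat 0, Int.ofNat 0, Int.ofNat 0, Int.ofNat 0, Int.ofNat 0, Int.ofNat 0, Int.ofNat 0, Int.ofNat 0, Int.ofNat 0, Int.ofNat 0, Int.ofNat 0, Int.negSucc 3],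
  [Int.ofNat 4, Int.ofNat 0, Int.ofNat 0, Int.ofNat 0, Int.ofNat 0, Int.ofNat 0, Int.ofNat 0, Int.ofNat 0, Int.ofNat 0, Int.ofNat 0, Int.ofNat 0, Int.ofNat 0, Int.ofNat 0, Int.ofNat 0, Int.ofNat 0, Int.ofNat 0, Int.ofNat 0, Int.ofNat 0, Int.ofNat 0, Int.ofNat 0, Int.ofNat 0, Int.ofNat 0, Int.ofNat 0, Int.negSucc 3],
  [Int.negSucc 3, Int.ofNat 0, Int.ofNat 0, Int.ofNat 0, Int.ofNat 0, Int.ofNat 0, Int.ofNat 0, Int.ofNat 0, Int.ofNat 0, Int.ofNat 0, Int.ofNat 0, Int.ofNat 0, Int.ofNat 0, Int.ofNat 0, Int.ofNat 0, Int.ofNat 0, Int.ofNat 0, Int.ofNat 0, Int.ofNat 0, Int.ofNat 0, Int.ofNat 0, Int.ofNat 0, Int.ofNat 0, Int.negSucc 3],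
  [Int.negSucc 3, Int.ofNat 0, Int.ofNat 0, Int.ofNat 0, Int.ofNat 0, Int.ofNat 0, Int.ofNat 0, Int.ofNat 0, Int.ofNat 0, Int.ofNat 0, Int.ofNat 0, Int.ofNat 0, Int.ofNat 0, Int.ofNat 0, Int.ofNat 0, Int.ofNat 0, Int.ofNat 0, Int.ofNat 0, Int.ofNat 0, Int.ofNat 0, Int.ofNat 0, Int.ofNat 0, Int.ofNat 0, Int.negSucc 3],
  [Int.ofNat 4, Int.ofNat 0, Int.ofNat 0, Int.ofNat 0, Int.ofNat 0, Int.ofNat 0, Int.ofNat 0, Int.ofNat 0, Int.ofNat 0, Int.ofNat 0, Int.ofNat 0, Int.ofNat 0, Int.ofNat 0, Int.ofNat 0, Int.ofNat 0, Int.ofNat 0, Int.ofNat 0, Int.ofNat 0, Int.ofNat 0, Int.ofNat 0, Int.ofNat 0, Int.ofNat 0, Int.ofNat 0, Int.negSucc 3],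
  [Int.ofNat 0, Int.ofNat 4, Int.ofNat 0, Int.ofNat 0, Int.ofNat 0, Int.ofNat 0, Int.ofNat 0, Int.ofNat 0, Int.ofNat 0, Int.ofNat 0, Int.ofNat 0, Int.ofNat 0, Int.ofNat 0, Int.ofNat 0, Int.ofNat 0, Int.ofNat 0, Int.ofNat 0, Int.ofNat 0, Int.ofNat 0, Int.ofNat 0, Int.ofNat 0, Int.ofNat 0, Int.ofNat 0, Int.negSucc 3],
  [Int.ofNat 0, Int.negSucc 3, Int.ofNat 0, Int.ofNat 0, Int.ofNat 0, Int.ofNat 0, Int.ofNat 0, Int.ofNat 0, Int.ofNat 0, Int.ofNat 0, Int.ofNat 0, Int.ofNat 0, Int.ofNat 0, Int.ofNat 0, Int.ofNat 0, Int.ofNat 0, Int.ofNat 0, Int.ofNat 0, Int.ofNat 0, Int.ofNat 0, Int.ofNat 0, Int.ofNat 0, Int.ofNat 0, Int.ofNat 4],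
  [Int.ofNat 0, Int.ofNat 0, Int.ofNat 0, Int.ofNat 0, Int.ofNat 0, Int.ofNat 0, Int.ofNat 0, Int.ofNat 0, Int.ofNat 0, Int.ofNat 0, Int.ofNat 0, Int.ofNat 0, Int.ofNat 0, Int.ofNat 0, Int.ofNat 0, Int.ofNat 0, Int.ofNat 0, Int.ofNat 0, Int.ofNat 0, Int.ofNat 0, Int.ofNat 0, Int.negSucc 3, Int.ofNat 0, Int.ofNat 4],
  [Int.ofNat 2, Int.ofNat 2, Int.ofNat 2, Int.ofNat 0, Int.ofNat 0, Int.ofNat 0, Int.ofNat 2, Int.ofNat 2, Int.ofNat 0, Int.ofNat 0, Int.ofNat 0, Int.ofNat 0, Int.ofNat 0, Int.ofNat 0, Int.ofNat 0, Int.ofNat 0, Int.ofNat 0, Int.ofNat 0, Int.ofNat 0, Int.ofNat 2, Int.ofNat 0, Int.negSucc 1, Int.ofNat 0, Int.negSucc 1],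
  [Int.ofNat 2, Int.ofNat 2, Int.ofNat 0, Int.ofNat 0, Int.ofNat 0, Int.ofNat 2, Int.ofNat 2, Int.ofNat 0, Int.ofNat 0, Int.ofNat 0, Int.ofNat 0, Int.ofNat 0, Int.ofNat 0, Int.ofNat 0, Int.ofNat 0, Int.ofNat 0, Int.ofNat 0, Int.ofNat 0, Int.ofNat 2, Int.ofNat 0, Int.negSucc 1, Int.ofNat 0, Int.ofNat 2, Int.negSucc 1],
  [Int.negSucc 0, Int.negSucc 0, Int.ofNat 1, Int.negSucc 0, Int.negSucc 0, Int.ofNat 1, Int.ofNat 1, Int.negSucc 0, Int.negSucc 0, Int.ofNat 1, Int.ofNat 1, Int.negSucc 0, Int.negSucc 0, Int.negSucc 0, Int.negSucc 0, Int.ofNat 1, Int.negSucc 0, Int.negSucc 0, Int.ofNat 1, Int.negSucc 0, Int.negSucc 0, Int.negSucc 0, Int.ofNat 1, Int.ofNat 3],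
  [Int.negSucc 0, Int.negSucc 0, Int.negSucc 0, Int.negSucc 0, Int.negSucc 0, Int.negSucc 0, Int.negSucc 0, Int.negSucc 0, Int.negSucc 0, Int.negSucc 0, Int.negSucc 0, Int.negSucc 0, Int.negSucc 0, Int.negSucc 0, Int.negSucc 0, Int.negSucc 0, Int.negSucc 0, Int.negSucc 0, Int.negSucc 0, Int.negSucc 0, Int.negSucc 0, Int.negSucc 0, Int.negSucc 0, Int.ofNat 3],
  [Int.negSucc 0, Int.negSucc 0, Int.negSucc 0, Int.negSucc 0, Int.negSucc 0, Int.negSucc 0, Int.negSucc 0, Int.negSucc 0, Int.negSucc 0, Int.negSucc 0, Int.negSucc 0, Int.negSucc 0, Int.negSucc 0, Int.negSucc 0, Int.negSucc 0, Int.negSucc 0, Int.negSucc 0, Int.negSucc 0, Int.negSucc 0, Int.negSucc 0, Int.negSucc 0, Int.negSucc 0, Int.negSucc 0, Int.ofNat 3],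
  [Int.negSucc 0, Int.negSucc 0, Int.ofNat 1, Int.negSucc 0, Int.negSucc 0, Int.ofNat 1, Int.ofNat 1, Int.negSucc 0, Int.negSucc 0, Int.ofNat 1, Int.ofNat 1, Int.negSucc 0, Int.negSucc 0, Int.negSucc 0, Int.negSucc 0, Int.ofNat 1, Int.negSucc 0, Int.negSucc 0, Int.ofNat 1, Int.negSucc 0, Int.negSucc 0, Int.negSucc 0, Int.ofNat 1, Int.ofNat 3],
  [Int.ofNat 2, Int.ofNat 2, Int.ofNat 0, Int.ofNat 0, Int.ofNat 0, Int.ofNat 2, Int.ofNat 2, Int.ofNat 0, Int.ofNat 0, Int.ofNat 0, Int.ofNat 0, Int.ofNat 0, Int.ofNat 0, Int.ofNat 0, Int.ofNat 0, Int.ofNat 0, Int.ofNat 0, Int.ofNat 0, Int.ofNat 2, Int.ofNat 0, Int.negSucc 1, Int.ofNat 0, Int.ofNat 2, Int.negSucc 1],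
  [Int.ofNat 2, Int.ofNat 2, Int.ofNat 2, Int.ofNat 0, Int.ofNat 0, Int.ofNat 0, Int.ofNat 2, Int.ofNat 2, Int.ofNat 0, Int.ofNat 0, Int.ofNat 0, Int.ofNat 0, Int.ofNat 0, Int.ofNat 0, Int.ofNat 0, Int.ofNat 0, Int.ofNat 0, Int.ofNat 0, Int.ofNat 0, Int.ofNat 2, Int.ofNat 0, Int.negSucc 1, Int.ofNat 0, Int.negSucc 1],
  [Int.ofNat 0, Int.ofNat 0, Int.ofNat 0, Int.ofNat 0, Int.ofNat 0, Int.ofNat 0, Int.ofNat 0, Int.ofNat 0, Int.ofNat 0, Int.ofNat 0, Int.ofNat 0, Int.ofNat 0, Int.ofNat 0, Int.ofNat 0, Int.ofNat 0, Int.ofNat 0, Int.ofNat 0, Int.ofNat 0, Int.ofNat 0, Int.ofNat 0, Int.ofNat 0, Int.negSucc 3, Int.ofNat 0, Int.ofNat 4],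
  [Int.ofNat 0, Int.negSucc 3, Int.ofNat 0, Int.ofNat 0, Int.ofNat 0, Int.ofNat 0, Int.ofNat 0, Int.ofNat 0, Int.ofNat 0, Int.ofNat 0, Int.ofNat 0, Int.ofNat 0, Int.ofNat 0, Int.ofNat 0, Int.ofNat 0, Int.ofNat 0, Int.ofNat 0, Int.ofNat 0, Int.ofNat 0, Int.ofNat 0, Int.ofNat 0, Int.ofNat 0, Int.ofNat 0, Int.ofNat 4],
  [Int.ofNat 0, Int.ofNat 4, Int.ofNat 0, Int.ofNat 0, Int.ofNat 0, Int.ofNat 0, Int.ofNat 0, Int.ofNat 0, Int.ofNat 0, Int.ofNat 0, Int.ofNat 0, Int.ofNat 0, Int.ofNat 0, Int.ofNat 0, Int.ofNat 0, Int.ofNat 0, Int.ofNat 0, Int.ofNat 0, Int.ofNat 0, Int.ofNat 0, Int.ofNat 0, Int.ofNat 0, Int.ofNat 0, Int.negSucc 3],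
  [Int.ofNat 4, Int.ofNat 0, Int.ofNat 0, Int.ofNat 0, Int.ofNat 0, Int.ofNat 0, Int.ofNat 0, Int.ofNat 0, Int.ofNat 0, Int.ofNat 0, Int.ofNat 0, Int.ofNat 0, Int.ofNat 0, Int.ofNat 0, Int.ofNat 0, Int.ofNat 0, Int.ofNat 0, Int.ofNat 0, Int.ofNat 0, Int.ofNat 0, Int.ofNat 0, Int.ofNat 0, Int.ofNat 0, Int.negSucc 3],
  [Int.negSucc 3, Int.ofNat 0, Int.ofNat 0, Int.ofNat 0, Int.ofNat 0, Int.ofNat 0, Int.ofNat 0, Int.ofNat 0, Int.ofNat 0, Int.ofNat 0, Int.ofNat 0, Int.ofNat 0, Int.ofNat 0, Int.ofNat 0, Int.ofNat 0, Int.ofNat 0, Int.ofNat 0, Int.ofNat 0, Int.ofNat 0, Int.ofNat 0, Int.ofNat 0, Int.ofNat 0, Int.ofNat 0, Int.negSucc 3],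
  [Int.ofNat 4, Int.ofNat 0, Int.ofNat 0, Int.ofNat 0, Int.ofNat 0, Int.ofNat 0, Int.ofNat 0, Int.ofNat 0, Int.ofNat 0, Int.ofNat 0, Int.ofNat 0, Int.ofNat 0, Int.ofNat 0, Int.ofNat 0, Int.ofNat 0, Int.ofNat 0, Int.ofNat 0, Int.ofNat 0, Int.ofNat 0, Int.ofNat 0, Int.ofNat 0, Int.ofNat 0, Int.ofNat 0, Int.negSucc 3],
  [Int.negSucc 3, Int.ofNat 0, Int.ofNat 0, Int.ofNat 0, Int.ofNat 0, Int.ofNat 0, Int.ofNat 0, Int.ofNat 0, Int.ofNat 0, Int.ofNat 0, Int.ofNat 0, Int.ofNat 0, Int.ofNat 0, Int.ofNat 0, Int.ofNat 0, Int.ofNat 0, Int.ofNat 0, Int.ofNat 0, Int.ofNat 0, Int.ofNat 0, Int.ofNat 0, Int.ofNat 0, Int.ofNat 0, Int.ofNat 4],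
  [Int.ofNat 4, Int.ofNat 0, Int.ofNat 0, Int.ofNat 0, Int.ofNat 0, Int.ofNat 0, Int.ofNat 0, Int.ofNat 0, Int.ofNat 0, Int.ofNat 0, Int.ofNat 0, Int.ofNat 0, Int.ofNat 0, Int.ofNat 0, Int.ofNat 0, Int.ofNat 0, Int.ofNat 0, Int.ofNat 0, Int.ofNat 0, Int.ofNat 0, Int.ofNat 0, Int.ofNat 0, Int.ofNat 0, Int.ofNat 4],
  [Int.ofNat 0, Int.ofNat 4, Int.ofNat 0, Int.ofNat 0, Int.ofNat 0, Int.ofNat 0, Int.ofNat 0, Int.ofNat 0, Int.ofNat 0, Int.ofNat 0, Int.ofNat 0, Int.ofNat 0, Int.ofNat 0, Int.ofNat 0, Int.ofNat 0, Int.ofNat 0, Int.ofNat 0, Int.ofNat 0, Int.ofNat 0, Int.ofNat 0, Int.ofNat 0, Int.ofNat 0, Int.ofNat 0, Int.ofNat 4],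
  [Int.ofNat 4, Int.ofNat 0, Int.ofNat 4, Int.ofNat 0, Int.ofNat 0, Int.ofNat 0, Int.ofNat 0, Int.ofNat 0, Int.ofNat 0, Int.ofNat 0, Int.ofNat 0, Int.ofNat 0, Int.ofNat 0, Int.ofNat 0, Int.ofNat 0, Int.ofNat 0, Int.ofNat 0, Int.ofNat 0, Int.ofNat 0, Int.ofNat 0, Int.ofNat 0, Int.ofNat 0, Int.ofNat 0, Int.ofNat 0],
  [Int.ofNat 0, Int.ofNat 0, Int.ofNat 0, Int.ofNat 0, Int.ofNat 0, Int.ofNat 0, Int.ofNat 0, Int.ofNat 0, Int.ofNat 0, Int.ofNat 0, Int.ofNat 0, Int.ofNat 0, Int.ofNat 0, Int.ofNat 0, Int.ofNat 0, Int.ofNat 0, Int.ofNat 0, Int.ofNat 0, Int.ofNat 0, Int.ofNat 0, Int.ofNat 4, Int.ofNat 0, Int.ofNat 4, Int.ofNat 0],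
  [Int.ofNat 0, Int.ofNat 0, Int.ofNat 0, Int.ofNat 0, Int.negSucc 1, Int.ofNat 0, Int.ofNat 0, Int.ofNat 0, Int.ofNat 0, Int.negSucc 1, Int.negSucc 1, Int.ofNat 0, Int.ofNat 0, Int.negSucc 1, Int.ofNat 0, Int.negSucc 1, Int.negSucc 1, Int.ofNat 0, Int.ofNat 0, Int.ofNat 0, Int.ofNat 2, Int.ofNat 0, Int.ofNat 2, Int.ofNat 0],
  [Int.ofNat 0, Int.ofNat 0, Int.negSucc 1, Int.ofNat 0, Int.ofNat 0, Int.ofNat 0, Int.ofNat 0, Int.negSucc 1, Int.ofNat 0, Int.negSucc 1, Int.ofNat 2, Int.ofNat 0, Int.negSucc 1, Int.negSucc 1, Int.ofNat 2, Int.negSucc 1, Int.ofNat 0, Int.ofNat 0, Int.ofNat 0, Int.ofNat 0, Int.ofNat 0, Int.ofNat 0, Int.ofNat 0, Int.ofNat 0],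
  [Int.negSucc 0, Int.negSucc 0, Int.ofNat 1, Int.negSucc 0, Int.ofNat 1, Int.negSucc 0, Int.ofNat 1, Int.negSucc 0, Int.ofNat 1, Int.negSucc 0, Int.ofNat 3, Int.ofNat 1, Int.negSucc 0, Int.negSucc 0, Int.ofNat 1, Int.negSucc 0, Int.ofNat 1, Int.negSucc 0, Int.ofNat 1, Int.ofNat 1, Int.ofNat 1, Int.ofNat 1, Int.ofNat 1, Int.negSucc 0],
  [Int.negSucc 0, Int.negSucc 0, Int.negSucc 0, Int.negSucc 0, Int.ofNat 1, Int.ofNat 1, Int.negSucc 0, Int.negSucc 0, Int.ofNat 1, Int.ofNat 1, Int.negSucc 2, Int.ofNat 1, Int.negSucc 0, Int.negSucc 0, Int.ofNat 1, Int.ofNat 1, Int.ofNat 1, Int.negSucc 0, Int.negSucc 0, Int.ofNat 1, Int.ofNat 1, Int.ofNat 1, Int.negSucc 0, Int.negSucc 0],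
  [Int.ofNat 1, Int.negSucc 0, Int.ofNat 1, Int.negSucc 2, Int.ofNat 1, Int.ofNat 1, Int.negSucc 0, Int.ofNat 1, Int.negSucc 0, Int.negSucc 0, Int.ofNat 1, Int.ofNat 1, Int.negSucc 0, Int.ofNat 1, Int.negSucc 0, Int.negSucc 0, Int.negSucc 0, Int.negSucc 0, Int.ofNat 1, Int.ofNat 1, Int.ofNat 1, Int.negSucc 0, Int.negSucc 0, Int.negSucc 0],
  [Int.ofNat 1, Int.negSucc 0, Int.negSucc 0, Int.negSucc 2, Int.ofNat 1, Int.negSucc 0, Int.ofNat 1, Int.ofNat 1, Int.negSucc 0, Int.ofNat 1, Int.negSucc 0, Int.ofNat 1, Int.negSucc 0, Int.ofNat 1, Int.negSucc 0, Int.ofNat 1, Int.negSucc 0, Int.negSucc 0, Int.negSucc 0, Int.ofNat 1, Int.ofNat 1, Int.negSucc 0, Int.ofNat 1, Int.negSucc 0],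
  [Int.negSucc 1, Int.ofNat 0, Int.ofNat 0, Int.ofNat 0, Int.ofNat 0, Int.ofNat 2, Int.ofNat 0, Int.ofNat 0, Int.ofNat 0, Int.ofNat 0, Int.negSucc 1, Int.ofNat 2, Int.ofNat 0, Int.ofNat 0, Int.ofNat 2, Int.ofNat 0, Int.negSucc 1, Int.ofNat 2, Int.ofNat 0, Int.ofNat 0, Int.ofNat 0, Int.negSucc 1, Int.ofNat 0, Int.ofNat 0],
  [Int.negSucc 1, Int.ofNat 0, Int.ofNat 0, Int.ofNat 0, Int.ofNat 0, Int.negSucc 1, Int.ofNat 0, Int.ofNat 2, Int.negSucc 1, Int.ofNat 0, Int.ofNat 0, Int.ofNat 0, Int.ofNat 0, Int.ofNat 0, Int.ofNat 2, Int.ofNat 0, Int.ofNat 0, Int.ofNat 2, Int.ofNat 0, Int.ofNat 0, Int.negSucc 1, Int.ofNat 0, Int.ofNat 2, Int.ofNat 0],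
  [Int.ofNat 1, Int.negSucc 0, Int.negSucc 0, Int.negSucc 0, Int.negSucc 0, Int.negSucc 2, Int.negSucc 0, Int.ofNat 1, Int.negSucc 0, Int.ofNat 1, Int.ofNat 1, Int.ofNat 1, Int.ofNat 1, Int.negSucc 0, Int.ofNat 1, Int.ofNat 1, Int.negSucc 0, Int.ofNat 1, Int.ofNat 1, Int.negSucc 0, Int.negSucc 0, Int.negSucc 0, Int.ofNat 1, Int.negSucc 0],
  [Int.negSucc 0, Int.negSucc 0, Int.ofNat 1, Int.ofNat 1, Int.negSucc 0, Int.negSucc 0, Int.negSucc 0, Int.negSucc 0, Int.negSucc 2, Int.negSucc 0, Int.ofNat 1, Int.negSucc 0, Int.ofNat 1, Int.ofNat 1, Int.ofNat 1, Int.ofNat 1, Int.negSucc 0, Int.ofNat 1, Int.ofNat 1, Int.negSucc 0, Int.ofNat 1, Int.ofNat 1, Int.negSucc 0, Int.negSucc 0],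
  [Int.ofNat 0, Int.ofNat 0, Int.negSucc 1, Int.ofNat 0, Int.ofNat 0, Int.negSucc 1, Int.ofNat 0, Int.ofNat 0, Int.negSucc 1, Int.negSucc 1, Int.ofNat 0, Int.ofNat 0, Int.ofNat 2, Int.ofNat 2, Int.ofNat 0, Int.ofNat 0, Int.ofNat 0, Int.ofNat 0, Int.ofNat 2, Int.ofNat 0, Int.ofNat 0, Int.ofNat 2, Int.ofNat 0, Int.ofNat 0],
  [Int.ofNat 0, Int.negSucc 1, Int.ofNat 0, Int.ofNat 0, Int.negSucc 1, Int.ofNat 0, Int.ofNat 0, Int.negSucc 1, Int.negSucc 1, Int.ofNat 0, Int.ofNat 0, Int.ofNat 2, Int.ofNat 2, Int.ofNat 0, Int.ofNat 0, Int.ofNat 0, Int.ofNat 0, Int.ofNat 2, Int.ofNat 0, Int.ofNat 0, Int.ofNat 2, Int.ofNat 0, Int.ofNat 0, Int.ofNat 0],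
  [Int.ofNat 0, Int.negSucc 1, Int.ofNat 0, Int.ofNat 0, Int.negSucc 1, Int.ofNat 0, Int.ofNat 0, Int.ofNat 2, Int.negSucc 1, Int.ofNat 0, Int.ofNat 0, Int.negSucc 1, Int.ofNat 2, Int.ofNat 0, Int.ofNat 0, Int.ofNat 0, Int.ofNat 0, Int.ofNat 2, Int.ofNat 0, Int.ofNat 0, Int.ofNat 2, Int.ofNat 0, Int.ofNat 0, Int.ofNat 0]]

set_option maxRecDepth 100000 in
theorem c1e14_chk : pmChk (List.replicate 14 [14, 0, 25]).flatten nxL c1e14M 0 0 = true := by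
  decide +kernel

theorem c1e14_ne : wE letE2 (List.replicate 14 [14, 0, 25]).flatten ≠ 1 ∧ wE letE2 (List.replicate 14 [14, 0, 25]).flatten ≠ negElt :=
  ne_pm_of_chk nxL_mem c1e14_chk

set_option maxRecDepth 100000 in
def c1e15M : List (List ℤ) :=
  [[Int.ofNat 4, Int.ofNat 0, Int.ofNat 0, Int.ofNat 0, Int.ofNat 0, Int.ofNat 0, Int.ofNat 0, Int.ofNat 0, Int.ofNat 0, Int.ofNat 0, Int.ofNat 0, Int.ofNat 0, Int.ofNat 0, Int.ofNat 0, Int.ofNat 0, Int.ofNat 0, Int.ofNat 0, Int.ofNat 0, Int.ofNat 0, Int.ofNat 0, Int.ofNat 0, Int.ofNat 0, Int.ofNat 0, Int.ofNat 4],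
  [Int.ofNat 4, Int.ofNat 0, Int.ofNat 0, Int.ofNat 0, Int.ofNat 0, Int.ofNat 0, Int.ofNat 0, Int.ofNat 0, Int.ofNat 0, Int.ofNat 0, Int.ofNat 0, Int.ofNat 0, Int.ofNat 0, Int.ofNat 0, Int.ofNat 0, Int.ofNat 0, Int.ofNat 0, Int.ofNat 0, Int.ofNat 0, Int.ofNat 0, Int.ofNat 0, Int.ofNat 0, Int.ofNat 0, Int.ofNat 4],
  [Int.negSucc 3, Int.ofNat 0, Int.ofNat 0, Int.ofNat 0, Int.ofNat 0, Int.ofNat 0, Int.ofNat 0, Int.ofNat 0, Int.ofNat 0, Int.ofNat 0, Int.ofNat 0, Int.ofNat 0, Int.ofNat 0, Int.ofNat 0, Int.ofNat 0, Int.ofNat 0, Int.ofNat 0, Int.ofNat 0, Int.ofNat 0, Int.ofNat 0, Int.ofNat 0, Int.ofNat 0, Int.ofNat 0, Int.ofNat 4],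
  [Int.ofNat 0, Int.negSucc 3, Int.ofNat 0, Int.ofNat 0, Int.ofNat 0, Int.ofNat 0, Int.ofNat 0, Int.ofNat 0, Int.ofNat 0, Int.ofNat 0, Int.ofNat 0, Int.ofNat 0, Int.ofNat 0, Int.ofNat 0, Int.ofNat 0, Int.ofNat 0, Int.ofNat 0, Int.ofNat 0, Int.ofNat 0, Int.ofNat 0, Int.ofNat 0, Int.ofNat 0, Int.ofNat 0, Int.ofNat 4],
  [Int.ofNat 0, Int.ofNat 4, Int.ofNat 0, Int.ofNat 0, Int.ofNat 0, Int.ofNat 0, Int.ofNat 0, Int.ofNat 0, Int.ofNat 0, Int.ofNat 0, Int.ofNat 0, Int.ofNat 0, Int.ofNat 0, Int.ofNat 0, Int.ofNat 0, Int.ofNat 0, Int.ofNat 0, Int.ofNat 0, Int.ofNat 0, Int.ofNat 0, Int.ofNat 0, Int.ofNat 0, Int.ofNat 0, Int.negSucc 3],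
  [Int.ofNat 0, Int.ofNat 0, Int.ofNat 0, Int.ofNat 0, Int.ofNat 0, Int.ofNat 0, Int.ofNat 0, Int.ofNat 0, Int.ofNat 0, Int.ofNat 0, Int.ofNat 0, Int.ofNat 0, Int.ofNat 0, Int.ofNat 0, Int.ofNat 0, Int.ofNat 0, Int.ofNat 0, Int.ofNat 0, Int.ofNat 0, Int.ofNat 0, Int.ofNat 0, Int.ofNat 4, Int.ofNat 0, Int.negSucc 3],
  [Int.negSucc 1, Int.negSucc 1, Int.negSucc 1, Int.ofNat 0, Int.ofNat 0, Int.ofNat 0, Int.negSucc 1, Int.negSucc 1, Int.ofNat 0, Int.ofNat 0, Int.ofNat 0, Int.ofNat 0, Int.ofNat 0, Int.ofNat 0, Int.ofNat 0, Int.ofNat 0, Int.ofNat 0, Int.ofNat 0, Int.ofNat 0, Int.negSucc 1, Int.ofNat 0, Int.ofNat 2, Int.ofNat 0, Int.ofNat 2],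
  [Int.negSucc 1, Int.negSucc 1, Int.ofNat 0, Int.ofNat 0, Int.ofNat 0, Int.negSucc 1, Int.negSucc 1, Int.ofNat 0, Int.ofNat 0, Int.ofNat 0, Int.ofNat 0, Int.ofNat 0, Int.ofNat 0, Int.ofNat 0, Int.ofNat 0, Int.ofNat 0, Int.ofNat 0, Int.ofNat 0, Int.negSucc 1, Int.ofNat 0, Int.ofNat 2, Int.ofNat 0, Int.negSucc 1, Int.ofNat 2],
  [Int.ofNat 1, Int.ofNat 1, Int.negSucc 0, Int.ofNat 1, Int.ofNat 1, Int.negSucc 0, Int.negSucc 0, Int.ofNat 1, Int.ofNat 1, Int.negSucc 0, Int.negSucc 0, Int.ofNat 1, Int.ofNat 1, Int.ofNat 1, Int.ofNat 1, Int.negSucc 0, Int.ofNat 1, Int.ofNat 1, Int.negSucc 0, Int.ofNat 1, Int.ofNat 1, Int.ofNat 1, Int.negSucc 0, Int.negSucc 2],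
  [Int.ofNat 1, Int.ofNat 1, Int.ofNat 1, Int.ofNat 1, Int.ofNat 1, Int.ofNat 1, Int.ofNat 1, Int.ofNat 1, Int.ofNat 1, Int.ofNat 1, Int.ofNat 1, Int.ofNat 1, Int.ofNat 1, Int.ofNat 1, Int.ofNat 1, Int.ofNat 1, Int.ofNat 1, Int.ofNat 1, Int.ofNat 1, Int.ofNat 1, Int.ofNat 1, Int.ofNat 1, Int.ofNat 1, Int.negSucc 2],
  [Int.ofNat 1, Int.ofNat 1, Int.ofNat 1, Int.ofNat 1, Int.ofNat 1, Int.ofNat 1, Int.ofNat 1, Int.ofNat 1, Int.ofNat 1, Int.ofNat 1, Int.ofNat 1, Int.ofNat 1, Int.ofNat 1, Int.ofNat 1, Int.ofNat 1, Int.ofNat 1, Int.ofNat 1, Int.ofNat 1, Int.ofNat 1, Int.ofNat 1, Int.ofNat 1, Int.ofNat 1, Int.ofNat 1, Int.negSucc 2],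
  [Int.ofNat 1, Int.ofNat 1, Int.negSucc 0, Int.ofNat 1, Int.ofNat 1, Int.negSucc 0, Int.negSucc 0, Int.ofNat 1, Int.ofNat 1, Int.negSucc 0, Int.negSucc 0, Int.ofNat 1, Int.ofNat 1, Int.ofNat 1, Int.ofNat 1, Int.negSucc 0, Int.ofNat 1, Int.ofNat 1, Int.negSucc 0, Int.ofNat 1, Int.ofNat 1, Int.ofNat 1, Int.negSucc 0, Int.negSucc 2],
  [Int.negSucc 1, Int.negSucc 1, Int.ofNat 0, Int.ofNat 0, Int.ofNat 0, Int.negSucc 1, Int.negSucc 1, Int.ofNat 0, Int.ofNat 0, Int.ofNat 0, Int.ofNat 0, Int.ofNat 0, Int.ofNat 0, Int.ofNat 0, Int.ofNat 0, Int.ofNat 0, Int.ofNat 0, Int.ofNat 0, Int.negSucc 1, Int.ofNat 0, Int.ofNat 2, Int.ofNat 0, Int.negSucc 1, Int.ofNat 2],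
  [Int.negSucc 1, Int.negSucc 1, Int.negSucc 1, Int.ofNat 0, Int.ofNat 0, Int.ofNat 0, Int.negSucc 1, Int.negSucc 1, Int.ofNat 0, Int.ofNat 0, Int.ofNat 0, Int.ofNat 0, Int.ofNat 0, Int.ofNat 0, Int.ofNat 0, Int.ofNat 0, Int.ofNat 0, Int.ofNat 0, Int.ofNat 0, Int.negSucc 1, Int.ofNat 0, Int.ofNat 2, Int.ofNat 0, Int.ofNat 2],
  [Int.ofNat 0, Int.ofNat 0, Int.ofNat 0, Int.ofNat 0, Int.ofNat 0, Int.ofNat 0, Int.ofNat 0, Int.ofNat 0, Int.ofNat 0, Int.ofNat 0, Int.ofNat 0, Int.ofNat 0, Int.ofNat 0, Int.ofNat 0, Int.ofNat 0, Int.ofNat 0, Int.ofNat 0, Int.ofNat 0, Int.ofNat 0, Int.ofNat 0, Int.ofNat 0, Int.ofNat 4, Int.ofNat 0, Int.negSucc 3],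
  [Int.ofNat 0, Int.ofNat 4, Int.ofNat 0, Int.ofNat 0, Int.ofNat 0, Int.ofNat 0, Int.ofNat 0, Int.ofNat 0, Int.ofNat 0, Int.ofNat 0, Int.ofNat 0, Int.ofNat 0, Int.ofNat 0, Int.ofNat 0, Int.ofNat 0, Int.ofNat 0, Int.ofNat 0, Int.ofNat 0, Int.ofNat 0, Int.ofNat 0, Int.ofNat 0, Int.ofNat 0, Int.ofNat 0, Int.negSucc 3],
  [Int.ofNat 0, Int.negSucc 3, Int.ofNat 0, Int.ofNat 0, Int.ofNat 0, Int.ofNat 0, Int.ofNat 0, Int.ofNat 0, Int.ofNat 0, Int.ofNat 0, Int.ofNat 0, Int.ofNat 0, Int.ofNat 0, Int.ofNat 0, Int.ofNat 0, Int.ofNat 0, Int.ofNat 0, Int.ofNat 0, Int.ofNat 0, Int.ofNat 0, Int.ofNat 0, Int.ofNat 0, Int.ofNat 0, Int.ofNat 4],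
  [Int.negSucc 3, Int.ofNat 0, Int.ofNat 0, Int.ofNat 0, Int.ofNat 0, Int.ofNat 0, Int.ofNat 0, Int.ofNat 0, Int.ofNat 0, Int.ofNat 0, Int.ofNat 0, Int.ofNat 0, Int.ofNat 0, Int.ofNat 0, Int.ofNat 0, Int.ofNat 0, Int.ofNat 0, Int.ofNat 0, Int.ofNat 0, Int.ofNat 0, Int.ofNat 0, Int.ofNat 0, Int.ofNat 0, Int.ofNat 4],
  [Int.ofNat 4, Int.ofNat 0, Int.ofNat 0, Int.ofNat 0, Int.ofNat 0, Int.ofNat 0, Int.ofNat 0, Int.ofNat 0, Int.ofNat 0, Int.ofNat 0, Int.ofNat 0, Int.ofNat 0, Int.ofNat 0, Int.ofNat 0, Int.ofNat 0, Int.ofNat 0, Int.ofNat 0, Int.ofNat 0, Int.ofNat 0, Int.ofNat 0, Int.ofNat 0, Int.ofNat 0, Int.ofNat 0, Int.ofNat 4],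
  [Int.negSucc 3, Int.ofNat 0, Int.ofNat 0, Int.ofNat 0, Int.ofNat 0, Int.ofNat 0, Int.ofNat 0, Int.ofNat 0, Int.ofNat 0, Int.ofNat 0, Int.ofNat 0, Int.ofNat 0, Int.ofNat 0, Int.ofNat 0, Int.ofNat 0, Int.ofNat 0, Int.ofNat 0, Int.ofNat 0, Int.ofNat 0, Int.ofNat 0, Int.ofNat 0, Int.ofNat 0, Int.ofNat 0, Int.ofNat 4],
  [Int.ofNat 4, Int.ofNat 0, Int.ofNat 0, Int.ofNat 0, Int.ofNat 0, Int.ofNat 0, Int.ofNat 0, Int.ofNat 0, Int.ofNat 0, Int.ofNat 0, Int.ofNat 0, Int.ofNat 0, Int.ofNat 0, Int.ofNat 0, Int.ofNat 0, Int.ofNat 0, Int.ofNat 0, Int.ofNat 0, Int.ofNat 0, Int.ofNat 0, Int.ofNat 0, Int.ofNat 0, Int.ofNat 0, Int.negSucc 3],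
  [Int.negSucc 3, Int.ofNat 0, Int.ofNat 0, Int.ofNat 0, Int.ofNat 0, Int.ofNat 0, Int.ofNat 0, Int.ofNat 0, Int.ofNat 0, Int.ofNat 0, Int.ofNat 0, Int.ofNat 0, Int.ofNat 0, Int.ofNat 0, Int.ofNat 0, Int.ofNat 0, Int.ofNat 0, Int.ofNat 0, Int.ofNat 0, Int.ofNat 0, Int.ofNat 0, Int.ofNat 0, Int.ofNat 0, Int.negSucc 3],
  [Int.ofNat 0, Int.negSucc 3, Int.ofNat 0, Int.ofNat 0, Int.ofNat 0, Int.ofNat 0, Int.ofNat 0, Int.ofNat 0, Int.ofNat 0, Int.ofNat 0, Int.ofNat 0, Int.ofNat 0, Int.ofNat 0, Int.ofNat 0, Int.ofNat 0, Int.ofNat 0, Int.ofNat 0, Int.ofNat 0, Int.ofNat 0, Int.ofNat 0, Int.ofNat 0, Int.ofNat 0, Int.ofNat 0, Int.negSucc 3],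
  [Int.negSucc 3, Int.ofNat 0, Int.negSucc 3, Int.ofNat 0, Int.ofNat 0, Int.ofNat 0, Int.ofNat 0, Int.ofNat 0, Int.ofNat 0, Int.ofNat 0, Int.ofNat 0, Int.ofNat 0, Int.ofNat 0, Int.ofNat 0, Int.ofNat 0, Int.ofNat 0, Int.ofNat 0, Int.ofNat 0, Int.ofNat 0, Int.ofNat 0, Int.ofNat 0, Int.ofNat 0, Int.ofNat 0, Int.ofNat 0],
  [Int.ofNat 0, Int.ofNat 0, Int.ofNat 0, Int.ofNat 0, Int.ofNat 0, Int.ofNat 0, Int.ofNat 0, Int.ofNat 0, Int.ofNat 0, Int.ofNat 0, Int.ofNat 0, Int.ofNat 0, Int.ofNat 0, Int.ofNat 0, Int.ofNat 0, Int.ofNat 0, Int.ofNat 0, Int.ofNat 0, Int.ofNat 0, Int.ofNat 0, Int.negSucc 3, Int.ofNat 0, Int.negSucc 3, Int.ofNat 0],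
  [Int.ofNat 0, Int.ofNat 0, Int.ofNat 0, Int.ofNat 0, Int.ofNat 2, Int.ofNat 0, Int.ofNat 0, Int.ofNat 0, Int.ofNat 0, Int.ofNat 2, Int.ofNat 2, Int.ofNat 0, Int.ofNat 0, Int.ofNat 2, Int.ofNat 0, Int.ofNat 2, Int.ofNat 2, Int.ofNat 0, Int.ofNat 0, Int.ofNat 0, Int.negSucc 1, Int.ofNat 0, Int.negSucc 1, Int.ofNat 0],
  [Int.ofNat 0, Int.ofNat 0, Int.ofNat 2, Int.ofNat 0, Int.ofNat 0, Int.ofNat 0, Int.ofNat 0, Int.ofNat 2, Int.ofNat 0, Int.ofNat 2, Int.negSucc 1, Int.ofNat 0, Int.ofNat 2, Int.ofNat 2, Int.negSucc 1, Int.ofNat 2, Int.ofNat 0, Int.ofNat 0, Int.ofNat 0, Int.ofNat 0, Int.ofNat 0, Int.ofNat 0, Int.ofNat 0, Int.ofNat 0],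
  [Int.ofNat 1, Int.ofNat 1, Int.negSucc 0, Int.ofNat 1, Int.negSucc 0, Int.ofNat 1, Int.negSucc 0, Int.ofNat 1, Int.negSucc 0, Int.ofNat 1, Int.negSucc 2, Int.negSucc 0, Int.ofNat 1, Int.ofNat 1, Int.negSucc 0, Int.ofNat 1, Int.negSucc 0, Int.ofNat 1, Int.negSucc 0, Int.negSucc 0, Int.negSucc 0, Int.negSucc 0, Int.negSucc 0, Int.ofNat 1],
  [Int.ofNat 1, Int.ofNat 1, Int.ofNat 1, Int.ofNat 1, Int.negSucc 0, Int.negSucc 0, Int.ofNat 1, Int.ofNat 1, Int.negSucc 0, Int.negSucc 0, Int.ofNat 3, Int.negSucc 0, Int.ofNat 1, Int.ofNat 1, Int.negSucc 0, Int.negSucc 0, Int.negSucc 0, Int.ofNat 1, Int.ofNat 1, Int.negSucc 0, Int.negSucc 0, Int.negSucc 0, Int.ofNat 1, Int.ofNat 1],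
  [Int.negSucc 0, Int.negSucc 0, Int.ofNat 3, Int.ofNat 1, Int.ofNat 1, Int.negSucc 0, Int.negSucc 0, Int.ofNat 1, Int.ofNat 1, Int.ofNat 1, Int.negSucc 0, Int.negSucc 0, Int.ofNat 1, Int.ofNat 1, Int.negSucc 0, Int.negSucc 0, Int.ofNat 1, Int.negSucc 0, Int.ofNat 1, Int.ofNat 1, Int.negSucc 0, Int.ofNat 1, Int.negSucc 0, Int.ofNat 1],
  [Int.negSucc 0, Int.negSucc 0, Int.negSucc 2, Int.ofNat 1, Int.ofNat 1, Int.ofNat 1, Int.ofNat 1, Int.ofNat 1, Int.ofNat 1, Int.negSucc 0, Int.ofNat 1, Int.negSucc 0, Int.ofNat 1, Int.ofNat 1, Int.negSucc 0, Int.ofNat 1, Int.ofNat 1, Int.negSucc 0, Int.negSucc 0, Int.ofNat 1, Int.negSucc 0, Int.ofNat 1, Int.ofNat 1, Int.ofNat 1],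
  [Int.negSucc 0, Int.negSucc 0, Int.ofNat 1, Int.ofNat 1, Int.negSucc 0, Int.ofNat 1, Int.negSucc 0, Int.negSucc 0, Int.ofNat 1, Int.negSucc 0, Int.ofNat 1, Int.negSucc 0, Int.ofNat 1, Int.negSucc 0, Int.negSucc 0, Int.ofNat 1, Int.negSucc 0, Int.negSucc 0, Int.negSucc 0, Int.negSucc 0, Int.negSucc 0, Int.negSucc 0, Int.negSucc 0, Int.negSucc 2],
  [Int.negSucc 0, Int.negSucc 0, Int.negSucc 0, Int.ofNat 1, Int.ofNat 1, Int.negSucc 0, Int.negSucc 0, Int.ofNat 1, Int.negSucc 0, Int.ofNat 1, Int.negSucc 0, Int.negSucc 0, Int.ofNat 1, Int.negSucc 0, Int.negSucc 0, Int.ofNat 1, Int.negSucc 0, Int.negSucc 0, Int.negSucc 0, Int.negSucc 0, Int.ofNat 1, Int.negSucc 0, Int.negSucc 0, Int.negSucc 2],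
  [Int.negSucc 1, Int.negSucc 1, Int.negSucc 1, Int.ofNat 2, Int.ofNat 2, Int.ofNat 0, Int.ofNat 0, Int.ofNat 2, Int.ofNat 0, Int.ofNat 0, Int.negSucc 1, Int.ofNat 0, Int.ofNat 2, Int.ofNat 0, Int.ofNat 0, Int.ofNat 0, Int.ofNat 0, Int.ofNat 0, Int.ofNat 0, Int.ofNat 0, Int.ofNat 0, Int.ofNat 0, Int.ofNat 0, Int.ofNat 0],
  [Int.ofNat 0, Int.ofNat 0, Int.ofNat 0, Int.negSucc 1, Int.negSucc 1, Int.negSucc 1, Int.ofNat 2, Int.ofNat 2, Int.ofNat 0, Int.ofNat 0, Int.ofNat 2, Int.ofNat 0, Int.ofNat 0, Int.negSucc 1, Int.ofNat 0, Int.ofNat 2, Int.ofNat 0, Int.ofNat 0, Int.ofNat 0, Int.ofNat 0, Int.ofNat 0, Int.ofNat 0, Int.ofNat 0, Int.ofNat 0],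
  [Int.ofNat 0, Int.ofNat 0, Int.ofNat 0, Int.ofNat 0, Int.ofNat 0, Int.ofNat 0, Int.ofNat 0, Int.ofNat 0, Int.ofNat 0, Int.negSucc 1, Int.ofNat 0, Int.ofNat 0, Int.ofNat 0, Int.ofNat 0, Int.ofNat 2, Int.ofNat 0, Int.ofNat 2, Int.ofNat 2, Int.ofNat 0, Int.negSucc 1, Int.negSucc 1, Int.negSucc 1, Int.ofNat 2, Int.ofNat 0],
  [Int.ofNat 0, Int.ofNat 0, Int.ofNat 0, Int.ofNat 0, Int.ofNat 0, Int.ofNat 0, Int.ofNat 0, Int.ofNat 0, Int.negSucc 1, Int.ofNat 0, Int.ofNat 0, Int.ofNat 0, Int.ofNat 0, Int.ofNat 2, Int.ofNat 0, Int.ofNat 2, Int.ofNat 2, Int.ofNat 0, Int.negSucc 1, Int.negSucc 1, Int.negSucc 1, Int.ofNat 2, Int.ofNat 0, Int.ofNat 0],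
  [Int.ofNat 0, Int.ofNat 0, Int.ofNat 0, Int.ofNat 0, Int.ofNat 0, Int.ofNat 0, Int.ofNat 0, Int.ofNat 0, Int.negSucc 1, Int.ofNat 0, Int.ofNat 0, Int.ofNat 0, Int.ofNat 0, Int.ofNat 2, Int.ofNat 0, Int.ofNat 2, Int.ofNat 2, Int.ofNat 0, Int.ofNat 2, Int.negSucc 1, Int.negSucc 1, Int.negSucc 1, Int.ofNat 0, Int.ofNat 0],
  [Int.ofNat 0, Int.ofNat 0, Int.ofNat 0, Int.ofNat 0, Int.ofNat 0, Int.ofNat 0, Int.ofNat 0, Int.ofNat 0, Int.ofNat 2, Int.ofNat 0, Int.ofNat 0, Int.ofNat 0, Int.ofNat 0, Int.negSucc 1, Int.ofNat 0, Int.ofNat 2, Int.negSucc 1, Int.ofNat 0, Int.negSucc 1, Int.negSucc 1, Int.negSucc 1, Int.negSucc 1, Int.ofNat 0, Int.ofNat 0],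
  [Int.ofNat 0, Int.ofNat 0, Int.ofNat 0, Int.ofNat 2, Int.ofNat 0, Int.ofNat 0, Int.negSucc 1, Int.negSucc 1, Int.negSucc 1, Int.ofNat 0, Int.negSucc 1, Int.ofNat 0, Int.negSucc 1, Int.ofNat 0, Int.negSucc 1, Int.ofNat 0, Int.ofNat 0, Int.ofNat 0, Int.ofNat 0, Int.ofNat 0, Int.ofNat 2, Int.ofNat 0, Int.ofNat 0, Int.ofNat 0],
  [Int.ofNat 0, Int.ofNat 0, Int.ofNat 0, Int.ofNat 2, Int.ofNat 0, Int.ofNat 0, Int.negSucc 1, Int.ofNat 2, Int.negSucc 1, Int.ofNat 0, Int.ofNat 2, Int.ofNat 0, Int.negSucc 1, Int.ofNat 0, Int.negSucc 1, Int.ofNat 0, Int.ofNat 0, Int.ofNat 0, Int.ofNat 0, Int.ofNat 0, Int.ofNat 2, Int.ofNat 0, Int.ofNat 0, Int.ofNat 0],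
  [Int.ofNat 0, Int.ofNat 0, Int.ofNat 0, Int.ofNat 0, Int.ofNat 2, Int.ofNat 0, Int.ofNat 0, Int.negSucc 1, Int.ofNat 2, Int.negSucc 1, Int.ofNat 0, Int.ofNat 2, Int.ofNat 0, Int.negSucc 1, Int.ofNat 0, Int.negSucc 1, Int.ofNat 0, Int.ofNat 0, Int.ofNat 0, Int.ofNat 0, Int.ofNat 0, Int.ofNat 2, Int.ofNat 0, Int.ofNat 0],
  [Int.ofNat 0, Int.ofNat 0, Int.ofNat 0, Int.ofNat 0, Int.ofNat 2, Int.ofNat 0, Int.ofNat 0, Int.negSucc 1, Int.ofNat 0, Int.ofNat 0, Int.ofNat 2, Int.ofNat 0, Int.negSucc 1, Int.negSucc 1, Int.ofNat 0, Int.ofNat 0, Int.ofNat 0, Int.ofNat 0, Int.negSucc 1, Int.ofNat 0, Int.ofNat 2, Int.ofNat 2, Int.ofNat 0, Int.ofNat 0],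
  [Int.ofNat 0, Int.ofNat 2, Int.ofNat 0, Int.ofNat 0, Int.negSucc 1, Int.ofNat 0, Int.ofNat 0, Int.ofNat 2, Int.ofNat 0, Int.negSucc 1, Int.negSucc 1, Int.ofNat 0, Int.ofNat 0, Int.ofNat 0, Int.ofNat 0, Int.negSucc 1, Int.ofNat 0, Int.ofNat 2, Int.ofNat 2, Int.ofNat 0, Int.ofNat 0, Int.ofNat 0, Int.ofNat 0, Int.ofNat 0],
  [Int.ofNat 1, Int.negSucc 0, Int.ofNat 1, Int.negSucc 0, Int.negSucc 0, Int.negSucc 0, Int.negSucc 0, Int.ofNat 1, Int.negSucc 0, Int.ofNat 1, Int.ofNat 1, Int.negSucc 0, Int.negSucc 0, Int.ofNat 1, Int.negSucc 0, Int.ofNat 1, Int.ofNat 1, Int.ofNat 1, Int.ofNat 1, Int.negSucc 0, Int.ofNat 3, Int.negSucc 0, Int.ofNat 1, Int.ofNat 1],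
  [Int.ofNat 1, Int.negSucc 0, Int.negSucc 0, Int.negSucc 0, Int.ofNat 1, Int.ofNat 1, Int.ofNat 1, Int.ofNat 1, Int.negSucc 0, Int.ofNat 1, Int.ofNat 3, Int.ofNat 1, Int.ofNat 1, Int.ofNat 1, Int.ofNat 1, Int.ofNat 1, Int.negSucc 0, Int.negSucc 0, Int.negSucc 0, Int.negSucc 0, Int.negSucc 0, Int.negSucc 0, Int.negSucc 0, Int.ofNat 1],
  [Int.negSucc 0, Int.ofNat 1, Int.ofNat 1, Int.negSucc 0, Int.ofNat 1, Int.ofNat 1, Int.ofNat 1, Int.ofNat 1, Int.negSucc 0, Int.negSucc 0, Int.ofNat 1, Int.ofNat 1, Int.ofNat 1, Int.ofNat 1, Int.ofNat 1, Int.negSucc 0, Int.negSucc 0, Int.negSucc 0, Int.negSucc 0, Int.negSucc 0, Int.negSucc 2, Int.negSucc 0, Int.negSucc 0, Int.negSucc 0],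
  [Int.negSucc 0, Int.ofNat 1, Int.negSucc 0, Int.negSucc 0, Int.ofNat 1, Int.negSucc 0, Int.negSucc 0, Int.ofNat 1, Int.negSucc 0, Int.ofNat 1, Int.negSucc 0, Int.ofNat 1, Int.ofNat 1, Int.ofNat 1, Int.ofNat 1, Int.ofNat 1, Int.negSucc 0, Int.negSucc 0, Int.ofNat 1, Int.negSucc 0, Int.negSucc 2, Int.negSucc 0, Int.ofNat 1, Int.negSucc 0],
  [Int.negSucc 0, Int.ofNat 1, Int.negSucc 0, Int.ofNat 1, Int.ofNat 1, Int.ofNat 1, Int.negSucc 2, Int.ofNat 1, Int.negSucc 0, Int.ofNat 1, Int.ofNat 1, Int.negSucc 0, Int.ofNat 1, Int.negSucc 0, Int.negSucc 0, Int.negSucc 0, Int.negSucc 0, Int.ofNat 1, Int.negSucc 0, Int.negSucc 0, Int.ofNat 1, Int.ofNat 1, Int.negSucc 0, Int.negSucc 0],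
  [Int.negSucc 0, Int.ofNat 1, Int.ofNat 1, Int.ofNat 1, Int.ofNat 1, Int.negSucc 0, Int.ofNat 3, Int.ofNat 1, Int.negSucc 0, Int.negSucc 0, Int.negSucc 0, Int.negSucc 0, Int.ofNat 1, Int.negSucc 0, Int.negSucc 0, Int.ofNat 1, Int.negSucc 0, Int.ofNat 1, Int.ofNat 1, Int.negSucc 0, Int.ofNat 1, Int.ofNat 1, Int.ofNat 1, Int.negSucc 0],
  [Int.ofNat 1, Int.negSucc 0, Int.negSucc 0, Int.ofNat 1, Int.ofNat 1, Int.negSucc 0, Int.ofNat 1, Int.negSucc 0, Int.negSucc 0, Int.negSucc 0, Int.negSucc 0, Int.negSucc 0, Int.ofNat 1, Int.negSucc 0, Int.negSucc 0, Int.ofNat 1, Int.negSucc 0, Int.ofNat 1, Int.ofNat 1, Int.negSucc 2, Int.ofNat 1, Int.negSucc 0, Int.ofNat 1, Int.ofNat 1],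
  [Int.ofNat 1, Int.ofNat 1, Int.ofNat 1, Int.ofNat 1, Int.negSucc 0, Int.negSucc 0, Int.negSucc 0, Int.negSucc 0, Int.negSucc 0, Int.ofNat 1, Int.negSucc 0, Int.negSucc 2, Int.negSucc 0, Int.negSucc 0, Int.ofNat 1, Int.ofNat 1, Int.negSucc 0, Int.negSucc 0, Int.ofNat 1, Int.ofNat 1, Int.negSucc 0, Int.ofNat 1, Int.negSucc 0, Int.ofNat 1],
  [Int.ofNat 1, Int.ofNat 1, Int.ofNat 1, Int.ofNat 1, Int.ofNat 1, Int.negSucc 0, Int.negSucc 0, Int.negSucc 0, Int.ofNat 1, Int.ofNat 1, Int.negSucc 0, Int.negSucc 0, Int.ofNat 1, Int.ofNat 1, Int.ofNat 1, Int.ofNat 1, Int.ofNat 1, Int.negSucc 0, Int.ofNat 3, Int.ofNat 1, Int.negSucc 0, Int.ofNat 1, Int.ofNat 1, Int.ofNat 1],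
  [Int.negSucc 0, Int.ofNat 1, Int.ofNat 1, Int.ofNat 1, Int.ofNat 1, Int.ofNat 1, Int.ofNat 1, Int.ofNat 1, Int.negSucc 0, Int.negSucc 0, Int.negSucc 0, Int.ofNat 1, Int.ofNat 1, Int.negSucc 0, Int.negSucc 0, Int.ofNat 1, Int.ofNat 1, Int.ofNat 1, Int.ofNat 1, Int.ofNat 1, Int.negSucc 0, Int.ofNat 3, Int.ofNat 1, Int.ofNat 1],
  [Int.ofNat 2, Int.ofNat 0, Int.ofNat 0, Int.ofNat 0, Int.ofNat 0, Int.ofNat 0, Int.negSucc 1, Int.negSucc 1, Int.negSucc 1, Int.ofNat 0, Int.ofNat 0, Int.ofNat 0, Int.ofNat 0, Int.negSucc 1, Int.negSucc 1, Int.ofNat 2, Int.ofNat 0, Int.ofNat 0, Int.ofNat 0, Int.negSucc 1, Int.ofNat 0, Int.ofNat 0, Int.ofNat 0, Int.ofNat 0],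
  [Int.ofNat 0, Int.ofNat 0, Int.ofNat 0, Int.ofNat 0, Int.ofNat 0, Int.negSucc 1, Int.negSucc 1, Int.negSucc 1, Int.ofNat 0, Int.ofNat 0, Int.ofNat 0, Int.ofNat 0, Int.negSucc 1, Int.negSucc 1, Int.ofNat 2, Int.ofNat 0, Int.ofNat 0, Int.ofNat 0, Int.negSucc 1, Int.ofNat 0, Int.ofNat 0, Int.ofNat 0, Int.ofNat 2, Int.ofNat 0],
  [Int.ofNat 0, Int.ofNat 0, Int.ofNat 0, Int.ofNat 0, Int.ofNat 0, Int.negSucc 1, Int.negSucc 1, Int.ofNat 2, Int.ofNat 0, Int.ofNat 0, Int.ofNat 0, Int.ofNat 0, Int.negSucc 1, Int.negSucc 1, Int.ofNat 2, Int.ofNat 0, Int.ofNat 0, Int.ofNat 0, Int.ofNat 2, Int.ofNat 0, Int.ofNat 0, Int.ofNat 0, Int.ofNat 2, Int.ofNat 0],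
  [Int.ofNat 0, Int.ofNat 0, Int.ofNat 0, Int.ofNat 0, Int.ofNat 0, Int.negSucc 1, Int.ofNat 2, Int.ofNat 2, Int.ofNat 0, Int.ofNat 0, Int.ofNat 0, Int.ofNat 0, Int.ofNat 2, Int.ofNat 2, Int.ofNat 2, Int.ofNat 0, Int.ofNat 0, Int.ofNat 0, Int.negSucc 1, Int.ofNat 0, Int.ofNat 0, Int.ofNat 0, Int.ofNat 2, Int.ofNat 0],
  [Int.ofNat 0, Int.ofNat 2, Int.ofNat 0, Int.ofNat 0, Int.ofNat 0, Int.ofNat 0, Int.ofNat 0, Int.ofNat 2, Int.ofNat 0, Int.negSucc 1, Int.ofNat 0, Int.ofNat 0, Int.ofNat 0, Int.ofNat 2, Int.negSucc 1, Int.ofNat 0, Int.ofNat 0, Int.ofNat 0, Int.ofNat 2, Int.ofNat 2, Int.ofNat 0, Int.ofNat 2, Int.ofNat 0, Int.ofNat 0],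
  [Int.ofNat 0, Int.ofNat 2, Int.ofNat 0, Int.ofNat 0, Int.ofNat 0, Int.ofNat 0, Int.ofNat 0, Int.negSucc 1, Int.ofNat 0, Int.ofNat 2, Int.ofNat 0, Int.ofNat 0, Int.ofNat 0, Int.ofNat 2, Int.negSucc 1, Int.ofNat 0, Int.ofNat 0, Int.ofNat 0, Int.negSucc 1, Int.ofNat 2, Int.ofNat 0, Int.negSucc 1, Int.ofNat 0, Int.ofNat 0],
  [Int.ofNat 0, Int.ofNat 0, Int.ofNat 2, Int.ofNat 0, Int.ofNat 0, Int.ofNat 0, Int.ofNat 0, Int.ofNat 0, Int.negSucc 1, Int.ofNat 0, Int.ofNat 2, Int.ofNat 0, Int.ofNat 0, Int.ofNat 0, Int.ofNat 2, Int.negSucc 1, Int.ofNat 0, Int.ofNat 0, Int.ofNat 0, Int.negSucc 1, Int.ofNat 2, Int.ofNat 0, Int.negSucc 1, Int.ofNat 0],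
  [Int.ofNat 1, Int.ofNat 1, Int.negSucc 0, Int.negSucc 0, Int.ofNat 1, Int.negSucc 0, Int.ofNat 1, Int.ofNat 1, Int.negSucc 0, Int.negSucc 0, Int.ofNat 1, Int.ofNat 1, Int.ofNat 1, Int.ofNat 1, Int.ofNat 1, Int.negSucc 2, Int.ofNat 1, Int.negSucc 0, Int.ofNat 1, Int.negSucc 0, Int.ofNat 1, Int.ofNat 1, Int.negSucc 0, Int.ofNat 1],
  [Int.negSucc 0, Int.ofNat 1, Int.negSucc 0, Int.ofNat 1, Int.ofNat 1, Int.negSucc 0, Int.negSucc 0, Int.ofNat 1, Int.ofNat 1, Int.ofNat 1, Int.ofNat 1, Int.ofNat 1, Int.negSucc 2, Int.ofNat 1, Int.negSucc 0, Int.ofNat 1, Int.negSucc 0, Int.ofNat 1, Int.ofNat 1, Int.negSucc 0, Int.ofNat 1, Int.ofNat 1, Int.negSucc 0, Int.ofNat 1],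
  [Int.ofNat 1, Int.negSucc 0, Int.ofNat 1, Int.ofNat 1, Int.ofNat 1, Int.negSucc 0, Int.negSucc 0, Int.ofNat 1, Int.ofNat 1, Int.negSucc 0, Int.negSucc 0, Int.ofNat 1, Int.negSucc 2, Int.ofNat 1, Int.negSucc 0, Int.negSucc 0, Int.negSucc 0, Int.ofNat 1, Int.ofNat 1, Int.negSucc 0, Int.negSucc 0, Int.ofNat 1, Int.negSucc 0, Int.negSucc 0],
  [Int.ofNat 1, Int.negSucc 0, Int.ofNat 1, Int.ofNat 1, Int.ofNat 1, Int.ofNat 1, Int.ofNat 1, Int.negSucc 0, Int.negSucc 2, Int.ofNat 1, Int.negSucc 0, Int.ofNat 1, Int.negSucc 0, Int.negSucc 0, Int.negSucc 0, Int.negSucc 0, Int.ofNat 1, Int.negSucc 0, Int.negSucc 0, Int.ofNat 1, Int.ofNat 1, Int.negSucc 0, Int.negSucc 0, Int.negSucc 0],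
  [Int.negSucc 0, Int.ofNat 1, Int.negSucc 0, Int.ofNat 1, Int.ofNat 1, Int.ofNat 1, Int.ofNat 1, Int.negSucc 0, Int.negSucc 0, Int.ofNat 1, Int.negSucc 0, Int.ofNat 3, Int.ofNat 1, Int.negSucc 0, Int.negSucc 0, Int.negSucc 0, Int.ofNat 1, Int.negSucc 0, Int.ofNat 1, Int.ofNat 1, Int.ofNat 1, Int.negSucc 0, Int.negSucc 0, Int.ofNat 1],
  [Int.negSucc 0, Int.ofNat 1, Int.ofNat 1, Int.ofNat 1, Int.ofNat 1, Int.negSucc 0, Int.negSucc 0, Int.negSucc 0, Int.negSucc 0, Int.negSucc 0, Int.ofNat 1, Int.ofNat 3, Int.ofNat 1, Int.negSucc 0, Int.negSucc 0, Int.ofNat 1, Int.ofNat 1, Int.negSucc 0, Int.negSucc 0, Int.ofNat 1, Int.ofNat 1, Int.negSucc 0, Int.ofNat 1, Int.ofNat 1],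
  [Int.ofNat 1, Int.ofNat 3, Int.ofNat 1, Int.negSucc 0, Int.ofNat 1, Int.ofNat 1, Int.ofNat 1, Int.negSucc 0, Int.ofNat 1, Int.ofNat 1, Int.negSucc 0, Int.negSucc 0, Int.ofNat 1, Int.negSucc 0, Int.negSucc 0, Int.ofNat 1, Int.negSucc 0, Int.negSucc 0, Int.ofNat 1, Int.negSucc 0, Int.ofNat 1, Int.negSucc 0, Int.negSucc 0, Int.ofNat 1],
  [Int.ofNat 1, Int.ofNat 3, Int.negSucc 0, Int.negSucc 0, Int.ofNat 1, Int.negSucc 0, Int.negSucc 0, Int.negSucc 0, Int.ofNat 1, Int.negSucc 0, Int.ofNat 1, Int.negSucc 0, Int.ofNat 1, Int.negSucc 0, Int.negSucc 0, Int.negSucc 0, Int.negSucc 0, Int.negSucc 0, Int.negSucc 0, Int.negSucc 0, Int.ofNat 1, Int.negSucc 0, Int.ofNat 1, Int.ofNat 1],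
  [Int.ofNat 1, Int.negSucc 0, Int.ofNat 3, Int.ofNat 1, Int.ofNat 1, Int.ofNat 1, Int.ofNat 1, Int.ofNat 1, Int.ofNat 1, Int.negSucc 0, Int.ofNat 1, Int.negSucc 0, Int.ofNat 1, Int.negSucc 0, Int.ofNat 1, Int.negSucc 0, Int.negSucc 0, Int.ofNat 1, Int.negSucc 0, Int.ofNat 1, Int.ofNat 1, Int.ofNat 1, Int.ofNat 1, Int.ofNat 1],
  [Int.ofNat 1, Int.negSucc 0, Int.ofNat 1, Int.ofNat 1, Int.ofNat 3, Int.ofNat 1, Int.negSucc 0, Int.ofNat 1, Int.negSucc 0, Int.ofNat 1, Int.ofNat 1, Int.ofNat 1, Int.ofNat 1, Int.negSucc 0, Int.ofNat 1, Int.negSucc 0, Int.negSucc 0, Int.negSucc 0, Int.ofNat 1, Int.ofNat 1, Int.ofNat 1, Int.ofNat 1, Int.ofNat 1, Int.ofNat 1],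
  [Int.ofNat 0, Int.ofNat 2, Int.ofNat 0, Int.ofNat 0, Int.ofNat 2, Int.ofNat 0, Int.negSucc 1, Int.ofNat 0, Int.negSucc 1, Int.ofNat 0, Int.ofNat 0, Int.ofNat 0, Int.ofNat 0, Int.negSucc 1, Int.ofNat 0, Int.negSucc 1, Int.negSucc 1, Int.negSucc 1, Int.ofNat 0, Int.ofNat 0, Int.ofNat 0, Int.ofNat 0, Int.ofNat 0, Int.ofNat 0],
  [Int.ofNat 0, Int.ofNat 0, Int.ofNat 0, Int.ofNat 0, Int.ofNat 2, Int.ofNat 0, Int.ofNat 0, Int.ofNat 2, Int.ofNat 0, Int.negSucc 1, Int.ofNat 0, Int.negSucc 1, Int.ofNat 0, Int.ofNat 0, Int.ofNat 0, Int.ofNat 0, Int.negSucc 1, Int.ofNat 0, Int.negSucc 1, Int.negSucc 1, Int.negSucc 1, Int.ofNat 0, Int.ofNat 0, Int.ofNat 0],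
  [Int.ofNat 0, Int.ofNat 0, Int.ofNat 0, Int.ofNat 0, Int.ofNat 2, Int.ofNat 0, Int.ofNat 0, Int.ofNat 2, Int.ofNat 2, Int.ofNat 0, Int.ofNat 2, Int.ofNat 0, Int.ofNat 2, Int.ofNat 0, Int.ofNat 0, Int.ofNat 2, Int.negSucc 1, Int.ofNat 0, Int.ofNat 0, Int.negSucc 1, Int.ofNat 0, Int.ofNat 0, Int.ofNat 0, Int.ofNat 0],
  [Int.ofNat 0, Int.ofNat 0, Int.ofNat 0, Int.ofNat 2, Int.ofNat 0, Int.ofNat 0, Int.ofNat 2, Int.ofNat 2, Int.ofNat 0, Int.ofNat 2, Int.ofNat 0, Int.ofNat 2, Int.ofNat 0, Int.ofNat 0, Int.ofNat 2, Int.negSucc 1, Int.ofNat 0, Int.ofNat 0, Int.negSucc 1, Int.ofNat 0, Int.ofNat 0, Int.ofNat 0, Int.ofNat 0, Int.ofNat 0],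
  [Int.ofNat 0, Int.ofNat 0, Int.ofNat 0, Int.ofNat 2, Int.ofNat 0, Int.ofNat 0, Int.ofNat 2, Int.negSucc 1, Int.ofNat 0, Int.negSucc 1, Int.ofNat 0, Int.negSucc 1, Int.ofNat 0, Int.ofNat 0, Int.ofNat 2, Int.negSucc 1, Int.ofNat 0, Int.ofNat 0, Int.ofNat 2, Int.ofNat 0, Int.ofNat 0, Int.ofNat 0, Int.ofNat 0, Int.ofNat 0],
  [Int.ofNat 0, Int.ofNat 0, Int.ofNat 0, Int.negSucc 1, Int.ofNat 0, Int.ofNat 0, Int.negSucc 1, Int.negSucc 1, Int.ofNat 0, Int.ofNat 2, Int.ofNat 0, Int.negSucc 1, Int.ofNat 0, Int.ofNat 0, Int.ofNat 2, Int.negSucc 1, Int.ofNat 0, Int.ofNat 0, Int.negSucc 1, Int.ofNat 0, Int.ofNat 0, Int.ofNat 0, Int.ofNat 0, Int.ofNat 0],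
  [Int.ofNat 0, Int.ofNat 0, Int.negSucc 1, Int.negSucc 1, Int.ofNat 0, Int.ofNat 2, Int.ofNat 0, Int.ofNat 0, Int.ofNat 0, Int.ofNat 0, Int.ofNat 0, Int.ofNat 0, Int.ofNat 0, Int.negSucc 1, Int.negSucc 1, Int.negSucc 1, Int.ofNat 0, Int.ofNat 0, Int.ofNat 2, Int.negSucc 1, Int.ofNat 0, Int.ofNat 0, Int.ofNat 0, Int.ofNat 0],
  [Int.ofNat 0, Int.ofNat 0, Int.ofNat 2, Int.negSucc 1, Int.ofNat 0, Int.ofNat 2, Int.ofNat 0, Int.ofNat 0, Int.ofNat 0, Int.ofNat 0, Int.ofNat 0, Int.ofNat 0, Int.ofNat 0, Int.negSucc 1, Int.negSucc 1, Int.negSucc 1, Int.ofNat 0, Int.ofNat 0, Int.negSucc 1, Int.negSucc 1, Int.ofNat 0, Int.ofNat 0, Int.ofNat 0, Int.ofNat 0],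
  [Int.ofNat 0, Int.ofNat 0, Int.ofNat 0, Int.ofNat 2, Int.negSucc 1, Int.ofNat 0, Int.ofNat 2, Int.ofNat 0, Int.ofNat 0, Int.ofNat 0, Int.ofNat 0, Int.ofNat 0, Int.ofNat 0, Int.ofNat 0, Int.negSucc 1, Int.negSucc 1, Int.negSucc 1, Int.ofNat 0, Int.ofNat 0, Int.negSucc 1, Int.negSucc 1, Int.ofNat 0, Int.ofNat 0, Int.ofNat 0],
  [Int.ofNat 0, Int.ofNat 0, Int.ofNat 0, Int.ofNat 2, Int.ofNat 0, Int.ofNat 0, Int.ofNat 2, Int.ofNat 0, Int.ofNat 0, Int.ofNat 2, Int.ofNat 2, Int.ofNat 0, Int.ofNat 0, Int.ofNat 2, Int.negSucc 1, Int.ofNat 0, Int.ofNat 0, Int.ofNat 0, Int.ofNat 0, Int.negSucc 1, Int.ofNat 0, Int.ofNat 0, Int.ofNat 2, Int.ofNat 0],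
  [Int.ofNat 2, Int.ofNat 0, Int.ofNat 0, Int.ofNat 2, Int.ofNat 0, Int.ofNat 0, Int.ofNat 2, Int.ofNat 2, Int.ofNat 0, Int.ofNat 0, Int.ofNat 2, Int.negSucc 1, Int.ofNat 0, Int.ofNat 0, Int.ofNat 0, Int.ofNat 0, Int.negSucc 1, Int.ofNat 0, Int.ofNat 0, Int.ofNat 2, Int.ofNat 0, Int.ofNat 0, Int.ofNat 0, Int.ofNat 0],
  [Int.negSucc 0, Int.ofNat 1, Int.ofNat 1, Int.ofNat 1, Int.ofNat 1, Int.negSucc 0, Int.negSucc 0, Int.negSucc 0, Int.ofNat 1, Int.negSucc 0, Int.ofNat 1, Int.negSucc 0, Int.ofNat 1, Int.ofNat 1, Int.negSucc 0, Int.negSucc 0, Int.negSucc 0, Int.negSucc 0, Int.ofNat 1, Int.negSucc 0, Int.negSucc 0, Int.negSucc 2, Int.ofNat 1, Int.ofNat 1],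
  [Int.negSucc 0, Int.negSucc 0, Int.ofNat 1, Int.ofNat 1, Int.ofNat 1, Int.negSucc 0, Int.ofNat 1, Int.ofNat 1, Int.ofNat 1, Int.ofNat 1, Int.negSucc 0, Int.negSucc 0, Int.negSucc 0, Int.negSucc 0, Int.ofNat 1, Int.negSucc 0, Int.ofNat 1, Int.negSucc 0, Int.ofNat 1, Int.negSucc 0, Int.negSucc 2, Int.negSucc 0, Int.negSucc 0, Int.ofNat 1],
  [Int.ofNat 1, Int.ofNat 1, Int.negSucc 0, Int.ofNat 1, Int.ofNat 1, Int.negSucc 0, Int.ofNat 1, Int.ofNat 1, Int.ofNat 1, Int.ofNat 3, Int.ofNat 1, Int.negSucc 0, Int.negSucc 0, Int.negSucc 0, Int.ofNat 1, Int.ofNat 1, Int.ofNat 1, Int.negSucc 0, Int.ofNat 1, Int.negSucc 0, Int.negSucc 0, Int.negSucc 0, Int.negSucc 0, Int.negSucc 0],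
  [Int.ofNat 1, Int.ofNat 1, Int.ofNat 1, Int.ofNat 1, Int.ofNat 1, Int.ofNat 1, Int.negSucc 0, Int.ofNat 1, Int.ofNat 1, Int.negSucc 2, Int.negSucc 0, Int.negSucc 0, Int.negSucc 0, Int.negSucc 0, Int.ofNat 1, Int.negSucc 0, Int.ofNat 1, Int.negSucc 0, Int.negSucc 0, Int.negSucc 0, Int.negSucc 0, Int.negSucc 0, Int.ofNat 1, Int.negSucc 0],
  [Int.ofNat 1, Int.negSucc 0, Int.negSucc 0, Int.ofNat 1, Int.negSucc 0, Int.negSucc 0, Int.negSucc 0, Int.negSucc 0, Int.ofNat 1, Int.ofNat 1, Int.ofNat 1, Int.negSucc 0, Int.ofNat 1, Int.negSucc 0, Int.ofNat 1, Int.negSucc 0, Int.negSucc 0, Int.negSucc 2, Int.ofNat 1, Int.ofNat 1, Int.ofNat 1, Int.negSucc 0, Int.ofNat 1, Int.negSucc 0],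
  [Int.ofNat 1, Int.negSucc 0, Int.ofNat 1, Int.ofNat 1, Int.negSucc 0, Int.ofNat 1, Int.ofNat 1, Int.negSucc 0, Int.ofNat 1, Int.negSucc 0, Int.negSucc 0, Int.negSucc 0, Int.ofNat 1, Int.negSucc 0, Int.ofNat 1, Int.ofNat 1, Int.negSucc 0, Int.negSucc 2, Int.negSucc 0, Int.ofNat 1, Int.ofNat 1, Int.negSucc 0, Int.negSucc 0, Int.negSucc 0],
  [Int.negSucc 0, Int.ofNat 1, Int.negSucc 0, Int.ofNat 1, Int.ofNat 1, Int.ofNat 1, Int.ofNat 1, Int.negSucc 0, Int.ofNat 1, Int.negSucc 0, Int.negSucc 0, Int.negSucc 0, Int.ofNat 1, Int.ofNat 1, Int.ofNat 1, Int.ofNat 1, Int.ofNat 1, Int.negSucc 2, Int.negSucc 0, Int.ofNat 1, Int.ofNat 1, Int.negSucc 0, Int.ofNat 1, Int.ofNat 1],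
  [Int.negSucc 0, Int.negSucc 0, Int.ofNat 1, Int.ofNat 1, Int.negSucc 0, Int.negSucc 0, Int.ofNat 1, Int.ofNat 1, Int.ofNat 1, Int.ofNat 1, Int.negSucc 0, Int.ofNat 1, Int.ofNat 1, Int.negSucc 0, Int.negSucc 2, Int.ofNat 1, Int.ofNat 1, Int.negSucc 0, Int.ofNat 1, Int.ofNat 1, Int.negSucc 0, Int.ofNat 1, Int.ofNat 1, Int.ofNat 1],
  [Int.ofNat 1, Int.ofNat 1, Int.negSucc 0, Int.ofNat 3, Int.negSucc 0, Int.ofNat 1, Int.negSucc 0, Int.negSucc 0, Int.negSucc 0, Int.ofNat 1, Int.negSucc 0, Int.negSucc 0, Int.negSucc 0, Int.negSucc 0, Int.negSucc 0, Int.ofNat 1, Int.ofNat 1, Int.ofNat 1, Int.negSucc 0, Int.negSucc 0, Int.negSucc 0, Int.negSucc 0, Int.ofNat 1, Int.negSucc 0],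
  [Int.negSucc 0, Int.negSucc 0, Int.ofNat 1, Int.ofNat 1, Int.ofNat 1, Int.negSucc 0, Int.ofNat 3, Int.negSucc 0, Int.ofNat 1, Int.negSucc 0, Int.negSucc 0, Int.negSucc 0, Int.ofNat 1, Int.negSucc 0, Int.negSucc 0, Int.negSucc 0, Int.negSucc 0, Int.negSucc 0, Int.ofNat 1, Int.ofNat 1, Int.ofNat 1, Int.negSucc 0, Int.negSucc 0, Int.negSucc 0],
  [Int.ofNat 0, Int.ofNat 0, Int.negSucc 1, Int.ofNat 2, Int.ofNat 2, Int.ofNat 0, Int.ofNat 2, Int.negSucc 1, Int.ofNat 0, Int.ofNat 0, Int.ofNat 0, Int.negSucc 1, Int.ofNat 0, Int.ofNat 0, Int.ofNat 0, Int.ofNat 0, Int.ofNat 0, Int.ofNat 0, Int.ofNat 0, Int.ofNat 0, Int.ofNat 2, Int.negSucc 1, Int.ofNat 0, Int.ofNat 0],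
  [Int.ofNat 0, Int.negSucc 1, Int.ofNat 2, Int.ofNat 2, Int.ofNat 0, Int.ofNat 2, Int.negSucc 1, Int.ofNat 0, Int.ofNat 0, Int.ofNat 0, Int.negSucc 1, Int.ofNat 0, Int.ofNat 0, Int.ofNat 0, Int.ofNat 0, Int.ofNat 0, Int.ofNat 0, Int.ofNat 0, Int.ofNat 0, Int.ofNat 2, Int.negSucc 1, Int.ofNat 0, Int.ofNat 0, Int.ofNat 0],
  [Int.ofNat 0, Int.negSucc 1, Int.negSucc 1, Int.ofNat 2, Int.ofNat 0, Int.ofNat 2, Int.negSucc 1, Int.ofNat 0, Int.ofNat 0, Int.ofNat 0, Int.ofNat 2, Int.ofNat 0, Int.ofNat 0, Int.ofNat 0, Int.ofNat 0, Int.ofNat 0, Int.ofNat 0, Int.ofNat 0, Int.ofNat 0, Int.ofNat 2, Int.negSucc 1, Int.ofNat 0, Int.ofNat 0, Int.ofNat 0],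
  [Int.ofNat 0, Int.ofNat 2, Int.ofNat 2, Int.negSucc 1, Int.ofNat 0, Int.ofNat 2, Int.ofNat 2, Int.ofNat 0, Int.ofNat 0, Int.ofNat 0, Int.ofNat 2, Int.ofNat 0, Int.ofNat 0, Int.ofNat 0, Int.ofNat 0, Int.ofNat 0, Int.ofNat 0, Int.ofNat 0, Int.ofNat 0, Int.ofNat 2, Int.negSucc 1, Int.ofNat 0, Int.ofNat 0, Int.ofNat 0],
  [Int.ofNat 0, Int.ofNat 0, Int.ofNat 0, Int.ofNat 0, Int.ofNat 0, Int.ofNat 0, Int.ofNat 2, Int.ofNat 0, Int.negSucc 1, Int.ofNat 2, Int.ofNat 0, Int.ofNat 2, Int.ofNat 0, Int.ofNat 0, Int.ofNat 0, Int.negSucc 1, Int.ofNat 2, Int.ofNat 0, Int.ofNat 0, Int.ofNat 2, Int.ofNat 0, Int.ofNat 0, Int.ofNat 2, Int.ofNat 0],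
  [Int.ofNat 0, Int.ofNat 0, Int.ofNat 0, Int.ofNat 0, Int.ofNat 0, Int.ofNat 0, Int.ofNat 2, Int.ofNat 0, Int.negSucc 1, Int.negSucc 1, Int.ofNat 0, Int.negSucc 1, Int.ofNat 0, Int.ofNat 0, Int.ofNat 0, Int.negSucc 1, Int.ofNat 2, Int.ofNat 0, Int.ofNat 0, Int.ofNat 2, Int.ofNat 0, Int.ofNat 0, Int.ofNat 2, Int.ofNat 0],
  [Int.ofNat 2, Int.ofNat 0, Int.ofNat 0, Int.ofNat 0, Int.ofNat 0, Int.ofNat 0, Int.ofNat 0, Int.ofNat 2, Int.ofNat 0, Int.negSucc 1, Int.negSucc 1, Int.ofNat 0, Int.negSucc 1, Int.ofNat 0, Int.ofNat 0, Int.ofNat 0, Int.negSucc 1, Int.ofNat 2, Int.ofNat 0, Int.ofNat 0, Int.ofNat 2, Int.ofNat 0, Int.ofNat 0, Int.ofNat 0],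
  [Int.negSucc 0, Int.ofNat 1, Int.ofNat 1, Int.negSucc 0, Int.ofNat 1, Int.negSucc 0, Int.negSucc 0, Int.ofNat 1, Int.ofNat 1, Int.negSucc 0, Int.negSucc 0, Int.ofNat 1, Int.negSucc 0, Int.ofNat 1, Int.negSucc 0, Int.ofNat 1, Int.negSucc 0, Int.ofNat 1, Int.ofNat 1, Int.negSucc 0, Int.ofNat 3, Int.negSucc 0, Int.ofNat 1, Int.ofNat 1],
  [Int.negSucc 0, Int.ofNat 1, Int.negSucc 0, Int.negSucc 0, Int.ofNat 1, Int.ofNat 1, Int.negSucc 0, Int.negSucc 0, Int.ofNat 1, Int.negSucc 0, Int.ofNat 1, Int.negSucc 0, Int.ofNat 1, Int.negSucc 0, Int.ofNat 1, Int.ofNat 1, Int.negSucc 0, Int.ofNat 3, Int.negSucc 0, Int.ofNat 1, Int.negSucc 0, Int.ofNat 1, Int.ofNat 1, Int.ofNat 1],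
  [Int.ofNat 1, Int.negSucc 0, Int.ofNat 1, Int.negSucc 2, Int.ofNat 1, Int.negSucc 0, Int.negSucc 0, Int.negSucc 0, Int.ofNat 1, Int.negSucc 0, Int.ofNat 1, Int.negSucc 0, Int.ofNat 1, Int.negSucc 0, Int.negSucc 0, Int.ofNat 1, Int.negSucc 0, Int.ofNat 1, Int.negSucc 0, Int.ofNat 1, Int.negSucc 0, Int.ofNat 1, Int.ofNat 1, Int.negSucc 0],
  [Int.ofNat 1, Int.negSucc 0, Int.ofNat 1, Int.negSucc 2, Int.negSucc 0, Int.negSucc 0, Int.ofNat 1, Int.ofNat 1, Int.ofNat 1, Int.negSucc 0, Int.negSucc 0, Int.ofNat 1, Int.negSucc 0, Int.negSucc 0, Int.ofNat 1, Int.ofNat 1, Int.ofNat 1, Int.negSucc 0, Int.negSucc 0, Int.negSucc 0, Int.ofNat 1, Int.negSucc 0, Int.ofNat 1, Int.negSucc 0],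
  [Int.negSucc 0, Int.ofNat 1, Int.negSucc 0, Int.negSucc 0, Int.negSucc 0, Int.ofNat 1, Int.ofNat 1, Int.ofNat 1, Int.ofNat 1, Int.negSucc 0, Int.negSucc 0, Int.ofNat 1, Int.negSucc 0, Int.negSucc 0, Int.ofNat 3, Int.ofNat 1, Int.ofNat 1, Int.ofNat 1, Int.negSucc 0, Int.negSucc 0, Int.ofNat 1, Int.negSucc 0, Int.ofNat 1, Int.ofNat 1],
  [Int.negSucc 0, Int.ofNat 1, Int.ofNat 1, Int.negSucc 0, Int.negSucc 0, Int.negSucc 0, Int.negSucc 0, Int.ofNat 1, Int.ofNat 1, Int.ofNat 1, Int.ofNat 1, Int.ofNat 1, Int.negSucc 0, Int.negSucc 0, Int.ofNat 3, Int.negSucc 0, Int.ofNat 1, Int.ofNat 1, Int.ofNat 1, Int.negSucc 0, Int.ofNat 1, Int.negSucc 0, Int.negSucc 0, Int.ofNat 1],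
  [Int.ofNat 1, Int.ofNat 1, Int.ofNat 1, Int.ofNat 1, Int.negSucc 0, Int.negSucc 0, Int.ofNat 1, Int.ofNat 1, Int.negSucc 0, Int.negSucc 0, Int.ofNat 3, Int.negSucc 0, Int.ofNat 1, Int.ofNat 1, Int.negSucc 0, Int.negSucc 0, Int.negSucc 0, Int.ofNat 1, Int.ofNat 1, Int.negSucc 0, Int.negSucc 0, Int.negSucc 0, Int.ofNat 1, Int.ofNat 1],
  [Int.ofNat 1, Int.ofNat 1, Int.negSucc 0, Int.ofNat 1, Int.negSucc 0, Int.ofNat 1, Int.negSucc 0, Int.ofNat 1, Int.negSucc 0, Int.ofNat 1, Int.negSucc 2, Int.negSucc 0, Int.ofNat 1, Int.ofNat 1, Int.negSucc 0, Int.ofNat 1, Int.negSucc 0, Int.ofNat 1, Int.negSucc 0, Int.negSucc 0, Int.negSucc 0, Int.negSucc 0, Int.negSucc 0, Int.ofNat 1],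
  [Int.ofNat 0, Int.ofNat 0, Int.ofNat 2, Int.ofNat 0, Int.ofNat 0, Int.ofNat 0, Int.ofNat 0, Int.ofNat 2, Int.ofNat 0, Int.ofNat 2, Int.negSucc 1, Int.ofNat 0, Int.ofNat 2, Int.ofNat 2, Int.negSucc 1, Int.ofNat 2, Int.ofNat 0, Int.ofNat 0, Int.ofNat 0, Int.ofNat 0, Int.ofNat 0, Int.ofNat 0, Int.ofNat 0, Int.ofNat 0],
  [Int.ofNat 0, Int.ofNat 0, Int.ofNat 0, Int.ofNat 0, Int.ofNat 2, Int.ofNat 0, Int.ofNat 0, Int.ofNat 0, Int.ofNat 0, Int.ofNat 2, Int.ofNat 2, Int.ofNat 0, Int.ofNat 0, Int.ofNat 2, Int.ofNat 0, Int.ofNat 2, Int.ofNat 2, Int.ofNat 0, Int.ofNat 0, Int.ofNat 0, Int.negSucc 1, Int.ofNat 0, Int.negSucc 1, Int.ofNat 0],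
  [Int.ofNat 0, Int.ofNat 0, Int.ofNat 0, Int.ofNat 0, Int.ofNat 0, Int.ofNat 0, Int.ofNat 0, Int.ofNat 0, Int.ofNat 0, Int.ofNat 0, Int.ofNat 0, Int.ofNat 0, Int.ofNat 0, Int.ofNat 0, Int.ofNat 0, Int.ofNat 0, Int.ofNat 0, Int.ofNat 0, Int.ofNat 0, Int.ofNat 0, Int.negSucc 3, Int.ofNat 0, Int.negSucc 3, Int.ofNat 0],
  [Int.negSucc 3, Int.ofNat 0, Int.negSucc 3, Int.ofNat 0, Int.ofNat 0, Int.ofNat 0, Int.ofNat 0, Int.ofNat 0, Int.ofNat 0, Int.ofNat 0, Int.ofNat 0, Int.ofNat 0, Int.ofNat 0, Int.ofNat 0, Int.ofNat 0, Int.ofNat 0, Int.ofNat 0, Int.ofNat 0, Int.ofNat 0, Int.ofNat 0, Int.ofNat 0, Int.ofNat 0, Int.ofNat 0, Int.ofNat 0],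
  [Int.ofNat 0, Int.negSucc 3, Int.ofNat 0, Int.ofNat 0, Int.ofNat 0, Int.ofNat 0, Int.ofNat 0, Int.ofNat 0, Int.ofNat 0, Int.ofNat 0, Int.ofNat 0, Int.ofNat 0, Int.ofNat 0, Int.ofNat 0, Int.ofNat 0, Int.ofNat 0, Int.ofNat 0, Int.ofNat 0, Int.ofNat 0, Int.ofNat 0, Int.ofNat 0, Int.ofNat 0, Int.ofNat 0, Int.negSucc 3],
  [Int.negSucc 3, Int.ofNat 0, Int.ofNat 0, Int.ofNat 0, Int.ofNat 0, Int.ofNat 0, Int.ofNat 0, Int.ofNat 0, Int.ofNat 0, Int.ofNat 0, Int.ofNat 0, Int.ofNat 0, Int.ofNat 0, Int.ofNat 0, Int.ofNat 0, Int.ofNat 0, Int.ofNat 0, Int.ofNat 0, Int.ofNat 0, Int.ofNat 0, Int.ofNat 0, Int.ofNat 0, Int.ofNat 0, Int.negSucc 3],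
  [Int.ofNat 4, Int.ofNat 0, Int.ofNat 0, Int.ofNat 0, Int.ofNat 0, Int.ofNat 0, Int.ofNat 0, Int.ofNat 0, Int.ofNat 0, Int.ofNat 0, Int.ofNat 0, Int.ofNat 0, Int.ofNat 0, Int.ofNat 0, Int.ofNat 0, Int.ofNat 0, Int.ofNat 0, Int.ofNat 0, Int.ofNat 0, Int.ofNat 0, Int.ofNat 0, Int.ofNat 0, Int.ofNat 0, Int.negSucc 3],
  [Int.negSucc 3, Int.ofNat 0, Int.ofNat 0, Int.ofNat 0, Int.ofNat 0, Int.ofNat 0, Int.ofNat 0, Int.ofNat 0, Int.ofNat 0, Int.ofNat 0, Int.ofNat 0, Int.ofNat 0, Int.ofNat 0, Int.ofNat 0, Int.ofNat 0, Int.ofNat 0, Int.ofNat 0, Int.ofNat 0, Int.ofNat 0, Int.ofNat 0, Int.ofNat 0, Int.ofNat 0, Int.ofNat 0, Int.negSucc 3],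
  [Int.negSucc 3, Int.ofNat 0, Int.ofNat 0, Int.ofNat 0, Int.ofNat 0, Int.ofNat 0, Int.ofNat 0, Int.ofNat 0, Int.ofNat 0, Int.ofNat 0, Int.ofNat 0, Int.ofNat 0, Int.ofNat 0, Int.ofNat 0, Int.ofNat 0, Int.ofNat 0, Int.ofNat 0, Int.ofNat 0, Int.ofNat 0, Int.ofNat 0, Int.ofNat 0, Int.ofNat 0, Int.ofNat 0, Int.negSucc 3],
  [Int.ofNat 4, Int.ofNat 0, Int.ofNat 0, Int.ofNat 0, Int.ofNat 0, Int.ofNat 0, Int.ofNat 0, Int.ofNat 0, Int.ofNat 0, Int.ofNat 0, Int.ofNat 0, Int.ofNat 0, Int.ofNat 0, Int.ofNat 0, Int.ofNat 0, Int.ofNat 0, Int.ofNat 0, Int.ofNat 0, Int.ofNat 0, Int.ofNat 0, Int.ofNat 0, Int.ofNat 0, Int.ofNat 0, Int.negSucc 3],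
  [Int.ofNat 0, Int.ofNat 4, Int.ofNat 0, Int.ofNat 0, Int.ofNat 0, Int.ofNat 0, Int.ofNat 0, Int.ofNat 0, Int.ofNat 0, Int.ofNat 0, Int.ofNat 0, Int.ofNat 0, Int.ofNat 0, Int.ofNat 0, Int.ofNat 0, Int.ofNat 0, Int.ofNat 0, Int.ofNat 0, Int.ofNat 0, Int.ofNat 0, Int.ofNat 0, Int.ofNat 0, Int.ofNat 0, Int.negSucc 3],
  [Int.ofNat 0, Int.negSucc 3, Int.ofNat 0, Int.ofNat 0, Int.ofNat 0, Int.ofNat 0, Int.ofNat 0, Int.ofNat 0, Int.ofNat 0, Int.ofNat 0, Int.ofNat 0, Int.ofNat 0, Int.ofNat 0, Int.ofNat 0, Int.ofNat 0, Int.ofNat 0, Int.ofNat 0, Int.ofNat 0, Int.ofNat 0, Int.ofNat 0, Int.ofNat 0, Int.ofNat 0, Int.ofNat 0, Int.ofNat 4],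
  [Int.ofNat 0, Int.ofNat 0, Int.ofNat 0, Int.ofNat 0, Int.ofNat 0, Int.ofNat 0, Int.ofNat 0, Int.ofNat 0, Int.ofNat 0, Int.ofNat 0, Int.ofNat 0, Int.ofNat 0, Int.ofNat 0, Int.ofNat 0, Int.ofNat 0, Int.ofNat 0, Int.ofNat 0, Int.ofNat 0, Int.ofNat 0, Int.ofNat 0, Int.ofNat 0, Int.negSucc 3, Int.ofNat 0, Int.ofNat 4],
  [Int.ofNat 2, Int.ofNat 2, Int.ofNat 2, Int.ofNat 0, Int.ofNat 0, Int.ofNat 0, Int.ofNat 2, Int.ofNat 2, Int.ofNat 0, Int.ofNat 0, Int.ofNat 0, Int.ofNat 0, Int.ofNat 0, Int.ofNat 0, Int.ofNat 0, Int.ofNat 0, Int.ofNat 0, Int.ofNat 0, Int.ofNat 0, Int.ofNat 2, Int.ofNat 0, Int.negSucc 1, Int.ofNat 0, Int.negSucc 1],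
  [Int.ofNat 2, Int.ofNat 2, Int.ofNat 0, Int.ofNat 0, Int.ofNat 0, Int.ofNat 2, Int.ofNat 2, Int.ofNat 0, Int.ofNat 0, Int.ofNat 0, Int.ofNat 0, Int.ofNat 0, Int.ofNat 0, Int.ofNat 0, Int.ofNat 0, Int.ofNat 0, Int.ofNat 0, Int.ofNat 0, Int.ofNat 2, Int.ofNat 0, Int.negSucc 1, Int.ofNat 0, Int.ofNat 2, Int.negSucc 1],
  [Int.negSucc 0, Int.negSucc 0, Int.ofNat 1, Int.negSucc 0, Int.negSucc 0, Int.ofNat 1, Int.ofNat 1, Int.negSucc 0, Int.negSucc 0, Int.ofNat 1, Int.ofNat 1, Int.negSucc 0, Int.negSucc 0, Int.negSucc 0, Int.negSucc 0, Int.ofNat 1, Int.negSucc 0, Int.negSucc 0, Int.ofNat 1, Int.negSucc 0, Int.negSucc 0, Int.negSucc 0, Int.ofNat 1, Int.ofNat 3],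
  [Int.negSucc 0, Int.negSucc 0, Int.negSucc 0, Int.negSucc 0, Int.negSucc 0, Int.negSucc 0, Int.negSucc 0, Int.negSucc 0, Int.negSucc 0, Int.negSucc 0, Int.negSucc 0, Int.negSucc 0, Int.negSucc 0, Int.negSucc 0, Int.negSucc 0, Int.negSucc 0, Int.negSucc 0, Int.negSucc 0, Int.negSucc 0, Int.negSucc 0, Int.negSucc 0, Int.negSucc 0, Int.negSucc 0, Int.ofNat 3],
  [Int.negSucc 0, Int.negSucc 0, Int.negSucc 0, Int.negSucc 0, Int.negSucc 0, Int.negSucc 0, Int.negSucc 0, Int.negSucc 0, Int.negSucc 0, Int.negSucc 0, Int.negSucc 0, Int.negSucc 0, Int.negSucc 0, Int.negSucc 0, Int.negSucc 0, Int.negSucc 0, Int.negSucc 0, Int.negSucc 0, Int.negSucc 0, Int.negSucc 0, Int.negSucc 0, Int.negSucc 0, Int.negSucc 0, Int.ofNat 3],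
  [Int.negSucc 0, Int.negSucc 0, Int.ofNat 1, Int.negSucc 0, Int.negSucc 0, Int.ofNat 1, Int.ofNat 1, Int.negSucc 0, Int.negSucc 0, Int.ofNat 1, Int.ofNat 1, Int.negSucc 0, Int.negSucc 0, Int.negSucc 0, Int.negSucc 0, Int.ofNat 1, Int.negSucc 0, Int.negSucc 0, Int.ofNat 1, Int.negSucc 0, Int.negSucc 0, Int.negSucc 0, Int.ofNat 1, Int.ofNat 3],
  [Int.ofNat 2, Int.ofNat 2, Int.ofNat 0, Int.ofNat 0, Int.ofNat 0, Int.ofNat 2, Int.ofNat 2, Int.ofNat 0, Int.ofNat 0, Int.ofNat 0, Int.ofNat 0, Int.ofNat 0, Int.ofNat 0, Int.ofNat 0, Int.ofNat 0, Int.ofNat 0, Int.ofNat 0, Int.ofNat 0, Int.ofNat 2, Int.ofNat 0, Int.negSucc 1, Int.ofNat 0, Int.ofNat 2, Int.negSucc 1],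
  [Int.ofNat 2, Int.ofNat 2, Int.ofNat 2, Int.ofNat 0, Int.ofNat 0, Int.ofNat 0, Int.ofNat 2, Int.ofNat 2, Int.ofNat 0, Int.ofNat 0, Int.ofNat 0, Int.ofNat 0, Int.ofNat 0, Int.ofNat 0, Int.ofNat 0, Int.ofNat 0, Int.ofNat 0, Int.ofNat 0, Int.ofNat 0, Int.ofNat 2, Int.ofNat 0, Int.negSucc 1, Int.ofNat 0, Int.negSucc 1],
  [Int.ofNat 0, Int.ofNat 0, Int.ofNat 0, Int.ofNat 0, Int.ofNat 0, Int.ofNat 0, Int.ofNat 0, Int.ofNat 0, Int.ofNat 0, Int.ofNat 0, Int.ofNat 0, Int.ofNat 0, Int.ofNat 0, Int.ofNat 0, Int.ofNat 0, Int.ofNat 0, Int.ofNat 0, Int.ofNat 0, Int.ofNat 0, Int.ofNat 0, Int.ofNat 0, Int.negSucc 3, Int.ofNat 0, Int.ofNat 4],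
  [Int.ofNat 0, Int.negSucc 3, Int.ofNat 0, Int.ofNat 0, Int.ofNat 0, Int.ofNat 0, Int.ofNat 0, Int.ofNat 0, Int.ofNat 0, Int.ofNat 0, Int.ofNat 0, Int.ofNat 0, Int.ofNat 0, Int.ofNat 0, Int.ofNat 0, Int.ofNat 0, Int.ofNat 0, Int.ofNat 0, Int.ofNat 0, Int.ofNat 0, Int.ofNat 0, Int.ofNat 0, Int.ofNat 0, Int.ofNat 4],
  [Int.ofNat 0, Int.ofNat 4, Int.ofNat 0, Int.ofNat 0, Int.ofNat 0, Int.ofNat 0, Int.ofNat 0, Int.ofNat 0, Int.ofNat 0, Int.ofNat 0, Int.ofNat 0, Int.ofNat 0, Int.ofNat 0, Int.ofNat 0, Int.ofNat 0, Int.ofNat 0, Int.ofNat 0, Int.ofNat 0, Int.ofNat 0, Int.ofNat 0, Int.ofNat 0, Int.ofNat 0, Int.ofNat 0, Int.negSucc 3],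
  [Int.ofNat 4, Int.ofNat 0, Int.ofNat 0, Int.ofNat 0, Int.ofNat 0, Int.ofNat 0, Int.ofNat 0, Int.ofNat 0, Int.ofNat 0, Int.ofNat 0, Int.ofNat 0, Int.ofNat 0, Int.ofNat 0, Int.ofNat 0, Int.ofNat 0, Int.ofNat 0, Int.ofNat 0, Int.ofNat 0, Int.ofNat 0, Int.ofNat 0, Int.ofNat 0, Int.ofNat 0, Int.ofNat 0, Int.negSucc 3],
  [Int.negSucc 3, Int.ofNat 0, Int.ofNat 0, Int.ofNat 0, Int.ofNat 0, Int.ofNat 0, Int.ofNat 0, Int.ofNat 0, Int.ofNat 0, Int.ofNat 0, Int.ofNat 0, Int.ofNat 0, Int.ofNat 0, Int.ofNat 0, Int.ofNat 0, Int.ofNat 0, Int.ofNat 0, Int.ofNat 0, Int.ofNat 0, Int.ofNat 0, Int.ofNat 0, Int.ofNat 0, Int.ofNat 0, Int.negSucc 3],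
  [Int.ofNat 4, Int.ofNat 0, Int.ofNat 0, Int.ofNat 0, Int.ofNat 0, Int.ofNat 0, Int.ofNat 0, Int.ofNat 0, Int.ofNat 0, Int.ofNat 0, Int.ofNat 0, Int.ofNat 0, Int.ofNat 0, Int.ofNat 0, Int.ofNat 0, Int.ofNat 0, Int.ofNat 0, Int.ofNat 0, Int.ofNat 0, Int.ofNat 0, Int.ofNat 0, Int.ofNat 0, Int.ofNat 0, Int.negSucc 3],
  [Int.negSucc 3, Int.ofNat 0, Int.ofNat 0, Int.ofNat 0, Int.ofNat 0, Int.ofNat 0, Int.ofNat 0, Int.ofNat 0, Int.ofNat 0, Int.ofNat 0, Int.ofNat 0, Int.ofNat 0, Int.ofNat 0, Int.ofNat 0, Int.ofNat 0, Int.ofNat 0, Int.ofNat 0, Int.ofNat 0, Int.ofNat 0, Int.ofNat 0, Int.ofNat 0, Int.ofNat 0, Int.ofNat 0, Int.ofNat 4],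
  [Int.ofNat 4, Int.ofNat 0, Int.ofNat 0, Int.ofNat 0, Int.ofNat 0, Int.ofNat 0, Int.ofNat 0, Int.ofNat 0, Int.ofNat 0, Int.ofNat 0, Int.ofNat 0, Int.ofNat 0, Int.ofNat 0, Int.ofNat 0, Int.ofNat 0, Int.ofNat 0, Int.ofNat 0, Int.ofNat 0, Int.ofNat 0, Int.ofNat 0, Int.ofNat 0, Int.ofNat 0, Int.ofNat 0, Int.ofNat 4],
  [Int.ofNat 0, Int.ofNat 4, Int.ofNat 0, Int.ofNat 0, Int.ofNat 0, Int.ofNat 0, Int.ofNat 0, Int.ofNat 0, Int.ofNat 0, Int.ofNat 0, Int.ofNat 0, Int.ofNat 0, Int.ofNat 0, Int.ofNat 0, Int.ofNat 0, Int.ofNat 0, Int.ofNat 0, Int.ofNat 0, Int.ofNat 0, Int.ofNat 0, Int.ofNat 0, Int.ofNat 0, Int.ofNat 0, Int.ofNat 4],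
  [Int.ofNat 4, Int.ofNat 0, Int.ofNat 4, Int.ofNat 0, Int.ofNat 0, Int.ofNat 0, Int.ofNat 0, Int.ofNat 0, Int.ofNat 0, Int.ofNat 0, Int.ofNat 0, Int.ofNat 0, Int.ofNat 0, Int.ofNat 0, Int.ofNat 0, Int.ofNat 0, Int.ofNat 0, Int.ofNat 0, Int.ofNat 0, Int.ofNat 0, Int.ofNat 0, Int.ofNat 0, Int.ofNat 0, Int.ofNat 0],
  [Int.ofNat 0, Int.ofNat 0, Int.ofNat 0, Int.ofNat 0, Int.ofNat 0, Int.ofNat 0, Int.ofNat 0, Int.ofNat 0, Int.ofNat 0, Int.ofNat 0, Int.ofNat 0, Int.ofNat 0, Int.ofNat 0, Int.ofNat 0, Int.ofNat 0, Int.ofNat 0, Int.ofNat 0, Int.ofNat 0, Int.ofNat 0, Int.ofNat 0, Int.ofNat 4, Int.ofNat 0, Int.ofNat 4, Int.ofNat 0],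
  [Int.ofNat 0, Int.ofNat 0, Int.ofNat 0, Int.ofNat 0, Int.negSucc 1, Int.ofNat 0, Int.ofNat 0, Int.ofNat 0, Int.ofNat 0, Int.negSucc 1, Int.negSucc 1, Int.ofNat 0, Int.ofNat 0, Int.negSucc 1, Int.ofNat 0, Int.negSucc 1, Int.negSucc 1, Int.ofNat 0, Int.ofNat 0, Int.ofNat 0, Int.ofNat 2, Int.ofNat 0, Int.ofNat 2, Int.ofNat 0],
  [Int.ofNat 0, Int.ofNat 0, Int.negSucc 1, Int.ofNat 0, Int.ofNat 0, Int.ofNat 0, Int.ofNat 0, Int.negSucc 1, Int.ofNat 0, Int.negSucc 1, Int.ofNat 2, Int.ofNat 0, Int.negSucc 1, Int.negSucc 1, Int.ofNat 2, Int.negSucc 1, Int.ofNat 0, Int.ofNat 0, Int.ofNat 0, Int.ofNat 0, Int.ofNat 0, Int.ofNat 0, Int.ofNat 0, Int.ofNat 0],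
  [Int.negSucc 0, Int.negSucc 0, Int.ofNat 1, Int.negSucc 0, Int.ofNat 1, Int.negSucc 0, Int.ofNat 1, Int.negSucc 0, Int.ofNat 1, Int.negSucc 0, Int.ofNat 3, Int.ofNat 1, Int.negSucc 0, Int.negSucc 0, Int.ofNat 1, Int.negSucc 0, Int.ofNat 1, Int.negSucc 0, Int.ofNat 1, Int.ofNat 1, Int.ofNat 1, Int.ofNat 1, Int.ofNat 1, Int.negSucc 0],
  [Int.negSucc 0, Int.negSucc 0, Int.negSucc 0, Int.negSucc 0, Int.ofNat 1, Int.ofNat 1, Int.negSucc 0, Int.negSucc 0, Int.ofNat 1, Int.ofNat 1, Int.negSucc 2, Int.ofNat 1, Int.negSucc 0, Int.negSucc 0, Int.ofNat 1, Int.ofNat 1, Int.ofNat 1, Int.negSucc 0, Int.negSucc 0, Int.ofNat 1, Int.ofNat 1, Int.ofNat 1, Int.negSucc 0, Int.negSucc 0],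
  [Int.ofNat 1, Int.ofNat 1, Int.negSucc 2, Int.negSucc 0, Int.negSucc 0, Int.ofNat 1, Int.ofNat 1, Int.negSucc 0, Int.negSucc 0, Int.negSucc 0, Int.ofNat 1, Int.ofNat 1, Int.negSucc 0, Int.negSucc 0, Int.ofNat 1, Int.ofNat 1, Int.negSucc 0, Int.ofNat 1, Int.negSucc 0, Int.negSucc 0, Int.ofNat 1, Int.negSucc 0, Int.ofNat 1, Int.negSucc 0],
  [Int.ofNat 1, Int.ofNat 1, Int.ofNat 3, Int.negSucc 0, Int.negSucc 0, Int.negSucc 0, Int.negSucc 0, Int.negSucc 0, Int.negSucc 0, Int.ofNat 1, Int.negSucc 0, Int.ofNat 1, Int.negSucc 0, Int.negSucc 0, Int.ofNat 1, Int.negSucc 0, Int.negSucc 0, Int.ofNat 1, Int.ofNat 1, Int.negSucc 0, Int.ofNat 1, Int.negSucc 0, Int.negSucc 0, Int.negSucc 0],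
  [Int.ofNat 1, Int.ofNat 1, Int.negSucc 0, Int.negSucc 0, Int.ofNat 1, Int.negSucc 0, Int.ofNat 1, Int.ofNat 1, Int.negSucc 0, Int.ofNat 1, Int.negSucc 0, Int.ofNat 1, Int.negSucc 0, Int.ofNat 1, Int.ofNat 1, Int.negSucc 0, Int.ofNat 1, Int.ofNat 1, Int.ofNat 1, Int.ofNat 1, Int.ofNat 1, Int.ofNat 1, Int.ofNat 1, Int.ofNat 3],
  [Int.ofNat 1, Int.ofNat 1, Int.ofNat 1, Int.negSucc 0, Int.negSucc 0, Int.ofNat 1, Int.ofNat 1, Int.negSucc 0, Int.ofNat 1, Int.negSucc 0, Int.ofNat 1, Int.ofNat 1, Int.negSucc 0, Int.ofNat 1, Int.ofNat 1, Int.negSucc 0, Int.ofNat 1, Int.ofNat 1, Int.ofNat 1, Int.ofNat 1, Int.negSucc 0, Int.ofNat 1, Int.ofNat 1, Int.ofNat 3],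
  [Int.ofNat 2, Int.ofNat 2, Int.ofNat 2, Int.negSucc 1, Int.negSucc 1, Int.ofNat 0, Int.ofNat 0, Int.negSucc 1, Int.ofNat 0, Int.ofNat 0, Int.ofNat 2, Int.ofNat 0, Int.negSucc 1, Int.ofNat 0, Int.ofNat 0, Int.ofNat 0, Int.ofNat 0, Int.ofNat 0, Int.ofNat 0, Int.ofNat 0, Int.ofNat 0, Int.ofNat 0, Int.ofNat 0, Int.ofNat 0],
  [Int.ofNat 0, Int.ofNat 0, Int.ofNat 0, Int.ofNat 2, Int.ofNat 2, Int.ofNat 2, Int.negSucc 1, Int.negSucc 1, Int.ofNat 0, Int.ofNat 0, Int.negSucc 1, Int.ofNat 0, Int.ofNat 0, Int.ofNat 2, Int.ofNat 0, Int.negSucc 1, Int.ofNat 0, Int.ofNat 0, Int.ofNat 0, Int.ofNat 0, Int.ofNat 0, Int.ofNat 0, Int.ofNat 0, Int.ofNat 0],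
  [Int.ofNat 0, Int.ofNat 0, Int.ofNat 0, Int.ofNat 0, Int.ofNat 0, Int.ofNat 0, Int.ofNat 0, Int.ofNat 0, Int.ofNat 0, Int.ofNat 2, Int.ofNat 0, Int.ofNat 0, Int.ofNat 0, Int.ofNat 0, Int.negSucc 1, Int.ofNat 0, Int.negSucc 1, Int.negSucc 1, Int.ofNat 0, Int.ofNat 2, Int.ofNat 2, Int.ofNat 2, Int.negSucc 1, Int.ofNat 0],
  [Int.ofNat 0, Int.ofNat 0, Int.ofNat 0, Int.ofNat 0, Int.ofNat 0, Int.ofNat 0, Int.ofNat 0, Int.ofNat 0, Int.ofNat 2, Int.ofNat 0, Int.ofNat 0, Int.ofNat 0, Int.ofNat 0, Int.negSucc 1, Int.ofNat 0, Int.negSucc 1, Int.negSucc 1, Int.ofNat 0, Int.ofNat 2, Int.ofNat 2, Int.ofNat 2, Int.negSucc 1, Int.ofNat 0, Int.ofNat 0],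
  [Int.ofNat 0, Int.ofNat 0, Int.ofNat 0, Int.ofNat 0, Int.ofNat 0, Int.ofNat 0, Int.ofNat 0, Int.ofNat 0, Int.ofNat 2, Int.ofNat 0, Int.ofNat 0, Int.ofNat 0, Int.ofNat 0, Int.negSucc 1, Int.ofNat 0, Int.negSucc 1, Int.negSucc 1, Int.ofNat 0, Int.negSucc 1, Int.ofNat 2, Int.ofNat 2, Int.ofNat 2, Int.ofNat 0, Int.ofNat 0],
  [Int.ofNat 0, Int.ofNat 0, Int.ofNat 0, Int.ofNat 0, Int.ofNat 0, Int.ofNat 0, Int.ofNat 0, Int.ofNat 0, Int.negSucc 1, Int.ofNat 0, Int.ofNat 0, Int.ofNat 0, Int.ofNat 0, Int.ofNat 2, Int.ofNat 0, Int.negSucc 1, Int.ofNat 2, Int.ofNat 0, Int.ofNat 2, Int.ofNat 2, Int.ofNat 2, Int.ofNat 2, Int.ofNat 0, Int.ofNat 0],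
  [Int.ofNat 0, Int.ofNat 0, Int.ofNat 0, Int.negSucc 1, Int.ofNat 0, Int.ofNat 0, Int.ofNat 2, Int.ofNat 2, Int.ofNat 2, Int.ofNat 0, Int.ofNat 2, Int.ofNat 0, Int.ofNat 2, Int.ofNat 0, Int.ofNat 2, Int.ofNat 0, Int.ofNat 0, Int.ofNat 0, Int.ofNat 0, Int.ofNat 0, Int.negSucc 1, Int.ofNat 0, Int.ofNat 0, Int.ofNat 0],
  [Int.ofNat 0, Int.ofNat 0, Int.ofNat 0, Int.negSucc 1, Int.ofNat 0, Int.ofNat 0, Int.ofNat 2, Int.negSucc 1, Int.ofNat 2, Int.ofNat 0, Int.negSucc 1, Int.ofNat 0, Int.ofNat 2, Int.ofNat 0, Int.ofNat 2, Int.ofNat 0, Int.ofNat 0, Int.ofNat 0, Int.ofNat 0, Int.ofNat 0, Int.negSucc 1, Int.ofNat 0, Int.ofNat 0, Int.ofNat 0],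
  [Int.ofNat 0, Int.ofNat 0, Int.ofNat 0, Int.ofNat 0, Int.negSucc 1, Int.ofNat 0, Int.ofNat 0, Int.ofNat 2, Int.negSucc 1, Int.ofNat 2, Int.ofNat 0, Int.negSucc 1, Int.ofNat 0, Int.ofNat 2, Int.ofNat 0, Int.ofNat 2, Int.ofNat 0, Int.ofNat 0, Int.ofNat 0, Int.ofNat 0, Int.ofNat 0, Int.negSucc 1, Int.ofNat 0, Int.ofNat 0],
  [Int.ofNat 0, Int.ofNat 0, Int.ofNat 0, Int.ofNat 0, Int.negSucc 1, Int.ofNat 0, Int.ofNat 0, Int.ofNat 2, Int.ofNat 0, Int.ofNat 0, Int.negSucc 1, Int.ofNat 0, Int.ofNat 2, Int.ofNat 2, Int.ofNat 0, Int.ofNat 0, Int.ofNat 0, Int.ofNat 0, Int.ofNat 2, Int.ofNat 0, Int.negSucc 1, Int.negSucc 1, Int.ofNat 0, Int.ofNat 0],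
  [Int.ofNat 0, Int.negSucc 1, Int.ofNat 0, Int.ofNat 0, Int.ofNat 2, Int.ofNat 0, Int.ofNat 0, Int.negSucc 1, Int.ofNat 0, Int.ofNat 2, Int.ofNat 2, Int.ofNat 0, Int.ofNat 0, Int.ofNat 0, Int.ofNat 0, Int.ofNat 2, Int.ofNat 0, Int.negSucc 1, Int.negSucc 1, Int.ofNat 0, Int.ofNat 0, Int.ofNat 0, Int.ofNat 0, Int.ofNat 0],
  [Int.negSucc 0, Int.ofNat 1, Int.negSucc 0, Int.ofNat 1, Int.ofNat 1, Int.ofNat 1, Int.ofNat 1, Int.negSucc 0, Int.ofNat 1, Int.negSucc 0, Int.negSucc 0, Int.ofNat 1, Int.ofNat 1, Int.negSucc 0, Int.ofNat 1, Int.negSucc 0, Int.negSucc 0, Int.negSucc 0, Int.negSucc 0, Int.ofNat 1, Int.negSucc 2, Int.ofNat 1, Int.negSucc 0, Int.negSucc 0],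
  [Int.negSucc 0, Int.ofNat 1, Int.ofNat 1, Int.ofNat 1, Int.negSucc 0, Int.negSucc 0, Int.negSucc 0, Int.negSucc 0, Int.ofNat 1, Int.negSucc 0, Int.negSucc 2, Int.negSucc 0, Int.negSucc 0, Int.negSucc 0, Int.negSucc 0, Int.negSucc 0, Int.ofNat 1, Int.ofNat 1, Int.ofNat 1, Int.ofNat 1, Int.ofNat 1, Int.ofNat 1, Int.ofNat 1, Int.negSucc 0],
  [Int.ofNat 1, Int.negSucc 0, Int.negSucc 0, Int.ofNat 1, Int.negSucc 0, Int.negSucc 0, Int.negSucc 0, Int.negSucc 0, Int.ofNat 1, Int.ofNat 1, Int.negSucc 0, Int.negSucc 0, Int.negSucc 0, Int.negSucc 0, Int.negSucc 0, Int.ofNat 1, Int.ofNat 1, Int.ofNat 1, Int.ofNat 1, Int.ofNat 1, Int.ofNat 3, Int.ofNat 1, Int.ofNat 1, Int.ofNat 1],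
  [Int.ofNat 1, Int.negSucc 0, Int.ofNat 1, Int.ofNat 1, Int.negSucc 0, Int.ofNat 1, Int.ofNat 1, Int.negSucc 0, Int.ofNat 1, Int.negSucc 0, Int.ofNat 1, Int.negSucc 0, Int.negSucc 0, Int.negSucc 0, Int.negSucc 0, Int.negSucc 0, Int.ofNat 1, Int.ofNat 1, Int.negSucc 0, Int.ofNat 1, Int.ofNat 3, Int.ofNat 1, Int.negSucc 0, Int.ofNat 1],
  [Int.ofNat 1, Int.negSucc 0, Int.ofNat 1, Int.negSucc 0, Int.negSucc 0, Int.negSucc 0, Int.ofNat 3, Int.negSucc 0, Int.ofNat 1, Int.negSucc 0, Int.negSucc 0, Int.ofNat 1, Int.negSucc 0, Int.ofNat 1, Int.ofNat 1, Int.ofNat 1, Int.ofNat 1, Int.negSucc 0, Int.ofNat 1, Int.ofNat 1, Int.negSucc 0, Int.negSucc 0, Int.ofNat 1, Int.ofNat 1],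
  [Int.ofNat 1, Int.negSucc 0, Int.negSucc 0, Int.negSucc 0, Int.negSucc 0, Int.ofNat 1, Int.negSucc 2, Int.negSucc 0, Int.ofNat 1, Int.ofNat 1, Int.ofNat 1, Int.ofNat 1, Int.negSucc 0, Int.ofNat 1, Int.ofNat 1, Int.negSucc 0, Int.ofNat 1, Int.negSucc 0, Int.negSucc 0, Int.ofNat 1, Int.negSucc 0, Int.negSucc 0, Int.negSucc 0, Int.ofNat 1],
  [Int.negSucc 0, Int.ofNat 1, Int.ofNat 1, Int.negSucc 0, Int.negSucc 0, Int.ofNat 1, Int.negSucc 0, Int.ofNat 1, Int.ofNat 1, Int.ofNat 1, Int.ofNat 1, Int.ofNat 1, Int.negSucc 0, Int.ofNat 1, Int.ofNat 1, Int.negSucc 0, Int.ofNat 1, Int.negSucc 0, Int.negSucc 0, Int.ofNat 3, Int.negSucc 0, Int.ofNat 1, Int.negSucc 0, Int.negSucc 0],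
  [Int.negSucc 0, Int.negSucc 0, Int.negSucc 0, Int.negSucc 0, Int.ofNat 1, Int.ofNat 1, Int.ofNat 1, Int.ofNat 1, Int.ofNat 1, Int.negSucc 0, Int.ofNat 1, Int.ofNat 3, Int.ofNat 1, Int.ofNat 1, Int.negSucc 0, Int.negSucc 0, Int.ofNat 1, Int.ofNat 1, Int.negSucc 0, Int.negSucc 0, Int.ofNat 1, Int.negSucc 0, Int.ofNat 1, Int.negSucc 0],
  [Int.negSucc 0, Int.negSucc 0, Int.negSucc 0, Int.negSucc 0, Int.negSucc 0, Int.ofNat 1, Int.ofNat 1, Int.ofNat 1, Int.negSucc 0, Int.negSucc 0, Int.ofNat 1, Int.ofNat 1, Int.negSucc 0, Int.negSucc 0, Int.negSucc 0, Int.negSucc 0, Int.negSucc 0, Int.ofNat 1, Int.negSucc 2, Int.negSucc 0, Int.ofNat 1, Int.negSucc 0, Int.negSucc 0, Int.negSucc 0],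
  [Int.ofNat 1, Int.negSucc 0, Int.negSucc 0, Int.negSucc 0, Int.negSucc 0, Int.negSucc 0, Int.negSucc 0, Int.negSucc 0, Int.ofNat 1, Int.ofNat 1, Int.ofNat 1, Int.negSucc 0, Int.negSucc 0, Int.ofNat 1, Int.ofNat 1, Int.negSucc 0, Int.negSucc 0, Int.negSucc 0, Int.negSucc 0, Int.negSucc 0, Int.ofNat 1, Int.negSucc 2, Int.negSucc 0, Int.negSucc 0],
  [Int.negSucc 1, Int.ofNat 0, Int.ofNat 0, Int.ofNat 0, Int.ofNat 0, Int.ofNat 0, Int.ofNat 2, Int.ofNat 2, Int.ofNat 2, Int.ofNat 0, Int.ofNat 0, Int.ofNat 0, Int.ofNat 0, Int.ofNat 2, Int.ofNat 2, Int.negSucc 1, Int.ofNat 0, Int.ofNat 0, Int.ofNat 0, Int.ofNat 2, Int.ofNat 0, Int.ofNat 0, Int.ofNat 0, Int.ofNat 0],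
  [Int.ofNat 0, Int.ofNat 0, Int.ofNat 0, Int.ofNat 0, Int.ofNat 0, Int.ofNat 2, Int.ofNat 2, Int.ofNat 2, Int.ofNat 0, Int.ofNat 0, Int.ofNat 0, Int.ofNat 0, Int.ofNat 2, Int.ofNat 2, Int.negSucc 1, Int.ofNat 0, Int.ofNat 0, Int.ofNat 0, Int.ofNat 2, Int.ofNat 0, Int.ofNat 0, Int.ofNat 0, Int.negSucc 1, Int.ofNat 0],
  [Int.ofNat 0, Int.ofNat 0, Int.ofNat 0, Int.ofNat 0, Int.ofNat 0, Int.ofNat 2, Int.ofNat 2, Int.negSucc 1, Int.ofNat 0, Int.ofNat 0, Int.ofNat 0, Int.ofNat 0, Int.ofNat 2, Int.ofNat 2, Int.negSucc 1, Int.ofNat 0, Int.ofNat 0, Int.ofNat 0, Int.negSucc 1, Int.ofNat 0, Int.ofNat 0, Int.ofNat 0, Int.negSucc 1, Int.ofNat 0],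
  [Int.ofNat 0, Int.ofNat 0, Int.ofNat 0, Int.ofNat 0, Int.ofNat 0, Int.ofNat 2, Int.negSucc 1, Int.negSucc 1, Int.ofNat 0, Int.ofNat 0, Int.ofNat 0, Int.ofNat 0, Int.negSucc 1, Int.negSucc 1, Int.negSucc 1, Int.ofNat 0, Int.ofNat 0, Int.ofNat 0, Int.ofNat 2, Int.ofNat 0, Int.ofNat 0, Int.ofNat 0, Int.negSucc 1, Int.ofNat 0],
  [Int.ofNat 0, Int.negSucc 1, Int.ofNat 0, Int.ofNat 0, Int.ofNat 0, Int.ofNat 0, Int.ofNat 0, Int.negSucc 1, Int.ofNat 0, Int.ofNat 2, Int.ofNat 0, Int.ofNat 0, Int.ofNat 0, Int.negSucc 1, Int.ofNat 2, Int.ofNat 0, Int.ofNat 0, Int.ofNat 0, Int.negSucc 1, Int.negSucc 1, Int.ofNat 0, Int.negSucc 1, Int.ofNat 0, Int.ofNat 0],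
  [Int.ofNat 0, Int.negSucc 1, Int.ofNat 0, Int.ofNat 0, Int.ofNat 0, Int.ofNat 0, Int.ofNat 0, Int.ofNat 2, Int.ofNat 0, Int.negSucc 1, Int.ofNat 0, Int.ofNat 0, Int.ofNat 0, Int.negSucc 1, Int.ofNat 2, Int.ofNat 0, Int.ofNat 0, Int.ofNat 0, Int.ofNat 2, Int.negSucc 1, Int.ofNat 0, Int.ofNat 2, Int.ofNat 0, Int.ofNat 0],
  [Int.ofNat 0, Int.ofNat 0, Int.negSucc 1, Int.ofNat 0, Int.ofNat 0, Int.ofNat 0, Int.ofNat 0, Int.ofNat 0, Int.ofNat 2, Int.ofNat 0, Int.negSucc 1, Int.ofNat 0, Int.ofNat 0, Int.ofNat 0, Int.negSucc 1, Int.ofNat 2, Int.ofNat 0, Int.ofNat 0, Int.ofNat 0, Int.ofNat 2, Int.negSucc 1, Int.ofNat 0, Int.ofNat 2, Int.ofNat 0],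
  [Int.negSucc 0, Int.negSucc 0, Int.ofNat 1, Int.ofNat 1, Int.negSucc 0, Int.ofNat 1, Int.negSucc 0, Int.negSucc 0, Int.ofNat 1, Int.ofNat 1, Int.negSucc 0, Int.negSucc 0, Int.negSucc 0, Int.negSucc 0, Int.negSucc 0, Int.ofNat 3, Int.negSucc 0, Int.ofNat 1, Int.negSucc 0, Int.ofNat 1, Int.negSucc 0, Int.negSucc 0, Int.ofNat 1, Int.negSucc 0],
  [Int.ofNat 1, Int.negSucc 0, Int.ofNat 1, Int.negSucc 0, Int.negSucc 0, Int.ofNat 1, Int.ofNat 1, Int.negSucc 0, Int.negSucc 0, Int.negSucc 0, Int.negSucc 0, Int.negSucc 0, Int.ofNat 3, Int.negSucc 0, Int.ofNat 1, Int.negSucc 0, Int.ofNat 1, Int.negSucc 0, Int.negSucc 0, Int.ofNat 1, Int.negSucc 0, Int.negSucc 0, Int.ofNat 1, Int.negSucc 0],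
  [Int.negSucc 0, Int.ofNat 1, Int.negSucc 0, Int.negSucc 0, Int.negSucc 0, Int.ofNat 1, Int.ofNat 1, Int.negSucc 0, Int.negSucc 0, Int.ofNat 1, Int.ofNat 1, Int.negSucc 0, Int.ofNat 3, Int.negSucc 0, Int.ofNat 1, Int.ofNat 1, Int.ofNat 1, Int.negSucc 0, Int.negSucc 0, Int.ofNat 1, Int.ofNat 1, Int.negSucc 0, Int.ofNat 1, Int.ofNat 1],
  [Int.negSucc 0, Int.ofNat 1, Int.negSucc 0, Int.negSucc 0, Int.negSucc 0, Int.negSucc 0, Int.negSucc 0, Int.ofNat 1, Int.ofNat 3, Int.negSucc 0, Int.ofNat 1, Int.negSucc 0, Int.ofNat 1, Int.ofNat 1, Int.ofNat 1, Int.ofNat 1, Int.negSucc 0, Int.ofNat 1, Int.ofNat 1, Int.negSucc 0, Int.negSucc 0, Int.ofNat 1, Int.ofNat 1, Int.ofNat 1],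
  [Int.ofNat 1, Int.negSucc 0, Int.ofNat 1, Int.negSucc 0, Int.negSucc 0, Int.negSucc 0, Int.negSucc 0, Int.ofNat 1, Int.ofNat 1, Int.negSucc 0, Int.ofNat 1, Int.negSucc 2, Int.negSucc 0, Int.ofNat 1, Int.ofNat 1, Int.ofNat 1, Int.negSucc 0, Int.ofNat 1, Int.negSucc 0, Int.negSucc 0, Int.negSucc 0, Int.ofNat 1, Int.ofNat 1, Int.negSucc 0],
  [Int.ofNat 1, Int.negSucc 0, Int.negSucc 0, Int.negSucc 0, Int.negSucc 0, Int.ofNat 1, Int.ofNat 1, Int.ofNat 1, Int.ofNat 1, Int.ofNat 1, Int.negSucc 0, Int.negSucc 2, Int.negSucc 0, Int.ofNat 1, Int.ofNat 1, Int.negSucc 0, Int.negSucc 0, Int.ofNat 1, Int.ofNat 1, Int.negSucc 0, Int.negSucc 0, Int.ofNat 1, Int.negSucc 0, Int.negSucc 0],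
  [Int.negSucc 0, Int.negSucc 2, Int.negSucc 0, Int.ofNat 1, Int.negSucc 0, Int.negSucc 0, Int.negSucc 0, Int.ofNat 1, Int.negSucc 0, Int.negSucc 0, Int.ofNat 1, Int.ofNat 1, Int.negSucc 0, Int.ofNat 1, Int.ofNat 1, Int.negSucc 0, Int.ofNat 1, Int.ofNat 1, Int.negSucc 0, Int.ofNat 1, Int.negSucc 0, Int.ofNat 1, Int.ofNat 1, Int.negSucc 0],
  [Int.negSucc 0, Int.negSucc 2, Int.ofNat 1, Int.ofNat 1, Int.negSucc 0, Int.ofNat 1, Int.ofNat 1, Int.ofNat 1, Int.negSucc 0, Int.ofNat 1, Int.negSucc 0, Int.ofNat 1, Int.negSucc 0, Int.ofNat 1, Int.ofNat 1, Int.ofNat 1, Int.ofNat 1, Int.ofNat 1, Int.ofNat 1, Int.ofNat 1, Int.negSucc 0, Int.ofNat 1, Int.negSucc 0, Int.negSucc 0],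
  [Int.negSucc 0, Int.ofNat 1, Int.negSucc 2, Int.negSucc 0, Int.negSucc 0, Int.negSucc 0, Int.negSucc 0, Int.negSucc 0, Int.negSucc 0, Int.ofNat 1, Int.negSucc 0, Int.ofNat 1, Int.negSucc 0, Int.ofNat 1, Int.negSucc 0, Int.ofNat 1, Int.ofNat 1, Int.negSucc 0, Int.ofNat 1, Int.negSucc 0, Int.negSucc 0, Int.negSucc 0, Int.negSucc 0, Int.negSucc 0],
  [Int.negSucc 0, Int.ofNat 1, Int.negSucc 0, Int.negSucc 0, Int.negSucc 2, Int.negSucc 0, Int.ofNat 1, Int.negSucc 0, Int.ofNat 1, Int.negSucc 0, Int.negSucc 0, Int.negSucc 0, Int.negSucc 0, Int.ofNat 1, Int.negSucc 0, Int.ofNat 1, Int.ofNat 1, Int.ofNat 1, Int.negSucc 0, Int.negSucc 0, Int.negSucc 0, Int.negSucc 0, Int.negSucc 0, Int.negSucc 0],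
  [Int.ofNat 0, Int.negSucc 1, Int.ofNat 0, Int.ofNat 0, Int.negSucc 1, Int.ofNat 0, Int.ofNat 2, Int.ofNat 0, Int.ofNat 2, Int.ofNat 0, Int.ofNat 0, Int.ofNat 0, Int.ofNat 0, Int.ofNat 2, Int.ofNat 0, Int.ofNat 2, Int.ofNat 2, Int.ofNat 2, Int.ofNat 0, Int.ofNat 0, Int.ofNat 0, Int.ofNat 0, Int.ofNat 0, Int.ofNat 0],
  [Int.ofNat 0, Int.ofNat 0, Int.ofNat 0, Int.ofNat 0, Int.negSucc 1, Int.ofNat 0, Int.ofNat 0, Int.negSucc 1, Int.ofNat 0, Int.ofNat 2, Int.ofNat 0, Int.ofNat 2, Int.ofNat 0, Int.ofNat 0, Int.ofNat 0, Int.ofNat 0, Int.ofNat 2, Int.ofNat 0, Int.ofNat 2, Int.ofNat 2, Int.ofNat 2, Int.ofNat 0, Int.ofNat 0, Int.ofNat 0],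
  [Int.ofNat 0, Int.ofNat 0, Int.ofNat 0, Int.ofNat 0, Int.negSucc 1, Int.ofNat 0, Int.ofNat 0, Int.negSucc 1, Int.negSucc 1, Int.ofNat 0, Int.negSucc 1, Int.ofNat 0, Int.negSucc 1, Int.ofNat 0, Int.ofNat 0, Int.negSucc 1, Int.ofNat 2, Int.ofNat 0, Int.ofNat 0, Int.ofNat 2, Int.ofNat 0, Int.ofNat 0, Int.ofNat 0, Int.ofNat 0],
  [Int.ofNat 0, Int.ofNat 0, Int.ofNat 0, Int.negSucc 1, Int.ofNat 0, Int.ofNat 0, Int.negSucc 1, Int.negSucc 1, Int.ofNat 0, Int.negSucc 1, Int.ofNat 0, Int.negSucc 1, Int.ofNat 0, Int.ofNat 0, Int.negSucc 1, Int.ofNat 2, Int.ofNat 0, Int.ofNat 0, Int.ofNat 2, Int.ofNat 0, Int.ofNat 0, Int.ofNat 0, Int.ofNat 0, Int.ofNat 0],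
  [Int.ofNat 0, Int.ofNat 0, Int.ofNat 0, Int.negSucc 1, Int.ofNat 0, Int.ofNat 0, Int.negSucc 1, Int.ofNat 2, Int.ofNat 0, Int.ofNat 2, Int.ofNat 0, Int.ofNat 2, Int.ofNat 0, Int.ofNat 0, Int.negSucc 1, Int.ofNat 2, Int.ofNat 0, Int.ofNat 0, Int.negSucc 1, Int.ofNat 0, Int.ofNat 0, Int.ofNat 0, Int.ofNat 0, Int.ofNat 0],
  [Int.ofNat 0, Int.ofNat 0, Int.ofNat 0, Int.ofNat 2, Int.ofNat 0, Int.ofNat 0, Int.ofNat 2, Int.ofNat 2, Int.ofNat 0, Int.negSucc 1, Int.ofNat 0, Int.ofNat 2, Int.ofNat 0, Int.ofNat 0, Int.negSucc 1, Int.ofNat 2, Int.ofNat 0, Int.ofNat 0, Int.ofNat 2, Int.ofNat 0, Int.ofNat 0, Int.ofNat 0, Int.ofNat 0, Int.ofNat 0],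
  [Int.ofNat 0, Int.ofNat 0, Int.ofNat 2, Int.ofNat 2, Int.ofNat 0, Int.negSucc 1, Int.ofNat 0, Int.ofNat 0, Int.ofNat 0, Int.ofNat 0, Int.ofNat 0, Int.ofNat 0, Int.ofNat 0, Int.ofNat 2, Int.ofNat 2, Int.ofNat 2, Int.ofNat 0, Int.ofNat 0, Int.negSucc 1, Int.ofNat 2, Int.ofNat 0, Int.ofNat 0, Int.ofNat 0, Int.ofNat 0],
  [Int.ofNat 0, Int.ofNat 0, Int.negSucc 1, Int.ofNat 2, Int.ofNat 0, Int.negSucc 1, Int.ofNat 0, Int.ofNat 0, Int.ofNat 0, Int.ofNat 0, Int.ofNat 0, Int.ofNat 0, Int.ofNat 0, Int.ofNat 2, Int.ofNat 2, Int.ofNat 2, Int.ofNat 0, Int.ofNat 0, Int.ofNat 2, Int.ofNat 2, Int.ofNat 0, Int.ofNat 0, Int.ofNat 0, Int.ofNat 0],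
  [Int.ofNat 0, Int.ofNat 0, Int.ofNat 0, Int.negSucc 1, Int.ofNat 2, Int.ofNat 0, Int.negSucc 1, Int.ofNat 0, Int.ofNat 0, Int.ofNat 0, Int.ofNat 0, Int.ofNat 0, Int.ofNat 0, Int.ofNat 0, Int.ofNat 2, Int.ofNat 2, Int.ofNat 2, Int.ofNat 0, Int.ofNat 0, Int.ofNat 2, Int.ofNat 2, Int.ofNat 0, Int.ofNat 0, Int.ofNat 0],
  [Int.ofNat 0, Int.ofNat 0, Int.ofNat 0, Int.negSucc 1, Int.ofNat 0, Int.ofNat 0, Int.negSucc 1, Int.ofNat 0, Int.ofNat 0, Int.negSucc 1, Int.negSucc 1, Int.ofNat 0, Int.ofNat 0, Int.negSucc 1, Int.ofNat 2, Int.ofNat 0, Int.ofNat 0, Int.ofNat 0, Int.ofNat 0, Int.ofNat 2, Int.ofNat 0, Int.ofNat 0, Int.negSucc 1, Int.ofNat 0],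
  [Int.negSucc 1, Int.ofNat 0, Int.ofNat 0, Int.negSucc 1, Int.ofNat 0, Int.ofNat 0, Int.negSucc 1, Int.negSucc 1, Int.ofNat 0, Int.ofNat 0, Int.negSucc 1, Int.ofNat 2, Int.ofNat 0, Int.ofNat 0, Int.ofNat 0, Int.ofNat 0, Int.ofNat 2, Int.ofNat 0, Int.ofNat 0, Int.negSucc 1, Int.ofNat 0, Int.ofNat 0, Int.ofNat 0, Int.ofNat 0],
  [Int.ofNat 1, Int.negSucc 0, Int.negSucc 0, Int.negSucc 0, Int.negSucc 0, Int.ofNat 1, Int.ofNat 1, Int.ofNat 1, Int.negSucc 0, Int.ofNat 1, Int.negSucc 0, Int.ofNat 1, Int.negSucc 0, Int.negSucc 0, Int.ofNat 1, Int.ofNat 1, Int.ofNat 1, Int.ofNat 1, Int.negSucc 0, Int.ofNat 1, Int.ofNat 1, Int.ofNat 3, Int.negSucc 0, Int.negSucc 0],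
  [Int.ofNat 1, Int.ofNat 1, Int.negSucc 0, Int.negSucc 0, Int.negSucc 0, Int.ofNat 1, Int.negSucc 0, Int.negSucc 0, Int.negSucc 0, Int.negSucc 0, Int.ofNat 1, Int.ofNat 1, Int.ofNat 1, Int.ofNat 1, Int.negSucc 0, Int.ofNat 1, Int.negSucc 0, Int.ofNat 1, Int.negSucc 0, Int.ofNat 1, Int.ofNat 3, Int.ofNat 1, Int.ofNat 1, Int.negSucc 0],
  [Int.negSucc 0, Int.negSucc 0, Int.ofNat 1, Int.negSucc 0, Int.negSucc 0, Int.ofNat 1, Int.negSucc 0, Int.negSucc 0, Int.negSucc 0, Int.negSucc 2, Int.negSucc 0, Int.ofNat 1, Int.ofNat 1, Int.ofNat 1, Int.negSucc 0, Int.negSucc 0, Int.negSucc 0, Int.ofNat 1, Int.negSucc 0, Int.ofNat 1, Int.ofNat 1, Int.ofNat 1, Int.ofNat 1, Int.ofNat 1],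
  [Int.negSucc 0, Int.negSucc 0, Int.negSucc 0, Int.negSucc 0, Int.negSucc 0, Int.negSucc 0, Int.ofNat 1, Int.negSucc 0, Int.negSucc 0, Int.ofNat 3, Int.ofNat 1, Int.ofNat 1, Int.ofNat 1, Int.ofNat 1, Int.negSucc 0, Int.ofNat 1, Int.negSucc 0, Int.ofNat 1, Int.ofNat 1, Int.ofNat 1, Int.ofNat 1, Int.ofNat 1, Int.negSucc 0, Int.ofNat 1],
  [Int.negSucc 0, Int.ofNat 1, Int.ofNat 1, Int.negSucc 0, Int.ofNat 1, Int.ofNat 1, Int.ofNat 1, Int.ofNat 1, Int.negSucc 0, Int.negSucc 0, Int.negSucc 0, Int.ofNat 1, Int.negSucc 0, Int.ofNat 1, Int.negSucc 0, Int.ofNat 1, Int.ofNat 1, Int.ofNat 3, Int.negSucc 0, Int.negSucc 0, Int.negSucc 0, Int.ofNat 1, Int.negSucc 0, Int.ofNat 1],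
  [Int.negSucc 0, Int.ofNat 1, Int.negSucc 0, Int.negSucc 0, Int.ofNat 1, Int.negSucc 0, Int.negSucc 0, Int.ofNat 1, Int.negSucc 0, Int.ofNat 1, Int.ofNat 1, Int.ofNat 1, Int.negSucc 0, Int.ofNat 1, Int.negSucc 0, Int.negSucc 0, Int.ofNat 1, Int.ofNat 3, Int.ofNat 1, Int.negSucc 0, Int.negSucc 0, Int.ofNat 1, Int.ofNat 1, Int.ofNat 1],
  [Int.ofNat 1, Int.negSucc 0, Int.ofNat 1, Int.negSucc 0, Int.negSucc 0, Int.negSucc 0, Int.negSucc 0, Int.ofNat 1, Int.negSucc 0, Int.ofNat 1, Int.ofNat 1, Int.ofNat 1, Int.negSucc 0, Int.negSucc 0, Int.negSucc 0, Int.negSucc 0, Int.negSucc 0, Int.ofNat 3, Int.ofNat 1, Int.negSucc 0, Int.negSucc 0, Int.ofNat 1, Int.negSucc 0, Int.negSucc 0],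
  [Int.ofNat 1, Int.ofNat 1, Int.negSucc 0, Int.negSucc 0, Int.ofNat 1, Int.ofNat 1, Int.negSucc 0, Int.negSucc 0, Int.negSucc 0, Int.negSucc 0, Int.ofNat 1, Int.negSucc 0, Int.negSucc 0, Int.ofNat 1, Int.ofNat 3, Int.negSucc 0, Int.negSucc 0, Int.ofNat 1, Int.negSucc 0, Int.negSucc 0, Int.ofNat 1, Int.negSucc 0, Int.negSucc 0, Int.negSucc 0],
  [Int.negSucc 0, Int.negSucc 0, Int.ofNat 1, Int.negSucc 2, Int.ofNat 1, Int.negSucc 0, Int.ofNat 1, Int.ofNat 1, Int.ofNat 1, Int.negSucc 0, Int.ofNat 1, Int.ofNat 1, Int.ofNat 1, Int.ofNat 1, Int.ofNat 1, Int.negSucc 0, Int.negSucc 0, Int.negSucc 0, Int.ofNat 1, Int.ofNat 1, Int.ofNat 1, Int.ofNat 1, Int.negSucc 0, Int.ofNat 1],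
  [Int.ofNat 1, Int.ofNat 1, Int.negSucc 0, Int.negSucc 0, Int.negSucc 0, Int.ofNat 1, Int.negSucc 2, Int.ofNat 1, Int.negSucc 0, Int.ofNat 1, Int.ofNat 1, Int.ofNat 1, Int.negSucc 0, Int.ofNat 1, Int.ofNat 1, Int.ofNat 1, Int.ofNat 1, Int.ofNat 1, Int.negSucc 0, Int.negSucc 0, Int.negSucc 0, Int.ofNat 1, Int.ofNat 1, Int.ofNat 1],
  [Int.ofNat 0, Int.ofNat 0, Int.ofNat 2, Int.negSucc 1, Int.negSucc 1, Int.ofNat 0, Int.negSucc 1, Int.ofNat 2, Int.ofNat 0, Int.ofNat 0, Int.ofNat 0, Int.ofNat 2, Int.ofNat 0, Int.ofNat 0, Int.ofNat 0, Int.ofNat 0, Int.ofNat 0, Int.ofNat 0, Int.ofNat 0, Int.ofNat 0, Int.negSucc 1, Int.ofNat 2, Int.ofNat 0, Int.ofNat 0],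
  [Int.ofNat 0, Int.ofNat 2, Int.negSucc 1, Int.negSucc 1, Int.ofNat 0, Int.negSucc 1, Int.ofNat 2, Int.ofNat 0, Int.ofNat 0, Int.ofNat 0, Int.ofNat 2, Int.ofNat 0, Int.ofNat 0, Int.ofNat 0, Int.ofNat 0, Int.ofNat 0, Int.ofNat 0, Int.ofNat 0, Int.ofNat 0, Int.negSucc 1, Int.ofNat 2, Int.ofNat 0, Int.ofNat 0, Int.ofNat 0],
  [Int.ofNat 0, Int.ofNat 2, Int.ofNat 2, Int.negSucc 1, Int.ofNat 0, Int.negSucc 1, Int.ofNat 2, Int.ofNat 0, Int.ofNat 0, Int.ofNat 0, Int.negSucc 1, Int.ofNat 0, Int.ofNat 0, Int.ofNat 0, Int.ofNat 0, Int.ofNat 0, Int.ofNat 0, Int.ofNat 0, Int.ofNat 0, Int.negSucc 1, Int.ofNat 2, Int.ofNat 0, Int.ofNat 0, Int.ofNat 0],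
  [Int.ofNat 0, Int.negSucc 1, Int.negSucc 1, Int.ofNat 2, Int.ofNat 0, Int.negSucc 1, Int.negSucc 1, Int.ofNat 0, Int.ofNat 0, Int.ofNat 0, Int.negSucc 1, Int.ofNat 0, Int.ofNat 0, Int.ofNat 0, Int.ofNat 0, Int.ofNat 0, Int.ofNat 0, Int.ofNat 0, Int.ofNat 0, Int.negSucc 1, Int.ofNat 2, Int.ofNat 0, Int.ofNat 0, Int.ofNat 0],
  [Int.ofNat 0, Int.ofNat 0, Int.ofNat 0, Int.ofNat 0, Int.ofNat 0, Int.ofNat 0, Int.negSucc 1, Int.ofNat 0, Int.ofNat 2, Int.negSucc 1, Int.ofNat 0, Int.negSucc 1, Int.ofNat 0, Int.ofNat 0, Int.ofNat 0, Int.ofNat 2, Int.negSucc 1, Int.ofNat 0, Int.ofNat 0, Int.negSucc 1, Int.ofNat 0, Int.ofNat 0, Int.negSucc 1, Int.ofNat 0],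
  [Int.ofNat 0, Int.ofNat 0, Int.ofNat 0, Int.ofNat 0, Int.ofNat 0, Int.ofNat 0, Int.negSucc 1, Int.ofNat 0, Int.ofNat 2, Int.ofNat 2, Int.ofNat 0, Int.ofNat 2, Int.ofNat 0, Int.ofNat 0, Int.ofNat 0, Int.ofNat 2, Int.negSucc 1, Int.ofNat 0, Int.ofNat 0, Int.negSucc 1, Int.ofNat 0, Int.ofNat 0, Int.negSucc 1, Int.ofNat 0],
  [Int.negSucc 1, Int.ofNat 0, Int.ofNat 0, Int.ofNat 0, Int.ofNat 0, Int.ofNat 0, Int.ofNat 0, Int.negSucc 1, Int.ofNat 0, Int.ofNat 2, Int.ofNat 2, Int.ofNat 0, Int.ofNat 2, Int.ofNat 0, Int.ofNat 0, Int.ofNat 0, Int.ofNat 2, Int.negSucc 1, Int.ofNat 0, Int.ofNat 0, Int.negSucc 1, Int.ofNat 0, Int.ofNat 0, Int.ofNat 0],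
  [Int.ofNat 1, Int.negSucc 0, Int.negSucc 0, Int.ofNat 1, Int.negSucc 0, Int.ofNat 1, Int.ofNat 1, Int.negSucc 0, Int.negSucc 0, Int.ofNat 1, Int.ofNat 1, Int.negSucc 0, Int.ofNat 1, Int.negSucc 0, Int.ofNat 1, Int.negSucc 0, Int.ofNat 1, Int.negSucc 0, Int.negSucc 0, Int.ofNat 1, Int.negSucc 2, Int.ofNat 1, Int.negSucc 0, Int.negSucc 0],
  [Int.ofNat 1, Int.negSucc 0, Int.ofNat 1, Int.ofNat 1, Int.negSucc 0, Int.negSucc 0, Int.ofNat 1, Int.ofNat 1, Int.negSucc 0, Int.ofNat 1, Int.negSucc 0, Int.ofNat 1, Int.negSucc 0, Int.ofNat 1, Int.negSucc 0, Int.negSucc 0, Int.ofNat 1, Int.negSucc 2, Int.ofNat 1, Int.negSucc 0, Int.ofNat 1, Int.negSucc 0, Int.negSucc 0, Int.negSucc 0],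
  [Int.negSucc 0, Int.ofNat 1, Int.negSucc 0, Int.ofNat 3, Int.negSucc 0, Int.ofNat 1, Int.ofNat 1, Int.ofNat 1, Int.negSucc 0, Int.ofNat 1, Int.negSucc 0, Int.ofNat 1, Int.negSucc 0, Int.ofNat 1, Int.ofNat 1, Int.negSucc 0, Int.ofNat 1, Int.negSucc 0, Int.ofNat 1, Int.negSucc 0, Int.ofNat 1, Int.negSucc 0, Int.negSucc 0, Int.ofNat 1],
  [Int.negSucc 0, Int.ofNat 1, Int.negSucc 0, Int.ofNat 3, Int.ofNat 1, Int.ofNat 1, Int.negSucc 0, Int.negSucc 0, Int.negSucc 0, Int.ofNat 1, Int.ofNat 1, Int.negSucc 0, Int.ofNat 1, Int.ofNat 1, Int.negSucc 0, Int.negSucc 0, Int.negSucc 0, Int.ofNat 1, Int.ofNat 1, Int.ofNat 1, Int.negSucc 0, Int.ofNat 1, Int.negSucc 0, Int.ofNat 1],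
  [Int.ofNat 1, Int.negSucc 0, Int.ofNat 1, Int.ofNat 1, Int.ofNat 1, Int.negSucc 0, Int.negSucc 0, Int.negSucc 0, Int.negSucc 0, Int.ofNat 1, Int.ofNat 1, Int.negSucc 0, Int.ofNat 1, Int.ofNat 1, Int.negSucc 2, Int.negSucc 0, Int.negSucc 0, Int.negSucc 0, Int.ofNat 1, Int.ofNat 1, Int.negSucc 0, Int.ofNat 1, Int.negSucc 0, Int.negSucc 0],
  [Int.ofNat 1, Int.negSucc 0, Int.negSucc 0, Int.ofNat 1, Int.ofNat 1, Int.ofNat 1, Int.ofNat 1, Int.negSucc 0, Int.negSucc 0, Int.negSucc 0, Int.negSucc 0, Int.negSucc 0, Int.ofNat 1, Int.ofNat 1, Int.negSucc 2, Int.ofNat 1, Int.negSucc 0, Int.negSucc 0, Int.negSucc 0, Int.ofNat 1, Int.negSucc 0, Int.ofNat 1, Int.ofNat 1, Int.negSucc 0],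
  [Int.negSucc 0, Int.negSucc 0, Int.negSucc 0, Int.negSucc 0, Int.ofNat 1, Int.ofNat 1, Int.negSucc 0, Int.negSucc 0, Int.ofNat 1, Int.ofNat 1, Int.negSucc 2, Int.ofNat 1, Int.negSucc 0, Int.negSucc 0, Int.ofNat 1, Int.ofNat 1, Int.ofNat 1, Int.negSucc 0, Int.negSucc 0, Int.ofNat 1, Int.ofNat 1, Int.ofNat 1, Int.negSucc 0, Int.negSucc 0],
  [Int.negSucc 0, Int.negSucc 0, Int.ofNat 1, Int.negSucc 0, Int.ofNat 1, Int.negSucc 0, Int.ofNat 1, Int.negSucc 0, Int.ofNat 1, Int.negSucc 0, Int.ofNat 3, Int.ofNat 1, Int.negSucc 0, Int.negSucc 0, Int.ofNat 1, Int.negSucc 0, Int.ofNat 1, Int.negSucc 0, Int.ofNat 1, Int.ofNat 1, Int.ofNat 1, Int.ofNat 1, Int.ofNat 1, Int.negSucc 0],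
  [Int.ofNat 0, Int.ofNat 0, Int.negSucc 1, Int.ofNat 0, Int.ofNat 0, Int.ofNat 0, Int.ofNat 0, Int.negSucc 1, Int.ofNat 0, Int.negSucc 1, Int.ofNat 2, Int.ofNat 0, Int.negSucc 1, Int.negSucc 1, Int.ofNat 2, Int.negSucc 1, Int.ofNat 0, Int.ofNat 0, Int.ofNat 0, Int.ofNat 0, Int.ofNat 0, Int.ofNat 0, Int.ofNat 0, Int.ofNat 0],
  [Int.ofNat 0, Int.ofNat 0, Int.ofNat 0, Int.ofNat 0, Int.negSucc 1, Int.ofNat 0, Int.ofNat 0, Int.ofNat 0, Int.ofNat 0, Int.negSucc 1, Int.negSucc 1, Int.ofNat 0, Int.ofNat 0, Int.negSucc 1, Int.ofNat 0, Int.negSucc 1, Int.negSucc 1, Int.ofNat 0, Int.ofNat 0, Int.ofNat 0, Int.ofNat 2, Int.ofNat 0, Int.ofNat 2, Int.ofNat 0],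
  [Int.ofNat 0, Int.ofNat 0, Int.ofNat 0, Int.ofNat 0, Int.ofNat 0, Int.ofNat 0, Int.ofNat 0, Int.ofNat 0, Int.ofNat 0, Int.ofNat 0, Int.ofNat 0, Int.ofNat 0, Int.ofNat 0, Int.ofNat 0, Int.ofNat 0, Int.ofNat 0, Int.ofNat 0, Int.ofNat 0, Int.ofNat 0, Int.ofNat 0, Int.ofNat 4, Int.ofNat 0, Int.ofNat 4, Int.ofNat 0],
  [Int.ofNat 4, Int.ofNat 0, Int.ofNat 4, Int.ofNat 0, Int.ofNat 0, Int.ofNat 0, Int.ofNat 0, Int.ofNat 0, Int.ofNat 0, Int.ofNat 0, Int.ofNat 0, Int.ofNat 0, Int.ofNat 0, Int.ofNat 0, Int.ofNat 0, Int.ofNat 0, Int.ofNat 0, Int.ofNat 0, Int.ofNat 0, Int.ofNat 0, Int.ofNat 0, Int.ofNat 0, Int.ofNat 0, Int.ofNat 0],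
  [Int.ofNat 0, Int.ofNat 4, Int.ofNat 0, Int.ofNat 0, Int.ofNat 0, Int.ofNat 0, Int.ofNat 0, Int.ofNat 0, Int.ofNat 0, Int.ofNat 0, Int.ofNat 0, Int.ofNat 0, Int.ofNat 0, Int.ofNat 0, Int.ofNat 0, Int.ofNat 0, Int.ofNat 0, Int.ofNat 0, Int.ofNat 0, Int.ofNat 0, Int.ofNat 0, Int.ofNat 0, Int.ofNat 0, Int.ofNat 4],
  [Int.ofNat 4, Int.ofNat 0, Int.ofNat 0, Int.ofNat 0, Int.ofNat 0, Int.ofNat 0, Int.ofNat 0, Int.ofNat 0, Int.ofNat 0, Int.ofNat 0, Int.ofNat 0, Int.ofNat 0, Int.ofNat 0, Int.ofNat 0, Int.ofNat 0, Int.ofNat 0, Int.ofNat 0, Int.ofNat 0, Int.ofNat 0, Int.ofNat 0, Int.ofNat 0, Int.ofNat 0, Int.ofNat 0, Int.ofNat 4],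
  [Int.negSucc 3, Int.ofNat 0, Int.ofNat 0, Int.ofNat 0, Int.ofNat 0, Int.ofNat 0, Int.ofNat 0, Int.ofNat 0, Int.ofNat 0, Int.ofNat 0, Int.ofNat 0, Int.ofNat 0, Int.ofNat 0, Int.ofNat 0, Int.ofNat 0, Int.ofNat 0, Int.ofNat 0, Int.ofNat 0, Int.ofNat 0, Int.ofNat 0, Int.ofNat 0, Int.ofNat 0, Int.ofNat 0, Int.ofNat 4],
  [Int.ofNat 4, Int.ofNat 0, Int.ofNat 0, Int.ofNat 0, Int.ofNat 0, Int.ofNat 0, Int.ofNat 0, Int.ofNat 0, Int.ofNat 0, Int.ofNat 0, Int.ofNat 0, Int.ofNat 0, Int.ofNat 0, Int.ofNat 0, Int.ofNat 0, Int.ofNat 0, Int.ofNat 0, Int.ofNat 0, Int.ofNat 0, Int.ofNat 0, Int.ofNat 0, Int.ofNat 0, Int.ofNat 0, Int.ofNat 4],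
  [Int.ofNat 4, Int.ofNat 0, Int.ofNat 0, Int.ofNat 0, Int.ofNat 0, Int.ofNat 0, Int.ofNat 0, Int.ofNat 0, Int.ofNat 0, Int.ofNat 0, Int.ofNat 0, Int.ofNat 0, Int.ofNat 0, Int.ofNat 0, Int.ofNat 0, Int.ofNat 0, Int.ofNat 0, Int.ofNat 0, Int.ofNat 0, Int.ofNat 0, Int.ofNat 0, Int.ofNat 0, Int.ofNat 0, Int.ofNat 4],
  [Int.negSucc 3, Int.ofNat 0, Int.ofNat 0, Int.ofNat 0, Int.ofNat 0, Int.ofNat 0, Int.ofNat 0, Int.ofNat 0, Int.ofNat 0, Int.ofNat 0, Int.ofNat 0, Int.ofNat 0, Int.ofNat 0, Int.ofNat 0, Int.ofNat 0, Int.ofNat 0, Int.ofNat 0, Int.ofNat 0, Int.ofNat 0, Int.ofNat 0, Int.ofNat 0, Int.ofNat 0, Int.ofNat 0, Int.ofNat 4],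
  [Int.ofNat 0, Int.negSucc 3, Int.ofNat 0, Int.ofNat 0, Int.ofNat 0, Int.ofNat 0, Int.ofNat 0, Int.ofNat 0, Int.ofNat 0, Int.ofNat 0, Int.ofNat 0, Int.ofNat 0, Int.ofNat 0, Int.ofNat 0, Int.ofNat 0, Int.ofNat 0, Int.ofNat 0, Int.ofNat 0, Int.ofNat 0, Int.ofNat 0, Int.ofNat 0, Int.ofNat 0, Int.ofNat 0, Int.ofNat 4],
  [Int.ofNat 0, Int.ofNat 4, Int.ofNat 0, Int.ofNat 0, Int.ofNat 0, Int.ofNat 0, Int.ofNat 0, Int.ofNat 0, Int.ofNat 0, Int.ofNat 0, Int.ofNat 0, Int.ofNat 0, Int.ofNat 0, Int.ofNat 0, Int.ofNat 0, Int.ofNat 0, Int.ofNat 0, Int.ofNat 0, Int.ofNat 0, Int.ofNat 0, Int.ofNat 0, Int.ofNat 0, Int.ofNat 0, Int.negSucc 3],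
  [Int.ofNat 0, Int.ofNat 0, Int.ofNat 0, Int.ofNat 0, Int.ofNat 0, Int.ofNat 0, Int.ofNat 0, Int.ofNat 0, Int.ofNat 0, Int.ofNat 0, Int.ofNat 0, Int.ofNat 0, Int.ofNat 0, Int.ofNat 0, Int.ofNat 0, Int.ofNat 0, Int.ofNat 0, Int.ofNat 0, Int.ofNat 0, Int.ofNat 0, Int.ofNat 0, Int.ofNat 4, Int.ofNat 0, Int.negSucc 3],
  [Int.negSucc 1, Int.negSucc 1, Int.negSucc 1, Int.ofNat 0, Int.ofNat 0, Int.ofNat 0, Int.negSucc 1, Int.negSucc 1, Int.ofNat 0, Int.ofNat 0, Int.ofNat 0, Int.ofNat 0, Int.ofNat 0, Int.ofNat 0, Int.ofNat 0, Int.ofNat 0, Int.ofNat 0, Int.ofNat 0, Int.ofNat 0, Int.negSucc 1, Int.ofNat 0, Int.ofNat 2, Int.ofNat 0, Int.ofNat 2],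
  [Int.negSucc 1, Int.negSucc 1, Int.ofNat 0, Int.ofNat 0, Int.ofNat 0, Int.negSucc 1, Int.negSucc 1, Int.ofNat 0, Int.ofNat 0, Int.ofNat 0, Int.ofNat 0, Int.ofNat 0, Int.ofNat 0, Int.ofNat 0, Int.ofNat 0, Int.ofNat 0, Int.ofNat 0, Int.ofNat 0, Int.negSucc 1, Int.ofNat 0, Int.ofNat 2, Int.ofNat 0, Int.negSucc 1, Int.ofNat 2],
  [Int.ofNat 1, Int.ofNat 1, Int.negSucc 0, Int.ofNat 1, Int.ofNat 1, Int.negSucc 0, Int.negSucc 0, Int.ofNat 1, Int.ofNat 1, Int.negSucc 0, Int.negSucc 0, Int.ofNat 1, Int.ofNat 1, Int.ofNat 1, Int.ofNat 1, Int.negSucc 0, Int.ofNat 1, Int.ofNat 1, Int.negSucc 0, Int.ofNat 1, Int.ofNat 1, Int.ofNat 1, Int.negSucc 0, Int.negSucc 2],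
  [Int.ofNat 1, Int.ofNat 1, Int.ofNat 1, Int.ofNat 1, Int.ofNat 1, Int.ofNat 1, Int.ofNat 1, Int.ofNat 1, Int.ofNat 1, Int.ofNat 1, Int.ofNat 1, Int.ofNat 1, Int.ofNat 1, Int.ofNat 1, Int.ofNat 1, Int.ofNat 1, Int.ofNat 1, Int.ofNat 1, Int.ofNat 1, Int.ofNat 1, Int.ofNat 1, Int.ofNat 1, Int.ofNat 1, Int.negSucc 2],
  [Int.ofNat 1, Int.ofNat 1, Int.ofNat 1, Int.ofNat 1, Int.ofNat 1, Int.ofNat 1, Int.ofNat 1, Int.ofNat 1, Int.ofNat 1, Int.ofNat 1, Int.ofNat 1, Int.ofNat 1, Int.ofNat 1, Int.ofNat 1, Int.ofNat 1, Int.ofNat 1, Int.ofNat 1, Int.ofNat 1, Int.ofNat 1, Int.ofNat 1, Int.ofNat 1, Int.ofNat 1, Int.ofNat 1, Int.negSucc 2],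
  [Int.ofNat 1, Int.ofNat 1, Int.negSucc 0, Int.ofNat 1, Int.ofNat 1, Int.negSucc 0, Int.negSucc 0, Int.ofNat 1, Int.ofNat 1, Int.negSucc 0, Int.negSucc 0, Int.ofNat 1, Int.ofNat 1, Int.ofNat 1, Int.ofNat 1, Int.negSucc 0, Int.ofNat 1, Int.ofNat 1, Int.negSucc 0, Int.ofNat 1, Int.ofNat 1, Int.ofNat 1, Int.negSucc 0, Int.negSucc 2],
  [Int.negSucc 1, Int.negSucc 1, Int.ofNat 0, Int.ofNat 0, Int.ofNat 0, Int.negSucc 1, Int.negSucc 1, Int.ofNat 0, Int.ofNat 0, Int.ofNat 0, Int.ofNat 0, Int.ofNat 0, Int.ofNat 0, Int.ofNat 0, Int.ofNat 0, Int.ofNat 0, Int.ofNat 0, Int.ofNat 0, Int.negSucc 1, Int.ofNat 0, Int.ofNat 2, Int.ofNat 0, Int.negSucc 1, Int.ofNat 2],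
  [Int.negSucc 1, Int.negSucc 1, Int.negSucc 1, Int.ofNat 0, Int.ofNat 0, Int.ofNat 0, Int.negSucc 1, Int.negSucc 1, Int.ofNat 0, Int.ofNat 0, Int.ofNat 0, Int.ofNat 0, Int.ofNat 0, Int.ofNat 0, Int.ofNat 0, Int.ofNat 0, Int.ofNat 0, Int.ofNat 0, Int.ofNat 0, Int.negSucc 1, Int.ofNat 0, Int.ofNat 2, Int.ofNat 0, Int.ofNat 2],
  [Int.ofNat 0, Int.ofNat 0, Int.ofNat 0, Int.ofNat 0, Int.ofNat 0, Int.ofNat 0, Int.ofNat 0, Int.ofNat 0, Int.ofNat 0, Int.ofNat 0, Int.ofNat 0, Int.ofNat 0, Int.ofNat 0, Int.ofNat 0, Int.ofNat 0, Int.ofNat 0, Int.ofNat 0, Int.ofNat 0, Int.ofNat 0, Int.ofNat 0, Int.ofNat 0, Int.ofNat 4, Int.ofNat 0, Int.negSucc 3],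
  [Int.ofNat 0, Int.ofNat 4, Int.ofNat 0, Int.ofNat 0, Int.ofNat 0, Int.ofNat 0, Int.ofNat 0, Int.ofNat 0, Int.ofNat 0, Int.ofNat 0, Int.ofNat 0, Int.ofNat 0, Int.ofNat 0, Int.ofNat 0, Int.ofNat 0, Int.ofNat 0, Int.ofNat 0, Int.ofNat 0, Int.ofNat 0, Int.ofNat 0, Int.ofNat 0, Int.ofNat 0, Int.ofNat 0, Int.negSucc 3],
  [Int.ofNat 0, Int.negSucc 3, Int.ofNat 0, Int.ofNat 0, Int.ofNat 0, Int.ofNat 0, Int.ofNat 0, Int.ofNat 0, Int.ofNat 0, Int.ofNat 0, Int.ofNat 0, Int.ofNat 0, Int.ofNat 0, Int.ofNat 0, Int.ofNat 0, Int.ofNat 0, Int.ofNat 0, Int.ofNat 0, Int.ofNat 0, Int.ofNat 0, Int.ofNat 0, Int.ofNat 0, Int.ofNat 0, Int.ofNat 4],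
  [Int.negSucc 3, Int.ofNat 0, Int.ofNat 0, Int.ofNat 0, Int.ofNat 0, Int.ofNat 0, Int.ofNat 0, Int.ofNat 0, Int.ofNat 0, Int.ofNat 0, Int.ofNat 0, Int.ofNat 0, Int.ofNat 0, Int.ofNat 0, Int.ofNat 0, Int.ofNat 0, Int.ofNat 0, Int.ofNat 0, Int.ofNat 0, Int.ofNat 0, Int.ofNat 0, Int.ofNat 0, Int.ofNat 0, Int.ofNat 4],
  [Int.ofNat 4, Int.ofNat 0, Int.ofNat 0, Int.ofNat 0, Int.ofNat 0, Int.ofNat 0, Int.ofNat 0, Int.ofNat 0, Int.ofNat 0, Int.ofNat 0, Int.ofNat 0, Int.ofNat 0, Int.ofNat 0, Int.ofNat 0, Int.ofNat 0, Int.ofNat 0, Int.ofNat 0, Int.ofNat 0, Int.ofNat 0, Int.ofNat 0, Int.ofNat 0, Int.ofNat 0, Int.ofNat 0, Int.ofNat 4],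
  [Int.negSucc 3, Int.ofNat 0, Int.ofNat 0, Int.ofNat 0, Int.ofNat 0, Int.ofNat 0, Int.ofNat 0, Int.ofNat 0, Int.ofNat 0, Int.ofNat 0, Int.ofNat 0, Int.ofNat 0, Int.ofNat 0, Int.ofNat 0, Int.ofNat 0, Int.ofNat 0, Int.ofNat 0, Int.ofNat 0, Int.ofNat 0, Int.ofNat 0, Int.ofNat 0, Int.ofNat 0, Int.ofNat 0, Int.ofNat 4],
  [Int.ofNat 4, Int.ofNat 0, Int.ofNat 0, Int.ofNat 0, Int.ofNat 0, Int.ofNat 0, Int.ofNat 0, Int.ofNat 0, Int.ofNat 0, Int.ofNat 0, Int.ofNat 0, Int.ofNat 0, Int.ofNat 0, Int.ofNat 0, Int.ofNat 0, Int.ofNat 0, Int.ofNat 0, Int.ofNat 0, Int.ofNat 0, Int.ofNat 0, Int.ofNat 0, Int.ofNat 0, Int.ofNat 0, Int.negSucc 3],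
  [Int.negSucc 3, Int.ofNat 0, Int.ofNat 0, Int.ofNat 0, Int.ofNat 0, Int.ofNat 0, Int.ofNat 0, Int.ofNat 0, Int.ofNat 0, Int.ofNat 0, Int.ofNat 0, Int.ofNat 0, Int.ofNat 0, Int.ofNat 0, Int.ofNat 0, Int.ofNat 0, Int.ofNat 0, Int.ofNat 0, Int.ofNat 0, Int.ofNat 0, Int.ofNat 0, Int.ofNat 0, Int.ofNat 0, Int.negSucc 3],
  [Int.ofNat 0, Int.negSucc 3, Int.ofNat 0, Int.ofNat 0, Int.ofNat 0, Int.ofNat 0, Int.ofNat 0, Int.ofNat 0, Int.ofNat 0, Int.ofNat 0, Int.ofNat 0, Int.ofNat 0, Int.ofNat 0, Int.ofNat 0, Int.ofNat 0, Int.ofNat 0, Int.ofNat 0, Int.ofNat 0, Int.ofNat 0, Int.ofNat 0, Int.ofNat 0, Int.ofNat 0, Int.ofNat 0, Int.negSucc 3],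
  [Int.negSucc 3, Int.ofNat 0, Int.negSucc 3, Int.ofNat 0, Int.ofNat 0, Int.ofNat 0, Int.ofNat 0, Int.ofNat 0, Int.ofNat 0, Int.ofNat 0, Int.ofNat 0, Int.ofNat 0, Int.ofNat 0, Int.ofNat 0, Int.ofNat 0, Int.ofNat 0, Int.ofNat 0, Int.ofNat 0, Int.ofNat 0, Int.ofNat 0, Int.ofNat 0, Int.ofNat 0, Int.ofNat 0, Int.ofNat 0],
  [Int.ofNat 0, Int.ofNat 0, Int.ofNat 0, Int.ofNat 0, Int.ofNat 0, Int.ofNat 0, Int.ofNat 0, Int.ofNat 0, Int.ofNat 0, Int.ofNat 0, Int.ofNat 0, Int.ofNat 0, Int.ofNat 0, Int.ofNat 0, Int.ofNat 0, Int.ofNat 0, Int.ofNat 0, Int.ofNat 0, Int.ofNat 0, Int.ofNat 0, Int.negSucc 3, Int.ofNat 0, Int.negSucc 3, Int.ofNat 0],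
  [Int.ofNat 0, Int.ofNat 0, Int.ofNat 0, Int.ofNat 0, Int.ofNat 2, Int.ofNat 0, Int.ofNat 0, Int.ofNat 0, Int.ofNat 0, Int.ofNat 2, Int.ofNat 2, Int.ofNat 0, Int.ofNat 0, Int.ofNat 2, Int.ofNat 0, Int.ofNat 2, Int.ofNat 2, Int.ofNat 0, Int.ofNat 0, Int.ofNat 0, Int.negSucc 1, Int.ofNat 0, Int.negSucc 1, Int.ofNat 0],
  [Int.ofNat 0, Int.ofNat 0, Int.ofNat 2, Int.ofNat 0, Int.ofNat 0, Int.ofNat 0, Int.ofNat 0, Int.ofNat 2, Int.ofNat 0, Int.ofNat 2, Int.negSucc 1, Int.ofNat 0, Int.ofNat 2, Int.ofNat 2, Int.negSucc 1, Int.ofNat 2, Int.ofNat 0, Int.ofNat 0, Int.ofNat 0, Int.ofNat 0, Int.ofNat 0, Int.ofNat 0, Int.ofNat 0, Int.ofNat 0],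
  [Int.ofNat 1, Int.ofNat 1, Int.negSucc 0, Int.ofNat 1, Int.negSucc 0, Int.ofNat 1, Int.negSucc 0, Int.ofNat 1, Int.negSucc 0, Int.ofNat 1, Int.negSucc 2, Int.negSucc 0, Int.ofNat 1, Int.ofNat 1, Int.negSucc 0, Int.ofNat 1, Int.negSucc 0, Int.ofNat 1, Int.negSucc 0, Int.negSucc 0, Int.negSucc 0, Int.negSucc 0, Int.negSucc 0, Int.ofNat 1],
  [Int.ofNat 1, Int.ofNat 1, Int.ofNat 1, Int.ofNat 1, Int.negSucc 0, Int.negSucc 0, Int.ofNat 1, Int.ofNat 1, Int.negSucc 0, Int.negSucc 0, Int.ofNat 3, Int.negSucc 0, Int.ofNat 1, Int.ofNat 1, Int.negSucc 0, Int.negSucc 0, Int.negSucc 0, Int.ofNat 1, Int.ofNat 1, Int.negSucc 0, Int.negSucc 0, Int.negSucc 0, Int.ofNat 1, Int.ofNat 1],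
  [Int.negSucc 0, Int.negSucc 0, Int.ofNat 3, Int.ofNat 1, Int.ofNat 1, Int.negSucc 0, Int.negSucc 0, Int.ofNat 1, Int.ofNat 1, Int.ofNat 1, Int.negSucc 0, Int.negSucc 0, Int.ofNat 1, Int.ofNat 1, Int.negSucc 0, Int.negSucc 0, Int.ofNat 1, Int.negSucc 0, Int.ofNat 1, Int.ofNat 1, Int.negSucc 0, Int.ofNat 1, Int.negSucc 0, Int.ofNat 1],
  [Int.negSucc 0, Int.negSucc 0, Int.negSucc 2, Int.ofNat 1, Int.ofNat 1, Int.ofNat 1, Int.ofNat 1, Int.ofNat 1, Int.ofNat 1, Int.negSucc 0, Int.ofNat 1, Int.negSucc 0, Int.ofNat 1, Int.ofNat 1, Int.negSucc 0, Int.ofNat 1, Int.ofNat 1, Int.negSucc 0, Int.negSucc 0, Int.ofNat 1, Int.negSucc 0, Int.ofNat 1, Int.ofNat 1, Int.ofNat 1],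
  [Int.negSucc 0, Int.negSucc 0, Int.ofNat 1, Int.ofNat 1, Int.negSucc 0, Int.ofNat 1, Int.negSucc 0, Int.negSucc 0, Int.ofNat 1, Int.negSucc 0, Int.ofNat 1, Int.negSucc 0, Int.ofNat 1, Int.negSucc 0, Int.negSucc 0, Int.ofNat 1, Int.negSucc 0, Int.negSucc 0, Int.negSucc 0, Int.negSucc 0, Int.negSucc 0, Int.negSucc 0, Int.negSucc 0, Int.negSucc 2],
  [Int.negSucc 0, Int.negSucc 0, Int.negSucc 0, Int.ofNat 1, Int.ofNat 1, Int.negSucc 0, Int.negSucc 0, Int.ofNat 1, Int.negSucc 0, Int.ofNat 1, Int.negSucc 0, Int.negSucc 0, Int.ofNat 1, Int.negSucc 0, Int.negSucc 0, Int.ofNat 1, Int.negSucc 0, Int.negSucc 0, Int.negSucc 0, Int.negSucc 0, Int.ofNat 1, Int.negSucc 0, Int.negSucc 0, Int.negSucc 2],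
  [Int.negSucc 1, Int.negSucc 1, Int.negSucc 1, Int.ofNat 2, Int.ofNat 2, Int.ofNat 0, Int.ofNat 0, Int.ofNat 2, Int.ofNat 0, Int.ofNat 0, Int.negSucc 1, Int.ofNat 0, Int.ofNat 2, Int.ofNat 0, Int.ofNat 0, Int.ofNat 0, Int.ofNat 0, Int.ofNat 0, Int.ofNat 0, Int.ofNat 0, Int.ofNat 0, Int.ofNat 0, Int.ofNat 0, Int.ofNat 0],
  [Int.ofNat 0, Int.ofNat 0, Int.ofNat 0, Int.negSucc 1, Int.negSucc 1, Int.negSucc 1, Int.ofNat 2, Int.ofNat 2, Int.ofNat 0, Int.ofNat 0, Int.ofNat 2, Int.ofNat 0, Int.ofNat 0, Int.negSucc 1, Int.ofNat 0, Int.ofNat 2, Int.ofNat 0, Int.ofNat 0, Int.ofNat 0, Int.ofNat 0, Int.ofNat 0, Int.ofNat 0, Int.ofNat 0, Int.ofNat 0],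
  [Int.ofNat 0, Int.ofNat 0, Int.ofNat 0, Int.ofNat 0, Int.ofNat 0, Int.ofNat 0, Int.ofNat 0, Int.ofNat 0, Int.ofNat 0, Int.negSucc 1, Int.ofNat 0, Int.ofNat 0, Int.ofNat 0, Int.ofNat 0, Int.ofNat 2, Int.ofNat 0, Int.ofNat 2, Int.ofNat 2, Int.ofNat 0, Int.negSucc 1, Int.negSucc 1, Int.negSucc 1, Int.ofNat 2, Int.ofNat 0],
  [Int.ofNat 0, Int.ofNat 0, Int.ofNat 0, Int.ofNat 0, Int.ofNat 0, Int.ofNat 0, Int.ofNat 0, Int.ofNat 0, Int.negSucc 1, Int.ofNat 0, Int.ofNat 0, Int.ofNat 0, Int.ofNat 0, Int.ofNat 2, Int.ofNat 0, Int.ofNat 2, Int.ofNat 2, Int.ofNat 0, Int.negSucc 1, Int.negSucc 1, Int.negSucc 1, Int.ofNat 2, Int.ofNat 0, Int.ofNat 0],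
  [Int.ofNat 0, Int.ofNat 0, Int.ofNat 0, Int.ofNat 0, Int.ofNat 0, Int.ofNat 0, Int.ofNat 0, Int.ofNat 0, Int.negSucc 1, Int.ofNat 0, Int.ofNat 0, Int.ofNat 0, Int.ofNat 0, Int.ofNat 2, Int.ofNat 0, Int.ofNat 2, Int.ofNat 2, Int.ofNat 0, Int.ofNat 2, Int.negSucc 1, Int.negSucc 1, Int.negSucc 1, Int.ofNat 0, Int.ofNat 0]]

set_option maxRecDepth 100000 in
theorem c1e15_chk : pmChk (List.replicate 14 [15, 0, 25]).flatten nxL c1e15M 0 0 = true := by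
  decide +kernel

theorem c1e15_ne : wE letE2 (List.replicate 14 [15, 0, 25]).flatten ≠ 1 ∧ wE letE2 (List.replicate 14 [15, 0, 25]).flatten ≠ negElt :=
  ne_pm_of_chk nxL_mem c1e15_chk

set_option maxRecDepth 100000 in
def c1e16M : List (List ℤ) :=
  [[Int.ofNat 4, Int.ofNat 0, Int.ofNat 0, Int.ofNat 0, Int.ofNat 0, Int.ofNat 0, Int.ofNat 0, Int.ofNat 0, Int.ofNat 0, Int.ofNat 0, Int.ofNat 0, Int.ofNat 0, Int.ofNat 0, Int.ofNat 0, Int.ofNat 0, Int.ofNat 0, Int.ofNat 0, Int.ofNat 0, Int.ofNat 0, Int.ofNat 0, Int.ofNat 0, Int.ofNat 0, Int.ofNat 0, Int.ofNat 4],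
  [Int.ofNat 4, Int.ofNat 0, Int.ofNat 0, Int.ofNat 0, Int.ofNat 0, Int.ofNat 0, Int.ofNat 0, Int.ofNat 0, Int.ofNat 0, Int.ofNat 0, Int.ofNat 0, Int.ofNat 0, Int.ofNat 0, Int.ofNat 0, Int.ofNat 0, Int.ofNat 0, Int.ofNat 0, Int.ofNat 0, Int.ofNat 0, Int.ofNat 0, Int.ofNat 0, Int.ofNat 0, Int.ofNat 0, Int.ofNat 4],
  [Int.negSucc 3, Int.ofNat 0, Int.ofNat 0, Int.ofNat 0, Int.ofNat 0, Int.ofNat 0, Int.ofNat 0, Int.ofNat 0, Int.ofNat 0, Int.ofNat 0, Int.ofNat 0, Int.ofNat 0, Int.ofNat 0, Int.ofNat 0, Int.ofNat 0, Int.ofNat 0, Int.ofNat 0, Int.ofNat 0, Int.ofNat 0, Int.ofNat 0, Int.ofNat 0, Int.ofNat 0, Int.ofNat 0, Int.ofNat 4],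
  [Int.ofNat 0, Int.negSucc 3, Int.ofNat 0, Int.ofNat 0, Int.ofNat 0, Int.ofNat 0, Int.ofNat 0, Int.ofNat 0, Int.ofNat 0, Int.ofNat 0, Int.ofNat 0, Int.ofNat 0, Int.ofNat 0, Int.ofNat 0, Int.ofNat 0, Int.ofNat 0, Int.ofNat 0, Int.ofNat 0, Int.ofNat 0, Int.ofNat 0, Int.ofNat 0, Int.ofNat 0, Int.ofNat 0, Int.ofNat 4],
  [Int.ofNat 0, Int.ofNat 4, Int.ofNat 0, Int.ofNat 0, Int.ofNat 0, Int.ofNat 0, Int.ofNat 0, Int.ofNat 0, Int.ofNat 0, Int.ofNat 0, Int.ofNat 0, Int.ofNat 0, Int.ofNat 0, Int.ofNat 0, Int.ofNat 0, Int.ofNat 0, Int.ofNat 0, Int.ofNat 0, Int.ofNat 0, Int.ofNat 0, Int.ofNat 0, Int.ofNat 0, Int.ofNat 0, Int.negSucc 3],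
  [Int.ofNat 0, Int.ofNat 0, Int.ofNat 0, Int.ofNat 0, Int.ofNat 0, Int.ofNat 0, Int.ofNat 0, Int.ofNat 0, Int.ofNat 0, Int.ofNat 0, Int.ofNat 0, Int.ofNat 0, Int.ofNat 0, Int.ofNat 0, Int.ofNat 0, Int.ofNat 0, Int.ofNat 0, Int.ofNat 0, Int.ofNat 0, Int.ofNat 0, Int.ofNat 0, Int.ofNat 4, Int.ofNat 0, Int.negSucc 3],
  [Int.negSucc 1, Int.negSucc 1, Int.negSucc 1, Int.ofNat 0, Int.ofNat 0, Int.ofNat 0, Int.negSucc 1, Int.negSucc 1, Int.ofNat 0, Int.ofNat 0, Int.ofNat 0, Int.ofNat 0, Int.ofNat 0, Int.ofNat 0, Int.ofNat 0, Int.ofNat 0, Int.ofNat 0, Int.ofNat 0, Int.ofNat 0, Int.negSucc 1, Int.ofNat 0, Int.ofNat 2, Int.ofNat 0, Int.ofNat 2],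
  [Int.negSucc 1, Int.negSucc 1, Int.ofNat 0, Int.ofNat 0, Int.ofNat 0, Int.negSucc 1, Int.negSucc 1, Int.ofNat 0, Int.ofNat 0, Int.ofNat 0, Int.ofNat 0, Int.ofNat 0, Int.ofNat 0, Int.ofNat 0, Int.ofNat 0, Int.ofNat 0, Int.ofNat 0, Int.ofNat 0, Int.negSucc 1, Int.ofNat 0, Int.ofNat 2, Int.ofNat 0, Int.negSucc 1, Int.ofNat 2],
  [Int.ofNat 1, Int.ofNat 1, Int.negSucc 0, Int.ofNat 1, Int.ofNat 1, Int.negSucc 0, Int.negSucc 0, Int.ofNat 1, Int.ofNat 1, Int.negSucc 0, Int.negSucc 0, Int.ofNat 1, Int.ofNat 1, Int.ofNat 1, Int.ofNat 1, Int.negSucc 0, Int.ofNat 1, Int.ofNat 1, Int.negSucc 0, Int.ofNat 1, Int.ofNat 1, Int.ofNat 1, Int.negSucc 0, Int.negSucc 2],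
  [Int.ofNat 1, Int.ofNat 1, Int.ofNat 1, Int.ofNat 1, Int.ofNat 1, Int.ofNat 1, Int.ofNat 1, Int.ofNat 1, Int.ofNat 1, Int.ofNat 1, Int.ofNat 1, Int.ofNat 1, Int.ofNat 1, Int.ofNat 1, Int.ofNat 1, Int.ofNat 1, Int.ofNat 1, Int.ofNat 1, Int.ofNat 1, Int.ofNat 1, Int.ofNat 1, Int.ofNat 1, Int.ofNat 1, Int.negSucc 2],
  [Int.ofNat 1, Int.ofNat 1, Int.ofNat 1, Int.ofNat 1, Int.ofNat 1, Int.ofNat 1, Int.ofNat 1, Int.ofNat 1, Int.ofNat 1, Int.ofNat 1, Int.ofNat 1, Int.ofNat 1, Int.ofNat 1, Int.ofNat 1, Int.ofNat 1, Int.ofNat 1, Int.ofNat 1, Int.ofNat 1, Int.ofNat 1, Int.ofNat 1, Int.ofNat 1, Int.ofNat 1, Int.ofNat 1, Int.negSucc 2],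
  [Int.ofNat 1, Int.ofNat 1, Int.negSucc 0, Int.ofNat 1, Int.ofNat 1, Int.negSucc 0, Int.negSucc 0, Int.ofNat 1, Int.ofNat 1, Int.negSucc 0, Int.negSucc 0, Int.ofNat 1, Int.ofNat 1, Int.ofNat 1, Int.ofNat 1, Int.negSucc 0, Int.ofNat 1, Int.ofNat 1, Int.negSucc 0, Int.ofNat 1, Int.ofNat 1, Int.ofNat 1, Int.negSucc 0, Int.negSucc 2],
  [Int.negSucc 1, Int.negSucc 1, Int.ofNat 0, Int.ofNat 0, Int.ofNat 0, Int.negSucc 1, Int.negSucc 1, Int.ofNat 0, Int.ofNat 0, Int.ofNat 0, Int.ofNat 0, Int.ofNat 0, Int.ofNat 0, Int.ofNat 0, Int.ofNat 0, Int.ofNat 0, Int.ofNat 0, Int.ofNat 0, Int.negSucc 1, Int.ofNat 0, Int.ofNat 2, Int.ofNat 0, Int.negSucc 1, Int.ofNat 2],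
  [Int.negSucc 1, Int.negSucc 1, Int.negSucc 1, Int.ofNat 0, Int.ofNat 0, Int.ofNat 0, Int.negSucc 1, Int.negSucc 1, Int.ofNat 0, Int.ofNat 0, Int.ofNat 0, Int.ofNat 0, Int.ofNat 0, Int.ofNat 0, Int.ofNat 0, Int.ofNat 0, Int.ofNat 0, Int.ofNat 0, Int.ofNat 0, Int.negSucc 1, Int.ofNat 0, Int.ofNat 2, Int.ofNat 0, Int.ofNat 2],
  [Int.ofNat 0, Int.ofNat 0, Int.ofNat 0, Int.ofNat 0, Int.ofNat 0, Int.ofNat 0, Int.ofNat 0, Int.ofNat 0, Int.ofNat 0, Int.ofNat 0, Int.ofNat 0, Int.ofNat 0, Int.ofNat 0, Int.ofNat 0, Int.ofNat 0, Int.ofNat 0, Int.ofNat 0, Int.ofNat 0, Int.ofNat 0, Int.ofNat 0, Int.ofNat 0, Int.ofNat 4, Int.ofNat 0, Int.negSucc 3],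
  [Int.ofNat 0, Int.ofNat 4, Int.ofNat 0, Int.ofNat 0, Int.ofNat 0, Int.ofNat 0, Int.ofNat 0, Int.ofNat 0, Int.ofNat 0, Int.ofNat 0, Int.ofNat 0, Int.ofNat 0, Int.ofNat 0, Int.ofNat 0, Int.ofNat 0, Int.ofNat 0, Int.ofNat 0, Int.ofNat 0, Int.ofNat 0, Int.ofNat 0, Int.ofNat 0, Int.ofNat 0, Int.ofNat 0, Int.negSucc 3],
  [Int.ofNat 0, Int.negSucc 3, Int.ofNat 0, Int.ofNat 0, Int.ofNat 0, Int.ofNat 0, Int.ofNat 0, Int.ofNat 0, Int.ofNat 0, Int.ofNat 0, Int.ofNat 0, Int.ofNat 0, Int.ofNat 0, Int.ofNat 0, Int.ofNat 0, Int.ofNat 0, Int.ofNat 0, Int.ofNat 0, Int.ofNat 0, Int.ofNat 0, Int.ofNat 0, Int.ofNat 0, Int.ofNat 0, Int.ofNat 4],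
  [Int.negSucc 3, Int.ofNat 0, Int.ofNat 0, Int.ofNat 0, Int.ofNat 0, Int.ofNat 0, Int.ofNat 0, Int.ofNat 0, Int.ofNat 0, Int.ofNat 0, Int.ofNat 0, Int.ofNat 0, Int.ofNat 0, Int.ofNat 0, Int.ofNat 0, Int.ofNat 0, Int.ofNat 0, Int.ofNat 0, Int.ofNat 0, Int.ofNat 0, Int.ofNat 0, Int.ofNat 0, Int.ofNat 0, Int.ofNat 4],
  [Int.ofNat 4, Int.ofNat 0, Int.ofNat 0, Int.ofNat 0, Int.ofNat 0, Int.ofNat 0, Int.ofNat 0, Int.ofNat 0, Int.ofNat 0, Int.ofNat 0, Int.ofNat 0, Int.ofNat 0, Int.ofNat 0, Int.ofNat 0, Int.ofNat 0, Int.ofNat 0, Int.ofNat 0, Int.ofNat 0, Int.ofNat 0, Int.ofNat 0, Int.ofNat 0, Int.ofNat 0, Int.ofNat 0, Int.ofNat 4],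
  [Int.negSucc 3, Int.ofNat 0, Int.ofNat 0, Int.ofNat 0, Int.ofNat 0, Int.ofNat 0, Int.ofNat 0, Int.ofNat 0, Int.ofNat 0, Int.ofNat 0, Int.ofNat 0, Int.ofNat 0, Int.ofNat 0, Int.ofNat 0, Int.ofNat 0, Int.ofNat 0, Int.ofNat 0, Int.ofNat 0, Int.ofNat 0, Int.ofNat 0, Int.ofNat 0, Int.ofNat 0, Int.ofNat 0, Int.ofNat 4],
  [Int.ofNat 4, Int.ofNat 0, Int.ofNat 0, Int.ofNat 0, Int.ofNat 0, Int.ofNat 0, Int.ofNat 0, Int.ofNat 0, Int.ofNat 0, Int.ofNat 0, Int.ofNat 0, Int.ofNat 0, Int.ofNat 0, Int.ofNat 0, Int.ofNat 0, Int.ofNat 0, Int.ofNat 0, Int.ofNat 0, Int.ofNat 0, Int.ofNat 0, Int.ofNat 0, Int.ofNat 0, Int.ofNat 0, Int.negSucc 3],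
  [Int.negSucc 3, Int.ofNat 0, Int.ofNat 0, Int.ofNat 0, Int.ofNat 0, Int.ofNat 0, Int.ofNat 0, Int.ofNat 0, Int.ofNat 0, Int.ofNat 0, Int.ofNat 0, Int.ofNat 0, Int.ofNat 0, Int.ofNat 0, Int.ofNat 0, Int.ofNat 0, Int.ofNat 0, Int.ofNat 0, Int.ofNat 0, Int.ofNat 0, Int.ofNat 0, Int.ofNat 0, Int.ofNat 0, Int.negSucc 3],
  [Int.ofNat 0, Int.negSucc 3, Int.ofNat 0, Int.ofNat 0, Int.ofNat 0, Int.ofNat 0, Int.ofNat 0, Int.ofNat 0, Int.ofNat 0, Int.ofNat 0, Int.ofNat 0, Int.ofNat 0, Int.ofNat 0, Int.ofNat 0, Int.ofNat 0, Int.ofNat 0, Int.ofNat 0, Int.ofNat 0, Int.ofNat 0, Int.ofNat 0, Int.ofNat 0, Int.ofNat 0, Int.ofNat 0, Int.negSucc 3],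
  [Int.negSucc 3, Int.ofNat 0, Int.negSucc 3, Int.ofNat 0, Int.ofNat 0, Int.ofNat 0, Int.ofNat 0, Int.ofNat 0, Int.ofNat 0, Int.ofNat 0, Int.ofNat 0, Int.ofNat 0, Int.ofNat 0, Int.ofNat 0, Int.ofNat 0, Int.ofNat 0, Int.ofNat 0, Int.ofNat 0, Int.ofNat 0, Int.ofNat 0, Int.ofNat 0, Int.ofNat 0, Int.ofNat 0, Int.ofNat 0],
  [Int.ofNat 0, Int.ofNat 0, Int.ofNat 0, Int.ofNat 0, Int.ofNat 0, Int.ofNat 0, Int.ofNat 0, Int.ofNat 0, Int.ofNat 0, Int.ofNat 0, Int.ofNat 0, Int.ofNat 0, Int.ofNat 0, Int.ofNat 0, Int.ofNat 0, Int.ofNat 0, Int.ofNat 0, Int.ofNat 0, Int.ofNat 0, Int.ofNat 0, Int.negSucc 3, Int.ofNat 0, Int.negSucc 3, Int.ofNat 0],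
  [Int.ofNat 0, Int.ofNat 0, Int.ofNat 0, Int.ofNat 0, Int.ofNat 2, Int.ofNat 0, Int.ofNat 0, Int.ofNat 0, Int.ofNat 0, Int.ofNat 2, Int.ofNat 2, Int.ofNat 0, Int.ofNat 0, Int.ofNat 2, Int.ofNat 0, Int.ofNat 2, Int.ofNat 2, Int.ofNat 0, Int.ofNat 0, Int.ofNat 0, Int.negSucc 1, Int.ofNat 0, Int.negSucc 1, Int.ofNat 0],
  [Int.ofNat 0, Int.ofNat 0, Int.ofNat 2, Int.ofNat 0, Int.ofNat 0, Int.ofNat 0, Int.ofNat 0, Int.ofNat 2, Int.ofNat 0, Int.ofNat 2, Int.negSucc 1, Int.ofNat 0, Int.ofNat 2, Int.ofNat 2, Int.negSucc 1, Int.ofNat 2, Int.ofNat 0, Int.ofNat 0, Int.ofNat 0, Int.ofNat 0, Int.ofNat 0, Int.ofNat 0, Int.ofNat 0, Int.ofNat 0],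
  [Int.ofNat 1, Int.ofNat 1, Int.negSucc 0, Int.ofNat 1, Int.negSucc 0, Int.ofNat 1, Int.negSucc 0, Int.ofNat 1, Int.negSucc 0, Int.ofNat 1, Int.negSucc 2, Int.negSucc 0, Int.ofNat 1, Int.ofNat 1, Int.negSucc 0, Int.ofNat 1, Int.negSucc 0, Int.ofNat 1, Int.negSucc 0, Int.negSucc 0, Int.negSucc 0, Int.negSucc 0, Int.negSucc 0, Int.ofNat 1],
  [Int.ofNat 1, Int.ofNat 1, Int.ofNat 1, Int.ofNat 1, Int.negSucc 0, Int.negSucc 0, Int.ofNat 1, Int.ofNat 1, Int.negSucc 0, Int.negSucc 0, Int.ofNat 3, Int.negSucc 0, Int.ofNat 1, Int.ofNat 1, Int.negSucc 0, Int.negSucc 0, Int.negSucc 0, Int.ofNat 1, Int.ofNat 1, Int.negSucc 0, Int.negSucc 0, Int.negSucc 0, Int.ofNat 1, Int.ofNat 1],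
  [Int.negSucc 0, Int.negSucc 0, Int.ofNat 1, Int.ofNat 1, Int.ofNat 1, Int.ofNat 3, Int.ofNat 1, Int.negSucc 0, Int.negSucc 0, Int.ofNat 1, Int.ofNat 1, Int.ofNat 1, Int.negSucc 0, Int.negSucc 0, Int.ofNat 1, Int.negSucc 0, Int.negSucc 0, Int.negSucc 0, Int.ofNat 1, Int.negSucc 0, Int.negSucc 0, Int.ofNat 1, Int.ofNat 1, Int.ofNat 1],
  [Int.negSucc 0, Int.negSucc 0, Int.negSucc 0, Int.ofNat 1, Int.ofNat 1, Int.negSucc 2, Int.negSucc 0, Int.negSucc 0, Int.negSucc 0, Int.negSucc 0, Int.negSucc 0, Int.ofNat 1, Int.negSucc 0, Int.negSucc 0, Int.ofNat 1, Int.ofNat 1, Int.negSucc 0, Int.negSucc 0, Int.negSucc 0, Int.negSucc 0, Int.negSucc 0, Int.ofNat 1, Int.negSucc 0, Int.ofNat 1],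
  [Int.ofNat 0, Int.ofNat 0, Int.ofNat 0, Int.ofNat 2, Int.ofNat 2, Int.negSucc 1, Int.ofNat 0, Int.ofNat 0, Int.ofNat 0, Int.ofNat 0, Int.ofNat 0, Int.ofNat 2, Int.ofNat 0, Int.ofNat 0, Int.ofNat 2, Int.ofNat 2, Int.ofNat 0, Int.ofNat 0, Int.ofNat 0, Int.ofNat 0, Int.ofNat 0, Int.ofNat 2, Int.ofNat 0, Int.negSucc 1],
  [Int.ofNat 0, Int.ofNat 0, Int.ofNat 0, Int.ofNat 2, Int.ofNat 0, Int.ofNat 2, Int.ofNat 0, Int.negSucc 1, Int.ofNat 0, Int.ofNat 0, Int.ofNat 0, Int.ofNat 0, Int.ofNat 0, Int.ofNat 0, Int.ofNat 0, Int.ofNat 2, Int.ofNat 0, Int.ofNat 2, Int.ofNat 2, Int.ofNat 0, Int.ofNat 0, Int.ofNat 0, Int.ofNat 2, Int.negSucc 1],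
  [Int.negSucc 0, Int.negSucc 0, Int.negSucc 0, Int.negSucc 0, Int.negSucc 0, Int.negSucc 0, Int.ofNat 1, Int.negSucc 0, Int.negSucc 0, Int.negSucc 0, Int.negSucc 0, Int.negSucc 0, Int.negSucc 0, Int.negSucc 0, Int.negSucc 2, Int.ofNat 1, Int.negSucc 0, Int.negSucc 0, Int.ofNat 1, Int.ofNat 1, Int.negSucc 0, Int.ofNat 1, Int.ofNat 1, Int.ofNat 1],
  [Int.negSucc 0, Int.ofNat 1, Int.ofNat 1, Int.negSucc 0, Int.negSucc 0, Int.negSucc 0, Int.negSucc 0, Int.negSucc 0, Int.negSucc 0, Int.ofNat 1, Int.negSucc 0, Int.negSucc 0, Int.negSucc 0, Int.negSucc 0, Int.negSucc 0, Int.negSucc 0, Int.negSucc 0, Int.negSucc 2, Int.ofNat 1, Int.negSucc 0, Int.negSucc 0, Int.ofNat 1, Int.ofNat 1, Int.ofNat 1],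
  [Int.ofNat 2, Int.ofNat 0, Int.ofNat 0, Int.ofNat 2, Int.ofNat 0, Int.ofNat 2, Int.ofNat 0, Int.ofNat 0, Int.ofNat 0, Int.ofNat 2, Int.ofNat 0, Int.ofNat 0, Int.ofNat 0, Int.ofNat 0, Int.ofNat 2, Int.ofNat 0, Int.ofNat 0, Int.ofNat 0, Int.ofNat 2, Int.ofNat 0, Int.ofNat 0, Int.ofNat 2, Int.ofNat 2, Int.ofNat 0],
  [Int.ofNat 0, Int.ofNat 0, Int.ofNat 2, Int.ofNat 0, Int.ofNat 2, Int.ofNat 0, Int.ofNat 0, Int.ofNat 0, Int.ofNat 2, Int.ofNat 0, Int.ofNat 0, Int.ofNat 0, Int.ofNat 0, Int.ofNat 2, Int.ofNat 0, Int.ofNat 0, Int.ofNat 0, Int.ofNat 2, Int.ofNat 0, Int.ofNat 0, Int.ofNat 2, Int.ofNat 2, Int.ofNat 2, Int.ofNat 0],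
  [Int.ofNat 0, Int.ofNat 0, Int.negSucc 1, Int.ofNat 0, Int.ofNat 2, Int.ofNat 0, Int.ofNat 0, Int.ofNat 0, Int.ofNat 2, Int.ofNat 0, Int.ofNat 0, Int.ofNat 0, Int.ofNat 0, Int.ofNat 2, Int.ofNat 0, Int.ofNat 0, Int.ofNat 0, Int.ofNat 2, Int.ofNat 0, Int.ofNat 0, Int.ofNat 2, Int.negSucc 1, Int.ofNat 2, Int.ofNat 0],
  [Int.ofNat 0, Int.ofNat 0, Int.ofNat 2, Int.ofNat 0, Int.negSucc 1, Int.ofNat 0, Int.ofNat 0, Int.ofNat 0, Int.negSucc 1, Int.ofNat 0, Int.ofNat 0, Int.ofNat 0, Int.ofNat 0, Int.negSucc 1, Int.ofNat 0, Int.ofNat 0, Int.ofNat 0, Int.ofNat 2, Int.ofNat 0, Int.ofNat 0, Int.ofNat 2, Int.negSucc 1, Int.ofNat 2, Int.ofNat 0],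
  [Int.ofNat 0, Int.ofNat 2, Int.ofNat 0, Int.ofNat 0, Int.ofNat 2, Int.ofNat 0, Int.ofNat 0, Int.negSucc 1, Int.ofNat 2, Int.ofNat 0, Int.ofNat 0, Int.ofNat 2, Int.negSucc 1, Int.ofNat 0, Int.ofNat 0, Int.ofNat 0, Int.ofNat 0, Int.negSucc 1, Int.ofNat 0, Int.ofNat 0, Int.negSucc 1, Int.ofNat 0, Int.ofNat 0, Int.ofNat 0],
  [Int.ofNat 0, Int.ofNat 2, Int.ofNat 0, Int.ofNat 0, Int.ofNat 2, Int.ofNat 0, Int.ofNat 0, Int.ofNat 2, Int.ofNat 2, Int.ofNat 0, Int.ofNat 0, Int.negSucc 1, Int.negSucc 1, Int.ofNat 0, Int.ofNat 0, Int.ofNat 0, Int.ofNat 0, Int.negSucc 1, Int.ofNat 0, Int.ofNat 0, Int.negSucc 1, Int.ofNat 0, Int.ofNat 0, Int.ofNat 0],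
  [Int.ofNat 0, Int.ofNat 0, Int.ofNat 2, Int.ofNat 0, Int.ofNat 0, Int.ofNat 2, Int.ofNat 0, Int.ofNat 0, Int.ofNat 2, Int.ofNat 2, Int.ofNat 0, Int.ofNat 0, Int.negSucc 1, Int.negSucc 1, Int.ofNat 0, Int.ofNat 0, Int.ofNat 0, Int.ofNat 0, Int.negSucc 1, Int.ofNat 0, Int.ofNat 0, Int.negSucc 1, Int.ofNat 0, Int.ofNat 0],
  [Int.ofNat 1, Int.ofNat 1, Int.negSucc 0, Int.negSucc 0, Int.ofNat 1, Int.ofNat 1, Int.ofNat 1, Int.ofNat 1, Int.ofNat 3, Int.ofNat 1, Int.negSucc 0, Int.ofNat 1, Int.negSucc 0, Int.negSucc 0, Int.negSucc 0, Int.negSucc 0, Int.ofNat 1, Int.negSucc 0, Int.negSucc 0, Int.ofNat 1, Int.negSucc 0, Int.negSucc 0, Int.ofNat 1, Int.ofNat 1],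
  [Int.negSucc 0, Int.ofNat 1, Int.ofNat 1, Int.ofNat 1, Int.ofNat 1, Int.ofNat 3, Int.ofNat 1, Int.negSucc 0, Int.ofNat 1, Int.negSucc 0, Int.negSucc 0, Int.negSucc 0, Int.negSucc 0, Int.ofNat 1, Int.negSucc 0, Int.negSucc 0, Int.ofNat 1, Int.negSucc 0, Int.negSucc 0, Int.ofNat 1, Int.ofNat 1, Int.ofNat 1, Int.negSucc 0, Int.ofNat 1],
  [Int.ofNat 2, Int.ofNat 0, Int.ofNat 0, Int.ofNat 0, Int.ofNat 0, Int.ofNat 2, Int.ofNat 0, Int.negSucc 1, Int.ofNat 2, Int.ofNat 0, Int.ofNat 0, Int.ofNat 0, Int.ofNat 0, Int.ofNat 0, Int.negSucc 1, Int.ofNat 0, Int.ofNat 0, Int.negSucc 1, Int.ofNat 0, Int.ofNat 0, Int.ofNat 2, Int.ofNat 0, Int.negSucc 1, Int.ofNat 0],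
  [Int.ofNat 2, Int.ofNat 0, Int.ofNat 0, Int.ofNat 0, Int.ofNat 0, Int.negSucc 1, Int.ofNat 0, Int.ofNat 0, Int.ofNat 0, Int.ofNat 0, Int.ofNat 2, Int.negSucc 1, Int.ofNat 0, Int.ofNat 0, Int.negSucc 1, Int.ofNat 0, Int.ofNat 2, Int.negSucc 1, Int.ofNat 0, Int.ofNat 0, Int.ofNat 0, Int.ofNat 2, Int.ofNat 0, Int.ofNat 0],
  [Int.negSucc 0, Int.ofNat 1, Int.ofNat 1, Int.ofNat 3, Int.negSucc 0, Int.ofNat 1, Int.negSucc 0, Int.negSucc 0, Int.ofNat 1, Int.negSucc 0, Int.ofNat 1, Int.negSucc 0, Int.ofNat 1, Int.negSucc 0, Int.ofNat 1, Int.negSucc 0, Int.ofNat 1, Int.ofNat 1, Int.ofNat 1, Int.negSucc 0, Int.negSucc 0, Int.ofNat 1, Int.negSucc 0, Int.ofNat 1],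
  [Int.negSucc 0, Int.ofNat 1, Int.negSucc 0, Int.ofNat 3, Int.negSucc 0, Int.negSucc 0, Int.ofNat 1, Int.negSucc 0, Int.ofNat 1, Int.ofNat 1, Int.negSucc 0, Int.negSucc 0, Int.ofNat 1, Int.negSucc 0, Int.ofNat 1, Int.ofNat 1, Int.ofNat 1, Int.ofNat 1, Int.negSucc 0, Int.negSucc 0, Int.negSucc 0, Int.ofNat 1, Int.ofNat 1, Int.ofNat 1],
  [Int.ofNat 1, Int.negSucc 0, Int.negSucc 0, Int.ofNat 1, Int.ofNat 1, Int.negSucc 0, Int.negSucc 0, Int.ofNat 1, Int.ofNat 1, Int.negSucc 0, Int.negSucc 0, Int.ofNat 1, Int.negSucc 0, Int.negSucc 0, Int.negSucc 0, Int.ofNat 1, Int.negSucc 0, Int.ofNat 1, Int.ofNat 3, Int.negSucc 0, Int.ofNat 1, Int.ofNat 1, Int.ofNat 1, Int.ofNat 1],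
  [Int.ofNat 1, Int.negSucc 0, Int.ofNat 1, Int.ofNat 1, Int.ofNat 1, Int.ofNat 1, Int.ofNat 1, Int.ofNat 1, Int.ofNat 1, Int.ofNat 1, Int.ofNat 1, Int.ofNat 1, Int.negSucc 0, Int.negSucc 0, Int.negSucc 0, Int.negSucc 0, Int.negSucc 0, Int.ofNat 1, Int.negSucc 2, Int.negSucc 0, Int.ofNat 1, Int.ofNat 1, Int.negSucc 0, Int.ofNat 1],
  [Int.ofNat 0, Int.ofNat 2, Int.ofNat 0, Int.ofNat 0, Int.ofNat 2, Int.ofNat 0, Int.ofNat 0, Int.ofNat 0, Int.ofNat 2, Int.ofNat 0, Int.ofNat 0, Int.ofNat 2, Int.ofNat 0, Int.ofNat 0, Int.negSucc 1, Int.negSucc 1, Int.ofNat 0, Int.ofNat 0, Int.negSucc 1, Int.negSucc 1, Int.ofNat 0, Int.ofNat 0, Int.ofNat 0, Int.ofNat 0],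
  [Int.ofNat 0, Int.negSucc 1, Int.ofNat 0, Int.ofNat 0, Int.ofNat 0, Int.ofNat 0, Int.ofNat 2, Int.ofNat 0, Int.ofNat 0, Int.ofNat 0, Int.ofNat 0, Int.negSucc 1, Int.ofNat 2, Int.ofNat 0, Int.ofNat 0, Int.negSucc 1, Int.ofNat 0, Int.ofNat 2, Int.ofNat 2, Int.ofNat 0, Int.ofNat 0, Int.ofNat 0, Int.negSucc 1, Int.ofNat 0],
  [Int.negSucc 0, Int.ofNat 1, Int.negSucc 0, Int.negSucc 0, Int.ofNat 1, Int.negSucc 0, Int.ofNat 1, Int.negSucc 0, Int.negSucc 0, Int.ofNat 1, Int.ofNat 1, Int.negSucc 2, Int.ofNat 1, Int.ofNat 1, Int.negSucc 0, Int.negSucc 0, Int.ofNat 1, Int.ofNat 1, Int.ofNat 1, Int.negSucc 0, Int.ofNat 1, Int.negSucc 0, Int.negSucc 0, Int.negSucc 0],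
  [Int.ofNat 1, Int.negSucc 0, Int.negSucc 0, Int.negSucc 0, Int.ofNat 1, Int.negSucc 0, Int.negSucc 0, Int.ofNat 1, Int.negSucc 0, Int.ofNat 1, Int.negSucc 0, Int.negSucc 0, Int.ofNat 1, Int.ofNat 1, Int.negSucc 2, Int.ofNat 1, Int.ofNat 1, Int.negSucc 0, Int.negSucc 0, Int.ofNat 1, Int.ofNat 1, Int.ofNat 1, Int.negSucc 0, Int.negSucc 0],
  [Int.negSucc 1, Int.ofNat 0, Int.ofNat 0, Int.ofNat 2, Int.ofNat 0, Int.ofNat 2, Int.negSucc 1, Int.ofNat 0, Int.ofNat 0, Int.ofNat 0, Int.negSucc 1, Int.ofNat 0, Int.ofNat 2, Int.ofNat 0, Int.ofNat 0, Int.ofNat 0, Int.ofNat 0, Int.ofNat 2, Int.ofNat 0, Int.ofNat 0, Int.ofNat 0, Int.ofNat 0, Int.negSucc 1, Int.ofNat 0],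
  [Int.ofNat 0, Int.ofNat 0, Int.ofNat 2, Int.ofNat 0, Int.ofNat 2, Int.negSucc 1, Int.ofNat 0, Int.ofNat 0, Int.ofNat 0, Int.negSucc 1, Int.ofNat 0, Int.ofNat 2, Int.ofNat 0, Int.ofNat 0, Int.ofNat 0, Int.ofNat 0, Int.ofNat 2, Int.ofNat 0, Int.ofNat 0, Int.ofNat 0, Int.ofNat 0, Int.negSucc 1, Int.negSucc 1, Int.ofNat 0],
  [Int.ofNat 0, Int.ofNat 0, Int.negSucc 1, Int.ofNat 0, Int.ofNat 2, Int.negSucc 1, Int.ofNat 0, Int.ofNat 0, Int.ofNat 0, Int.ofNat 2, Int.ofNat 0, Int.negSucc 1, Int.ofNat 0, Int.ofNat 0, Int.ofNat 0, Int.ofNat 0, Int.ofNat 2, Int.ofNat 0, Int.ofNat 0, Int.ofNat 0, Int.ofNat 0, Int.ofNat 2, Int.negSucc 1, Int.ofNat 0],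
  [Int.ofNat 0, Int.ofNat 0, Int.ofNat 2, Int.ofNat 0, Int.negSucc 1, Int.negSucc 1, Int.ofNat 0, Int.ofNat 0, Int.ofNat 0, Int.negSucc 1, Int.ofNat 0, Int.negSucc 1, Int.ofNat 0, Int.ofNat 0, Int.ofNat 0, Int.ofNat 0, Int.negSucc 1, Int.ofNat 0, Int.ofNat 0, Int.ofNat 0, Int.ofNat 0, Int.ofNat 2, Int.negSucc 1, Int.ofNat 0],
  [Int.ofNat 0, Int.negSucc 1, Int.negSucc 1, Int.ofNat 0, Int.ofNat 0, Int.negSucc 1, Int.ofNat 0, Int.ofNat 0, Int.ofNat 0, Int.negSucc 1, Int.negSucc 1, Int.ofNat 2, Int.ofNat 2, Int.ofNat 0, Int.ofNat 0, Int.ofNat 0, Int.ofNat 0, Int.negSucc 1, Int.ofNat 0, Int.ofNat 0, Int.ofNat 0, Int.ofNat 0, Int.ofNat 0, Int.ofNat 0],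
  [Int.ofNat 0, Int.negSucc 1, Int.ofNat 2, Int.ofNat 0, Int.ofNat 0, Int.negSucc 1, Int.ofNat 0, Int.ofNat 0, Int.ofNat 0, Int.ofNat 2, Int.ofNat 2, Int.negSucc 1, Int.ofNat 2, Int.ofNat 0, Int.ofNat 0, Int.ofNat 0, Int.ofNat 0, Int.negSucc 1, Int.ofNat 0, Int.ofNat 0, Int.ofNat 0, Int.ofNat 0, Int.ofNat 0, Int.ofNat 0],
  [Int.ofNat 0, Int.ofNat 0, Int.negSucc 1, Int.ofNat 2, Int.ofNat 0, Int.ofNat 0, Int.negSucc 1, Int.ofNat 0, Int.ofNat 0, Int.ofNat 0, Int.ofNat 2, Int.ofNat 2, Int.negSucc 1, Int.ofNat 2, Int.ofNat 0, Int.ofNat 0, Int.ofNat 0, Int.ofNat 0, Int.negSucc 1, Int.ofNat 0, Int.ofNat 0, Int.ofNat 0, Int.ofNat 0, Int.ofNat 0],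
  [Int.negSucc 0, Int.negSucc 0, Int.ofNat 1, Int.ofNat 1, Int.negSucc 0, Int.negSucc 0, Int.negSucc 0, Int.ofNat 1, Int.ofNat 1, Int.negSucc 0, Int.ofNat 1, Int.ofNat 3, Int.negSucc 0, Int.ofNat 1, Int.negSucc 0, Int.negSucc 0, Int.negSucc 0, Int.negSucc 0, Int.negSucc 0, Int.ofNat 1, Int.negSucc 0, Int.ofNat 1, Int.negSucc 0, Int.negSucc 0],
  [Int.ofNat 1, Int.negSucc 0, Int.negSucc 0, Int.negSucc 0, Int.ofNat 1, Int.ofNat 1, Int.negSucc 0, Int.ofNat 1, Int.ofNat 3, Int.negSucc 0, Int.ofNat 1, Int.negSucc 0, Int.negSucc 0, Int.negSucc 0, Int.negSucc 0, Int.negSucc 0, Int.ofNat 1, Int.negSucc 0, Int.ofNat 1, Int.negSucc 0, Int.negSucc 0, Int.negSucc 0, Int.ofNat 1, Int.negSucc 0],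
  [Int.negSucc 1, Int.ofNat 0, Int.ofNat 0, Int.ofNat 0, Int.ofNat 0, Int.ofNat 2, Int.ofNat 0, Int.ofNat 2, Int.ofNat 2, Int.ofNat 0, Int.ofNat 2, Int.negSucc 1, Int.negSucc 1, Int.negSucc 1, Int.ofNat 0, Int.ofNat 0, Int.ofNat 0, Int.ofNat 0, Int.ofNat 0, Int.ofNat 0, Int.ofNat 0, Int.ofNat 0, Int.ofNat 0, Int.ofNat 0],
  [Int.negSucc 1, Int.ofNat 0, Int.ofNat 0, Int.ofNat 0, Int.ofNat 0, Int.ofNat 2, Int.ofNat 0, Int.ofNat 2, Int.negSucc 1, Int.negSucc 1, Int.ofNat 0, Int.ofNat 0, Int.ofNat 0, Int.ofNat 0, Int.ofNat 0, Int.ofNat 0, Int.ofNat 2, Int.ofNat 0, Int.ofNat 0, Int.negSucc 1, Int.ofNat 0, Int.ofNat 2, Int.ofNat 0, Int.ofNat 0],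
  [Int.ofNat 1, Int.negSucc 0, Int.negSucc 0, Int.negSucc 0, Int.negSucc 0, Int.ofNat 1, Int.negSucc 0, Int.ofNat 1, Int.negSucc 0, Int.negSucc 0, Int.ofNat 1, Int.ofNat 1, Int.ofNat 1, Int.negSucc 0, Int.negSucc 0, Int.ofNat 1, Int.ofNat 1, Int.negSucc 0, Int.ofNat 1, Int.negSucc 2, Int.ofNat 1, Int.ofNat 1, Int.negSucc 0, Int.negSucc 0],
  [Int.ofNat 1, Int.negSucc 0, Int.ofNat 1, Int.negSucc 0, Int.negSucc 0, Int.negSucc 0, Int.ofNat 1, Int.ofNat 1, Int.negSucc 0, Int.ofNat 1, Int.negSucc 0, Int.ofNat 1, Int.ofNat 1, Int.negSucc 0, Int.negSucc 0, Int.negSucc 0, Int.ofNat 1, Int.negSucc 0, Int.negSucc 0, Int.negSucc 2, Int.ofNat 1, Int.ofNat 1, Int.ofNat 1, Int.negSucc 0],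
  [Int.negSucc 0, Int.negSucc 0, Int.ofNat 1, Int.ofNat 1, Int.ofNat 1, Int.negSucc 0, Int.ofNat 1, Int.negSucc 0, Int.ofNat 1, Int.negSucc 0, Int.negSucc 0, Int.ofNat 1, Int.ofNat 1, Int.ofNat 1, Int.ofNat 1, Int.negSucc 0, Int.negSucc 2, Int.ofNat 1, Int.negSucc 0, Int.negSucc 0, Int.ofNat 1, Int.negSucc 0, Int.negSucc 0, Int.negSucc 0],
  [Int.negSucc 0, Int.negSucc 0, Int.negSucc 0, Int.ofNat 1, Int.ofNat 1, Int.ofNat 1, Int.negSucc 0, Int.negSucc 0, Int.ofNat 1, Int.ofNat 1, Int.ofNat 1, Int.ofNat 1, Int.ofNat 1, Int.ofNat 1, Int.ofNat 1, Int.ofNat 1, Int.negSucc 2, Int.ofNat 1, Int.ofNat 1, Int.negSucc 0, Int.ofNat 1, Int.negSucc 0, Int.ofNat 1, Int.negSucc 0],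
  [Int.negSucc 0, Int.negSucc 0, Int.negSucc 0, Int.negSucc 0, Int.ofNat 1, Int.negSucc 0, Int.ofNat 1, Int.ofNat 1, Int.negSucc 0, Int.negSucc 0, Int.negSucc 0, Int.negSucc 0, Int.negSucc 0, Int.ofNat 1, Int.negSucc 0, Int.negSucc 0, Int.negSucc 2, Int.negSucc 0, Int.negSucc 0, Int.ofNat 1, Int.negSucc 0, Int.ofNat 1, Int.ofNat 1, Int.negSucc 0],
  [Int.negSucc 0, Int.negSucc 0, Int.ofNat 1, Int.negSucc 0, Int.negSucc 0, Int.ofNat 1, Int.negSucc 0, Int.negSucc 0, Int.negSucc 2, Int.negSucc 0, Int.ofNat 1, Int.ofNat 1, Int.negSucc 0, Int.negSucc 0, Int.negSucc 0, Int.negSucc 0, Int.ofNat 1, Int.negSucc 0, Int.ofNat 1, Int.ofNat 1, Int.negSucc 0, Int.negSucc 0, Int.negSucc 0, Int.negSucc 0],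
  [Int.ofNat 0, Int.ofNat 0, Int.negSucc 1, Int.ofNat 0, Int.ofNat 0, Int.ofNat 2, Int.ofNat 0, Int.ofNat 0, Int.negSucc 1, Int.ofNat 0, Int.ofNat 2, Int.ofNat 2, Int.ofNat 0, Int.ofNat 0, Int.ofNat 0, Int.ofNat 0, Int.ofNat 2, Int.ofNat 0, Int.ofNat 2, Int.ofNat 2, Int.ofNat 0, Int.ofNat 0, Int.ofNat 0, Int.ofNat 0],
  [Int.ofNat 0, Int.ofNat 0, Int.ofNat 0, Int.ofNat 0, Int.ofNat 0, Int.negSucc 1, Int.ofNat 0, Int.ofNat 0, Int.ofNat 2, Int.ofNat 0, Int.ofNat 0, Int.negSucc 1, Int.ofNat 0, Int.ofNat 2, Int.ofNat 2, Int.ofNat 0, Int.ofNat 0, Int.ofNat 0, Int.ofNat 0, Int.ofNat 2, Int.ofNat 0, Int.ofNat 2, Int.ofNat 2, Int.ofNat 0],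
  [Int.ofNat 0, Int.ofNat 0, Int.ofNat 0, Int.ofNat 0, Int.negSucc 1, Int.negSucc 1, Int.negSucc 1, Int.negSucc 1, Int.ofNat 2, Int.ofNat 0, Int.ofNat 0, Int.negSucc 1, Int.ofNat 0, Int.ofNat 0, Int.ofNat 2, Int.ofNat 0, Int.negSucc 1, Int.ofNat 0, Int.ofNat 0, Int.ofNat 0, Int.ofNat 0, Int.ofNat 0, Int.ofNat 0, Int.ofNat 0],
  [Int.ofNat 0, Int.ofNat 0, Int.ofNat 0, Int.negSucc 1, Int.negSucc 1, Int.negSucc 1, Int.negSucc 1, Int.ofNat 2, Int.ofNat 0, Int.ofNat 0, Int.negSucc 1, Int.ofNat 0, Int.ofNat 0, Int.ofNat 2, Int.ofNat 0, Int.negSucc 1, Int.ofNat 0, Int.ofNat 0, Int.ofNat 0, Int.ofNat 0, Int.ofNat 0, Int.ofNat 0, Int.ofNat 0, Int.ofNat 0],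
  [Int.ofNat 0, Int.ofNat 0, Int.ofNat 0, Int.negSucc 1, Int.negSucc 1, Int.negSucc 1, Int.negSucc 1, Int.negSucc 1, Int.ofNat 0, Int.ofNat 0, Int.ofNat 2, Int.ofNat 0, Int.ofNat 0, Int.ofNat 2, Int.ofNat 0, Int.negSucc 1, Int.ofNat 0, Int.ofNat 0, Int.ofNat 0, Int.ofNat 0, Int.ofNat 0, Int.ofNat 0, Int.ofNat 0, Int.ofNat 0],
  [Int.ofNat 0, Int.ofNat 0, Int.ofNat 0, Int.ofNat 2, Int.ofNat 2, Int.negSucc 1, Int.ofNat 2, Int.negSucc 1, Int.ofNat 0, Int.ofNat 0, Int.ofNat 2, Int.ofNat 0, Int.ofNat 0, Int.negSucc 1, Int.ofNat 0, Int.negSucc 1, Int.ofNat 0, Int.ofNat 0, Int.ofNat 0, Int.ofNat 0, Int.ofNat 0, Int.ofNat 0, Int.ofNat 0, Int.ofNat 0],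
  [Int.ofNat 0, Int.ofNat 0, Int.ofNat 0, Int.negSucc 1, Int.ofNat 0, Int.ofNat 0, Int.ofNat 0, Int.negSucc 1, Int.ofNat 0, Int.negSucc 1, Int.ofNat 0, Int.ofNat 0, Int.ofNat 0, Int.negSucc 1, Int.ofNat 0, Int.ofNat 2, Int.ofNat 2, Int.ofNat 2, Int.ofNat 0, Int.ofNat 2, Int.ofNat 0, Int.ofNat 0, Int.ofNat 0, Int.ofNat 0],
  [Int.ofNat 0, Int.ofNat 0, Int.ofNat 0, Int.negSucc 1, Int.ofNat 0, Int.ofNat 0, Int.ofNat 0, Int.ofNat 2, Int.ofNat 0, Int.ofNat 2, Int.ofNat 0, Int.ofNat 0, Int.ofNat 0, Int.negSucc 1, Int.ofNat 0, Int.ofNat 2, Int.ofNat 2, Int.ofNat 2, Int.ofNat 0, Int.ofNat 2, Int.ofNat 0, Int.ofNat 0, Int.ofNat 0, Int.ofNat 0],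
  [Int.ofNat 0, Int.ofNat 0, Int.ofNat 0, Int.ofNat 0, Int.negSucc 1, Int.ofNat 0, Int.ofNat 0, Int.ofNat 0, Int.ofNat 2, Int.ofNat 0, Int.ofNat 2, Int.ofNat 0, Int.ofNat 0, Int.ofNat 0, Int.negSucc 1, Int.ofNat 0, Int.ofNat 2, Int.ofNat 2, Int.ofNat 2, Int.ofNat 0, Int.ofNat 2, Int.ofNat 0, Int.ofNat 0, Int.ofNat 0],
  [Int.ofNat 0, Int.ofNat 0, Int.ofNat 0, Int.ofNat 0, Int.negSucc 1, Int.ofNat 0, Int.ofNat 0, Int.ofNat 0, Int.ofNat 0, Int.negSucc 1, Int.ofNat 0, Int.negSucc 1, Int.negSucc 1, Int.ofNat 0, Int.negSucc 1, Int.negSucc 1, Int.ofNat 2, Int.ofNat 2, Int.ofNat 0, Int.ofNat 0, Int.ofNat 0, Int.ofNat 0, Int.ofNat 0, Int.ofNat 0],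
  [Int.ofNat 0, Int.negSucc 1, Int.ofNat 0, Int.ofNat 0, Int.ofNat 0, Int.ofNat 0, Int.negSucc 1, Int.ofNat 0, Int.negSucc 1, Int.negSucc 1, Int.ofNat 0, Int.negSucc 1, Int.negSucc 1, Int.ofNat 2, Int.ofNat 2, Int.ofNat 0, Int.ofNat 0, Int.ofNat 0, Int.ofNat 0, Int.ofNat 0, Int.ofNat 0, Int.ofNat 0, Int.ofNat 0, Int.ofNat 0],
  [Int.negSucc 0, Int.ofNat 1, Int.negSucc 0, Int.negSucc 0, Int.negSucc 0, Int.negSucc 0, Int.negSucc 0, Int.ofNat 1, Int.ofNat 1, Int.negSucc 0, Int.ofNat 1, Int.ofNat 1, Int.ofNat 1, Int.ofNat 1, Int.ofNat 1, Int.ofNat 1, Int.negSucc 0, Int.negSucc 0, Int.ofNat 3, Int.ofNat 1, Int.ofNat 1, Int.ofNat 1, Int.negSucc 0, Int.negSucc 0],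
  [Int.negSucc 0, Int.negSucc 0, Int.negSucc 0, Int.negSucc 0, Int.ofNat 3, Int.ofNat 1, Int.negSucc 0, Int.ofNat 1, Int.ofNat 1, Int.ofNat 1, Int.ofNat 1, Int.negSucc 0, Int.negSucc 0, Int.negSucc 0, Int.negSucc 0, Int.ofNat 1, Int.ofNat 1, Int.ofNat 1, Int.ofNat 1, Int.ofNat 1, Int.ofNat 1, Int.negSucc 0, Int.ofNat 1, Int.negSucc 0],
  [Int.negSucc 0, Int.negSucc 0, Int.negSucc 0, Int.negSucc 0, Int.ofNat 1, Int.ofNat 1, Int.negSucc 0, Int.ofNat 1, Int.ofNat 1, Int.negSucc 0, Int.negSucc 0, Int.negSucc 0, Int.negSucc 0, Int.negSucc 2, Int.negSucc 0, Int.negSucc 0, Int.negSucc 0, Int.ofNat 1, Int.ofNat 1, Int.ofNat 1, Int.negSucc 0, Int.negSucc 0, Int.negSucc 0, Int.negSucc 0],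
  [Int.negSucc 0, Int.negSucc 0, Int.ofNat 1, Int.negSucc 0, Int.ofNat 1, Int.negSucc 0, Int.ofNat 1, Int.ofNat 1, Int.ofNat 1, Int.ofNat 1, Int.ofNat 1, Int.negSucc 0, Int.negSucc 0, Int.negSucc 2, Int.negSucc 0, Int.ofNat 1, Int.negSucc 0, Int.ofNat 1, Int.negSucc 0, Int.ofNat 1, Int.negSucc 0, Int.negSucc 0, Int.ofNat 1, Int.negSucc 0],
  [Int.ofNat 1, Int.ofNat 1, Int.ofNat 1, Int.ofNat 1, Int.ofNat 1, Int.ofNat 1, Int.negSucc 0, Int.ofNat 1, Int.ofNat 1, Int.negSucc 2, Int.negSucc 0, Int.negSucc 0, Int.negSucc 0, Int.negSucc 0, Int.ofNat 1, Int.negSucc 0, Int.ofNat 1, Int.negSucc 0, Int.negSucc 0, Int.negSucc 0, Int.negSucc 0, Int.negSucc 0, Int.ofNat 1, Int.negSucc 0],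
  [Int.ofNat 1, Int.ofNat 1, Int.negSucc 0, Int.ofNat 1, Int.ofNat 1, Int.negSucc 0, Int.ofNat 1, Int.ofNat 1, Int.ofNat 1, Int.ofNat 3, Int.ofNat 1, Int.negSucc 0, Int.negSucc 0, Int.negSucc 0, Int.ofNat 1, Int.ofNat 1, Int.ofNat 1, Int.negSucc 0, Int.ofNat 1, Int.negSucc 0, Int.negSucc 0, Int.negSucc 0, Int.negSucc 0, Int.negSucc 0],
  [Int.negSucc 0, Int.negSucc 0, Int.ofNat 1, Int.ofNat 1, Int.ofNat 1, Int.negSucc 0, Int.ofNat 1, Int.ofNat 1, Int.ofNat 1, Int.ofNat 1, Int.negSucc 0, Int.negSucc 0, Int.negSucc 0, Int.negSucc 0, Int.ofNat 1, Int.negSucc 0, Int.ofNat 1, Int.negSucc 0, Int.ofNat 1, Int.negSucc 0, Int.negSucc 2, Int.negSucc 0, Int.negSucc 0, Int.ofNat 1],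
  [Int.negSucc 0, Int.ofNat 1, Int.ofNat 1, Int.ofNat 1, Int.ofNat 1, Int.negSucc 0, Int.negSucc 0, Int.negSucc 0, Int.ofNat 1, Int.negSucc 0, Int.ofNat 1, Int.negSucc 0, Int.ofNat 1, Int.ofNat 1, Int.negSucc 0, Int.negSucc 0, Int.negSucc 0, Int.negSucc 0, Int.ofNat 1, Int.negSucc 0, Int.negSucc 0, Int.negSucc 2, Int.ofNat 1, Int.ofNat 1],
  [Int.ofNat 2, Int.ofNat 0, Int.ofNat 0, Int.ofNat 2, Int.ofNat 0, Int.ofNat 0, Int.ofNat 2, Int.ofNat 2, Int.ofNat 0, Int.ofNat 0, Int.ofNat 2, Int.negSucc 1, Int.ofNat 0, Int.ofNat 0, Int.ofNat 0, Int.ofNat 0, Int.negSucc 1, Int.ofNat 0, Int.ofNat 0, Int.ofNat 2, Int.ofNat 0, Int.ofNat 0, Int.ofNat 0, Int.ofNat 0],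
  [Int.ofNat 0, Int.ofNat 0, Int.ofNat 0, Int.ofNat 2, Int.ofNat 0, Int.ofNat 0, Int.ofNat 2, Int.ofNat 0, Int.ofNat 0, Int.ofNat 2, Int.ofNat 2, Int.ofNat 0, Int.ofNat 0, Int.ofNat 2, Int.negSucc 1, Int.ofNat 0, Int.ofNat 0, Int.ofNat 0, Int.ofNat 0, Int.negSucc 1, Int.ofNat 0, Int.ofNat 0, Int.ofNat 2, Int.ofNat 0],
  [Int.ofNat 0, Int.ofNat 0, Int.ofNat 0, Int.ofNat 2, Int.negSucc 1, Int.ofNat 0, Int.ofNat 2, Int.ofNat 0, Int.ofNat 0, Int.ofNat 0, Int.ofNat 0, Int.ofNat 0, Int.ofNat 0, Int.ofNat 0, Int.negSucc 1, Int.negSucc 1, Int.negSucc 1, Int.ofNat 0, Int.ofNat 0, Int.negSucc 1, Int.negSucc 1, Int.ofNat 0, Int.ofNat 0, Int.ofNat 0],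
  [Int.ofNat 0, Int.ofNat 0, Int.ofNat 2, Int.negSucc 1, Int.ofNat 0, Int.ofNat 2, Int.ofNat 0, Int.ofNat 0, Int.ofNat 0, Int.ofNat 0, Int.ofNat 0, Int.ofNat 0, Int.ofNat 0, Int.negSucc 1, Int.negSucc 1, Int.negSucc 1, Int.ofNat 0, Int.ofNat 0, Int.negSucc 1, Int.negSucc 1, Int.ofNat 0, Int.ofNat 0, Int.ofNat 0, Int.ofNat 0],
  [Int.ofNat 0, Int.ofNat 0, Int.negSucc 1, Int.negSucc 1, Int.ofNat 0, Int.ofNat 2, Int.ofNat 0, Int.ofNat 0, Int.ofNat 0, Int.ofNat 0, Int.ofNat 0, Int.ofNat 0, Int.ofNat 0, Int.negSucc 1, Int.negSucc 1, Int.negSucc 1, Int.ofNat 0, Int.ofNat 0, Int.ofNat 2, Int.negSucc 1, Int.ofNat 0, Int.ofNat 0, Int.ofNat 0, Int.ofNat 0],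
  [Int.ofNat 0, Int.ofNat 0, Int.ofNat 2, Int.ofNat 2, Int.ofNat 0, Int.ofNat 2, Int.ofNat 0, Int.ofNat 0, Int.ofNat 0, Int.ofNat 0, Int.ofNat 0, Int.ofNat 0, Int.ofNat 0, Int.ofNat 2, Int.negSucc 1, Int.negSucc 1, Int.ofNat 0, Int.ofNat 0, Int.negSucc 1, Int.negSucc 1, Int.ofNat 0, Int.ofNat 0, Int.ofNat 0, Int.ofNat 0],
  [Int.ofNat 0, Int.ofNat 0, Int.ofNat 0, Int.negSucc 1, Int.ofNat 0, Int.ofNat 0, Int.negSucc 1, Int.ofNat 2, Int.ofNat 0, Int.ofNat 2, Int.ofNat 0, Int.ofNat 2, Int.ofNat 0, Int.ofNat 0, Int.negSucc 1, Int.ofNat 2, Int.ofNat 0, Int.ofNat 0, Int.negSucc 1, Int.ofNat 0, Int.ofNat 0, Int.ofNat 0, Int.ofNat 0, Int.ofNat 0],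
  [Int.ofNat 0, Int.ofNat 0, Int.ofNat 0, Int.negSucc 1, Int.ofNat 0, Int.ofNat 0, Int.negSucc 1, Int.negSucc 1, Int.ofNat 0, Int.negSucc 1, Int.ofNat 0, Int.negSucc 1, Int.ofNat 0, Int.ofNat 0, Int.negSucc 1, Int.ofNat 2, Int.ofNat 0, Int.ofNat 0, Int.ofNat 2, Int.ofNat 0, Int.ofNat 0, Int.ofNat 0, Int.ofNat 0, Int.ofNat 0],
  [Int.ofNat 0, Int.ofNat 0, Int.ofNat 0, Int.ofNat 0, Int.negSucc 1, Int.ofNat 0, Int.ofNat 0, Int.negSucc 1, Int.negSucc 1, Int.ofNat 0, Int.negSucc 1, Int.ofNat 0, Int.negSucc 1, Int.ofNat 0, Int.ofNat 0, Int.negSucc 1, Int.ofNat 2, Int.ofNat 0, Int.ofNat 0, Int.ofNat 2, Int.ofNat 0, Int.ofNat 0, Int.ofNat 0, Int.ofNat 0],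
  [Int.ofNat 0, Int.ofNat 0, Int.ofNat 0, Int.ofNat 0, Int.negSucc 1, Int.ofNat 0, Int.ofNat 0, Int.negSucc 1, Int.ofNat 0, Int.ofNat 2, Int.ofNat 0, Int.ofNat 2, Int.ofNat 0, Int.ofNat 0, Int.ofNat 0, Int.ofNat 0, Int.ofNat 2, Int.ofNat 0, Int.ofNat 2, Int.ofNat 2, Int.ofNat 2, Int.ofNat 0, Int.ofNat 0, Int.ofNat 0],
  [Int.ofNat 0, Int.negSucc 1, Int.ofNat 0, Int.ofNat 0, Int.negSucc 1, Int.ofNat 0, Int.ofNat 2, Int.ofNat 0, Int.ofNat 2, Int.ofNat 0, Int.ofNat 0, Int.ofNat 0, Int.ofNat 0, Int.ofNat 2, Int.ofNat 0, Int.ofNat 2, Int.ofNat 2, Int.ofNat 2, Int.ofNat 0, Int.ofNat 0, Int.ofNat 0, Int.ofNat 0, Int.ofNat 0, Int.ofNat 0],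
  [Int.negSucc 0, Int.ofNat 1, Int.negSucc 0, Int.negSucc 0, Int.negSucc 2, Int.negSucc 0, Int.ofNat 1, Int.negSucc 0, Int.ofNat 1, Int.negSucc 0, Int.negSucc 0, Int.negSucc 0, Int.negSucc 0, Int.ofNat 1, Int.negSucc 0, Int.ofNat 1, Int.ofNat 1, Int.ofNat 1, Int.negSucc 0, Int.negSucc 0, Int.negSucc 0, Int.negSucc 0, Int.negSucc 0, Int.negSucc 0],
  [Int.negSucc 0, Int.ofNat 1, Int.negSucc 2, Int.negSucc 0, Int.negSucc 0, Int.negSucc 0, Int.negSucc 0, Int.negSucc 0, Int.negSucc 0, Int.ofNat 1, Int.negSucc 0, Int.ofNat 1, Int.negSucc 0, Int.ofNat 1, Int.negSucc 0, Int.ofNat 1, Int.ofNat 1, Int.negSucc 0, Int.ofNat 1, Int.negSucc 0, Int.negSucc 0, Int.negSucc 0, Int.negSucc 0, Int.negSucc 0],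
  [Int.negSucc 0, Int.negSucc 2, Int.ofNat 1, Int.ofNat 1, Int.negSucc 0, Int.ofNat 1, Int.ofNat 1, Int.ofNat 1, Int.negSucc 0, Int.ofNat 1, Int.negSucc 0, Int.ofNat 1, Int.negSucc 0, Int.ofNat 1, Int.ofNat 1, Int.ofNat 1, Int.ofNat 1, Int.ofNat 1, Int.ofNat 1, Int.ofNat 1, Int.negSucc 0, Int.ofNat 1, Int.negSucc 0, Int.negSucc 0],
  [Int.negSucc 0, Int.negSucc 2, Int.negSucc 0, Int.ofNat 1, Int.negSucc 0, Int.negSucc 0, Int.negSucc 0, Int.ofNat 1, Int.negSucc 0, Int.negSucc 0, Int.ofNat 1, Int.ofNat 1, Int.negSucc 0, Int.ofNat 1, Int.ofNat 1, Int.negSucc 0, Int.ofNat 1, Int.ofNat 1, Int.negSucc 0, Int.ofNat 1, Int.negSucc 0, Int.ofNat 1, Int.ofNat 1, Int.negSucc 0],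
  [Int.negSucc 0, Int.negSucc 0, Int.ofNat 1, Int.ofNat 1, Int.negSucc 0, Int.ofNat 1, Int.negSucc 0, Int.negSucc 0, Int.negSucc 0, Int.ofNat 1, Int.negSucc 0, Int.negSucc 0, Int.negSucc 0, Int.ofNat 1, Int.negSucc 0, Int.ofNat 1, Int.ofNat 1, Int.ofNat 1, Int.ofNat 1, Int.negSucc 0, Int.ofNat 1, Int.negSucc 2, Int.ofNat 1, Int.negSucc 0],
  [Int.negSucc 0, Int.negSucc 0, Int.negSucc 0, Int.ofNat 1, Int.negSucc 0, Int.negSucc 0, Int.ofNat 1, Int.negSucc 0, Int.negSucc 0, Int.negSucc 0, Int.ofNat 1, Int.negSucc 0, Int.negSucc 0, Int.ofNat 1, Int.negSucc 0, Int.negSucc 0, Int.ofNat 1, Int.ofNat 1, Int.negSucc 0, Int.negSucc 0, Int.ofNat 1, Int.negSucc 2, Int.negSucc 0, Int.negSucc 0],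
  [Int.negSucc 0, Int.negSucc 0, Int.negSucc 0, Int.ofNat 1, Int.negSucc 0, Int.negSucc 0, Int.ofNat 3, Int.ofNat 1, Int.ofNat 1, Int.negSucc 0, Int.ofNat 1, Int.ofNat 1, Int.ofNat 1, Int.ofNat 1, Int.negSucc 0, Int.negSucc 0, Int.ofNat 1, Int.ofNat 1, Int.ofNat 1, Int.ofNat 1, Int.ofNat 1, Int.negSucc 0, Int.negSucc 0, Int.negSucc 0],
  [Int.negSucc 0, Int.ofNat 1, Int.ofNat 3, Int.ofNat 1, Int.negSucc 0, Int.negSucc 0, Int.negSucc 0, Int.negSucc 0, Int.ofNat 1, Int.ofNat 1, Int.ofNat 1, Int.ofNat 1, Int.ofNat 1, Int.negSucc 0, Int.ofNat 1, Int.negSucc 0, Int.ofNat 1, Int.ofNat 1, Int.negSucc 0, Int.negSucc 0, Int.ofNat 1, Int.ofNat 1, Int.negSucc 0, Int.negSucc 0],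
  [Int.ofNat 2, Int.ofNat 0, Int.negSucc 1, Int.ofNat 0, Int.ofNat 0, Int.negSucc 1, Int.ofNat 0, Int.ofNat 0, Int.ofNat 0, Int.ofNat 0, Int.ofNat 0, Int.ofNat 0, Int.ofNat 0, Int.ofNat 0, Int.ofNat 0, Int.negSucc 1, Int.ofNat 2, Int.ofNat 0, Int.negSucc 1, Int.ofNat 0, Int.ofNat 0, Int.ofNat 2, Int.ofNat 0, Int.ofNat 2],
  [Int.ofNat 0, Int.ofNat 2, Int.ofNat 0, Int.ofNat 2, Int.ofNat 0, Int.negSucc 1, Int.ofNat 0, Int.ofNat 0, Int.negSucc 1, Int.ofNat 0, Int.ofNat 0, Int.ofNat 0, Int.ofNat 0, Int.ofNat 0, Int.ofNat 0, Int.ofNat 0, Int.ofNat 0, Int.ofNat 0, Int.negSucc 1, Int.ofNat 2, Int.ofNat 0, Int.negSucc 1, Int.ofNat 0, Int.ofNat 2],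
  [Int.ofNat 2, Int.ofNat 0, Int.ofNat 2, Int.ofNat 2, Int.ofNat 0, Int.negSucc 1, Int.ofNat 0, Int.ofNat 0, Int.ofNat 0, Int.ofNat 0, Int.ofNat 0, Int.ofNat 2, Int.ofNat 2, Int.ofNat 0, Int.ofNat 0, Int.ofNat 0, Int.ofNat 0, Int.ofNat 0, Int.ofNat 0, Int.ofNat 2, Int.ofNat 0, Int.negSucc 1, Int.ofNat 0, Int.ofNat 0],
  [Int.ofNat 0, Int.ofNat 2, Int.ofNat 2, Int.ofNat 0, Int.negSucc 1, Int.ofNat 0, Int.ofNat 0, Int.ofNat 0, Int.ofNat 0, Int.ofNat 0, Int.ofNat 2, Int.ofNat 2, Int.ofNat 0, Int.ofNat 0, Int.ofNat 0, Int.ofNat 0, Int.ofNat 0, Int.ofNat 0, Int.ofNat 2, Int.ofNat 0, Int.negSucc 1, Int.ofNat 0, Int.ofNat 2, Int.ofNat 0],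
  [Int.ofNat 0, Int.ofNat 2, Int.negSucc 1, Int.ofNat 0, Int.negSucc 1, Int.ofNat 0, Int.ofNat 0, Int.ofNat 0, Int.ofNat 0, Int.ofNat 0, Int.negSucc 1, Int.negSucc 1, Int.ofNat 0, Int.ofNat 0, Int.ofNat 0, Int.ofNat 0, Int.ofNat 0, Int.ofNat 0, Int.negSucc 1, Int.ofNat 0, Int.negSucc 1, Int.ofNat 0, Int.ofNat 2, Int.ofNat 0],
  [Int.ofNat 0, Int.negSucc 1, Int.ofNat 2, Int.ofNat 0, Int.ofNat 2, Int.ofNat 0, Int.ofNat 0, Int.ofNat 0, Int.ofNat 0, Int.ofNat 0, Int.negSucc 1, Int.negSucc 1, Int.ofNat 0, Int.ofNat 0, Int.ofNat 0, Int.ofNat 0, Int.ofNat 0, Int.ofNat 0, Int.ofNat 2, Int.ofNat 0, Int.negSucc 1, Int.ofNat 0, Int.ofNat 2, Int.ofNat 0],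
  [Int.ofNat 0, Int.ofNat 2, Int.negSucc 1, Int.ofNat 0, Int.ofNat 0, Int.ofNat 0, Int.ofNat 0, Int.ofNat 0, Int.negSucc 1, Int.ofNat 0, Int.ofNat 0, Int.ofNat 2, Int.ofNat 0, Int.ofNat 0, Int.ofNat 2, Int.ofNat 0, Int.negSucc 1, Int.ofNat 2, Int.ofNat 0, Int.ofNat 0, Int.ofNat 0, Int.ofNat 0, Int.negSucc 1, Int.ofNat 0],
  [Int.ofNat 0, Int.ofNat 2, Int.ofNat 2, Int.ofNat 0, Int.ofNat 0, Int.ofNat 0, Int.ofNat 0, Int.ofNat 0, Int.negSucc 1, Int.ofNat 0, Int.ofNat 0, Int.negSucc 1, Int.ofNat 0, Int.ofNat 0, Int.ofNat 2, Int.ofNat 0, Int.negSucc 1, Int.ofNat 2, Int.ofNat 0, Int.ofNat 0, Int.ofNat 0, Int.ofNat 0, Int.negSucc 1, Int.ofNat 0],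
  [Int.negSucc 1, Int.ofNat 0, Int.ofNat 2, Int.ofNat 2, Int.ofNat 0, Int.ofNat 0, Int.ofNat 0, Int.ofNat 0, Int.ofNat 0, Int.negSucc 1, Int.ofNat 0, Int.ofNat 0, Int.negSucc 1, Int.ofNat 0, Int.ofNat 0, Int.ofNat 2, Int.ofNat 0, Int.negSucc 1, Int.ofNat 2, Int.ofNat 0, Int.ofNat 0, Int.ofNat 0, Int.ofNat 0, Int.ofNat 0],
  [Int.ofNat 2, Int.ofNat 0, Int.negSucc 1, Int.ofNat 2, Int.ofNat 0, Int.ofNat 0, Int.ofNat 0, Int.ofNat 0, Int.ofNat 0, Int.negSucc 1, Int.ofNat 0, Int.ofNat 0, Int.negSucc 1, Int.ofNat 0, Int.ofNat 0, Int.ofNat 2, Int.ofNat 0, Int.negSucc 1, Int.ofNat 2, Int.ofNat 0, Int.ofNat 0, Int.ofNat 0, Int.ofNat 0, Int.ofNat 0],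
  [Int.ofNat 2, Int.ofNat 0, Int.ofNat 0, Int.ofNat 0, Int.ofNat 0, Int.ofNat 0, Int.negSucc 1, Int.ofNat 0, Int.ofNat 0, Int.negSucc 1, Int.ofNat 0, Int.ofNat 0, Int.ofNat 2, Int.ofNat 0, Int.negSucc 1, Int.ofNat 2, Int.ofNat 0, Int.ofNat 0, Int.ofNat 0, Int.ofNat 0, Int.ofNat 2, Int.ofNat 0, Int.negSucc 1, Int.ofNat 0],
  [Int.negSucc 0, Int.ofNat 1, Int.ofNat 1, Int.ofNat 1, Int.ofNat 1, Int.ofNat 1, Int.negSucc 0, Int.ofNat 1, Int.negSucc 0, Int.negSucc 2, Int.negSucc 0, Int.negSucc 0, Int.ofNat 1, Int.ofNat 1, Int.negSucc 0, Int.ofNat 1, Int.ofNat 1, Int.ofNat 1, Int.negSucc 0, Int.ofNat 1, Int.ofNat 1, Int.ofNat 1, Int.negSucc 0, Int.ofNat 1],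
  [Int.negSucc 0, Int.negSucc 0, Int.ofNat 1, Int.ofNat 1, Int.negSucc 0, Int.ofNat 1, Int.ofNat 1, Int.negSucc 0, Int.ofNat 1, Int.ofNat 1, Int.ofNat 1, Int.ofNat 1, Int.negSucc 2, Int.ofNat 1, Int.negSucc 0, Int.ofNat 1, Int.negSucc 0, Int.negSucc 0, Int.ofNat 1, Int.negSucc 0, Int.ofNat 1, Int.ofNat 1, Int.ofNat 1, Int.ofNat 1],
  [Int.ofNat 1, Int.ofNat 1, Int.negSucc 0, Int.ofNat 1, Int.negSucc 0, Int.ofNat 1, Int.ofNat 1, Int.negSucc 0, Int.ofNat 1, Int.negSucc 0, Int.negSucc 0, Int.ofNat 1, Int.negSucc 2, Int.ofNat 1, Int.negSucc 0, Int.negSucc 0, Int.negSucc 0, Int.negSucc 0, Int.ofNat 1, Int.negSucc 0, Int.negSucc 0, Int.ofNat 1, Int.ofNat 1, Int.negSucc 0],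
  [Int.ofNat 1, Int.ofNat 1, Int.ofNat 1, Int.ofNat 1, Int.negSucc 0, Int.negSucc 0, Int.negSucc 0, Int.negSucc 0, Int.ofNat 1, Int.ofNat 1, Int.ofNat 1, Int.ofNat 1, Int.negSucc 2, Int.ofNat 1, Int.negSucc 0, Int.ofNat 1, Int.negSucc 0, Int.negSucc 0, Int.negSucc 0, Int.negSucc 0, Int.negSucc 0, Int.ofNat 1, Int.negSucc 0, Int.negSucc 0],
  [Int.ofNat 1, Int.negSucc 0, Int.negSucc 0, Int.negSucc 0, Int.negSucc 0, Int.ofNat 1, Int.ofNat 1, Int.ofNat 1, Int.ofNat 1, Int.ofNat 1, Int.negSucc 0, Int.negSucc 2, Int.negSucc 0, Int.ofNat 1, Int.ofNat 1, Int.negSucc 0, Int.negSucc 0, Int.ofNat 1, Int.ofNat 1, Int.negSucc 0, Int.negSucc 0, Int.ofNat 1, Int.negSucc 0, Int.negSucc 0],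
  [Int.ofNat 1, Int.negSucc 0, Int.ofNat 1, Int.negSucc 0, Int.negSucc 0, Int.negSucc 0, Int.negSucc 0, Int.ofNat 1, Int.ofNat 1, Int.negSucc 0, Int.ofNat 1, Int.negSucc 2, Int.negSucc 0, Int.ofNat 1, Int.ofNat 1, Int.ofNat 1, Int.negSucc 0, Int.ofNat 1, Int.negSucc 0, Int.negSucc 0, Int.negSucc 0, Int.ofNat 1, Int.ofNat 1, Int.negSucc 0],
  [Int.negSucc 0, Int.ofNat 1, Int.negSucc 0, Int.negSucc 0, Int.negSucc 0, Int.negSucc 0, Int.negSucc 0, Int.ofNat 1, Int.ofNat 3, Int.negSucc 0, Int.ofNat 1, Int.negSucc 0, Int.ofNat 1, Int.ofNat 1, Int.ofNat 1, Int.ofNat 1, Int.negSucc 0, Int.ofNat 1, Int.ofNat 1, Int.negSucc 0, Int.negSucc 0, Int.ofNat 1, Int.ofNat 1, Int.ofNat 1],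
  [Int.negSucc 0, Int.ofNat 1, Int.negSucc 0, Int.negSucc 0, Int.negSucc 0, Int.ofNat 1, Int.ofNat 1, Int.negSucc 0, Int.negSucc 0, Int.ofNat 1, Int.ofNat 1, Int.negSucc 0, Int.ofNat 3, Int.negSucc 0, Int.ofNat 1, Int.ofNat 1, Int.ofNat 1, Int.negSucc 0, Int.negSucc 0, Int.ofNat 1, Int.ofNat 1, Int.negSucc 0, Int.ofNat 1, Int.ofNat 1],
  [Int.ofNat 1, Int.negSucc 0, Int.ofNat 1, Int.negSucc 0, Int.negSucc 0, Int.ofNat 1, Int.ofNat 1, Int.negSucc 0, Int.negSucc 0, Int.negSucc 0, Int.negSucc 0, Int.negSucc 0, Int.ofNat 3, Int.negSucc 0, Int.ofNat 1, Int.negSucc 0, Int.ofNat 1, Int.negSucc 0, Int.negSucc 0, Int.ofNat 1, Int.negSucc 0, Int.negSucc 0, Int.ofNat 1, Int.negSucc 0],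
  [Int.negSucc 0, Int.negSucc 0, Int.ofNat 1, Int.ofNat 1, Int.negSucc 0, Int.ofNat 1, Int.negSucc 0, Int.negSucc 0, Int.ofNat 1, Int.ofNat 1, Int.negSucc 0, Int.negSucc 0, Int.negSucc 0, Int.negSucc 0, Int.negSucc 0, Int.ofNat 3, Int.negSucc 0, Int.ofNat 1, Int.negSucc 0, Int.ofNat 1, Int.negSucc 0, Int.negSucc 0, Int.ofNat 1, Int.negSucc 0],
  [Int.ofNat 0, Int.ofNat 0, Int.negSucc 1, Int.ofNat 0, Int.ofNat 0, Int.ofNat 0, Int.ofNat 0, Int.ofNat 0, Int.ofNat 2, Int.ofNat 0, Int.negSucc 1, Int.ofNat 0, Int.ofNat 0, Int.ofNat 0, Int.negSucc 1, Int.ofNat 2, Int.ofNat 0, Int.ofNat 0, Int.ofNat 0, Int.ofNat 2, Int.negSucc 1, Int.ofNat 0, Int.ofNat 2, Int.ofNat 0],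
  [Int.ofNat 0, Int.negSucc 1, Int.ofNat 0, Int.ofNat 0, Int.ofNat 0, Int.ofNat 0, Int.ofNat 0, Int.ofNat 2, Int.ofNat 0, Int.negSucc 1, Int.ofNat 0, Int.ofNat 0, Int.ofNat 0, Int.negSucc 1, Int.ofNat 2, Int.ofNat 0, Int.ofNat 0, Int.ofNat 0, Int.ofNat 2, Int.negSucc 1, Int.ofNat 0, Int.ofNat 2, Int.ofNat 0, Int.ofNat 0],
  [Int.ofNat 0, Int.negSucc 1, Int.ofNat 0, Int.ofNat 0, Int.ofNat 0, Int.ofNat 0, Int.ofNat 0, Int.negSucc 1, Int.ofNat 0, Int.ofNat 2, Int.ofNat 0, Int.ofNat 0, Int.ofNat 0, Int.negSucc 1, Int.ofNat 2, Int.ofNat 0, Int.ofNat 0, Int.ofNat 0, Int.negSucc 1, Int.negSucc 1, Int.ofNat 0, Int.negSucc 1, Int.ofNat 0, Int.ofNat 0],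
  [Int.ofNat 0, Int.ofNat 2, Int.ofNat 0, Int.ofNat 0, Int.ofNat 0, Int.ofNat 0, Int.ofNat 0, Int.negSucc 1, Int.ofNat 0, Int.negSucc 1, Int.ofNat 0, Int.ofNat 0, Int.ofNat 0, Int.ofNat 2, Int.ofNat 2, Int.ofNat 0, Int.ofNat 0, Int.ofNat 0, Int.ofNat 2, Int.negSucc 1, Int.ofNat 0, Int.negSucc 1, Int.ofNat 0, Int.ofNat 0],
  [Int.ofNat 0, Int.ofNat 0, Int.ofNat 0, Int.ofNat 0, Int.ofNat 0, Int.negSucc 1, Int.negSucc 1, Int.ofNat 2, Int.ofNat 0, Int.ofNat 0, Int.ofNat 0, Int.ofNat 0, Int.negSucc 1, Int.negSucc 1, Int.ofNat 2, Int.ofNat 0, Int.ofNat 0, Int.ofNat 0, Int.ofNat 2, Int.ofNat 0, Int.ofNat 0, Int.ofNat 0, Int.ofNat 2, Int.ofNat 0],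
  [Int.ofNat 0, Int.ofNat 0, Int.ofNat 0, Int.ofNat 0, Int.ofNat 0, Int.negSucc 1, Int.negSucc 1, Int.negSucc 1, Int.ofNat 0, Int.ofNat 0, Int.ofNat 0, Int.ofNat 0, Int.negSucc 1, Int.negSucc 1, Int.ofNat 2, Int.ofNat 0, Int.ofNat 0, Int.ofNat 0, Int.negSucc 1, Int.ofNat 0, Int.ofNat 0, Int.ofNat 0, Int.ofNat 2, Int.ofNat 0],
  [Int.ofNat 2, Int.ofNat 0, Int.ofNat 0, Int.ofNat 0, Int.ofNat 0, Int.ofNat 0, Int.negSucc 1, Int.negSucc 1, Int.negSucc 1, Int.ofNat 0, Int.ofNat 0, Int.ofNat 0, Int.ofNat 0, Int.negSucc 1, Int.negSucc 1, Int.ofNat 2, Int.ofNat 0, Int.ofNat 0, Int.ofNat 0, Int.negSucc 1, Int.ofNat 0, Int.ofNat 0, Int.ofNat 0, Int.ofNat 0],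
  [Int.negSucc 0, Int.ofNat 1, Int.ofNat 1, Int.ofNat 1, Int.ofNat 1, Int.ofNat 1, Int.ofNat 1, Int.ofNat 1, Int.negSucc 0, Int.negSucc 0, Int.negSucc 0, Int.ofNat 1, Int.ofNat 1, Int.negSucc 0, Int.negSucc 0, Int.ofNat 1, Int.ofNat 1, Int.ofNat 1, Int.ofNat 1, Int.ofNat 1, Int.negSucc 0, Int.ofNat 3, Int.ofNat 1, Int.ofNat 1],
  [Int.ofNat 1, Int.ofNat 1, Int.ofNat 1, Int.ofNat 1, Int.ofNat 1, Int.negSucc 0, Int.negSucc 0, Int.negSucc 0, Int.ofNat 1, Int.ofNat 1, Int.negSucc 0, Int.negSucc 0, Int.ofNat 1, Int.ofNat 1, Int.ofNat 1, Int.ofNat 1, Int.ofNat 1, Int.negSucc 0, Int.ofNat 3, Int.ofNat 1, Int.negSucc 0, Int.ofNat 1, Int.ofNat 1, Int.ofNat 1],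
  [Int.ofNat 1, Int.ofNat 1, Int.ofNat 1, Int.ofNat 1, Int.negSucc 0, Int.negSucc 0, Int.negSucc 0, Int.negSucc 0, Int.negSucc 0, Int.ofNat 1, Int.negSucc 0, Int.negSucc 2, Int.negSucc 0, Int.negSucc 0, Int.ofNat 1, Int.ofNat 1, Int.negSucc 0, Int.negSucc 0, Int.ofNat 1, Int.ofNat 1, Int.negSucc 0, Int.ofNat 1, Int.negSucc 0, Int.ofNat 1],
  [Int.ofNat 1, Int.negSucc 0, Int.negSucc 0, Int.ofNat 1, Int.ofNat 1, Int.negSucc 0, Int.ofNat 1, Int.negSucc 0, Int.negSucc 0, Int.negSucc 0, Int.negSucc 0, Int.negSucc 0, Int.ofNat 1, Int.negSucc 0, Int.negSucc 0, Int.ofNat 1, Int.negSucc 0, Int.ofNat 1, Int.ofNat 1, Int.negSucc 2, Int.ofNat 1, Int.negSucc 0, Int.ofNat 1, Int.ofNat 1],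
  [Int.negSucc 0, Int.ofNat 1, Int.ofNat 1, Int.ofNat 1, Int.ofNat 1, Int.negSucc 0, Int.ofNat 3, Int.ofNat 1, Int.negSucc 0, Int.negSucc 0, Int.negSucc 0, Int.negSucc 0, Int.ofNat 1, Int.negSucc 0, Int.negSucc 0, Int.ofNat 1, Int.negSucc 0, Int.ofNat 1, Int.ofNat 1, Int.negSucc 0, Int.ofNat 1, Int.ofNat 1, Int.ofNat 1, Int.negSucc 0],
  [Int.negSucc 0, Int.ofNat 1, Int.negSucc 0, Int.ofNat 1, Int.ofNat 1, Int.ofNat 1, Int.negSucc 2, Int.ofNat 1, Int.negSucc 0, Int.ofNat 1, Int.ofNat 1, Int.negSucc 0, Int.ofNat 1, Int.negSucc 0, Int.negSucc 0, Int.negSucc 0, Int.negSucc 0, Int.ofNat 1, Int.negSucc 0, Int.negSucc 0, Int.ofNat 1, Int.ofNat 1, Int.negSucc 0, Int.negSucc 0],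
  [Int.negSucc 0, Int.ofNat 1, Int.ofNat 1, Int.negSucc 0, Int.negSucc 2, Int.ofNat 1, Int.negSucc 0, Int.negSucc 0, Int.ofNat 1, Int.negSucc 0, Int.negSucc 0, Int.ofNat 1, Int.ofNat 1, Int.negSucc 0, Int.negSucc 0, Int.negSucc 0, Int.negSucc 0, Int.ofNat 1, Int.ofNat 1, Int.ofNat 1, Int.negSucc 0, Int.ofNat 1, Int.ofNat 1, Int.negSucc 0],
  [Int.negSucc 0, Int.ofNat 1, Int.negSucc 0, Int.negSucc 0, Int.negSucc 2, Int.negSucc 0, Int.ofNat 1, Int.negSucc 0, Int.ofNat 1, Int.ofNat 1, Int.ofNat 1, Int.ofNat 1, Int.ofNat 1, Int.negSucc 0, Int.negSucc 0, Int.ofNat 1, Int.negSucc 0, Int.ofNat 1, Int.negSucc 0, Int.ofNat 1, Int.negSucc 0, Int.ofNat 1, Int.negSucc 0, Int.negSucc 0],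
  [Int.ofNat 0, Int.negSucc 1, Int.ofNat 0, Int.ofNat 0, Int.ofNat 0, Int.ofNat 0, Int.ofNat 0, Int.negSucc 1, Int.ofNat 0, Int.ofNat 0, Int.ofNat 0, Int.ofNat 0, Int.ofNat 0, Int.ofNat 2, Int.ofNat 0, Int.ofNat 0, Int.ofNat 2, Int.ofNat 2, Int.negSucc 1, Int.ofNat 0, Int.negSucc 1, Int.ofNat 0, Int.ofNat 2, Int.ofNat 0],
  [Int.ofNat 0, Int.negSucc 1, Int.ofNat 0, Int.ofNat 0, Int.ofNat 0, Int.ofNat 0, Int.negSucc 1, Int.ofNat 0, Int.ofNat 2, Int.ofNat 0, Int.negSucc 1, Int.ofNat 0, Int.ofNat 0, Int.ofNat 0, Int.ofNat 2, Int.ofNat 0, Int.ofNat 2, Int.ofNat 0, Int.ofNat 0, Int.ofNat 2, Int.ofNat 0, Int.negSucc 1, Int.ofNat 0, Int.ofNat 0],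
  [Int.negSucc 0, Int.ofNat 1, Int.negSucc 0, Int.negSucc 0, Int.negSucc 0, Int.negSucc 0, Int.negSucc 0, Int.ofNat 1, Int.ofNat 1, Int.ofNat 1, Int.negSucc 0, Int.negSucc 0, Int.negSucc 0, Int.negSucc 0, Int.ofNat 1, Int.ofNat 1, Int.ofNat 1, Int.negSucc 0, Int.negSucc 0, Int.ofNat 3, Int.ofNat 1, Int.negSucc 0, Int.negSucc 0, Int.negSucc 0],
  [Int.ofNat 1, Int.negSucc 0, Int.negSucc 0, Int.negSucc 0, Int.ofNat 1, Int.negSucc 0, Int.negSucc 0, Int.negSucc 0, Int.negSucc 0, Int.negSucc 0, Int.ofNat 1, Int.ofNat 1, Int.ofNat 1, Int.negSucc 0, Int.negSucc 0, Int.negSucc 0, Int.negSucc 0, Int.ofNat 1, Int.ofNat 1, Int.ofNat 1, Int.negSucc 0, Int.negSucc 0, Int.ofNat 3, Int.negSucc 0],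
  [Int.negSucc 1, Int.ofNat 0, Int.ofNat 0, Int.ofNat 0, Int.ofNat 0, Int.ofNat 0, Int.ofNat 0, Int.ofNat 0, Int.negSucc 1, Int.ofNat 0, Int.ofNat 2, Int.ofNat 0, Int.ofNat 0, Int.negSucc 1, Int.ofNat 0, Int.ofNat 0, Int.negSucc 1, Int.ofNat 2, Int.ofNat 0, Int.ofNat 2, Int.ofNat 0, Int.ofNat 0, Int.ofNat 2, Int.ofNat 0],
  [Int.ofNat 0, Int.ofNat 0, Int.ofNat 0, Int.ofNat 0, Int.ofNat 0, Int.ofNat 0, Int.ofNat 0, Int.negSucc 1, Int.ofNat 0, Int.ofNat 2, Int.ofNat 0, Int.ofNat 0, Int.negSucc 1, Int.ofNat 0, Int.ofNat 0, Int.negSucc 1, Int.ofNat 2, Int.ofNat 0, Int.ofNat 2, Int.ofNat 0, Int.ofNat 0, Int.ofNat 2, Int.negSucc 1, Int.ofNat 0],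
  [Int.ofNat 0, Int.ofNat 0, Int.ofNat 0, Int.ofNat 0, Int.ofNat 0, Int.ofNat 0, Int.ofNat 0, Int.ofNat 2, Int.ofNat 0, Int.negSucc 1, Int.ofNat 0, Int.ofNat 0, Int.negSucc 1, Int.ofNat 0, Int.ofNat 0, Int.negSucc 1, Int.ofNat 2, Int.ofNat 0, Int.negSucc 1, Int.ofNat 0, Int.ofNat 0, Int.negSucc 1, Int.negSucc 1, Int.ofNat 0],
  [Int.ofNat 0, Int.ofNat 0, Int.ofNat 0, Int.ofNat 0, Int.ofNat 0, Int.ofNat 0, Int.ofNat 0, Int.ofNat 2, Int.ofNat 0, Int.ofNat 2, Int.ofNat 0, Int.ofNat 0, Int.ofNat 2, Int.ofNat 0, Int.ofNat 0, Int.negSucc 1, Int.negSucc 1, Int.ofNat 0, Int.ofNat 2, Int.ofNat 0, Int.ofNat 0, Int.negSucc 1, Int.negSucc 1, Int.ofNat 0],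
  [Int.ofNat 0, Int.negSucc 1, Int.ofNat 0, Int.negSucc 1, Int.ofNat 0, Int.ofNat 2, Int.ofNat 0, Int.ofNat 0, Int.ofNat 0, Int.ofNat 0, Int.negSucc 1, Int.ofNat 0, Int.negSucc 1, Int.ofNat 2, Int.ofNat 2, Int.ofNat 0, Int.ofNat 0, Int.ofNat 0, Int.ofNat 0, Int.ofNat 0, Int.ofNat 0, Int.ofNat 2, Int.ofNat 0, Int.ofNat 0],
  [Int.ofNat 0, Int.negSucc 1, Int.ofNat 0, Int.negSucc 1, Int.ofNat 0, Int.ofNat 2, Int.ofNat 0, Int.ofNat 0, Int.ofNat 0, Int.ofNat 0, Int.ofNat 2, Int.ofNat 0, Int.negSucc 1, Int.ofNat 2, Int.ofNat 2, Int.ofNat 0, Int.ofNat 0, Int.ofNat 0, Int.ofNat 0, Int.ofNat 0, Int.ofNat 0, Int.negSucc 1, Int.ofNat 0, Int.ofNat 0],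
  [Int.ofNat 0, Int.ofNat 0, Int.negSucc 1, Int.ofNat 0, Int.negSucc 1, Int.ofNat 0, Int.ofNat 2, Int.ofNat 0, Int.ofNat 0, Int.ofNat 0, Int.ofNat 0, Int.ofNat 2, Int.ofNat 0, Int.negSucc 1, Int.ofNat 2, Int.ofNat 2, Int.ofNat 0, Int.ofNat 0, Int.ofNat 0, Int.ofNat 0, Int.ofNat 0, Int.ofNat 0, Int.negSucc 1, Int.ofNat 0],
  [Int.negSucc 0, Int.negSucc 0, Int.ofNat 1, Int.negSucc 0, Int.ofNat 1, Int.negSucc 0, Int.ofNat 1, Int.negSucc 0, Int.negSucc 0, Int.negSucc 0, Int.negSucc 0, Int.ofNat 1, Int.negSucc 0, Int.ofNat 1, Int.ofNat 1, Int.ofNat 1, Int.ofNat 3, Int.negSucc 0, Int.negSucc 0, Int.negSucc 0, Int.negSucc 0, Int.negSucc 0, Int.ofNat 1, Int.negSucc 0],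
  [Int.negSucc 0, Int.ofNat 1, Int.negSucc 0, Int.ofNat 1, Int.negSucc 0, Int.negSucc 0, Int.negSucc 0, Int.negSucc 0, Int.ofNat 1, Int.negSucc 0, Int.ofNat 1, Int.ofNat 1, Int.ofNat 1, Int.ofNat 3, Int.negSucc 0, Int.negSucc 0, Int.negSucc 0, Int.negSucc 0, Int.negSucc 0, Int.ofNat 1, Int.negSucc 0, Int.negSucc 0, Int.ofNat 1, Int.negSucc 0],
  [Int.ofNat 0, Int.negSucc 1, Int.ofNat 0, Int.ofNat 2, Int.negSucc 1, Int.ofNat 0, Int.ofNat 0, Int.ofNat 0, Int.ofNat 0, Int.ofNat 0, Int.ofNat 2, Int.ofNat 0, Int.ofNat 0, Int.ofNat 2, Int.ofNat 0, Int.ofNat 0, Int.negSucc 1, Int.ofNat 0, Int.negSucc 1, Int.ofNat 2, Int.ofNat 0, Int.ofNat 0, Int.ofNat 0, Int.ofNat 0],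
  [Int.ofNat 0, Int.ofNat 0, Int.negSucc 1, Int.ofNat 2, Int.negSucc 1, Int.ofNat 0, Int.ofNat 0, Int.ofNat 2, Int.ofNat 0, Int.ofNat 2, Int.ofNat 0, Int.ofNat 0, Int.ofNat 0, Int.negSucc 1, Int.ofNat 0, Int.ofNat 0, Int.ofNat 0, Int.ofNat 0, Int.negSucc 1, Int.ofNat 0, Int.ofNat 0, Int.ofNat 0, Int.ofNat 2, Int.ofNat 0],
  [Int.negSucc 0, Int.negSucc 0, Int.ofNat 1, Int.ofNat 1, Int.negSucc 0, Int.negSucc 0, Int.negSucc 0, Int.ofNat 1, Int.ofNat 1, Int.ofNat 1, Int.negSucc 0, Int.ofNat 1, Int.ofNat 1, Int.negSucc 0, Int.negSucc 0, Int.negSucc 0, Int.ofNat 1, Int.negSucc 0, Int.negSucc 0, Int.negSucc 0, Int.negSucc 0, Int.negSucc 0, Int.ofNat 3, Int.negSucc 0],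
  [Int.negSucc 0, Int.negSucc 0, Int.negSucc 0, Int.ofNat 1, Int.negSucc 0, Int.ofNat 1, Int.ofNat 1, Int.ofNat 1, Int.ofNat 1, Int.negSucc 0, Int.ofNat 1, Int.ofNat 1, Int.ofNat 1, Int.negSucc 0, Int.negSucc 0, Int.ofNat 1, Int.ofNat 1, Int.negSucc 0, Int.ofNat 1, Int.negSucc 0, Int.negSucc 0, Int.negSucc 0, Int.negSucc 2, Int.negSucc 0],
  [Int.ofNat 1, Int.negSucc 0, Int.ofNat 1, Int.negSucc 2, Int.ofNat 1, Int.ofNat 1, Int.negSucc 0, Int.ofNat 1, Int.negSucc 0, Int.negSucc 0, Int.ofNat 1, Int.ofNat 1, Int.negSucc 0, Int.ofNat 1, Int.negSucc 0, Int.negSucc 0, Int.negSucc 0, Int.negSucc 0, Int.ofNat 1, Int.ofNat 1, Int.ofNat 1, Int.negSucc 0, Int.negSucc 0, Int.negSucc 0],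
  [Int.ofNat 1, Int.negSucc 0, Int.negSucc 0, Int.negSucc 2, Int.ofNat 1, Int.negSucc 0, Int.ofNat 1, Int.ofNat 1, Int.negSucc 0, Int.ofNat 1, Int.negSucc 0, Int.ofNat 1, Int.negSucc 0, Int.ofNat 1, Int.negSucc 0, Int.ofNat 1, Int.negSucc 0, Int.negSucc 0, Int.negSucc 0, Int.ofNat 1, Int.ofNat 1, Int.negSucc 0, Int.ofNat 1, Int.negSucc 0],
  [Int.negSucc 1, Int.ofNat 0, Int.ofNat 0, Int.ofNat 0, Int.ofNat 0, Int.ofNat 2, Int.ofNat 0, Int.ofNat 0, Int.ofNat 0, Int.ofNat 0, Int.negSucc 1, Int.ofNat 2, Int.ofNat 0, Int.ofNat 0, Int.ofNat 2, Int.ofNat 0, Int.negSucc 1, Int.ofNat 2, Int.ofNat 0, Int.ofNat 0, Int.ofNat 0, Int.negSucc 1, Int.ofNat 0, Int.ofNat 0],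
  [Int.negSucc 1, Int.ofNat 0, Int.ofNat 0, Int.ofNat 0, Int.ofNat 0, Int.negSucc 1, Int.ofNat 0, Int.ofNat 2, Int.negSucc 1, Int.ofNat 0, Int.ofNat 0, Int.ofNat 0, Int.ofNat 0, Int.ofNat 0, Int.ofNat 2, Int.ofNat 0, Int.ofNat 0, Int.ofNat 2, Int.ofNat 0, Int.ofNat 0, Int.negSucc 1, Int.ofNat 0, Int.ofNat 2, Int.ofNat 0],
  [Int.ofNat 1, Int.negSucc 0, Int.negSucc 0, Int.negSucc 0, Int.negSucc 0, Int.negSucc 2, Int.negSucc 0, Int.ofNat 1, Int.negSucc 0, Int.ofNat 1, Int.ofNat 1, Int.ofNat 1, Int.ofNat 1, Int.negSucc 0, Int.ofNat 1, Int.ofNat 1, Int.negSucc 0, Int.ofNat 1, Int.ofNat 1, Int.negSucc 0, Int.negSucc 0, Int.negSucc 0, Int.ofNat 1, Int.negSucc 0],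
  [Int.negSucc 0, Int.negSucc 0, Int.ofNat 1, Int.ofNat 1, Int.negSucc 0, Int.negSucc 0, Int.negSucc 0, Int.negSucc 0, Int.negSucc 2, Int.negSucc 0, Int.ofNat 1, Int.negSucc 0, Int.ofNat 1, Int.ofNat 1, Int.ofNat 1, Int.ofNat 1, Int.negSucc 0, Int.ofNat 1, Int.ofNat 1, Int.negSucc 0, Int.ofNat 1, Int.ofNat 1, Int.negSucc 0, Int.negSucc 0],
  [Int.ofNat 0, Int.ofNat 0, Int.negSucc 1, Int.ofNat 0, Int.ofNat 0, Int.negSucc 1, Int.ofNat 0, Int.ofNat 0, Int.negSucc 1, Int.negSucc 1, Int.ofNat 0, Int.ofNat 0, Int.ofNat 2, Int.ofNat 2, Int.ofNat 0, Int.ofNat 0, Int.ofNat 0, Int.ofNat 0, Int.ofNat 2, Int.ofNat 0, Int.ofNat 0, Int.ofNat 2, Int.ofNat 0, Int.ofNat 0],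
  [Int.ofNat 0, Int.negSucc 1, Int.ofNat 0, Int.ofNat 0, Int.negSucc 1, Int.ofNat 0, Int.ofNat 0, Int.negSucc 1, Int.negSucc 1, Int.ofNat 0, Int.ofNat 0, Int.ofNat 2, Int.ofNat 2, Int.ofNat 0, Int.ofNat 0, Int.ofNat 0, Int.ofNat 0, Int.ofNat 2, Int.ofNat 0, Int.ofNat 0, Int.ofNat 2, Int.ofNat 0, Int.ofNat 0, Int.ofNat 0],
  [Int.ofNat 0, Int.negSucc 1, Int.ofNat 0, Int.ofNat 0, Int.negSucc 1, Int.ofNat 0, Int.ofNat 0, Int.ofNat 2, Int.negSucc 1, Int.ofNat 0, Int.ofNat 0, Int.negSucc 1, Int.ofNat 2, Int.ofNat 0, Int.ofNat 0, Int.ofNat 0, Int.ofNat 0, Int.ofNat 2, Int.ofNat 0, Int.ofNat 0, Int.ofNat 2, Int.ofNat 0, Int.ofNat 0, Int.ofNat 0],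
  [Int.ofNat 0, Int.ofNat 2, Int.ofNat 0, Int.ofNat 0, Int.ofNat 2, Int.ofNat 0, Int.ofNat 0, Int.ofNat 2, Int.ofNat 2, Int.ofNat 0, Int.ofNat 0, Int.negSucc 1, Int.negSucc 1, Int.ofNat 0, Int.ofNat 0, Int.ofNat 0, Int.ofNat 0, Int.ofNat 2, Int.ofNat 0, Int.ofNat 0, Int.ofNat 2, Int.ofNat 0, Int.ofNat 0, Int.ofNat 0],
  [Int.ofNat 0, Int.ofNat 0, Int.negSucc 1, Int.ofNat 0, Int.ofNat 2, Int.ofNat 0, Int.ofNat 0, Int.ofNat 0, Int.ofNat 2, Int.ofNat 0, Int.ofNat 0, Int.ofNat 0, Int.ofNat 0, Int.ofNat 2, Int.ofNat 0, Int.ofNat 0, Int.ofNat 0, Int.ofNat 2, Int.ofNat 0, Int.ofNat 0, Int.ofNat 2, Int.negSucc 1, Int.ofNat 2, Int.ofNat 0],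
  [Int.ofNat 0, Int.ofNat 0, Int.ofNat 2, Int.ofNat 0, Int.ofNat 2, Int.ofNat 0, Int.ofNat 0, Int.ofNat 0, Int.ofNat 2, Int.ofNat 0, Int.ofNat 0, Int.ofNat 0, Int.ofNat 0, Int.ofNat 2, Int.ofNat 0, Int.ofNat 0, Int.ofNat 0, Int.ofNat 2, Int.ofNat 0, Int.ofNat 0, Int.ofNat 2, Int.ofNat 2, Int.ofNat 2, Int.ofNat 0],
  [Int.ofNat 2, Int.ofNat 0, Int.ofNat 0, Int.ofNat 2, Int.ofNat 0, Int.ofNat 2, Int.ofNat 0, Int.ofNat 0, Int.ofNat 0, Int.ofNat 2, Int.ofNat 0, Int.ofNat 0, Int.ofNat 0, Int.ofNat 0, Int.ofNat 2, Int.ofNat 0, Int.ofNat 0, Int.ofNat 0, Int.ofNat 2, Int.ofNat 0, Int.ofNat 0, Int.ofNat 2, Int.ofNat 2, Int.ofNat 0],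
  [Int.negSucc 0, Int.ofNat 1, Int.ofNat 1, Int.negSucc 0, Int.negSucc 0, Int.negSucc 0, Int.negSucc 0, Int.negSucc 0, Int.negSucc 0, Int.ofNat 1, Int.negSucc 0, Int.negSucc 0, Int.negSucc 0, Int.negSucc 0, Int.negSucc 0, Int.negSucc 0, Int.negSucc 0, Int.negSucc 2, Int.ofNat 1, Int.negSucc 0, Int.negSucc 0, Int.ofNat 1, Int.ofNat 1, Int.ofNat 1],
  [Int.negSucc 0, Int.negSucc 0, Int.negSucc 0, Int.negSucc 0, Int.negSucc 0, Int.negSucc 0, Int.ofNat 1, Int.negSucc 0, Int.negSucc 0, Int.negSucc 0, Int.negSucc 0, Int.negSucc 0, Int.negSucc 0, Int.negSucc 0, Int.negSucc 2, Int.ofNat 1, Int.negSucc 0, Int.negSucc 0, Int.ofNat 1, Int.ofNat 1, Int.negSucc 0, Int.ofNat 1, Int.ofNat 1, Int.ofNat 1],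
  [Int.ofNat 0, Int.ofNat 0, Int.ofNat 0, Int.ofNat 2, Int.ofNat 0, Int.ofNat 2, Int.ofNat 0, Int.negSucc 1, Int.ofNat 0, Int.ofNat 0, Int.ofNat 0, Int.ofNat 0, Int.ofNat 0, Int.ofNat 0, Int.ofNat 0, Int.ofNat 2, Int.ofNat 0, Int.ofNat 2, Int.ofNat 2, Int.ofNat 0, Int.ofNat 0, Int.ofNat 0, Int.ofNat 2, Int.negSucc 1],
  [Int.ofNat 0, Int.ofNat 0, Int.ofNat 0, Int.ofNat 2, Int.ofNat 2, Int.negSucc 1, Int.ofNat 0, Int.ofNat 0, Int.ofNat 0, Int.ofNat 0, Int.ofNat 0, Int.ofNat 2, Int.ofNat 0, Int.ofNat 0, Int.ofNat 2, Int.ofNat 2, Int.ofNat 0, Int.ofNat 0, Int.ofNat 0, Int.ofNat 0, Int.ofNat 0, Int.ofNat 2, Int.ofNat 0, Int.negSucc 1],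
  [Int.negSucc 0, Int.negSucc 0, Int.negSucc 0, Int.ofNat 1, Int.ofNat 1, Int.negSucc 2, Int.negSucc 0, Int.negSucc 0, Int.negSucc 0, Int.negSucc 0, Int.negSucc 0, Int.ofNat 1, Int.negSucc 0, Int.negSucc 0, Int.ofNat 1, Int.ofNat 1, Int.negSucc 0, Int.negSucc 0, Int.negSucc 0, Int.negSucc 0, Int.negSucc 0, Int.ofNat 1, Int.negSucc 0, Int.ofNat 1],
  [Int.negSucc 0, Int.negSucc 0, Int.ofNat 1, Int.ofNat 1, Int.ofNat 1, Int.ofNat 3, Int.ofNat 1, Int.negSucc 0, Int.negSucc 0, Int.ofNat 1, Int.ofNat 1, Int.ofNat 1, Int.negSucc 0, Int.negSucc 0, Int.ofNat 1, Int.negSucc 0, Int.negSucc 0, Int.negSucc 0, Int.ofNat 1, Int.negSucc 0, Int.negSucc 0, Int.ofNat 1, Int.ofNat 1, Int.ofNat 1],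
  [Int.negSucc 0, Int.ofNat 1, Int.negSucc 0, Int.ofNat 1, Int.ofNat 1, Int.ofNat 1, Int.negSucc 0, Int.negSucc 0, Int.ofNat 1, Int.negSucc 0, Int.ofNat 1, Int.negSucc 0, Int.negSucc 0, Int.ofNat 1, Int.ofNat 1, Int.ofNat 1, Int.negSucc 0, Int.ofNat 1, Int.ofNat 1, Int.ofNat 3, Int.negSucc 0, Int.negSucc 0, Int.negSucc 0, Int.ofNat 1],
  [Int.negSucc 0, Int.ofNat 1, Int.ofNat 1, Int.ofNat 1, Int.ofNat 1, Int.negSucc 0, Int.ofNat 1, Int.negSucc 0, Int.ofNat 1, Int.ofNat 1, Int.negSucc 0, Int.negSucc 0, Int.negSucc 0, Int.ofNat 1, Int.ofNat 1, Int.negSucc 0, Int.negSucc 0, Int.ofNat 1, Int.negSucc 0, Int.ofNat 3, Int.negSucc 0, Int.negSucc 0, Int.ofNat 1, Int.ofNat 1],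
  [Int.ofNat 2, Int.ofNat 0, Int.ofNat 0, Int.ofNat 0, Int.ofNat 0, Int.negSucc 1, Int.ofNat 0, Int.negSucc 1, Int.ofNat 2, Int.ofNat 2, Int.ofNat 0, Int.ofNat 0, Int.ofNat 0, Int.ofNat 0, Int.ofNat 0, Int.ofNat 0, Int.negSucc 1, Int.ofNat 0, Int.ofNat 0, Int.ofNat 2, Int.ofNat 0, Int.negSucc 1, Int.ofNat 0, Int.ofNat 0],
  [Int.ofNat 2, Int.ofNat 0, Int.ofNat 0, Int.ofNat 0, Int.ofNat 0, Int.negSucc 1, Int.ofNat 0, Int.negSucc 1, Int.negSucc 1, Int.ofNat 0, Int.negSucc 1, Int.ofNat 2, Int.ofNat 2, Int.ofNat 2, Int.ofNat 0, Int.ofNat 0, Int.ofNat 0, Int.ofNat 0, Int.ofNat 0, Int.ofNat 0, Int.ofNat 0, Int.ofNat 0, Int.ofNat 0, Int.ofNat 0],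
  [Int.negSucc 0, Int.ofNat 1, Int.ofNat 1, Int.ofNat 1, Int.negSucc 0, Int.negSucc 0, Int.ofNat 1, Int.negSucc 0, Int.negSucc 2, Int.ofNat 1, Int.negSucc 0, Int.ofNat 1, Int.ofNat 1, Int.ofNat 1, Int.ofNat 1, Int.ofNat 1, Int.negSucc 0, Int.ofNat 1, Int.negSucc 0, Int.ofNat 1, Int.ofNat 1, Int.ofNat 1, Int.negSucc 0, Int.ofNat 1],
  [Int.ofNat 1, Int.ofNat 1, Int.negSucc 0, Int.negSucc 0, Int.ofNat 1, Int.ofNat 1, Int.ofNat 1, Int.negSucc 0, Int.negSucc 0, Int.ofNat 1, Int.negSucc 0, Int.negSucc 2, Int.ofNat 1, Int.negSucc 0, Int.ofNat 1, Int.ofNat 1, Int.ofNat 1, Int.ofNat 1, Int.ofNat 1, Int.negSucc 0, Int.ofNat 1, Int.negSucc 0, Int.ofNat 1, Int.ofNat 1],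
  [Int.ofNat 0, Int.ofNat 0, Int.ofNat 2, Int.negSucc 1, Int.ofNat 0, Int.ofNat 0, Int.ofNat 2, Int.ofNat 0, Int.ofNat 0, Int.ofNat 0, Int.negSucc 1, Int.negSucc 1, Int.ofNat 2, Int.negSucc 1, Int.ofNat 0, Int.ofNat 0, Int.ofNat 0, Int.ofNat 0, Int.ofNat 2, Int.ofNat 0, Int.ofNat 0, Int.ofNat 0, Int.ofNat 0, Int.ofNat 0],
  [Int.ofNat 0, Int.ofNat 2, Int.negSucc 1, Int.ofNat 0, Int.ofNat 0, Int.ofNat 2, Int.ofNat 0, Int.ofNat 0, Int.ofNat 0, Int.negSucc 1, Int.negSucc 1, Int.ofNat 2, Int.negSucc 1, Int.ofNat 0, Int.ofNat 0, Int.ofNat 0, Int.ofNat 0, Int.ofNat 2, Int.ofNat 0, Int.ofNat 0, Int.ofNat 0, Int.ofNat 0, Int.ofNat 0, Int.ofNat 0],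
  [Int.ofNat 0, Int.ofNat 2, Int.ofNat 2, Int.ofNat 0, Int.ofNat 0, Int.ofNat 2, Int.ofNat 0, Int.ofNat 0, Int.ofNat 0, Int.ofNat 2, Int.ofNat 2, Int.negSucc 1, Int.negSucc 1, Int.ofNat 0, Int.ofNat 0, Int.ofNat 0, Int.ofNat 0, Int.ofNat 2, Int.ofNat 0, Int.ofNat 0, Int.ofNat 0, Int.ofNat 0, Int.ofNat 0, Int.ofNat 0],
  [Int.ofNat 0, Int.negSucc 1, Int.negSucc 1, Int.ofNat 0, Int.ofNat 0, Int.ofNat 2, Int.ofNat 0, Int.ofNat 0, Int.ofNat 0, Int.negSucc 1, Int.ofNat 2, Int.negSucc 1, Int.ofNat 2, Int.ofNat 0, Int.ofNat 0, Int.ofNat 0, Int.ofNat 0, Int.ofNat 2, Int.ofNat 0, Int.ofNat 0, Int.ofNat 0, Int.ofNat 0, Int.ofNat 0, Int.ofNat 0],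
  [Int.ofNat 0, Int.ofNat 0, Int.negSucc 1, Int.ofNat 0, Int.ofNat 2, Int.negSucc 1, Int.ofNat 0, Int.ofNat 0, Int.ofNat 0, Int.ofNat 2, Int.ofNat 0, Int.negSucc 1, Int.ofNat 0, Int.ofNat 0, Int.ofNat 0, Int.ofNat 0, Int.ofNat 2, Int.ofNat 0, Int.ofNat 0, Int.ofNat 0, Int.ofNat 0, Int.ofNat 2, Int.negSucc 1, Int.ofNat 0],
  [Int.ofNat 0, Int.ofNat 0, Int.ofNat 2, Int.ofNat 0, Int.ofNat 2, Int.negSucc 1, Int.ofNat 0, Int.ofNat 0, Int.ofNat 0, Int.negSucc 1, Int.ofNat 0, Int.ofNat 2, Int.ofNat 0, Int.ofNat 0, Int.ofNat 0, Int.ofNat 0, Int.ofNat 2, Int.ofNat 0, Int.ofNat 0, Int.ofNat 0, Int.ofNat 0, Int.negSucc 1, Int.negSucc 1, Int.ofNat 0],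
  [Int.negSucc 1, Int.ofNat 0, Int.ofNat 0, Int.ofNat 2, Int.ofNat 0, Int.ofNat 2, Int.negSucc 1, Int.ofNat 0, Int.ofNat 0, Int.ofNat 0, Int.negSucc 1, Int.ofNat 0, Int.ofNat 2, Int.ofNat 0, Int.ofNat 0, Int.ofNat 0, Int.ofNat 0, Int.ofNat 2, Int.ofNat 0, Int.ofNat 0, Int.ofNat 0, Int.ofNat 0, Int.negSucc 1, Int.ofNat 0],
  [Int.ofNat 1, Int.negSucc 0, Int.negSucc 0, Int.negSucc 0, Int.ofNat 1, Int.negSucc 0, Int.negSucc 0, Int.ofNat 1, Int.negSucc 0, Int.ofNat 1, Int.negSucc 0, Int.negSucc 0, Int.ofNat 1, Int.ofNat 1, Int.negSucc 2, Int.ofNat 1, Int.ofNat 1, Int.negSucc 0, Int.negSucc 0, Int.ofNat 1, Int.ofNat 1, Int.ofNat 1, Int.negSucc 0, Int.negSucc 0],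
  [Int.negSucc 0, Int.ofNat 1, Int.negSucc 0, Int.negSucc 0, Int.ofNat 1, Int.negSucc 0, Int.ofNat 1, Int.negSucc 0, Int.negSucc 0, Int.ofNat 1, Int.ofNat 1, Int.negSucc 2, Int.ofNat 1, Int.ofNat 1, Int.negSucc 0, Int.negSucc 0, Int.ofNat 1, Int.ofNat 1, Int.ofNat 1, Int.negSucc 0, Int.ofNat 1, Int.negSucc 0, Int.negSucc 0, Int.negSucc 0],
  [Int.ofNat 0, Int.negSucc 1, Int.ofNat 0, Int.ofNat 0, Int.ofNat 0, Int.ofNat 0, Int.ofNat 2, Int.ofNat 0, Int.ofNat 0, Int.ofNat 0, Int.ofNat 0, Int.negSucc 1, Int.ofNat 2, Int.ofNat 0, Int.ofNat 0, Int.negSucc 1, Int.ofNat 0, Int.ofNat 2, Int.ofNat 2, Int.ofNat 0, Int.ofNat 0, Int.ofNat 0, Int.negSucc 1, Int.ofNat 0],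
  [Int.ofNat 0, Int.ofNat 2, Int.ofNat 0, Int.ofNat 0, Int.ofNat 2, Int.ofNat 0, Int.ofNat 0, Int.ofNat 0, Int.ofNat 2, Int.ofNat 0, Int.ofNat 0, Int.ofNat 2, Int.ofNat 0, Int.ofNat 0, Int.negSucc 1, Int.negSucc 1, Int.ofNat 0, Int.ofNat 0, Int.negSucc 1, Int.negSucc 1, Int.ofNat 0, Int.ofNat 0, Int.ofNat 0, Int.ofNat 0],
  [Int.ofNat 1, Int.negSucc 0, Int.ofNat 1, Int.ofNat 1, Int.ofNat 1, Int.ofNat 1, Int.ofNat 1, Int.ofNat 1, Int.ofNat 1, Int.ofNat 1, Int.ofNat 1, Int.ofNat 1, Int.negSucc 0, Int.negSucc 0, Int.negSucc 0, Int.negSucc 0, Int.negSucc 0, Int.ofNat 1, Int.negSucc 2, Int.negSucc 0, Int.ofNat 1, Int.ofNat 1, Int.negSucc 0, Int.ofNat 1],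
  [Int.ofNat 1, Int.negSucc 0, Int.negSucc 0, Int.ofNat 1, Int.ofNat 1, Int.negSucc 0, Int.negSucc 0, Int.ofNat 1, Int.ofNat 1, Int.negSucc 0, Int.negSucc 0, Int.ofNat 1, Int.negSucc 0, Int.negSucc 0, Int.negSucc 0, Int.ofNat 1, Int.negSucc 0, Int.ofNat 1, Int.ofNat 3, Int.negSucc 0, Int.ofNat 1, Int.ofNat 1, Int.ofNat 1, Int.ofNat 1],
  [Int.ofNat 1, Int.ofNat 1, Int.ofNat 1, Int.ofNat 1, Int.negSucc 0, Int.negSucc 0, Int.ofNat 1, Int.ofNat 1, Int.negSucc 0, Int.negSucc 0, Int.ofNat 3, Int.negSucc 0, Int.ofNat 1, Int.ofNat 1, Int.negSucc 0, Int.negSucc 0, Int.negSucc 0, Int.ofNat 1, Int.ofNat 1, Int.negSucc 0, Int.negSucc 0, Int.negSucc 0, Int.ofNat 1, Int.ofNat 1],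
  [Int.ofNat 1, Int.ofNat 1, Int.negSucc 0, Int.ofNat 1, Int.negSucc 0, Int.ofNat 1, Int.negSucc 0, Int.ofNat 1, Int.negSucc 0, Int.ofNat 1, Int.negSucc 2, Int.negSucc 0, Int.ofNat 1, Int.ofNat 1, Int.negSucc 0, Int.ofNat 1, Int.negSucc 0, Int.ofNat 1, Int.negSucc 0, Int.negSucc 0, Int.negSucc 0, Int.negSucc 0, Int.negSucc 0, Int.ofNat 1],
  [Int.ofNat 0, Int.ofNat 0, Int.ofNat 2, Int.ofNat 0, Int.ofNat 0, Int.ofNat 0, Int.ofNat 0, Int.ofNat 2, Int.ofNat 0, Int.ofNat 2, Int.negSucc 1, Int.ofNat 0, Int.ofNat 2, Int.ofNat 2, Int.negSucc 1, Int.ofNat 2, Int.ofNat 0, Int.ofNat 0, Int.ofNat 0, Int.ofNat 0, Int.ofNat 0, Int.ofNat 0, Int.ofNat 0, Int.ofNat 0],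
  [Int.ofNat 0, Int.ofNat 0, Int.ofNat 0, Int.ofNat 0, Int.ofNat 2, Int.ofNat 0, Int.ofNat 0, Int.ofNat 0, Int.ofNat 0, Int.ofNat 2, Int.ofNat 2, Int.ofNat 0, Int.ofNat 0, Int.ofNat 2, Int.ofNat 0, Int.ofNat 2, Int.ofNat 2, Int.ofNat 0, Int.ofNat 0, Int.ofNat 0, Int.negSucc 1, Int.ofNat 0, Int.negSucc 1, Int.ofNat 0],
  [Int.ofNat 0, Int.ofNat 0, Int.ofNat 0, Int.ofNat 0, Int.ofNat 0, Int.ofNat 0, Int.ofNat 0, Int.ofNat 0, Int.ofNat 0, Int.ofNat 0, Int.ofNat 0, Int.ofNat 0, Int.ofNat 0, Int.ofNat 0, Int.ofNat 0, Int.ofNat 0, Int.ofNat 0, Int.ofNat 0, Int.ofNat 0, Int.ofNat 0, Int.negSucc 3, Int.ofNat 0, Int.negSucc 3, Int.ofNat 0],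
  [Int.negSucc 3, Int.ofNat 0, Int.negSucc 3, Int.ofNat 0, Int.ofNat 0, Int.ofNat 0, Int.ofNat 0, Int.ofNat 0, Int.ofNat 0, Int.ofNat 0, Int.ofNat 0, Int.ofNat 0, Int.ofNat 0, Int.ofNat 0, Int.ofNat 0, Int.ofNat 0, Int.ofNat 0, Int.ofNat 0, Int.ofNat 0, Int.ofNat 0, Int.ofNat 0, Int.ofNat 0, Int.ofNat 0, Int.ofNat 0],
  [Int.ofNat 0, Int.negSucc 3, Int.ofNat 0, Int.ofNat 0, Int.ofNat 0, Int.ofNat 0, Int.ofNat 0, Int.ofNat 0, Int.ofNat 0, Int.ofNat 0, Int.ofNat 0, Int.ofNat 0, Int.ofNat 0, Int.ofNat 0, Int.ofNat 0, Int.ofNat 0, Int.ofNat 0, Int.ofNat 0, Int.ofNat 0, Int.ofNat 0, Int.ofNat 0, Int.ofNat 0, Int.ofNat 0, Int.negSucc 3],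
  [Int.negSucc 3, Int.ofNat 0, Int.ofNat 0, Int.ofNat 0, Int.ofNat 0, Int.ofNat 0, Int.ofNat 0, Int.ofNat 0, Int.ofNat 0, Int.ofNat 0, Int.ofNat 0, Int.ofNat 0, Int.ofNat 0, Int.ofNat 0, Int.ofNat 0, Int.ofNat 0, Int.ofNat 0, Int.ofNat 0, Int.ofNat 0, Int.ofNat 0, Int.ofNat 0, Int.ofNat 0, Int.ofNat 0, Int.negSucc 3],
  [Int.ofNat 4, Int.ofNat 0, Int.ofNat 0, Int.ofNat 0, Int.ofNat 0, Int.ofNat 0, Int.ofNat 0, Int.ofNat 0, Int.ofNat 0, Int.ofNat 0, Int.ofNat 0, Int.ofNat 0, Int.ofNat 0, Int.ofNat 0, Int.ofNat 0, Int.ofNat 0, Int.ofNat 0, Int.ofNat 0, Int.ofNat 0, Int.ofNat 0, Int.ofNat 0, Int.ofNat 0, Int.ofNat 0, Int.negSucc 3],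
  [Int.negSucc 3, Int.ofNat 0, Int.ofNat 0, Int.ofNat 0, Int.ofNat 0, Int.ofNat 0, Int.ofNat 0, Int.ofNat 0, Int.ofNat 0, Int.ofNat 0, Int.ofNat 0, Int.ofNat 0, Int.ofNat 0, Int.ofNat 0, Int.ofNat 0, Int.ofNat 0, Int.ofNat 0, Int.ofNat 0, Int.ofNat 0, Int.ofNat 0, Int.ofNat 0, Int.ofNat 0, Int.ofNat 0, Int.negSucc 3],
  [Int.negSucc 3, Int.ofNat 0, Int.ofNat 0, Int.ofNat 0, Int.ofNat 0, Int.ofNat 0, Int.ofNat 0, Int.ofNat 0, Int.ofNat 0, Int.ofNat 0, Int.ofNat 0, Int.ofNat 0, Int.ofNat 0, Int.ofNat 0, Int.ofNat 0, Int.ofNat 0, Int.ofNat 0, Int.ofNat 0, Int.ofNat 0, Int.ofNat 0, Int.ofNat 0, Int.ofNat 0, Int.ofNat 0, Int.negSucc 3],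
  [Int.ofNat 4, Int.ofNat 0, Int.ofNat 0, Int.ofNat 0, Int.ofNat 0, Int.ofNat 0, Int.ofNat 0, Int.ofNat 0, Int.ofNat 0, Int.ofNat 0, Int.ofNat 0, Int.ofNat 0, Int.ofNat 0, Int.ofNat 0, Int.ofNat 0, Int.ofNat 0, Int.ofNat 0, Int.ofNat 0, Int.ofNat 0, Int.ofNat 0, Int.ofNat 0, Int.ofNat 0, Int.ofNat 0, Int.negSucc 3],
  [Int.ofNat 0, Int.ofNat 4, Int.ofNat 0, Int.ofNat 0, Int.ofNat 0, Int.ofNat 0, Int.ofNat 0, Int.ofNat 0, Int.ofNat 0, Int.ofNat 0, Int.ofNat 0, Int.ofNat 0, Int.ofNat 0, Int.ofNat 0, Int.ofNat 0, Int.ofNat 0, Int.ofNat 0, Int.ofNat 0, Int.ofNat 0, Int.ofNat 0, Int.ofNat 0, Int.ofNat 0, Int.ofNat 0, Int.negSucc 3],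
  [Int.ofNat 0, Int.negSucc 3, Int.ofNat 0, Int.ofNat 0, Int.ofNat 0, Int.ofNat 0, Int.ofNat 0, Int.ofNat 0, Int.ofNat 0, Int.ofNat 0, Int.ofNat 0, Int.ofNat 0, Int.ofNat 0, Int.ofNat 0, Int.ofNat 0, Int.ofNat 0, Int.ofNat 0, Int.ofNat 0, Int.ofNat 0, Int.ofNat 0, Int.ofNat 0, Int.ofNat 0, Int.ofNat 0, Int.ofNat 4],
  [Int.ofNat 0, Int.ofNat 0, Int.ofNat 0, Int.ofNat 0, Int.ofNat 0, Int.ofNat 0, Int.ofNat 0, Int.ofNat 0, Int.ofNat 0, Int.ofNat 0, Int.ofNat 0, Int.ofNat 0, Int.ofNat 0, Int.ofNat 0, Int.ofNat 0, Int.ofNat 0, Int.ofNat 0, Int.ofNat 0, Int.ofNat 0, Int.ofNat 0, Int.ofNat 0, Int.negSucc 3, Int.ofNat 0, Int.ofNat 4],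
  [Int.ofNat 2, Int.ofNat 2, Int.ofNat 2, Int.ofNat 0, Int.ofNat 0, Int.ofNat 0, Int.ofNat 2, Int.ofNat 2, Int.ofNat 0, Int.ofNat 0, Int.ofNat 0, Int.ofNat 0, Int.ofNat 0, Int.ofNat 0, Int.ofNat 0, Int.ofNat 0, Int.ofNat 0, Int.ofNat 0, Int.ofNat 0, Int.ofNat 2, Int.ofNat 0, Int.negSucc 1, Int.ofNat 0, Int.negSucc 1],
  [Int.ofNat 2, Int.ofNat 2, Int.ofNat 0, Int.ofNat 0, Int.ofNat 0, Int.ofNat 2, Int.ofNat 2, Int.ofNat 0, Int.ofNat 0, Int.ofNat 0, Int.ofNat 0, Int.ofNat 0, Int.ofNat 0, Int.ofNat 0, Int.ofNat 0, Int.ofNat 0, Int.ofNat 0, Int.ofNat 0, Int.ofNat 2, Int.ofNat 0, Int.negSucc 1, Int.ofNat 0, Int.ofNat 2, Int.negSucc 1],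
  [Int.negSucc 0, Int.negSucc 0, Int.ofNat 1, Int.negSucc 0, Int.negSucc 0, Int.ofNat 1, Int.ofNat 1, Int.negSucc 0, Int.negSucc 0, Int.ofNat 1, Int.ofNat 1, Int.negSucc 0, Int.negSucc 0, Int.negSucc 0, Int.negSucc 0, Int.ofNat 1, Int.negSucc 0, Int.negSucc 0, Int.ofNat 1, Int.negSucc 0, Int.negSucc 0, Int.negSucc 0, Int.ofNat 1, Int.ofNat 3],
  [Int.negSucc 0, Int.negSucc 0, Int.negSucc 0, Int.negSucc 0, Int.negSucc 0, Int.negSucc 0, Int.negSucc 0, Int.negSucc 0, Int.negSucc 0, Int.negSucc 0, Int.negSucc 0, Int.negSucc 0, Int.negSucc 0, Int.negSucc 0, Int.negSucc 0, Int.negSucc 0, Int.negSucc 0, Int.negSucc 0, Int.negSucc 0, Int.negSucc 0, Int.negSucc 0, Int.negSucc 0, Int.negSucc 0, Int.ofNat 3],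
  [Int.negSucc 0, Int.negSucc 0, Int.negSucc 0, Int.negSucc 0, Int.negSucc 0, Int.negSucc 0, Int.negSucc 0, Int.negSucc 0, Int.negSucc 0, Int.negSucc 0, Int.negSucc 0, Int.negSucc 0, Int.negSucc 0, Int.negSucc 0, Int.negSucc 0, Int.negSucc 0, Int.negSucc 0, Int.negSucc 0, Int.negSucc 0, Int.negSucc 0, Int.negSucc 0, Int.negSucc 0, Int.negSucc 0, Int.ofNat 3],
  [Int.negSucc 0, Int.negSucc 0, Int.ofNat 1, Int.negSucc 0, Int.negSucc 0, Int.ofNat 1, Int.ofNat 1, Int.negSucc 0, Int.negSucc 0, Int.ofNat 1, Int.ofNat 1, Int.negSucc 0, Int.negSucc 0, Int.negSucc 0, Int.negSucc 0, Int.ofNat 1, Int.negSucc 0, Int.negSucc 0, Int.ofNat 1, Int.negSucc 0, Int.negSucc 0, Int.negSucc 0, Int.ofNat 1, Int.ofNat 3],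
  [Int.ofNat 2, Int.ofNat 2, Int.ofNat 0, Int.ofNat 0, Int.ofNat 0, Int.ofNat 2, Int.ofNat 2, Int.ofNat 0, Int.ofNat 0, Int.ofNat 0, Int.ofNat 0, Int.ofNat 0, Int.ofNat 0, Int.ofNat 0, Int.ofNat 0, Int.ofNat 0, Int.ofNat 0, Int.ofNat 0, Int.ofNat 2, Int.ofNat 0, Int.negSucc 1, Int.ofNat 0, Int.ofNat 2, Int.negSucc 1],
  [Int.ofNat 2, Int.ofNat 2, Int.ofNat 2, Int.ofNat 0, Int.ofNat 0, Int.ofNat 0, Int.ofNat 2, Int.ofNat 2, Int.ofNat 0, Int.ofNat 0, Int.ofNat 0, Int.ofNat 0, Int.ofNat 0, Int.ofNat 0, Int.ofNat 0, Int.ofNat 0, Int.ofNat 0, Int.ofNat 0, Int.ofNat 0, Int.ofNat 2, Int.ofNat 0, Int.negSucc 1, Int.ofNat 0, Int.negSucc 1],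
  [Int.ofNat 0, Int.ofNat 0, Int.ofNat 0, Int.ofNat 0, Int.ofNat 0, Int.ofNat 0, Int.ofNat 0, Int.ofNat 0, Int.ofNat 0, Int.ofNat 0, Int.ofNat 0, Int.ofNat 0, Int.ofNat 0, Int.ofNat 0, Int.ofNat 0, Int.ofNat 0, Int.ofNat 0, Int.ofNat 0, Int.ofNat 0, Int.ofNat 0, Int.ofNat 0, Int.negSucc 3, Int.ofNat 0, Int.ofNat 4],
  [Int.ofNat 0, Int.negSucc 3, Int.ofNat 0, Int.ofNat 0, Int.ofNat 0, Int.ofNat 0, Int.ofNat 0, Int.ofNat 0, Int.ofNat 0, Int.ofNat 0, Int.ofNat 0, Int.ofNat 0, Int.ofNat 0, Int.ofNat 0, Int.ofNat 0, Int.ofNat 0, Int.ofNat 0, Int.ofNat 0, Int.ofNat 0, Int.ofNat 0, Int.ofNat 0, Int.ofNat 0, Int.ofNat 0, Int.ofNat 4],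
  [Int.ofNat 0, Int.ofNat 4, Int.ofNat 0, Int.ofNat 0, Int.ofNat 0, Int.ofNat 0, Int.ofNat 0, Int.ofNat 0, Int.ofNat 0, Int.ofNat 0, Int.ofNat 0, Int.ofNat 0, Int.ofNat 0, Int.ofNat 0, Int.ofNat 0, Int.ofNat 0, Int.ofNat 0, Int.ofNat 0, Int.ofNat 0, Int.ofNat 0, Int.ofNat 0, Int.ofNat 0, Int.ofNat 0, Int.negSucc 3],
  [Int.ofNat 4, Int.ofNat 0, Int.ofNat 0, Int.ofNat 0, Int.ofNat 0, Int.ofNat 0, Int.ofNat 0, Int.ofNat 0, Int.ofNat 0, Int.ofNat 0, Int.ofNat 0, Int.ofNat 0, Int.ofNat 0, Int.ofNat 0, Int.ofNat 0, Int.ofNat 0, Int.ofNat 0, Int.ofNat 0, Int.ofNat 0, Int.ofNat 0, Int.ofNat 0, Int.ofNat 0, Int.ofNat 0, Int.negSucc 3],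
  [Int.negSucc 3, Int.ofNat 0, Int.ofNat 0, Int.ofNat 0, Int.ofNat 0, Int.ofNat 0, Int.ofNat 0, Int.ofNat 0, Int.ofNat 0, Int.ofNat 0, Int.ofNat 0, Int.ofNat 0, Int.ofNat 0, Int.ofNat 0, Int.ofNat 0, Int.ofNat 0, Int.ofNat 0, Int.ofNat 0, Int.ofNat 0, Int.ofNat 0, Int.ofNat 0, Int.ofNat 0, Int.ofNat 0, Int.negSucc 3],
  [Int.ofNat 4, Int.ofNat 0, Int.ofNat 0, Int.ofNat 0, Int.ofNat 0, Int.ofNat 0, Int.ofNat 0, Int.ofNat 0, Int.ofNat 0, Int.ofNat 0, Int.ofNat 0, Int.ofNat 0, Int.ofNat 0, Int.ofNat 0, Int.ofNat 0, Int.ofNat 0, Int.ofNat 0, Int.ofNat 0, Int.ofNat 0, Int.ofNat 0, Int.ofNat 0, Int.ofNat 0, Int.ofNat 0, Int.negSucc 3],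
  [Int.negSucc 3, Int.ofNat 0, Int.ofNat 0, Int.ofNat 0, Int.ofNat 0, Int.ofNat 0, Int.ofNat 0, Int.ofNat 0, Int.ofNat 0, Int.ofNat 0, Int.ofNat 0, Int.ofNat 0, Int.ofNat 0, Int.ofNat 0, Int.ofNat 0, Int.ofNat 0, Int.ofNat 0, Int.ofNat 0, Int.ofNat 0, Int.ofNat 0, Int.ofNat 0, Int.ofNat 0, Int.ofNat 0, Int.ofNat 4],
  [Int.ofNat 4, Int.ofNat 0, Int.ofNat 0, Int.ofNat 0, Int.ofNat 0, Int.ofNat 0, Int.ofNat 0, Int.ofNat 0, Int.ofNat 0, Int.ofNat 0, Int.ofNat 0, Int.ofNat 0, Int.ofNat 0, Int.ofNat 0, Int.ofNat 0, Int.ofNat 0, Int.ofNat 0, Int.ofNat 0, Int.ofNat 0, Int.ofNat 0, Int.ofNat 0, Int.ofNat 0, Int.ofNat 0, Int.ofNat 4],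
  [Int.ofNat 0, Int.ofNat 4, Int.ofNat 0, Int.ofNat 0, Int.ofNat 0, Int.ofNat 0, Int.ofNat 0, Int.ofNat 0, Int.ofNat 0, Int.ofNat 0, Int.ofNat 0, Int.ofNat 0, Int.ofNat 0, Int.ofNat 0, Int.ofNat 0, Int.ofNat 0, Int.ofNat 0, Int.ofNat 0, Int.ofNat 0, Int.ofNat 0, Int.ofNat 0, Int.ofNat 0, Int.ofNat 0, Int.ofNat 4],
  [Int.ofNat 4, Int.ofNat 0, Int.ofNat 4, Int.ofNat 0, Int.ofNat 0, Int.ofNat 0, Int.ofNat 0, Int.ofNat 0, Int.ofNat 0, Int.ofNat 0, Int.ofNat 0, Int.ofNat 0, Int.ofNat 0, Int.ofNat 0, Int.ofNat 0, Int.ofNat 0, Int.ofNat 0, Int.ofNat 0, Int.ofNat 0, Int.ofNat 0, Int.ofNat 0, Int.ofNat 0, Int.ofNat 0, Int.ofNat 0],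
  [Int.ofNat 0, Int.ofNat 0, Int.ofNat 0, Int.ofNat 0, Int.ofNat 0, Int.ofNat 0, Int.ofNat 0, Int.ofNat 0, Int.ofNat 0, Int.ofNat 0, Int.ofNat 0, Int.ofNat 0, Int.ofNat 0, Int.ofNat 0, Int.ofNat 0, Int.ofNat 0, Int.ofNat 0, Int.ofNat 0, Int.ofNat 0, Int.ofNat 0, Int.ofNat 4, Int.ofNat 0, Int.ofNat 4, Int.ofNat 0],
  [Int.ofNat 0, Int.ofNat 0, Int.ofNat 0, Int.ofNat 0, Int.negSucc 1, Int.ofNat 0, Int.ofNat 0, Int.ofNat 0, Int.ofNat 0, Int.negSucc 1, Int.negSucc 1, Int.ofNat 0, Int.ofNat 0, Int.negSucc 1, Int.ofNat 0, Int.negSucc 1, Int.negSucc 1, Int.ofNat 0, Int.ofNat 0, Int.ofNat 0, Int.ofNat 2, Int.ofNat 0, Int.ofNat 2, Int.ofNat 0],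
  [Int.ofNat 0, Int.ofNat 0, Int.negSucc 1, Int.ofNat 0, Int.ofNat 0, Int.ofNat 0, Int.ofNat 0, Int.negSucc 1, Int.ofNat 0, Int.negSucc 1, Int.ofNat 2, Int.ofNat 0, Int.negSucc 1, Int.negSucc 1, Int.ofNat 2, Int.negSucc 1, Int.ofNat 0, Int.ofNat 0, Int.ofNat 0, Int.ofNat 0, Int.ofNat 0, Int.ofNat 0, Int.ofNat 0, Int.ofNat 0],
  [Int.negSucc 0, Int.negSucc 0, Int.ofNat 1, Int.negSucc 0, Int.ofNat 1, Int.negSucc 0, Int.ofNat 1, Int.negSucc 0, Int.ofNat 1, Int.negSucc 0, Int.ofNat 3, Int.ofNat 1, Int.negSucc 0, Int.negSucc 0, Int.ofNat 1, Int.negSucc 0, Int.ofNat 1, Int.negSucc 0, Int.ofNat 1, Int.ofNat 1, Int.ofNat 1, Int.ofNat 1, Int.ofNat 1, Int.negSucc 0],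
  [Int.negSucc 0, Int.negSucc 0, Int.negSucc 0, Int.negSucc 0, Int.ofNat 1, Int.ofNat 1, Int.negSucc 0, Int.negSucc 0, Int.ofNat 1, Int.ofNat 1, Int.negSucc 2, Int.ofNat 1, Int.negSucc 0, Int.negSucc 0, Int.ofNat 1, Int.ofNat 1, Int.ofNat 1, Int.negSucc 0, Int.negSucc 0, Int.ofNat 1, Int.ofNat 1, Int.ofNat 1, Int.negSucc 0, Int.negSucc 0],
  [Int.ofNat 1, Int.ofNat 1, Int.negSucc 0, Int.negSucc 0, Int.negSucc 0, Int.negSucc 2, Int.negSucc 0, Int.ofNat 1, Int.ofNat 1, Int.negSucc 0, Int.negSucc 0, Int.negSucc 0, Int.ofNat 1, Int.ofNat 1, Int.negSucc 0, Int.ofNat 1, Int.ofNat 1, Int.ofNat 1, Int.negSucc 0, Int.ofNat 1, Int.ofNat 1, Int.negSucc 0, Int.negSucc 0, Int.negSucc 0],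
  [Int.ofNat 1, Int.ofNat 1, Int.ofNat 1, Int.negSucc 0, Int.negSucc 0, Int.ofNat 3, Int.ofNat 1, Int.ofNat 1, Int.ofNat 1, Int.ofNat 1, Int.ofNat 1, Int.negSucc 0, Int.ofNat 1, Int.ofNat 1, Int.negSucc 0, Int.negSucc 0, Int.ofNat 1, Int.ofNat 1, Int.ofNat 1, Int.ofNat 1, Int.ofNat 1, Int.negSucc 0, Int.ofNat 1, Int.negSucc 0],
  [Int.ofNat 0, Int.ofNat 0, Int.ofNat 0, Int.negSucc 1, Int.negSucc 1, Int.ofNat 2, Int.ofNat 0, Int.ofNat 0, Int.ofNat 0, Int.ofNat 0, Int.ofNat 0, Int.negSucc 1, Int.ofNat 0, Int.ofNat 0, Int.negSucc 1, Int.negSucc 1, Int.ofNat 0, Int.ofNat 0, Int.ofNat 0, Int.ofNat 0, Int.ofNat 0, Int.negSucc 1, Int.ofNat 0, Int.ofNat 2],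
  [Int.ofNat 0, Int.ofNat 0, Int.ofNat 0, Int.negSucc 1, Int.ofNat 0, Int.negSucc 1, Int.ofNat 0, Int.ofNat 2, Int.ofNat 0, Int.ofNat 0, Int.ofNat 0, Int.ofNat 0, Int.ofNat 0, Int.ofNat 0, Int.ofNat 0, Int.negSucc 1, Int.ofNat 0, Int.negSucc 1, Int.negSucc 1, Int.ofNat 0, Int.ofNat 0, Int.ofNat 0, Int.negSucc 1, Int.ofNat 2],
  [Int.ofNat 1, Int.ofNat 1, Int.ofNat 1, Int.ofNat 1, Int.ofNat 1, Int.ofNat 1, Int.negSucc 0, Int.ofNat 1, Int.ofNat 1, Int.ofNat 1, Int.ofNat 1, Int.ofNat 1, Int.ofNat 1, Int.ofNat 1, Int.ofNat 3, Int.negSucc 0, Int.ofNat 1, Int.ofNat 1, Int.negSucc 0, Int.negSucc 0, Int.ofNat 1, Int.negSucc 0, Int.negSucc 0, Int.negSucc 0],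
  [Int.ofNat 1, Int.negSucc 0, Int.negSucc 0, Int.ofNat 1, Int.ofNat 1, Int.ofNat 1, Int.ofNat 1, Int.ofNat 1, Int.ofNat 1, Int.negSucc 0, Int.ofNat 1, Int.ofNat 1, Int.ofNat 1, Int.ofNat 1, Int.ofNat 1, Int.ofNat 1, Int.ofNat 1, Int.ofNat 3, Int.negSucc 0, Int.ofNat 1, Int.ofNat 1, Int.negSucc 0, Int.negSucc 0, Int.negSucc 0],
  [Int.negSucc 1, Int.ofNat 0, Int.ofNat 0, Int.negSucc 1, Int.ofNat 0, Int.negSucc 1, Int.ofNat 0, Int.ofNat 0, Int.ofNat 0, Int.negSucc 1, Int.ofNat 0, Int.ofNat 0, Int.ofNat 0, Int.ofNat 0, Int.negSucc 1, Int.ofNat 0, Int.ofNat 0, Int.ofNat 0, Int.negSucc 1, Int.ofNat 0, Int.ofNat 0, Int.negSucc 1, Int.negSucc 1, Int.ofNat 0],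
  [Int.ofNat 0, Int.ofNat 0, Int.negSucc 1, Int.ofNat 0, Int.negSucc 1, Int.ofNat 0, Int.ofNat 0, Int.ofNat 0, Int.negSucc 1, Int.ofNat 0, Int.ofNat 0, Int.ofNat 0, Int.ofNat 0, Int.negSucc 1, Int.ofNat 0, Int.ofNat 0, Int.ofNat 0, Int.negSucc 1, Int.ofNat 0, Int.ofNat 0, Int.negSucc 1, Int.negSucc 1, Int.negSucc 1, Int.ofNat 0],
  [Int.ofNat 0, Int.ofNat 0, Int.ofNat 2, Int.ofNat 0, Int.negSucc 1, Int.ofNat 0, Int.ofNat 0, Int.ofNat 0, Int.negSucc 1, Int.ofNat 0, Int.ofNat 0, Int.ofNat 0, Int.ofNat 0, Int.negSucc 1, Int.ofNat 0, Int.ofNat 0, Int.ofNat 0, Int.negSucc 1, Int.ofNat 0, Int.ofNat 0, Int.negSucc 1, Int.ofNat 2, Int.negSucc 1, Int.ofNat 0],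
  [Int.ofNat 0, Int.ofNat 0, Int.negSucc 1, Int.ofNat 0, Int.ofNat 2, Int.ofNat 0, Int.ofNat 0, Int.ofNat 0, Int.ofNat 2, Int.ofNat 0, Int.ofNat 0, Int.ofNat 0, Int.ofNat 0, Int.ofNat 2, Int.ofNat 0, Int.ofNat 0, Int.ofNat 0, Int.negSucc 1, Int.ofNat 0, Int.ofNat 0, Int.negSucc 1, Int.ofNat 2, Int.negSucc 1, Int.ofNat 0],
  [Int.ofNat 0, Int.negSucc 1, Int.ofNat 0, Int.ofNat 0, Int.negSucc 1, Int.ofNat 0, Int.ofNat 0, Int.ofNat 2, Int.negSucc 1, Int.ofNat 0, Int.ofNat 0, Int.negSucc 1, Int.ofNat 2, Int.ofNat 0, Int.ofNat 0, Int.ofNat 0, Int.ofNat 0, Int.ofNat 2, Int.ofNat 0, Int.ofNat 0, Int.ofNat 2, Int.ofNat 0, Int.ofNat 0, Int.ofNat 0],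
  [Int.ofNat 0, Int.negSucc 1, Int.ofNat 0, Int.ofNat 0, Int.negSucc 1, Int.ofNat 0, Int.ofNat 0, Int.negSucc 1, Int.negSucc 1, Int.ofNat 0, Int.ofNat 0, Int.ofNat 2, Int.ofNat 2, Int.ofNat 0, Int.ofNat 0, Int.ofNat 0, Int.ofNat 0, Int.ofNat 2, Int.ofNat 0, Int.ofNat 0, Int.ofNat 2, Int.ofNat 0, Int.ofNat 0, Int.ofNat 0],
  [Int.ofNat 0, Int.ofNat 0, Int.negSucc 1, Int.ofNat 0, Int.ofNat 0, Int.negSucc 1, Int.ofNat 0, Int.ofNat 0, Int.negSucc 1, Int.negSucc 1, Int.ofNat 0, Int.ofNat 0, Int.ofNat 2, Int.ofNat 2, Int.ofNat 0, Int.ofNat 0, Int.ofNat 0, Int.ofNat 0, Int.ofNat 2, Int.ofNat 0, Int.ofNat 0, Int.ofNat 2, Int.ofNat 0, Int.ofNat 0],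
  [Int.negSucc 0, Int.negSucc 0, Int.ofNat 1, Int.ofNat 1, Int.negSucc 0, Int.negSucc 0, Int.negSucc 0, Int.negSucc 0, Int.negSucc 2, Int.negSucc 0, Int.ofNat 1, Int.negSucc 0, Int.ofNat 1, Int.ofNat 1, Int.ofNat 1, Int.ofNat 1, Int.negSucc 0, Int.ofNat 1, Int.ofNat 1, Int.negSucc 0, Int.ofNat 1, Int.ofNat 1, Int.negSucc 0, Int.negSucc 0],
  [Int.ofNat 1, Int.negSucc 0, Int.negSucc 0, Int.negSucc 0, Int.negSucc 0, Int.negSucc 2, Int.negSucc 0, Int.ofNat 1, Int.negSucc 0, Int.ofNat 1, Int.ofNat 1, Int.ofNat 1, Int.ofNat 1, Int.negSucc 0, Int.ofNat 1, Int.ofNat 1, Int.negSucc 0, Int.ofNat 1, Int.ofNat 1, Int.negSucc 0, Int.negSucc 0, Int.negSucc 0, Int.ofNat 1, Int.negSucc 0],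
  [Int.negSucc 1, Int.ofNat 0, Int.ofNat 0, Int.ofNat 0, Int.ofNat 0, Int.negSucc 1, Int.ofNat 0, Int.ofNat 2, Int.negSucc 1, Int.ofNat 0, Int.ofNat 0, Int.ofNat 0, Int.ofNat 0, Int.ofNat 0, Int.ofNat 2, Int.ofNat 0, Int.ofNat 0, Int.ofNat 2, Int.ofNat 0, Int.ofNat 0, Int.negSucc 1, Int.ofNat 0, Int.ofNat 2, Int.ofNat 0],
  [Int.negSucc 1, Int.ofNat 0, Int.ofNat 0, Int.ofNat 0, Int.ofNat 0, Int.ofNat 2, Int.ofNat 0, Int.ofNat 0, Int.ofNat 0, Int.ofNat 0, Int.negSucc 1, Int.ofNat 2, Int.ofNat 0, Int.ofNat 0, Int.ofNat 2, Int.ofNat 0, Int.negSucc 1, Int.ofNat 2, Int.ofNat 0, Int.ofNat 0, Int.ofNat 0, Int.negSucc 1, Int.ofNat 0, Int.ofNat 0],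
  [Int.ofNat 1, Int.negSucc 0, Int.negSucc 0, Int.negSucc 2, Int.ofNat 1, Int.negSucc 0, Int.ofNat 1, Int.ofNat 1, Int.negSucc 0, Int.ofNat 1, Int.negSucc 0, Int.ofNat 1, Int.negSucc 0, Int.ofNat 1, Int.negSucc 0, Int.ofNat 1, Int.negSucc 0, Int.negSucc 0, Int.negSucc 0, Int.ofNat 1, Int.ofNat 1, Int.negSucc 0, Int.ofNat 1, Int.negSucc 0],
  [Int.ofNat 1, Int.negSucc 0, Int.ofNat 1, Int.negSucc 2, Int.ofNat 1, Int.ofNat 1, Int.negSucc 0, Int.ofNat 1, Int.negSucc 0, Int.negSucc 0, Int.ofNat 1, Int.ofNat 1, Int.negSucc 0, Int.ofNat 1, Int.negSucc 0, Int.negSucc 0, Int.negSucc 0, Int.negSucc 0, Int.ofNat 1, Int.ofNat 1, Int.ofNat 1, Int.negSucc 0, Int.negSucc 0, Int.negSucc 0],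
  [Int.negSucc 0, Int.ofNat 1, Int.ofNat 1, Int.negSucc 0, Int.negSucc 0, Int.ofNat 1, Int.ofNat 1, Int.negSucc 0, Int.negSucc 0, Int.ofNat 1, Int.ofNat 1, Int.negSucc 0, Int.ofNat 1, Int.ofNat 1, Int.ofNat 1, Int.negSucc 0, Int.ofNat 1, Int.negSucc 0, Int.negSucc 2, Int.ofNat 1, Int.negSucc 0, Int.negSucc 0, Int.negSucc 0, Int.negSucc 0],
  [Int.negSucc 0, Int.ofNat 1, Int.negSucc 0, Int.negSucc 0, Int.negSucc 0, Int.negSucc 0, Int.negSucc 0, Int.negSucc 0, Int.negSucc 0, Int.negSucc 0, Int.negSucc 0, Int.negSucc 0, Int.ofNat 1, Int.ofNat 1, Int.ofNat 1, Int.ofNat 1, Int.ofNat 1, Int.negSucc 0, Int.ofNat 3, Int.ofNat 1, Int.negSucc 0, Int.negSucc 0, Int.ofNat 1, Int.negSucc 0],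
  [Int.ofNat 0, Int.negSucc 1, Int.ofNat 0, Int.ofNat 0, Int.negSucc 1, Int.ofNat 0, Int.ofNat 0, Int.ofNat 0, Int.negSucc 1, Int.ofNat 0, Int.ofNat 0, Int.negSucc 1, Int.ofNat 0, Int.ofNat 0, Int.ofNat 2, Int.ofNat 2, Int.ofNat 0, Int.ofNat 0, Int.ofNat 2, Int.ofNat 2, Int.ofNat 0, Int.ofNat 0, Int.ofNat 0, Int.ofNat 0],
  [Int.ofNat 0, Int.ofNat 2, Int.ofNat 0, Int.ofNat 0, Int.ofNat 0, Int.ofNat 0, Int.negSucc 1, Int.ofNat 0, Int.ofNat 0, Int.ofNat 0, Int.ofNat 0, Int.ofNat 2, Int.negSucc 1, Int.ofNat 0, Int.ofNat 0, Int.ofNat 2, Int.ofNat 0, Int.negSucc 1, Int.negSucc 1, Int.ofNat 0, Int.ofNat 0, Int.ofNat 0, Int.ofNat 2, Int.ofNat 0],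
  [Int.ofNat 1, Int.negSucc 0, Int.ofNat 1, Int.ofNat 1, Int.negSucc 0, Int.ofNat 1, Int.negSucc 0, Int.ofNat 1, Int.ofNat 1, Int.negSucc 0, Int.negSucc 0, Int.ofNat 3, Int.negSucc 0, Int.negSucc 0, Int.ofNat 1, Int.ofNat 1, Int.negSucc 0, Int.negSucc 0, Int.negSucc 0, Int.ofNat 1, Int.negSucc 0, Int.ofNat 1, Int.ofNat 1, Int.ofNat 1],
  [Int.negSucc 0, Int.ofNat 1, Int.ofNat 1, Int.ofNat 1, Int.negSucc 0, Int.ofNat 1, Int.ofNat 1, Int.negSucc 0, Int.ofNat 1, Int.negSucc 0, Int.ofNat 1, Int.ofNat 1, Int.negSucc 0, Int.negSucc 0, Int.ofNat 3, Int.negSucc 0, Int.negSucc 0, Int.ofNat 1, Int.ofNat 1, Int.negSucc 0, Int.negSucc 0, Int.negSucc 0, Int.ofNat 1, Int.ofNat 1],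
  [Int.ofNat 2, Int.ofNat 0, Int.ofNat 0, Int.negSucc 1, Int.ofNat 0, Int.negSucc 1, Int.ofNat 2, Int.ofNat 0, Int.ofNat 0, Int.ofNat 0, Int.ofNat 2, Int.ofNat 0, Int.negSucc 1, Int.ofNat 0, Int.ofNat 0, Int.ofNat 0, Int.ofNat 0, Int.negSucc 1, Int.ofNat 0, Int.ofNat 0, Int.ofNat 0, Int.ofNat 0, Int.ofNat 2, Int.ofNat 0],
  [Int.ofNat 0, Int.ofNat 0, Int.negSucc 1, Int.ofNat 0, Int.negSucc 1, Int.ofNat 2, Int.ofNat 0, Int.ofNat 0, Int.ofNat 0, Int.ofNat 2, Int.ofNat 0, Int.negSucc 1, Int.ofNat 0, Int.ofNat 0, Int.ofNat 0, Int.ofNat 0, Int.negSucc 1, Int.ofNat 0, Int.ofNat 0, Int.ofNat 0, Int.ofNat 0, Int.ofNat 2, Int.ofNat 2, Int.ofNat 0],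
  [Int.ofNat 0, Int.ofNat 0, Int.ofNat 2, Int.ofNat 0, Int.negSucc 1, Int.ofNat 2, Int.ofNat 0, Int.ofNat 0, Int.ofNat 0, Int.negSucc 1, Int.ofNat 0, Int.ofNat 2, Int.ofNat 0, Int.ofNat 0, Int.ofNat 0, Int.ofNat 0, Int.negSucc 1, Int.ofNat 0, Int.ofNat 0, Int.ofNat 0, Int.ofNat 0, Int.negSucc 1, Int.ofNat 2, Int.ofNat 0]]

set_option maxRecDepth 100000 in
theorem c1e16_chk : pmChk (List.replicate 14 [16, 0, 25]).flatten nxL c1e16M 0 0 = true := by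
  decide +kernel

theorem c1e16_ne : wE letE2 (List.replicate 14 [16, 0, 25]).flatten ≠ 1 ∧ wE letE2 (List.replicate 14 [16, 0, 25]).flatten ≠ negElt :=
  ne_pm_of_chk nxL_mem c1e16_chk

set_option maxRecDepth 100000 in
def c1e17M : List (List ℤ) :=
  [[Int.ofNat 4, Int.ofNat 0, Int.ofNat 0, Int.ofNat 0, Int.ofNat 0, Int.ofNat 0, Int.ofNat 0, Int.ofNat 0, Int.ofNat 0, Int.ofNat 0, Int.ofNat 0, Int.ofNat 0, Int.ofNat 0, Int.ofNat 0, Int.ofNat 0, Int.ofNat 0, Int.ofNat 0, Int.ofNat 0, Int.ofNat 0, Int.ofNat 0, Int.ofNat 0, Int.ofNat 0, Int.ofNat 0, Int.ofNat 4],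
  [Int.ofNat 4, Int.ofNat 0, Int.ofNat 0, Int.ofNat 0, Int.ofNat 0, Int.ofNat 0, Int.ofNat 0, Int.ofNat 0, Int.ofNat 0, Int.ofNat 0, Int.ofNat 0, Int.ofNat 0, Int.ofNat 0, Int.ofNat 0, Int.ofNat 0, Int.ofNat 0, Int.ofNat 0, Int.ofNat 0, Int.ofNat 0, Int.ofNat 0, Int.ofNat 0, Int.ofNat 0, Int.ofNat 0, Int.ofNat 4],
  [Int.negSucc 3, Int.ofNat 0, Int.ofNat 0, Int.ofNat 0, Int.ofNat 0, Int.ofNat 0, Int.ofNat 0, Int.ofNat 0, Int.ofNat 0, Int.ofNat 0, Int.ofNat 0, Int.ofNat 0, Int.ofNat 0, Int.ofNat 0, Int.ofNat 0, Int.ofNat 0, Int.ofNat 0, Int.ofNat 0, Int.ofNat 0, Int.ofNat 0, Int.ofNat 0, Int.ofNat 0, Int.ofNat 0, Int.ofNat 4],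
  [Int.ofNat 0, Int.negSucc 3, Int.ofNat 0, Int.ofNat 0, Int.ofNat 0, Int.ofNat 0, Int.ofNat 0, Int.ofNat 0, Int.ofNat 0, Int.ofNat 0, Int.ofNat 0, Int.ofNat 0, Int.ofNat 0, Int.ofNat 0, Int.ofNat 0, Int.ofNat 0, Int.ofNat 0, Int.ofNat 0, Int.ofNat 0, Int.ofNat 0, Int.ofNat 0, Int.ofNat 0, Int.ofNat 0, Int.ofNat 4],
  [Int.ofNat 0, Int.ofNat 4, Int.ofNat 0, Int.ofNat 0, Int.ofNat 0, Int.ofNat 0, Int.ofNat 0, Int.ofNat 0, Int.ofNat 0, Int.ofNat 0, Int.ofNat 0, Int.ofNat 0, Int.ofNat 0, Int.ofNat 0, Int.ofNat 0, Int.ofNat 0, Int.ofNat 0, Int.ofNat 0, Int.ofNat 0, Int.ofNat 0, Int.ofNat 0, Int.ofNat 0, Int.ofNat 0, Int.negSucc 3],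
  [Int.ofNat 0, Int.ofNat 0, Int.ofNat 0, Int.ofNat 0, Int.ofNat 0, Int.ofNat 0, Int.ofNat 0, Int.ofNat 0, Int.ofNat 0, Int.ofNat 0, Int.ofNat 0, Int.ofNat 0, Int.ofNat 0, Int.ofNat 0, Int.ofNat 0, Int.ofNat 0, Int.ofNat 0, Int.ofNat 0, Int.ofNat 0, Int.ofNat 0, Int.ofNat 0, Int.ofNat 4, Int.ofNat 0, Int.negSucc 3],
  [Int.negSucc 1, Int.negSucc 1, Int.negSucc 1, Int.ofNat 0, Int.ofNat 0, Int.ofNat 0, Int.negSucc 1, Int.negSucc 1, Int.ofNat 0, Int.ofNat 0, Int.ofNat 0, Int.ofNat 0, Int.ofNat 0, Int.ofNat 0, Int.ofNat 0, Int.ofNat 0, Int.ofNat 0, Int.ofNat 0, Int.ofNat 0, Int.negSucc 1, Int.ofNat 0, Int.ofNat 2, Int.ofNat 0, Int.ofNat 2],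
  [Int.negSucc 1, Int.negSucc 1, Int.ofNat 0, Int.ofNat 0, Int.ofNat 0, Int.negSucc 1, Int.negSucc 1, Int.ofNat 0, Int.ofNat 0, Int.ofNat 0, Int.ofNat 0, Int.ofNat 0, Int.ofNat 0, Int.ofNat 0, Int.ofNat 0, Int.ofNat 0, Int.ofNat 0, Int.ofNat 0, Int.negSucc 1, Int.ofNat 0, Int.ofNat 2, Int.ofNat 0, Int.negSucc 1, Int.ofNat 2],
  [Int.ofNat 1, Int.ofNat 1, Int.negSucc 0, Int.ofNat 1, Int.ofNat 1, Int.negSucc 0, Int.negSucc 0, Int.ofNat 1, Int.ofNat 1, Int.negSucc 0, Int.negSucc 0, Int.ofNat 1, Int.ofNat 1, Int.ofNat 1, Int.ofNat 1, Int.negSucc 0, Int.ofNat 1, Int.ofNat 1, Int.negSucc 0, Int.ofNat 1, Int.ofNat 1, Int.ofNat 1, Int.negSucc 0, Int.negSucc 2],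
  [Int.ofNat 1, Int.ofNat 1, Int.ofNat 1, Int.ofNat 1, Int.ofNat 1, Int.ofNat 1, Int.ofNat 1, Int.ofNat 1, Int.ofNat 1, Int.ofNat 1, Int.ofNat 1, Int.ofNat 1, Int.ofNat 1, Int.ofNat 1, Int.ofNat 1, Int.ofNat 1, Int.ofNat 1, Int.ofNat 1, Int.ofNat 1, Int.ofNat 1, Int.ofNat 1, Int.ofNat 1, Int.ofNat 1, Int.negSucc 2],
  [Int.ofNat 1, Int.ofNat 1, Int.ofNat 1, Int.ofNat 1, Int.ofNat 1, Int.ofNat 1, Int.ofNat 1, Int.ofNat 1, Int.ofNat 1, Int.ofNat 1, Int.ofNat 1, Int.ofNat 1, Int.ofNat 1, Int.ofNat 1, Int.ofNat 1, Int.ofNat 1, Int.ofNat 1, Int.ofNat 1, Int.ofNat 1, Int.ofNat 1, Int.ofNat 1, Int.ofNat 1, Int.ofNat 1, Int.negSucc 2],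
  [Int.ofNat 1, Int.ofNat 1, Int.negSucc 0, Int.ofNat 1, Int.ofNat 1, Int.negSucc 0, Int.negSucc 0, Int.ofNat 1, Int.ofNat 1, Int.negSucc 0, Int.negSucc 0, Int.ofNat 1, Int.ofNat 1, Int.ofNat 1, Int.ofNat 1, Int.negSucc 0, Int.ofNat 1, Int.ofNat 1, Int.negSucc 0, Int.ofNat 1, Int.ofNat 1, Int.ofNat 1, Int.negSucc 0, Int.negSucc 2],
  [Int.negSucc 1, Int.negSucc 1, Int.ofNat 0, Int.ofNat 0, Int.ofNat 0, Int.negSucc 1, Int.negSucc 1, Int.ofNat 0, Int.ofNat 0, Int.ofNat 0, Int.ofNat 0, Int.ofNat 0, Int.ofNat 0, Int.ofNat 0, Int.ofNat 0, Int.ofNat 0, Int.ofNat 0, Int.ofNat 0, Int.negSucc 1, Int.ofNat 0, Int.ofNat 2, Int.ofNat 0, Int.negSucc 1, Int.ofNat 2],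
  [Int.negSucc 1, Int.negSucc 1, Int.negSucc 1, Int.ofNat 0, Int.ofNat 0, Int.ofNat 0, Int.negSucc 1, Int.negSucc 1, Int.ofNat 0, Int.ofNat 0, Int.ofNat 0, Int.ofNat 0, Int.ofNat 0, Int.ofNat 0, Int.ofNat 0, Int.ofNat 0, Int.ofNat 0, Int.ofNat 0, Int.ofNat 0, Int.negSucc 1, Int.ofNat 0, Int.ofNat 2, Int.ofNat 0, Int.ofNat 2],
  [Int.ofNat 0, Int.ofNat 0, Int.ofNat 0, Int.ofNat 0, Int.ofNat 0, Int.ofNat 0, Int.ofNat 0, Int.ofNat 0, Int.ofNat 0, Int.ofNat 0, Int.ofNat 0, Int.ofNat 0, Int.ofNat 0, Int.ofNat 0, Int.ofNat 0, Int.ofNat 0, Int.ofNat 0, Int.ofNat 0, Int.ofNat 0, Int.ofNat 0, Int.ofNat 0, Int.ofNat 4, Int.ofNat 0, Int.negSucc 3],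
  [Int.ofNat 0, Int.ofNat 4, Int.ofNat 0, Int.ofNat 0, Int.ofNat 0, Int.ofNat 0, Int.ofNat 0, Int.ofNat 0, Int.ofNat 0, Int.ofNat 0, Int.ofNat 0, Int.ofNat 0, Int.ofNat 0, Int.ofNat 0, Int.ofNat 0, Int.ofNat 0, Int.ofNat 0, Int.ofNat 0, Int.ofNat 0, Int.ofNat 0, Int.ofNat 0, Int.ofNat 0, Int.ofNat 0, Int.negSucc 3],
  [Int.ofNat 0, Int.negSucc 3, Int.ofNat 0, Int.ofNat 0, Int.ofNat 0, Int.ofNat 0, Int.ofNat 0, Int.ofNat 0, Int.ofNat 0, Int.ofNat 0, Int.ofNat 0, Int.ofNat 0, Int.ofNat 0, Int.ofNat 0, Int.ofNat 0, Int.ofNat 0, Int.ofNat 0, Int.ofNat 0, Int.ofNat 0, Int.ofNat 0, Int.ofNat 0, Int.ofNat 0, Int.ofNat 0, Int.ofNat 4],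
  [Int.negSucc 3, Int.ofNat 0, Int.ofNat 0, Int.ofNat 0, Int.ofNat 0, Int.ofNat 0, Int.ofNat 0, Int.ofNat 0, Int.ofNat 0, Int.ofNat 0, Int.ofNat 0, Int.ofNat 0, Int.ofNat 0, Int.ofNat 0, Int.ofNat 0, Int.ofNat 0, Int.ofNat 0, Int.ofNat 0, Int.ofNat 0, Int.ofNat 0, Int.ofNat 0, Int.ofNat 0, Int.ofNat 0, Int.ofNat 4],
  [Int.ofNat 4, Int.ofNat 0, Int.ofNat 0, Int.ofNat 0, Int.ofNat 0, Int.ofNat 0, Int.ofNat 0, Int.ofNat 0, Int.ofNat 0, Int.ofNat 0, Int.ofNat 0, Int.ofNat 0, Int.ofNat 0, Int.ofNat 0, Int.ofNat 0, Int.ofNat 0, Int.ofNat 0, Int.ofNat 0, Int.ofNat 0, Int.ofNat 0, Int.ofNat 0, Int.ofNat 0, Int.ofNat 0, Int.ofNat 4],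
  [Int.negSucc 3, Int.ofNat 0, Int.ofNat 0, Int.ofNat 0, Int.ofNat 0, Int.ofNat 0, Int.ofNat 0, Int.ofNat 0, Int.ofNat 0, Int.ofNat 0, Int.ofNat 0, Int.ofNat 0, Int.ofNat 0, Int.ofNat 0, Int.ofNat 0, Int.ofNat 0, Int.ofNat 0, Int.ofNat 0, Int.ofNat 0, Int.ofNat 0, Int.ofNat 0, Int.ofNat 0, Int.ofNat 0, Int.ofNat 4],
  [Int.ofNat 4, Int.ofNat 0, Int.ofNat 0, Int.ofNat 0, Int.ofNat 0, Int.ofNat 0, Int.ofNat 0, Int.ofNat 0, Int.ofNat 0, Int.ofNat 0, Int.ofNat 0, Int.ofNat 0, Int.ofNat 0, Int.ofNat 0, Int.ofNat 0, Int.ofNat 0, Int.ofNat 0, Int.ofNat 0, Int.ofNat 0, Int.ofNat 0, Int.ofNat 0, Int.ofNat 0, Int.ofNat 0, Int.negSucc 3],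
  [Int.negSucc 3, Int.ofNat 0, Int.ofNat 0, Int.ofNat 0, Int.ofNat 0, Int.ofNat 0, Int.ofNat 0, Int.ofNat 0, Int.ofNat 0, Int.ofNat 0, Int.ofNat 0, Int.ofNat 0, Int.ofNat 0, Int.ofNat 0, Int.ofNat 0, Int.ofNat 0, Int.ofNat 0, Int.ofNat 0, Int.ofNat 0, Int.ofNat 0, Int.ofNat 0, Int.ofNat 0, Int.ofNat 0, Int.negSucc 3],
  [Int.ofNat 0, Int.negSucc 3, Int.ofNat 0, Int.ofNat 0, Int.ofNat 0, Int.ofNat 0, Int.ofNat 0, Int.ofNat 0, Int.ofNat 0, Int.ofNat 0, Int.ofNat 0, Int.ofNat 0, Int.ofNat 0, Int.ofNat 0, Int.ofNat 0, Int.ofNat 0, Int.ofNat 0, Int.ofNat 0, Int.ofNat 0, Int.ofNat 0, Int.ofNat 0, Int.ofNat 0, Int.ofNat 0, Int.negSucc 3],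
  [Int.negSucc 3, Int.ofNat 0, Int.negSucc 3, Int.ofNat 0, Int.ofNat 0, Int.ofNat 0, Int.ofNat 0, Int.ofNat 0, Int.ofNat 0, Int.ofNat 0, Int.ofNat 0, Int.ofNat 0, Int.ofNat 0, Int.ofNat 0, Int.ofNat 0, Int.ofNat 0, Int.ofNat 0, Int.ofNat 0, Int.ofNat 0, Int.ofNat 0, Int.ofNat 0, Int.ofNat 0, Int.ofNat 0, Int.ofNat 0],
  [Int.ofNat 0, Int.ofNat 0, Int.ofNat 0, Int.ofNat 0, Int.ofNat 0, Int.ofNat 0, Int.ofNat 0, Int.ofNat 0, Int.ofNat 0, Int.ofNat 0, Int.ofNat 0, Int.ofNat 0, Int.ofNat 0, Int.ofNat 0, Int.ofNat 0, Int.ofNat 0, Int.ofNat 0, Int.ofNat 0, Int.ofNat 0, Int.ofNat 0, Int.negSucc 3, Int.ofNat 0, Int.negSucc 3, Int.ofNat 0],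
  [Int.ofNat 0, Int.ofNat 0, Int.ofNat 0, Int.ofNat 0, Int.ofNat 2, Int.ofNat 0, Int.ofNat 0, Int.ofNat 0, Int.ofNat 0, Int.ofNat 2, Int.ofNat 2, Int.ofNat 0, Int.ofNat 0, Int.ofNat 2, Int.ofNat 0, Int.ofNat 2, Int.ofNat 2, Int.ofNat 0, Int.ofNat 0, Int.ofNat 0, Int.negSucc 1, Int.ofNat 0, Int.negSucc 1, Int.ofNat 0],
  [Int.ofNat 0, Int.ofNat 0, Int.ofNat 2, Int.ofNat 0, Int.ofNat 0, Int.ofNat 0, Int.ofNat 0, Int.ofNat 2, Int.ofNat 0, Int.ofNat 2, Int.negSucc 1, Int.ofNat 0, Int.ofNat 2, Int.ofNat 2, Int.negSucc 1, Int.ofNat 2, Int.ofNat 0, Int.ofNat 0, Int.ofNat 0, Int.ofNat 0, Int.ofNat 0, Int.ofNat 0, Int.ofNat 0, Int.ofNat 0],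
  [Int.ofNat 1, Int.ofNat 1, Int.negSucc 0, Int.ofNat 1, Int.negSucc 0, Int.ofNat 1, Int.negSucc 0, Int.ofNat 1, Int.negSucc 0, Int.ofNat 1, Int.negSucc 2, Int.negSucc 0, Int.ofNat 1, Int.ofNat 1, Int.negSucc 0, Int.ofNat 1, Int.negSucc 0, Int.ofNat 1, Int.negSucc 0, Int.negSucc 0, Int.negSucc 0, Int.negSucc 0, Int.negSucc 0, Int.ofNat 1],
  [Int.ofNat 1, Int.ofNat 1, Int.ofNat 1, Int.ofNat 1, Int.negSucc 0, Int.negSucc 0, Int.ofNat 1, Int.ofNat 1, Int.negSucc 0, Int.negSucc 0, Int.ofNat 3, Int.negSucc 0, Int.ofNat 1, Int.ofNat 1, Int.negSucc 0, Int.negSucc 0, Int.negSucc 0, Int.ofNat 1, Int.ofNat 1, Int.negSucc 0, Int.negSucc 0, Int.negSucc 0, Int.ofNat 1, Int.ofNat 1],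
  [Int.ofNat 3, Int.negSucc 0, Int.ofNat 1, Int.ofNat 1, Int.negSucc 0, Int.ofNat 1, Int.negSucc 0, Int.ofNat 1, Int.negSucc 0, Int.ofNat 1, Int.negSucc 0, Int.ofNat 1, Int.ofNat 1, Int.negSucc 0, Int.ofNat 1, Int.ofNat 1, Int.negSucc 0, Int.ofNat 1, Int.negSucc 0, Int.ofNat 1, Int.negSucc 0, Int.negSucc 0, Int.negSucc 0, Int.ofNat 1],
  [Int.ofNat 3, Int.negSucc 0, Int.negSucc 0, Int.ofNat 1, Int.negSucc 0, Int.negSucc 0, Int.ofNat 1, Int.ofNat 1, Int.negSucc 0, Int.negSucc 0, Int.ofNat 1, Int.ofNat 1, Int.ofNat 1, Int.negSucc 0, Int.ofNat 1, Int.negSucc 0, Int.negSucc 0, Int.ofNat 1, Int.ofNat 1, Int.ofNat 1, Int.negSucc 0, Int.negSucc 0, Int.ofNat 1, Int.ofNat 1],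
  [Int.negSucc 1, Int.ofNat 2, Int.ofNat 2, Int.ofNat 0, Int.ofNat 0, Int.negSucc 1, Int.ofNat 0, Int.ofNat 0, Int.negSucc 1, Int.ofNat 0, Int.ofNat 2, Int.ofNat 0, Int.ofNat 0, Int.ofNat 0, Int.ofNat 0, Int.ofNat 0, Int.ofNat 0, Int.ofNat 0, Int.ofNat 0, Int.ofNat 0, Int.ofNat 0, Int.negSucc 1, Int.ofNat 2, Int.ofNat 0],
  [Int.negSucc 1, Int.ofNat 0, Int.ofNat 0, Int.ofNat 0, Int.ofNat 2, Int.negSucc 1, Int.ofNat 2, Int.negSucc 1, Int.ofNat 0, Int.ofNat 0, Int.ofNat 0, Int.ofNat 0, Int.negSucc 1, Int.ofNat 0, Int.ofNat 0, Int.ofNat 0, Int.ofNat 0, Int.ofNat 0, Int.ofNat 0, Int.ofNat 2, Int.ofNat 2, Int.ofNat 0, Int.ofNat 0, Int.ofNat 0],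
  [Int.ofNat 1, Int.negSucc 0, Int.negSucc 0, Int.ofNat 1, Int.ofNat 1, Int.negSucc 0, Int.ofNat 1, Int.negSucc 2, Int.ofNat 1, Int.negSucc 0, Int.negSucc 0, Int.ofNat 1, Int.negSucc 0, Int.negSucc 0, Int.ofNat 1, Int.negSucc 0, Int.negSucc 0, Int.ofNat 1, Int.ofNat 1, Int.ofNat 1, Int.ofNat 1, Int.negSucc 0, Int.negSucc 0, Int.negSucc 0],
  [Int.ofNat 1, Int.negSucc 0, Int.negSucc 0, Int.ofNat 1, Int.negSucc 0, Int.negSucc 0, Int.ofNat 1, Int.ofNat 1, Int.negSucc 0, Int.ofNat 1, Int.negSucc 2, Int.ofNat 1, Int.negSucc 0, Int.negSucc 0, Int.ofNat 1, Int.negSucc 0, Int.negSucc 0, Int.ofNat 1, Int.negSucc 0, Int.negSucc 0, Int.ofNat 1, Int.ofNat 1, Int.ofNat 1, Int.negSucc 0],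
  [Int.negSucc 1, Int.ofNat 0, Int.ofNat 0, Int.ofNat 0, Int.ofNat 0, Int.negSucc 1, Int.ofNat 0, Int.ofNat 0, Int.ofNat 0, Int.ofNat 2, Int.negSucc 1, Int.ofNat 2, Int.ofNat 0, Int.ofNat 0, Int.ofNat 0, Int.ofNat 0, Int.ofNat 0, Int.ofNat 0, Int.ofNat 0, Int.negSucc 1, Int.ofNat 2, Int.ofNat 0, Int.ofNat 2, Int.ofNat 0],
  [Int.ofNat 0, Int.ofNat 0, Int.ofNat 0, Int.ofNat 0, Int.negSucc 1, Int.ofNat 0, Int.ofNat 0, Int.ofNat 0, Int.ofNat 2, Int.negSucc 1, Int.ofNat 2, Int.ofNat 0, Int.ofNat 0, Int.ofNat 0, Int.ofNat 0, Int.ofNat 0, Int.ofNat 0, Int.ofNat 0, Int.negSucc 1, Int.ofNat 2, Int.ofNat 0, Int.ofNat 2, Int.negSucc 1, Int.ofNat 0],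
  [Int.ofNat 0, Int.ofNat 0, Int.ofNat 0, Int.ofNat 0, Int.negSucc 1, Int.ofNat 0, Int.ofNat 0, Int.ofNat 0, Int.ofNat 2, Int.ofNat 2, Int.negSucc 1, Int.ofNat 0, Int.ofNat 0, Int.ofNat 0, Int.ofNat 0, Int.ofNat 0, Int.ofNat 0, Int.ofNat 0, Int.ofNat 2, Int.ofNat 2, Int.ofNat 0, Int.negSucc 1, Int.negSucc 1, Int.ofNat 0],
  [Int.ofNat 0, Int.ofNat 0, Int.ofNat 0, Int.ofNat 0, Int.ofNat 2, Int.ofNat 0, Int.ofNat 0, Int.ofNat 0, Int.negSucc 1, Int.negSucc 1, Int.negSucc 1, Int.ofNat 0, Int.ofNat 0, Int.ofNat 0, Int.ofNat 0, Int.ofNat 0, Int.ofNat 0, Int.ofNat 0, Int.negSucc 1, Int.ofNat 2, Int.ofNat 0, Int.negSucc 1, Int.negSucc 1, Int.ofNat 0],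
  [Int.ofNat 0, Int.negSucc 1, Int.ofNat 0, Int.ofNat 0, Int.ofNat 0, Int.negSucc 1, Int.ofNat 2, Int.ofNat 0, Int.ofNat 0, Int.ofNat 0, Int.ofNat 0, Int.ofNat 0, Int.negSucc 1, Int.ofNat 0, Int.negSucc 1, Int.ofNat 0, Int.negSucc 1, Int.ofNat 2, Int.ofNat 0, Int.ofNat 0, Int.negSucc 1, Int.ofNat 0, Int.ofNat 0, Int.ofNat 0],
  [Int.ofNat 0, Int.negSucc 1, Int.ofNat 0, Int.ofNat 0, Int.ofNat 0, Int.negSucc 1, Int.ofNat 2, Int.ofNat 0, Int.ofNat 0, Int.ofNat 0, Int.ofNat 0, Int.ofNat 0, Int.negSucc 1, Int.ofNat 0, Int.negSucc 1, Int.ofNat 0, Int.negSucc 1, Int.ofNat 2, Int.ofNat 0, Int.ofNat 0, Int.negSucc 1, Int.ofNat 0, Int.ofNat 0, Int.ofNat 0],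
  [Int.ofNat 0, Int.ofNat 0, Int.negSucc 1, Int.ofNat 0, Int.ofNat 0, Int.ofNat 0, Int.negSucc 1, Int.ofNat 2, Int.ofNat 0, Int.ofNat 0, Int.ofNat 0, Int.ofNat 0, Int.ofNat 0, Int.negSucc 1, Int.ofNat 0, Int.negSucc 1, Int.ofNat 0, Int.negSucc 1, Int.ofNat 2, Int.ofNat 0, Int.ofNat 0, Int.negSucc 1, Int.ofNat 0, Int.ofNat 0],
  [Int.negSucc 0, Int.negSucc 0, Int.ofNat 1, Int.ofNat 1, Int.ofNat 1, Int.ofNat 1, Int.negSucc 0, Int.ofNat 3, Int.negSucc 0, Int.ofNat 1, Int.ofNat 1, Int.negSucc 0, Int.negSucc 0, Int.negSucc 0, Int.ofNat 1, Int.negSucc 0, Int.ofNat 1, Int.negSucc 0, Int.ofNat 1, Int.ofNat 1, Int.ofNat 1, Int.negSucc 0, Int.ofNat 1, Int.negSucc 0],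
  [Int.ofNat 1, Int.ofNat 1, Int.ofNat 1, Int.negSucc 0, Int.ofNat 3, Int.negSucc 0, Int.ofNat 1, Int.ofNat 1, Int.negSucc 0, Int.negSucc 0, Int.negSucc 0, Int.ofNat 1, Int.negSucc 0, Int.ofNat 1, Int.negSucc 0, Int.ofNat 1, Int.ofNat 1, Int.ofNat 1, Int.negSucc 0, Int.ofNat 1, Int.negSucc 0, Int.negSucc 0, Int.ofNat 1, Int.negSucc 0],
  [Int.ofNat 0, Int.ofNat 0, Int.ofNat 0, Int.ofNat 0, Int.ofNat 0, Int.ofNat 0, Int.ofNat 0, Int.ofNat 0, Int.ofNat 0, Int.ofNat 0, Int.ofNat 0, Int.ofNat 2, Int.ofNat 0, Int.negSucc 1, Int.ofNat 0, Int.ofNat 2, Int.negSucc 1, Int.ofNat 2, Int.ofNat 0, Int.ofNat 0, Int.ofNat 0, Int.negSucc 1, Int.negSucc 1, Int.ofNat 2],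
  [Int.ofNat 0, Int.ofNat 0, Int.ofNat 0, Int.ofNat 0, Int.ofNat 0, Int.ofNat 0, Int.ofNat 0, Int.ofNat 0, Int.ofNat 0, Int.negSucc 1, Int.ofNat 0, Int.ofNat 2, Int.ofNat 0, Int.negSucc 1, Int.negSucc 1, Int.ofNat 2, Int.ofNat 0, Int.ofNat 0, Int.ofNat 0, Int.ofNat 2, Int.negSucc 1, Int.ofNat 0, Int.ofNat 0, Int.ofNat 2],
  [Int.ofNat 1, Int.ofNat 1, Int.ofNat 1, Int.ofNat 1, Int.ofNat 1, Int.ofNat 1, Int.negSucc 0, Int.negSucc 0, Int.negSucc 0, Int.negSucc 0, Int.ofNat 1, Int.ofNat 1, Int.negSucc 0, Int.negSucc 0, Int.negSucc 0, Int.ofNat 3, Int.ofNat 1, Int.ofNat 1, Int.negSucc 0, Int.ofNat 1, Int.negSucc 0, Int.negSucc 0, Int.ofNat 1, Int.negSucc 0],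
  [Int.ofNat 1, Int.ofNat 1, Int.negSucc 0, Int.ofNat 1, Int.ofNat 1, Int.negSucc 0, Int.ofNat 1, Int.negSucc 0, Int.negSucc 0, Int.ofNat 1, Int.negSucc 0, Int.ofNat 1, Int.negSucc 0, Int.negSucc 0, Int.negSucc 0, Int.negSucc 2, Int.ofNat 1, Int.ofNat 1, Int.ofNat 1, Int.ofNat 1, Int.negSucc 0, Int.negSucc 0, Int.negSucc 0, Int.negSucc 0],
  [Int.negSucc 0, Int.ofNat 1, Int.negSucc 0, Int.negSucc 0, Int.ofNat 1, Int.negSucc 0, Int.negSucc 0, Int.ofNat 1, Int.negSucc 0, Int.ofNat 1, Int.negSucc 0, Int.ofNat 1, Int.ofNat 1, Int.ofNat 1, Int.ofNat 1, Int.ofNat 1, Int.negSucc 0, Int.negSucc 0, Int.ofNat 1, Int.negSucc 0, Int.negSucc 2, Int.negSucc 0, Int.ofNat 1, Int.negSucc 0],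
  [Int.negSucc 0, Int.ofNat 1, Int.ofNat 1, Int.negSucc 0, Int.ofNat 1, Int.ofNat 1, Int.ofNat 1, Int.ofNat 1, Int.negSucc 0, Int.negSucc 0, Int.ofNat 1, Int.ofNat 1, Int.ofNat 1, Int.ofNat 1, Int.ofNat 1, Int.negSucc 0, Int.negSucc 0, Int.negSucc 0, Int.negSucc 0, Int.negSucc 0, Int.negSucc 2, Int.negSucc 0, Int.negSucc 0, Int.negSucc 0],
  [Int.ofNat 1, Int.negSucc 0, Int.negSucc 0, Int.negSucc 0, Int.ofNat 1, Int.ofNat 1, Int.ofNat 1, Int.ofNat 1, Int.negSucc 0, Int.ofNat 1, Int.ofNat 3, Int.ofNat 1, Int.ofNat 1, Int.ofNat 1, Int.ofNat 1, Int.ofNat 1, Int.negSucc 0, Int.negSucc 0, Int.negSucc 0, Int.negSucc 0, Int.negSucc 0, Int.negSucc 0, Int.negSucc 0, Int.ofNat 1],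
  [Int.ofNat 1, Int.negSucc 0, Int.ofNat 1, Int.negSucc 0, Int.negSucc 0, Int.negSucc 0, Int.negSucc 0, Int.ofNat 1, Int.negSucc 0, Int.ofNat 1, Int.ofNat 1, Int.negSucc 0, Int.negSucc 0, Int.ofNat 1, Int.negSucc 0, Int.ofNat 1, Int.ofNat 1, Int.ofNat 1, Int.ofNat 1, Int.negSucc 0, Int.ofNat 3, Int.negSucc 0, Int.ofNat 1, Int.ofNat 1],
  [Int.ofNat 0, Int.ofNat 2, Int.ofNat 0, Int.ofNat 0, Int.negSucc 1, Int.ofNat 0, Int.ofNat 0, Int.ofNat 2, Int.ofNat 0, Int.negSucc 1, Int.negSucc 1, Int.ofNat 0, Int.ofNat 0, Int.ofNat 0, Int.ofNat 0, Int.negSucc 1, Int.ofNat 0, Int.ofNat 2, Int.ofNat 2, Int.ofNat 0, Int.ofNat 0, Int.ofNat 0, Int.ofNat 0, Int.ofNat 0],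
  [Int.ofNat 0, Int.ofNat 0, Int.ofNat 0, Int.ofNat 0, Int.ofNat 2, Int.ofNat 0, Int.ofNat 0, Int.negSucc 1, Int.ofNat 0, Int.ofNat 0, Int.ofNat 2, Int.ofNat 0, Int.negSucc 1, Int.negSucc 1, Int.ofNat 0, Int.ofNat 0, Int.ofNat 0, Int.ofNat 0, Int.negSucc 1, Int.ofNat 0, Int.ofNat 2, Int.ofNat 2, Int.ofNat 0, Int.ofNat 0],
  [Int.ofNat 0, Int.ofNat 0, Int.ofNat 0, Int.ofNat 0, Int.ofNat 2, Int.ofNat 0, Int.ofNat 0, Int.negSucc 1, Int.ofNat 2, Int.negSucc 1, Int.ofNat 0, Int.ofNat 2, Int.ofNat 0, Int.negSucc 1, Int.ofNat 0, Int.negSucc 1, Int.ofNat 0, Int.ofNat 0, Int.ofNat 0, Int.ofNat 0, Int.ofNat 0, Int.ofNat 2, Int.ofNat 0, Int.ofNat 0],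
  [Int.ofNat 0, Int.ofNat 0, Int.ofNat 0, Int.ofNat 2, Int.ofNat 0, Int.ofNat 0, Int.negSucc 1, Int.ofNat 2, Int.negSucc 1, Int.ofNat 0, Int.ofNat 2, Int.ofNat 0, Int.negSucc 1, Int.ofNat 0, Int.negSucc 1, Int.ofNat 0, Int.ofNat 0, Int.ofNat 0, Int.ofNat 0, Int.ofNat 0, Int.ofNat 2, Int.ofNat 0, Int.ofNat 0, Int.ofNat 0],
  [Int.ofNat 0, Int.ofNat 0, Int.ofNat 0, Int.ofNat 2, Int.ofNat 0, Int.ofNat 0, Int.negSucc 1, Int.negSucc 1, Int.negSucc 1, Int.ofNat 0, Int.negSucc 1, Int.ofNat 0, Int.negSucc 1, Int.ofNat 0, Int.negSucc 1, Int.ofNat 0, Int.ofNat 0, Int.ofNat 0, Int.ofNat 0, Int.ofNat 0, Int.ofNat 2, Int.ofNat 0, Int.ofNat 0, Int.ofNat 0],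
  [Int.ofNat 0, Int.ofNat 0, Int.ofNat 0, Int.negSucc 1, Int.ofNat 0, Int.ofNat 0, Int.ofNat 2, Int.negSucc 1, Int.ofNat 2, Int.ofNat 0, Int.negSucc 1, Int.ofNat 0, Int.ofNat 2, Int.ofNat 0, Int.negSucc 1, Int.ofNat 0, Int.ofNat 0, Int.ofNat 0, Int.ofNat 0, Int.ofNat 0, Int.ofNat 2, Int.ofNat 0, Int.ofNat 0, Int.ofNat 0],
  [Int.ofNat 0, Int.ofNat 0, Int.ofNat 0, Int.ofNat 0, Int.ofNat 0, Int.ofNat 0, Int.ofNat 0, Int.ofNat 0, Int.ofNat 2, Int.ofNat 0, Int.ofNat 0, Int.ofNat 0, Int.ofNat 0, Int.negSucc 1, Int.ofNat 0, Int.negSucc 1, Int.negSucc 1, Int.ofNat 0, Int.negSucc 1, Int.ofNat 2, Int.ofNat 2, Int.ofNat 2, Int.ofNat 0, Int.ofNat 0],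
  [Int.ofNat 0, Int.ofNat 0, Int.ofNat 0, Int.ofNat 0, Int.ofNat 0, Int.ofNat 0, Int.ofNat 0, Int.ofNat 0, Int.ofNat 2, Int.ofNat 0, Int.ofNat 0, Int.ofNat 0, Int.ofNat 0, Int.negSucc 1, Int.ofNat 0, Int.negSucc 1, Int.negSucc 1, Int.ofNat 0, Int.ofNat 2, Int.ofNat 2, Int.ofNat 2, Int.negSucc 1, Int.ofNat 0, Int.ofNat 0],
  [Int.ofNat 0, Int.ofNat 0, Int.ofNat 0, Int.ofNat 0, Int.ofNat 0, Int.ofNat 0, Int.ofNat 0, Int.ofNat 0, Int.ofNat 0, Int.ofNat 2, Int.ofNat 0, Int.ofNat 0, Int.ofNat 0, Int.ofNat 0, Int.negSucc 1, Int.ofNat 0, Int.negSucc 1, Int.negSucc 1, Int.ofNat 0, Int.ofNat 2, Int.ofNat 2, Int.ofNat 2, Int.negSucc 1, Int.ofNat 0],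
  [Int.ofNat 0, Int.ofNat 0, Int.ofNat 0, Int.ofNat 2, Int.ofNat 2, Int.ofNat 2, Int.negSucc 1, Int.negSucc 1, Int.ofNat 0, Int.ofNat 0, Int.negSucc 1, Int.ofNat 0, Int.ofNat 0, Int.ofNat 2, Int.ofNat 0, Int.negSucc 1, Int.ofNat 0, Int.ofNat 0, Int.ofNat 0, Int.ofNat 0, Int.ofNat 0, Int.ofNat 0, Int.ofNat 0, Int.ofNat 0],
  [Int.ofNat 2, Int.ofNat 2, Int.ofNat 2, Int.negSucc 1, Int.negSucc 1, Int.ofNat 0, Int.ofNat 0, Int.negSucc 1, Int.ofNat 0, Int.ofNat 0, Int.ofNat 2, Int.ofNat 0, Int.negSucc 1, Int.ofNat 0, Int.ofNat 0, Int.ofNat 0, Int.ofNat 0, Int.ofNat 0, Int.ofNat 0, Int.ofNat 0, Int.ofNat 0, Int.ofNat 0, Int.ofNat 0, Int.ofNat 0],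
  [Int.ofNat 1, Int.ofNat 1, Int.ofNat 1, Int.negSucc 0, Int.negSucc 0, Int.ofNat 1, Int.ofNat 1, Int.negSucc 0, Int.ofNat 1, Int.negSucc 0, Int.ofNat 1, Int.ofNat 1, Int.negSucc 0, Int.ofNat 1, Int.ofNat 1, Int.negSucc 0, Int.ofNat 1, Int.ofNat 1, Int.ofNat 1, Int.ofNat 1, Int.negSucc 0, Int.ofNat 1, Int.ofNat 1, Int.ofNat 3],
  [Int.ofNat 1, Int.ofNat 1, Int.negSucc 0, Int.negSucc 0, Int.ofNat 1, Int.negSucc 0, Int.ofNat 1, Int.ofNat 1, Int.negSucc 0, Int.ofNat 1, Int.negSucc 0, Int.ofNat 1, Int.negSucc 0, Int.ofNat 1, Int.ofNat 1, Int.negSucc 0, Int.ofNat 1, Int.ofNat 1, Int.ofNat 1, Int.ofNat 1, Int.ofNat 1, Int.ofNat 1, Int.ofNat 1, Int.ofNat 3],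
  [Int.ofNat 1, Int.ofNat 1, Int.ofNat 3, Int.negSucc 0, Int.negSucc 0, Int.negSucc 0, Int.negSucc 0, Int.negSucc 0, Int.negSucc 0, Int.ofNat 1, Int.negSucc 0, Int.ofNat 1, Int.negSucc 0, Int.negSucc 0, Int.ofNat 1, Int.negSucc 0, Int.negSucc 0, Int.ofNat 1, Int.ofNat 1, Int.negSucc 0, Int.ofNat 1, Int.negSucc 0, Int.negSucc 0, Int.negSucc 0],
  [Int.ofNat 1, Int.ofNat 1, Int.negSucc 2, Int.negSucc 0, Int.negSucc 0, Int.ofNat 1, Int.ofNat 1, Int.negSucc 0, Int.negSucc 0, Int.negSucc 0, Int.ofNat 1, Int.ofNat 1, Int.negSucc 0, Int.negSucc 0, Int.ofNat 1, Int.ofNat 1, Int.negSucc 0, Int.ofNat 1, Int.negSucc 0, Int.negSucc 0, Int.ofNat 1, Int.negSucc 0, Int.ofNat 1, Int.negSucc 0],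
  [Int.ofNat 1, Int.negSucc 0, Int.ofNat 1, Int.negSucc 0, Int.negSucc 0, Int.negSucc 0, Int.ofNat 1, Int.ofNat 1, Int.negSucc 0, Int.ofNat 1, Int.negSucc 0, Int.ofNat 1, Int.ofNat 1, Int.negSucc 0, Int.negSucc 0, Int.negSucc 0, Int.ofNat 1, Int.negSucc 0, Int.negSucc 0, Int.negSucc 2, Int.ofNat 1, Int.ofNat 1, Int.ofNat 1, Int.negSucc 0],
  [Int.ofNat 1, Int.negSucc 0, Int.negSucc 0, Int.negSucc 0, Int.negSucc 0, Int.ofNat 1, Int.negSucc 0, Int.ofNat 1, Int.negSucc 0, Int.negSucc 0, Int.ofNat 1, Int.ofNat 1, Int.ofNat 1, Int.negSucc 0, Int.negSucc 0, Int.ofNat 1, Int.ofNat 1, Int.negSucc 0, Int.ofNat 1, Int.negSucc 2, Int.ofNat 1, Int.ofNat 1, Int.negSucc 0, Int.negSucc 0],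
  [Int.negSucc 1, Int.ofNat 0, Int.ofNat 0, Int.ofNat 0, Int.ofNat 0, Int.ofNat 2, Int.ofNat 0, Int.ofNat 2, Int.negSucc 1, Int.negSucc 1, Int.ofNat 0, Int.ofNat 0, Int.ofNat 0, Int.ofNat 0, Int.ofNat 0, Int.ofNat 0, Int.ofNat 2, Int.ofNat 0, Int.ofNat 0, Int.negSucc 1, Int.ofNat 0, Int.ofNat 2, Int.ofNat 0, Int.ofNat 0],
  [Int.negSucc 1, Int.ofNat 0, Int.ofNat 0, Int.ofNat 0, Int.ofNat 0, Int.ofNat 2, Int.ofNat 0, Int.ofNat 2, Int.ofNat 2, Int.ofNat 0, Int.ofNat 2, Int.negSucc 1, Int.negSucc 1, Int.negSucc 1, Int.ofNat 0, Int.ofNat 0, Int.ofNat 0, Int.ofNat 0, Int.ofNat 0, Int.ofNat 0, Int.ofNat 0, Int.ofNat 0, Int.ofNat 0, Int.ofNat 0],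
  [Int.ofNat 1, Int.negSucc 0, Int.negSucc 0, Int.negSucc 0, Int.ofNat 1, Int.ofNat 1, Int.negSucc 0, Int.ofNat 1, Int.ofNat 3, Int.negSucc 0, Int.ofNat 1, Int.negSucc 0, Int.negSucc 0, Int.negSucc 0, Int.negSucc 0, Int.negSucc 0, Int.ofNat 1, Int.negSucc 0, Int.ofNat 1, Int.negSucc 0, Int.negSucc 0, Int.negSucc 0, Int.ofNat 1, Int.negSucc 0],
  [Int.negSucc 0, Int.negSucc 0, Int.ofNat 1, Int.ofNat 1, Int.negSucc 0, Int.negSucc 0, Int.negSucc 0, Int.ofNat 1, Int.ofNat 1, Int.negSucc 0, Int.ofNat 1, Int.ofNat 3, Int.negSucc 0, Int.ofNat 1, Int.negSucc 0, Int.negSucc 0, Int.negSucc 0, Int.negSucc 0, Int.negSucc 0, Int.ofNat 1, Int.negSucc 0, Int.ofNat 1, Int.negSucc 0, Int.negSucc 0],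
  [Int.ofNat 0, Int.ofNat 0, Int.negSucc 1, Int.ofNat 2, Int.ofNat 0, Int.ofNat 0, Int.negSucc 1, Int.ofNat 0, Int.ofNat 0, Int.ofNat 0, Int.ofNat 2, Int.ofNat 2, Int.negSucc 1, Int.ofNat 2, Int.ofNat 0, Int.ofNat 0, Int.ofNat 0, Int.ofNat 0, Int.negSucc 1, Int.ofNat 0, Int.ofNat 0, Int.ofNat 0, Int.ofNat 0, Int.ofNat 0],
  [Int.ofNat 0, Int.negSucc 1, Int.ofNat 2, Int.ofNat 0, Int.ofNat 0, Int.negSucc 1, Int.ofNat 0, Int.ofNat 0, Int.ofNat 0, Int.ofNat 2, Int.ofNat 2, Int.negSucc 1, Int.ofNat 2, Int.ofNat 0, Int.ofNat 0, Int.ofNat 0, Int.ofNat 0, Int.negSucc 1, Int.ofNat 0, Int.ofNat 0, Int.ofNat 0, Int.ofNat 0, Int.ofNat 0, Int.ofNat 0],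
  [Int.ofNat 0, Int.negSucc 1, Int.negSucc 1, Int.ofNat 0, Int.ofNat 0, Int.negSucc 1, Int.ofNat 0, Int.ofNat 0, Int.ofNat 0, Int.negSucc 1, Int.negSucc 1, Int.ofNat 2, Int.ofNat 2, Int.ofNat 0, Int.ofNat 0, Int.ofNat 0, Int.ofNat 0, Int.negSucc 1, Int.ofNat 0, Int.ofNat 0, Int.ofNat 0, Int.ofNat 0, Int.ofNat 0, Int.ofNat 0],
  [Int.ofNat 0, Int.ofNat 2, Int.ofNat 2, Int.ofNat 0, Int.ofNat 0, Int.negSucc 1, Int.ofNat 0, Int.ofNat 0, Int.ofNat 0, Int.ofNat 2, Int.negSucc 1, Int.ofNat 2, Int.negSucc 1, Int.ofNat 0, Int.ofNat 0, Int.ofNat 0, Int.ofNat 0, Int.negSucc 1, Int.ofNat 0, Int.ofNat 0, Int.ofNat 0, Int.ofNat 0, Int.ofNat 0, Int.ofNat 0],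
  [Int.ofNat 0, Int.ofNat 0, Int.ofNat 2, Int.ofNat 0, Int.negSucc 1, Int.ofNat 2, Int.ofNat 0, Int.ofNat 0, Int.ofNat 0, Int.negSucc 1, Int.ofNat 0, Int.ofNat 2, Int.ofNat 0, Int.ofNat 0, Int.ofNat 0, Int.ofNat 0, Int.negSucc 1, Int.ofNat 0, Int.ofNat 0, Int.ofNat 0, Int.ofNat 0, Int.negSucc 1, Int.ofNat 2, Int.ofNat 0],
  [Int.ofNat 0, Int.ofNat 0, Int.negSucc 1, Int.ofNat 0, Int.negSucc 1, Int.ofNat 2, Int.ofNat 0, Int.ofNat 0, Int.ofNat 0, Int.ofNat 2, Int.ofNat 0, Int.negSucc 1, Int.ofNat 0, Int.ofNat 0, Int.ofNat 0, Int.ofNat 0, Int.negSucc 1, Int.ofNat 0, Int.ofNat 0, Int.ofNat 0, Int.ofNat 0, Int.ofNat 2, Int.ofNat 2, Int.ofNat 0],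
  [Int.ofNat 2, Int.ofNat 0, Int.ofNat 0, Int.negSucc 1, Int.ofNat 0, Int.negSucc 1, Int.ofNat 2, Int.ofNat 0, Int.ofNat 0, Int.ofNat 0, Int.ofNat 2, Int.ofNat 0, Int.negSucc 1, Int.ofNat 0, Int.ofNat 0, Int.ofNat 0, Int.ofNat 0, Int.negSucc 1, Int.ofNat 0, Int.ofNat 0, Int.ofNat 0, Int.ofNat 0, Int.ofNat 2, Int.ofNat 0],
  [Int.negSucc 0, Int.ofNat 1, Int.ofNat 1, Int.ofNat 1, Int.negSucc 0, Int.ofNat 1, Int.ofNat 1, Int.negSucc 0, Int.ofNat 1, Int.negSucc 0, Int.ofNat 1, Int.ofNat 1, Int.negSucc 0, Int.negSucc 0, Int.ofNat 3, Int.negSucc 0, Int.negSucc 0, Int.ofNat 1, Int.ofNat 1, Int.negSucc 0, Int.negSucc 0, Int.negSucc 0, Int.ofNat 1, Int.ofNat 1],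
  [Int.ofNat 1, Int.negSucc 0, Int.ofNat 1, Int.ofNat 1, Int.negSucc 0, Int.ofNat 1, Int.negSucc 0, Int.ofNat 1, Int.ofNat 1, Int.negSucc 0, Int.negSucc 0, Int.ofNat 3, Int.negSucc 0, Int.negSucc 0, Int.ofNat 1, Int.ofNat 1, Int.negSucc 0, Int.negSucc 0, Int.negSucc 0, Int.ofNat 1, Int.negSucc 0, Int.ofNat 1, Int.ofNat 1, Int.ofNat 1],
  [Int.ofNat 0, Int.ofNat 2, Int.ofNat 0, Int.ofNat 0, Int.ofNat 0, Int.ofNat 0, Int.negSucc 1, Int.ofNat 0, Int.ofNat 0, Int.ofNat 0, Int.ofNat 0, Int.ofNat 2, Int.negSucc 1, Int.ofNat 0, Int.ofNat 0, Int.ofNat 2, Int.ofNat 0, Int.negSucc 1, Int.negSucc 1, Int.ofNat 0, Int.ofNat 0, Int.ofNat 0, Int.ofNat 2, Int.ofNat 0],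
  [Int.ofNat 0, Int.negSucc 1, Int.ofNat 0, Int.ofNat 0, Int.negSucc 1, Int.ofNat 0, Int.ofNat 0, Int.ofNat 0, Int.negSucc 1, Int.ofNat 0, Int.ofNat 0, Int.negSucc 1, Int.ofNat 0, Int.ofNat 0, Int.ofNat 2, Int.ofNat 2, Int.ofNat 0, Int.ofNat 0, Int.ofNat 2, Int.ofNat 2, Int.ofNat 0, Int.ofNat 0, Int.ofNat 0, Int.ofNat 0],
  [Int.negSucc 0, Int.ofNat 1, Int.negSucc 0, Int.negSucc 0, Int.negSucc 0, Int.negSucc 0, Int.negSucc 0, Int.negSucc 0, Int.negSucc 0, Int.negSucc 0, Int.negSucc 0, Int.negSucc 0, Int.ofNat 1, Int.ofNat 1, Int.ofNat 1, Int.ofNat 1, Int.ofNat 1, Int.negSucc 0, Int.ofNat 3, Int.ofNat 1, Int.negSucc 0, Int.negSucc 0, Int.ofNat 1, Int.negSucc 0],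
  [Int.negSucc 0, Int.ofNat 1, Int.ofNat 1, Int.negSucc 0, Int.negSucc 0, Int.ofNat 1, Int.ofNat 1, Int.negSucc 0, Int.negSucc 0, Int.ofNat 1, Int.ofNat 1, Int.negSucc 0, Int.ofNat 1, Int.ofNat 1, Int.ofNat 1, Int.negSucc 0, Int.ofNat 1, Int.negSucc 0, Int.negSucc 2, Int.ofNat 1, Int.negSucc 0, Int.negSucc 0, Int.negSucc 0, Int.negSucc 0],
  [Int.ofNat 1, Int.ofNat 1, Int.negSucc 0, Int.ofNat 1, Int.ofNat 1, Int.negSucc 0, Int.ofNat 1, Int.negSucc 0, Int.negSucc 0, Int.ofNat 1, Int.negSucc 0, Int.ofNat 1, Int.negSucc 0, Int.negSucc 0, Int.negSucc 0, Int.negSucc 2, Int.ofNat 1, Int.ofNat 1, Int.ofNat 1, Int.ofNat 1, Int.negSucc 0, Int.negSucc 0, Int.negSucc 0, Int.negSucc 0],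
  [Int.ofNat 1, Int.ofNat 1, Int.ofNat 1, Int.ofNat 1, Int.ofNat 1, Int.ofNat 1, Int.negSucc 0, Int.negSucc 0, Int.negSucc 0, Int.negSucc 0, Int.ofNat 1, Int.ofNat 1, Int.negSucc 0, Int.negSucc 0, Int.negSucc 0, Int.ofNat 3, Int.ofNat 1, Int.ofNat 1, Int.negSucc 0, Int.ofNat 1, Int.negSucc 0, Int.negSucc 0, Int.ofNat 1, Int.negSucc 0],
  [Int.ofNat 0, Int.ofNat 0, Int.ofNat 0, Int.ofNat 0, Int.ofNat 0, Int.ofNat 0, Int.ofNat 0, Int.ofNat 0, Int.ofNat 0, Int.negSucc 1, Int.ofNat 0, Int.ofNat 2, Int.ofNat 0, Int.negSucc 1, Int.negSucc 1, Int.ofNat 2, Int.ofNat 0, Int.ofNat 0, Int.ofNat 0, Int.ofNat 2, Int.negSucc 1, Int.ofNat 0, Int.ofNat 0, Int.ofNat 2],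
  [Int.ofNat 0, Int.ofNat 0, Int.ofNat 0, Int.ofNat 0, Int.ofNat 0, Int.ofNat 0, Int.ofNat 0, Int.ofNat 0, Int.ofNat 0, Int.ofNat 0, Int.ofNat 0, Int.ofNat 2, Int.ofNat 0, Int.negSucc 1, Int.ofNat 0, Int.ofNat 2, Int.negSucc 1, Int.ofNat 2, Int.ofNat 0, Int.ofNat 0, Int.ofNat 0, Int.negSucc 1, Int.negSucc 1, Int.ofNat 2],
  [Int.ofNat 1, Int.ofNat 1, Int.ofNat 1, Int.negSucc 0, Int.ofNat 3, Int.negSucc 0, Int.ofNat 1, Int.ofNat 1, Int.negSucc 0, Int.negSucc 0, Int.negSucc 0, Int.ofNat 1, Int.negSucc 0, Int.ofNat 1, Int.negSucc 0, Int.ofNat 1, Int.ofNat 1, Int.ofNat 1, Int.negSucc 0, Int.ofNat 1, Int.negSucc 0, Int.negSucc 0, Int.ofNat 1, Int.negSucc 0],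
  [Int.negSucc 0, Int.negSucc 0, Int.ofNat 1, Int.ofNat 1, Int.ofNat 1, Int.ofNat 1, Int.negSucc 0, Int.ofNat 3, Int.negSucc 0, Int.ofNat 1, Int.ofNat 1, Int.negSucc 0, Int.negSucc 0, Int.negSucc 0, Int.ofNat 1, Int.negSucc 0, Int.ofNat 1, Int.negSucc 0, Int.ofNat 1, Int.ofNat 1, Int.ofNat 1, Int.negSucc 0, Int.ofNat 1, Int.negSucc 0],
  [Int.ofNat 0, Int.ofNat 0, Int.negSucc 1, Int.ofNat 0, Int.ofNat 0, Int.ofNat 0, Int.negSucc 1, Int.ofNat 2, Int.ofNat 0, Int.ofNat 0, Int.ofNat 0, Int.ofNat 0, Int.ofNat 0, Int.negSucc 1, Int.ofNat 0, Int.negSucc 1, Int.ofNat 0, Int.negSucc 1, Int.ofNat 2, Int.ofNat 0, Int.ofNat 0, Int.negSucc 1, Int.ofNat 0, Int.ofNat 0],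
  [Int.ofNat 0, Int.negSucc 1, Int.ofNat 0, Int.ofNat 0, Int.ofNat 0, Int.negSucc 1, Int.ofNat 2, Int.ofNat 0, Int.ofNat 0, Int.ofNat 0, Int.ofNat 0, Int.ofNat 0, Int.negSucc 1, Int.ofNat 0, Int.negSucc 1, Int.ofNat 0, Int.negSucc 1, Int.ofNat 2, Int.ofNat 0, Int.ofNat 0, Int.negSucc 1, Int.ofNat 0, Int.ofNat 0, Int.ofNat 0],
  [Int.ofNat 0, Int.negSucc 1, Int.ofNat 0, Int.ofNat 0, Int.ofNat 0, Int.negSucc 1, Int.ofNat 2, Int.ofNat 0, Int.ofNat 0, Int.ofNat 0, Int.ofNat 0, Int.ofNat 0, Int.negSucc 1, Int.ofNat 0, Int.negSucc 1, Int.ofNat 0, Int.negSucc 1, Int.ofNat 2, Int.ofNat 0, Int.ofNat 0, Int.negSucc 1, Int.ofNat 0, Int.ofNat 0, Int.ofNat 0],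
  [Int.ofNat 0, Int.ofNat 2, Int.ofNat 0, Int.ofNat 0, Int.ofNat 0, Int.negSucc 1, Int.negSucc 1, Int.ofNat 0, Int.ofNat 0, Int.ofNat 0, Int.ofNat 0, Int.ofNat 0, Int.ofNat 2, Int.ofNat 0, Int.negSucc 1, Int.ofNat 0, Int.ofNat 2, Int.ofNat 2, Int.ofNat 0, Int.ofNat 0, Int.negSucc 1, Int.ofNat 0, Int.ofNat 0, Int.ofNat 0],
  [Int.ofNat 0, Int.ofNat 0, Int.ofNat 0, Int.ofNat 0, Int.ofNat 2, Int.ofNat 0, Int.ofNat 0, Int.ofNat 0, Int.negSucc 1, Int.negSucc 1, Int.ofNat 2, Int.ofNat 0, Int.ofNat 0, Int.ofNat 0, Int.ofNat 0, Int.ofNat 0, Int.ofNat 0, Int.ofNat 0, Int.negSucc 1, Int.negSucc 1, Int.ofNat 0, Int.ofNat 2, Int.ofNat 2, Int.ofNat 0],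
  [Int.ofNat 0, Int.ofNat 0, Int.ofNat 0, Int.ofNat 0, Int.ofNat 2, Int.ofNat 0, Int.ofNat 0, Int.ofNat 0, Int.negSucc 1, Int.ofNat 2, Int.negSucc 1, Int.ofNat 0, Int.ofNat 0, Int.ofNat 0, Int.ofNat 0, Int.ofNat 0, Int.ofNat 0, Int.ofNat 0, Int.ofNat 2, Int.negSucc 1, Int.ofNat 0, Int.negSucc 1, Int.ofNat 2, Int.ofNat 0],
  [Int.ofNat 2, Int.ofNat 0, Int.ofNat 0, Int.ofNat 0, Int.ofNat 0, Int.ofNat 2, Int.ofNat 0, Int.ofNat 0, Int.ofNat 0, Int.negSucc 1, Int.ofNat 2, Int.negSucc 1, Int.ofNat 0, Int.ofNat 0, Int.ofNat 0, Int.ofNat 0, Int.ofNat 0, Int.ofNat 0, Int.ofNat 0, Int.ofNat 2, Int.negSucc 1, Int.ofNat 0, Int.negSucc 1, Int.ofNat 0],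
  [Int.negSucc 0, Int.ofNat 1, Int.ofNat 1, Int.negSucc 0, Int.ofNat 1, Int.ofNat 1, Int.negSucc 0, Int.negSucc 0, Int.ofNat 1, Int.negSucc 0, Int.ofNat 3, Int.negSucc 0, Int.ofNat 1, Int.ofNat 1, Int.negSucc 0, Int.ofNat 1, Int.ofNat 1, Int.negSucc 0, Int.ofNat 1, Int.ofNat 1, Int.negSucc 0, Int.negSucc 0, Int.negSucc 0, Int.ofNat 1],
  [Int.negSucc 0, Int.ofNat 1, Int.ofNat 1, Int.negSucc 0, Int.negSucc 0, Int.ofNat 1, Int.negSucc 0, Int.ofNat 3, Int.negSucc 0, Int.ofNat 1, Int.ofNat 1, Int.negSucc 0, Int.ofNat 1, Int.ofNat 1, Int.negSucc 0, Int.ofNat 1, Int.ofNat 1, Int.negSucc 0, Int.negSucc 0, Int.negSucc 0, Int.negSucc 0, Int.ofNat 1, Int.ofNat 1, Int.ofNat 1],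
  [Int.ofNat 2, Int.ofNat 0, Int.ofNat 0, Int.ofNat 0, Int.negSucc 1, Int.ofNat 2, Int.negSucc 1, Int.ofNat 2, Int.ofNat 0, Int.ofNat 0, Int.ofNat 0, Int.ofNat 0, Int.ofNat 2, Int.ofNat 0, Int.ofNat 0, Int.ofNat 0, Int.ofNat 0, Int.ofNat 0, Int.ofNat 0, Int.negSucc 1, Int.negSucc 1, Int.ofNat 0, Int.ofNat 0, Int.ofNat 0],
  [Int.ofNat 2, Int.negSucc 1, Int.negSucc 1, Int.ofNat 0, Int.ofNat 0, Int.ofNat 2, Int.ofNat 0, Int.ofNat 0, Int.ofNat 2, Int.ofNat 0, Int.negSucc 1, Int.ofNat 0, Int.ofNat 0, Int.ofNat 0, Int.ofNat 0, Int.ofNat 0, Int.ofNat 0, Int.ofNat 0, Int.ofNat 0, Int.ofNat 0, Int.ofNat 0, Int.ofNat 2, Int.negSucc 1, Int.ofNat 0],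
  [Int.negSucc 2, Int.ofNat 1, Int.ofNat 1, Int.negSucc 0, Int.ofNat 1, Int.ofNat 1, Int.negSucc 0, Int.negSucc 0, Int.ofNat 1, Int.ofNat 1, Int.negSucc 0, Int.negSucc 0, Int.negSucc 0, Int.ofNat 1, Int.negSucc 0, Int.ofNat 1, Int.ofNat 1, Int.negSucc 0, Int.negSucc 0, Int.negSucc 0, Int.ofNat 1, Int.ofNat 1, Int.negSucc 0, Int.negSucc 0],
  [Int.negSucc 2, Int.ofNat 1, Int.negSucc 0, Int.negSucc 0, Int.ofNat 1, Int.negSucc 0, Int.ofNat 1, Int.negSucc 0, Int.ofNat 1, Int.negSucc 0, Int.ofNat 1, Int.negSucc 0, Int.negSucc 0, Int.ofNat 1, Int.negSucc 0, Int.negSucc 0, Int.ofNat 1, Int.negSucc 0, Int.ofNat 1, Int.negSucc 0, Int.ofNat 1, Int.ofNat 1, Int.ofNat 1, Int.negSucc 0],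
  [Int.ofNat 1, Int.ofNat 1, Int.ofNat 1, Int.ofNat 1, Int.negSucc 0, Int.negSucc 0, Int.negSucc 0, Int.negSucc 0, Int.ofNat 1, Int.ofNat 1, Int.ofNat 1, Int.ofNat 1, Int.negSucc 2, Int.ofNat 1, Int.negSucc 0, Int.ofNat 1, Int.negSucc 0, Int.negSucc 0, Int.negSucc 0, Int.negSucc 0, Int.negSucc 0, Int.ofNat 1, Int.negSucc 0, Int.negSucc 0],
  [Int.ofNat 1, Int.ofNat 1, Int.negSucc 0, Int.ofNat 1, Int.negSucc 0, Int.ofNat 1, Int.ofNat 1, Int.negSucc 0, Int.ofNat 1, Int.negSucc 0, Int.negSucc 0, Int.ofNat 1, Int.negSucc 2, Int.ofNat 1, Int.negSucc 0, Int.negSucc 0, Int.negSucc 0, Int.negSucc 0, Int.ofNat 1, Int.negSucc 0, Int.negSucc 0, Int.ofNat 1, Int.ofNat 1, Int.negSucc 0],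
  [Int.negSucc 0, Int.negSucc 0, Int.ofNat 1, Int.ofNat 1, Int.negSucc 0, Int.ofNat 1, Int.ofNat 1, Int.negSucc 0, Int.ofNat 1, Int.ofNat 1, Int.ofNat 1, Int.ofNat 1, Int.negSucc 2, Int.ofNat 1, Int.negSucc 0, Int.ofNat 1, Int.negSucc 0, Int.negSucc 0, Int.ofNat 1, Int.negSucc 0, Int.ofNat 1, Int.ofNat 1, Int.ofNat 1, Int.ofNat 1],
  [Int.negSucc 0, Int.ofNat 1, Int.ofNat 1, Int.ofNat 1, Int.ofNat 1, Int.ofNat 1, Int.negSucc 0, Int.ofNat 1, Int.negSucc 0, Int.negSucc 2, Int.negSucc 0, Int.negSucc 0, Int.ofNat 1, Int.ofNat 1, Int.negSucc 0, Int.ofNat 1, Int.ofNat 1, Int.ofNat 1, Int.negSucc 0, Int.ofNat 1, Int.ofNat 1, Int.ofNat 1, Int.negSucc 0, Int.ofNat 1],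
  [Int.ofNat 2, Int.ofNat 0, Int.ofNat 0, Int.ofNat 0, Int.ofNat 0, Int.ofNat 0, Int.negSucc 1, Int.ofNat 0, Int.ofNat 0, Int.negSucc 1, Int.ofNat 0, Int.ofNat 0, Int.ofNat 2, Int.ofNat 0, Int.negSucc 1, Int.ofNat 2, Int.ofNat 0, Int.ofNat 0, Int.ofNat 0, Int.ofNat 0, Int.ofNat 2, Int.ofNat 0, Int.negSucc 1, Int.ofNat 0],
  [Int.ofNat 2, Int.ofNat 0, Int.negSucc 1, Int.ofNat 2, Int.ofNat 0, Int.ofNat 0, Int.ofNat 0, Int.ofNat 0, Int.ofNat 0, Int.negSucc 1, Int.ofNat 0, Int.ofNat 0, Int.negSucc 1, Int.ofNat 0, Int.ofNat 0, Int.ofNat 2, Int.ofNat 0, Int.negSucc 1, Int.ofNat 2, Int.ofNat 0, Int.ofNat 0, Int.ofNat 0, Int.ofNat 0, Int.ofNat 0],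
  [Int.negSucc 1, Int.ofNat 0, Int.ofNat 2, Int.ofNat 2, Int.ofNat 0, Int.ofNat 0, Int.ofNat 0, Int.ofNat 0, Int.ofNat 0, Int.negSucc 1, Int.ofNat 0, Int.ofNat 0, Int.negSucc 1, Int.ofNat 0, Int.ofNat 0, Int.ofNat 2, Int.ofNat 0, Int.negSucc 1, Int.ofNat 2, Int.ofNat 0, Int.ofNat 0, Int.ofNat 0, Int.ofNat 0, Int.ofNat 0],
  [Int.ofNat 0, Int.ofNat 2, Int.ofNat 2, Int.ofNat 0, Int.ofNat 0, Int.ofNat 0, Int.ofNat 0, Int.ofNat 0, Int.negSucc 1, Int.ofNat 0, Int.ofNat 0, Int.negSucc 1, Int.ofNat 0, Int.ofNat 0, Int.ofNat 2, Int.ofNat 0, Int.negSucc 1, Int.ofNat 2, Int.ofNat 0, Int.ofNat 0, Int.ofNat 0, Int.ofNat 0, Int.negSucc 1, Int.ofNat 0],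
  [Int.ofNat 0, Int.ofNat 2, Int.negSucc 1, Int.ofNat 0, Int.ofNat 0, Int.ofNat 0, Int.ofNat 0, Int.ofNat 0, Int.negSucc 1, Int.ofNat 0, Int.ofNat 0, Int.ofNat 2, Int.ofNat 0, Int.ofNat 0, Int.ofNat 2, Int.ofNat 0, Int.negSucc 1, Int.ofNat 2, Int.ofNat 0, Int.ofNat 0, Int.ofNat 0, Int.ofNat 0, Int.negSucc 1, Int.ofNat 0],
  [Int.ofNat 0, Int.negSucc 1, Int.ofNat 2, Int.ofNat 0, Int.ofNat 0, Int.ofNat 0, Int.ofNat 0, Int.ofNat 0, Int.ofNat 2, Int.ofNat 0, Int.ofNat 0, Int.ofNat 2, Int.ofNat 0, Int.ofNat 0, Int.ofNat 2, Int.ofNat 0, Int.ofNat 2, Int.ofNat 2, Int.ofNat 0, Int.ofNat 0, Int.ofNat 0, Int.ofNat 0, Int.negSucc 1, Int.ofNat 0],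
  [Int.ofNat 0, Int.negSucc 1, Int.ofNat 2, Int.ofNat 0, Int.ofNat 2, Int.ofNat 0, Int.ofNat 0, Int.ofNat 0, Int.ofNat 0, Int.ofNat 0, Int.ofNat 2, Int.ofNat 2, Int.ofNat 0, Int.ofNat 0, Int.ofNat 0, Int.ofNat 0, Int.ofNat 0, Int.ofNat 0, Int.ofNat 2, Int.ofNat 0, Int.ofNat 2, Int.ofNat 0, Int.negSucc 1, Int.ofNat 0],
  [Int.ofNat 0, Int.negSucc 1, Int.negSucc 1, Int.ofNat 0, Int.ofNat 2, Int.ofNat 0, Int.ofNat 0, Int.ofNat 0, Int.ofNat 0, Int.ofNat 0, Int.negSucc 1, Int.negSucc 1, Int.ofNat 0, Int.ofNat 0, Int.ofNat 0, Int.ofNat 0, Int.ofNat 0, Int.ofNat 0, Int.negSucc 1, Int.ofNat 0, Int.ofNat 2, Int.ofNat 0, Int.negSucc 1, Int.ofNat 0],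
  [Int.negSucc 1, Int.ofNat 0, Int.negSucc 1, Int.negSucc 1, Int.ofNat 0, Int.ofNat 2, Int.ofNat 0, Int.ofNat 0, Int.ofNat 0, Int.ofNat 0, Int.ofNat 0, Int.negSucc 1, Int.negSucc 1, Int.ofNat 0, Int.ofNat 0, Int.ofNat 0, Int.ofNat 0, Int.ofNat 0, Int.ofNat 0, Int.negSucc 1, Int.ofNat 0, Int.ofNat 2, Int.ofNat 0, Int.ofNat 0],
  [Int.ofNat 0, Int.negSucc 1, Int.ofNat 0, Int.negSucc 1, Int.ofNat 0, Int.ofNat 2, Int.ofNat 0, Int.ofNat 0, Int.ofNat 2, Int.ofNat 0, Int.ofNat 0, Int.ofNat 0, Int.ofNat 0, Int.ofNat 0, Int.ofNat 0, Int.ofNat 0, Int.ofNat 0, Int.ofNat 0, Int.ofNat 2, Int.negSucc 1, Int.ofNat 0, Int.ofNat 2, Int.ofNat 0, Int.negSucc 1],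
  [Int.negSucc 1, Int.ofNat 0, Int.ofNat 2, Int.ofNat 0, Int.ofNat 0, Int.ofNat 2, Int.ofNat 0, Int.ofNat 0, Int.ofNat 0, Int.ofNat 0, Int.ofNat 0, Int.ofNat 0, Int.ofNat 0, Int.ofNat 0, Int.ofNat 0, Int.ofNat 2, Int.negSucc 1, Int.ofNat 0, Int.ofNat 2, Int.ofNat 0, Int.ofNat 0, Int.negSucc 1, Int.ofNat 0, Int.negSucc 1],
  [Int.ofNat 1, Int.negSucc 0, Int.negSucc 2, Int.negSucc 0, Int.ofNat 1, Int.ofNat 1, Int.ofNat 1, Int.ofNat 1, Int.negSucc 0, Int.negSucc 0, Int.negSucc 0, Int.negSucc 0, Int.negSucc 0, Int.ofNat 1, Int.negSucc 0, Int.ofNat 1, Int.negSucc 0, Int.negSucc 0, Int.ofNat 1, Int.ofNat 1, Int.negSucc 0, Int.negSucc 0, Int.ofNat 1, Int.ofNat 1],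
  [Int.ofNat 1, Int.ofNat 1, Int.ofNat 1, Int.negSucc 0, Int.ofNat 1, Int.ofNat 1, Int.negSucc 2, Int.negSucc 0, Int.negSucc 0, Int.ofNat 1, Int.negSucc 0, Int.negSucc 0, Int.negSucc 0, Int.negSucc 0, Int.ofNat 1, Int.ofNat 1, Int.negSucc 0, Int.negSucc 0, Int.negSucc 0, Int.negSucc 0, Int.negSucc 0, Int.ofNat 1, Int.ofNat 1, Int.ofNat 1],
  [Int.ofNat 1, Int.ofNat 1, Int.ofNat 1, Int.negSucc 0, Int.ofNat 1, Int.ofNat 1, Int.negSucc 0, Int.ofNat 1, Int.ofNat 1, Int.ofNat 1, Int.negSucc 0, Int.ofNat 1, Int.ofNat 1, Int.negSucc 0, Int.ofNat 1, Int.ofNat 1, Int.negSucc 0, Int.negSucc 0, Int.ofNat 1, Int.ofNat 1, Int.negSucc 0, Int.ofNat 3, Int.ofNat 1, Int.ofNat 1],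
  [Int.ofNat 1, Int.ofNat 1, Int.negSucc 0, Int.negSucc 0, Int.ofNat 1, Int.negSucc 0, Int.ofNat 1, Int.ofNat 1, Int.ofNat 1, Int.negSucc 0, Int.ofNat 1, Int.ofNat 1, Int.ofNat 1, Int.negSucc 0, Int.ofNat 1, Int.negSucc 0, Int.negSucc 0, Int.negSucc 0, Int.negSucc 0, Int.ofNat 1, Int.negSucc 0, Int.ofNat 3, Int.negSucc 0, Int.ofNat 1],
  [Int.ofNat 1, Int.negSucc 0, Int.negSucc 0, Int.negSucc 0, Int.ofNat 1, Int.ofNat 1, Int.negSucc 0, Int.negSucc 0, Int.ofNat 3, Int.ofNat 1, Int.ofNat 1, Int.ofNat 1, Int.ofNat 1, Int.ofNat 1, Int.negSucc 0, Int.negSucc 0, Int.ofNat 1, Int.ofNat 1, Int.negSucc 0, Int.negSucc 0, Int.negSucc 0, Int.negSucc 0, Int.ofNat 1, Int.ofNat 1],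
  [Int.ofNat 1, Int.negSucc 0, Int.ofNat 1, Int.negSucc 0, Int.ofNat 1, Int.negSucc 0, Int.ofNat 1, Int.negSucc 0, Int.ofNat 3, Int.negSucc 0, Int.negSucc 0, Int.ofNat 1, Int.ofNat 1, Int.ofNat 1, Int.negSucc 0, Int.ofNat 1, Int.ofNat 1, Int.ofNat 1, Int.ofNat 1, Int.negSucc 0, Int.negSucc 0, Int.negSucc 0, Int.negSucc 0, Int.ofNat 1],
  [Int.ofNat 0, Int.ofNat 2, Int.ofNat 0, Int.ofNat 0, Int.ofNat 0, Int.ofNat 0, Int.ofNat 2, Int.ofNat 0, Int.ofNat 0, Int.ofNat 0, Int.ofNat 0, Int.negSucc 1, Int.negSucc 1, Int.ofNat 0, Int.ofNat 0, Int.ofNat 2, Int.ofNat 0, Int.ofNat 2, Int.negSucc 1, Int.ofNat 0, Int.ofNat 0, Int.ofNat 0, Int.negSucc 1, Int.ofNat 0],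
  [Int.ofNat 0, Int.negSucc 1, Int.ofNat 2, Int.ofNat 0, Int.ofNat 0, Int.ofNat 0, Int.ofNat 2, Int.ofNat 0, Int.ofNat 0, Int.negSucc 1, Int.ofNat 0, Int.ofNat 0, Int.ofNat 0, Int.ofNat 0, Int.ofNat 2, Int.ofNat 2, Int.ofNat 0, Int.negSucc 1, Int.ofNat 0, Int.negSucc 1, Int.ofNat 0, Int.ofNat 0, Int.ofNat 0, Int.ofNat 0],
  [Int.ofNat 0, Int.ofNat 2, Int.negSucc 1, Int.ofNat 0, Int.ofNat 0, Int.ofNat 0, Int.ofNat 2, Int.ofNat 0, Int.ofNat 0, Int.negSucc 1, Int.ofNat 0, Int.ofNat 0, Int.ofNat 0, Int.ofNat 0, Int.ofNat 2, Int.ofNat 2, Int.ofNat 0, Int.negSucc 1, Int.ofNat 0, Int.negSucc 1, Int.ofNat 0, Int.ofNat 0, Int.ofNat 0, Int.ofNat 0],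
  [Int.ofNat 0, Int.ofNat 0, Int.ofNat 0, Int.ofNat 0, Int.ofNat 2, Int.negSucc 1, Int.ofNat 0, Int.ofNat 0, Int.ofNat 0, Int.ofNat 2, Int.ofNat 0, Int.ofNat 0, Int.negSucc 1, Int.ofNat 0, Int.ofNat 0, Int.ofNat 0, Int.ofNat 0, Int.ofNat 2, Int.ofNat 2, Int.ofNat 0, Int.negSucc 1, Int.ofNat 0, Int.negSucc 1, Int.ofNat 0],
  [Int.ofNat 0, Int.ofNat 0, Int.ofNat 0, Int.ofNat 0, Int.ofNat 2, Int.negSucc 1, Int.ofNat 0, Int.ofNat 0, Int.ofNat 0, Int.ofNat 2, Int.ofNat 0, Int.ofNat 0, Int.negSucc 1, Int.ofNat 0, Int.ofNat 0, Int.ofNat 0, Int.ofNat 0, Int.ofNat 2, Int.ofNat 2, Int.ofNat 0, Int.negSucc 1, Int.ofNat 0, Int.negSucc 1, Int.ofNat 0],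
  [Int.ofNat 0, Int.ofNat 0, Int.ofNat 0, Int.ofNat 2, Int.negSucc 1, Int.ofNat 0, Int.ofNat 0, Int.ofNat 0, Int.ofNat 2, Int.ofNat 0, Int.ofNat 0, Int.negSucc 1, Int.ofNat 0, Int.ofNat 0, Int.ofNat 0, Int.ofNat 0, Int.ofNat 2, Int.ofNat 2, Int.ofNat 0, Int.negSucc 1, Int.ofNat 0, Int.negSucc 1, Int.ofNat 0, Int.ofNat 0],
  [Int.ofNat 0, Int.ofNat 0, Int.ofNat 0, Int.ofNat 2, Int.negSucc 1, Int.ofNat 0, Int.ofNat 0, Int.ofNat 0, Int.ofNat 2, Int.ofNat 0, Int.ofNat 0, Int.ofNat 2, Int.ofNat 0, Int.ofNat 0, Int.ofNat 0, Int.ofNat 0, Int.ofNat 2, Int.ofNat 2, Int.ofNat 0, Int.negSucc 1, Int.ofNat 0, Int.ofNat 2, Int.ofNat 0, Int.ofNat 0],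
  [Int.ofNat 0, Int.ofNat 0, Int.ofNat 0, Int.negSucc 1, Int.ofNat 2, Int.ofNat 0, Int.ofNat 0, Int.ofNat 0, Int.negSucc 1, Int.ofNat 0, Int.ofNat 0, Int.ofNat 2, Int.ofNat 0, Int.ofNat 0, Int.ofNat 0, Int.ofNat 0, Int.negSucc 1, Int.ofNat 2, Int.ofNat 0, Int.negSucc 1, Int.ofNat 0, Int.ofNat 2, Int.ofNat 0, Int.ofNat 0],
  [Int.ofNat 0, Int.ofNat 0, Int.ofNat 2, Int.ofNat 0, Int.ofNat 2, Int.ofNat 0, Int.negSucc 1, Int.ofNat 0, Int.ofNat 0, Int.ofNat 0, Int.negSucc 1, Int.ofNat 0, Int.ofNat 2, Int.ofNat 0, Int.ofNat 0, Int.negSucc 1, Int.ofNat 0, Int.ofNat 2, Int.ofNat 0, Int.ofNat 0, Int.negSucc 1, Int.ofNat 0, Int.ofNat 0, Int.ofNat 0],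
  [Int.ofNat 0, Int.ofNat 0, Int.negSucc 1, Int.ofNat 0, Int.ofNat 2, Int.ofNat 0, Int.negSucc 1, Int.ofNat 0, Int.ofNat 0, Int.ofNat 0, Int.ofNat 2, Int.ofNat 0, Int.ofNat 2, Int.ofNat 0, Int.ofNat 0, Int.negSucc 1, Int.ofNat 0, Int.ofNat 2, Int.ofNat 0, Int.ofNat 0, Int.negSucc 1, Int.ofNat 0, Int.ofNat 0, Int.ofNat 0],
  [Int.ofNat 0, Int.ofNat 0, Int.ofNat 0, Int.negSucc 1, Int.ofNat 0, Int.ofNat 2, Int.ofNat 0, Int.negSucc 1, Int.ofNat 0, Int.ofNat 0, Int.ofNat 0, Int.ofNat 2, Int.ofNat 0, Int.ofNat 2, Int.ofNat 0, Int.ofNat 0, Int.negSucc 1, Int.ofNat 0, Int.ofNat 2, Int.ofNat 0, Int.ofNat 0, Int.negSucc 1, Int.ofNat 0, Int.ofNat 0],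
  [Int.ofNat 0, Int.ofNat 0, Int.ofNat 0, Int.negSucc 1, Int.ofNat 0, Int.ofNat 2, Int.ofNat 2, Int.ofNat 0, Int.negSucc 1, Int.ofNat 0, Int.ofNat 0, Int.ofNat 0, Int.negSucc 1, Int.ofNat 2, Int.ofNat 0, Int.ofNat 0, Int.negSucc 1, Int.ofNat 0, Int.ofNat 0, Int.ofNat 2, Int.ofNat 0, Int.ofNat 0, Int.ofNat 0, Int.ofNat 0],
  [Int.negSucc 1, Int.ofNat 0, Int.ofNat 2, Int.ofNat 2, Int.ofNat 0, Int.negSucc 1, Int.ofNat 0, Int.ofNat 0, Int.ofNat 0, Int.negSucc 1, Int.ofNat 2, Int.ofNat 0, Int.ofNat 0, Int.negSucc 1, Int.ofNat 0, Int.ofNat 0, Int.ofNat 2, Int.ofNat 0, Int.ofNat 0, Int.ofNat 0, Int.ofNat 0, Int.ofNat 0, Int.ofNat 0, Int.ofNat 0],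
  [Int.ofNat 2, Int.ofNat 0, Int.negSucc 1, Int.ofNat 2, Int.ofNat 0, Int.negSucc 1, Int.ofNat 0, Int.ofNat 0, Int.ofNat 0, Int.negSucc 1, Int.ofNat 2, Int.ofNat 0, Int.ofNat 0, Int.negSucc 1, Int.ofNat 0, Int.ofNat 0, Int.ofNat 2, Int.ofNat 0, Int.ofNat 0, Int.ofNat 0, Int.ofNat 0, Int.ofNat 0, Int.ofNat 0, Int.ofNat 0],
  [Int.ofNat 2, Int.ofNat 0, Int.ofNat 0, Int.ofNat 2, Int.ofNat 0, Int.ofNat 0, Int.negSucc 1, Int.ofNat 2, Int.ofNat 0, Int.negSucc 1, Int.ofNat 0, Int.ofNat 0, Int.negSucc 1, Int.ofNat 2, Int.ofNat 0, Int.ofNat 0, Int.ofNat 0, Int.ofNat 0, Int.ofNat 0, Int.ofNat 0, Int.ofNat 0, Int.negSucc 1, Int.ofNat 0, Int.ofNat 0],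
  [Int.negSucc 0, Int.ofNat 1, Int.ofNat 1, Int.ofNat 1, Int.negSucc 0, Int.negSucc 0, Int.negSucc 0, Int.ofNat 3, Int.ofNat 1, Int.negSucc 0, Int.ofNat 1, Int.ofNat 1, Int.negSucc 0, Int.ofNat 1, Int.negSucc 0, Int.ofNat 1, Int.negSucc 0, Int.negSucc 0, Int.ofNat 1, Int.ofNat 1, Int.ofNat 1, Int.negSucc 0, Int.negSucc 0, Int.ofNat 1],
  [Int.negSucc 0, Int.ofNat 1, Int.negSucc 0, Int.ofNat 1, Int.negSucc 0, Int.ofNat 1, Int.ofNat 1, Int.ofNat 3, Int.ofNat 1, Int.ofNat 1, Int.negSucc 0, Int.ofNat 1, Int.negSucc 0, Int.ofNat 1, Int.negSucc 0, Int.negSucc 0, Int.negSucc 0, Int.negSucc 0, Int.negSucc 0, Int.ofNat 1, Int.ofNat 1, Int.negSucc 0, Int.ofNat 1, Int.ofNat 1],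
  [Int.negSucc 0, Int.negSucc 0, Int.ofNat 1, Int.ofNat 1, Int.ofNat 1, Int.ofNat 3, Int.ofNat 1, Int.negSucc 0, Int.negSucc 0, Int.ofNat 1, Int.ofNat 1, Int.ofNat 1, Int.negSucc 0, Int.negSucc 0, Int.ofNat 1, Int.negSucc 0, Int.negSucc 0, Int.negSucc 0, Int.ofNat 1, Int.negSucc 0, Int.negSucc 0, Int.ofNat 1, Int.ofNat 1, Int.ofNat 1],
  [Int.negSucc 0, Int.negSucc 0, Int.negSucc 0, Int.ofNat 1, Int.ofNat 1, Int.negSucc 2, Int.negSucc 0, Int.negSucc 0, Int.negSucc 0, Int.negSucc 0, Int.negSucc 0, Int.ofNat 1, Int.negSucc 0, Int.negSucc 0, Int.ofNat 1, Int.ofNat 1, Int.negSucc 0, Int.negSucc 0, Int.negSucc 0, Int.negSucc 0, Int.negSucc 0, Int.ofNat 1, Int.negSucc 0, Int.ofNat 1],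
  [Int.ofNat 0, Int.ofNat 0, Int.ofNat 0, Int.ofNat 2, Int.ofNat 2, Int.negSucc 1, Int.ofNat 0, Int.ofNat 0, Int.ofNat 0, Int.ofNat 0, Int.ofNat 0, Int.ofNat 2, Int.ofNat 0, Int.ofNat 0, Int.ofNat 2, Int.ofNat 2, Int.ofNat 0, Int.ofNat 0, Int.ofNat 0, Int.ofNat 0, Int.ofNat 0, Int.ofNat 2, Int.ofNat 0, Int.negSucc 1],
  [Int.ofNat 0, Int.ofNat 0, Int.ofNat 0, Int.ofNat 2, Int.ofNat 0, Int.ofNat 2, Int.ofNat 0, Int.negSucc 1, Int.ofNat 0, Int.ofNat 0, Int.ofNat 0, Int.ofNat 0, Int.ofNat 0, Int.ofNat 0, Int.ofNat 0, Int.ofNat 2, Int.ofNat 0, Int.ofNat 2, Int.ofNat 2, Int.ofNat 0, Int.ofNat 0, Int.ofNat 0, Int.ofNat 2, Int.negSucc 1],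
  [Int.negSucc 0, Int.negSucc 0, Int.negSucc 0, Int.negSucc 0, Int.negSucc 0, Int.negSucc 0, Int.ofNat 1, Int.negSucc 0, Int.negSucc 0, Int.negSucc 0, Int.negSucc 0, Int.negSucc 0, Int.negSucc 0, Int.negSucc 0, Int.negSucc 2, Int.ofNat 1, Int.negSucc 0, Int.negSucc 0, Int.ofNat 1, Int.ofNat 1, Int.negSucc 0, Int.ofNat 1, Int.ofNat 1, Int.ofNat 1],
  [Int.negSucc 0, Int.ofNat 1, Int.ofNat 1, Int.negSucc 0, Int.negSucc 0, Int.negSucc 0, Int.negSucc 0, Int.negSucc 0, Int.negSucc 0, Int.ofNat 1, Int.negSucc 0, Int.negSucc 0, Int.negSucc 0, Int.negSucc 0, Int.negSucc 0, Int.negSucc 0, Int.negSucc 0, Int.negSucc 2, Int.ofNat 1, Int.negSucc 0, Int.negSucc 0, Int.ofNat 1, Int.ofNat 1, Int.ofNat 1],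
  [Int.ofNat 2, Int.ofNat 0, Int.ofNat 0, Int.ofNat 2, Int.ofNat 0, Int.ofNat 2, Int.ofNat 0, Int.ofNat 0, Int.ofNat 0, Int.ofNat 2, Int.ofNat 0, Int.ofNat 0, Int.ofNat 0, Int.ofNat 0, Int.ofNat 2, Int.ofNat 0, Int.ofNat 0, Int.ofNat 0, Int.ofNat 2, Int.ofNat 0, Int.ofNat 0, Int.ofNat 2, Int.ofNat 2, Int.ofNat 0],
  [Int.ofNat 0, Int.ofNat 0, Int.ofNat 2, Int.ofNat 0, Int.ofNat 2, Int.ofNat 0, Int.ofNat 0, Int.ofNat 0, Int.ofNat 2, Int.ofNat 0, Int.ofNat 0, Int.ofNat 0, Int.ofNat 0, Int.ofNat 2, Int.ofNat 0, Int.ofNat 0, Int.ofNat 0, Int.ofNat 2, Int.ofNat 0, Int.ofNat 0, Int.ofNat 2, Int.ofNat 2, Int.ofNat 2, Int.ofNat 0],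
  [Int.ofNat 0, Int.ofNat 0, Int.negSucc 1, Int.ofNat 0, Int.ofNat 2, Int.ofNat 0, Int.ofNat 0, Int.ofNat 0, Int.ofNat 2, Int.ofNat 0, Int.ofNat 0, Int.ofNat 0, Int.ofNat 0, Int.ofNat 2, Int.ofNat 0, Int.ofNat 0, Int.ofNat 0, Int.ofNat 2, Int.ofNat 0, Int.ofNat 0, Int.ofNat 2, Int.negSucc 1, Int.ofNat 2, Int.ofNat 0],
  [Int.ofNat 0, Int.ofNat 0, Int.ofNat 2, Int.ofNat 0, Int.negSucc 1, Int.ofNat 0, Int.ofNat 0, Int.ofNat 0, Int.negSucc 1, Int.ofNat 0, Int.ofNat 0, Int.ofNat 0, Int.ofNat 0, Int.negSucc 1, Int.ofNat 0, Int.ofNat 0, Int.ofNat 0, Int.ofNat 2, Int.ofNat 0, Int.ofNat 0, Int.ofNat 2, Int.negSucc 1, Int.ofNat 2, Int.ofNat 0],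
  [Int.ofNat 0, Int.ofNat 2, Int.ofNat 0, Int.ofNat 0, Int.ofNat 2, Int.ofNat 0, Int.ofNat 0, Int.negSucc 1, Int.ofNat 2, Int.ofNat 0, Int.ofNat 0, Int.ofNat 2, Int.negSucc 1, Int.ofNat 0, Int.ofNat 0, Int.ofNat 0, Int.ofNat 0, Int.negSucc 1, Int.ofNat 0, Int.ofNat 0, Int.negSucc 1, Int.ofNat 0, Int.ofNat 0, Int.ofNat 0],
  [Int.ofNat 0, Int.ofNat 2, Int.ofNat 0, Int.ofNat 0, Int.ofNat 2, Int.ofNat 0, Int.ofNat 0, Int.ofNat 2, Int.ofNat 2, Int.ofNat 0, Int.ofNat 0, Int.negSucc 1, Int.negSucc 1, Int.ofNat 0, Int.ofNat 0, Int.ofNat 0, Int.ofNat 0, Int.negSucc 1, Int.ofNat 0, Int.ofNat 0, Int.negSucc 1, Int.ofNat 0, Int.ofNat 0, Int.ofNat 0],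
  [Int.ofNat 0, Int.ofNat 0, Int.ofNat 2, Int.ofNat 0, Int.ofNat 0, Int.ofNat 2, Int.ofNat 0, Int.ofNat 0, Int.ofNat 2, Int.ofNat 2, Int.ofNat 0, Int.ofNat 0, Int.negSucc 1, Int.negSucc 1, Int.ofNat 0, Int.ofNat 0, Int.ofNat 0, Int.ofNat 0, Int.negSucc 1, Int.ofNat 0, Int.ofNat 0, Int.negSucc 1, Int.ofNat 0, Int.ofNat 0],
  [Int.ofNat 1, Int.ofNat 1, Int.negSucc 0, Int.negSucc 0, Int.ofNat 1, Int.ofNat 1, Int.ofNat 1, Int.ofNat 1, Int.ofNat 3, Int.ofNat 1, Int.negSucc 0, Int.ofNat 1, Int.negSucc 0, Int.negSucc 0, Int.negSucc 0, Int.negSucc 0, Int.ofNat 1, Int.negSucc 0, Int.negSucc 0, Int.ofNat 1, Int.negSucc 0, Int.negSucc 0, Int.ofNat 1, Int.ofNat 1],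
  [Int.negSucc 0, Int.ofNat 1, Int.ofNat 1, Int.ofNat 1, Int.ofNat 1, Int.ofNat 3, Int.ofNat 1, Int.negSucc 0, Int.ofNat 1, Int.negSucc 0, Int.negSucc 0, Int.negSucc 0, Int.negSucc 0, Int.ofNat 1, Int.negSucc 0, Int.negSucc 0, Int.ofNat 1, Int.negSucc 0, Int.negSucc 0, Int.ofNat 1, Int.ofNat 1, Int.ofNat 1, Int.negSucc 0, Int.ofNat 1],
  [Int.ofNat 2, Int.ofNat 0, Int.ofNat 0, Int.ofNat 0, Int.ofNat 0, Int.ofNat 2, Int.ofNat 0, Int.negSucc 1, Int.ofNat 2, Int.ofNat 0, Int.ofNat 0, Int.ofNat 0, Int.ofNat 0, Int.ofNat 0, Int.negSucc 1, Int.ofNat 0, Int.ofNat 0, Int.negSucc 1, Int.ofNat 0, Int.ofNat 0, Int.ofNat 2, Int.ofNat 0, Int.negSucc 1, Int.ofNat 0],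
  [Int.ofNat 2, Int.ofNat 0, Int.ofNat 0, Int.ofNat 0, Int.ofNat 0, Int.negSucc 1, Int.ofNat 0, Int.ofNat 0, Int.ofNat 0, Int.ofNat 0, Int.ofNat 2, Int.negSucc 1, Int.ofNat 0, Int.ofNat 0, Int.negSucc 1, Int.ofNat 0, Int.ofNat 2, Int.negSucc 1, Int.ofNat 0, Int.ofNat 0, Int.ofNat 0, Int.ofNat 2, Int.ofNat 0, Int.ofNat 0],
  [Int.negSucc 0, Int.ofNat 1, Int.ofNat 1, Int.ofNat 3, Int.negSucc 0, Int.ofNat 1, Int.negSucc 0, Int.negSucc 0, Int.ofNat 1, Int.negSucc 0, Int.ofNat 1, Int.negSucc 0, Int.ofNat 1, Int.negSucc 0, Int.ofNat 1, Int.negSucc 0, Int.ofNat 1, Int.ofNat 1, Int.ofNat 1, Int.negSucc 0, Int.negSucc 0, Int.ofNat 1, Int.negSucc 0, Int.ofNat 1],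
  [Int.negSucc 0, Int.ofNat 1, Int.negSucc 0, Int.ofNat 3, Int.negSucc 0, Int.negSucc 0, Int.ofNat 1, Int.negSucc 0, Int.ofNat 1, Int.ofNat 1, Int.negSucc 0, Int.negSucc 0, Int.ofNat 1, Int.negSucc 0, Int.ofNat 1, Int.ofNat 1, Int.ofNat 1, Int.ofNat 1, Int.negSucc 0, Int.negSucc 0, Int.negSucc 0, Int.ofNat 1, Int.ofNat 1, Int.ofNat 1],
  [Int.negSucc 0, Int.ofNat 1, Int.ofNat 1, Int.negSucc 0, Int.negSucc 0, Int.negSucc 0, Int.negSucc 0, Int.ofNat 1, Int.ofNat 1, Int.ofNat 1, Int.ofNat 1, Int.ofNat 1, Int.negSucc 0, Int.negSucc 0, Int.ofNat 3, Int.negSucc 0, Int.ofNat 1, Int.ofNat 1, Int.ofNat 1, Int.negSucc 0, Int.ofNat 1, Int.negSucc 0, Int.negSucc 0, Int.ofNat 1],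
  [Int.negSucc 0, Int.ofNat 1, Int.negSucc 0, Int.negSucc 0, Int.negSucc 0, Int.ofNat 1, Int.ofNat 1, Int.ofNat 1, Int.ofNat 1, Int.negSucc 0, Int.negSucc 0, Int.ofNat 1, Int.negSucc 0, Int.negSucc 0, Int.ofNat 3, Int.ofNat 1, Int.ofNat 1, Int.ofNat 1, Int.negSucc 0, Int.negSucc 0, Int.ofNat 1, Int.negSucc 0, Int.ofNat 1, Int.ofNat 1],
  [Int.ofNat 1, Int.negSucc 0, Int.ofNat 1, Int.negSucc 2, Int.negSucc 0, Int.negSucc 0, Int.ofNat 1, Int.ofNat 1, Int.ofNat 1, Int.negSucc 0, Int.negSucc 0, Int.ofNat 1, Int.negSucc 0, Int.negSucc 0, Int.ofNat 1, Int.ofNat 1, Int.ofNat 1, Int.negSucc 0, Int.negSucc 0, Int.negSucc 0, Int.ofNat 1, Int.negSucc 0, Int.ofNat 1, Int.negSucc 0],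
  [Int.ofNat 1, Int.negSucc 0, Int.ofNat 1, Int.negSucc 2, Int.ofNat 1, Int.negSucc 0, Int.negSucc 0, Int.negSucc 0, Int.ofNat 1, Int.negSucc 0, Int.ofNat 1, Int.negSucc 0, Int.ofNat 1, Int.negSucc 0, Int.negSucc 0, Int.ofNat 1, Int.negSucc 0, Int.ofNat 1, Int.negSucc 0, Int.ofNat 1, Int.negSucc 0, Int.ofNat 1, Int.ofNat 1, Int.negSucc 0],
  [Int.negSucc 0, Int.ofNat 1, Int.negSucc 0, Int.negSucc 0, Int.ofNat 1, Int.ofNat 1, Int.negSucc 0, Int.negSucc 0, Int.ofNat 1, Int.negSucc 0, Int.ofNat 1, Int.negSucc 0, Int.ofNat 1, Int.negSucc 0, Int.ofNat 1, Int.ofNat 1, Int.negSucc 0, Int.ofNat 3, Int.negSucc 0, Int.ofNat 1, Int.negSucc 0, Int.ofNat 1, Int.ofNat 1, Int.ofNat 1],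
  [Int.negSucc 0, Int.ofNat 1, Int.ofNat 1, Int.negSucc 0, Int.ofNat 1, Int.negSucc 0, Int.negSucc 0, Int.ofNat 1, Int.ofNat 1, Int.negSucc 0, Int.negSucc 0, Int.ofNat 1, Int.negSucc 0, Int.ofNat 1, Int.negSucc 0, Int.ofNat 1, Int.negSucc 0, Int.ofNat 1, Int.ofNat 1, Int.negSucc 0, Int.ofNat 3, Int.negSucc 0, Int.ofNat 1, Int.ofNat 1],
  [Int.ofNat 2, Int.ofNat 0, Int.ofNat 0, Int.ofNat 0, Int.ofNat 0, Int.ofNat 0, Int.ofNat 0, Int.ofNat 2, Int.ofNat 0, Int.negSucc 1, Int.negSucc 1, Int.ofNat 0, Int.negSucc 1, Int.ofNat 0, Int.ofNat 0, Int.ofNat 0, Int.negSucc 1, Int.ofNat 2, Int.ofNat 0, Int.ofNat 0, Int.ofNat 2, Int.ofNat 0, Int.ofNat 0, Int.ofNat 0],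
  [Int.ofNat 0, Int.ofNat 0, Int.ofNat 0, Int.ofNat 0, Int.ofNat 0, Int.ofNat 0, Int.ofNat 2, Int.ofNat 0, Int.negSucc 1, Int.negSucc 1, Int.ofNat 0, Int.negSucc 1, Int.ofNat 0, Int.ofNat 0, Int.ofNat 0, Int.negSucc 1, Int.ofNat 2, Int.ofNat 0, Int.ofNat 0, Int.ofNat 2, Int.ofNat 0, Int.ofNat 0, Int.ofNat 2, Int.ofNat 0],
  [Int.ofNat 0, Int.ofNat 0, Int.ofNat 0, Int.ofNat 0, Int.ofNat 0, Int.ofNat 0, Int.ofNat 2, Int.ofNat 0, Int.negSucc 1, Int.ofNat 2, Int.ofNat 0, Int.ofNat 2, Int.ofNat 0, Int.ofNat 0, Int.ofNat 0, Int.negSucc 1, Int.ofNat 2, Int.ofNat 0, Int.ofNat 0, Int.ofNat 2, Int.ofNat 0, Int.ofNat 0, Int.ofNat 2, Int.ofNat 0],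
  [Int.ofNat 0, Int.ofNat 0, Int.ofNat 0, Int.ofNat 0, Int.ofNat 0, Int.ofNat 0, Int.negSucc 1, Int.ofNat 0, Int.ofNat 2, Int.negSucc 1, Int.ofNat 0, Int.ofNat 2, Int.ofNat 0, Int.ofNat 0, Int.ofNat 0, Int.negSucc 1, Int.negSucc 1, Int.ofNat 0, Int.ofNat 0, Int.ofNat 2, Int.ofNat 0, Int.ofNat 0, Int.ofNat 2, Int.ofNat 0],
  [Int.ofNat 0, Int.ofNat 2, Int.ofNat 2, Int.negSucc 1, Int.ofNat 0, Int.negSucc 1, Int.ofNat 2, Int.ofNat 0, Int.ofNat 0, Int.ofNat 0, Int.negSucc 1, Int.ofNat 0, Int.ofNat 0, Int.ofNat 0, Int.ofNat 0, Int.ofNat 0, Int.ofNat 0, Int.ofNat 0, Int.ofNat 0, Int.negSucc 1, Int.ofNat 2, Int.ofNat 0, Int.ofNat 0, Int.ofNat 0],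
  [Int.ofNat 0, Int.ofNat 2, Int.negSucc 1, Int.negSucc 1, Int.ofNat 0, Int.negSucc 1, Int.ofNat 2, Int.ofNat 0, Int.ofNat 0, Int.ofNat 0, Int.ofNat 2, Int.ofNat 0, Int.ofNat 0, Int.ofNat 0, Int.ofNat 0, Int.ofNat 0, Int.ofNat 0, Int.ofNat 0, Int.ofNat 0, Int.negSucc 1, Int.ofNat 2, Int.ofNat 0, Int.ofNat 0, Int.ofNat 0],
  [Int.ofNat 0, Int.ofNat 0, Int.ofNat 2, Int.negSucc 1, Int.negSucc 1, Int.ofNat 0, Int.negSucc 1, Int.ofNat 2, Int.ofNat 0, Int.ofNat 0, Int.ofNat 0, Int.ofNat 2, Int.ofNat 0, Int.ofNat 0, Int.ofNat 0, Int.ofNat 0, Int.ofNat 0, Int.ofNat 0, Int.ofNat 0, Int.ofNat 0, Int.negSucc 1, Int.ofNat 2, Int.ofNat 0, Int.ofNat 0],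
  [Int.ofNat 1, Int.ofNat 1, Int.negSucc 0, Int.negSucc 0, Int.negSucc 0, Int.ofNat 1, Int.negSucc 2, Int.ofNat 1, Int.negSucc 0, Int.ofNat 1, Int.ofNat 1, Int.ofNat 1, Int.negSucc 0, Int.ofNat 1, Int.ofNat 1, Int.ofNat 1, Int.ofNat 1, Int.ofNat 1, Int.negSucc 0, Int.negSucc 0, Int.negSucc 0, Int.ofNat 1, Int.ofNat 1, Int.ofNat 1],
  [Int.negSucc 0, Int.negSucc 0, Int.ofNat 1, Int.negSucc 2, Int.ofNat 1, Int.negSucc 0, Int.ofNat 1, Int.ofNat 1, Int.ofNat 1, Int.negSucc 0, Int.ofNat 1, Int.ofNat 1, Int.ofNat 1, Int.ofNat 1, Int.ofNat 1, Int.negSucc 0, Int.negSucc 0, Int.negSucc 0, Int.ofNat 1, Int.ofNat 1, Int.ofNat 1, Int.ofNat 1, Int.negSucc 0, Int.ofNat 1],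
  [Int.ofNat 1, Int.ofNat 1, Int.negSucc 0, Int.negSucc 0, Int.ofNat 1, Int.ofNat 1, Int.negSucc 0, Int.negSucc 0, Int.negSucc 0, Int.negSucc 0, Int.ofNat 1, Int.negSucc 0, Int.negSucc 0, Int.ofNat 1, Int.ofNat 3, Int.negSucc 0, Int.negSucc 0, Int.ofNat 1, Int.negSucc 0, Int.negSucc 0, Int.ofNat 1, Int.negSucc 0, Int.negSucc 0, Int.negSucc 0],
  [Int.ofNat 1, Int.negSucc 0, Int.ofNat 1, Int.negSucc 0, Int.negSucc 0, Int.negSucc 0, Int.negSucc 0, Int.ofNat 1, Int.negSucc 0, Int.ofNat 1, Int.ofNat 1, Int.ofNat 1, Int.negSucc 0, Int.negSucc 0, Int.negSucc 0, Int.negSucc 0, Int.negSucc 0, Int.ofNat 3, Int.ofNat 1, Int.negSucc 0, Int.negSucc 0, Int.ofNat 1, Int.negSucc 0, Int.negSucc 0],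
  [Int.negSucc 0, Int.ofNat 1, Int.negSucc 0, Int.negSucc 0, Int.ofNat 1, Int.negSucc 0, Int.negSucc 0, Int.ofNat 1, Int.negSucc 0, Int.ofNat 1, Int.ofNat 1, Int.ofNat 1, Int.negSucc 0, Int.ofNat 1, Int.negSucc 0, Int.negSucc 0, Int.ofNat 1, Int.ofNat 3, Int.ofNat 1, Int.negSucc 0, Int.negSucc 0, Int.ofNat 1, Int.ofNat 1, Int.ofNat 1],
  [Int.negSucc 0, Int.ofNat 1, Int.ofNat 1, Int.negSucc 0, Int.ofNat 1, Int.ofNat 1, Int.ofNat 1, Int.ofNat 1, Int.negSucc 0, Int.negSucc 0, Int.negSucc 0, Int.ofNat 1, Int.negSucc 0, Int.ofNat 1, Int.negSucc 0, Int.ofNat 1, Int.ofNat 1, Int.ofNat 3, Int.negSucc 0, Int.negSucc 0, Int.negSucc 0, Int.ofNat 1, Int.negSucc 0, Int.ofNat 1],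
  [Int.negSucc 0, Int.ofNat 1, Int.negSucc 0, Int.ofNat 1, Int.negSucc 0, Int.ofNat 1, Int.ofNat 1, Int.ofNat 3, Int.ofNat 1, Int.ofNat 1, Int.negSucc 0, Int.ofNat 1, Int.negSucc 0, Int.ofNat 1, Int.negSucc 0, Int.negSucc 0, Int.negSucc 0, Int.negSucc 0, Int.negSucc 0, Int.ofNat 1, Int.ofNat 1, Int.negSucc 0, Int.ofNat 1, Int.ofNat 1],
  [Int.negSucc 0, Int.ofNat 1, Int.ofNat 1, Int.ofNat 1, Int.negSucc 0, Int.negSucc 0, Int.negSucc 0, Int.ofNat 3, Int.ofNat 1, Int.negSucc 0, Int.ofNat 1, Int.ofNat 1, Int.negSucc 0, Int.ofNat 1, Int.negSucc 0, Int.ofNat 1, Int.negSucc 0, Int.negSucc 0, Int.ofNat 1, Int.ofNat 1, Int.ofNat 1, Int.negSucc 0, Int.negSucc 0, Int.ofNat 1],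
  [Int.ofNat 2, Int.ofNat 0, Int.ofNat 0, Int.ofNat 2, Int.ofNat 0, Int.ofNat 0, Int.negSucc 1, Int.ofNat 2, Int.ofNat 0, Int.negSucc 1, Int.ofNat 0, Int.ofNat 0, Int.negSucc 1, Int.ofNat 2, Int.ofNat 0, Int.ofNat 0, Int.ofNat 0, Int.ofNat 0, Int.ofNat 0, Int.ofNat 0, Int.ofNat 0, Int.negSucc 1, Int.ofNat 0, Int.ofNat 0],
  [Int.ofNat 2, Int.ofNat 0, Int.negSucc 1, Int.ofNat 2, Int.ofNat 0, Int.negSucc 1, Int.ofNat 0, Int.ofNat 0, Int.ofNat 0, Int.negSucc 1, Int.ofNat 2, Int.ofNat 0, Int.ofNat 0, Int.negSucc 1, Int.ofNat 0, Int.ofNat 0, Int.ofNat 2, Int.ofNat 0, Int.ofNat 0, Int.ofNat 0, Int.ofNat 0, Int.ofNat 0, Int.ofNat 0, Int.ofNat 0],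
  [Int.negSucc 1, Int.ofNat 0, Int.ofNat 2, Int.ofNat 2, Int.ofNat 0, Int.negSucc 1, Int.ofNat 0, Int.ofNat 0, Int.ofNat 0, Int.negSucc 1, Int.ofNat 2, Int.ofNat 0, Int.ofNat 0, Int.negSucc 1, Int.ofNat 0, Int.ofNat 0, Int.ofNat 2, Int.ofNat 0, Int.ofNat 0, Int.ofNat 0, Int.ofNat 0, Int.ofNat 0, Int.ofNat 0, Int.ofNat 0],
  [Int.ofNat 0, Int.ofNat 0, Int.ofNat 0, Int.negSucc 1, Int.ofNat 0, Int.ofNat 2, Int.ofNat 2, Int.ofNat 0, Int.negSucc 1, Int.ofNat 0, Int.ofNat 0, Int.ofNat 0, Int.negSucc 1, Int.ofNat 2, Int.ofNat 0, Int.ofNat 0, Int.negSucc 1, Int.ofNat 0, Int.ofNat 0, Int.ofNat 2, Int.ofNat 0, Int.ofNat 0, Int.ofNat 0, Int.ofNat 0],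
  [Int.ofNat 0, Int.ofNat 0, Int.ofNat 0, Int.negSucc 1, Int.ofNat 0, Int.ofNat 2, Int.ofNat 0, Int.negSucc 1, Int.ofNat 0, Int.ofNat 0, Int.ofNat 0, Int.ofNat 2, Int.ofNat 0, Int.ofNat 2, Int.ofNat 0, Int.ofNat 0, Int.negSucc 1, Int.ofNat 0, Int.ofNat 2, Int.ofNat 0, Int.ofNat 0, Int.negSucc 1, Int.ofNat 0, Int.ofNat 0],
  [Int.ofNat 0, Int.ofNat 0, Int.negSucc 1, Int.ofNat 0, Int.ofNat 2, Int.ofNat 0, Int.negSucc 1, Int.ofNat 0, Int.ofNat 0, Int.ofNat 0, Int.ofNat 2, Int.ofNat 0, Int.ofNat 2, Int.ofNat 0, Int.ofNat 0, Int.negSucc 1, Int.ofNat 0, Int.ofNat 2, Int.ofNat 0, Int.ofNat 0, Int.negSucc 1, Int.ofNat 0, Int.ofNat 0, Int.ofNat 0],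
  [Int.ofNat 0, Int.ofNat 0, Int.ofNat 2, Int.ofNat 0, Int.ofNat 2, Int.ofNat 0, Int.negSucc 1, Int.ofNat 0, Int.ofNat 0, Int.ofNat 0, Int.negSucc 1, Int.ofNat 0, Int.ofNat 2, Int.ofNat 0, Int.ofNat 0, Int.negSucc 1, Int.ofNat 0, Int.ofNat 2, Int.ofNat 0, Int.ofNat 0, Int.negSucc 1, Int.ofNat 0, Int.ofNat 0, Int.ofNat 0],
  [Int.ofNat 0, Int.ofNat 0, Int.negSucc 1, Int.ofNat 0, Int.negSucc 1, Int.ofNat 0, Int.ofNat 2, Int.ofNat 0, Int.ofNat 0, Int.ofNat 0, Int.negSucc 1, Int.ofNat 0, Int.negSucc 1, Int.ofNat 0, Int.ofNat 0, Int.negSucc 1, Int.ofNat 0, Int.ofNat 2, Int.ofNat 0, Int.ofNat 0, Int.negSucc 1, Int.ofNat 0, Int.ofNat 0, Int.ofNat 0],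
  [Int.ofNat 0, Int.ofNat 0, Int.ofNat 0, Int.negSucc 1, Int.ofNat 2, Int.ofNat 0, Int.ofNat 0, Int.ofNat 0, Int.negSucc 1, Int.ofNat 0, Int.ofNat 0, Int.negSucc 1, Int.ofNat 0, Int.ofNat 0, Int.ofNat 0, Int.ofNat 0, Int.negSucc 1, Int.negSucc 1, Int.ofNat 0, Int.ofNat 2, Int.ofNat 0, Int.negSucc 1, Int.ofNat 0, Int.ofNat 0],
  [Int.ofNat 0, Int.ofNat 0, Int.ofNat 0, Int.negSucc 1, Int.ofNat 2, Int.ofNat 0, Int.ofNat 0, Int.ofNat 0, Int.negSucc 1, Int.ofNat 0, Int.ofNat 0, Int.ofNat 2, Int.ofNat 0, Int.ofNat 0, Int.ofNat 0, Int.ofNat 0, Int.negSucc 1, Int.negSucc 1, Int.ofNat 0, Int.ofNat 2, Int.ofNat 0, Int.ofNat 2, Int.ofNat 0, Int.ofNat 0],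
  [Int.ofNat 0, Int.ofNat 0, Int.ofNat 0, Int.ofNat 0, Int.negSucc 1, Int.ofNat 2, Int.ofNat 0, Int.ofNat 0, Int.ofNat 0, Int.negSucc 1, Int.ofNat 0, Int.ofNat 0, Int.ofNat 2, Int.ofNat 0, Int.ofNat 0, Int.ofNat 0, Int.ofNat 0, Int.negSucc 1, Int.negSucc 1, Int.ofNat 0, Int.ofNat 2, Int.ofNat 0, Int.ofNat 2, Int.ofNat 0],
  [Int.ofNat 0, Int.ofNat 0, Int.ofNat 0, Int.ofNat 0, Int.negSucc 1, Int.ofNat 2, Int.ofNat 0, Int.ofNat 0, Int.ofNat 0, Int.negSucc 1, Int.ofNat 0, Int.ofNat 0, Int.ofNat 2, Int.ofNat 0, Int.ofNat 0, Int.ofNat 0, Int.ofNat 0, Int.negSucc 1, Int.negSucc 1, Int.ofNat 0, Int.ofNat 2, Int.ofNat 0, Int.ofNat 2, Int.ofNat 0],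
  [Int.ofNat 0, Int.negSucc 1, Int.ofNat 2, Int.ofNat 0, Int.ofNat 0, Int.ofNat 0, Int.negSucc 1, Int.ofNat 0, Int.ofNat 0, Int.ofNat 2, Int.ofNat 0, Int.ofNat 0, Int.ofNat 0, Int.ofNat 0, Int.negSucc 1, Int.negSucc 1, Int.ofNat 0, Int.ofNat 2, Int.ofNat 0, Int.ofNat 2, Int.ofNat 0, Int.ofNat 0, Int.ofNat 0, Int.ofNat 0],
  [Int.ofNat 0, Int.ofNat 2, Int.negSucc 1, Int.ofNat 0, Int.ofNat 0, Int.ofNat 0, Int.negSucc 1, Int.ofNat 0, Int.ofNat 0, Int.ofNat 2, Int.ofNat 0, Int.ofNat 0, Int.ofNat 0, Int.ofNat 0, Int.negSucc 1, Int.negSucc 1, Int.ofNat 0, Int.ofNat 2, Int.ofNat 0, Int.ofNat 2, Int.ofNat 0, Int.ofNat 0, Int.ofNat 0, Int.ofNat 0],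
  [Int.ofNat 0, Int.negSucc 1, Int.ofNat 0, Int.ofNat 0, Int.ofNat 0, Int.ofNat 0, Int.negSucc 1, Int.ofNat 0, Int.ofNat 0, Int.ofNat 0, Int.ofNat 0, Int.ofNat 2, Int.ofNat 2, Int.ofNat 0, Int.ofNat 0, Int.negSucc 1, Int.ofNat 0, Int.negSucc 1, Int.ofNat 2, Int.ofNat 0, Int.ofNat 0, Int.ofNat 0, Int.ofNat 2, Int.ofNat 0],
  [Int.negSucc 0, Int.ofNat 1, Int.negSucc 0, Int.ofNat 1, Int.negSucc 0, Int.ofNat 1, Int.negSucc 0, Int.ofNat 1, Int.negSucc 2, Int.ofNat 1, Int.ofNat 1, Int.negSucc 0, Int.negSucc 0, Int.negSucc 0, Int.ofNat 1, Int.negSucc 0, Int.negSucc 0, Int.negSucc 0, Int.negSucc 0, Int.ofNat 1, Int.ofNat 1, Int.ofNat 1, Int.ofNat 1, Int.negSucc 0],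
  [Int.negSucc 0, Int.ofNat 1, Int.ofNat 1, Int.ofNat 1, Int.negSucc 0, Int.negSucc 0, Int.ofNat 1, Int.ofNat 1, Int.negSucc 2, Int.negSucc 0, Int.negSucc 0, Int.negSucc 0, Int.negSucc 0, Int.negSucc 0, Int.ofNat 1, Int.ofNat 1, Int.negSucc 0, Int.negSucc 0, Int.ofNat 1, Int.ofNat 1, Int.ofNat 1, Int.ofNat 1, Int.negSucc 0, Int.negSucc 0],
  [Int.negSucc 0, Int.negSucc 0, Int.negSucc 0, Int.negSucc 0, Int.ofNat 1, Int.ofNat 1, Int.negSucc 0, Int.negSucc 0, Int.ofNat 1, Int.ofNat 1, Int.negSucc 2, Int.ofNat 1, Int.negSucc 0, Int.negSucc 0, Int.ofNat 1, Int.ofNat 1, Int.ofNat 1, Int.negSucc 0, Int.negSucc 0, Int.ofNat 1, Int.ofNat 1, Int.ofNat 1, Int.negSucc 0, Int.negSucc 0],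
  [Int.negSucc 0, Int.negSucc 0, Int.ofNat 1, Int.negSucc 0, Int.ofNat 1, Int.negSucc 0, Int.ofNat 1, Int.negSucc 0, Int.ofNat 1, Int.negSucc 0, Int.ofNat 3, Int.ofNat 1, Int.negSucc 0, Int.negSucc 0, Int.ofNat 1, Int.negSucc 0, Int.ofNat 1, Int.negSucc 0, Int.ofNat 1, Int.ofNat 1, Int.ofNat 1, Int.ofNat 1, Int.ofNat 1, Int.negSucc 0],
  [Int.ofNat 0, Int.ofNat 0, Int.negSucc 1, Int.ofNat 0, Int.ofNat 0, Int.ofNat 0, Int.ofNat 0, Int.negSucc 1, Int.ofNat 0, Int.negSucc 1, Int.ofNat 2, Int.ofNat 0, Int.negSucc 1, Int.negSucc 1, Int.ofNat 2, Int.negSucc 1, Int.ofNat 0, Int.ofNat 0, Int.ofNat 0, Int.ofNat 0, Int.ofNat 0, Int.ofNat 0, Int.ofNat 0, Int.ofNat 0],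
  [Int.ofNat 0, Int.ofNat 0, Int.ofNat 0, Int.ofNat 0, Int.negSucc 1, Int.ofNat 0, Int.ofNat 0, Int.ofNat 0, Int.ofNat 0, Int.negSucc 1, Int.negSucc 1, Int.ofNat 0, Int.ofNat 0, Int.negSucc 1, Int.ofNat 0, Int.negSucc 1, Int.negSucc 1, Int.ofNat 0, Int.ofNat 0, Int.ofNat 0, Int.ofNat 2, Int.ofNat 0, Int.ofNat 2, Int.ofNat 0],
  [Int.ofNat 0, Int.ofNat 0, Int.ofNat 0, Int.ofNat 0, Int.ofNat 0, Int.ofNat 0, Int.ofNat 0, Int.ofNat 0, Int.ofNat 0, Int.ofNat 0, Int.ofNat 0, Int.ofNat 0, Int.ofNat 0, Int.ofNat 0, Int.ofNat 0, Int.ofNat 0, Int.ofNat 0, Int.ofNat 0, Int.ofNat 0, Int.ofNat 0, Int.ofNat 4, Int.ofNat 0, Int.ofNat 4, Int.ofNat 0],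
  [Int.ofNat 4, Int.ofNat 0, Int.ofNat 4, Int.ofNat 0, Int.ofNat 0, Int.ofNat 0, Int.ofNat 0, Int.ofNat 0, Int.ofNat 0, Int.ofNat 0, Int.ofNat 0, Int.ofNat 0, Int.ofNat 0, Int.ofNat 0, Int.ofNat 0, Int.ofNat 0, Int.ofNat 0, Int.ofNat 0, Int.ofNat 0, Int.ofNat 0, Int.ofNat 0, Int.ofNat 0, Int.ofNat 0, Int.ofNat 0],
  [Int.ofNat 0, Int.ofNat 4, Int.ofNat 0, Int.ofNat 0, Int.ofNat 0, Int.ofNat 0, Int.ofNat 0, Int.ofNat 0, Int.ofNat 0, Int.ofNat 0, Int.ofNat 0, Int.ofNat 0, Int.ofNat 0, Int.ofNat 0, Int.ofNat 0, Int.ofNat 0, Int.ofNat 0, Int.ofNat 0, Int.ofNat 0, Int.ofNat 0, Int.ofNat 0, Int.ofNat 0, Int.ofNat 0, Int.ofNat 4],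
  [Int.ofNat 4, Int.ofNat 0, Int.ofNat 0, Int.ofNat 0, Int.ofNat 0, Int.ofNat 0, Int.ofNat 0, Int.ofNat 0, Int.ofNat 0, Int.ofNat 0, Int.ofNat 0, Int.ofNat 0, Int.ofNat 0, Int.ofNat 0, Int.ofNat 0, Int.ofNat 0, Int.ofNat 0, Int.ofNat 0, Int.ofNat 0, Int.ofNat 0, Int.ofNat 0, Int.ofNat 0, Int.ofNat 0, Int.ofNat 4],
  [Int.negSucc 3, Int.ofNat 0, Int.ofNat 0, Int.ofNat 0, Int.ofNat 0, Int.ofNat 0, Int.ofNat 0, Int.ofNat 0, Int.ofNat 0, Int.ofNat 0, Int.ofNat 0, Int.ofNat 0, Int.ofNat 0, Int.ofNat 0, Int.ofNat 0, Int.ofNat 0, Int.ofNat 0, Int.ofNat 0, Int.ofNat 0, Int.ofNat 0, Int.ofNat 0, Int.ofNat 0, Int.ofNat 0, Int.ofNat 4],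
  [Int.ofNat 4, Int.ofNat 0, Int.ofNat 0, Int.ofNat 0, Int.ofNat 0, Int.ofNat 0, Int.ofNat 0, Int.ofNat 0, Int.ofNat 0, Int.ofNat 0, Int.ofNat 0, Int.ofNat 0, Int.ofNat 0, Int.ofNat 0, Int.ofNat 0, Int.ofNat 0, Int.ofNat 0, Int.ofNat 0, Int.ofNat 0, Int.ofNat 0, Int.ofNat 0, Int.ofNat 0, Int.ofNat 0, Int.ofNat 4],
  [Int.ofNat 4, Int.ofNat 0, Int.ofNat 0, Int.ofNat 0, Int.ofNat 0, Int.ofNat 0, Int.ofNat 0, Int.ofNat 0, Int.ofNat 0, Int.ofNat 0, Int.ofNat 0, Int.ofNat 0, Int.ofNat 0, Int.ofNat 0, Int.ofNat 0, Int.ofNat 0, Int.ofNat 0, Int.ofNat 0, Int.ofNat 0, Int.ofNat 0, Int.ofNat 0, Int.ofNat 0, Int.ofNat 0, Int.ofNat 4],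
  [Int.negSucc 3, Int.ofNat 0, Int.ofNat 0, Int.ofNat 0, Int.ofNat 0, Int.ofNat 0, Int.ofNat 0, Int.ofNat 0, Int.ofNat 0, Int.ofNat 0, Int.ofNat 0, Int.ofNat 0, Int.ofNat 0, Int.ofNat 0, Int.ofNat 0, Int.ofNat 0, Int.ofNat 0, Int.ofNat 0, Int.ofNat 0, Int.ofNat 0, Int.ofNat 0, Int.ofNat 0, Int.ofNat 0, Int.ofNat 4],
  [Int.ofNat 0, Int.negSucc 3, Int.ofNat 0, Int.ofNat 0, Int.ofNat 0, Int.ofNat 0, Int.ofNat 0, Int.ofNat 0, Int.ofNat 0, Int.ofNat 0, Int.ofNat 0, Int.ofNat 0, Int.ofNat 0, Int.ofNat 0, Int.ofNat 0, Int.ofNat 0, Int.ofNat 0, Int.ofNat 0, Int.ofNat 0, Int.ofNat 0, Int.ofNat 0, Int.ofNat 0, Int.ofNat 0, Int.ofNat 4],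
  [Int.ofNat 0, Int.ofNat 4, Int.ofNat 0, Int.ofNat 0, Int.ofNat 0, Int.ofNat 0, Int.ofNat 0, Int.ofNat 0, Int.ofNat 0, Int.ofNat 0, Int.ofNat 0, Int.ofNat 0, Int.ofNat 0, Int.ofNat 0, Int.ofNat 0, Int.ofNat 0, Int.ofNat 0, Int.ofNat 0, Int.ofNat 0, Int.ofNat 0, Int.ofNat 0, Int.ofNat 0, Int.ofNat 0, Int.negSucc 3],
  [Int.ofNat 0, Int.ofNat 0, Int.ofNat 0, Int.ofNat 0, Int.ofNat 0, Int.ofNat 0, Int.ofNat 0, Int.ofNat 0, Int.ofNat 0, Int.ofNat 0, Int.ofNat 0, Int.ofNat 0, Int.ofNat 0, Int.ofNat 0, Int.ofNat 0, Int.ofNat 0, Int.ofNat 0, Int.ofNat 0, Int.ofNat 0, Int.ofNat 0, Int.ofNat 0, Int.ofNat 4, Int.ofNat 0, Int.negSucc 3],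
  [Int.negSucc 1, Int.negSucc 1, Int.negSucc 1, Int.ofNat 0, Int.ofNat 0, Int.ofNat 0, Int.negSucc 1, Int.negSucc 1, Int.ofNat 0, Int.ofNat 0, Int.ofNat 0, Int.ofNat 0, Int.ofNat 0, Int.ofNat 0, Int.ofNat 0, Int.ofNat 0, Int.ofNat 0, Int.ofNat 0, Int.ofNat 0, Int.negSucc 1, Int.ofNat 0, Int.ofNat 2, Int.ofNat 0, Int.ofNat 2],
  [Int.negSucc 1, Int.negSucc 1, Int.ofNat 0, Int.ofNat 0, Int.ofNat 0, Int.negSucc 1, Int.negSucc 1, Int.ofNat 0, Int.ofNat 0, Int.ofNat 0, Int.ofNat 0, Int.ofNat 0, Int.ofNat 0, Int.ofNat 0, Int.ofNat 0, Int.ofNat 0, Int.ofNat 0, Int.ofNat 0, Int.negSucc 1, Int.ofNat 0, Int.ofNat 2, Int.ofNat 0, Int.negSucc 1, Int.ofNat 2],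
  [Int.ofNat 1, Int.ofNat 1, Int.negSucc 0, Int.ofNat 1, Int.ofNat 1, Int.negSucc 0, Int.negSucc 0, Int.ofNat 1, Int.ofNat 1, Int.negSucc 0, Int.negSucc 0, Int.ofNat 1, Int.ofNat 1, Int.ofNat 1, Int.ofNat 1, Int.negSucc 0, Int.ofNat 1, Int.ofNat 1, Int.negSucc 0, Int.ofNat 1, Int.ofNat 1, Int.ofNat 1, Int.negSucc 0, Int.negSucc 2],
  [Int.ofNat 1, Int.ofNat 1, Int.ofNat 1, Int.ofNat 1, Int.ofNat 1, Int.ofNat 1, Int.ofNat 1, Int.ofNat 1, Int.ofNat 1, Int.ofNat 1, Int.ofNat 1, Int.ofNat 1, Int.ofNat 1, Int.ofNat 1, Int.ofNat 1, Int.ofNat 1, Int.ofNat 1, Int.ofNat 1, Int.ofNat 1, Int.ofNat 1, Int.ofNat 1, Int.ofNat 1, Int.ofNat 1, Int.negSucc 2],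
  [Int.ofNat 1, Int.ofNat 1, Int.ofNat 1, Int.ofNat 1, Int.ofNat 1, Int.ofNat 1, Int.ofNat 1, Int.ofNat 1, Int.ofNat 1, Int.ofNat 1, Int.ofNat 1, Int.ofNat 1, Int.ofNat 1, Int.ofNat 1, Int.ofNat 1, Int.ofNat 1, Int.ofNat 1, Int.ofNat 1, Int.ofNat 1, Int.ofNat 1, Int.ofNat 1, Int.ofNat 1, Int.ofNat 1, Int.negSucc 2],
  [Int.ofNat 1, Int.ofNat 1, Int.negSucc 0, Int.ofNat 1, Int.ofNat 1, Int.negSucc 0, Int.negSucc 0, Int.ofNat 1, Int.ofNat 1, Int.negSucc 0, Int.negSucc 0, Int.ofNat 1, Int.ofNat 1, Int.ofNat 1, Int.ofNat 1, Int.negSucc 0, Int.ofNat 1, Int.ofNat 1, Int.negSucc 0, Int.ofNat 1, Int.ofNat 1, Int.ofNat 1, Int.negSucc 0, Int.negSucc 2],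
  [Int.negSucc 1, Int.negSucc 1, Int.ofNat 0, Int.ofNat 0, Int.ofNat 0, Int.negSucc 1, Int.negSucc 1, Int.ofNat 0, Int.ofNat 0, Int.ofNat 0, Int.ofNat 0, Int.ofNat 0, Int.ofNat 0, Int.ofNat 0, Int.ofNat 0, Int.ofNat 0, Int.ofNat 0, Int.ofNat 0, Int.negSucc 1, Int.ofNat 0, Int.ofNat 2, Int.ofNat 0, Int.negSucc 1, Int.ofNat 2],
  [Int.negSucc 1, Int.negSucc 1, Int.negSucc 1, Int.ofNat 0, Int.ofNat 0, Int.ofNat 0, Int.negSucc 1, Int.negSucc 1, Int.ofNat 0, Int.ofNat 0, Int.ofNat 0, Int.ofNat 0, Int.ofNat 0, Int.ofNat 0, Int.ofNat 0, Int.ofNat 0, Int.ofNat 0, Int.ofNat 0, Int.ofNat 0, Int.negSucc 1, Int.ofNat 0, Int.ofNat 2, Int.ofNat 0, Int.ofNat 2],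
  [Int.ofNat 0, Int.ofNat 0, Int.ofNat 0, Int.ofNat 0, Int.ofNat 0, Int.ofNat 0, Int.ofNat 0, Int.ofNat 0, Int.ofNat 0, Int.ofNat 0, Int.ofNat 0, Int.ofNat 0, Int.ofNat 0, Int.ofNat 0, Int.ofNat 0, Int.ofNat 0, Int.ofNat 0, Int.ofNat 0, Int.ofNat 0, Int.ofNat 0, Int.ofNat 0, Int.ofNat 4, Int.ofNat 0, Int.negSucc 3],
  [Int.ofNat 0, Int.ofNat 4, Int.ofNat 0, Int.ofNat 0, Int.ofNat 0, Int.ofNat 0, Int.ofNat 0, Int.ofNat 0, Int.ofNat 0, Int.ofNat 0, Int.ofNat 0, Int.ofNat 0, Int.ofNat 0, Int.ofNat 0, Int.ofNat 0, Int.ofNat 0, Int.ofNat 0, Int.ofNat 0, Int.ofNat 0, Int.ofNat 0, Int.ofNat 0, Int.ofNat 0, Int.ofNat 0, Int.negSucc 3],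
  [Int.ofNat 0, Int.negSucc 3, Int.ofNat 0, Int.ofNat 0, Int.ofNat 0, Int.ofNat 0, Int.ofNat 0, Int.ofNat 0, Int.ofNat 0, Int.ofNat 0, Int.ofNat 0, Int.ofNat 0, Int.ofNat 0, Int.ofNat 0, Int.ofNat 0, Int.ofNat 0, Int.ofNat 0, Int.ofNat 0, Int.ofNat 0, Int.ofNat 0, Int.ofNat 0, Int.ofNat 0, Int.ofNat 0, Int.ofNat 4],
  [Int.negSucc 3, Int.ofNat 0, Int.ofNat 0, Int.ofNat 0, Int.ofNat 0, Int.ofNat 0, Int.ofNat 0, Int.ofNat 0, Int.ofNat 0, Int.ofNat 0, Int.ofNat 0, Int.ofNat 0, Int.ofNat 0, Int.ofNat 0, Int.ofNat 0, Int.ofNat 0, Int.ofNat 0, Int.ofNat 0, Int.ofNat 0, Int.ofNat 0, Int.ofNat 0, Int.ofNat 0, Int.ofNat 0, Int.ofNat 4],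
  [Int.ofNat 4, Int.ofNat 0, Int.ofNat 0, Int.ofNat 0, Int.ofNat 0, Int.ofNat 0, Int.ofNat 0, Int.ofNat 0, Int.ofNat 0, Int.ofNat 0, Int.ofNat 0, Int.ofNat 0, Int.ofNat 0, Int.ofNat 0, Int.ofNat 0, Int.ofNat 0, Int.ofNat 0, Int.ofNat 0, Int.ofNat 0, Int.ofNat 0, Int.ofNat 0, Int.ofNat 0, Int.ofNat 0, Int.ofNat 4],
  [Int.negSucc 3, Int.ofNat 0, Int.ofNat 0, Int.ofNat 0, Int.ofNat 0, Int.ofNat 0, Int.ofNat 0, Int.ofNat 0, Int.ofNat 0, Int.ofNat 0, Int.ofNat 0, Int.ofNat 0, Int.ofNat 0, Int.ofNat 0, Int.ofNat 0, Int.ofNat 0, Int.ofNat 0, Int.ofNat 0, Int.ofNat 0, Int.ofNat 0, Int.ofNat 0, Int.ofNat 0, Int.ofNat 0, Int.ofNat 4],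
  [Int.ofNat 4, Int.ofNat 0, Int.ofNat 0, Int.ofNat 0, Int.ofNat 0, Int.ofNat 0, Int.ofNat 0, Int.ofNat 0, Int.ofNat 0, Int.ofNat 0, Int.ofNat 0, Int.ofNat 0, Int.ofNat 0, Int.ofNat 0, Int.ofNat 0, Int.ofNat 0, Int.ofNat 0, Int.ofNat 0, Int.ofNat 0, Int.ofNat 0, Int.ofNat 0, Int.ofNat 0, Int.ofNat 0, Int.negSucc 3],
  [Int.negSucc 3, Int.ofNat 0, Int.ofNat 0, Int.ofNat 0, Int.ofNat 0, Int.ofNat 0, Int.ofNat 0, Int.ofNat 0, Int.ofNat 0, Int.ofNat 0, Int.ofNat 0, Int.ofNat 0, Int.ofNat 0, Int.ofNat 0, Int.ofNat 0, Int.ofNat 0, Int.ofNat 0, Int.ofNat 0, Int.ofNat 0, Int.ofNat 0, Int.ofNat 0, Int.ofNat 0, Int.ofNat 0, Int.negSucc 3],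
  [Int.ofNat 0, Int.negSucc 3, Int.ofNat 0, Int.ofNat 0, Int.ofNat 0, Int.ofNat 0, Int.ofNat 0, Int.ofNat 0, Int.ofNat 0, Int.ofNat 0, Int.ofNat 0, Int.ofNat 0, Int.ofNat 0, Int.ofNat 0, Int.ofNat 0, Int.ofNat 0, Int.ofNat 0, Int.ofNat 0, Int.ofNat 0, Int.ofNat 0, Int.ofNat 0, Int.ofNat 0, Int.ofNat 0, Int.negSucc 3],
  [Int.negSucc 3, Int.ofNat 0, Int.negSucc 3, Int.ofNat 0, Int.ofNat 0, Int.ofNat 0, Int.ofNat 0, Int.ofNat 0, Int.ofNat 0, Int.ofNat 0, Int.ofNat 0, Int.ofNat 0, Int.ofNat 0, Int.ofNat 0, Int.ofNat 0, Int.ofNat 0, Int.ofNat 0, Int.ofNat 0, Int.ofNat 0, Int.ofNat 0, Int.ofNat 0, Int.ofNat 0, Int.ofNat 0, Int.ofNat 0],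
  [Int.ofNat 0, Int.ofNat 0, Int.ofNat 0, Int.ofNat 0, Int.ofNat 0, Int.ofNat 0, Int.ofNat 0, Int.ofNat 0, Int.ofNat 0, Int.ofNat 0, Int.ofNat 0, Int.ofNat 0, Int.ofNat 0, Int.ofNat 0, Int.ofNat 0, Int.ofNat 0, Int.ofNat 0, Int.ofNat 0, Int.ofNat 0, Int.ofNat 0, Int.negSucc 3, Int.ofNat 0, Int.negSucc 3, Int.ofNat 0],
  [Int.ofNat 0, Int.ofNat 0, Int.ofNat 0, Int.ofNat 0, Int.ofNat 2, Int.ofNat 0, Int.ofNat 0, Int.ofNat 0, Int.ofNat 0, Int.ofNat 2, Int.ofNat 2, Int.ofNat 0, Int.ofNat 0, Int.ofNat 2, Int.ofNat 0, Int.ofNat 2, Int.ofNat 2, Int.ofNat 0, Int.ofNat 0, Int.ofNat 0, Int.negSucc 1, Int.ofNat 0, Int.negSucc 1, Int.ofNat 0],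
  [Int.ofNat 0, Int.ofNat 0, Int.ofNat 2, Int.ofNat 0, Int.ofNat 0, Int.ofNat 0, Int.ofNat 0, Int.ofNat 2, Int.ofNat 0, Int.ofNat 2, Int.negSucc 1, Int.ofNat 0, Int.ofNat 2, Int.ofNat 2, Int.negSucc 1, Int.ofNat 2, Int.ofNat 0, Int.ofNat 0, Int.ofNat 0, Int.ofNat 0, Int.ofNat 0, Int.ofNat 0, Int.ofNat 0, Int.ofNat 0],
  [Int.ofNat 1, Int.ofNat 1, Int.negSucc 0, Int.ofNat 1, Int.negSucc 0, Int.ofNat 1, Int.negSucc 0, Int.ofNat 1, Int.negSucc 0, Int.ofNat 1, Int.negSucc 2, Int.negSucc 0, Int.ofNat 1, Int.ofNat 1, Int.negSucc 0, Int.ofNat 1, Int.negSucc 0, Int.ofNat 1, Int.negSucc 0, Int.negSucc 0, Int.negSucc 0, Int.negSucc 0, Int.negSucc 0, Int.ofNat 1],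
  [Int.ofNat 1, Int.ofNat 1, Int.ofNat 1, Int.ofNat 1, Int.negSucc 0, Int.negSucc 0, Int.ofNat 1, Int.ofNat 1, Int.negSucc 0, Int.negSucc 0, Int.ofNat 3, Int.negSucc 0, Int.ofNat 1, Int.ofNat 1, Int.negSucc 0, Int.negSucc 0, Int.negSucc 0, Int.ofNat 1, Int.ofNat 1, Int.negSucc 0, Int.negSucc 0, Int.negSucc 0, Int.ofNat 1, Int.ofNat 1],
  [Int.ofNat 3, Int.negSucc 0, Int.ofNat 1, Int.ofNat 1, Int.negSucc 0, Int.ofNat 1, Int.negSucc 0, Int.ofNat 1, Int.negSucc 0, Int.ofNat 1, Int.negSucc 0, Int.ofNat 1, Int.ofNat 1, Int.negSucc 0, Int.ofNat 1, Int.ofNat 1, Int.negSucc 0, Int.ofNat 1, Int.negSucc 0, Int.ofNat 1, Int.negSucc 0, Int.negSucc 0, Int.negSucc 0, Int.ofNat 1],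
  [Int.ofNat 3, Int.negSucc 0, Int.negSucc 0, Int.ofNat 1, Int.negSucc 0, Int.negSucc 0, Int.ofNat 1, Int.ofNat 1, Int.negSucc 0, Int.negSucc 0, Int.ofNat 1, Int.ofNat 1, Int.ofNat 1, Int.negSucc 0, Int.ofNat 1, Int.negSucc 0, Int.negSucc 0, Int.ofNat 1, Int.ofNat 1, Int.ofNat 1, Int.negSucc 0, Int.negSucc 0, Int.ofNat 1, Int.ofNat 1],
  [Int.negSucc 1, Int.ofNat 2, Int.ofNat 2, Int.ofNat 0, Int.ofNat 0, Int.negSucc 1, Int.ofNat 0, Int.ofNat 0, Int.negSucc 1, Int.ofNat 0, Int.ofNat 2, Int.ofNat 0, Int.ofNat 0, Int.ofNat 0, Int.ofNat 0, Int.ofNat 0, Int.ofNat 0, Int.ofNat 0, Int.ofNat 0, Int.ofNat 0, Int.ofNat 0, Int.negSucc 1, Int.ofNat 2, Int.ofNat 0],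
  [Int.negSucc 1, Int.ofNat 0, Int.ofNat 0, Int.ofNat 0, Int.ofNat 2, Int.negSucc 1, Int.ofNat 2, Int.negSucc 1, Int.ofNat 0, Int.ofNat 0, Int.ofNat 0, Int.ofNat 0, Int.negSucc 1, Int.ofNat 0, Int.ofNat 0, Int.ofNat 0, Int.ofNat 0, Int.ofNat 0, Int.ofNat 0, Int.ofNat 2, Int.ofNat 2, Int.ofNat 0, Int.ofNat 0, Int.ofNat 0],
  [Int.ofNat 1, Int.negSucc 0, Int.negSucc 0, Int.ofNat 1, Int.ofNat 1, Int.negSucc 0, Int.ofNat 1, Int.negSucc 2, Int.ofNat 1, Int.negSucc 0, Int.negSucc 0, Int.ofNat 1, Int.negSucc 0, Int.negSucc 0, Int.ofNat 1, Int.negSucc 0, Int.negSucc 0, Int.ofNat 1, Int.ofNat 1, Int.ofNat 1, Int.ofNat 1, Int.negSucc 0, Int.negSucc 0, Int.negSucc 0],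
  [Int.ofNat 1, Int.negSucc 0, Int.negSucc 0, Int.ofNat 1, Int.negSucc 0, Int.negSucc 0, Int.ofNat 1, Int.ofNat 1, Int.negSucc 0, Int.ofNat 1, Int.negSucc 2, Int.ofNat 1, Int.negSucc 0, Int.negSucc 0, Int.ofNat 1, Int.negSucc 0, Int.negSucc 0, Int.ofNat 1, Int.negSucc 0, Int.negSucc 0, Int.ofNat 1, Int.ofNat 1, Int.ofNat 1, Int.negSucc 0],
  [Int.negSucc 1, Int.ofNat 0, Int.ofNat 0, Int.ofNat 0, Int.ofNat 0, Int.negSucc 1, Int.ofNat 0, Int.ofNat 0, Int.ofNat 0, Int.ofNat 2, Int.negSucc 1, Int.ofNat 2, Int.ofNat 0, Int.ofNat 0, Int.ofNat 0, Int.ofNat 0, Int.ofNat 0, Int.ofNat 0, Int.ofNat 0, Int.negSucc 1, Int.ofNat 2, Int.ofNat 0, Int.ofNat 2, Int.ofNat 0],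
  [Int.ofNat 0, Int.ofNat 0, Int.ofNat 0, Int.ofNat 0, Int.negSucc 1, Int.ofNat 0, Int.ofNat 0, Int.ofNat 0, Int.ofNat 2, Int.negSucc 1, Int.ofNat 2, Int.ofNat 0, Int.ofNat 0, Int.ofNat 0, Int.ofNat 0, Int.ofNat 0, Int.ofNat 0, Int.ofNat 0, Int.negSucc 1, Int.ofNat 2, Int.ofNat 0, Int.ofNat 2, Int.negSucc 1, Int.ofNat 0],
  [Int.ofNat 0, Int.ofNat 0, Int.ofNat 0, Int.ofNat 0, Int.negSucc 1, Int.ofNat 0, Int.ofNat 0, Int.ofNat 0, Int.ofNat 2, Int.ofNat 2, Int.negSucc 1, Int.ofNat 0, Int.ofNat 0, Int.ofNat 0, Int.ofNat 0, Int.ofNat 0, Int.ofNat 0, Int.ofNat 0, Int.ofNat 2, Int.ofNat 2, Int.ofNat 0, Int.negSucc 1, Int.negSucc 1, Int.ofNat 0],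
  [Int.ofNat 0, Int.ofNat 0, Int.ofNat 0, Int.ofNat 0, Int.ofNat 2, Int.ofNat 0, Int.ofNat 0, Int.ofNat 0, Int.negSucc 1, Int.negSucc 1, Int.negSucc 1, Int.ofNat 0, Int.ofNat 0, Int.ofNat 0, Int.ofNat 0, Int.ofNat 0, Int.ofNat 0, Int.ofNat 0, Int.negSucc 1, Int.ofNat 2, Int.ofNat 0, Int.negSucc 1, Int.negSucc 1, Int.ofNat 0],
  [Int.ofNat 0, Int.negSucc 1, Int.ofNat 0, Int.ofNat 0, Int.ofNat 0, Int.negSucc 1, Int.ofNat 2, Int.ofNat 0, Int.ofNat 0, Int.ofNat 0, Int.ofNat 0, Int.ofNat 0, Int.negSucc 1, Int.ofNat 0, Int.negSucc 1, Int.ofNat 0, Int.negSucc 1, Int.ofNat 2, Int.ofNat 0, Int.ofNat 0, Int.negSucc 1, Int.ofNat 0, Int.ofNat 0, Int.ofNat 0],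
  [Int.ofNat 0, Int.negSucc 1, Int.ofNat 0, Int.ofNat 0, Int.ofNat 0, Int.negSucc 1, Int.ofNat 2, Int.ofNat 0, Int.ofNat 0, Int.ofNat 0, Int.ofNat 0, Int.ofNat 0, Int.negSucc 1, Int.ofNat 0, Int.negSucc 1, Int.ofNat 0, Int.negSucc 1, Int.ofNat 2, Int.ofNat 0, Int.ofNat 0, Int.negSucc 1, Int.ofNat 0, Int.ofNat 0, Int.ofNat 0],
  [Int.ofNat 0, Int.ofNat 0, Int.negSucc 1, Int.ofNat 0, Int.ofNat 0, Int.ofNat 0, Int.negSucc 1, Int.ofNat 2, Int.ofNat 0, Int.ofNat 0, Int.ofNat 0, Int.ofNat 0, Int.ofNat 0, Int.negSucc 1, Int.ofNat 0, Int.negSucc 1, Int.ofNat 0, Int.negSucc 1, Int.ofNat 2, Int.ofNat 0, Int.ofNat 0, Int.negSucc 1, Int.ofNat 0, Int.ofNat 0],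
  [Int.negSucc 0, Int.negSucc 0, Int.ofNat 1, Int.ofNat 1, Int.ofNat 1, Int.ofNat 1, Int.negSucc 0, Int.ofNat 3, Int.negSucc 0, Int.ofNat 1, Int.ofNat 1, Int.negSucc 0, Int.negSucc 0, Int.negSucc 0, Int.ofNat 1, Int.negSucc 0, Int.ofNat 1, Int.negSucc 0, Int.ofNat 1, Int.ofNat 1, Int.ofNat 1, Int.negSucc 0, Int.ofNat 1, Int.negSucc 0],
  [Int.ofNat 1, Int.ofNat 1, Int.ofNat 1, Int.negSucc 0, Int.ofNat 3, Int.negSucc 0, Int.ofNat 1, Int.ofNat 1, Int.negSucc 0, Int.negSucc 0, Int.negSucc 0, Int.ofNat 1, Int.negSucc 0, Int.ofNat 1, Int.negSucc 0, Int.ofNat 1, Int.ofNat 1, Int.ofNat 1, Int.negSucc 0, Int.ofNat 1, Int.negSucc 0, Int.negSucc 0, Int.ofNat 1, Int.negSucc 0],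
  [Int.ofNat 0, Int.ofNat 0, Int.ofNat 0, Int.ofNat 0, Int.ofNat 0, Int.ofNat 0, Int.ofNat 0, Int.ofNat 0, Int.ofNat 0, Int.ofNat 0, Int.ofNat 0, Int.ofNat 2, Int.ofNat 0, Int.negSucc 1, Int.ofNat 0, Int.ofNat 2, Int.negSucc 1, Int.ofNat 2, Int.ofNat 0, Int.ofNat 0, Int.ofNat 0, Int.negSucc 1, Int.negSucc 1, Int.ofNat 2],
  [Int.ofNat 0, Int.ofNat 0, Int.ofNat 0, Int.ofNat 0, Int.ofNat 0, Int.ofNat 0, Int.ofNat 0, Int.ofNat 0, Int.ofNat 0, Int.negSucc 1, Int.ofNat 0, Int.ofNat 2, Int.ofNat 0, Int.negSucc 1, Int.negSucc 1, Int.ofNat 2, Int.ofNat 0, Int.ofNat 0, Int.ofNat 0, Int.ofNat 2, Int.negSucc 1, Int.ofNat 0, Int.ofNat 0, Int.ofNat 2],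
  [Int.ofNat 1, Int.ofNat 1, Int.ofNat 1, Int.ofNat 1, Int.ofNat 1, Int.ofNat 1, Int.negSucc 0, Int.negSucc 0, Int.negSucc 0, Int.negSucc 0, Int.ofNat 1, Int.ofNat 1, Int.negSucc 0, Int.negSucc 0, Int.negSucc 0, Int.ofNat 3, Int.ofNat 1, Int.ofNat 1, Int.negSucc 0, Int.ofNat 1, Int.negSucc 0, Int.negSucc 0, Int.ofNat 1, Int.negSucc 0],
  [Int.ofNat 1, Int.ofNat 1, Int.negSucc 0, Int.ofNat 1, Int.ofNat 1, Int.negSucc 0, Int.ofNat 1, Int.negSucc 0, Int.negSucc 0, Int.ofNat 1, Int.negSucc 0, Int.ofNat 1, Int.negSucc 0, Int.negSucc 0, Int.negSucc 0, Int.negSucc 2, Int.ofNat 1, Int.ofNat 1, Int.ofNat 1, Int.ofNat 1, Int.negSucc 0, Int.negSucc 0, Int.negSucc 0, Int.negSucc 0],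
  [Int.negSucc 0, Int.ofNat 1, Int.negSucc 0, Int.negSucc 0, Int.ofNat 1, Int.negSucc 0, Int.negSucc 0, Int.ofNat 1, Int.negSucc 0, Int.ofNat 1, Int.negSucc 0, Int.ofNat 1, Int.ofNat 1, Int.ofNat 1, Int.ofNat 1, Int.ofNat 1, Int.negSucc 0, Int.negSucc 0, Int.ofNat 1, Int.negSucc 0, Int.negSucc 2, Int.negSucc 0, Int.ofNat 1, Int.negSucc 0],
  [Int.negSucc 0, Int.ofNat 1, Int.ofNat 1, Int.negSucc 0, Int.ofNat 1, Int.ofNat 1, Int.ofNat 1, Int.ofNat 1, Int.negSucc 0, Int.negSucc 0, Int.ofNat 1, Int.ofNat 1, Int.ofNat 1, Int.ofNat 1, Int.ofNat 1, Int.negSucc 0, Int.negSucc 0, Int.negSucc 0, Int.negSucc 0, Int.negSucc 0, Int.negSucc 2, Int.negSucc 0, Int.negSucc 0, Int.negSucc 0],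
  [Int.ofNat 1, Int.negSucc 0, Int.negSucc 0, Int.negSucc 0, Int.ofNat 1, Int.ofNat 1, Int.ofNat 1, Int.ofNat 1, Int.negSucc 0, Int.ofNat 1, Int.ofNat 3, Int.ofNat 1, Int.ofNat 1, Int.ofNat 1, Int.ofNat 1, Int.ofNat 1, Int.negSucc 0, Int.negSucc 0, Int.negSucc 0, Int.negSucc 0, Int.negSucc 0, Int.negSucc 0, Int.negSucc 0, Int.ofNat 1],
  [Int.ofNat 1, Int.negSucc 0, Int.ofNat 1, Int.negSucc 0, Int.negSucc 0, Int.negSucc 0, Int.negSucc 0, Int.ofNat 1, Int.negSucc 0, Int.ofNat 1, Int.ofNat 1, Int.negSucc 0, Int.negSucc 0, Int.ofNat 1, Int.negSucc 0, Int.ofNat 1, Int.ofNat 1, Int.ofNat 1, Int.ofNat 1, Int.negSucc 0, Int.ofNat 3, Int.negSucc 0, Int.ofNat 1, Int.ofNat 1],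
  [Int.ofNat 0, Int.ofNat 2, Int.ofNat 0, Int.ofNat 0, Int.negSucc 1, Int.ofNat 0, Int.ofNat 0, Int.ofNat 2, Int.ofNat 0, Int.negSucc 1, Int.negSucc 1, Int.ofNat 0, Int.ofNat 0, Int.ofNat 0, Int.ofNat 0, Int.negSucc 1, Int.ofNat 0, Int.ofNat 2, Int.ofNat 2, Int.ofNat 0, Int.ofNat 0, Int.ofNat 0, Int.ofNat 0, Int.ofNat 0],
  [Int.ofNat 0, Int.ofNat 0, Int.ofNat 0, Int.ofNat 0, Int.ofNat 2, Int.ofNat 0, Int.ofNat 0, Int.negSucc 1, Int.ofNat 0, Int.ofNat 0, Int.ofNat 2, Int.ofNat 0, Int.negSucc 1, Int.negSucc 1, Int.ofNat 0, Int.ofNat 0, Int.ofNat 0, Int.ofNat 0, Int.negSucc 1, Int.ofNat 0, Int.ofNat 2, Int.ofNat 2, Int.ofNat 0, Int.ofNat 0],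
  [Int.ofNat 0, Int.ofNat 0, Int.ofNat 0, Int.ofNat 0, Int.ofNat 2, Int.ofNat 0, Int.ofNat 0, Int.negSucc 1, Int.ofNat 2, Int.negSucc 1, Int.ofNat 0, Int.ofNat 2, Int.ofNat 0, Int.negSucc 1, Int.ofNat 0, Int.negSucc 1, Int.ofNat 0, Int.ofNat 0, Int.ofNat 0, Int.ofNat 0, Int.ofNat 0, Int.ofNat 2, Int.ofNat 0, Int.ofNat 0],
  [Int.ofNat 0, Int.ofNat 0, Int.ofNat 0, Int.ofNat 2, Int.ofNat 0, Int.ofNat 0, Int.negSucc 1, Int.ofNat 2, Int.negSucc 1, Int.ofNat 0, Int.ofNat 2, Int.ofNat 0, Int.negSucc 1, Int.ofNat 0, Int.negSucc 1, Int.ofNat 0, Int.ofNat 0, Int.ofNat 0, Int.ofNat 0, Int.ofNat 0, Int.ofNat 2, Int.ofNat 0, Int.ofNat 0, Int.ofNat 0],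
  [Int.ofNat 0, Int.ofNat 0, Int.ofNat 0, Int.ofNat 2, Int.ofNat 0, Int.ofNat 0, Int.negSucc 1, Int.negSucc 1, Int.negSucc 1, Int.ofNat 0, Int.negSucc 1, Int.ofNat 0, Int.negSucc 1, Int.ofNat 0, Int.negSucc 1, Int.ofNat 0, Int.ofNat 0, Int.ofNat 0, Int.ofNat 0, Int.ofNat 0, Int.ofNat 2, Int.ofNat 0, Int.ofNat 0, Int.ofNat 0]]

set_option maxRecDepth 100000 in
theorem c1e17_chk : pmChk (List.replicate 14 [17, 0, 25]).flatten nxL c1e17M 0 0 = true := by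
  decide +kernel

theorem c1e17_ne : wE letE2 (List.replicate 14 [17, 0, 25]).flatten ≠ 1 ∧ wE letE2 (List.replicate 14 [17, 0, 25]).flatten ≠ negElt :=
  ne_pm_of_chk nxL_mem c1e17_chk

set_option maxRecDepth 100000 in
def c1e18M : List (List ℤ) :=
  [[Int.ofNat 4, Int.ofNat 0, Int.ofNat 0, Int.ofNat 0, Int.ofNat 0, Int.ofNat 0, Int.ofNat 0, Int.ofNat 0, Int.ofNat 0, Int.ofNat 0, Int.ofNat 0, Int.ofNat 0, Int.ofNat 0, Int.ofNat 0, Int.ofNat 0, Int.ofNat 0, Int.ofNat 0, Int.ofNat 0, Int.ofNat 0, Int.ofNat 0, Int.ofNat 0, Int.ofNat 0, Int.ofNat 0, Int.ofNat 4],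
  [Int.ofNat 4, Int.ofNat 0, Int.ofNat 0, Int.ofNat 0, Int.ofNat 0, Int.ofNat 0, Int.ofNat 0, Int.ofNat 0, Int.ofNat 0, Int.ofNat 0, Int.ofNat 0, Int.ofNat 0, Int.ofNat 0, Int.ofNat 0, Int.ofNat 0, Int.ofNat 0, Int.ofNat 0, Int.ofNat 0, Int.ofNat 0, Int.ofNat 0, Int.ofNat 0, Int.ofNat 0, Int.ofNat 0, Int.ofNat 4],
  [Int.negSucc 3, Int.ofNat 0, Int.ofNat 0, Int.ofNat 0, Int.ofNat 0, Int.ofNat 0, Int.ofNat 0, Int.ofNat 0, Int.ofNat 0, Int.ofNat 0, Int.ofNat 0, Int.ofNat 0, Int.ofNat 0, Int.ofNat 0, Int.ofNat 0, Int.ofNat 0, Int.ofNat 0, Int.ofNat 0, Int.ofNat 0, Int.ofNat 0, Int.ofNat 0, Int.ofNat 0, Int.ofNat 0, Int.ofNat 4],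
  [Int.ofNat 0, Int.negSucc 3, Int.ofNat 0, Int.ofNat 0, Int.ofNat 0, Int.ofNat 0, Int.ofNat 0, Int.ofNat 0, Int.ofNat 0, Int.ofNat 0, Int.ofNat 0, Int.ofNat 0, Int.ofNat 0, Int.ofNat 0, Int.ofNat 0, Int.ofNat 0, Int.ofNat 0, Int.ofNat 0, Int.ofNat 0, Int.ofNat 0, Int.ofNat 0, Int.ofNat 0, Int.ofNat 0, Int.ofNat 4],
  [Int.ofNat 0, Int.ofNat 4, Int.ofNat 0, Int.ofNat 0, Int.ofNat 0, Int.ofNat 0, Int.ofNat 0, Int.ofNat 0, Int.ofNat 0, Int.ofNat 0, Int.ofNat 0, Int.ofNat 0, Int.ofNat 0, Int.ofNat 0, Int.ofNat 0, Int.ofNat 0, Int.ofNat 0, Int.ofNat 0, Int.ofNat 0, Int.ofNat 0, Int.ofNat 0, Int.ofNat 0, Int.ofNat 0, Int.negSucc 3],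
  [Int.ofNat 0, Int.ofNat 0, Int.ofNat 0, Int.ofNat 0, Int.ofNat 0, Int.ofNat 0, Int.ofNat 0, Int.ofNat 0, Int.ofNat 0, Int.ofNat 0, Int.ofNat 0, Int.ofNat 0, Int.ofNat 0, Int.ofNat 0, Int.ofNat 0, Int.ofNat 0, Int.ofNat 0, Int.ofNat 0, Int.ofNat 0, Int.ofNat 0, Int.ofNat 0, Int.ofNat 4, Int.ofNat 0, Int.negSucc 3],
  [Int.negSucc 1, Int.negSucc 1, Int.negSucc 1, Int.ofNat 0, Int.ofNat 0, Int.ofNat 0, Int.negSucc 1, Int.negSucc 1, Int.ofNat 0, Int.ofNat 0, Int.ofNat 0, Int.ofNat 0, Int.ofNat 0, Int.ofNat 0, Int.ofNat 0, Int.ofNat 0, Int.ofNat 0, Int.ofNat 0, Int.ofNat 0, Int.negSucc 1, Int.ofNat 0, Int.ofNat 2, Int.ofNat 0, Int.ofNat 2],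
  [Int.negSucc 1, Int.negSucc 1, Int.ofNat 0, Int.ofNat 0, Int.ofNat 0, Int.negSucc 1, Int.negSucc 1, Int.ofNat 0, Int.ofNat 0, Int.ofNat 0, Int.ofNat 0, Int.ofNat 0, Int.ofNat 0, Int.ofNat 0, Int.ofNat 0, Int.ofNat 0, Int.ofNat 0, Int.ofNat 0, Int.negSucc 1, Int.ofNat 0, Int.ofNat 2, Int.ofNat 0, Int.negSucc 1, Int.ofNat 2],
  [Int.ofNat 1, Int.ofNat 1, Int.negSucc 0, Int.ofNat 1, Int.ofNat 1, Int.negSucc 0, Int.negSucc 0, Int.ofNat 1, Int.ofNat 1, Int.negSucc 0, Int.negSucc 0, Int.ofNat 1, Int.ofNat 1, Int.ofNat 1, Int.ofNat 1, Int.negSucc 0, Int.ofNat 1, Int.ofNat 1, Int.negSucc 0, Int.ofNat 1, Int.ofNat 1, Int.ofNat 1, Int.negSucc 0, Int.negSucc 2],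
  [Int.ofNat 1, Int.ofNat 1, Int.ofNat 1, Int.ofNat 1, Int.ofNat 1, Int.ofNat 1, Int.ofNat 1, Int.ofNat 1, Int.ofNat 1, Int.ofNat 1, Int.ofNat 1, Int.ofNat 1, Int.ofNat 1, Int.ofNat 1, Int.ofNat 1, Int.ofNat 1, Int.ofNat 1, Int.ofNat 1, Int.ofNat 1, Int.ofNat 1, Int.ofNat 1, Int.ofNat 1, Int.ofNat 1, Int.negSucc 2],
  [Int.ofNat 1, Int.ofNat 1, Int.ofNat 1, Int.ofNat 1, Int.ofNat 1, Int.ofNat 1, Int.ofNat 1, Int.ofNat 1, Int.ofNat 1, Int.ofNat 1, Int.ofNat 1, Int.ofNat 1, Int.ofNat 1, Int.ofNat 1, Int.ofNat 1, Int.ofNat 1, Int.ofNat 1, Int.ofNat 1, Int.ofNat 1, Int.ofNat 1, Int.ofNat 1, Int.ofNat 1, Int.ofNat 1, Int.negSucc 2],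
  [Int.ofNat 1, Int.ofNat 1, Int.negSucc 0, Int.ofNat 1, Int.ofNat 1, Int.negSucc 0, Int.negSucc 0, Int.ofNat 1, Int.ofNat 1, Int.negSucc 0, Int.negSucc 0, Int.ofNat 1, Int.ofNat 1, Int.ofNat 1, Int.ofNat 1, Int.negSucc 0, Int.ofNat 1, Int.ofNat 1, Int.negSucc 0, Int.ofNat 1, Int.ofNat 1, Int.ofNat 1, Int.negSucc 0, Int.negSucc 2],
  [Int.negSucc 1, Int.negSucc 1, Int.ofNat 0, Int.ofNat 0, Int.ofNat 0, Int.negSucc 1, Int.negSucc 1, Int.ofNat 0, Int.ofNat 0, Int.ofNat 0, Int.ofNat 0, Int.ofNat 0, Int.ofNat 0, Int.ofNat 0, Int.ofNat 0, Int.ofNat 0, Int.ofNat 0, Int.ofNat 0, Int.negSucc 1, Int.ofNat 0, Int.ofNat 2, Int.ofNat 0, Int.negSucc 1, Int.ofNat 2],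
  [Int.negSucc 1, Int.negSucc 1, Int.negSucc 1, Int.ofNat 0, Int.ofNat 0, Int.ofNat 0, Int.negSucc 1, Int.negSucc 1, Int.ofNat 0, Int.ofNat 0, Int.ofNat 0, Int.ofNat 0, Int.ofNat 0, Int.ofNat 0, Int.ofNat 0, Int.ofNat 0, Int.ofNat 0, Int.ofNat 0, Int.ofNat 0, Int.negSucc 1, Int.ofNat 0, Int.ofNat 2, Int.ofNat 0, Int.ofNat 2],
  [Int.ofNat 0, Int.ofNat 0, Int.ofNat 0, Int.ofNat 0, Int.ofNat 0, Int.ofNat 0, Int.ofNat 0, Int.ofNat 0, Int.ofNat 0, Int.ofNat 0, Int.ofNat 0, Int.ofNat 0, Int.ofNat 0, Int.ofNat 0, Int.ofNat 0, Int.ofNat 0, Int.ofNat 0, Int.ofNat 0, Int.ofNat 0, Int.ofNat 0, Int.ofNat 0, Int.ofNat 4, Int.ofNat 0, Int.negSucc 3],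
  [Int.ofNat 0, Int.ofNat 4, Int.ofNat 0, Int.ofNat 0, Int.ofNat 0, Int.ofNat 0, Int.ofNat 0, Int.ofNat 0, Int.ofNat 0, Int.ofNat 0, Int.ofNat 0, Int.ofNat 0, Int.ofNat 0, Int.ofNat 0, Int.ofNat 0, Int.ofNat 0, Int.ofNat 0, Int.ofNat 0, Int.ofNat 0, Int.ofNat 0, Int.ofNat 0, Int.ofNat 0, Int.ofNat 0, Int.negSucc 3],
  [Int.ofNat 0, Int.negSucc 3, Int.ofNat 0, Int.ofNat 0, Int.ofNat 0, Int.ofNat 0, Int.ofNat 0, Int.ofNat 0, Int.ofNat 0, Int.ofNat 0, Int.ofNat 0, Int.ofNat 0, Int.ofNat 0, Int.ofNat 0, Int.ofNat 0, Int.ofNat 0, Int.ofNat 0, Int.ofNat 0, Int.ofNat 0, Int.ofNat 0, Int.ofNat 0, Int.ofNat 0, Int.ofNat 0, Int.ofNat 4],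
  [Int.negSucc 3, Int.ofNat 0, Int.ofNat 0, Int.ofNat 0, Int.ofNat 0, Int.ofNat 0, Int.ofNat 0, Int.ofNat 0, Int.ofNat 0, Int.ofNat 0, Int.ofNat 0, Int.ofNat 0, Int.ofNat 0, Int.ofNat 0, Int.ofNat 0, Int.ofNat 0, Int.ofNat 0, Int.ofNat 0, Int.ofNat 0, Int.ofNat 0, Int.ofNat 0, Int.ofNat 0, Int.ofNat 0, Int.ofNat 4],
  [Int.ofNat 4, Int.ofNat 0, Int.ofNat 0, Int.ofNat 0, Int.ofNat 0, Int.ofNat 0, Int.ofNat 0, Int.ofNat 0, Int.ofNat 0, Int.ofNat 0, Int.ofNat 0, Int.ofNat 0, Int.ofNat 0, Int.ofNat 0, Int.ofNat 0, Int.ofNat 0, Int.ofNat 0, Int.ofNat 0, Int.ofNat 0, Int.ofNat 0, Int.ofNat 0, Int.ofNat 0, Int.ofNat 0, Int.ofNat 4],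
  [Int.negSucc 3, Int.ofNat 0, Int.ofNat 0, Int.ofNat 0, Int.ofNat 0, Int.ofNat 0, Int.ofNat 0, Int.ofNat 0, Int.ofNat 0, Int.ofNat 0, Int.ofNat 0, Int.ofNat 0, Int.ofNat 0, Int.ofNat 0, Int.ofNat 0, Int.ofNat 0, Int.ofNat 0, Int.ofNat 0, Int.ofNat 0, Int.ofNat 0, Int.ofNat 0, Int.ofNat 0, Int.ofNat 0, Int.ofNat 4],
  [Int.ofNat 4, Int.ofNat 0, Int.ofNat 0, Int.ofNat 0, Int.ofNat 0, Int.ofNat 0, Int.ofNat 0, Int.ofNat 0, Int.ofNat 0, Int.ofNat 0, Int.ofNat 0, Int.ofNat 0, Int.ofNat 0, Int.ofNat 0, Int.ofNat 0, Int.ofNat 0, Int.ofNat 0, Int.ofNat 0, Int.ofNat 0, Int.ofNat 0, Int.ofNat 0, Int.ofNat 0, Int.ofNat 0, Int.negSucc 3],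
  [Int.negSucc 3, Int.ofNat 0, Int.ofNat 0, Int.ofNat 0, Int.ofNat 0, Int.ofNat 0, Int.ofNat 0, Int.ofNat 0, Int.ofNat 0, Int.ofNat 0, Int.ofNat 0, Int.ofNat 0, Int.ofNat 0, Int.ofNat 0, Int.ofNat 0, Int.ofNat 0, Int.ofNat 0, Int.ofNat 0, Int.ofNat 0, Int.ofNat 0, Int.ofNat 0, Int.ofNat 0, Int.ofNat 0, Int.negSucc 3],
  [Int.ofNat 0, Int.negSucc 3, Int.ofNat 0, Int.ofNat 0, Int.ofNat 0, Int.ofNat 0, Int.ofNat 0, Int.ofNat 0, Int.ofNat 0, Int.ofNat 0, Int.ofNat 0, Int.ofNat 0, Int.ofNat 0, Int.ofNat 0, Int.ofNat 0, Int.ofNat 0, Int.ofNat 0, Int.ofNat 0, Int.ofNat 0, Int.ofNat 0, Int.ofNat 0, Int.ofNat 0, Int.ofNat 0, Int.negSucc 3],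
  [Int.negSucc 3, Int.ofNat 0, Int.negSucc 3, Int.ofNat 0, Int.ofNat 0, Int.ofNat 0, Int.ofNat 0, Int.ofNat 0, Int.ofNat 0, Int.ofNat 0, Int.ofNat 0, Int.ofNat 0, Int.ofNat 0, Int.ofNat 0, Int.ofNat 0, Int.ofNat 0, Int.ofNat 0, Int.ofNat 0, Int.ofNat 0, Int.ofNat 0, Int.ofNat 0, Int.ofNat 0, Int.ofNat 0, Int.ofNat 0],
  [Int.ofNat 0, Int.ofNat 0, Int.ofNat 0, Int.ofNat 0, Int.ofNat 0, Int.ofNat 0, Int.ofNat 0, Int.ofNat 0, Int.ofNat 0, Int.ofNat 0, Int.ofNat 0, Int.ofNat 0, Int.ofNat 0, Int.ofNat 0, Int.ofNat 0, Int.ofNat 0, Int.ofNat 0, Int.ofNat 0, Int.ofNat 0, Int.ofNat 0, Int.negSucc 3, Int.ofNat 0, Int.negSucc 3, Int.ofNat 0],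
  [Int.ofNat 0, Int.ofNat 0, Int.ofNat 0, Int.ofNat 0, Int.ofNat 2, Int.ofNat 0, Int.ofNat 0, Int.ofNat 0, Int.ofNat 0, Int.ofNat 2, Int.ofNat 2, Int.ofNat 0, Int.ofNat 0, Int.ofNat 2, Int.ofNat 0, Int.ofNat 2, Int.ofNat 2, Int.ofNat 0, Int.ofNat 0, Int.ofNat 0, Int.negSucc 1, Int.ofNat 0, Int.negSucc 1, Int.ofNat 0],
  [Int.ofNat 0, Int.ofNat 0, Int.ofNat 2, Int.ofNat 0, Int.ofNat 0, Int.ofNat 0, Int.ofNat 0, Int.ofNat 2, Int.ofNat 0, Int.ofNat 2, Int.negSucc 1, Int.ofNat 0, Int.ofNat 2, Int.ofNat 2, Int.negSucc 1, Int.ofNat 2, Int.ofNat 0, Int.ofNat 0, Int.ofNat 0, Int.ofNat 0, Int.ofNat 0, Int.ofNat 0, Int.ofNat 0, Int.ofNat 0],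
  [Int.ofNat 1, Int.ofNat 1, Int.negSucc 0, Int.ofNat 1, Int.negSucc 0, Int.ofNat 1, Int.negSucc 0, Int.ofNat 1, Int.negSucc 0, Int.ofNat 1, Int.negSucc 2, Int.negSucc 0, Int.ofNat 1, Int.ofNat 1, Int.negSucc 0, Int.ofNat 1, Int.negSucc 0, Int.ofNat 1, Int.negSucc 0, Int.negSucc 0, Int.negSucc 0, Int.negSucc 0, Int.negSucc 0, Int.ofNat 1],
  [Int.ofNat 1, Int.ofNat 1, Int.ofNat 1, Int.ofNat 1, Int.negSucc 0, Int.negSucc 0, Int.ofNat 1, Int.ofNat 1, Int.negSucc 0, Int.negSucc 0, Int.ofNat 3, Int.negSucc 0, Int.ofNat 1, Int.ofNat 1, Int.negSucc 0, Int.negSucc 0, Int.negSucc 0, Int.ofNat 1, Int.ofNat 1, Int.negSucc 0, Int.negSucc 0, Int.negSucc 0, Int.ofNat 1, Int.ofNat 1],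
  [Int.ofNat 1, Int.negSucc 0, Int.ofNat 1, Int.ofNat 1, Int.negSucc 0, Int.ofNat 1, Int.ofNat 1, Int.negSucc 0, Int.ofNat 1, Int.negSucc 0, Int.ofNat 1, Int.negSucc 0, Int.negSucc 0, Int.negSucc 0, Int.negSucc 0, Int.negSucc 0, Int.ofNat 1, Int.ofNat 1, Int.negSucc 0, Int.ofNat 1, Int.ofNat 3, Int.ofNat 1, Int.negSucc 0, Int.ofNat 1],
  [Int.ofNat 1, Int.negSucc 0, Int.negSucc 0, Int.ofNat 1, Int.negSucc 0, Int.negSucc 0, Int.negSucc 0, Int.negSucc 0, Int.ofNat 1, Int.ofNat 1, Int.negSucc 0, Int.negSucc 0, Int.negSucc 0, Int.negSucc 0, Int.negSucc 0, Int.ofNat 1, Int.ofNat 1, Int.ofNat 1, Int.ofNat 1, Int.ofNat 1, Int.ofNat 3, Int.ofNat 1, Int.ofNat 1, Int.ofNat 1],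
  [Int.negSucc 0, Int.ofNat 1, Int.ofNat 1, Int.ofNat 1, Int.negSucc 0, Int.negSucc 0, Int.negSucc 0, Int.negSucc 0, Int.ofNat 1, Int.negSucc 0, Int.negSucc 2, Int.negSucc 0, Int.negSucc 0, Int.negSucc 0, Int.negSucc 0, Int.negSucc 0, Int.ofNat 1, Int.ofNat 1, Int.ofNat 1, Int.ofNat 1, Int.ofNat 1, Int.ofNat 1, Int.ofNat 1, Int.negSucc 0],
  [Int.negSucc 0, Int.ofNat 1, Int.negSucc 0, Int.ofNat 1, Int.ofNat 1, Int.ofNat 1, Int.ofNat 1, Int.negSucc 0, Int.ofNat 1, Int.negSucc 0, Int.negSucc 0, Int.ofNat 1, Int.ofNat 1, Int.negSucc 0, Int.ofNat 1, Int.negSucc 0, Int.negSucc 0, Int.negSucc 0, Int.negSucc 0, Int.ofNat 1, Int.negSucc 2, Int.ofNat 1, Int.negSucc 0, Int.negSucc 0],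
  [Int.ofNat 0, Int.negSucc 1, Int.ofNat 0, Int.ofNat 0, Int.ofNat 2, Int.ofNat 0, Int.ofNat 0, Int.negSucc 1, Int.ofNat 0, Int.ofNat 2, Int.ofNat 2, Int.ofNat 0, Int.ofNat 0, Int.ofNat 0, Int.ofNat 0, Int.ofNat 2, Int.ofNat 0, Int.negSucc 1, Int.negSucc 1, Int.ofNat 0, Int.ofNat 0, Int.ofNat 0, Int.ofNat 0, Int.ofNat 0],
  [Int.ofNat 0, Int.ofNat 0, Int.ofNat 0, Int.ofNat 0, Int.negSucc 1, Int.ofNat 0, Int.ofNat 0, Int.ofNat 2, Int.ofNat 0, Int.ofNat 0, Int.negSucc 1, Int.ofNat 0, Int.ofNat 2, Int.ofNat 2, Int.ofNat 0, Int.ofNat 0, Int.ofNat 0, Int.ofNat 0, Int.ofNat 2, Int.ofNat 0, Int.negSucc 1, Int.negSucc 1, Int.ofNat 0, Int.ofNat 0],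
  [Int.ofNat 0, Int.ofNat 0, Int.ofNat 0, Int.ofNat 0, Int.negSucc 1, Int.ofNat 0, Int.ofNat 0, Int.ofNat 2, Int.negSucc 1, Int.ofNat 2, Int.ofNat 0, Int.negSucc 1, Int.ofNat 0, Int.ofNat 2, Int.ofNat 0, Int.ofNat 2, Int.ofNat 0, Int.ofNat 0, Int.ofNat 0, Int.ofNat 0, Int.ofNat 0, Int.negSucc 1, Int.ofNat 0, Int.ofNat 0],
  [Int.ofNat 0, Int.ofNat 0, Int.ofNat 0, Int.negSucc 1, Int.ofNat 0, Int.ofNat 0, Int.ofNat 2, Int.negSucc 1, Int.ofNat 2, Int.ofNat 0, Int.negSucc 1, Int.ofNat 0, Int.ofNat 2, Int.ofNat 0, Int.ofNat 2, Int.ofNat 0, Int.ofNat 0, Int.ofNat 0, Int.ofNat 0, Int.ofNat 0, Int.negSucc 1, Int.ofNat 0, Int.ofNat 0, Int.ofNat 0],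
  [Int.ofNat 0, Int.ofNat 0, Int.ofNat 0, Int.negSucc 1, Int.ofNat 0, Int.ofNat 0, Int.ofNat 2, Int.ofNat 2, Int.ofNat 2, Int.ofNat 0, Int.ofNat 2, Int.ofNat 0, Int.ofNat 2, Int.ofNat 0, Int.ofNat 2, Int.ofNat 0, Int.ofNat 0, Int.ofNat 0, Int.ofNat 0, Int.ofNat 0, Int.negSucc 1, Int.ofNat 0, Int.ofNat 0, Int.ofNat 0],
  [Int.ofNat 0, Int.ofNat 0, Int.ofNat 0, Int.ofNat 2, Int.ofNat 0, Int.ofNat 0, Int.negSucc 1, Int.ofNat 2, Int.negSucc 1, Int.ofNat 0, Int.ofNat 2, Int.ofNat 0, Int.negSucc 1, Int.ofNat 0, Int.ofNat 2, Int.ofNat 0, Int.ofNat 0, Int.ofNat 0, Int.ofNat 0, Int.ofNat 0, Int.negSucc 1, Int.ofNat 0, Int.ofNat 0, Int.ofNat 0],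
  [Int.ofNat 0, Int.ofNat 0, Int.ofNat 0, Int.ofNat 0, Int.ofNat 0, Int.ofNat 0, Int.ofNat 0, Int.ofNat 0, Int.negSucc 1, Int.ofNat 0, Int.ofNat 0, Int.ofNat 0, Int.ofNat 0, Int.ofNat 2, Int.ofNat 0, Int.ofNat 2, Int.ofNat 2, Int.ofNat 0, Int.ofNat 2, Int.negSucc 1, Int.negSucc 1, Int.negSucc 1, Int.ofNat 0, Int.ofNat 0],
  [Int.ofNat 0, Int.ofNat 0, Int.ofNat 0, Int.ofNat 0, Int.ofNat 0, Int.ofNat 0, Int.ofNat 0, Int.ofNat 0, Int.negSucc 1, Int.ofNat 0, Int.ofNat 0, Int.ofNat 0, Int.ofNat 0, Int.ofNat 2, Int.ofNat 0, Int.ofNat 2, Int.ofNat 2, Int.ofNat 0, Int.negSucc 1, Int.negSucc 1, Int.negSucc 1, Int.ofNat 2, Int.ofNat 0, Int.ofNat 0],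
  [Int.ofNat 0, Int.ofNat 0, Int.ofNat 0, Int.ofNat 0, Int.ofNat 0, Int.ofNat 0, Int.ofNat 0, Int.ofNat 0, Int.ofNat 0, Int.negSucc 1, Int.ofNat 0, Int.ofNat 0, Int.ofNat 0, Int.ofNat 0, Int.ofNat 2, Int.ofNat 0, Int.ofNat 2, Int.ofNat 2, Int.ofNat 0, Int.negSucc 1, Int.negSucc 1, Int.negSucc 1, Int.ofNat 2, Int.ofNat 0],
  [Int.ofNat 0, Int.ofNat 0, Int.ofNat 0, Int.negSucc 1, Int.negSucc 1, Int.negSucc 1, Int.ofNat 2, Int.ofNat 2, Int.ofNat 0, Int.ofNat 0, Int.ofNat 2, Int.ofNat 0, Int.ofNat 0, Int.negSucc 1, Int.ofNat 0, Int.ofNat 2, Int.ofNat 0, Int.ofNat 0, Int.ofNat 0, Int.ofNat 0, Int.ofNat 0, Int.ofNat 0, Int.ofNat 0, Int.ofNat 0],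
  [Int.negSucc 1, Int.negSucc 1, Int.negSucc 1, Int.ofNat 2, Int.ofNat 2, Int.ofNat 0, Int.ofNat 0, Int.ofNat 2, Int.ofNat 0, Int.ofNat 0, Int.negSucc 1, Int.ofNat 0, Int.ofNat 2, Int.ofNat 0, Int.ofNat 0, Int.ofNat 0, Int.ofNat 0, Int.ofNat 0, Int.ofNat 0, Int.ofNat 0, Int.ofNat 0, Int.ofNat 0, Int.ofNat 0, Int.ofNat 0],
  [Int.negSucc 0, Int.negSucc 0, Int.negSucc 0, Int.ofNat 1, Int.ofNat 1, Int.negSucc 0, Int.negSucc 0, Int.ofNat 1, Int.negSucc 0, Int.ofNat 1, Int.negSucc 0, Int.negSucc 0, Int.ofNat 1, Int.negSucc 0, Int.negSucc 0, Int.ofNat 1, Int.negSucc 0, Int.negSucc 0, Int.negSucc 0, Int.negSucc 0, Int.ofNat 1, Int.negSucc 0, Int.negSucc 0, Int.negSucc 2],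
  [Int.negSucc 0, Int.negSucc 0, Int.ofNat 1, Int.ofNat 1, Int.negSucc 0, Int.ofNat 1, Int.negSucc 0, Int.negSucc 0, Int.ofNat 1, Int.negSucc 0, Int.ofNat 1, Int.negSucc 0, Int.ofNat 1, Int.negSucc 0, Int.negSucc 0, Int.ofNat 1, Int.negSucc 0, Int.negSucc 0, Int.negSucc 0, Int.negSucc 0, Int.negSucc 0, Int.negSucc 0, Int.negSucc 0, Int.negSucc 2],
  [Int.negSucc 0, Int.negSucc 0, Int.negSucc 2, Int.ofNat 1, Int.ofNat 1, Int.ofNat 1, Int.ofNat 1, Int.ofNat 1, Int.ofNat 1, Int.negSucc 0, Int.ofNat 1, Int.negSucc 0, Int.ofNat 1, Int.ofNat 1, Int.negSucc 0, Int.ofNat 1, Int.ofNat 1, Int.negSucc 0, Int.negSucc 0, Int.ofNat 1, Int.negSucc 0, Int.ofNat 1, Int.ofNat 1, Int.ofNat 1],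
  [Int.negSucc 0, Int.negSucc 0, Int.ofNat 3, Int.ofNat 1, Int.ofNat 1, Int.negSucc 0, Int.negSucc 0, Int.ofNat 1, Int.ofNat 1, Int.ofNat 1, Int.negSucc 0, Int.negSucc 0, Int.ofNat 1, Int.ofNat 1, Int.negSucc 0, Int.negSucc 0, Int.ofNat 1, Int.negSucc 0, Int.ofNat 1, Int.ofNat 1, Int.negSucc 0, Int.ofNat 1, Int.negSucc 0, Int.ofNat 1],
  [Int.ofNat 1, Int.negSucc 0, Int.ofNat 1, Int.negSucc 0, Int.negSucc 0, Int.negSucc 0, Int.ofNat 3, Int.negSucc 0, Int.ofNat 1, Int.negSucc 0, Int.negSucc 0, Int.ofNat 1, Int.negSucc 0, Int.ofNat 1, Int.ofNat 1, Int.ofNat 1, Int.ofNat 1, Int.negSucc 0, Int.ofNat 1, Int.ofNat 1, Int.negSucc 0, Int.negSucc 0, Int.ofNat 1, Int.ofNat 1],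
  [Int.ofNat 1, Int.negSucc 0, Int.negSucc 0, Int.negSucc 0, Int.negSucc 0, Int.ofNat 1, Int.negSucc 2, Int.negSucc 0, Int.ofNat 1, Int.ofNat 1, Int.ofNat 1, Int.ofNat 1, Int.negSucc 0, Int.ofNat 1, Int.ofNat 1, Int.negSucc 0, Int.ofNat 1, Int.negSucc 0, Int.negSucc 0, Int.ofNat 1, Int.negSucc 0, Int.negSucc 0, Int.negSucc 0, Int.ofNat 1],
  [Int.negSucc 0, Int.ofNat 1, Int.ofNat 1, Int.negSucc 0, Int.negSucc 0, Int.ofNat 1, Int.negSucc 0, Int.ofNat 1, Int.ofNat 1, Int.ofNat 1, Int.ofNat 1, Int.ofNat 1, Int.negSucc 0, Int.ofNat 1, Int.ofNat 1, Int.negSucc 0, Int.ofNat 1, Int.negSucc 0, Int.negSucc 0, Int.ofNat 3, Int.negSucc 0, Int.ofNat 1, Int.negSucc 0, Int.negSucc 0],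
  [Int.negSucc 0, Int.negSucc 0, Int.negSucc 0, Int.negSucc 0, Int.ofNat 1, Int.ofNat 1, Int.ofNat 1, Int.ofNat 1, Int.ofNat 1, Int.negSucc 0, Int.ofNat 1, Int.ofNat 3, Int.ofNat 1, Int.ofNat 1, Int.negSucc 0, Int.negSucc 0, Int.ofNat 1, Int.ofNat 1, Int.negSucc 0, Int.negSucc 0, Int.ofNat 1, Int.negSucc 0, Int.ofNat 1, Int.negSucc 0],
  [Int.negSucc 0, Int.negSucc 0, Int.negSucc 0, Int.negSucc 0, Int.negSucc 0, Int.ofNat 1, Int.ofNat 1, Int.ofNat 1, Int.negSucc 0, Int.negSucc 0, Int.ofNat 1, Int.ofNat 1, Int.negSucc 0, Int.negSucc 0, Int.negSucc 0, Int.negSucc 0, Int.negSucc 0, Int.ofNat 1, Int.negSucc 2, Int.negSucc 0, Int.ofNat 1, Int.negSucc 0, Int.negSucc 0, Int.negSucc 0],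
  [Int.ofNat 1, Int.negSucc 0, Int.negSucc 0, Int.negSucc 0, Int.negSucc 0, Int.negSucc 0, Int.negSucc 0, Int.negSucc 0, Int.ofNat 1, Int.ofNat 1, Int.ofNat 1, Int.negSucc 0, Int.negSucc 0, Int.ofNat 1, Int.ofNat 1, Int.negSucc 0, Int.negSucc 0, Int.negSucc 0, Int.negSucc 0, Int.negSucc 0, Int.ofNat 1, Int.negSucc 2, Int.negSucc 0, Int.negSucc 0],
  [Int.negSucc 1, Int.ofNat 0, Int.ofNat 0, Int.ofNat 0, Int.ofNat 0, Int.ofNat 0, Int.ofNat 2, Int.ofNat 2, Int.ofNat 2, Int.ofNat 0, Int.ofNat 0, Int.ofNat 0, Int.ofNat 0, Int.ofNat 2, Int.ofNat 2, Int.negSucc 1, Int.ofNat 0, Int.ofNat 0, Int.ofNat 0, Int.ofNat 2, Int.ofNat 0, Int.ofNat 0, Int.ofNat 0, Int.ofNat 0],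
  [Int.ofNat 0, Int.ofNat 0, Int.ofNat 0, Int.ofNat 0, Int.ofNat 0, Int.ofNat 2, Int.ofNat 2, Int.ofNat 2, Int.ofNat 0, Int.ofNat 0, Int.ofNat 0, Int.ofNat 0, Int.ofNat 2, Int.ofNat 2, Int.negSucc 1, Int.ofNat 0, Int.ofNat 0, Int.ofNat 0, Int.ofNat 2, Int.ofNat 0, Int.ofNat 0, Int.ofNat 0, Int.negSucc 1, Int.ofNat 0],
  [Int.ofNat 0, Int.ofNat 0, Int.ofNat 0, Int.ofNat 0, Int.ofNat 0, Int.ofNat 2, Int.ofNat 2, Int.negSucc 1, Int.ofNat 0, Int.ofNat 0, Int.ofNat 0, Int.ofNat 0, Int.ofNat 2, Int.ofNat 2, Int.negSucc 1, Int.ofNat 0, Int.ofNat 0, Int.ofNat 0, Int.negSucc 1, Int.ofNat 0, Int.ofNat 0, Int.ofNat 0, Int.negSucc 1, Int.ofNat 0],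
  [Int.ofNat 0, Int.ofNat 0, Int.ofNat 0, Int.ofNat 0, Int.ofNat 0, Int.ofNat 2, Int.negSucc 1, Int.negSucc 1, Int.ofNat 0, Int.ofNat 0, Int.ofNat 0, Int.ofNat 0, Int.negSucc 1, Int.negSucc 1, Int.negSucc 1, Int.ofNat 0, Int.ofNat 0, Int.ofNat 0, Int.ofNat 2, Int.ofNat 0, Int.ofNat 0, Int.ofNat 0, Int.negSucc 1, Int.ofNat 0],
  [Int.ofNat 0, Int.negSucc 1, Int.ofNat 0, Int.ofNat 0, Int.ofNat 0, Int.ofNat 0, Int.ofNat 0, Int.negSucc 1, Int.ofNat 0, Int.ofNat 2, Int.ofNat 0, Int.ofNat 0, Int.ofNat 0, Int.negSucc 1, Int.ofNat 2, Int.ofNat 0, Int.ofNat 0, Int.ofNat 0, Int.negSucc 1, Int.negSucc 1, Int.ofNat 0, Int.negSucc 1, Int.ofNat 0, Int.ofNat 0],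
  [Int.ofNat 0, Int.negSucc 1, Int.ofNat 0, Int.ofNat 0, Int.ofNat 0, Int.ofNat 0, Int.ofNat 0, Int.ofNat 2, Int.ofNat 0, Int.negSucc 1, Int.ofNat 0, Int.ofNat 0, Int.ofNat 0, Int.negSucc 1, Int.ofNat 2, Int.ofNat 0, Int.ofNat 0, Int.ofNat 0, Int.ofNat 2, Int.negSucc 1, Int.ofNat 0, Int.ofNat 2, Int.ofNat 0, Int.ofNat 0],
  [Int.ofNat 0, Int.ofNat 0, Int.negSucc 1, Int.ofNat 0, Int.ofNat 0, Int.ofNat 0, Int.ofNat 0, Int.ofNat 0, Int.ofNat 2, Int.ofNat 0, Int.negSucc 1, Int.ofNat 0, Int.ofNat 0, Int.ofNat 0, Int.negSucc 1, Int.ofNat 2, Int.ofNat 0, Int.ofNat 0, Int.ofNat 0, Int.ofNat 2, Int.negSucc 1, Int.ofNat 0, Int.ofNat 2, Int.ofNat 0],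
  [Int.negSucc 0, Int.negSucc 0, Int.ofNat 1, Int.ofNat 1, Int.negSucc 0, Int.ofNat 1, Int.negSucc 0, Int.negSucc 0, Int.ofNat 1, Int.ofNat 1, Int.negSucc 0, Int.negSucc 0, Int.negSucc 0, Int.negSucc 0, Int.negSucc 0, Int.ofNat 3, Int.negSucc 0, Int.ofNat 1, Int.negSucc 0, Int.ofNat 1, Int.negSucc 0, Int.negSucc 0, Int.ofNat 1, Int.negSucc 0],
  [Int.ofNat 1, Int.negSucc 0, Int.ofNat 1, Int.negSucc 0, Int.negSucc 0, Int.ofNat 1, Int.ofNat 1, Int.negSucc 0, Int.negSucc 0, Int.negSucc 0, Int.negSucc 0, Int.negSucc 0, Int.ofNat 3, Int.negSucc 0, Int.ofNat 1, Int.negSucc 0, Int.ofNat 1, Int.negSucc 0, Int.negSucc 0, Int.ofNat 1, Int.negSucc 0, Int.negSucc 0, Int.ofNat 1, Int.negSucc 0],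
  [Int.negSucc 0, Int.ofNat 1, Int.negSucc 0, Int.negSucc 0, Int.negSucc 0, Int.ofNat 1, Int.ofNat 1, Int.negSucc 0, Int.negSucc 0, Int.ofNat 1, Int.ofNat 1, Int.negSucc 0, Int.ofNat 3, Int.negSucc 0, Int.ofNat 1, Int.ofNat 1, Int.ofNat 1, Int.negSucc 0, Int.negSucc 0, Int.ofNat 1, Int.ofNat 1, Int.negSucc 0, Int.ofNat 1, Int.ofNat 1],
  [Int.negSucc 0, Int.ofNat 1, Int.negSucc 0, Int.negSucc 0, Int.negSucc 0, Int.negSucc 0, Int.negSucc 0, Int.ofNat 1, Int.ofNat 3, Int.negSucc 0, Int.ofNat 1, Int.negSucc 0, Int.ofNat 1, Int.ofNat 1, Int.ofNat 1, Int.ofNat 1, Int.negSucc 0, Int.ofNat 1, Int.ofNat 1, Int.negSucc 0, Int.negSucc 0, Int.ofNat 1, Int.ofNat 1, Int.ofNat 1],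
  [Int.ofNat 1, Int.negSucc 0, Int.ofNat 1, Int.negSucc 0, Int.negSucc 0, Int.negSucc 0, Int.negSucc 0, Int.ofNat 1, Int.ofNat 1, Int.negSucc 0, Int.ofNat 1, Int.negSucc 2, Int.negSucc 0, Int.ofNat 1, Int.ofNat 1, Int.ofNat 1, Int.negSucc 0, Int.ofNat 1, Int.negSucc 0, Int.negSucc 0, Int.negSucc 0, Int.ofNat 1, Int.ofNat 1, Int.negSucc 0],
  [Int.ofNat 1, Int.negSucc 0, Int.negSucc 0, Int.negSucc 0, Int.negSucc 0, Int.ofNat 1, Int.ofNat 1, Int.ofNat 1, Int.ofNat 1, Int.ofNat 1, Int.negSucc 0, Int.negSucc 2, Int.negSucc 0, Int.ofNat 1, Int.ofNat 1, Int.negSucc 0, Int.negSucc 0, Int.ofNat 1, Int.ofNat 1, Int.negSucc 0, Int.negSucc 0, Int.ofNat 1, Int.negSucc 0, Int.negSucc 0],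
  [Int.ofNat 1, Int.negSucc 0, Int.ofNat 1, Int.negSucc 0, Int.ofNat 1, Int.negSucc 0, Int.negSucc 0, Int.negSucc 2, Int.negSucc 0, Int.negSucc 0, Int.ofNat 1, Int.negSucc 0, Int.ofNat 1, Int.negSucc 0, Int.ofNat 1, Int.ofNat 1, Int.ofNat 1, Int.ofNat 1, Int.ofNat 1, Int.negSucc 0, Int.negSucc 0, Int.ofNat 1, Int.negSucc 0, Int.negSucc 0],
  [Int.ofNat 1, Int.negSucc 0, Int.negSucc 0, Int.negSucc 0, Int.ofNat 1, Int.ofNat 1, Int.ofNat 1, Int.negSucc 2, Int.negSucc 0, Int.ofNat 1, Int.negSucc 0, Int.negSucc 0, Int.ofNat 1, Int.negSucc 0, Int.ofNat 1, Int.negSucc 0, Int.ofNat 1, Int.ofNat 1, Int.negSucc 0, Int.negSucc 0, Int.negSucc 0, Int.ofNat 1, Int.ofNat 1, Int.negSucc 0],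
  [Int.negSucc 1, Int.ofNat 0, Int.ofNat 0, Int.negSucc 1, Int.ofNat 0, Int.ofNat 0, Int.ofNat 2, Int.negSucc 1, Int.ofNat 0, Int.ofNat 2, Int.ofNat 0, Int.ofNat 0, Int.ofNat 2, Int.negSucc 1, Int.ofNat 0, Int.ofNat 0, Int.ofNat 0, Int.ofNat 0, Int.ofNat 0, Int.ofNat 0, Int.ofNat 0, Int.ofNat 2, Int.ofNat 0, Int.ofNat 0],
  [Int.negSucc 1, Int.ofNat 0, Int.ofNat 2, Int.negSucc 1, Int.ofNat 0, Int.ofNat 2, Int.ofNat 0, Int.ofNat 0, Int.ofNat 0, Int.ofNat 2, Int.negSucc 1, Int.ofNat 0, Int.ofNat 0, Int.ofNat 2, Int.ofNat 0, Int.ofNat 0, Int.negSucc 1, Int.ofNat 0, Int.ofNat 0, Int.ofNat 0, Int.ofNat 0, Int.ofNat 0, Int.ofNat 0, Int.ofNat 0],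
  [Int.ofNat 2, Int.ofNat 0, Int.negSucc 1, Int.negSucc 1, Int.ofNat 0, Int.ofNat 2, Int.ofNat 0, Int.ofNat 0, Int.ofNat 0, Int.ofNat 2, Int.negSucc 1, Int.ofNat 0, Int.ofNat 0, Int.ofNat 2, Int.ofNat 0, Int.ofNat 0, Int.negSucc 1, Int.ofNat 0, Int.ofNat 0, Int.ofNat 0, Int.ofNat 0, Int.ofNat 0, Int.ofNat 0, Int.ofNat 0],
  [Int.ofNat 0, Int.ofNat 0, Int.ofNat 0, Int.ofNat 2, Int.ofNat 0, Int.negSucc 1, Int.negSucc 1, Int.ofNat 0, Int.ofNat 2, Int.ofNat 0, Int.ofNat 0, Int.ofNat 0, Int.ofNat 2, Int.negSucc 1, Int.ofNat 0, Int.ofNat 0, Int.ofNat 2, Int.ofNat 0, Int.ofNat 0, Int.negSucc 1, Int.ofNat 0, Int.ofNat 0, Int.ofNat 0, Int.ofNat 0],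
  [Int.ofNat 0, Int.ofNat 0, Int.ofNat 0, Int.ofNat 2, Int.ofNat 0, Int.negSucc 1, Int.ofNat 0, Int.ofNat 2, Int.ofNat 0, Int.ofNat 0, Int.ofNat 0, Int.negSucc 1, Int.ofNat 0, Int.negSucc 1, Int.ofNat 0, Int.ofNat 0, Int.ofNat 2, Int.ofNat 0, Int.negSucc 1, Int.ofNat 0, Int.ofNat 0, Int.ofNat 2, Int.ofNat 0, Int.ofNat 0],
  [Int.ofNat 0, Int.ofNat 0, Int.ofNat 2, Int.ofNat 0, Int.negSucc 1, Int.ofNat 0, Int.ofNat 2, Int.ofNat 0, Int.ofNat 0, Int.ofNat 0, Int.negSucc 1, Int.ofNat 0, Int.negSucc 1, Int.ofNat 0, Int.ofNat 0, Int.ofNat 2, Int.ofNat 0, Int.negSucc 1, Int.ofNat 0, Int.ofNat 0, Int.ofNat 2, Int.ofNat 0, Int.ofNat 0, Int.ofNat 0],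
  [Int.ofNat 0, Int.ofNat 0, Int.negSucc 1, Int.ofNat 0, Int.negSucc 1, Int.ofNat 0, Int.ofNat 2, Int.ofNat 0, Int.ofNat 0, Int.ofNat 0, Int.ofNat 2, Int.ofNat 0, Int.negSucc 1, Int.ofNat 0, Int.ofNat 0, Int.ofNat 2, Int.ofNat 0, Int.negSucc 1, Int.ofNat 0, Int.ofNat 0, Int.ofNat 2, Int.ofNat 0, Int.ofNat 0, Int.ofNat 0],
  [Int.ofNat 0, Int.ofNat 0, Int.ofNat 2, Int.ofNat 0, Int.ofNat 2, Int.ofNat 0, Int.negSucc 1, Int.ofNat 0, Int.ofNat 0, Int.ofNat 0, Int.ofNat 2, Int.ofNat 0, Int.ofNat 2, Int.ofNat 0, Int.ofNat 0, Int.ofNat 2, Int.ofNat 0, Int.negSucc 1, Int.ofNat 0, Int.ofNat 0, Int.ofNat 2, Int.ofNat 0, Int.ofNat 0, Int.ofNat 0],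
  [Int.ofNat 0, Int.ofNat 0, Int.ofNat 0, Int.ofNat 2, Int.negSucc 1, Int.ofNat 0, Int.ofNat 0, Int.ofNat 0, Int.ofNat 2, Int.ofNat 0, Int.ofNat 0, Int.ofNat 2, Int.ofNat 0, Int.ofNat 0, Int.ofNat 0, Int.ofNat 0, Int.ofNat 2, Int.ofNat 2, Int.ofNat 0, Int.negSucc 1, Int.ofNat 0, Int.ofNat 2, Int.ofNat 0, Int.ofNat 0],
  [Int.ofNat 0, Int.ofNat 0, Int.ofNat 0, Int.ofNat 2, Int.negSucc 1, Int.ofNat 0, Int.ofNat 0, Int.ofNat 0, Int.ofNat 2, Int.ofNat 0, Int.ofNat 0, Int.negSucc 1, Int.ofNat 0, Int.ofNat 0, Int.ofNat 0, Int.ofNat 0, Int.ofNat 2, Int.ofNat 2, Int.ofNat 0, Int.negSucc 1, Int.ofNat 0, Int.negSucc 1, Int.ofNat 0, Int.ofNat 0],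
  [Int.ofNat 0, Int.ofNat 0, Int.ofNat 0, Int.ofNat 0, Int.ofNat 2, Int.negSucc 1, Int.ofNat 0, Int.ofNat 0, Int.ofNat 0, Int.ofNat 2, Int.ofNat 0, Int.ofNat 0, Int.negSucc 1, Int.ofNat 0, Int.ofNat 0, Int.ofNat 0, Int.ofNat 0, Int.ofNat 2, Int.ofNat 2, Int.ofNat 0, Int.negSucc 1, Int.ofNat 0, Int.negSucc 1, Int.ofNat 0],
  [Int.ofNat 0, Int.ofNat 0, Int.ofNat 0, Int.ofNat 0, Int.ofNat 2, Int.negSucc 1, Int.ofNat 0, Int.ofNat 0, Int.ofNat 0, Int.ofNat 2, Int.ofNat 0, Int.ofNat 0, Int.negSucc 1, Int.ofNat 0, Int.ofNat 0, Int.ofNat 0, Int.ofNat 0, Int.ofNat 2, Int.ofNat 2, Int.ofNat 0, Int.negSucc 1, Int.ofNat 0, Int.negSucc 1, Int.ofNat 0],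
  [Int.ofNat 0, Int.ofNat 2, Int.negSucc 1, Int.ofNat 0, Int.ofNat 0, Int.ofNat 0, Int.ofNat 2, Int.ofNat 0, Int.ofNat 0, Int.negSucc 1, Int.ofNat 0, Int.ofNat 0, Int.ofNat 0, Int.ofNat 0, Int.ofNat 2, Int.ofNat 2, Int.ofNat 0, Int.negSucc 1, Int.ofNat 0, Int.negSucc 1, Int.ofNat 0, Int.ofNat 0, Int.ofNat 0, Int.ofNat 0],
  [Int.ofNat 0, Int.negSucc 1, Int.ofNat 2, Int.ofNat 0, Int.ofNat 0, Int.ofNat 0, Int.ofNat 2, Int.ofNat 0, Int.ofNat 0, Int.negSucc 1, Int.ofNat 0, Int.ofNat 0, Int.ofNat 0, Int.ofNat 0, Int.ofNat 2, Int.ofNat 2, Int.ofNat 0, Int.negSucc 1, Int.ofNat 0, Int.negSucc 1, Int.ofNat 0, Int.ofNat 0, Int.ofNat 0, Int.ofNat 0],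
  [Int.ofNat 0, Int.ofNat 2, Int.ofNat 0, Int.ofNat 0, Int.ofNat 0, Int.ofNat 0, Int.ofNat 2, Int.ofNat 0, Int.ofNat 0, Int.ofNat 0, Int.ofNat 0, Int.negSucc 1, Int.negSucc 1, Int.ofNat 0, Int.ofNat 0, Int.ofNat 2, Int.ofNat 0, Int.ofNat 2, Int.negSucc 1, Int.ofNat 0, Int.ofNat 0, Int.ofNat 0, Int.negSucc 1, Int.ofNat 0],
  [Int.ofNat 1, Int.negSucc 0, Int.ofNat 1, Int.negSucc 0, Int.ofNat 1, Int.negSucc 0, Int.ofNat 1, Int.negSucc 0, Int.ofNat 3, Int.negSucc 0, Int.negSucc 0, Int.ofNat 1, Int.ofNat 1, Int.ofNat 1, Int.negSucc 0, Int.ofNat 1, Int.ofNat 1, Int.ofNat 1, Int.ofNat 1, Int.negSucc 0, Int.negSucc 0, Int.negSucc 0, Int.negSucc 0, Int.ofNat 1],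
  [Int.ofNat 1, Int.negSucc 0, Int.negSucc 0, Int.negSucc 0, Int.ofNat 1, Int.ofNat 1, Int.negSucc 0, Int.negSucc 0, Int.ofNat 3, Int.ofNat 1, Int.ofNat 1, Int.ofNat 1, Int.ofNat 1, Int.ofNat 1, Int.negSucc 0, Int.negSucc 0, Int.ofNat 1, Int.ofNat 1, Int.negSucc 0, Int.negSucc 0, Int.negSucc 0, Int.negSucc 0, Int.ofNat 1, Int.ofNat 1],
  [Int.negSucc 0, Int.negSucc 0, Int.ofNat 1, Int.negSucc 0, Int.negSucc 0, Int.ofNat 1, Int.negSucc 0, Int.ofNat 1, Int.ofNat 1, Int.negSucc 0, Int.ofNat 1, Int.negSucc 0, Int.ofNat 1, Int.ofNat 1, Int.ofNat 1, Int.ofNat 3, Int.negSucc 0, Int.negSucc 0, Int.negSucc 0, Int.negSucc 0, Int.ofNat 1, Int.ofNat 1, Int.ofNat 1, Int.ofNat 1],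
  [Int.negSucc 0, Int.negSucc 0, Int.negSucc 0, Int.negSucc 0, Int.negSucc 0, Int.negSucc 0, Int.ofNat 1, Int.ofNat 1, Int.ofNat 1, Int.ofNat 1, Int.negSucc 0, Int.negSucc 0, Int.ofNat 1, Int.ofNat 1, Int.ofNat 1, Int.negSucc 2, Int.negSucc 0, Int.negSucc 0, Int.ofNat 1, Int.negSucc 0, Int.ofNat 1, Int.ofNat 1, Int.negSucc 0, Int.ofNat 1],
  [Int.ofNat 0, Int.ofNat 0, Int.ofNat 0, Int.ofNat 0, Int.ofNat 0, Int.ofNat 0, Int.ofNat 0, Int.ofNat 0, Int.ofNat 0, Int.ofNat 2, Int.ofNat 0, Int.negSucc 1, Int.ofNat 0, Int.ofNat 2, Int.ofNat 2, Int.negSucc 1, Int.ofNat 0, Int.ofNat 0, Int.ofNat 0, Int.negSucc 1, Int.ofNat 2, Int.ofNat 0, Int.ofNat 0, Int.negSucc 1],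
  [Int.ofNat 0, Int.ofNat 0, Int.ofNat 0, Int.ofNat 0, Int.ofNat 0, Int.ofNat 0, Int.ofNat 0, Int.ofNat 0, Int.ofNat 0, Int.ofNat 0, Int.ofNat 0, Int.negSucc 1, Int.ofNat 0, Int.ofNat 2, Int.ofNat 0, Int.negSucc 1, Int.ofNat 2, Int.negSucc 1, Int.ofNat 0, Int.ofNat 0, Int.ofNat 0, Int.ofNat 2, Int.ofNat 2, Int.negSucc 1],
  [Int.negSucc 0, Int.negSucc 0, Int.negSucc 0, Int.ofNat 1, Int.negSucc 2, Int.ofNat 1, Int.negSucc 0, Int.negSucc 0, Int.ofNat 1, Int.ofNat 1, Int.ofNat 1, Int.negSucc 0, Int.ofNat 1, Int.negSucc 0, Int.ofNat 1, Int.negSucc 0, Int.negSucc 0, Int.negSucc 0, Int.ofNat 1, Int.negSucc 0, Int.ofNat 1, Int.ofNat 1, Int.negSucc 0, Int.ofNat 1],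
  [Int.ofNat 1, Int.ofNat 1, Int.negSucc 0, Int.negSucc 0, Int.negSucc 0, Int.negSucc 0, Int.ofNat 1, Int.negSucc 2, Int.ofNat 1, Int.negSucc 0, Int.negSucc 0, Int.ofNat 1, Int.ofNat 1, Int.ofNat 1, Int.negSucc 0, Int.ofNat 1, Int.negSucc 0, Int.ofNat 1, Int.negSucc 0, Int.negSucc 0, Int.negSucc 0, Int.ofNat 1, Int.negSucc 0, Int.ofNat 1],
  [Int.ofNat 0, Int.ofNat 0, Int.ofNat 2, Int.ofNat 0, Int.ofNat 0, Int.ofNat 0, Int.ofNat 2, Int.negSucc 1, Int.ofNat 0, Int.ofNat 0, Int.ofNat 0, Int.ofNat 0, Int.ofNat 0, Int.ofNat 2, Int.ofNat 0, Int.ofNat 2, Int.ofNat 0, Int.ofNat 2, Int.negSucc 1, Int.ofNat 0, Int.ofNat 0, Int.ofNat 2, Int.ofNat 0, Int.ofNat 0],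
  [Int.ofNat 0, Int.ofNat 2, Int.ofNat 0, Int.ofNat 0, Int.ofNat 0, Int.ofNat 2, Int.negSucc 1, Int.ofNat 0, Int.ofNat 0, Int.ofNat 0, Int.ofNat 0, Int.ofNat 0, Int.ofNat 2, Int.ofNat 0, Int.ofNat 2, Int.ofNat 0, Int.ofNat 2, Int.negSucc 1, Int.ofNat 0, Int.ofNat 0, Int.ofNat 2, Int.ofNat 0, Int.ofNat 0, Int.ofNat 0],
  [Int.ofNat 0, Int.ofNat 2, Int.ofNat 0, Int.ofNat 0, Int.ofNat 0, Int.ofNat 2, Int.negSucc 1, Int.ofNat 0, Int.ofNat 0, Int.ofNat 0, Int.ofNat 0, Int.ofNat 0, Int.ofNat 2, Int.ofNat 0, Int.ofNat 2, Int.ofNat 0, Int.ofNat 2, Int.negSucc 1, Int.ofNat 0, Int.ofNat 0, Int.ofNat 2, Int.ofNat 0, Int.ofNat 0, Int.ofNat 0],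
  [Int.ofNat 0, Int.negSucc 1, Int.ofNat 0, Int.ofNat 0, Int.ofNat 0, Int.ofNat 2, Int.ofNat 2, Int.ofNat 0, Int.ofNat 0, Int.ofNat 0, Int.ofNat 0, Int.ofNat 0, Int.negSucc 1, Int.ofNat 0, Int.ofNat 2, Int.ofNat 0, Int.negSucc 1, Int.negSucc 1, Int.ofNat 0, Int.ofNat 0, Int.ofNat 2, Int.ofNat 0, Int.ofNat 0, Int.ofNat 0],
  [Int.ofNat 0, Int.ofNat 0, Int.ofNat 0, Int.ofNat 0, Int.negSucc 1, Int.ofNat 0, Int.ofNat 0, Int.ofNat 0, Int.ofNat 2, Int.ofNat 2, Int.negSucc 1, Int.ofNat 0, Int.ofNat 0, Int.ofNat 0, Int.ofNat 0, Int.ofNat 0, Int.ofNat 0, Int.ofNat 0, Int.ofNat 2, Int.ofNat 2, Int.ofNat 0, Int.negSucc 1, Int.negSucc 1, Int.ofNat 0],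
  [Int.ofNat 0, Int.ofNat 0, Int.ofNat 0, Int.ofNat 0, Int.negSucc 1, Int.ofNat 0, Int.ofNat 0, Int.ofNat 0, Int.ofNat 2, Int.negSucc 1, Int.ofNat 2, Int.ofNat 0, Int.ofNat 0, Int.ofNat 0, Int.ofNat 0, Int.ofNat 0, Int.ofNat 0, Int.ofNat 0, Int.negSucc 1, Int.ofNat 2, Int.ofNat 0, Int.ofNat 2, Int.negSucc 1, Int.ofNat 0],
  [Int.negSucc 1, Int.ofNat 0, Int.ofNat 0, Int.ofNat 0, Int.ofNat 0, Int.negSucc 1, Int.ofNat 0, Int.ofNat 0, Int.ofNat 0, Int.ofNat 2, Int.negSucc 1, Int.ofNat 2, Int.ofNat 0, Int.ofNat 0, Int.ofNat 0, Int.ofNat 0, Int.ofNat 0, Int.ofNat 0, Int.ofNat 0, Int.negSucc 1, Int.ofNat 2, Int.ofNat 0, Int.ofNat 2, Int.ofNat 0],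
  [Int.ofNat 1, Int.negSucc 0, Int.negSucc 0, Int.ofNat 1, Int.negSucc 0, Int.negSucc 0, Int.ofNat 1, Int.ofNat 1, Int.negSucc 0, Int.ofNat 1, Int.negSucc 2, Int.ofNat 1, Int.negSucc 0, Int.negSucc 0, Int.ofNat 1, Int.negSucc 0, Int.negSucc 0, Int.ofNat 1, Int.negSucc 0, Int.negSucc 0, Int.ofNat 1, Int.ofNat 1, Int.ofNat 1, Int.negSucc 0],
  [Int.ofNat 1, Int.negSucc 0, Int.negSucc 0, Int.ofNat 1, Int.ofNat 1, Int.negSucc 0, Int.ofNat 1, Int.negSucc 2, Int.ofNat 1, Int.negSucc 0, Int.negSucc 0, Int.ofNat 1, Int.negSucc 0, Int.negSucc 0, Int.ofNat 1, Int.negSucc 0, Int.negSucc 0, Int.ofNat 1, Int.ofNat 1, Int.ofNat 1, Int.ofNat 1, Int.negSucc 0, Int.negSucc 0, Int.negSucc 0],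
  [Int.negSucc 1, Int.ofNat 0, Int.ofNat 0, Int.ofNat 0, Int.ofNat 2, Int.negSucc 1, Int.ofNat 2, Int.negSucc 1, Int.ofNat 0, Int.ofNat 0, Int.ofNat 0, Int.ofNat 0, Int.negSucc 1, Int.ofNat 0, Int.ofNat 0, Int.ofNat 0, Int.ofNat 0, Int.ofNat 0, Int.ofNat 0, Int.ofNat 2, Int.ofNat 2, Int.ofNat 0, Int.ofNat 0, Int.ofNat 0],
  [Int.negSucc 1, Int.ofNat 2, Int.ofNat 2, Int.ofNat 0, Int.ofNat 0, Int.negSucc 1, Int.ofNat 0, Int.ofNat 0, Int.negSucc 1, Int.ofNat 0, Int.ofNat 2, Int.ofNat 0, Int.ofNat 0, Int.ofNat 0, Int.ofNat 0, Int.ofNat 0, Int.ofNat 0, Int.ofNat 0, Int.ofNat 0, Int.ofNat 0, Int.ofNat 0, Int.negSucc 1, Int.ofNat 2, Int.ofNat 0],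
  [Int.ofNat 3, Int.negSucc 0, Int.negSucc 0, Int.ofNat 1, Int.negSucc 0, Int.negSucc 0, Int.ofNat 1, Int.ofNat 1, Int.negSucc 0, Int.negSucc 0, Int.ofNat 1, Int.ofNat 1, Int.ofNat 1, Int.negSucc 0, Int.ofNat 1, Int.negSucc 0, Int.negSucc 0, Int.ofNat 1, Int.ofNat 1, Int.ofNat 1, Int.negSucc 0, Int.negSucc 0, Int.ofNat 1, Int.ofNat 1],
  [Int.ofNat 3, Int.negSucc 0, Int.ofNat 1, Int.ofNat 1, Int.negSucc 0, Int.ofNat 1, Int.negSucc 0, Int.ofNat 1, Int.negSucc 0, Int.ofNat 1, Int.negSucc 0, Int.ofNat 1, Int.ofNat 1, Int.negSucc 0, Int.ofNat 1, Int.ofNat 1, Int.negSucc 0, Int.ofNat 1, Int.negSucc 0, Int.ofNat 1, Int.negSucc 0, Int.negSucc 0, Int.negSucc 0, Int.ofNat 1],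
  [Int.ofNat 1, Int.ofNat 1, Int.negSucc 0, Int.negSucc 0, Int.ofNat 1, Int.negSucc 0, Int.ofNat 1, Int.ofNat 1, Int.ofNat 1, Int.negSucc 0, Int.ofNat 1, Int.ofNat 1, Int.ofNat 1, Int.negSucc 0, Int.ofNat 1, Int.negSucc 0, Int.negSucc 0, Int.negSucc 0, Int.negSucc 0, Int.ofNat 1, Int.negSucc 0, Int.ofNat 3, Int.negSucc 0, Int.ofNat 1],
  [Int.ofNat 1, Int.ofNat 1, Int.ofNat 1, Int.negSucc 0, Int.ofNat 1, Int.ofNat 1, Int.negSucc 0, Int.ofNat 1, Int.ofNat 1, Int.ofNat 1, Int.negSucc 0, Int.ofNat 1, Int.ofNat 1, Int.negSucc 0, Int.ofNat 1, Int.ofNat 1, Int.negSucc 0, Int.negSucc 0, Int.ofNat 1, Int.ofNat 1, Int.negSucc 0, Int.ofNat 3, Int.ofNat 1, Int.ofNat 1],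
  [Int.ofNat 1, Int.ofNat 1, Int.ofNat 1, Int.negSucc 0, Int.ofNat 1, Int.ofNat 1, Int.negSucc 2, Int.negSucc 0, Int.negSucc 0, Int.ofNat 1, Int.negSucc 0, Int.negSucc 0, Int.negSucc 0, Int.negSucc 0, Int.ofNat 1, Int.ofNat 1, Int.negSucc 0, Int.negSucc 0, Int.negSucc 0, Int.negSucc 0, Int.negSucc 0, Int.ofNat 1, Int.ofNat 1, Int.ofNat 1],
  [Int.ofNat 1, Int.negSucc 0, Int.negSucc 2, Int.negSucc 0, Int.ofNat 1, Int.ofNat 1, Int.ofNat 1, Int.ofNat 1, Int.negSucc 0, Int.negSucc 0, Int.negSucc 0, Int.negSucc 0, Int.negSucc 0, Int.ofNat 1, Int.negSucc 0, Int.ofNat 1, Int.negSucc 0, Int.negSucc 0, Int.ofNat 1, Int.ofNat 1, Int.negSucc 0, Int.negSucc 0, Int.ofNat 1, Int.ofNat 1],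
  [Int.negSucc 1, Int.ofNat 0, Int.ofNat 2, Int.ofNat 0, Int.ofNat 0, Int.ofNat 2, Int.ofNat 0, Int.ofNat 0, Int.ofNat 0, Int.ofNat 0, Int.ofNat 0, Int.ofNat 0, Int.ofNat 0, Int.ofNat 0, Int.ofNat 0, Int.ofNat 2, Int.negSucc 1, Int.ofNat 0, Int.ofNat 2, Int.ofNat 0, Int.ofNat 0, Int.negSucc 1, Int.ofNat 0, Int.negSucc 1],
  [Int.ofNat 0, Int.negSucc 1, Int.ofNat 0, Int.negSucc 1, Int.ofNat 0, Int.ofNat 2, Int.ofNat 0, Int.ofNat 0, Int.ofNat 2, Int.ofNat 0, Int.ofNat 0, Int.ofNat 0, Int.ofNat 0, Int.ofNat 0, Int.ofNat 0, Int.ofNat 0, Int.ofNat 0, Int.ofNat 0, Int.ofNat 2, Int.negSucc 1, Int.ofNat 0, Int.ofNat 2, Int.ofNat 0, Int.negSucc 1],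
  [Int.negSucc 1, Int.ofNat 0, Int.negSucc 1, Int.negSucc 1, Int.ofNat 0, Int.ofNat 2, Int.ofNat 0, Int.ofNat 0, Int.ofNat 0, Int.ofNat 0, Int.ofNat 0, Int.negSucc 1, Int.negSucc 1, Int.ofNat 0, Int.ofNat 0, Int.ofNat 0, Int.ofNat 0, Int.ofNat 0, Int.ofNat 0, Int.negSucc 1, Int.ofNat 0, Int.ofNat 2, Int.ofNat 0, Int.ofNat 0],
  [Int.ofNat 0, Int.negSucc 1, Int.negSucc 1, Int.ofNat 0, Int.ofNat 2, Int.ofNat 0, Int.ofNat 0, Int.ofNat 0, Int.ofNat 0, Int.ofNat 0, Int.negSucc 1, Int.negSucc 1, Int.ofNat 0, Int.ofNat 0, Int.ofNat 0, Int.ofNat 0, Int.ofNat 0, Int.ofNat 0, Int.negSucc 1, Int.ofNat 0, Int.ofNat 2, Int.ofNat 0, Int.negSucc 1, Int.ofNat 0],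
  [Int.ofNat 0, Int.negSucc 1, Int.ofNat 2, Int.ofNat 0, Int.ofNat 2, Int.ofNat 0, Int.ofNat 0, Int.ofNat 0, Int.ofNat 0, Int.ofNat 0, Int.ofNat 2, Int.ofNat 2, Int.ofNat 0, Int.ofNat 0, Int.ofNat 0, Int.ofNat 0, Int.ofNat 0, Int.ofNat 0, Int.ofNat 2, Int.ofNat 0, Int.ofNat 2, Int.ofNat 0, Int.negSucc 1, Int.ofNat 0],
  [Int.ofNat 0, Int.ofNat 2, Int.negSucc 1, Int.ofNat 0, Int.negSucc 1, Int.ofNat 0, Int.ofNat 0, Int.ofNat 0, Int.ofNat 0, Int.ofNat 0, Int.ofNat 2, Int.ofNat 2, Int.ofNat 0, Int.ofNat 0, Int.ofNat 0, Int.ofNat 0, Int.ofNat 0, Int.ofNat 0, Int.negSucc 1, Int.ofNat 0, Int.ofNat 2, Int.ofNat 0, Int.negSucc 1, Int.ofNat 0],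
  [Int.ofNat 0, Int.negSucc 1, Int.ofNat 2, Int.ofNat 0, Int.ofNat 0, Int.ofNat 0, Int.ofNat 0, Int.ofNat 0, Int.ofNat 2, Int.ofNat 0, Int.ofNat 0, Int.negSucc 1, Int.ofNat 0, Int.ofNat 0, Int.negSucc 1, Int.ofNat 0, Int.ofNat 2, Int.negSucc 1, Int.ofNat 0, Int.ofNat 0, Int.ofNat 0, Int.ofNat 0, Int.ofNat 2, Int.ofNat 0],
  [Int.ofNat 0, Int.negSucc 1, Int.negSucc 1, Int.ofNat 0, Int.ofNat 0, Int.ofNat 0, Int.ofNat 0, Int.ofNat 0, Int.ofNat 2, Int.ofNat 0, Int.ofNat 0, Int.ofNat 2, Int.ofNat 0, Int.ofNat 0, Int.negSucc 1, Int.ofNat 0, Int.ofNat 2, Int.negSucc 1, Int.ofNat 0, Int.ofNat 0, Int.ofNat 0, Int.ofNat 0, Int.ofNat 2, Int.ofNat 0],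
  [Int.ofNat 2, Int.ofNat 0, Int.negSucc 1, Int.negSucc 1, Int.ofNat 0, Int.ofNat 0, Int.ofNat 0, Int.ofNat 0, Int.ofNat 0, Int.ofNat 2, Int.ofNat 0, Int.ofNat 0, Int.ofNat 2, Int.ofNat 0, Int.ofNat 0, Int.negSucc 1, Int.ofNat 0, Int.ofNat 2, Int.negSucc 1, Int.ofNat 0, Int.ofNat 0, Int.ofNat 0, Int.ofNat 0, Int.ofNat 0],
  [Int.negSucc 1, Int.ofNat 0, Int.ofNat 2, Int.negSucc 1, Int.ofNat 0, Int.ofNat 0, Int.ofNat 0, Int.ofNat 0, Int.ofNat 0, Int.ofNat 2, Int.ofNat 0, Int.ofNat 0, Int.ofNat 2, Int.ofNat 0, Int.ofNat 0, Int.negSucc 1, Int.ofNat 0, Int.ofNat 2, Int.negSucc 1, Int.ofNat 0, Int.ofNat 0, Int.ofNat 0, Int.ofNat 0, Int.ofNat 0],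
  [Int.negSucc 1, Int.ofNat 0, Int.ofNat 0, Int.ofNat 0, Int.ofNat 0, Int.ofNat 0, Int.ofNat 2, Int.ofNat 0, Int.ofNat 0, Int.ofNat 2, Int.ofNat 0, Int.ofNat 0, Int.negSucc 1, Int.ofNat 0, Int.ofNat 2, Int.negSucc 1, Int.ofNat 0, Int.ofNat 0, Int.ofNat 0, Int.ofNat 0, Int.negSucc 1, Int.ofNat 0, Int.ofNat 2, Int.ofNat 0],
  [Int.ofNat 1, Int.negSucc 0, Int.negSucc 0, Int.negSucc 0, Int.negSucc 0, Int.negSucc 0, Int.ofNat 1, Int.negSucc 0, Int.ofNat 1, Int.ofNat 3, Int.ofNat 1, Int.ofNat 1, Int.negSucc 0, Int.negSucc 0, Int.ofNat 1, Int.negSucc 0, Int.negSucc 0, Int.negSucc 0, Int.ofNat 1, Int.negSucc 0, Int.negSucc 0, Int.negSucc 0, Int.ofNat 1, Int.negSucc 0],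
  [Int.ofNat 1, Int.ofNat 1, Int.negSucc 0, Int.negSucc 0, Int.ofNat 1, Int.negSucc 0, Int.negSucc 0, Int.ofNat 1, Int.negSucc 0, Int.negSucc 0, Int.negSucc 0, Int.negSucc 0, Int.ofNat 3, Int.negSucc 0, Int.ofNat 1, Int.negSucc 0, Int.ofNat 1, Int.ofNat 1, Int.negSucc 0, Int.ofNat 1, Int.negSucc 0, Int.negSucc 0, Int.negSucc 0, Int.negSucc 0],
  [Int.negSucc 0, Int.negSucc 0, Int.ofNat 1, Int.negSucc 0, Int.ofNat 1, Int.negSucc 0, Int.negSucc 0, Int.ofNat 1, Int.negSucc 0, Int.ofNat 1, Int.ofNat 1, Int.negSucc 0, Int.ofNat 3, Int.negSucc 0, Int.ofNat 1, Int.ofNat 1, Int.ofNat 1, Int.ofNat 1, Int.negSucc 0, Int.ofNat 1, Int.ofNat 1, Int.negSucc 0, Int.negSucc 0, Int.ofNat 1],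
  [Int.negSucc 0, Int.negSucc 0, Int.negSucc 0, Int.negSucc 0, Int.ofNat 1, Int.ofNat 1, Int.ofNat 1, Int.ofNat 1, Int.negSucc 0, Int.negSucc 0, Int.negSucc 0, Int.negSucc 0, Int.ofNat 3, Int.negSucc 0, Int.ofNat 1, Int.negSucc 0, Int.ofNat 1, Int.ofNat 1, Int.ofNat 1, Int.ofNat 1, Int.ofNat 1, Int.negSucc 0, Int.ofNat 1, Int.ofNat 1],
  [Int.ofNat 1, Int.negSucc 0, Int.negSucc 0, Int.negSucc 0, Int.ofNat 1, Int.ofNat 1, Int.negSucc 0, Int.negSucc 0, Int.ofNat 3, Int.ofNat 1, Int.ofNat 1, Int.ofNat 1, Int.ofNat 1, Int.ofNat 1, Int.negSucc 0, Int.negSucc 0, Int.ofNat 1, Int.ofNat 1, Int.negSucc 0, Int.negSucc 0, Int.negSucc 0, Int.negSucc 0, Int.ofNat 1, Int.ofNat 1],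
  [Int.ofNat 1, Int.negSucc 0, Int.ofNat 1, Int.negSucc 0, Int.ofNat 1, Int.negSucc 0, Int.ofNat 1, Int.negSucc 0, Int.ofNat 3, Int.negSucc 0, Int.negSucc 0, Int.ofNat 1, Int.ofNat 1, Int.ofNat 1, Int.negSucc 0, Int.ofNat 1, Int.ofNat 1, Int.ofNat 1, Int.ofNat 1, Int.negSucc 0, Int.negSucc 0, Int.negSucc 0, Int.negSucc 0, Int.ofNat 1],
  [Int.ofNat 0, Int.ofNat 2, Int.ofNat 0, Int.ofNat 0, Int.ofNat 0, Int.ofNat 0, Int.ofNat 2, Int.ofNat 0, Int.ofNat 0, Int.ofNat 0, Int.ofNat 0, Int.negSucc 1, Int.negSucc 1, Int.ofNat 0, Int.ofNat 0, Int.ofNat 2, Int.ofNat 0, Int.ofNat 2, Int.negSucc 1, Int.ofNat 0, Int.ofNat 0, Int.ofNat 0, Int.negSucc 1, Int.ofNat 0],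
  [Int.ofNat 0, Int.negSucc 1, Int.ofNat 2, Int.ofNat 0, Int.ofNat 0, Int.ofNat 0, Int.ofNat 2, Int.ofNat 0, Int.ofNat 0, Int.negSucc 1, Int.ofNat 0, Int.ofNat 0, Int.ofNat 0, Int.ofNat 0, Int.ofNat 2, Int.ofNat 2, Int.ofNat 0, Int.negSucc 1, Int.ofNat 0, Int.negSucc 1, Int.ofNat 0, Int.ofNat 0, Int.ofNat 0, Int.ofNat 0],
  [Int.ofNat 0, Int.ofNat 2, Int.negSucc 1, Int.ofNat 0, Int.ofNat 0, Int.ofNat 0, Int.ofNat 2, Int.ofNat 0, Int.ofNat 0, Int.negSucc 1, Int.ofNat 0, Int.ofNat 0, Int.ofNat 0, Int.ofNat 0, Int.ofNat 2, Int.ofNat 2, Int.ofNat 0, Int.negSucc 1, Int.ofNat 0, Int.negSucc 1, Int.ofNat 0, Int.ofNat 0, Int.ofNat 0, Int.ofNat 0],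
  [Int.ofNat 0, Int.ofNat 0, Int.ofNat 0, Int.ofNat 0, Int.ofNat 2, Int.negSucc 1, Int.ofNat 0, Int.ofNat 0, Int.ofNat 0, Int.ofNat 2, Int.ofNat 0, Int.ofNat 0, Int.negSucc 1, Int.ofNat 0, Int.ofNat 0, Int.ofNat 0, Int.ofNat 0, Int.ofNat 2, Int.ofNat 2, Int.ofNat 0, Int.negSucc 1, Int.ofNat 0, Int.negSucc 1, Int.ofNat 0],
  [Int.ofNat 0, Int.ofNat 0, Int.ofNat 0, Int.ofNat 0, Int.ofNat 2, Int.negSucc 1, Int.ofNat 0, Int.ofNat 0, Int.ofNat 0, Int.ofNat 2, Int.ofNat 0, Int.ofNat 0, Int.negSucc 1, Int.ofNat 0, Int.ofNat 0, Int.ofNat 0, Int.ofNat 0, Int.ofNat 2, Int.ofNat 2, Int.ofNat 0, Int.negSucc 1, Int.ofNat 0, Int.negSucc 1, Int.ofNat 0],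
  [Int.ofNat 0, Int.ofNat 0, Int.ofNat 0, Int.ofNat 2, Int.negSucc 1, Int.ofNat 0, Int.ofNat 0, Int.ofNat 0, Int.ofNat 2, Int.ofNat 0, Int.ofNat 0, Int.negSucc 1, Int.ofNat 0, Int.ofNat 0, Int.ofNat 0, Int.ofNat 0, Int.ofNat 2, Int.ofNat 2, Int.ofNat 0, Int.negSucc 1, Int.ofNat 0, Int.negSucc 1, Int.ofNat 0, Int.ofNat 0],
  [Int.ofNat 0, Int.ofNat 0, Int.ofNat 0, Int.ofNat 2, Int.negSucc 1, Int.ofNat 0, Int.ofNat 0, Int.ofNat 0, Int.ofNat 2, Int.ofNat 0, Int.ofNat 0, Int.ofNat 2, Int.ofNat 0, Int.ofNat 0, Int.ofNat 0, Int.ofNat 0, Int.ofNat 2, Int.ofNat 2, Int.ofNat 0, Int.negSucc 1, Int.ofNat 0, Int.ofNat 2, Int.ofNat 0, Int.ofNat 0],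
  [Int.ofNat 0, Int.ofNat 0, Int.ofNat 0, Int.negSucc 1, Int.ofNat 2, Int.ofNat 0, Int.ofNat 0, Int.ofNat 0, Int.negSucc 1, Int.ofNat 0, Int.ofNat 0, Int.ofNat 2, Int.ofNat 0, Int.ofNat 0, Int.ofNat 0, Int.ofNat 0, Int.negSucc 1, Int.ofNat 2, Int.ofNat 0, Int.negSucc 1, Int.ofNat 0, Int.ofNat 2, Int.ofNat 0, Int.ofNat 0],
  [Int.ofNat 0, Int.ofNat 0, Int.ofNat 2, Int.ofNat 0, Int.ofNat 2, Int.ofNat 0, Int.negSucc 1, Int.ofNat 0, Int.ofNat 0, Int.ofNat 0, Int.negSucc 1, Int.ofNat 0, Int.ofNat 2, Int.ofNat 0, Int.ofNat 0, Int.negSucc 1, Int.ofNat 0, Int.ofNat 2, Int.ofNat 0, Int.ofNat 0, Int.negSucc 1, Int.ofNat 0, Int.ofNat 0, Int.ofNat 0],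
  [Int.ofNat 0, Int.ofNat 0, Int.negSucc 1, Int.ofNat 0, Int.ofNat 2, Int.ofNat 0, Int.negSucc 1, Int.ofNat 0, Int.ofNat 0, Int.ofNat 0, Int.ofNat 2, Int.ofNat 0, Int.ofNat 2, Int.ofNat 0, Int.ofNat 0, Int.negSucc 1, Int.ofNat 0, Int.ofNat 2, Int.ofNat 0, Int.ofNat 0, Int.negSucc 1, Int.ofNat 0, Int.ofNat 0, Int.ofNat 0],
  [Int.ofNat 0, Int.ofNat 0, Int.ofNat 0, Int.negSucc 1, Int.ofNat 0, Int.ofNat 2, Int.ofNat 0, Int.negSucc 1, Int.ofNat 0, Int.ofNat 0, Int.ofNat 0, Int.ofNat 2, Int.ofNat 0, Int.ofNat 2, Int.ofNat 0, Int.ofNat 0, Int.negSucc 1, Int.ofNat 0, Int.ofNat 2, Int.ofNat 0, Int.ofNat 0, Int.negSucc 1, Int.ofNat 0, Int.ofNat 0],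
  [Int.ofNat 0, Int.ofNat 0, Int.ofNat 0, Int.negSucc 1, Int.ofNat 0, Int.ofNat 2, Int.ofNat 2, Int.ofNat 0, Int.negSucc 1, Int.ofNat 0, Int.ofNat 0, Int.ofNat 0, Int.negSucc 1, Int.ofNat 2, Int.ofNat 0, Int.ofNat 0, Int.negSucc 1, Int.ofNat 0, Int.ofNat 0, Int.ofNat 2, Int.ofNat 0, Int.ofNat 0, Int.ofNat 0, Int.ofNat 0],
  [Int.negSucc 1, Int.ofNat 0, Int.ofNat 2, Int.ofNat 2, Int.ofNat 0, Int.negSucc 1, Int.ofNat 0, Int.ofNat 0, Int.ofNat 0, Int.negSucc 1, Int.ofNat 2, Int.ofNat 0, Int.ofNat 0, Int.negSucc 1, Int.ofNat 0, Int.ofNat 0, Int.ofNat 2, Int.ofNat 0, Int.ofNat 0, Int.ofNat 0, Int.ofNat 0, Int.ofNat 0, Int.ofNat 0, Int.ofNat 0],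
  [Int.ofNat 2, Int.ofNat 0, Int.negSucc 1, Int.ofNat 2, Int.ofNat 0, Int.negSucc 1, Int.ofNat 0, Int.ofNat 0, Int.ofNat 0, Int.negSucc 1, Int.ofNat 2, Int.ofNat 0, Int.ofNat 0, Int.negSucc 1, Int.ofNat 0, Int.ofNat 0, Int.ofNat 2, Int.ofNat 0, Int.ofNat 0, Int.ofNat 0, Int.ofNat 0, Int.ofNat 0, Int.ofNat 0, Int.ofNat 0],
  [Int.ofNat 2, Int.ofNat 0, Int.ofNat 0, Int.ofNat 2, Int.ofNat 0, Int.ofNat 0, Int.negSucc 1, Int.ofNat 2, Int.ofNat 0, Int.negSucc 1, Int.ofNat 0, Int.ofNat 0, Int.negSucc 1, Int.ofNat 2, Int.ofNat 0, Int.ofNat 0, Int.ofNat 0, Int.ofNat 0, Int.ofNat 0, Int.ofNat 0, Int.ofNat 0, Int.negSucc 1, Int.ofNat 0, Int.ofNat 0],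
  [Int.negSucc 0, Int.ofNat 1, Int.ofNat 1, Int.ofNat 1, Int.negSucc 0, Int.negSucc 0, Int.negSucc 0, Int.ofNat 3, Int.ofNat 1, Int.negSucc 0, Int.ofNat 1, Int.ofNat 1, Int.negSucc 0, Int.ofNat 1, Int.negSucc 0, Int.ofNat 1, Int.negSucc 0, Int.negSucc 0, Int.ofNat 1, Int.ofNat 1, Int.ofNat 1, Int.negSucc 0, Int.negSucc 0, Int.ofNat 1],
  [Int.negSucc 0, Int.ofNat 1, Int.negSucc 0, Int.ofNat 1, Int.negSucc 0, Int.ofNat 1, Int.ofNat 1, Int.ofNat 3, Int.ofNat 1, Int.ofNat 1, Int.negSucc 0, Int.ofNat 1, Int.negSucc 0, Int.ofNat 1, Int.negSucc 0, Int.negSucc 0, Int.negSucc 0, Int.negSucc 0, Int.negSucc 0, Int.ofNat 1, Int.ofNat 1, Int.negSucc 0, Int.ofNat 1, Int.ofNat 1],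
  [Int.ofNat 3, Int.negSucc 0, Int.ofNat 1, Int.ofNat 1, Int.negSucc 0, Int.ofNat 1, Int.negSucc 0, Int.ofNat 1, Int.negSucc 0, Int.ofNat 1, Int.negSucc 0, Int.ofNat 1, Int.ofNat 1, Int.negSucc 0, Int.ofNat 1, Int.ofNat 1, Int.negSucc 0, Int.ofNat 1, Int.negSucc 0, Int.ofNat 1, Int.negSucc 0, Int.negSucc 0, Int.negSucc 0, Int.ofNat 1],
  [Int.ofNat 3, Int.negSucc 0, Int.negSucc 0, Int.ofNat 1, Int.negSucc 0, Int.negSucc 0, Int.ofNat 1, Int.ofNat 1, Int.negSucc 0, Int.negSucc 0, Int.ofNat 1, Int.ofNat 1, Int.ofNat 1, Int.negSucc 0, Int.ofNat 1, Int.negSucc 0, Int.negSucc 0, Int.ofNat 1, Int.ofNat 1, Int.ofNat 1, Int.negSucc 0, Int.negSucc 0, Int.ofNat 1, Int.ofNat 1],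
  [Int.negSucc 1, Int.ofNat 2, Int.ofNat 2, Int.ofNat 0, Int.ofNat 0, Int.negSucc 1, Int.ofNat 0, Int.ofNat 0, Int.negSucc 1, Int.ofNat 0, Int.ofNat 2, Int.ofNat 0, Int.ofNat 0, Int.ofNat 0, Int.ofNat 0, Int.ofNat 0, Int.ofNat 0, Int.ofNat 0, Int.ofNat 0, Int.ofNat 0, Int.ofNat 0, Int.negSucc 1, Int.ofNat 2, Int.ofNat 0],
  [Int.negSucc 1, Int.ofNat 0, Int.ofNat 0, Int.ofNat 0, Int.ofNat 2, Int.negSucc 1, Int.ofNat 2, Int.negSucc 1, Int.ofNat 0, Int.ofNat 0, Int.ofNat 0, Int.ofNat 0, Int.negSucc 1, Int.ofNat 0, Int.ofNat 0, Int.ofNat 0, Int.ofNat 0, Int.ofNat 0, Int.ofNat 0, Int.ofNat 2, Int.ofNat 2, Int.ofNat 0, Int.ofNat 0, Int.ofNat 0],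
  [Int.ofNat 1, Int.negSucc 0, Int.negSucc 0, Int.ofNat 1, Int.ofNat 1, Int.negSucc 0, Int.ofNat 1, Int.negSucc 2, Int.ofNat 1, Int.negSucc 0, Int.negSucc 0, Int.ofNat 1, Int.negSucc 0, Int.negSucc 0, Int.ofNat 1, Int.negSucc 0, Int.negSucc 0, Int.ofNat 1, Int.ofNat 1, Int.ofNat 1, Int.ofNat 1, Int.negSucc 0, Int.negSucc 0, Int.negSucc 0],
  [Int.ofNat 1, Int.negSucc 0, Int.negSucc 0, Int.ofNat 1, Int.negSucc 0, Int.negSucc 0, Int.ofNat 1, Int.ofNat 1, Int.negSucc 0, Int.ofNat 1, Int.negSucc 2, Int.ofNat 1, Int.negSucc 0, Int.negSucc 0, Int.ofNat 1, Int.negSucc 0, Int.negSucc 0, Int.ofNat 1, Int.negSucc 0, Int.negSucc 0, Int.ofNat 1, Int.ofNat 1, Int.ofNat 1, Int.negSucc 0],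
  [Int.negSucc 1, Int.ofNat 0, Int.ofNat 0, Int.ofNat 0, Int.ofNat 0, Int.negSucc 1, Int.ofNat 0, Int.ofNat 0, Int.ofNat 0, Int.ofNat 2, Int.negSucc 1, Int.ofNat 2, Int.ofNat 0, Int.ofNat 0, Int.ofNat 0, Int.ofNat 0, Int.ofNat 0, Int.ofNat 0, Int.ofNat 0, Int.negSucc 1, Int.ofNat 2, Int.ofNat 0, Int.ofNat 2, Int.ofNat 0],
  [Int.ofNat 0, Int.ofNat 0, Int.ofNat 0, Int.ofNat 0, Int.negSucc 1, Int.ofNat 0, Int.ofNat 0, Int.ofNat 0, Int.ofNat 2, Int.negSucc 1, Int.ofNat 2, Int.ofNat 0, Int.ofNat 0, Int.ofNat 0, Int.ofNat 0, Int.ofNat 0, Int.ofNat 0, Int.ofNat 0, Int.negSucc 1, Int.ofNat 2, Int.ofNat 0, Int.ofNat 2, Int.negSucc 1, Int.ofNat 0],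
  [Int.ofNat 0, Int.ofNat 0, Int.ofNat 0, Int.ofNat 0, Int.negSucc 1, Int.ofNat 0, Int.ofNat 0, Int.ofNat 0, Int.ofNat 2, Int.ofNat 2, Int.negSucc 1, Int.ofNat 0, Int.ofNat 0, Int.ofNat 0, Int.ofNat 0, Int.ofNat 0, Int.ofNat 0, Int.ofNat 0, Int.ofNat 2, Int.ofNat 2, Int.ofNat 0, Int.negSucc 1, Int.negSucc 1, Int.ofNat 0],
  [Int.ofNat 0, Int.ofNat 0, Int.ofNat 0, Int.ofNat 0, Int.ofNat 2, Int.ofNat 0, Int.ofNat 0, Int.ofNat 0, Int.negSucc 1, Int.negSucc 1, Int.negSucc 1, Int.ofNat 0, Int.ofNat 0, Int.ofNat 0, Int.ofNat 0, Int.ofNat 0, Int.ofNat 0, Int.ofNat 0, Int.negSucc 1, Int.ofNat 2, Int.ofNat 0, Int.negSucc 1, Int.negSucc 1, Int.ofNat 0],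
  [Int.ofNat 0, Int.negSucc 1, Int.ofNat 0, Int.ofNat 0, Int.ofNat 0, Int.negSucc 1, Int.ofNat 2, Int.ofNat 0, Int.ofNat 0, Int.ofNat 0, Int.ofNat 0, Int.ofNat 0, Int.negSucc 1, Int.ofNat 0, Int.negSucc 1, Int.ofNat 0, Int.negSucc 1, Int.ofNat 2, Int.ofNat 0, Int.ofNat 0, Int.negSucc 1, Int.ofNat 0, Int.ofNat 0, Int.ofNat 0],
  [Int.ofNat 0, Int.negSucc 1, Int.ofNat 0, Int.ofNat 0, Int.ofNat 0, Int.negSucc 1, Int.ofNat 2, Int.ofNat 0, Int.ofNat 0, Int.ofNat 0, Int.ofNat 0, Int.ofNat 0, Int.negSucc 1, Int.ofNat 0, Int.negSucc 1, Int.ofNat 0, Int.negSucc 1, Int.ofNat 2, Int.ofNat 0, Int.ofNat 0, Int.negSucc 1, Int.ofNat 0, Int.ofNat 0, Int.ofNat 0],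
  [Int.ofNat 0, Int.ofNat 0, Int.negSucc 1, Int.ofNat 0, Int.ofNat 0, Int.ofNat 0, Int.negSucc 1, Int.ofNat 2, Int.ofNat 0, Int.ofNat 0, Int.ofNat 0, Int.ofNat 0, Int.ofNat 0, Int.negSucc 1, Int.ofNat 0, Int.negSucc 1, Int.ofNat 0, Int.negSucc 1, Int.ofNat 2, Int.ofNat 0, Int.ofNat 0, Int.negSucc 1, Int.ofNat 0, Int.ofNat 0],
  [Int.negSucc 0, Int.negSucc 0, Int.ofNat 1, Int.ofNat 1, Int.ofNat 1, Int.ofNat 1, Int.negSucc 0, Int.ofNat 3, Int.negSucc 0, Int.ofNat 1, Int.ofNat 1, Int.negSucc 0, Int.negSucc 0, Int.negSucc 0, Int.ofNat 1, Int.negSucc 0, Int.ofNat 1, Int.negSucc 0, Int.ofNat 1, Int.ofNat 1, Int.ofNat 1, Int.negSucc 0, Int.ofNat 1, Int.negSucc 0],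
  [Int.ofNat 1, Int.ofNat 1, Int.ofNat 1, Int.negSucc 0, Int.ofNat 3, Int.negSucc 0, Int.ofNat 1, Int.ofNat 1, Int.negSucc 0, Int.negSucc 0, Int.negSucc 0, Int.ofNat 1, Int.negSucc 0, Int.ofNat 1, Int.negSucc 0, Int.ofNat 1, Int.ofNat 1, Int.ofNat 1, Int.negSucc 0, Int.ofNat 1, Int.negSucc 0, Int.negSucc 0, Int.ofNat 1, Int.negSucc 0],
  [Int.ofNat 0, Int.ofNat 0, Int.ofNat 0, Int.ofNat 0, Int.ofNat 0, Int.ofNat 0, Int.ofNat 0, Int.ofNat 0, Int.ofNat 0, Int.ofNat 0, Int.ofNat 0, Int.ofNat 2, Int.ofNat 0, Int.negSucc 1, Int.ofNat 0, Int.ofNat 2, Int.negSucc 1, Int.ofNat 2, Int.ofNat 0, Int.ofNat 0, Int.ofNat 0, Int.negSucc 1, Int.negSucc 1, Int.ofNat 2],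
  [Int.ofNat 0, Int.ofNat 0, Int.ofNat 0, Int.ofNat 0, Int.ofNat 0, Int.ofNat 0, Int.ofNat 0, Int.ofNat 0, Int.ofNat 0, Int.negSucc 1, Int.ofNat 0, Int.ofNat 2, Int.ofNat 0, Int.negSucc 1, Int.negSucc 1, Int.ofNat 2, Int.ofNat 0, Int.ofNat 0, Int.ofNat 0, Int.ofNat 2, Int.negSucc 1, Int.ofNat 0, Int.ofNat 0, Int.ofNat 2],
  [Int.ofNat 1, Int.ofNat 1, Int.ofNat 1, Int.ofNat 1, Int.ofNat 1, Int.ofNat 1, Int.negSucc 0, Int.negSucc 0, Int.negSucc 0, Int.negSucc 0, Int.ofNat 1, Int.ofNat 1, Int.negSucc 0, Int.negSucc 0, Int.negSucc 0, Int.ofNat 3, Int.ofNat 1, Int.ofNat 1, Int.negSucc 0, Int.ofNat 1, Int.negSucc 0, Int.negSucc 0, Int.ofNat 1, Int.negSucc 0],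
  [Int.ofNat 1, Int.ofNat 1, Int.negSucc 0, Int.ofNat 1, Int.ofNat 1, Int.negSucc 0, Int.ofNat 1, Int.negSucc 0, Int.negSucc 0, Int.ofNat 1, Int.negSucc 0, Int.ofNat 1, Int.negSucc 0, Int.negSucc 0, Int.negSucc 0, Int.negSucc 2, Int.ofNat 1, Int.ofNat 1, Int.ofNat 1, Int.ofNat 1, Int.negSucc 0, Int.negSucc 0, Int.negSucc 0, Int.negSucc 0],
  [Int.negSucc 0, Int.negSucc 2, Int.negSucc 0, Int.ofNat 1, Int.negSucc 0, Int.negSucc 0, Int.negSucc 0, Int.ofNat 1, Int.negSucc 0, Int.negSucc 0, Int.ofNat 1, Int.ofNat 1, Int.negSucc 0, Int.ofNat 1, Int.ofNat 1, Int.negSucc 0, Int.ofNat 1, Int.ofNat 1, Int.negSucc 0, Int.ofNat 1, Int.negSucc 0, Int.ofNat 1, Int.ofNat 1, Int.negSucc 0],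
  [Int.negSucc 0, Int.negSucc 2, Int.ofNat 1, Int.ofNat 1, Int.negSucc 0, Int.ofNat 1, Int.ofNat 1, Int.ofNat 1, Int.negSucc 0, Int.ofNat 1, Int.negSucc 0, Int.ofNat 1, Int.negSucc 0, Int.ofNat 1, Int.ofNat 1, Int.ofNat 1, Int.ofNat 1, Int.ofNat 1, Int.ofNat 1, Int.ofNat 1, Int.negSucc 0, Int.ofNat 1, Int.negSucc 0, Int.negSucc 0],
  [Int.negSucc 0, Int.ofNat 1, Int.negSucc 2, Int.negSucc 0, Int.negSucc 0, Int.negSucc 0, Int.negSucc 0, Int.negSucc 0, Int.negSucc 0, Int.ofNat 1, Int.negSucc 0, Int.ofNat 1, Int.negSucc 0, Int.ofNat 1, Int.negSucc 0, Int.ofNat 1, Int.ofNat 1, Int.negSucc 0, Int.ofNat 1, Int.negSucc 0, Int.negSucc 0, Int.negSucc 0, Int.negSucc 0, Int.negSucc 0],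
  [Int.negSucc 0, Int.ofNat 1, Int.negSucc 0, Int.negSucc 0, Int.negSucc 2, Int.negSucc 0, Int.ofNat 1, Int.negSucc 0, Int.ofNat 1, Int.negSucc 0, Int.negSucc 0, Int.negSucc 0, Int.negSucc 0, Int.ofNat 1, Int.negSucc 0, Int.ofNat 1, Int.ofNat 1, Int.ofNat 1, Int.negSucc 0, Int.negSucc 0, Int.negSucc 0, Int.negSucc 0, Int.negSucc 0, Int.negSucc 0],
  [Int.ofNat 0, Int.negSucc 1, Int.ofNat 0, Int.ofNat 0, Int.negSucc 1, Int.ofNat 0, Int.ofNat 2, Int.ofNat 0, Int.ofNat 2, Int.ofNat 0, Int.ofNat 0, Int.ofNat 0, Int.ofNat 0, Int.ofNat 2, Int.ofNat 0, Int.ofNat 2, Int.ofNat 2, Int.ofNat 2, Int.ofNat 0, Int.ofNat 0, Int.ofNat 0, Int.ofNat 0, Int.ofNat 0, Int.ofNat 0],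
  [Int.ofNat 0, Int.ofNat 0, Int.ofNat 0, Int.ofNat 0, Int.negSucc 1, Int.ofNat 0, Int.ofNat 0, Int.negSucc 1, Int.ofNat 0, Int.ofNat 2, Int.ofNat 0, Int.ofNat 2, Int.ofNat 0, Int.ofNat 0, Int.ofNat 0, Int.ofNat 0, Int.ofNat 2, Int.ofNat 0, Int.ofNat 2, Int.ofNat 2, Int.ofNat 2, Int.ofNat 0, Int.ofNat 0, Int.ofNat 0],
  [Int.ofNat 0, Int.ofNat 0, Int.ofNat 0, Int.ofNat 0, Int.negSucc 1, Int.ofNat 0, Int.ofNat 0, Int.negSucc 1, Int.negSucc 1, Int.ofNat 0, Int.negSucc 1, Int.ofNat 0, Int.negSucc 1, Int.ofNat 0, Int.ofNat 0, Int.negSucc 1, Int.ofNat 2, Int.ofNat 0, Int.ofNat 0, Int.ofNat 2, Int.ofNat 0, Int.ofNat 0, Int.ofNat 0, Int.ofNat 0],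
  [Int.ofNat 0, Int.ofNat 0, Int.ofNat 0, Int.negSucc 1, Int.ofNat 0, Int.ofNat 0, Int.negSucc 1, Int.negSucc 1, Int.ofNat 0, Int.negSucc 1, Int.ofNat 0, Int.negSucc 1, Int.ofNat 0, Int.ofNat 0, Int.negSucc 1, Int.ofNat 2, Int.ofNat 0, Int.ofNat 0, Int.ofNat 2, Int.ofNat 0, Int.ofNat 0, Int.ofNat 0, Int.ofNat 0, Int.ofNat 0],
  [Int.ofNat 0, Int.ofNat 0, Int.ofNat 0, Int.negSucc 1, Int.ofNat 0, Int.ofNat 0, Int.negSucc 1, Int.ofNat 2, Int.ofNat 0, Int.ofNat 2, Int.ofNat 0, Int.ofNat 2, Int.ofNat 0, Int.ofNat 0, Int.negSucc 1, Int.ofNat 2, Int.ofNat 0, Int.ofNat 0, Int.negSucc 1, Int.ofNat 0, Int.ofNat 0, Int.ofNat 0, Int.ofNat 0, Int.ofNat 0],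
  [Int.ofNat 0, Int.ofNat 0, Int.ofNat 0, Int.ofNat 2, Int.ofNat 0, Int.ofNat 0, Int.ofNat 2, Int.ofNat 2, Int.ofNat 0, Int.negSucc 1, Int.ofNat 0, Int.ofNat 2, Int.ofNat 0, Int.ofNat 0, Int.negSucc 1, Int.ofNat 2, Int.ofNat 0, Int.ofNat 0, Int.ofNat 2, Int.ofNat 0, Int.ofNat 0, Int.ofNat 0, Int.ofNat 0, Int.ofNat 0],
  [Int.ofNat 0, Int.ofNat 0, Int.ofNat 2, Int.ofNat 2, Int.ofNat 0, Int.negSucc 1, Int.ofNat 0, Int.ofNat 0, Int.ofNat 0, Int.ofNat 0, Int.ofNat 0, Int.ofNat 0, Int.ofNat 0, Int.ofNat 2, Int.ofNat 2, Int.ofNat 2, Int.ofNat 0, Int.ofNat 0, Int.negSucc 1, Int.ofNat 2, Int.ofNat 0, Int.ofNat 0, Int.ofNat 0, Int.ofNat 0],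
  [Int.ofNat 0, Int.ofNat 0, Int.negSucc 1, Int.ofNat 2, Int.ofNat 0, Int.negSucc 1, Int.ofNat 0, Int.ofNat 0, Int.ofNat 0, Int.ofNat 0, Int.ofNat 0, Int.ofNat 0, Int.ofNat 0, Int.ofNat 2, Int.ofNat 2, Int.ofNat 2, Int.ofNat 0, Int.ofNat 0, Int.ofNat 2, Int.ofNat 2, Int.ofNat 0, Int.ofNat 0, Int.ofNat 0, Int.ofNat 0],
  [Int.ofNat 0, Int.ofNat 0, Int.ofNat 0, Int.negSucc 1, Int.ofNat 2, Int.ofNat 0, Int.negSucc 1, Int.ofNat 0, Int.ofNat 0, Int.ofNat 0, Int.ofNat 0, Int.ofNat 0, Int.ofNat 0, Int.ofNat 0, Int.ofNat 2, Int.ofNat 2, Int.ofNat 2, Int.ofNat 0, Int.ofNat 0, Int.ofNat 2, Int.ofNat 2, Int.ofNat 0, Int.ofNat 0, Int.ofNat 0],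
  [Int.ofNat 0, Int.ofNat 0, Int.ofNat 0, Int.negSucc 1, Int.ofNat 0, Int.ofNat 0, Int.negSucc 1, Int.ofNat 0, Int.ofNat 0, Int.negSucc 1, Int.negSucc 1, Int.ofNat 0, Int.ofNat 0, Int.negSucc 1, Int.ofNat 2, Int.ofNat 0, Int.ofNat 0, Int.ofNat 0, Int.ofNat 0, Int.ofNat 2, Int.ofNat 0, Int.ofNat 0, Int.negSucc 1, Int.ofNat 0],
  [Int.negSucc 1, Int.ofNat 0, Int.ofNat 0, Int.negSucc 1, Int.ofNat 0, Int.ofNat 0, Int.negSucc 1, Int.negSucc 1, Int.ofNat 0, Int.ofNat 0, Int.negSucc 1, Int.ofNat 2, Int.ofNat 0, Int.ofNat 0, Int.ofNat 0, Int.ofNat 0, Int.ofNat 2, Int.ofNat 0, Int.ofNat 0, Int.negSucc 1, Int.ofNat 0, Int.ofNat 0, Int.ofNat 0, Int.ofNat 0],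
  [Int.ofNat 1, Int.negSucc 0, Int.negSucc 0, Int.negSucc 0, Int.negSucc 0, Int.ofNat 1, Int.ofNat 1, Int.ofNat 1, Int.negSucc 0, Int.ofNat 1, Int.negSucc 0, Int.ofNat 1, Int.negSucc 0, Int.negSucc 0, Int.ofNat 1, Int.ofNat 1, Int.ofNat 1, Int.ofNat 1, Int.negSucc 0, Int.ofNat 1, Int.ofNat 1, Int.ofNat 3, Int.negSucc 0, Int.negSucc 0],
  [Int.ofNat 1, Int.ofNat 1, Int.negSucc 0, Int.negSucc 0, Int.negSucc 0, Int.ofNat 1, Int.negSucc 0, Int.negSucc 0, Int.negSucc 0, Int.negSucc 0, Int.ofNat 1, Int.ofNat 1, Int.ofNat 1, Int.ofNat 1, Int.negSucc 0, Int.ofNat 1, Int.negSucc 0, Int.ofNat 1, Int.negSucc 0, Int.ofNat 1, Int.ofNat 3, Int.ofNat 1, Int.ofNat 1, Int.negSucc 0],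
  [Int.negSucc 0, Int.negSucc 0, Int.ofNat 1, Int.negSucc 0, Int.negSucc 0, Int.ofNat 1, Int.negSucc 0, Int.negSucc 0, Int.negSucc 0, Int.negSucc 2, Int.negSucc 0, Int.ofNat 1, Int.ofNat 1, Int.ofNat 1, Int.negSucc 0, Int.negSucc 0, Int.negSucc 0, Int.ofNat 1, Int.negSucc 0, Int.ofNat 1, Int.ofNat 1, Int.ofNat 1, Int.ofNat 1, Int.ofNat 1],
  [Int.negSucc 0, Int.negSucc 0, Int.negSucc 0, Int.negSucc 0, Int.negSucc 0, Int.negSucc 0, Int.ofNat 1, Int.negSucc 0, Int.negSucc 0, Int.ofNat 3, Int.ofNat 1, Int.ofNat 1, Int.ofNat 1, Int.ofNat 1, Int.negSucc 0, Int.ofNat 1, Int.negSucc 0, Int.ofNat 1, Int.ofNat 1, Int.ofNat 1, Int.ofNat 1, Int.ofNat 1, Int.negSucc 0, Int.ofNat 1],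
  [Int.negSucc 0, Int.ofNat 1, Int.ofNat 1, Int.negSucc 0, Int.negSucc 0, Int.negSucc 0, Int.negSucc 0, Int.ofNat 1, Int.ofNat 1, Int.ofNat 1, Int.ofNat 1, Int.ofNat 1, Int.negSucc 0, Int.negSucc 0, Int.ofNat 3, Int.negSucc 0, Int.ofNat 1, Int.ofNat 1, Int.ofNat 1, Int.negSucc 0, Int.ofNat 1, Int.negSucc 0, Int.negSucc 0, Int.ofNat 1],
  [Int.negSucc 0, Int.ofNat 1, Int.negSucc 0, Int.negSucc 0, Int.negSucc 0, Int.ofNat 1, Int.ofNat 1, Int.ofNat 1, Int.ofNat 1, Int.negSucc 0, Int.negSucc 0, Int.ofNat 1, Int.negSucc 0, Int.negSucc 0, Int.ofNat 3, Int.ofNat 1, Int.ofNat 1, Int.ofNat 1, Int.negSucc 0, Int.negSucc 0, Int.ofNat 1, Int.negSucc 0, Int.ofNat 1, Int.ofNat 1],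
  [Int.ofNat 1, Int.negSucc 0, Int.ofNat 1, Int.negSucc 2, Int.negSucc 0, Int.negSucc 0, Int.ofNat 1, Int.ofNat 1, Int.ofNat 1, Int.negSucc 0, Int.negSucc 0, Int.ofNat 1, Int.negSucc 0, Int.negSucc 0, Int.ofNat 1, Int.ofNat 1, Int.ofNat 1, Int.negSucc 0, Int.negSucc 0, Int.negSucc 0, Int.ofNat 1, Int.negSucc 0, Int.ofNat 1, Int.negSucc 0],
  [Int.ofNat 1, Int.negSucc 0, Int.ofNat 1, Int.negSucc 2, Int.ofNat 1, Int.negSucc 0, Int.negSucc 0, Int.negSucc 0, Int.ofNat 1, Int.negSucc 0, Int.ofNat 1, Int.negSucc 0, Int.ofNat 1, Int.negSucc 0, Int.negSucc 0, Int.ofNat 1, Int.negSucc 0, Int.ofNat 1, Int.negSucc 0, Int.ofNat 1, Int.negSucc 0, Int.ofNat 1, Int.ofNat 1, Int.negSucc 0],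
  [Int.negSucc 0, Int.ofNat 1, Int.negSucc 0, Int.negSucc 0, Int.ofNat 1, Int.ofNat 1, Int.negSucc 0, Int.negSucc 0, Int.ofNat 1, Int.negSucc 0, Int.ofNat 1, Int.negSucc 0, Int.ofNat 1, Int.negSucc 0, Int.ofNat 1, Int.ofNat 1, Int.negSucc 0, Int.ofNat 3, Int.negSucc 0, Int.ofNat 1, Int.negSucc 0, Int.ofNat 1, Int.ofNat 1, Int.ofNat 1],
  [Int.negSucc 0, Int.ofNat 1, Int.ofNat 1, Int.negSucc 0, Int.ofNat 1, Int.negSucc 0, Int.negSucc 0, Int.ofNat 1, Int.ofNat 1, Int.negSucc 0, Int.negSucc 0, Int.ofNat 1, Int.negSucc 0, Int.ofNat 1, Int.negSucc 0, Int.ofNat 1, Int.negSucc 0, Int.ofNat 1, Int.ofNat 1, Int.negSucc 0, Int.ofNat 3, Int.negSucc 0, Int.ofNat 1, Int.ofNat 1],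
  [Int.ofNat 2, Int.ofNat 0, Int.ofNat 0, Int.ofNat 0, Int.ofNat 0, Int.ofNat 0, Int.ofNat 0, Int.ofNat 2, Int.ofNat 0, Int.negSucc 1, Int.negSucc 1, Int.ofNat 0, Int.negSucc 1, Int.ofNat 0, Int.ofNat 0, Int.ofNat 0, Int.negSucc 1, Int.ofNat 2, Int.ofNat 0, Int.ofNat 0, Int.ofNat 2, Int.ofNat 0, Int.ofNat 0, Int.ofNat 0],
  [Int.ofNat 0, Int.ofNat 0, Int.ofNat 0, Int.ofNat 0, Int.ofNat 0, Int.ofNat 0, Int.ofNat 2, Int.ofNat 0, Int.negSucc 1, Int.negSucc 1, Int.ofNat 0, Int.negSucc 1, Int.ofNat 0, Int.ofNat 0, Int.ofNat 0, Int.negSucc 1, Int.ofNat 2, Int.ofNat 0, Int.ofNat 0, Int.ofNat 2, Int.ofNat 0, Int.ofNat 0, Int.ofNat 2, Int.ofNat 0],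
  [Int.ofNat 0, Int.ofNat 0, Int.ofNat 0, Int.ofNat 0, Int.ofNat 0, Int.ofNat 0, Int.ofNat 2, Int.ofNat 0, Int.negSucc 1, Int.ofNat 2, Int.ofNat 0, Int.ofNat 2, Int.ofNat 0, Int.ofNat 0, Int.ofNat 0, Int.negSucc 1, Int.ofNat 2, Int.ofNat 0, Int.ofNat 0, Int.ofNat 2, Int.ofNat 0, Int.ofNat 0, Int.ofNat 2, Int.ofNat 0],
  [Int.ofNat 0, Int.ofNat 0, Int.ofNat 0, Int.ofNat 0, Int.ofNat 0, Int.ofNat 0, Int.negSucc 1, Int.ofNat 0, Int.ofNat 2, Int.negSucc 1, Int.ofNat 0, Int.ofNat 2, Int.ofNat 0, Int.ofNat 0, Int.ofNat 0, Int.negSucc 1, Int.negSucc 1, Int.ofNat 0, Int.ofNat 0, Int.ofNat 2, Int.ofNat 0, Int.ofNat 0, Int.ofNat 2, Int.ofNat 0],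
  [Int.ofNat 0, Int.ofNat 2, Int.ofNat 2, Int.negSucc 1, Int.ofNat 0, Int.negSucc 1, Int.ofNat 2, Int.ofNat 0, Int.ofNat 0, Int.ofNat 0, Int.negSucc 1, Int.ofNat 0, Int.ofNat 0, Int.ofNat 0, Int.ofNat 0, Int.ofNat 0, Int.ofNat 0, Int.ofNat 0, Int.ofNat 0, Int.negSucc 1, Int.ofNat 2, Int.ofNat 0, Int.ofNat 0, Int.ofNat 0],
  [Int.ofNat 0, Int.ofNat 2, Int.negSucc 1, Int.negSucc 1, Int.ofNat 0, Int.negSucc 1, Int.ofNat 2, Int.ofNat 0, Int.ofNat 0, Int.ofNat 0, Int.ofNat 2, Int.ofNat 0, Int.ofNat 0, Int.ofNat 0, Int.ofNat 0, Int.ofNat 0, Int.ofNat 0, Int.ofNat 0, Int.ofNat 0, Int.negSucc 1, Int.ofNat 2, Int.ofNat 0, Int.ofNat 0, Int.ofNat 0],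
  [Int.ofNat 0, Int.ofNat 0, Int.ofNat 2, Int.negSucc 1, Int.negSucc 1, Int.ofNat 0, Int.negSucc 1, Int.ofNat 2, Int.ofNat 0, Int.ofNat 0, Int.ofNat 0, Int.ofNat 2, Int.ofNat 0, Int.ofNat 0, Int.ofNat 0, Int.ofNat 0, Int.ofNat 0, Int.ofNat 0, Int.ofNat 0, Int.ofNat 0, Int.negSucc 1, Int.ofNat 2, Int.ofNat 0, Int.ofNat 0],
  [Int.ofNat 1, Int.ofNat 1, Int.negSucc 0, Int.negSucc 0, Int.negSucc 0, Int.ofNat 1, Int.negSucc 2, Int.ofNat 1, Int.negSucc 0, Int.ofNat 1, Int.ofNat 1, Int.ofNat 1, Int.negSucc 0, Int.ofNat 1, Int.ofNat 1, Int.ofNat 1, Int.ofNat 1, Int.ofNat 1, Int.negSucc 0, Int.negSucc 0, Int.negSucc 0, Int.ofNat 1, Int.ofNat 1, Int.ofNat 1],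
  [Int.negSucc 0, Int.negSucc 0, Int.ofNat 1, Int.negSucc 2, Int.ofNat 1, Int.negSucc 0, Int.ofNat 1, Int.ofNat 1, Int.ofNat 1, Int.negSucc 0, Int.ofNat 1, Int.ofNat 1, Int.ofNat 1, Int.ofNat 1, Int.ofNat 1, Int.negSucc 0, Int.negSucc 0, Int.negSucc 0, Int.ofNat 1, Int.ofNat 1, Int.ofNat 1, Int.ofNat 1, Int.negSucc 0, Int.ofNat 1],
  [Int.ofNat 1, Int.ofNat 1, Int.negSucc 0, Int.negSucc 0, Int.ofNat 1, Int.ofNat 1, Int.negSucc 0, Int.negSucc 0, Int.negSucc 0, Int.negSucc 0, Int.ofNat 1, Int.negSucc 0, Int.negSucc 0, Int.ofNat 1, Int.ofNat 3, Int.negSucc 0, Int.negSucc 0, Int.ofNat 1, Int.negSucc 0, Int.negSucc 0, Int.ofNat 1, Int.negSucc 0, Int.negSucc 0, Int.negSucc 0],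
  [Int.ofNat 1, Int.negSucc 0, Int.ofNat 1, Int.negSucc 0, Int.negSucc 0, Int.negSucc 0, Int.negSucc 0, Int.ofNat 1, Int.negSucc 0, Int.ofNat 1, Int.ofNat 1, Int.ofNat 1, Int.negSucc 0, Int.negSucc 0, Int.negSucc 0, Int.negSucc 0, Int.negSucc 0, Int.ofNat 3, Int.ofNat 1, Int.negSucc 0, Int.negSucc 0, Int.ofNat 1, Int.negSucc 0, Int.negSucc 0],
  [Int.negSucc 0, Int.ofNat 1, Int.negSucc 0, Int.negSucc 0, Int.ofNat 1, Int.negSucc 0, Int.negSucc 0, Int.ofNat 1, Int.negSucc 0, Int.ofNat 1, Int.ofNat 1, Int.ofNat 1, Int.negSucc 0, Int.ofNat 1, Int.negSucc 0, Int.negSucc 0, Int.ofNat 1, Int.ofNat 3, Int.ofNat 1, Int.negSucc 0, Int.negSucc 0, Int.ofNat 1, Int.ofNat 1, Int.ofNat 1],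
  [Int.negSucc 0, Int.ofNat 1, Int.ofNat 1, Int.negSucc 0, Int.ofNat 1, Int.ofNat 1, Int.ofNat 1, Int.ofNat 1, Int.negSucc 0, Int.negSucc 0, Int.negSucc 0, Int.ofNat 1, Int.negSucc 0, Int.ofNat 1, Int.negSucc 0, Int.ofNat 1, Int.ofNat 1, Int.ofNat 3, Int.negSucc 0, Int.negSucc 0, Int.negSucc 0, Int.ofNat 1, Int.negSucc 0, Int.ofNat 1],
  [Int.ofNat 1, Int.ofNat 1, Int.ofNat 1, Int.ofNat 1, Int.negSucc 0, Int.negSucc 0, Int.ofNat 1, Int.ofNat 1, Int.negSucc 0, Int.negSucc 0, Int.ofNat 3, Int.negSucc 0, Int.ofNat 1, Int.ofNat 1, Int.negSucc 0, Int.negSucc 0, Int.negSucc 0, Int.ofNat 1, Int.ofNat 1, Int.negSucc 0, Int.negSucc 0, Int.negSucc 0, Int.ofNat 1, Int.ofNat 1],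
  [Int.ofNat 1, Int.ofNat 1, Int.negSucc 0, Int.ofNat 1, Int.negSucc 0, Int.ofNat 1, Int.negSucc 0, Int.ofNat 1, Int.negSucc 0, Int.ofNat 1, Int.negSucc 2, Int.negSucc 0, Int.ofNat 1, Int.ofNat 1, Int.negSucc 0, Int.ofNat 1, Int.negSucc 0, Int.ofNat 1, Int.negSucc 0, Int.negSucc 0, Int.negSucc 0, Int.negSucc 0, Int.negSucc 0, Int.ofNat 1],
  [Int.ofNat 0, Int.ofNat 0, Int.ofNat 2, Int.ofNat 0, Int.ofNat 0, Int.ofNat 0, Int.ofNat 0, Int.ofNat 2, Int.ofNat 0, Int.ofNat 2, Int.negSucc 1, Int.ofNat 0, Int.ofNat 2, Int.ofNat 2, Int.negSucc 1, Int.ofNat 2, Int.ofNat 0, Int.ofNat 0, Int.ofNat 0, Int.ofNat 0, Int.ofNat 0, Int.ofNat 0, Int.ofNat 0, Int.ofNat 0],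
  [Int.ofNat 0, Int.ofNat 0, Int.ofNat 0, Int.ofNat 0, Int.ofNat 2, Int.ofNat 0, Int.ofNat 0, Int.ofNat 0, Int.ofNat 0, Int.ofNat 2, Int.ofNat 2, Int.ofNat 0, Int.ofNat 0, Int.ofNat 2, Int.ofNat 0, Int.ofNat 2, Int.ofNat 2, Int.ofNat 0, Int.ofNat 0, Int.ofNat 0, Int.negSucc 1, Int.ofNat 0, Int.negSucc 1, Int.ofNat 0],
  [Int.ofNat 0, Int.ofNat 0, Int.ofNat 0, Int.ofNat 0, Int.ofNat 0, Int.ofNat 0, Int.ofNat 0, Int.ofNat 0, Int.ofNat 0, Int.ofNat 0, Int.ofNat 0, Int.ofNat 0, Int.ofNat 0, Int.ofNat 0, Int.ofNat 0, Int.ofNat 0, Int.ofNat 0, Int.ofNat 0, Int.ofNat 0, Int.ofNat 0, Int.negSucc 3, Int.ofNat 0, Int.negSucc 3, Int.ofNat 0],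
  [Int.negSucc 3, Int.ofNat 0, Int.negSucc 3, Int.ofNat 0, Int.ofNat 0, Int.ofNat 0, Int.ofNat 0, Int.ofNat 0, Int.ofNat 0, Int.ofNat 0, Int.ofNat 0, Int.ofNat 0, Int.ofNat 0, Int.ofNat 0, Int.ofNat 0, Int.ofNat 0, Int.ofNat 0, Int.ofNat 0, Int.ofNat 0, Int.ofNat 0, Int.ofNat 0, Int.ofNat 0, Int.ofNat 0, Int.ofNat 0],
  [Int.ofNat 0, Int.negSucc 3, Int.ofNat 0, Int.ofNat 0, Int.ofNat 0, Int.ofNat 0, Int.ofNat 0, Int.ofNat 0, Int.ofNat 0, Int.ofNat 0, Int.ofNat 0, Int.ofNat 0, Int.ofNat 0, Int.ofNat 0, Int.ofNat 0, Int.ofNat 0, Int.ofNat 0, Int.ofNat 0, Int.ofNat 0, Int.ofNat 0, Int.ofNat 0, Int.ofNat 0, Int.ofNat 0, Int.negSucc 3],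
  [Int.negSucc 3, Int.ofNat 0, Int.ofNat 0, Int.ofNat 0, Int.ofNat 0, Int.ofNat 0, Int.ofNat 0, Int.ofNat 0, Int.ofNat 0, Int.ofNat 0, Int.ofNat 0, Int.ofNat 0, Int.ofNat 0, Int.ofNat 0, Int.ofNat 0, Int.ofNat 0, Int.ofNat 0, Int.ofNat 0, Int.ofNat 0, Int.ofNat 0, Int.ofNat 0, Int.ofNat 0, Int.ofNat 0, Int.negSucc 3],
  [Int.ofNat 4, Int.ofNat 0, Int.ofNat 0, Int.ofNat 0, Int.ofNat 0, Int.ofNat 0, Int.ofNat 0, Int.ofNat 0, Int.ofNat 0, Int.ofNat 0, Int.ofNat 0, Int.ofNat 0, Int.ofNat 0, Int.ofNat 0, Int.ofNat 0, Int.ofNat 0, Int.ofNat 0, Int.ofNat 0, Int.ofNat 0, Int.ofNat 0, Int.ofNat 0, Int.ofNat 0, Int.ofNat 0, Int.negSucc 3],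
  [Int.negSucc 3, Int.ofNat 0, Int.ofNat 0, Int.ofNat 0, Int.ofNat 0, Int.ofNat 0, Int.ofNat 0, Int.ofNat 0, Int.ofNat 0, Int.ofNat 0, Int.ofNat 0, Int.ofNat 0, Int.ofNat 0, Int.ofNat 0, Int.ofNat 0, Int.ofNat 0, Int.ofNat 0, Int.ofNat 0, Int.ofNat 0, Int.ofNat 0, Int.ofNat 0, Int.ofNat 0, Int.ofNat 0, Int.negSucc 3],
  [Int.negSucc 3, Int.ofNat 0, Int.ofNat 0, Int.ofNat 0, Int.ofNat 0, Int.ofNat 0, Int.ofNat 0, Int.ofNat 0, Int.ofNat 0, Int.ofNat 0, Int.ofNat 0, Int.ofNat 0, Int.ofNat 0, Int.ofNat 0, Int.ofNat 0, Int.ofNat 0, Int.ofNat 0, Int.ofNat 0, Int.ofNat 0, Int.ofNat 0, Int.ofNat 0, Int.ofNat 0, Int.ofNat 0, Int.negSucc 3],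
  [Int.ofNat 4, Int.ofNat 0, Int.ofNat 0, Int.ofNat 0, Int.ofNat 0, Int.ofNat 0, Int.ofNat 0, Int.ofNat 0, Int.ofNat 0, Int.ofNat 0, Int.ofNat 0, Int.ofNat 0, Int.ofNat 0, Int.ofNat 0, Int.ofNat 0, Int.ofNat 0, Int.ofNat 0, Int.ofNat 0, Int.ofNat 0, Int.ofNat 0, Int.ofNat 0, Int.ofNat 0, Int.ofNat 0, Int.negSucc 3],
  [Int.ofNat 0, Int.ofNat 4, Int.ofNat 0, Int.ofNat 0, Int.ofNat 0, Int.ofNat 0, Int.ofNat 0, Int.ofNat 0, Int.ofNat 0, Int.ofNat 0, Int.ofNat 0, Int.ofNat 0, Int.ofNat 0, Int.ofNat 0, Int.ofNat 0, Int.ofNat 0, Int.ofNat 0, Int.ofNat 0, Int.ofNat 0, Int.ofNat 0, Int.ofNat 0, Int.ofNat 0, Int.ofNat 0, Int.negSucc 3],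
  [Int.ofNat 0, Int.negSucc 3, Int.ofNat 0, Int.ofNat 0, Int.ofNat 0, Int.ofNat 0, Int.ofNat 0, Int.ofNat 0, Int.ofNat 0, Int.ofNat 0, Int.ofNat 0, Int.ofNat 0, Int.ofNat 0, Int.ofNat 0, Int.ofNat 0, Int.ofNat 0, Int.ofNat 0, Int.ofNat 0, Int.ofNat 0, Int.ofNat 0, Int.ofNat 0, Int.ofNat 0, Int.ofNat 0, Int.ofNat 4],
  [Int.ofNat 0, Int.ofNat 0, Int.ofNat 0, Int.ofNat 0, Int.ofNat 0, Int.ofNat 0, Int.ofNat 0, Int.ofNat 0, Int.ofNat 0, Int.ofNat 0, Int.ofNat 0, Int.ofNat 0, Int.ofNat 0, Int.ofNat 0, Int.ofNat 0, Int.ofNat 0, Int.ofNat 0, Int.ofNat 0, Int.ofNat 0, Int.ofNat 0, Int.ofNat 0, Int.negSucc 3, Int.ofNat 0, Int.ofNat 4],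
  [Int.ofNat 2, Int.ofNat 2, Int.ofNat 2, Int.ofNat 0, Int.ofNat 0, Int.ofNat 0, Int.ofNat 2, Int.ofNat 2, Int.ofNat 0, Int.ofNat 0, Int.ofNat 0, Int.ofNat 0, Int.ofNat 0, Int.ofNat 0, Int.ofNat 0, Int.ofNat 0, Int.ofNat 0, Int.ofNat 0, Int.ofNat 0, Int.ofNat 2, Int.ofNat 0, Int.negSucc 1, Int.ofNat 0, Int.negSucc 1],
  [Int.ofNat 2, Int.ofNat 2, Int.ofNat 0, Int.ofNat 0, Int.ofNat 0, Int.ofNat 2, Int.ofNat 2, Int.ofNat 0, Int.ofNat 0, Int.ofNat 0, Int.ofNat 0, Int.ofNat 0, Int.ofNat 0, Int.ofNat 0, Int.ofNat 0, Int.ofNat 0, Int.ofNat 0, Int.ofNat 0, Int.ofNat 2, Int.ofNat 0, Int.negSucc 1, Int.ofNat 0, Int.ofNat 2, Int.negSucc 1],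
  [Int.negSucc 0, Int.negSucc 0, Int.ofNat 1, Int.negSucc 0, Int.negSucc 0, Int.ofNat 1, Int.ofNat 1, Int.negSucc 0, Int.negSucc 0, Int.ofNat 1, Int.ofNat 1, Int.negSucc 0, Int.negSucc 0, Int.negSucc 0, Int.negSucc 0, Int.ofNat 1, Int.negSucc 0, Int.negSucc 0, Int.ofNat 1, Int.negSucc 0, Int.negSucc 0, Int.negSucc 0, Int.ofNat 1, Int.ofNat 3],
  [Int.negSucc 0, Int.negSucc 0, Int.negSucc 0, Int.negSucc 0, Int.negSucc 0, Int.negSucc 0, Int.negSucc 0, Int.negSucc 0, Int.negSucc 0, Int.negSucc 0, Int.negSucc 0, Int.negSucc 0, Int.negSucc 0, Int.negSucc 0, Int.negSucc 0, Int.negSucc 0, Int.negSucc 0, Int.negSucc 0, Int.negSucc 0, Int.negSucc 0, Int.negSucc 0, Int.negSucc 0, Int.negSucc 0, Int.ofNat 3],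
  [Int.negSucc 0, Int.negSucc 0, Int.negSucc 0, Int.negSucc 0, Int.negSucc 0, Int.negSucc 0, Int.negSucc 0, Int.negSucc 0, Int.negSucc 0, Int.negSucc 0, Int.negSucc 0, Int.negSucc 0, Int.negSucc 0, Int.negSucc 0, Int.negSucc 0, Int.negSucc 0, Int.negSucc 0, Int.negSucc 0, Int.negSucc 0, Int.negSucc 0, Int.negSucc 0, Int.negSucc 0, Int.negSucc 0, Int.ofNat 3],
  [Int.negSucc 0, Int.negSucc 0, Int.ofNat 1, Int.negSucc 0, Int.negSucc 0, Int.ofNat 1, Int.ofNat 1, Int.negSucc 0, Int.negSucc 0, Int.ofNat 1, Int.ofNat 1, Int.negSucc 0, Int.negSucc 0, Int.negSucc 0, Int.negSucc 0, Int.ofNat 1, Int.negSucc 0, Int.negSucc 0, Int.ofNat 1, Int.negSucc 0, Int.negSucc 0, Int.negSucc 0, Int.ofNat 1, Int.ofNat 3],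
  [Int.ofNat 2, Int.ofNat 2, Int.ofNat 0, Int.ofNat 0, Int.ofNat 0, Int.ofNat 2, Int.ofNat 2, Int.ofNat 0, Int.ofNat 0, Int.ofNat 0, Int.ofNat 0, Int.ofNat 0, Int.ofNat 0, Int.ofNat 0, Int.ofNat 0, Int.ofNat 0, Int.ofNat 0, Int.ofNat 0, Int.ofNat 2, Int.ofNat 0, Int.negSucc 1, Int.ofNat 0, Int.ofNat 2, Int.negSucc 1],
  [Int.ofNat 2, Int.ofNat 2, Int.ofNat 2, Int.ofNat 0, Int.ofNat 0, Int.ofNat 0, Int.ofNat 2, Int.ofNat 2, Int.ofNat 0, Int.ofNat 0, Int.ofNat 0, Int.ofNat 0, Int.ofNat 0, Int.ofNat 0, Int.ofNat 0, Int.ofNat 0, Int.ofNat 0, Int.ofNat 0, Int.ofNat 0, Int.ofNat 2, Int.ofNat 0, Int.negSucc 1, Int.ofNat 0, Int.negSucc 1],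
  [Int.ofNat 0, Int.ofNat 0, Int.ofNat 0, Int.ofNat 0, Int.ofNat 0, Int.ofNat 0, Int.ofNat 0, Int.ofNat 0, Int.ofNat 0, Int.ofNat 0, Int.ofNat 0, Int.ofNat 0, Int.ofNat 0, Int.ofNat 0, Int.ofNat 0, Int.ofNat 0, Int.ofNat 0, Int.ofNat 0, Int.ofNat 0, Int.ofNat 0, Int.ofNat 0, Int.negSucc 3, Int.ofNat 0, Int.ofNat 4],
  [Int.ofNat 0, Int.negSucc 3, Int.ofNat 0, Int.ofNat 0, Int.ofNat 0, Int.ofNat 0, Int.ofNat 0, Int.ofNat 0, Int.ofNat 0, Int.ofNat 0, Int.ofNat 0, Int.ofNat 0, Int.ofNat 0, Int.ofNat 0, Int.ofNat 0, Int.ofNat 0, Int.ofNat 0, Int.ofNat 0, Int.ofNat 0, Int.ofNat 0, Int.ofNat 0, Int.ofNat 0, Int.ofNat 0, Int.ofNat 4],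
  [Int.ofNat 0, Int.ofNat 4, Int.ofNat 0, Int.ofNat 0, Int.ofNat 0, Int.ofNat 0, Int.ofNat 0, Int.ofNat 0, Int.ofNat 0, Int.ofNat 0, Int.ofNat 0, Int.ofNat 0, Int.ofNat 0, Int.ofNat 0, Int.ofNat 0, Int.ofNat 0, Int.ofNat 0, Int.ofNat 0, Int.ofNat 0, Int.ofNat 0, Int.ofNat 0, Int.ofNat 0, Int.ofNat 0, Int.negSucc 3],
  [Int.ofNat 4, Int.ofNat 0, Int.ofNat 0, Int.ofNat 0, Int.ofNat 0, Int.ofNat 0, Int.ofNat 0, Int.ofNat 0, Int.ofNat 0, Int.ofNat 0, Int.ofNat 0, Int.ofNat 0, Int.ofNat 0, Int.ofNat 0, Int.ofNat 0, Int.ofNat 0, Int.ofNat 0, Int.ofNat 0, Int.ofNat 0, Int.ofNat 0, Int.ofNat 0, Int.ofNat 0, Int.ofNat 0, Int.negSucc 3],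
  [Int.negSucc 3, Int.ofNat 0, Int.ofNat 0, Int.ofNat 0, Int.ofNat 0, Int.ofNat 0, Int.ofNat 0, Int.ofNat 0, Int.ofNat 0, Int.ofNat 0, Int.ofNat 0, Int.ofNat 0, Int.ofNat 0, Int.ofNat 0, Int.ofNat 0, Int.ofNat 0, Int.ofNat 0, Int.ofNat 0, Int.ofNat 0, Int.ofNat 0, Int.ofNat 0, Int.ofNat 0, Int.ofNat 0, Int.negSucc 3],
  [Int.ofNat 4, Int.ofNat 0, Int.ofNat 0, Int.ofNat 0, Int.ofNat 0, Int.ofNat 0, Int.ofNat 0, Int.ofNat 0, Int.ofNat 0, Int.ofNat 0, Int.ofNat 0, Int.ofNat 0, Int.ofNat 0, Int.ofNat 0, Int.ofNat 0, Int.ofNat 0, Int.ofNat 0, Int.ofNat 0, Int.ofNat 0, Int.ofNat 0, Int.ofNat 0, Int.ofNat 0, Int.ofNat 0, Int.negSucc 3],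
  [Int.negSucc 3, Int.ofNat 0, Int.ofNat 0, Int.ofNat 0, Int.ofNat 0, Int.ofNat 0, Int.ofNat 0, Int.ofNat 0, Int.ofNat 0, Int.ofNat 0, Int.ofNat 0, Int.ofNat 0, Int.ofNat 0, Int.ofNat 0, Int.ofNat 0, Int.ofNat 0, Int.ofNat 0, Int.ofNat 0, Int.ofNat 0, Int.ofNat 0, Int.ofNat 0, Int.ofNat 0, Int.ofNat 0, Int.ofNat 4],
  [Int.ofNat 4, Int.ofNat 0, Int.ofNat 0, Int.ofNat 0, Int.ofNat 0, Int.ofNat 0, Int.ofNat 0, Int.ofNat 0, Int.ofNat 0, Int.ofNat 0, Int.ofNat 0, Int.ofNat 0, Int.ofNat 0, Int.ofNat 0, Int.ofNat 0, Int.ofNat 0, Int.ofNat 0, Int.ofNat 0, Int.ofNat 0, Int.ofNat 0, Int.ofNat 0, Int.ofNat 0, Int.ofNat 0, Int.ofNat 4],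
  [Int.ofNat 0, Int.ofNat 4, Int.ofNat 0, Int.ofNat 0, Int.ofNat 0, Int.ofNat 0, Int.ofNat 0, Int.ofNat 0, Int.ofNat 0, Int.ofNat 0, Int.ofNat 0, Int.ofNat 0, Int.ofNat 0, Int.ofNat 0, Int.ofNat 0, Int.ofNat 0, Int.ofNat 0, Int.ofNat 0, Int.ofNat 0, Int.ofNat 0, Int.ofNat 0, Int.ofNat 0, Int.ofNat 0, Int.ofNat 4],
  [Int.ofNat 4, Int.ofNat 0, Int.ofNat 4, Int.ofNat 0, Int.ofNat 0, Int.ofNat 0, Int.ofNat 0, Int.ofNat 0, Int.ofNat 0, Int.ofNat 0, Int.ofNat 0, Int.ofNat 0, Int.ofNat 0, Int.ofNat 0, Int.ofNat 0, Int.ofNat 0, Int.ofNat 0, Int.ofNat 0, Int.ofNat 0, Int.ofNat 0, Int.ofNat 0, Int.ofNat 0, Int.ofNat 0, Int.ofNat 0],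
  [Int.ofNat 0, Int.ofNat 0, Int.ofNat 0, Int.ofNat 0, Int.ofNat 0, Int.ofNat 0, Int.ofNat 0, Int.ofNat 0, Int.ofNat 0, Int.ofNat 0, Int.ofNat 0, Int.ofNat 0, Int.ofNat 0, Int.ofNat 0, Int.ofNat 0, Int.ofNat 0, Int.ofNat 0, Int.ofNat 0, Int.ofNat 0, Int.ofNat 0, Int.ofNat 4, Int.ofNat 0, Int.ofNat 4, Int.ofNat 0],
  [Int.ofNat 0, Int.ofNat 0, Int.ofNat 0, Int.ofNat 0, Int.negSucc 1, Int.ofNat 0, Int.ofNat 0, Int.ofNat 0, Int.ofNat 0, Int.negSucc 1, Int.negSucc 1, Int.ofNat 0, Int.ofNat 0, Int.negSucc 1, Int.ofNat 0, Int.negSucc 1, Int.negSucc 1, Int.ofNat 0, Int.ofNat 0, Int.ofNat 0, Int.ofNat 2, Int.ofNat 0, Int.ofNat 2, Int.ofNat 0],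
  [Int.ofNat 0, Int.ofNat 0, Int.negSucc 1, Int.ofNat 0, Int.ofNat 0, Int.ofNat 0, Int.ofNat 0, Int.negSucc 1, Int.ofNat 0, Int.negSucc 1, Int.ofNat 2, Int.ofNat 0, Int.negSucc 1, Int.negSucc 1, Int.ofNat 2, Int.negSucc 1, Int.ofNat 0, Int.ofNat 0, Int.ofNat 0, Int.ofNat 0, Int.ofNat 0, Int.ofNat 0, Int.ofNat 0, Int.ofNat 0],
  [Int.negSucc 0, Int.negSucc 0, Int.ofNat 1, Int.negSucc 0, Int.ofNat 1, Int.negSucc 0, Int.ofNat 1, Int.negSucc 0, Int.ofNat 1, Int.negSucc 0, Int.ofNat 3, Int.ofNat 1, Int.negSucc 0, Int.negSucc 0, Int.ofNat 1, Int.negSucc 0, Int.ofNat 1, Int.negSucc 0, Int.ofNat 1, Int.ofNat 1, Int.ofNat 1, Int.ofNat 1, Int.ofNat 1, Int.negSucc 0],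
  [Int.negSucc 0, Int.negSucc 0, Int.negSucc 0, Int.negSucc 0, Int.ofNat 1, Int.ofNat 1, Int.negSucc 0, Int.negSucc 0, Int.ofNat 1, Int.ofNat 1, Int.negSucc 2, Int.ofNat 1, Int.negSucc 0, Int.negSucc 0, Int.ofNat 1, Int.ofNat 1, Int.ofNat 1, Int.negSucc 0, Int.negSucc 0, Int.ofNat 1, Int.ofNat 1, Int.ofNat 1, Int.negSucc 0, Int.negSucc 0],
  [Int.negSucc 0, Int.ofNat 1, Int.negSucc 0, Int.negSucc 0, Int.ofNat 1, Int.negSucc 0, Int.negSucc 0, Int.ofNat 1, Int.negSucc 0, Int.ofNat 1, Int.negSucc 0, Int.ofNat 1, Int.ofNat 1, Int.ofNat 1, Int.ofNat 1, Int.ofNat 1, Int.negSucc 0, Int.negSucc 0, Int.ofNat 1, Int.negSucc 0, Int.negSucc 2, Int.negSucc 0, Int.ofNat 1, Int.negSucc 0],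
  [Int.negSucc 0, Int.ofNat 1, Int.ofNat 1, Int.negSucc 0, Int.ofNat 1, Int.ofNat 1, Int.ofNat 1, Int.ofNat 1, Int.negSucc 0, Int.negSucc 0, Int.ofNat 1, Int.ofNat 1, Int.ofNat 1, Int.ofNat 1, Int.ofNat 1, Int.negSucc 0, Int.negSucc 0, Int.negSucc 0, Int.negSucc 0, Int.negSucc 0, Int.negSucc 2, Int.negSucc 0, Int.negSucc 0, Int.negSucc 0],
  [Int.ofNat 1, Int.negSucc 0, Int.negSucc 0, Int.negSucc 0, Int.ofNat 1, Int.ofNat 1, Int.ofNat 1, Int.ofNat 1, Int.negSucc 0, Int.ofNat 1, Int.ofNat 3, Int.ofNat 1, Int.ofNat 1, Int.ofNat 1, Int.ofNat 1, Int.ofNat 1, Int.negSucc 0, Int.negSucc 0, Int.negSucc 0, Int.negSucc 0, Int.negSucc 0, Int.negSucc 0, Int.negSucc 0, Int.ofNat 1],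
  [Int.ofNat 1, Int.negSucc 0, Int.ofNat 1, Int.negSucc 0, Int.negSucc 0, Int.negSucc 0, Int.negSucc 0, Int.ofNat 1, Int.negSucc 0, Int.ofNat 1, Int.ofNat 1, Int.negSucc 0, Int.negSucc 0, Int.ofNat 1, Int.negSucc 0, Int.ofNat 1, Int.ofNat 1, Int.ofNat 1, Int.ofNat 1, Int.negSucc 0, Int.ofNat 3, Int.negSucc 0, Int.ofNat 1, Int.ofNat 1],
  [Int.ofNat 0, Int.ofNat 2, Int.ofNat 0, Int.ofNat 0, Int.negSucc 1, Int.ofNat 0, Int.ofNat 0, Int.ofNat 2, Int.ofNat 0, Int.negSucc 1, Int.negSucc 1, Int.ofNat 0, Int.ofNat 0, Int.ofNat 0, Int.ofNat 0, Int.negSucc 1, Int.ofNat 0, Int.ofNat 2, Int.ofNat 2, Int.ofNat 0, Int.ofNat 0, Int.ofNat 0, Int.ofNat 0, Int.ofNat 0],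
  [Int.ofNat 0, Int.ofNat 0, Int.ofNat 0, Int.ofNat 0, Int.ofNat 2, Int.ofNat 0, Int.ofNat 0, Int.negSucc 1, Int.ofNat 0, Int.ofNat 0, Int.ofNat 2, Int.ofNat 0, Int.negSucc 1, Int.negSucc 1, Int.ofNat 0, Int.ofNat 0, Int.ofNat 0, Int.ofNat 0, Int.negSucc 1, Int.ofNat 0, Int.ofNat 2, Int.ofNat 2, Int.ofNat 0, Int.ofNat 0],
  [Int.ofNat 0, Int.ofNat 0, Int.ofNat 0, Int.ofNat 0, Int.ofNat 2, Int.ofNat 0, Int.ofNat 0, Int.negSucc 1, Int.ofNat 2, Int.negSucc 1, Int.ofNat 0, Int.ofNat 2, Int.ofNat 0, Int.negSucc 1, Int.ofNat 0, Int.negSucc 1, Int.ofNat 0, Int.ofNat 0, Int.ofNat 0, Int.ofNat 0, Int.ofNat 0, Int.ofNat 2, Int.ofNat 0, Int.ofNat 0],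
  [Int.ofNat 0, Int.ofNat 0, Int.ofNat 0, Int.ofNat 2, Int.ofNat 0, Int.ofNat 0, Int.negSucc 1, Int.ofNat 2, Int.negSucc 1, Int.ofNat 0, Int.ofNat 2, Int.ofNat 0, Int.negSucc 1, Int.ofNat 0, Int.negSucc 1, Int.ofNat 0, Int.ofNat 0, Int.ofNat 0, Int.ofNat 0, Int.ofNat 0, Int.ofNat 2, Int.ofNat 0, Int.ofNat 0, Int.ofNat 0],
  [Int.ofNat 0, Int.ofNat 0, Int.ofNat 0, Int.ofNat 2, Int.ofNat 0, Int.ofNat 0, Int.negSucc 1, Int.negSucc 1, Int.negSucc 1, Int.ofNat 0, Int.negSucc 1, Int.ofNat 0, Int.negSucc 1, Int.ofNat 0, Int.negSucc 1, Int.ofNat 0, Int.ofNat 0, Int.ofNat 0, Int.ofNat 0, Int.ofNat 0, Int.ofNat 2, Int.ofNat 0, Int.ofNat 0, Int.ofNat 0],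
  [Int.ofNat 0, Int.ofNat 0, Int.ofNat 0, Int.negSucc 1, Int.ofNat 0, Int.ofNat 0, Int.ofNat 2, Int.negSucc 1, Int.ofNat 2, Int.ofNat 0, Int.negSucc 1, Int.ofNat 0, Int.ofNat 2, Int.ofNat 0, Int.negSucc 1, Int.ofNat 0, Int.ofNat 0, Int.ofNat 0, Int.ofNat 0, Int.ofNat 0, Int.ofNat 2, Int.ofNat 0, Int.ofNat 0, Int.ofNat 0],
  [Int.ofNat 0, Int.ofNat 0, Int.ofNat 0, Int.ofNat 0, Int.ofNat 0, Int.ofNat 0, Int.ofNat 0, Int.ofNat 0, Int.ofNat 2, Int.ofNat 0, Int.ofNat 0, Int.ofNat 0, Int.ofNat 0, Int.negSucc 1, Int.ofNat 0, Int.negSucc 1, Int.negSucc 1, Int.ofNat 0, Int.negSucc 1, Int.ofNat 2, Int.ofNat 2, Int.ofNat 2, Int.ofNat 0, Int.ofNat 0],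
  [Int.ofNat 0, Int.ofNat 0, Int.ofNat 0, Int.ofNat 0, Int.ofNat 0, Int.ofNat 0, Int.ofNat 0, Int.ofNat 0, Int.ofNat 2, Int.ofNat 0, Int.ofNat 0, Int.ofNat 0, Int.ofNat 0, Int.negSucc 1, Int.ofNat 0, Int.negSucc 1, Int.negSucc 1, Int.ofNat 0, Int.ofNat 2, Int.ofNat 2, Int.ofNat 2, Int.negSucc 1, Int.ofNat 0, Int.ofNat 0],
  [Int.ofNat 0, Int.ofNat 0, Int.ofNat 0, Int.ofNat 0, Int.ofNat 0, Int.ofNat 0, Int.ofNat 0, Int.ofNat 0, Int.ofNat 0, Int.ofNat 2, Int.ofNat 0, Int.ofNat 0, Int.ofNat 0, Int.ofNat 0, Int.negSucc 1, Int.ofNat 0, Int.negSucc 1, Int.negSucc 1, Int.ofNat 0, Int.ofNat 2, Int.ofNat 2, Int.ofNat 2, Int.negSucc 1, Int.ofNat 0],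
  [Int.ofNat 0, Int.ofNat 0, Int.ofNat 0, Int.ofNat 2, Int.ofNat 2, Int.ofNat 2, Int.negSucc 1, Int.negSucc 1, Int.ofNat 0, Int.ofNat 0, Int.negSucc 1, Int.ofNat 0, Int.ofNat 0, Int.ofNat 2, Int.ofNat 0, Int.negSucc 1, Int.ofNat 0, Int.ofNat 0, Int.ofNat 0, Int.ofNat 0, Int.ofNat 0, Int.ofNat 0, Int.ofNat 0, Int.ofNat 0],
  [Int.ofNat 2, Int.ofNat 2, Int.ofNat 2, Int.negSucc 1, Int.negSucc 1, Int.ofNat 0, Int.ofNat 0, Int.negSucc 1, Int.ofNat 0, Int.ofNat 0, Int.ofNat 2, Int.ofNat 0, Int.negSucc 1, Int.ofNat 0, Int.ofNat 0, Int.ofNat 0, Int.ofNat 0, Int.ofNat 0, Int.ofNat 0, Int.ofNat 0, Int.ofNat 0, Int.ofNat 0, Int.ofNat 0, Int.ofNat 0],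
  [Int.ofNat 1, Int.ofNat 1, Int.ofNat 1, Int.negSucc 0, Int.negSucc 0, Int.ofNat 1, Int.ofNat 1, Int.negSucc 0, Int.ofNat 1, Int.negSucc 0, Int.ofNat 1, Int.ofNat 1, Int.negSucc 0, Int.ofNat 1, Int.ofNat 1, Int.negSucc 0, Int.ofNat 1, Int.ofNat 1, Int.ofNat 1, Int.ofNat 1, Int.negSucc 0, Int.ofNat 1, Int.ofNat 1, Int.ofNat 3],
  [Int.ofNat 1, Int.ofNat 1, Int.negSucc 0, Int.negSucc 0, Int.ofNat 1, Int.negSucc 0, Int.ofNat 1, Int.ofNat 1, Int.negSucc 0, Int.ofNat 1, Int.negSucc 0, Int.ofNat 1, Int.negSucc 0, Int.ofNat 1, Int.ofNat 1, Int.negSucc 0, Int.ofNat 1, Int.ofNat 1, Int.ofNat 1, Int.ofNat 1, Int.ofNat 1, Int.ofNat 1, Int.ofNat 1, Int.ofNat 3],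
  [Int.ofNat 1, Int.ofNat 1, Int.ofNat 3, Int.negSucc 0, Int.negSucc 0, Int.negSucc 0, Int.negSucc 0, Int.negSucc 0, Int.negSucc 0, Int.ofNat 1, Int.negSucc 0, Int.ofNat 1, Int.negSucc 0, Int.negSucc 0, Int.ofNat 1, Int.negSucc 0, Int.negSucc 0, Int.ofNat 1, Int.ofNat 1, Int.negSucc 0, Int.ofNat 1, Int.negSucc 0, Int.negSucc 0, Int.negSucc 0],
  [Int.ofNat 1, Int.ofNat 1, Int.negSucc 2, Int.negSucc 0, Int.negSucc 0, Int.ofNat 1, Int.ofNat 1, Int.negSucc 0, Int.negSucc 0, Int.negSucc 0, Int.ofNat 1, Int.ofNat 1, Int.negSucc 0, Int.negSucc 0, Int.ofNat 1, Int.ofNat 1, Int.negSucc 0, Int.ofNat 1, Int.negSucc 0, Int.negSucc 0, Int.ofNat 1, Int.negSucc 0, Int.ofNat 1, Int.negSucc 0],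
  [Int.negSucc 0, Int.ofNat 1, Int.negSucc 0, Int.ofNat 1, Int.ofNat 1, Int.ofNat 1, Int.negSucc 2, Int.ofNat 1, Int.negSucc 0, Int.ofNat 1, Int.ofNat 1, Int.negSucc 0, Int.ofNat 1, Int.negSucc 0, Int.negSucc 0, Int.negSucc 0, Int.negSucc 0, Int.ofNat 1, Int.negSucc 0, Int.negSucc 0, Int.ofNat 1, Int.ofNat 1, Int.negSucc 0, Int.negSucc 0],
  [Int.negSucc 0, Int.ofNat 1, Int.ofNat 1, Int.ofNat 1, Int.ofNat 1, Int.negSucc 0, Int.ofNat 3, Int.ofNat 1, Int.negSucc 0, Int.negSucc 0, Int.negSucc 0, Int.negSucc 0, Int.ofNat 1, Int.negSucc 0, Int.negSucc 0, Int.ofNat 1, Int.negSucc 0, Int.ofNat 1, Int.ofNat 1, Int.negSucc 0, Int.ofNat 1, Int.ofNat 1, Int.ofNat 1, Int.negSucc 0],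
  [Int.ofNat 1, Int.negSucc 0, Int.negSucc 0, Int.ofNat 1, Int.ofNat 1, Int.negSucc 0, Int.ofNat 1, Int.negSucc 0, Int.negSucc 0, Int.negSucc 0, Int.negSucc 0, Int.negSucc 0, Int.ofNat 1, Int.negSucc 0, Int.negSucc 0, Int.ofNat 1, Int.negSucc 0, Int.ofNat 1, Int.ofNat 1, Int.negSucc 2, Int.ofNat 1, Int.negSucc 0, Int.ofNat 1, Int.ofNat 1],
  [Int.ofNat 1, Int.ofNat 1, Int.ofNat 1, Int.ofNat 1, Int.negSucc 0, Int.negSucc 0, Int.negSucc 0, Int.negSucc 0, Int.negSucc 0, Int.ofNat 1, Int.negSucc 0, Int.negSucc 2, Int.negSucc 0, Int.negSucc 0, Int.ofNat 1, Int.ofNat 1, Int.negSucc 0, Int.negSucc 0, Int.ofNat 1, Int.ofNat 1, Int.negSucc 0, Int.ofNat 1, Int.negSucc 0, Int.ofNat 1],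
  [Int.ofNat 1, Int.ofNat 1, Int.ofNat 1, Int.ofNat 1, Int.ofNat 1, Int.negSucc 0, Int.negSucc 0, Int.negSucc 0, Int.ofNat 1, Int.ofNat 1, Int.negSucc 0, Int.negSucc 0, Int.ofNat 1, Int.ofNat 1, Int.ofNat 1, Int.ofNat 1, Int.ofNat 1, Int.negSucc 0, Int.ofNat 3, Int.ofNat 1, Int.negSucc 0, Int.ofNat 1, Int.ofNat 1, Int.ofNat 1],
  [Int.negSucc 0, Int.ofNat 1, Int.ofNat 1, Int.ofNat 1, Int.ofNat 1, Int.ofNat 1, Int.ofNat 1, Int.ofNat 1, Int.negSucc 0, Int.negSucc 0, Int.negSucc 0, Int.ofNat 1, Int.ofNat 1, Int.negSucc 0, Int.negSucc 0, Int.ofNat 1, Int.ofNat 1, Int.ofNat 1, Int.ofNat 1, Int.ofNat 1, Int.negSucc 0, Int.ofNat 3, Int.ofNat 1, Int.ofNat 1],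
  [Int.ofNat 2, Int.ofNat 0, Int.ofNat 0, Int.ofNat 0, Int.ofNat 0, Int.ofNat 0, Int.negSucc 1, Int.negSucc 1, Int.negSucc 1, Int.ofNat 0, Int.ofNat 0, Int.ofNat 0, Int.ofNat 0, Int.negSucc 1, Int.negSucc 1, Int.ofNat 2, Int.ofNat 0, Int.ofNat 0, Int.ofNat 0, Int.negSucc 1, Int.ofNat 0, Int.ofNat 0, Int.ofNat 0, Int.ofNat 0],
  [Int.ofNat 0, Int.ofNat 0, Int.ofNat 0, Int.ofNat 0, Int.ofNat 0, Int.negSucc 1, Int.negSucc 1, Int.negSucc 1, Int.ofNat 0, Int.ofNat 0, Int.ofNat 0, Int.ofNat 0, Int.negSucc 1, Int.negSucc 1, Int.ofNat 2, Int.ofNat 0, Int.ofNat 0, Int.ofNat 0, Int.negSucc 1, Int.ofNat 0, Int.ofNat 0, Int.ofNat 0, Int.ofNat 2, Int.ofNat 0],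
  [Int.ofNat 0, Int.ofNat 0, Int.ofNat 0, Int.ofNat 0, Int.ofNat 0, Int.negSucc 1, Int.negSucc 1, Int.ofNat 2, Int.ofNat 0, Int.ofNat 0, Int.ofNat 0, Int.ofNat 0, Int.negSucc 1, Int.negSucc 1, Int.ofNat 2, Int.ofNat 0, Int.ofNat 0, Int.ofNat 0, Int.ofNat 2, Int.ofNat 0, Int.ofNat 0, Int.ofNat 0, Int.ofNat 2, Int.ofNat 0]]

set_option maxRecDepth 100000 in
theorem c1e18_chk : pmChk (List.replicate 14 [18, 0, 25]).flatten nxL c1e18M 0 0 = true := by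
  decide +kernel

theorem c1e18_ne : wE letE2 (List.replicate 14 [18, 0, 25]).flatten ≠ 1 ∧ wE letE2 (List.replicate 14 [18, 0, 25]).flatten ≠ negElt :=
  ne_pm_of_chk nxL_mem c1e18_chk

set_option maxRecDepth 100000 in
def c1e19M : List (List ℤ) :=
  [[Int.ofNat 4, Int.ofNat 0, Int.ofNat 0, Int.ofNat 0, Int.ofNat 0, Int.ofNat 0, Int.ofNat 0, Int.ofNat 0, Int.ofNat 0, Int.ofNat 0, Int.ofNat 0, Int.ofNat 0, Int.ofNat 0, Int.ofNat 0, Int.ofNat 0, Int.ofNat 0, Int.ofNat 0, Int.ofNat 0, Int.ofNat 0, Int.ofNat 0, Int.ofNat 0, Int.ofNat 0, Int.ofNat 0, Int.ofNat 4],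
  [Int.ofNat 4, Int.ofNat 0, Int.ofNat 0, Int.ofNat 0, Int.ofNat 0, Int.ofNat 0, Int.ofNat 0, Int.ofNat 0, Int.ofNat 0, Int.ofNat 0, Int.ofNat 0, Int.ofNat 0, Int.ofNat 0, Int.ofNat 0, Int.ofNat 0, Int.ofNat 0, Int.ofNat 0, Int.ofNat 0, Int.ofNat 0, Int.ofNat 0, Int.ofNat 0, Int.ofNat 0, Int.ofNat 0, Int.ofNat 4],
  [Int.negSucc 3, Int.ofNat 0, Int.ofNat 0, Int.ofNat 0, Int.ofNat 0, Int.ofNat 0, Int.ofNat 0, Int.ofNat 0, Int.ofNat 0, Int.ofNat 0, Int.ofNat 0, Int.ofNat 0, Int.ofNat 0, Int.ofNat 0, Int.ofNat 0, Int.ofNat 0, Int.ofNat 0, Int.ofNat 0, Int.ofNat 0, Int.ofNat 0, Int.ofNat 0, Int.ofNat 0, Int.ofNat 0, Int.ofNat 4],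
  [Int.ofNat 0, Int.negSucc 3, Int.ofNat 0, Int.ofNat 0, Int.ofNat 0, Int.ofNat 0, Int.ofNat 0, Int.ofNat 0, Int.ofNat 0, Int.ofNat 0, Int.ofNat 0, Int.ofNat 0, Int.ofNat 0, Int.ofNat 0, Int.ofNat 0, Int.ofNat 0, Int.ofNat 0, Int.ofNat 0, Int.ofNat 0, Int.ofNat 0, Int.ofNat 0, Int.ofNat 0, Int.ofNat 0, Int.ofNat 4],
  [Int.ofNat 0, Int.ofNat 4, Int.ofNat 0, Int.ofNat 0, Int.ofNat 0, Int.ofNat 0, Int.ofNat 0, Int.ofNat 0, Int.ofNat 0, Int.ofNat 0, Int.ofNat 0, Int.ofNat 0, Int.ofNat 0, Int.ofNat 0, Int.ofNat 0, Int.ofNat 0, Int.ofNat 0, Int.ofNat 0, Int.ofNat 0, Int.ofNat 0, Int.ofNat 0, Int.ofNat 0, Int.ofNat 0, Int.negSucc 3],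
  [Int.ofNat 0, Int.ofNat 0, Int.ofNat 0, Int.ofNat 0, Int.ofNat 0, Int.ofNat 0, Int.ofNat 0, Int.ofNat 0, Int.ofNat 0, Int.ofNat 0, Int.ofNat 0, Int.ofNat 0, Int.ofNat 0, Int.ofNat 0, Int.ofNat 0, Int.ofNat 0, Int.ofNat 0, Int.ofNat 0, Int.ofNat 0, Int.ofNat 0, Int.ofNat 0, Int.ofNat 4, Int.ofNat 0, Int.negSucc 3],
  [Int.negSucc 1, Int.negSucc 1, Int.negSucc 1, Int.ofNat 0, Int.ofNat 0, Int.ofNat 0, Int.negSucc 1, Int.negSucc 1, Int.ofNat 0, Int.ofNat 0, Int.ofNat 0, Int.ofNat 0, Int.ofNat 0, Int.ofNat 0, Int.ofNat 0, Int.ofNat 0, Int.ofNat 0, Int.ofNat 0, Int.ofNat 0, Int.negSucc 1, Int.ofNat 0, Int.ofNat 2, Int.ofNat 0, Int.ofNat 2],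
  [Int.negSucc 1, Int.negSucc 1, Int.ofNat 0, Int.ofNat 0, Int.ofNat 0, Int.negSucc 1, Int.negSucc 1, Int.ofNat 0, Int.ofNat 0, Int.ofNat 0, Int.ofNat 0, Int.ofNat 0, Int.ofNat 0, Int.ofNat 0, Int.ofNat 0, Int.ofNat 0, Int.ofNat 0, Int.ofNat 0, Int.negSucc 1, Int.ofNat 0, Int.ofNat 2, Int.ofNat 0, Int.negSucc 1, Int.ofNat 2],
  [Int.ofNat 1, Int.ofNat 1, Int.negSucc 0, Int.ofNat 1, Int.ofNat 1, Int.negSucc 0, Int.negSucc 0, Int.ofNat 1, Int.ofNat 1, Int.negSucc 0, Int.negSucc 0, Int.ofNat 1, Int.ofNat 1, Int.ofNat 1, Int.ofNat 1, Int.negSucc 0, Int.ofNat 1, Int.ofNat 1, Int.negSucc 0, Int.ofNat 1, Int.ofNat 1, Int.ofNat 1, Int.negSucc 0, Int.negSucc 2],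
  [Int.ofNat 1, Int.ofNat 1, Int.ofNat 1, Int.ofNat 1, Int.ofNat 1, Int.ofNat 1, Int.ofNat 1, Int.ofNat 1, Int.ofNat 1, Int.ofNat 1, Int.ofNat 1, Int.ofNat 1, Int.ofNat 1, Int.ofNat 1, Int.ofNat 1, Int.ofNat 1, Int.ofNat 1, Int.ofNat 1, Int.ofNat 1, Int.ofNat 1, Int.ofNat 1, Int.ofNat 1, Int.ofNat 1, Int.negSucc 2],
  [Int.ofNat 1, Int.ofNat 1, Int.ofNat 1, Int.ofNat 1, Int.ofNat 1, Int.ofNat 1, Int.ofNat 1, Int.ofNat 1, Int.ofNat 1, Int.ofNat 1, Int.ofNat 1, Int.ofNat 1, Int.ofNat 1, Int.ofNat 1, Int.ofNat 1, Int.ofNat 1, Int.ofNat 1, Int.ofNat 1, Int.ofNat 1, Int.ofNat 1, Int.ofNat 1, Int.ofNat 1, Int.ofNat 1, Int.negSucc 2],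
  [Int.ofNat 1, Int.ofNat 1, Int.negSucc 0, Int.ofNat 1, Int.ofNat 1, Int.negSucc 0, Int.negSucc 0, Int.ofNat 1, Int.ofNat 1, Int.negSucc 0, Int.negSucc 0, Int.ofNat 1, Int.ofNat 1, Int.ofNat 1, Int.ofNat 1, Int.negSucc 0, Int.ofNat 1, Int.ofNat 1, Int.negSucc 0, Int.ofNat 1, Int.ofNat 1, Int.ofNat 1, Int.negSucc 0, Int.negSucc 2],
  [Int.negSucc 1, Int.negSucc 1, Int.ofNat 0, Int.ofNat 0, Int.ofNat 0, Int.negSucc 1, Int.negSucc 1, Int.ofNat 0, Int.ofNat 0, Int.ofNat 0, Int.ofNat 0, Int.ofNat 0, Int.ofNat 0, Int.ofNat 0, Int.ofNat 0, Int.ofNat 0, Int.ofNat 0, Int.ofNat 0, Int.negSucc 1, Int.ofNat 0, Int.ofNat 2, Int.ofNat 0, Int.negSucc 1, Int.ofNat 2],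
  [Int.negSucc 1, Int.negSucc 1, Int.negSucc 1, Int.ofNat 0, Int.ofNat 0, Int.ofNat 0, Int.negSucc 1, Int.negSucc 1, Int.ofNat 0, Int.ofNat 0, Int.ofNat 0, Int.ofNat 0, Int.ofNat 0, Int.ofNat 0, Int.ofNat 0, Int.ofNat 0, Int.ofNat 0, Int.ofNat 0, Int.ofNat 0, Int.negSucc 1, Int.ofNat 0, Int.ofNat 2, Int.ofNat 0, Int.ofNat 2],
  [Int.ofNat 0, Int.ofNat 0, Int.ofNat 0, Int.ofNat 0, Int.ofNat 0, Int.ofNat 0, Int.ofNat 0, Int.ofNat 0, Int.ofNat 0, Int.ofNat 0, Int.ofNat 0, Int.ofNat 0, Int.ofNat 0, Int.ofNat 0, Int.ofNat 0, Int.ofNat 0, Int.ofNat 0, Int.ofNat 0, Int.ofNat 0, Int.ofNat 0, Int.ofNat 0, Int.ofNat 4, Int.ofNat 0, Int.negSucc 3],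
  [Int.ofNat 0, Int.ofNat 4, Int.ofNat 0, Int.ofNat 0, Int.ofNat 0, Int.ofNat 0, Int.ofNat 0, Int.ofNat 0, Int.ofNat 0, Int.ofNat 0, Int.ofNat 0, Int.ofNat 0, Int.ofNat 0, Int.ofNat 0, Int.ofNat 0, Int.ofNat 0, Int.ofNat 0, Int.ofNat 0, Int.ofNat 0, Int.ofNat 0, Int.ofNat 0, Int.ofNat 0, Int.ofNat 0, Int.negSucc 3],
  [Int.ofNat 0, Int.negSucc 3, Int.ofNat 0, Int.ofNat 0, Int.ofNat 0, Int.ofNat 0, Int.ofNat 0, Int.ofNat 0, Int.ofNat 0, Int.ofNat 0, Int.ofNat 0, Int.ofNat 0, Int.ofNat 0, Int.ofNat 0, Int.ofNat 0, Int.ofNat 0, Int.ofNat 0, Int.ofNat 0, Int.ofNat 0, Int.ofNat 0, Int.ofNat 0, Int.ofNat 0, Int.ofNat 0, Int.ofNat 4],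
  [Int.negSucc 3, Int.ofNat 0, Int.ofNat 0, Int.ofNat 0, Int.ofNat 0, Int.ofNat 0, Int.ofNat 0, Int.ofNat 0, Int.ofNat 0, Int.ofNat 0, Int.ofNat 0, Int.ofNat 0, Int.ofNat 0, Int.ofNat 0, Int.ofNat 0, Int.ofNat 0, Int.ofNat 0, Int.ofNat 0, Int.ofNat 0, Int.ofNat 0, Int.ofNat 0, Int.ofNat 0, Int.ofNat 0, Int.ofNat 4],
  [Int.ofNat 4, Int.ofNat 0, Int.ofNat 0, Int.ofNat 0, Int.ofNat 0, Int.ofNat 0, Int.ofNat 0, Int.ofNat 0, Int.ofNat 0, Int.ofNat 0, Int.ofNat 0, Int.ofNat 0, Int.ofNat 0, Int.ofNat 0, Int.ofNat 0, Int.ofNat 0, Int.ofNat 0, Int.ofNat 0, Int.ofNat 0, Int.ofNat 0, Int.ofNat 0, Int.ofNat 0, Int.ofNat 0, Int.ofNat 4],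
  [Int.negSucc 3, Int.ofNat 0, Int.ofNat 0, Int.ofNat 0, Int.ofNat 0, Int.ofNat 0, Int.ofNat 0, Int.ofNat 0, Int.ofNat 0, Int.ofNat 0, Int.ofNat 0, Int.ofNat 0, Int.ofNat 0, Int.ofNat 0, Int.ofNat 0, Int.ofNat 0, Int.ofNat 0, Int.ofNat 0, Int.ofNat 0, Int.ofNat 0, Int.ofNat 0, Int.ofNat 0, Int.ofNat 0, Int.ofNat 4],
  [Int.ofNat 4, Int.ofNat 0, Int.ofNat 0, Int.ofNat 0, Int.ofNat 0, Int.ofNat 0, Int.ofNat 0, Int.ofNat 0, Int.ofNat 0, Int.ofNat 0, Int.ofNat 0, Int.ofNat 0, Int.ofNat 0, Int.ofNat 0, Int.ofNat 0, Int.ofNat 0, Int.ofNat 0, Int.ofNat 0, Int.ofNat 0, Int.ofNat 0, Int.ofNat 0, Int.ofNat 0, Int.ofNat 0, Int.negSucc 3],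
  [Int.negSucc 3, Int.ofNat 0, Int.ofNat 0, Int.ofNat 0, Int.ofNat 0, Int.ofNat 0, Int.ofNat 0, Int.ofNat 0, Int.ofNat 0, Int.ofNat 0, Int.ofNat 0, Int.ofNat 0, Int.ofNat 0, Int.ofNat 0, Int.ofNat 0, Int.ofNat 0, Int.ofNat 0, Int.ofNat 0, Int.ofNat 0, Int.ofNat 0, Int.ofNat 0, Int.ofNat 0, Int.ofNat 0, Int.negSucc 3],
  [Int.ofNat 0, Int.negSucc 3, Int.ofNat 0, Int.ofNat 0, Int.ofNat 0, Int.ofNat 0, Int.ofNat 0, Int.ofNat 0, Int.ofNat 0, Int.ofNat 0, Int.ofNat 0, Int.ofNat 0, Int.ofNat 0, Int.ofNat 0, Int.ofNat 0, Int.ofNat 0, Int.ofNat 0, Int.ofNat 0, Int.ofNat 0, Int.ofNat 0, Int.ofNat 0, Int.ofNat 0, Int.ofNat 0, Int.negSucc 3],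
  [Int.negSucc 3, Int.ofNat 0, Int.negSucc 3, Int.ofNat 0, Int.ofNat 0, Int.ofNat 0, Int.ofNat 0, Int.ofNat 0, Int.ofNat 0, Int.ofNat 0, Int.ofNat 0, Int.ofNat 0, Int.ofNat 0, Int.ofNat 0, Int.ofNat 0, Int.ofNat 0, Int.ofNat 0, Int.ofNat 0, Int.ofNat 0, Int.ofNat 0, Int.ofNat 0, Int.ofNat 0, Int.ofNat 0, Int.ofNat 0],
  [Int.ofNat 0, Int.ofNat 0, Int.ofNat 0, Int.ofNat 0, Int.ofNat 0, Int.ofNat 0, Int.ofNat 0, Int.ofNat 0, Int.ofNat 0, Int.ofNat 0, Int.ofNat 0, Int.ofNat 0, Int.ofNat 0, Int.ofNat 0, Int.ofNat 0, Int.ofNat 0, Int.ofNat 0, Int.ofNat 0, Int.ofNat 0, Int.ofNat 0, Int.negSucc 3, Int.ofNat 0, Int.negSucc 3, Int.ofNat 0],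
  [Int.ofNat 0, Int.ofNat 0, Int.ofNat 0, Int.ofNat 0, Int.ofNat 2, Int.ofNat 0, Int.ofNat 0, Int.ofNat 0, Int.ofNat 0, Int.ofNat 2, Int.ofNat 2, Int.ofNat 0, Int.ofNat 0, Int.ofNat 2, Int.ofNat 0, Int.ofNat 2, Int.ofNat 2, Int.ofNat 0, Int.ofNat 0, Int.ofNat 0, Int.negSucc 1, Int.ofNat 0, Int.negSucc 1, Int.ofNat 0],
  [Int.ofNat 0, Int.ofNat 0, Int.ofNat 2, Int.ofNat 0, Int.ofNat 0, Int.ofNat 0, Int.ofNat 0, Int.ofNat 2, Int.ofNat 0, Int.ofNat 2, Int.negSucc 1, Int.ofNat 0, Int.ofNat 2, Int.ofNat 2, Int.negSucc 1, Int.ofNat 2, Int.ofNat 0, Int.ofNat 0, Int.ofNat 0, Int.ofNat 0, Int.ofNat 0, Int.ofNat 0, Int.ofNat 0, Int.ofNat 0],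
  [Int.ofNat 1, Int.ofNat 1, Int.negSucc 0, Int.ofNat 1, Int.negSucc 0, Int.ofNat 1, Int.negSucc 0, Int.ofNat 1, Int.negSucc 0, Int.ofNat 1, Int.negSucc 2, Int.negSucc 0, Int.ofNat 1, Int.ofNat 1, Int.negSucc 0, Int.ofNat 1, Int.negSucc 0, Int.ofNat 1, Int.negSucc 0, Int.negSucc 0, Int.negSucc 0, Int.negSucc 0, Int.negSucc 0, Int.ofNat 1],
  [Int.ofNat 1, Int.ofNat 1, Int.ofNat 1, Int.ofNat 1, Int.negSucc 0, Int.negSucc 0, Int.ofNat 1, Int.ofNat 1, Int.negSucc 0, Int.negSucc 0, Int.ofNat 3, Int.negSucc 0, Int.ofNat 1, Int.ofNat 1, Int.negSucc 0, Int.negSucc 0, Int.negSucc 0, Int.ofNat 1, Int.ofNat 1, Int.negSucc 0, Int.negSucc 0, Int.negSucc 0, Int.ofNat 1, Int.ofNat 1],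
  [Int.ofNat 1, Int.ofNat 3, Int.ofNat 1, Int.negSucc 0, Int.ofNat 1, Int.ofNat 1, Int.ofNat 1, Int.negSucc 0, Int.ofNat 1, Int.ofNat 1, Int.negSucc 0, Int.negSucc 0, Int.ofNat 1, Int.negSucc 0, Int.negSucc 0, Int.ofNat 1, Int.negSucc 0, Int.negSucc 0, Int.ofNat 1, Int.negSucc 0, Int.ofNat 1, Int.negSucc 0, Int.negSucc 0, Int.ofNat 1],
  [Int.ofNat 1, Int.ofNat 3, Int.negSucc 0, Int.negSucc 0, Int.ofNat 1, Int.negSucc 0, Int.negSucc 0, Int.negSucc 0, Int.ofNat 1, Int.negSucc 0, Int.ofNat 1, Int.negSucc 0, Int.ofNat 1, Int.negSucc 0, Int.negSucc 0, Int.negSucc 0, Int.negSucc 0, Int.negSucc 0, Int.negSucc 0, Int.negSucc 0, Int.ofNat 1, Int.negSucc 0, Int.ofNat 1, Int.ofNat 1],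
  [Int.ofNat 1, Int.negSucc 0, Int.ofNat 3, Int.ofNat 1, Int.ofNat 1, Int.ofNat 1, Int.ofNat 1, Int.ofNat 1, Int.ofNat 1, Int.negSucc 0, Int.ofNat 1, Int.negSucc 0, Int.ofNat 1, Int.negSucc 0, Int.ofNat 1, Int.negSucc 0, Int.negSucc 0, Int.ofNat 1, Int.negSucc 0, Int.ofNat 1, Int.ofNat 1, Int.ofNat 1, Int.ofNat 1, Int.ofNat 1],
  [Int.ofNat 1, Int.negSucc 0, Int.ofNat 1, Int.ofNat 1, Int.ofNat 3, Int.ofNat 1, Int.negSucc 0, Int.ofNat 1, Int.negSucc 0, Int.ofNat 1, Int.ofNat 1, Int.ofNat 1, Int.ofNat 1, Int.negSucc 0, Int.ofNat 1, Int.negSucc 0, Int.negSucc 0, Int.negSucc 0, Int.ofNat 1, Int.ofNat 1, Int.ofNat 1, Int.ofNat 1, Int.ofNat 1, Int.ofNat 1],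
  [Int.ofNat 0, Int.ofNat 2, Int.ofNat 0, Int.ofNat 0, Int.ofNat 2, Int.ofNat 0, Int.negSucc 1, Int.ofNat 0, Int.negSucc 1, Int.ofNat 0, Int.ofNat 0, Int.ofNat 0, Int.ofNat 0, Int.negSucc 1, Int.ofNat 0, Int.negSucc 1, Int.negSucc 1, Int.negSucc 1, Int.ofNat 0, Int.ofNat 0, Int.ofNat 0, Int.ofNat 0, Int.ofNat 0, Int.ofNat 0],
  [Int.ofNat 0, Int.ofNat 0, Int.ofNat 0, Int.ofNat 0, Int.ofNat 2, Int.ofNat 0, Int.ofNat 0, Int.ofNat 2, Int.ofNat 0, Int.negSucc 1, Int.ofNat 0, Int.negSucc 1, Int.ofNat 0, Int.ofNat 0, Int.ofNat 0, Int.ofNat 0, Int.negSucc 1, Int.ofNat 0, Int.negSucc 1, Int.negSucc 1, Int.negSucc 1, Int.ofNat 0, Int.ofNat 0, Int.ofNat 0],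
  [Int.ofNat 0, Int.ofNat 0, Int.ofNat 0, Int.ofNat 0, Int.ofNat 2, Int.ofNat 0, Int.ofNat 0, Int.ofNat 2, Int.ofNat 2, Int.ofNat 0, Int.ofNat 2, Int.ofNat 0, Int.ofNat 2, Int.ofNat 0, Int.ofNat 0, Int.ofNat 2, Int.negSucc 1, Int.ofNat 0, Int.ofNat 0, Int.negSucc 1, Int.ofNat 0, Int.ofNat 0, Int.ofNat 0, Int.ofNat 0],
  [Int.ofNat 0, Int.ofNat 0, Int.ofNat 0, Int.ofNat 2, Int.ofNat 0, Int.ofNat 0, Int.ofNat 2, Int.ofNat 2, Int.ofNat 0, Int.ofNat 2, Int.ofNat 0, Int.ofNat 2, Int.ofNat 0, Int.ofNat 0, Int.ofNat 2, Int.negSucc 1, Int.ofNat 0, Int.ofNat 0, Int.negSucc 1, Int.ofNat 0, Int.ofNat 0, Int.ofNat 0, Int.ofNat 0, Int.ofNat 0],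
  [Int.ofNat 0, Int.ofNat 0, Int.ofNat 0, Int.ofNat 2, Int.ofNat 0, Int.ofNat 0, Int.ofNat 2, Int.negSucc 1, Int.ofNat 0, Int.negSucc 1, Int.ofNat 0, Int.negSucc 1, Int.ofNat 0, Int.ofNat 0, Int.ofNat 2, Int.negSucc 1, Int.ofNat 0, Int.ofNat 0, Int.ofNat 2, Int.ofNat 0, Int.ofNat 0, Int.ofNat 0, Int.ofNat 0, Int.ofNat 0],
  [Int.ofNat 0, Int.ofNat 0, Int.ofNat 0, Int.negSucc 1, Int.ofNat 0, Int.ofNat 0, Int.negSucc 1, Int.negSucc 1, Int.ofNat 0, Int.ofNat 2, Int.ofNat 0, Int.negSucc 1, Int.ofNat 0, Int.ofNat 0, Int.ofNat 2, Int.negSucc 1, Int.ofNat 0, Int.ofNat 0, Int.negSucc 1, Int.ofNat 0, Int.ofNat 0, Int.ofNat 0, Int.ofNat 0, Int.ofNat 0],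
  [Int.ofNat 0, Int.ofNat 0, Int.negSucc 1, Int.negSucc 1, Int.ofNat 0, Int.ofNat 2, Int.ofNat 0, Int.ofNat 0, Int.ofNat 0, Int.ofNat 0, Int.ofNat 0, Int.ofNat 0, Int.ofNat 0, Int.negSucc 1, Int.negSucc 1, Int.negSucc 1, Int.ofNat 0, Int.ofNat 0, Int.ofNat 2, Int.negSucc 1, Int.ofNat 0, Int.ofNat 0, Int.ofNat 0, Int.ofNat 0],
  [Int.ofNat 0, Int.ofNat 0, Int.ofNat 2, Int.negSucc 1, Int.ofNat 0, Int.ofNat 2, Int.ofNat 0, Int.ofNat 0, Int.ofNat 0, Int.ofNat 0, Int.ofNat 0, Int.ofNat 0, Int.ofNat 0, Int.negSucc 1, Int.negSucc 1, Int.negSucc 1, Int.ofNat 0, Int.ofNat 0, Int.negSucc 1, Int.negSucc 1, Int.ofNat 0, Int.ofNat 0, Int.ofNat 0, Int.ofNat 0],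
  [Int.ofNat 0, Int.ofNat 0, Int.ofNat 0, Int.ofNat 2, Int.negSucc 1, Int.ofNat 0, Int.ofNat 2, Int.ofNat 0, Int.ofNat 0, Int.ofNat 0, Int.ofNat 0, Int.ofNat 0, Int.ofNat 0, Int.ofNat 0, Int.negSucc 1, Int.negSucc 1, Int.negSucc 1, Int.ofNat 0, Int.ofNat 0, Int.negSucc 1, Int.negSucc 1, Int.ofNat 0, Int.ofNat 0, Int.ofNat 0],
  [Int.ofNat 0, Int.ofNat 0, Int.ofNat 0, Int.ofNat 2, Int.ofNat 0, Int.ofNat 0, Int.ofNat 2, Int.ofNat 0, Int.ofNat 0, Int.ofNat 2, Int.ofNat 2, Int.ofNat 0, Int.ofNat 0, Int.ofNat 2, Int.negSucc 1, Int.ofNat 0, Int.ofNat 0, Int.ofNat 0, Int.ofNat 0, Int.negSucc 1, Int.ofNat 0, Int.ofNat 0, Int.ofNat 2, Int.ofNat 0],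
  [Int.ofNat 2, Int.ofNat 0, Int.ofNat 0, Int.ofNat 2, Int.ofNat 0, Int.ofNat 0, Int.ofNat 2, Int.ofNat 2, Int.ofNat 0, Int.ofNat 0, Int.ofNat 2, Int.negSucc 1, Int.ofNat 0, Int.ofNat 0, Int.ofNat 0, Int.ofNat 0, Int.negSucc 1, Int.ofNat 0, Int.ofNat 0, Int.ofNat 2, Int.ofNat 0, Int.ofNat 0, Int.ofNat 0, Int.ofNat 0],
  [Int.negSucc 0, Int.ofNat 1, Int.ofNat 1, Int.ofNat 1, Int.ofNat 1, Int.negSucc 0, Int.negSucc 0, Int.negSucc 0, Int.ofNat 1, Int.negSucc 0, Int.ofNat 1, Int.negSucc 0, Int.ofNat 1, Int.ofNat 1, Int.negSucc 0, Int.negSucc 0, Int.negSucc 0, Int.negSucc 0, Int.ofNat 1, Int.negSucc 0, Int.negSucc 0, Int.negSucc 2, Int.ofNat 1, Int.ofNat 1],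
  [Int.negSucc 0, Int.negSucc 0, Int.ofNat 1, Int.ofNat 1, Int.ofNat 1, Int.negSucc 0, Int.ofNat 1, Int.ofNat 1, Int.ofNat 1, Int.ofNat 1, Int.negSucc 0, Int.negSucc 0, Int.negSucc 0, Int.negSucc 0, Int.ofNat 1, Int.negSucc 0, Int.ofNat 1, Int.negSucc 0, Int.ofNat 1, Int.negSucc 0, Int.negSucc 2, Int.negSucc 0, Int.negSucc 0, Int.ofNat 1],
  [Int.ofNat 1, Int.ofNat 1, Int.negSucc 0, Int.ofNat 1, Int.ofNat 1, Int.negSucc 0, Int.ofNat 1, Int.ofNat 1, Int.ofNat 1, Int.ofNat 3, Int.ofNat 1, Int.negSucc 0, Int.negSucc 0, Int.negSucc 0, Int.ofNat 1, Int.ofNat 1, Int.ofNat 1, Int.negSucc 0, Int.ofNat 1, Int.negSucc 0, Int.negSucc 0, Int.negSucc 0, Int.negSucc 0, Int.negSucc 0],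
  [Int.ofNat 1, Int.ofNat 1, Int.ofNat 1, Int.ofNat 1, Int.ofNat 1, Int.ofNat 1, Int.negSucc 0, Int.ofNat 1, Int.ofNat 1, Int.negSucc 2, Int.negSucc 0, Int.negSucc 0, Int.negSucc 0, Int.negSucc 0, Int.ofNat 1, Int.negSucc 0, Int.ofNat 1, Int.negSucc 0, Int.negSucc 0, Int.negSucc 0, Int.negSucc 0, Int.negSucc 0, Int.ofNat 1, Int.negSucc 0],
  [Int.ofNat 1, Int.negSucc 0, Int.ofNat 1, Int.negSucc 0, Int.negSucc 0, Int.negSucc 0, Int.ofNat 1, Int.ofNat 1, Int.negSucc 0, Int.ofNat 1, Int.negSucc 0, Int.ofNat 1, Int.ofNat 1, Int.negSucc 0, Int.negSucc 0, Int.negSucc 0, Int.ofNat 1, Int.negSucc 0, Int.negSucc 0, Int.negSucc 2, Int.ofNat 1, Int.ofNat 1, Int.ofNat 1, Int.negSucc 0],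
  [Int.ofNat 1, Int.negSucc 0, Int.negSucc 0, Int.negSucc 0, Int.negSucc 0, Int.ofNat 1, Int.negSucc 0, Int.ofNat 1, Int.negSucc 0, Int.negSucc 0, Int.ofNat 1, Int.ofNat 1, Int.ofNat 1, Int.negSucc 0, Int.negSucc 0, Int.ofNat 1, Int.ofNat 1, Int.negSucc 0, Int.ofNat 1, Int.negSucc 2, Int.ofNat 1, Int.ofNat 1, Int.negSucc 0, Int.negSucc 0],
  [Int.negSucc 1, Int.ofNat 0, Int.ofNat 0, Int.ofNat 0, Int.ofNat 0, Int.ofNat 2, Int.ofNat 0, Int.ofNat 2, Int.negSucc 1, Int.negSucc 1, Int.ofNat 0, Int.ofNat 0, Int.ofNat 0, Int.ofNat 0, Int.ofNat 0, Int.ofNat 0, Int.ofNat 2, Int.ofNat 0, Int.ofNat 0, Int.negSucc 1, Int.ofNat 0, Int.ofNat 2, Int.ofNat 0, Int.ofNat 0],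
  [Int.negSucc 1, Int.ofNat 0, Int.ofNat 0, Int.ofNat 0, Int.ofNat 0, Int.ofNat 2, Int.ofNat 0, Int.ofNat 2, Int.ofNat 2, Int.ofNat 0, Int.ofNat 2, Int.negSucc 1, Int.negSucc 1, Int.negSucc 1, Int.ofNat 0, Int.ofNat 0, Int.ofNat 0, Int.ofNat 0, Int.ofNat 0, Int.ofNat 0, Int.ofNat 0, Int.ofNat 0, Int.ofNat 0, Int.ofNat 0],
  [Int.ofNat 1, Int.negSucc 0, Int.negSucc 0, Int.negSucc 0, Int.ofNat 1, Int.ofNat 1, Int.negSucc 0, Int.ofNat 1, Int.ofNat 3, Int.negSucc 0, Int.ofNat 1, Int.negSucc 0, Int.negSucc 0, Int.negSucc 0, Int.negSucc 0, Int.negSucc 0, Int.ofNat 1, Int.negSucc 0, Int.ofNat 1, Int.negSucc 0, Int.negSucc 0, Int.negSucc 0, Int.ofNat 1, Int.negSucc 0],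
  [Int.negSucc 0, Int.negSucc 0, Int.ofNat 1, Int.ofNat 1, Int.negSucc 0, Int.negSucc 0, Int.negSucc 0, Int.ofNat 1, Int.ofNat 1, Int.negSucc 0, Int.ofNat 1, Int.ofNat 3, Int.negSucc 0, Int.ofNat 1, Int.negSucc 0, Int.negSucc 0, Int.negSucc 0, Int.negSucc 0, Int.negSucc 0, Int.ofNat 1, Int.negSucc 0, Int.ofNat 1, Int.negSucc 0, Int.negSucc 0],
  [Int.ofNat 0, Int.ofNat 0, Int.negSucc 1, Int.ofNat 2, Int.ofNat 0, Int.ofNat 0, Int.negSucc 1, Int.ofNat 0, Int.ofNat 0, Int.ofNat 0, Int.ofNat 2, Int.ofNat 2, Int.negSucc 1, Int.ofNat 2, Int.ofNat 0, Int.ofNat 0, Int.ofNat 0, Int.ofNat 0, Int.negSucc 1, Int.ofNat 0, Int.ofNat 0, Int.ofNat 0, Int.ofNat 0, Int.ofNat 0],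
  [Int.ofNat 0, Int.negSucc 1, Int.ofNat 2, Int.ofNat 0, Int.ofNat 0, Int.negSucc 1, Int.ofNat 0, Int.ofNat 0, Int.ofNat 0, Int.ofNat 2, Int.ofNat 2, Int.negSucc 1, Int.ofNat 2, Int.ofNat 0, Int.ofNat 0, Int.ofNat 0, Int.ofNat 0, Int.negSucc 1, Int.ofNat 0, Int.ofNat 0, Int.ofNat 0, Int.ofNat 0, Int.ofNat 0, Int.ofNat 0],
  [Int.ofNat 0, Int.negSucc 1, Int.negSucc 1, Int.ofNat 0, Int.ofNat 0, Int.negSucc 1, Int.ofNat 0, Int.ofNat 0, Int.ofNat 0, Int.negSucc 1, Int.negSucc 1, Int.ofNat 2, Int.ofNat 2, Int.ofNat 0, Int.ofNat 0, Int.ofNat 0, Int.ofNat 0, Int.negSucc 1, Int.ofNat 0, Int.ofNat 0, Int.ofNat 0, Int.ofNat 0, Int.ofNat 0, Int.ofNat 0],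
  [Int.ofNat 0, Int.ofNat 2, Int.ofNat 2, Int.ofNat 0, Int.ofNat 0, Int.negSucc 1, Int.ofNat 0, Int.ofNat 0, Int.ofNat 0, Int.ofNat 2, Int.negSucc 1, Int.ofNat 2, Int.negSucc 1, Int.ofNat 0, Int.ofNat 0, Int.ofNat 0, Int.ofNat 0, Int.negSucc 1, Int.ofNat 0, Int.ofNat 0, Int.ofNat 0, Int.ofNat 0, Int.ofNat 0, Int.ofNat 0],
  [Int.ofNat 0, Int.ofNat 0, Int.ofNat 2, Int.ofNat 0, Int.negSucc 1, Int.ofNat 2, Int.ofNat 0, Int.ofNat 0, Int.ofNat 0, Int.negSucc 1, Int.ofNat 0, Int.ofNat 2, Int.ofNat 0, Int.ofNat 0, Int.ofNat 0, Int.ofNat 0, Int.negSucc 1, Int.ofNat 0, Int.ofNat 0, Int.ofNat 0, Int.ofNat 0, Int.negSucc 1, Int.ofNat 2, Int.ofNat 0],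
  [Int.ofNat 0, Int.ofNat 0, Int.negSucc 1, Int.ofNat 0, Int.negSucc 1, Int.ofNat 2, Int.ofNat 0, Int.ofNat 0, Int.ofNat 0, Int.ofNat 2, Int.ofNat 0, Int.negSucc 1, Int.ofNat 0, Int.ofNat 0, Int.ofNat 0, Int.ofNat 0, Int.negSucc 1, Int.ofNat 0, Int.ofNat 0, Int.ofNat 0, Int.ofNat 0, Int.ofNat 2, Int.ofNat 2, Int.ofNat 0],
  [Int.ofNat 2, Int.ofNat 0, Int.ofNat 0, Int.negSucc 1, Int.ofNat 0, Int.negSucc 1, Int.ofNat 2, Int.ofNat 0, Int.ofNat 0, Int.ofNat 0, Int.ofNat 2, Int.ofNat 0, Int.negSucc 1, Int.ofNat 0, Int.ofNat 0, Int.ofNat 0, Int.ofNat 0, Int.negSucc 1, Int.ofNat 0, Int.ofNat 0, Int.ofNat 0, Int.ofNat 0, Int.ofNat 2, Int.ofNat 0],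
  [Int.negSucc 0, Int.ofNat 1, Int.ofNat 1, Int.ofNat 1, Int.negSucc 0, Int.ofNat 1, Int.ofNat 1, Int.negSucc 0, Int.ofNat 1, Int.negSucc 0, Int.ofNat 1, Int.ofNat 1, Int.negSucc 0, Int.negSucc 0, Int.ofNat 3, Int.negSucc 0, Int.negSucc 0, Int.ofNat 1, Int.ofNat 1, Int.negSucc 0, Int.negSucc 0, Int.negSucc 0, Int.ofNat 1, Int.ofNat 1],
  [Int.ofNat 1, Int.negSucc 0, Int.ofNat 1, Int.ofNat 1, Int.negSucc 0, Int.ofNat 1, Int.negSucc 0, Int.ofNat 1, Int.ofNat 1, Int.negSucc 0, Int.negSucc 0, Int.ofNat 3, Int.negSucc 0, Int.negSucc 0, Int.ofNat 1, Int.ofNat 1, Int.negSucc 0, Int.negSucc 0, Int.negSucc 0, Int.ofNat 1, Int.negSucc 0, Int.ofNat 1, Int.ofNat 1, Int.ofNat 1],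
  [Int.ofNat 0, Int.ofNat 2, Int.ofNat 0, Int.ofNat 0, Int.ofNat 0, Int.ofNat 0, Int.negSucc 1, Int.ofNat 0, Int.ofNat 0, Int.ofNat 0, Int.ofNat 0, Int.ofNat 2, Int.negSucc 1, Int.ofNat 0, Int.ofNat 0, Int.ofNat 2, Int.ofNat 0, Int.negSucc 1, Int.negSucc 1, Int.ofNat 0, Int.ofNat 0, Int.ofNat 0, Int.ofNat 2, Int.ofNat 0],
  [Int.ofNat 0, Int.negSucc 1, Int.ofNat 0, Int.ofNat 0, Int.negSucc 1, Int.ofNat 0, Int.ofNat 0, Int.ofNat 0, Int.negSucc 1, Int.ofNat 0, Int.ofNat 0, Int.negSucc 1, Int.ofNat 0, Int.ofNat 0, Int.ofNat 2, Int.ofNat 2, Int.ofNat 0, Int.ofNat 0, Int.ofNat 2, Int.ofNat 2, Int.ofNat 0, Int.ofNat 0, Int.ofNat 0, Int.ofNat 0],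
  [Int.negSucc 0, Int.ofNat 1, Int.negSucc 0, Int.negSucc 0, Int.negSucc 0, Int.negSucc 0, Int.negSucc 0, Int.negSucc 0, Int.negSucc 0, Int.negSucc 0, Int.negSucc 0, Int.negSucc 0, Int.ofNat 1, Int.ofNat 1, Int.ofNat 1, Int.ofNat 1, Int.ofNat 1, Int.negSucc 0, Int.ofNat 3, Int.ofNat 1, Int.negSucc 0, Int.negSucc 0, Int.ofNat 1, Int.negSucc 0],
  [Int.negSucc 0, Int.ofNat 1, Int.ofNat 1, Int.negSucc 0, Int.negSucc 0, Int.ofNat 1, Int.ofNat 1, Int.negSucc 0, Int.negSucc 0, Int.ofNat 1, Int.ofNat 1, Int.negSucc 0, Int.ofNat 1, Int.ofNat 1, Int.ofNat 1, Int.negSucc 0, Int.ofNat 1, Int.negSucc 0, Int.negSucc 2, Int.ofNat 1, Int.negSucc 0, Int.negSucc 0, Int.negSucc 0, Int.negSucc 0],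
  [Int.negSucc 0, Int.ofNat 1, Int.ofNat 1, Int.negSucc 0, Int.negSucc 2, Int.ofNat 1, Int.negSucc 0, Int.negSucc 0, Int.ofNat 1, Int.negSucc 0, Int.negSucc 0, Int.ofNat 1, Int.ofNat 1, Int.negSucc 0, Int.negSucc 0, Int.negSucc 0, Int.negSucc 0, Int.ofNat 1, Int.ofNat 1, Int.ofNat 1, Int.negSucc 0, Int.ofNat 1, Int.ofNat 1, Int.negSucc 0],
  [Int.negSucc 0, Int.ofNat 1, Int.negSucc 0, Int.negSucc 0, Int.negSucc 2, Int.negSucc 0, Int.ofNat 1, Int.negSucc 0, Int.ofNat 1, Int.ofNat 1, Int.ofNat 1, Int.ofNat 1, Int.ofNat 1, Int.negSucc 0, Int.negSucc 0, Int.ofNat 1, Int.negSucc 0, Int.ofNat 1, Int.negSucc 0, Int.ofNat 1, Int.negSucc 0, Int.ofNat 1, Int.negSucc 0, Int.negSucc 0],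
  [Int.ofNat 0, Int.negSucc 1, Int.ofNat 0, Int.ofNat 0, Int.ofNat 0, Int.ofNat 0, Int.ofNat 0, Int.negSucc 1, Int.ofNat 0, Int.ofNat 0, Int.ofNat 0, Int.ofNat 0, Int.ofNat 0, Int.ofNat 2, Int.ofNat 0, Int.ofNat 0, Int.ofNat 2, Int.ofNat 2, Int.negSucc 1, Int.ofNat 0, Int.negSucc 1, Int.ofNat 0, Int.ofNat 2, Int.ofNat 0],
  [Int.ofNat 0, Int.negSucc 1, Int.ofNat 0, Int.ofNat 0, Int.ofNat 0, Int.ofNat 0, Int.negSucc 1, Int.ofNat 0, Int.ofNat 2, Int.ofNat 0, Int.negSucc 1, Int.ofNat 0, Int.ofNat 0, Int.ofNat 0, Int.ofNat 2, Int.ofNat 0, Int.ofNat 2, Int.ofNat 0, Int.ofNat 0, Int.ofNat 2, Int.ofNat 0, Int.negSucc 1, Int.ofNat 0, Int.ofNat 0],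
  [Int.negSucc 0, Int.ofNat 1, Int.negSucc 0, Int.negSucc 0, Int.negSucc 0, Int.negSucc 0, Int.negSucc 0, Int.ofNat 1, Int.ofNat 1, Int.ofNat 1, Int.negSucc 0, Int.negSucc 0, Int.negSucc 0, Int.negSucc 0, Int.ofNat 1, Int.ofNat 1, Int.ofNat 1, Int.negSucc 0, Int.negSucc 0, Int.ofNat 3, Int.ofNat 1, Int.negSucc 0, Int.negSucc 0, Int.negSucc 0],
  [Int.ofNat 1, Int.negSucc 0, Int.negSucc 0, Int.negSucc 0, Int.ofNat 1, Int.negSucc 0, Int.negSucc 0, Int.negSucc 0, Int.negSucc 0, Int.negSucc 0, Int.ofNat 1, Int.ofNat 1, Int.ofNat 1, Int.negSucc 0, Int.negSucc 0, Int.negSucc 0, Int.negSucc 0, Int.ofNat 1, Int.ofNat 1, Int.ofNat 1, Int.negSucc 0, Int.negSucc 0, Int.ofNat 3, Int.negSucc 0],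
  [Int.negSucc 1, Int.ofNat 0, Int.ofNat 0, Int.ofNat 0, Int.ofNat 0, Int.ofNat 0, Int.ofNat 0, Int.ofNat 0, Int.negSucc 1, Int.ofNat 0, Int.ofNat 2, Int.ofNat 0, Int.ofNat 0, Int.negSucc 1, Int.ofNat 0, Int.ofNat 0, Int.negSucc 1, Int.ofNat 2, Int.ofNat 0, Int.ofNat 2, Int.ofNat 0, Int.ofNat 0, Int.ofNat 2, Int.ofNat 0],
  [Int.ofNat 0, Int.ofNat 0, Int.ofNat 0, Int.ofNat 0, Int.ofNat 0, Int.ofNat 0, Int.ofNat 0, Int.negSucc 1, Int.ofNat 0, Int.ofNat 2, Int.ofNat 0, Int.ofNat 0, Int.negSucc 1, Int.ofNat 0, Int.ofNat 0, Int.negSucc 1, Int.ofNat 2, Int.ofNat 0, Int.ofNat 2, Int.ofNat 0, Int.ofNat 0, Int.ofNat 2, Int.negSucc 1, Int.ofNat 0],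
  [Int.ofNat 0, Int.ofNat 0, Int.ofNat 0, Int.ofNat 0, Int.ofNat 0, Int.ofNat 0, Int.ofNat 0, Int.ofNat 2, Int.ofNat 0, Int.negSucc 1, Int.ofNat 0, Int.ofNat 0, Int.negSucc 1, Int.ofNat 0, Int.ofNat 0, Int.negSucc 1, Int.ofNat 2, Int.ofNat 0, Int.negSucc 1, Int.ofNat 0, Int.ofNat 0, Int.negSucc 1, Int.negSucc 1, Int.ofNat 0],
  [Int.ofNat 0, Int.ofNat 0, Int.ofNat 0, Int.ofNat 0, Int.ofNat 0, Int.ofNat 0, Int.ofNat 0, Int.ofNat 2, Int.ofNat 0, Int.ofNat 2, Int.ofNat 0, Int.ofNat 0, Int.ofNat 2, Int.ofNat 0, Int.ofNat 0, Int.negSucc 1, Int.negSucc 1, Int.ofNat 0, Int.ofNat 2, Int.ofNat 0, Int.ofNat 0, Int.negSucc 1, Int.negSucc 1, Int.ofNat 0],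
  [Int.ofNat 0, Int.negSucc 1, Int.ofNat 0, Int.negSucc 1, Int.ofNat 0, Int.ofNat 2, Int.ofNat 0, Int.ofNat 0, Int.ofNat 0, Int.ofNat 0, Int.negSucc 1, Int.ofNat 0, Int.negSucc 1, Int.ofNat 2, Int.ofNat 2, Int.ofNat 0, Int.ofNat 0, Int.ofNat 0, Int.ofNat 0, Int.ofNat 0, Int.ofNat 0, Int.ofNat 2, Int.ofNat 0, Int.ofNat 0],
  [Int.ofNat 0, Int.negSucc 1, Int.ofNat 0, Int.negSucc 1, Int.ofNat 0, Int.ofNat 2, Int.ofNat 0, Int.ofNat 0, Int.ofNat 0, Int.ofNat 0, Int.ofNat 2, Int.ofNat 0, Int.negSucc 1, Int.ofNat 2, Int.ofNat 2, Int.ofNat 0, Int.ofNat 0, Int.ofNat 0, Int.ofNat 0, Int.ofNat 0, Int.ofNat 0, Int.negSucc 1, Int.ofNat 0, Int.ofNat 0],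
  [Int.ofNat 0, Int.ofNat 0, Int.negSucc 1, Int.ofNat 0, Int.negSucc 1, Int.ofNat 0, Int.ofNat 2, Int.ofNat 0, Int.ofNat 0, Int.ofNat 0, Int.ofNat 0, Int.ofNat 2, Int.ofNat 0, Int.negSucc 1, Int.ofNat 2, Int.ofNat 2, Int.ofNat 0, Int.ofNat 0, Int.ofNat 0, Int.ofNat 0, Int.ofNat 0, Int.ofNat 0, Int.negSucc 1, Int.ofNat 0],
  [Int.negSucc 0, Int.negSucc 0, Int.ofNat 1, Int.negSucc 0, Int.ofNat 1, Int.negSucc 0, Int.ofNat 1, Int.negSucc 0, Int.negSucc 0, Int.negSucc 0, Int.negSucc 0, Int.ofNat 1, Int.negSucc 0, Int.ofNat 1, Int.ofNat 1, Int.ofNat 1, Int.ofNat 3, Int.negSucc 0, Int.negSucc 0, Int.negSucc 0, Int.negSucc 0, Int.negSucc 0, Int.ofNat 1, Int.negSucc 0],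
  [Int.negSucc 0, Int.ofNat 1, Int.negSucc 0, Int.ofNat 1, Int.negSucc 0, Int.negSucc 0, Int.negSucc 0, Int.negSucc 0, Int.ofNat 1, Int.negSucc 0, Int.ofNat 1, Int.ofNat 1, Int.ofNat 1, Int.ofNat 3, Int.negSucc 0, Int.negSucc 0, Int.negSucc 0, Int.negSucc 0, Int.negSucc 0, Int.ofNat 1, Int.negSucc 0, Int.negSucc 0, Int.ofNat 1, Int.negSucc 0],
  [Int.ofNat 0, Int.negSucc 1, Int.ofNat 0, Int.ofNat 2, Int.negSucc 1, Int.ofNat 0, Int.ofNat 0, Int.ofNat 0, Int.ofNat 0, Int.ofNat 0, Int.ofNat 2, Int.ofNat 0, Int.ofNat 0, Int.ofNat 2, Int.ofNat 0, Int.ofNat 0, Int.negSucc 1, Int.ofNat 0, Int.negSucc 1, Int.ofNat 2, Int.ofNat 0, Int.ofNat 0, Int.ofNat 0, Int.ofNat 0],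
  [Int.ofNat 0, Int.ofNat 0, Int.negSucc 1, Int.ofNat 2, Int.negSucc 1, Int.ofNat 0, Int.ofNat 0, Int.ofNat 2, Int.ofNat 0, Int.ofNat 2, Int.ofNat 0, Int.ofNat 0, Int.ofNat 0, Int.negSucc 1, Int.ofNat 0, Int.ofNat 0, Int.ofNat 0, Int.ofNat 0, Int.negSucc 1, Int.ofNat 0, Int.ofNat 0, Int.ofNat 0, Int.ofNat 2, Int.ofNat 0],
  [Int.negSucc 0, Int.negSucc 0, Int.ofNat 1, Int.ofNat 1, Int.negSucc 0, Int.negSucc 0, Int.negSucc 0, Int.ofNat 1, Int.ofNat 1, Int.ofNat 1, Int.negSucc 0, Int.ofNat 1, Int.ofNat 1, Int.negSucc 0, Int.negSucc 0, Int.negSucc 0, Int.ofNat 1, Int.negSucc 0, Int.negSucc 0, Int.negSucc 0, Int.negSucc 0, Int.negSucc 0, Int.ofNat 3, Int.negSucc 0],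
  [Int.negSucc 0, Int.negSucc 0, Int.negSucc 0, Int.ofNat 1, Int.negSucc 0, Int.ofNat 1, Int.ofNat 1, Int.ofNat 1, Int.ofNat 1, Int.negSucc 0, Int.ofNat 1, Int.ofNat 1, Int.ofNat 1, Int.negSucc 0, Int.negSucc 0, Int.ofNat 1, Int.ofNat 1, Int.negSucc 0, Int.ofNat 1, Int.negSucc 0, Int.negSucc 0, Int.negSucc 0, Int.negSucc 2, Int.negSucc 0],
  [Int.negSucc 2, Int.ofNat 1, Int.negSucc 0, Int.negSucc 0, Int.ofNat 1, Int.negSucc 0, Int.ofNat 1, Int.negSucc 0, Int.ofNat 1, Int.negSucc 0, Int.ofNat 1, Int.negSucc 0, Int.negSucc 0, Int.ofNat 1, Int.negSucc 0, Int.negSucc 0, Int.ofNat 1, Int.negSucc 0, Int.ofNat 1, Int.negSucc 0, Int.ofNat 1, Int.ofNat 1, Int.ofNat 1, Int.negSucc 0],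
  [Int.negSucc 2, Int.ofNat 1, Int.ofNat 1, Int.negSucc 0, Int.ofNat 1, Int.ofNat 1, Int.negSucc 0, Int.negSucc 0, Int.ofNat 1, Int.ofNat 1, Int.negSucc 0, Int.negSucc 0, Int.negSucc 0, Int.ofNat 1, Int.negSucc 0, Int.ofNat 1, Int.ofNat 1, Int.negSucc 0, Int.negSucc 0, Int.negSucc 0, Int.ofNat 1, Int.ofNat 1, Int.negSucc 0, Int.negSucc 0],
  [Int.ofNat 2, Int.negSucc 1, Int.negSucc 1, Int.ofNat 0, Int.ofNat 0, Int.ofNat 2, Int.ofNat 0, Int.ofNat 0, Int.ofNat 2, Int.ofNat 0, Int.negSucc 1, Int.ofNat 0, Int.ofNat 0, Int.ofNat 0, Int.ofNat 0, Int.ofNat 0, Int.ofNat 0, Int.ofNat 0, Int.ofNat 0, Int.ofNat 0, Int.ofNat 0, Int.ofNat 2, Int.negSucc 1, Int.ofNat 0],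
  [Int.ofNat 2, Int.ofNat 0, Int.ofNat 0, Int.ofNat 0, Int.negSucc 1, Int.ofNat 2, Int.negSucc 1, Int.ofNat 2, Int.ofNat 0, Int.ofNat 0, Int.ofNat 0, Int.ofNat 0, Int.ofNat 2, Int.ofNat 0, Int.ofNat 0, Int.ofNat 0, Int.ofNat 0, Int.ofNat 0, Int.ofNat 0, Int.negSucc 1, Int.negSucc 1, Int.ofNat 0, Int.ofNat 0, Int.ofNat 0],
  [Int.negSucc 0, Int.ofNat 1, Int.ofNat 1, Int.negSucc 0, Int.negSucc 0, Int.ofNat 1, Int.negSucc 0, Int.ofNat 3, Int.negSucc 0, Int.ofNat 1, Int.ofNat 1, Int.negSucc 0, Int.ofNat 1, Int.ofNat 1, Int.negSucc 0, Int.ofNat 1, Int.ofNat 1, Int.negSucc 0, Int.negSucc 0, Int.negSucc 0, Int.negSucc 0, Int.ofNat 1, Int.ofNat 1, Int.ofNat 1],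
  [Int.negSucc 0, Int.ofNat 1, Int.ofNat 1, Int.negSucc 0, Int.ofNat 1, Int.ofNat 1, Int.negSucc 0, Int.negSucc 0, Int.ofNat 1, Int.negSucc 0, Int.ofNat 3, Int.negSucc 0, Int.ofNat 1, Int.ofNat 1, Int.negSucc 0, Int.ofNat 1, Int.ofNat 1, Int.negSucc 0, Int.ofNat 1, Int.ofNat 1, Int.negSucc 0, Int.negSucc 0, Int.negSucc 0, Int.ofNat 1],
  [Int.ofNat 2, Int.ofNat 0, Int.ofNat 0, Int.ofNat 0, Int.ofNat 0, Int.ofNat 2, Int.ofNat 0, Int.ofNat 0, Int.ofNat 0, Int.negSucc 1, Int.ofNat 2, Int.negSucc 1, Int.ofNat 0, Int.ofNat 0, Int.ofNat 0, Int.ofNat 0, Int.ofNat 0, Int.ofNat 0, Int.ofNat 0, Int.ofNat 2, Int.negSucc 1, Int.ofNat 0, Int.negSucc 1, Int.ofNat 0],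
  [Int.ofNat 0, Int.ofNat 0, Int.ofNat 0, Int.ofNat 0, Int.ofNat 2, Int.ofNat 0, Int.ofNat 0, Int.ofNat 0, Int.negSucc 1, Int.ofNat 2, Int.negSucc 1, Int.ofNat 0, Int.ofNat 0, Int.ofNat 0, Int.ofNat 0, Int.ofNat 0, Int.ofNat 0, Int.ofNat 0, Int.ofNat 2, Int.negSucc 1, Int.ofNat 0, Int.negSucc 1, Int.ofNat 2, Int.ofNat 0],
  [Int.ofNat 0, Int.ofNat 0, Int.ofNat 0, Int.ofNat 0, Int.ofNat 2, Int.ofNat 0, Int.ofNat 0, Int.ofNat 0, Int.negSucc 1, Int.negSucc 1, Int.ofNat 2, Int.ofNat 0, Int.ofNat 0, Int.ofNat 0, Int.ofNat 0, Int.ofNat 0, Int.ofNat 0, Int.ofNat 0, Int.negSucc 1, Int.negSucc 1, Int.ofNat 0, Int.ofNat 2, Int.ofNat 2, Int.ofNat 0],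
  [Int.ofNat 0, Int.ofNat 0, Int.ofNat 0, Int.ofNat 0, Int.negSucc 1, Int.ofNat 0, Int.ofNat 0, Int.ofNat 0, Int.ofNat 2, Int.ofNat 2, Int.ofNat 2, Int.ofNat 0, Int.ofNat 0, Int.ofNat 0, Int.ofNat 0, Int.ofNat 0, Int.ofNat 0, Int.ofNat 0, Int.ofNat 2, Int.negSucc 1, Int.ofNat 0, Int.ofNat 2, Int.ofNat 2, Int.ofNat 0],
  [Int.ofNat 0, Int.ofNat 2, Int.ofNat 0, Int.ofNat 0, Int.ofNat 0, Int.ofNat 2, Int.negSucc 1, Int.ofNat 0, Int.ofNat 0, Int.ofNat 0, Int.ofNat 0, Int.ofNat 0, Int.ofNat 2, Int.ofNat 0, Int.ofNat 2, Int.ofNat 0, Int.ofNat 2, Int.negSucc 1, Int.ofNat 0, Int.ofNat 0, Int.ofNat 2, Int.ofNat 0, Int.ofNat 0, Int.ofNat 0],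
  [Int.ofNat 0, Int.ofNat 2, Int.ofNat 0, Int.ofNat 0, Int.ofNat 0, Int.ofNat 2, Int.negSucc 1, Int.ofNat 0, Int.ofNat 0, Int.ofNat 0, Int.ofNat 0, Int.ofNat 0, Int.ofNat 2, Int.ofNat 0, Int.ofNat 2, Int.ofNat 0, Int.ofNat 2, Int.negSucc 1, Int.ofNat 0, Int.ofNat 0, Int.ofNat 2, Int.ofNat 0, Int.ofNat 0, Int.ofNat 0],
  [Int.ofNat 0, Int.ofNat 0, Int.ofNat 2, Int.ofNat 0, Int.ofNat 0, Int.ofNat 0, Int.ofNat 2, Int.negSucc 1, Int.ofNat 0, Int.ofNat 0, Int.ofNat 0, Int.ofNat 0, Int.ofNat 0, Int.ofNat 2, Int.ofNat 0, Int.ofNat 2, Int.ofNat 0, Int.ofNat 2, Int.negSucc 1, Int.ofNat 0, Int.ofNat 0, Int.ofNat 2, Int.ofNat 0, Int.ofNat 0],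
  [Int.ofNat 1, Int.ofNat 1, Int.negSucc 0, Int.negSucc 0, Int.negSucc 0, Int.negSucc 0, Int.ofNat 1, Int.negSucc 2, Int.ofNat 1, Int.negSucc 0, Int.negSucc 0, Int.ofNat 1, Int.ofNat 1, Int.ofNat 1, Int.negSucc 0, Int.ofNat 1, Int.negSucc 0, Int.ofNat 1, Int.negSucc 0, Int.negSucc 0, Int.negSucc 0, Int.ofNat 1, Int.negSucc 0, Int.ofNat 1],
  [Int.negSucc 0, Int.negSucc 0, Int.negSucc 0, Int.ofNat 1, Int.negSucc 2, Int.ofNat 1, Int.negSucc 0, Int.negSucc 0, Int.ofNat 1, Int.ofNat 1, Int.ofNat 1, Int.negSucc 0, Int.ofNat 1, Int.negSucc 0, Int.ofNat 1, Int.negSucc 0, Int.negSucc 0, Int.negSucc 0, Int.ofNat 1, Int.negSucc 0, Int.ofNat 1, Int.ofNat 1, Int.negSucc 0, Int.ofNat 1],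
  [Int.ofNat 0, Int.ofNat 0, Int.ofNat 0, Int.ofNat 0, Int.ofNat 0, Int.ofNat 0, Int.ofNat 0, Int.ofNat 0, Int.ofNat 0, Int.ofNat 0, Int.ofNat 0, Int.negSucc 1, Int.ofNat 0, Int.ofNat 2, Int.ofNat 0, Int.negSucc 1, Int.ofNat 2, Int.negSucc 1, Int.ofNat 0, Int.ofNat 0, Int.ofNat 0, Int.ofNat 2, Int.ofNat 2, Int.negSucc 1],
  [Int.ofNat 0, Int.ofNat 0, Int.ofNat 0, Int.ofNat 0, Int.ofNat 0, Int.ofNat 0, Int.ofNat 0, Int.ofNat 0, Int.ofNat 0, Int.ofNat 2, Int.ofNat 0, Int.negSucc 1, Int.ofNat 0, Int.ofNat 2, Int.ofNat 2, Int.negSucc 1, Int.ofNat 0, Int.ofNat 0, Int.ofNat 0, Int.negSucc 1, Int.ofNat 2, Int.ofNat 0, Int.ofNat 0, Int.negSucc 1],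
  [Int.negSucc 0, Int.negSucc 0, Int.negSucc 0, Int.negSucc 0, Int.negSucc 0, Int.negSucc 0, Int.ofNat 1, Int.ofNat 1, Int.ofNat 1, Int.ofNat 1, Int.negSucc 0, Int.negSucc 0, Int.ofNat 1, Int.ofNat 1, Int.ofNat 1, Int.negSucc 2, Int.negSucc 0, Int.negSucc 0, Int.ofNat 1, Int.negSucc 0, Int.ofNat 1, Int.ofNat 1, Int.negSucc 0, Int.ofNat 1],
  [Int.negSucc 0, Int.negSucc 0, Int.ofNat 1, Int.negSucc 0, Int.negSucc 0, Int.ofNat 1, Int.negSucc 0, Int.ofNat 1, Int.ofNat 1, Int.negSucc 0, Int.ofNat 1, Int.negSucc 0, Int.ofNat 1, Int.ofNat 1, Int.ofNat 1, Int.ofNat 3, Int.negSucc 0, Int.negSucc 0, Int.negSucc 0, Int.negSucc 0, Int.ofNat 1, Int.ofNat 1, Int.ofNat 1, Int.ofNat 1],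
  [Int.ofNat 1, Int.ofNat 1, Int.negSucc 0, Int.ofNat 1, Int.negSucc 0, Int.ofNat 1, Int.negSucc 0, Int.negSucc 0, Int.negSucc 0, Int.negSucc 0, Int.negSucc 0, Int.ofNat 1, Int.ofNat 1, Int.ofNat 3, Int.ofNat 1, Int.negSucc 0, Int.ofNat 1, Int.negSucc 0, Int.ofNat 1, Int.negSucc 0, Int.ofNat 1, Int.ofNat 1, Int.negSucc 0, Int.ofNat 1],
  [Int.ofNat 1, Int.ofNat 1, Int.ofNat 1, Int.ofNat 1, Int.negSucc 0, Int.negSucc 0, Int.ofNat 1, Int.negSucc 0, Int.negSucc 0, Int.ofNat 1, Int.ofNat 1, Int.ofNat 1, Int.ofNat 1, Int.ofNat 3, Int.ofNat 1, Int.ofNat 1, Int.ofNat 1, Int.negSucc 0, Int.negSucc 0, Int.negSucc 0, Int.ofNat 1, Int.ofNat 1, Int.ofNat 1, Int.ofNat 1],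
  [Int.ofNat 1, Int.ofNat 1, Int.ofNat 1, Int.ofNat 1, Int.negSucc 2, Int.negSucc 0, Int.ofNat 1, Int.negSucc 0, Int.negSucc 0, Int.negSucc 0, Int.negSucc 0, Int.ofNat 1, Int.ofNat 1, Int.ofNat 1, Int.ofNat 1, Int.negSucc 0, Int.negSucc 0, Int.negSucc 0, Int.negSucc 0, Int.negSucc 0, Int.negSucc 0, Int.ofNat 1, Int.negSucc 0, Int.ofNat 1],
  [Int.ofNat 1, Int.negSucc 0, Int.ofNat 1, Int.ofNat 1, Int.ofNat 1, Int.ofNat 1, Int.ofNat 1, Int.negSucc 0, Int.negSucc 0, Int.ofNat 1, Int.negSucc 0, Int.negSucc 0, Int.negSucc 0, Int.negSucc 0, Int.negSucc 0, Int.negSucc 0, Int.ofNat 1, Int.ofNat 1, Int.negSucc 2, Int.negSucc 0, Int.negSucc 0, Int.negSucc 0, Int.ofNat 1, Int.ofNat 1],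
  [Int.ofNat 0, Int.ofNat 2, Int.ofNat 0, Int.ofNat 0, Int.ofNat 0, Int.ofNat 0, Int.ofNat 2, Int.ofNat 0, Int.ofNat 2, Int.ofNat 2, Int.ofNat 0, Int.ofNat 2, Int.ofNat 2, Int.negSucc 1, Int.negSucc 1, Int.ofNat 0, Int.ofNat 0, Int.ofNat 0, Int.ofNat 0, Int.ofNat 0, Int.ofNat 0, Int.ofNat 0, Int.ofNat 0, Int.ofNat 0],
  [Int.ofNat 0, Int.ofNat 0, Int.ofNat 0, Int.ofNat 0, Int.ofNat 2, Int.ofNat 0, Int.ofNat 0, Int.ofNat 0, Int.ofNat 0, Int.ofNat 2, Int.ofNat 0, Int.ofNat 2, Int.ofNat 2, Int.ofNat 0, Int.ofNat 2, Int.ofNat 2, Int.negSucc 1, Int.negSucc 1, Int.ofNat 0, Int.ofNat 0, Int.ofNat 0, Int.ofNat 0, Int.ofNat 0, Int.ofNat 0],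
  [Int.ofNat 0, Int.ofNat 0, Int.ofNat 0, Int.ofNat 0, Int.ofNat 2, Int.ofNat 0, Int.ofNat 0, Int.ofNat 0, Int.negSucc 1, Int.ofNat 0, Int.negSucc 1, Int.ofNat 0, Int.ofNat 0, Int.ofNat 0, Int.ofNat 2, Int.ofNat 0, Int.negSucc 1, Int.negSucc 1, Int.negSucc 1, Int.ofNat 0, Int.negSucc 1, Int.ofNat 0, Int.ofNat 0, Int.ofNat 0],
  [Int.ofNat 0, Int.ofNat 0, Int.ofNat 0, Int.ofNat 2, Int.ofNat 0, Int.ofNat 0, Int.ofNat 0, Int.negSucc 1, Int.ofNat 0, Int.negSucc 1, Int.ofNat 0, Int.ofNat 0, Int.ofNat 0, Int.ofNat 2, Int.ofNat 0, Int.negSucc 1, Int.negSucc 1, Int.negSucc 1, Int.ofNat 0, Int.negSucc 1, Int.ofNat 0, Int.ofNat 0, Int.ofNat 0, Int.ofNat 0],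
  [Int.ofNat 0, Int.ofNat 0, Int.ofNat 0, Int.ofNat 2, Int.ofNat 0, Int.ofNat 0, Int.ofNat 0, Int.ofNat 2, Int.ofNat 0, Int.ofNat 2, Int.ofNat 0, Int.ofNat 0, Int.ofNat 0, Int.ofNat 2, Int.ofNat 0, Int.negSucc 1, Int.negSucc 1, Int.negSucc 1, Int.ofNat 0, Int.negSucc 1, Int.ofNat 0, Int.ofNat 0, Int.ofNat 0, Int.ofNat 0],
  [Int.ofNat 0, Int.ofNat 0, Int.ofNat 0, Int.negSucc 1, Int.ofNat 0, Int.ofNat 0, Int.ofNat 0, Int.ofNat 2, Int.ofNat 0, Int.negSucc 1, Int.ofNat 0, Int.ofNat 0, Int.ofNat 0, Int.negSucc 1, Int.ofNat 0, Int.negSucc 1, Int.ofNat 2, Int.negSucc 1, Int.ofNat 0, Int.negSucc 1, Int.ofNat 0, Int.ofNat 0, Int.ofNat 0, Int.ofNat 0],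
  [Int.ofNat 0, Int.ofNat 0, Int.ofNat 0, Int.negSucc 1, Int.negSucc 1, Int.negSucc 1, Int.negSucc 1, Int.negSucc 1, Int.ofNat 0, Int.ofNat 0, Int.ofNat 2, Int.ofNat 0, Int.ofNat 0, Int.ofNat 2, Int.ofNat 0, Int.negSucc 1, Int.ofNat 0, Int.ofNat 0, Int.ofNat 0, Int.ofNat 0, Int.ofNat 0, Int.ofNat 0, Int.ofNat 0, Int.ofNat 0],
  [Int.ofNat 0, Int.ofNat 0, Int.ofNat 0, Int.negSucc 1, Int.negSucc 1, Int.negSucc 1, Int.negSucc 1, Int.ofNat 2, Int.ofNat 0, Int.ofNat 0, Int.negSucc 1, Int.ofNat 0, Int.ofNat 0, Int.ofNat 2, Int.ofNat 0, Int.negSucc 1, Int.ofNat 0, Int.ofNat 0, Int.ofNat 0, Int.ofNat 0, Int.ofNat 0, Int.ofNat 0, Int.ofNat 0, Int.ofNat 0],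
  [Int.ofNat 0, Int.ofNat 0, Int.ofNat 0, Int.ofNat 0, Int.negSucc 1, Int.negSucc 1, Int.negSucc 1, Int.negSucc 1, Int.ofNat 2, Int.ofNat 0, Int.ofNat 0, Int.negSucc 1, Int.ofNat 0, Int.ofNat 0, Int.ofNat 2, Int.ofNat 0, Int.negSucc 1, Int.ofNat 0, Int.ofNat 0, Int.ofNat 0, Int.ofNat 0, Int.ofNat 0, Int.ofNat 0, Int.ofNat 0],
  [Int.ofNat 0, Int.ofNat 0, Int.ofNat 0, Int.ofNat 0, Int.ofNat 0, Int.negSucc 1, Int.ofNat 0, Int.ofNat 0, Int.ofNat 2, Int.ofNat 0, Int.ofNat 0, Int.negSucc 1, Int.ofNat 0, Int.ofNat 2, Int.ofNat 2, Int.ofNat 0, Int.ofNat 0, Int.ofNat 0, Int.ofNat 0, Int.ofNat 2, Int.ofNat 0, Int.ofNat 2, Int.ofNat 2, Int.ofNat 0],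
  [Int.ofNat 0, Int.ofNat 0, Int.negSucc 1, Int.ofNat 0, Int.ofNat 0, Int.ofNat 2, Int.ofNat 0, Int.ofNat 0, Int.negSucc 1, Int.ofNat 0, Int.ofNat 2, Int.ofNat 2, Int.ofNat 0, Int.ofNat 0, Int.ofNat 0, Int.ofNat 0, Int.ofNat 2, Int.ofNat 0, Int.ofNat 2, Int.ofNat 2, Int.ofNat 0, Int.ofNat 0, Int.ofNat 0, Int.ofNat 0],
  [Int.negSucc 0, Int.negSucc 0, Int.ofNat 1, Int.negSucc 0, Int.negSucc 0, Int.ofNat 1, Int.negSucc 0, Int.negSucc 0, Int.negSucc 2, Int.negSucc 0, Int.ofNat 1, Int.ofNat 1, Int.negSucc 0, Int.negSucc 0, Int.negSucc 0, Int.negSucc 0, Int.ofNat 1, Int.negSucc 0, Int.ofNat 1, Int.ofNat 1, Int.negSucc 0, Int.negSucc 0, Int.negSucc 0, Int.negSucc 0],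
  [Int.negSucc 0, Int.negSucc 0, Int.negSucc 0, Int.negSucc 0, Int.ofNat 1, Int.negSucc 0, Int.ofNat 1, Int.ofNat 1, Int.negSucc 0, Int.negSucc 0, Int.negSucc 0, Int.negSucc 0, Int.negSucc 0, Int.ofNat 1, Int.negSucc 0, Int.negSucc 0, Int.negSucc 2, Int.negSucc 0, Int.negSucc 0, Int.ofNat 1, Int.negSucc 0, Int.ofNat 1, Int.ofNat 1, Int.negSucc 0],
  [Int.negSucc 0, Int.negSucc 0, Int.negSucc 0, Int.ofNat 1, Int.ofNat 1, Int.ofNat 1, Int.negSucc 0, Int.negSucc 0, Int.ofNat 1, Int.ofNat 1, Int.ofNat 1, Int.ofNat 1, Int.ofNat 1, Int.ofNat 1, Int.ofNat 1, Int.ofNat 1, Int.negSucc 2, Int.ofNat 1, Int.ofNat 1, Int.negSucc 0, Int.ofNat 1, Int.negSucc 0, Int.ofNat 1, Int.negSucc 0],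
  [Int.negSucc 0, Int.negSucc 0, Int.ofNat 1, Int.ofNat 1, Int.ofNat 1, Int.negSucc 0, Int.ofNat 1, Int.negSucc 0, Int.ofNat 1, Int.negSucc 0, Int.negSucc 0, Int.ofNat 1, Int.ofNat 1, Int.ofNat 1, Int.ofNat 1, Int.negSucc 0, Int.negSucc 2, Int.ofNat 1, Int.negSucc 0, Int.negSucc 0, Int.ofNat 1, Int.negSucc 0, Int.negSucc 0, Int.negSucc 0],
  [Int.negSucc 0, Int.negSucc 0, Int.negSucc 0, Int.ofNat 1, Int.negSucc 0, Int.ofNat 1, Int.ofNat 1, Int.ofNat 1, Int.ofNat 1, Int.negSucc 0, Int.ofNat 1, Int.ofNat 1, Int.ofNat 1, Int.negSucc 0, Int.negSucc 0, Int.ofNat 1, Int.ofNat 1, Int.negSucc 0, Int.ofNat 1, Int.negSucc 0, Int.negSucc 0, Int.negSucc 0, Int.negSucc 2, Int.negSucc 0],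
  [Int.negSucc 0, Int.negSucc 0, Int.ofNat 1, Int.ofNat 1, Int.negSucc 0, Int.negSucc 0, Int.negSucc 0, Int.ofNat 1, Int.ofNat 1, Int.ofNat 1, Int.negSucc 0, Int.ofNat 1, Int.ofNat 1, Int.negSucc 0, Int.negSucc 0, Int.negSucc 0, Int.ofNat 1, Int.negSucc 0, Int.negSucc 0, Int.negSucc 0, Int.negSucc 0, Int.negSucc 0, Int.ofNat 3, Int.negSucc 0],
  [Int.ofNat 0, Int.ofNat 0, Int.negSucc 1, Int.ofNat 2, Int.negSucc 1, Int.ofNat 0, Int.ofNat 0, Int.ofNat 2, Int.ofNat 0, Int.ofNat 2, Int.ofNat 0, Int.ofNat 0, Int.ofNat 0, Int.negSucc 1, Int.ofNat 0, Int.ofNat 0, Int.ofNat 0, Int.ofNat 0, Int.negSucc 1, Int.ofNat 0, Int.ofNat 0, Int.ofNat 0, Int.ofNat 2, Int.ofNat 0],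
  [Int.ofNat 0, Int.negSucc 1, Int.ofNat 0, Int.ofNat 2, Int.negSucc 1, Int.ofNat 0, Int.ofNat 0, Int.ofNat 0, Int.ofNat 0, Int.ofNat 0, Int.ofNat 2, Int.ofNat 0, Int.ofNat 0, Int.ofNat 2, Int.ofNat 0, Int.ofNat 0, Int.negSucc 1, Int.ofNat 0, Int.negSucc 1, Int.ofNat 2, Int.ofNat 0, Int.ofNat 0, Int.ofNat 0, Int.ofNat 0],
  [Int.negSucc 0, Int.ofNat 1, Int.negSucc 0, Int.ofNat 1, Int.negSucc 0, Int.negSucc 0, Int.negSucc 0, Int.negSucc 0, Int.ofNat 1, Int.negSucc 0, Int.ofNat 1, Int.ofNat 1, Int.ofNat 1, Int.ofNat 3, Int.negSucc 0, Int.negSucc 0, Int.negSucc 0, Int.negSucc 0, Int.negSucc 0, Int.ofNat 1, Int.negSucc 0, Int.negSucc 0, Int.ofNat 1, Int.negSucc 0],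
  [Int.negSucc 0, Int.negSucc 0, Int.ofNat 1, Int.negSucc 0, Int.ofNat 1, Int.negSucc 0, Int.ofNat 1, Int.negSucc 0, Int.negSucc 0, Int.negSucc 0, Int.negSucc 0, Int.ofNat 1, Int.negSucc 0, Int.ofNat 1, Int.ofNat 1, Int.ofNat 1, Int.ofNat 3, Int.negSucc 0, Int.negSucc 0, Int.negSucc 0, Int.negSucc 0, Int.negSucc 0, Int.ofNat 1, Int.negSucc 0],
  [Int.ofNat 0, Int.ofNat 0, Int.negSucc 1, Int.ofNat 0, Int.negSucc 1, Int.ofNat 0, Int.ofNat 2, Int.ofNat 0, Int.ofNat 0, Int.ofNat 0, Int.ofNat 0, Int.ofNat 2, Int.ofNat 0, Int.negSucc 1, Int.ofNat 2, Int.ofNat 2, Int.ofNat 0, Int.ofNat 0, Int.ofNat 0, Int.ofNat 0, Int.ofNat 0, Int.ofNat 0, Int.negSucc 1, Int.ofNat 0],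
  [Int.ofNat 0, Int.negSucc 1, Int.ofNat 0, Int.negSucc 1, Int.ofNat 0, Int.ofNat 2, Int.ofNat 0, Int.ofNat 0, Int.ofNat 0, Int.ofNat 0, Int.ofNat 2, Int.ofNat 0, Int.negSucc 1, Int.ofNat 2, Int.ofNat 2, Int.ofNat 0, Int.ofNat 0, Int.ofNat 0, Int.ofNat 0, Int.ofNat 0, Int.ofNat 0, Int.negSucc 1, Int.ofNat 0, Int.ofNat 0],
  [Int.ofNat 0, Int.negSucc 1, Int.ofNat 0, Int.negSucc 1, Int.ofNat 0, Int.ofNat 2, Int.ofNat 0, Int.ofNat 0, Int.ofNat 0, Int.ofNat 0, Int.negSucc 1, Int.ofNat 0, Int.negSucc 1, Int.ofNat 2, Int.ofNat 2, Int.ofNat 0, Int.ofNat 0, Int.ofNat 0, Int.ofNat 0, Int.ofNat 0, Int.ofNat 0, Int.ofNat 2, Int.ofNat 0, Int.ofNat 0],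
  [Int.ofNat 0, Int.ofNat 2, Int.ofNat 0, Int.ofNat 2, Int.ofNat 0, Int.ofNat 2, Int.ofNat 0, Int.ofNat 0, Int.ofNat 0, Int.ofNat 0, Int.negSucc 1, Int.ofNat 0, Int.ofNat 2, Int.negSucc 1, Int.ofNat 2, Int.ofNat 0, Int.ofNat 0, Int.ofNat 0, Int.ofNat 0, Int.ofNat 0, Int.ofNat 0, Int.ofNat 2, Int.ofNat 0, Int.ofNat 0],
  [Int.ofNat 0, Int.ofNat 0, Int.ofNat 0, Int.ofNat 0, Int.ofNat 0, Int.ofNat 0, Int.ofNat 0, Int.negSucc 1, Int.ofNat 0, Int.ofNat 2, Int.ofNat 0, Int.ofNat 0, Int.ofNat 2, Int.ofNat 0, Int.ofNat 0, Int.ofNat 2, Int.negSucc 1, Int.ofNat 0, Int.ofNat 2, Int.ofNat 0, Int.ofNat 0, Int.ofNat 2, Int.ofNat 2, Int.ofNat 0],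
  [Int.ofNat 0, Int.ofNat 0, Int.ofNat 0, Int.ofNat 0, Int.ofNat 0, Int.ofNat 0, Int.ofNat 0, Int.ofNat 2, Int.ofNat 0, Int.negSucc 1, Int.ofNat 0, Int.ofNat 0, Int.ofNat 2, Int.ofNat 0, Int.ofNat 0, Int.ofNat 2, Int.negSucc 1, Int.ofNat 0, Int.negSucc 1, Int.ofNat 0, Int.ofNat 0, Int.negSucc 1, Int.ofNat 2, Int.ofNat 0],
  [Int.ofNat 2, Int.ofNat 0, Int.ofNat 0, Int.ofNat 0, Int.ofNat 0, Int.ofNat 0, Int.ofNat 0, Int.ofNat 0, Int.ofNat 2, Int.ofNat 0, Int.negSucc 1, Int.ofNat 0, Int.ofNat 0, Int.ofNat 2, Int.ofNat 0, Int.ofNat 0, Int.ofNat 2, Int.negSucc 1, Int.ofNat 0, Int.negSucc 1, Int.ofNat 0, Int.ofNat 0, Int.negSucc 1, Int.ofNat 0],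
  [Int.negSucc 0, Int.ofNat 1, Int.ofNat 1, Int.ofNat 1, Int.negSucc 0, Int.ofNat 1, Int.ofNat 1, Int.ofNat 1, Int.ofNat 1, Int.ofNat 1, Int.negSucc 0, Int.negSucc 0, Int.negSucc 0, Int.ofNat 1, Int.ofNat 1, Int.ofNat 1, Int.ofNat 1, Int.negSucc 0, Int.negSucc 0, Int.negSucc 0, Int.ofNat 1, Int.ofNat 1, Int.negSucc 2, Int.ofNat 1],
  [Int.ofNat 1, Int.negSucc 0, Int.ofNat 1, Int.ofNat 1, Int.ofNat 1, Int.ofNat 1, Int.ofNat 1, Int.negSucc 0, Int.negSucc 0, Int.negSucc 0, Int.ofNat 1, Int.ofNat 1, Int.ofNat 1, Int.ofNat 1, Int.negSucc 0, Int.negSucc 0, Int.negSucc 0, Int.ofNat 1, Int.ofNat 1, Int.negSucc 2, Int.negSucc 0, Int.ofNat 1, Int.ofNat 1, Int.ofNat 1],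
  [Int.ofNat 0, Int.ofNat 2, Int.ofNat 0, Int.ofNat 0, Int.ofNat 0, Int.ofNat 0, Int.ofNat 2, Int.ofNat 0, Int.negSucc 1, Int.ofNat 0, Int.ofNat 2, Int.ofNat 0, Int.ofNat 0, Int.ofNat 0, Int.negSucc 1, Int.ofNat 0, Int.negSucc 1, Int.ofNat 0, Int.ofNat 0, Int.negSucc 1, Int.ofNat 0, Int.ofNat 2, Int.ofNat 0, Int.ofNat 0],
  [Int.ofNat 0, Int.ofNat 2, Int.ofNat 0, Int.ofNat 0, Int.ofNat 0, Int.ofNat 0, Int.ofNat 0, Int.ofNat 2, Int.ofNat 0, Int.ofNat 0, Int.ofNat 0, Int.ofNat 0, Int.ofNat 0, Int.negSucc 1, Int.ofNat 0, Int.ofNat 0, Int.negSucc 1, Int.negSucc 1, Int.ofNat 2, Int.ofNat 0, Int.ofNat 2, Int.ofNat 0, Int.negSucc 1, Int.ofNat 0],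
  [Int.ofNat 1, Int.negSucc 0, Int.ofNat 1, Int.ofNat 1, Int.ofNat 3, Int.ofNat 1, Int.negSucc 0, Int.ofNat 1, Int.negSucc 0, Int.negSucc 0, Int.negSucc 0, Int.negSucc 0, Int.negSucc 0, Int.ofNat 1, Int.ofNat 1, Int.negSucc 0, Int.ofNat 1, Int.negSucc 0, Int.ofNat 1, Int.negSucc 0, Int.ofNat 1, Int.negSucc 0, Int.ofNat 1, Int.ofNat 1],
  [Int.ofNat 1, Int.negSucc 0, Int.negSucc 0, Int.ofNat 1, Int.ofNat 3, Int.negSucc 0, Int.ofNat 1, Int.ofNat 1, Int.negSucc 0, Int.ofNat 1, Int.ofNat 1, Int.negSucc 0, Int.negSucc 0, Int.ofNat 1, Int.ofNat 1, Int.ofNat 1, Int.ofNat 1, Int.negSucc 0, Int.negSucc 0, Int.negSucc 0, Int.ofNat 1, Int.negSucc 0, Int.negSucc 0, Int.ofNat 1],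
  [Int.negSucc 0, Int.ofNat 1, Int.negSucc 0, Int.ofNat 1, Int.negSucc 0, Int.ofNat 1, Int.ofNat 1, Int.ofNat 3, Int.ofNat 1, Int.ofNat 1, Int.negSucc 0, Int.ofNat 1, Int.negSucc 0, Int.ofNat 1, Int.negSucc 0, Int.negSucc 0, Int.negSucc 0, Int.negSucc 0, Int.negSucc 0, Int.ofNat 1, Int.ofNat 1, Int.negSucc 0, Int.ofNat 1, Int.ofNat 1],
  [Int.negSucc 0, Int.ofNat 1, Int.ofNat 1, Int.ofNat 1, Int.negSucc 0, Int.negSucc 0, Int.negSucc 0, Int.ofNat 3, Int.ofNat 1, Int.negSucc 0, Int.ofNat 1, Int.ofNat 1, Int.negSucc 0, Int.ofNat 1, Int.negSucc 0, Int.ofNat 1, Int.negSucc 0, Int.negSucc 0, Int.ofNat 1, Int.ofNat 1, Int.ofNat 1, Int.negSucc 0, Int.negSucc 0, Int.ofNat 1],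
  [Int.ofNat 2, Int.ofNat 0, Int.ofNat 0, Int.ofNat 2, Int.ofNat 0, Int.ofNat 0, Int.negSucc 1, Int.ofNat 2, Int.ofNat 0, Int.negSucc 1, Int.ofNat 0, Int.ofNat 0, Int.negSucc 1, Int.ofNat 2, Int.ofNat 0, Int.ofNat 0, Int.ofNat 0, Int.ofNat 0, Int.ofNat 0, Int.ofNat 0, Int.ofNat 0, Int.negSucc 1, Int.ofNat 0, Int.ofNat 0],
  [Int.ofNat 2, Int.ofNat 0, Int.negSucc 1, Int.ofNat 2, Int.ofNat 0, Int.negSucc 1, Int.ofNat 0, Int.ofNat 0, Int.ofNat 0, Int.negSucc 1, Int.ofNat 2, Int.ofNat 0, Int.ofNat 0, Int.negSucc 1, Int.ofNat 0, Int.ofNat 0, Int.ofNat 2, Int.ofNat 0, Int.ofNat 0, Int.ofNat 0, Int.ofNat 0, Int.ofNat 0, Int.ofNat 0, Int.ofNat 0],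
  [Int.negSucc 1, Int.ofNat 0, Int.ofNat 2, Int.ofNat 2, Int.ofNat 0, Int.negSucc 1, Int.ofNat 0, Int.ofNat 0, Int.ofNat 0, Int.negSucc 1, Int.ofNat 2, Int.ofNat 0, Int.ofNat 0, Int.negSucc 1, Int.ofNat 0, Int.ofNat 0, Int.ofNat 2, Int.ofNat 0, Int.ofNat 0, Int.ofNat 0, Int.ofNat 0, Int.ofNat 0, Int.ofNat 0, Int.ofNat 0],
  [Int.ofNat 0, Int.ofNat 0, Int.ofNat 0, Int.negSucc 1, Int.ofNat 0, Int.ofNat 2, Int.ofNat 2, Int.ofNat 0, Int.negSucc 1, Int.ofNat 0, Int.ofNat 0, Int.ofNat 0, Int.negSucc 1, Int.ofNat 2, Int.ofNat 0, Int.ofNat 0, Int.negSucc 1, Int.ofNat 0, Int.ofNat 0, Int.ofNat 2, Int.ofNat 0, Int.ofNat 0, Int.ofNat 0, Int.ofNat 0],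
  [Int.ofNat 0, Int.ofNat 0, Int.ofNat 0, Int.negSucc 1, Int.ofNat 0, Int.ofNat 2, Int.ofNat 0, Int.negSucc 1, Int.ofNat 0, Int.ofNat 0, Int.ofNat 0, Int.ofNat 2, Int.ofNat 0, Int.ofNat 2, Int.ofNat 0, Int.ofNat 0, Int.negSucc 1, Int.ofNat 0, Int.ofNat 2, Int.ofNat 0, Int.ofNat 0, Int.negSucc 1, Int.ofNat 0, Int.ofNat 0],
  [Int.ofNat 0, Int.ofNat 0, Int.negSucc 1, Int.ofNat 0, Int.ofNat 2, Int.ofNat 0, Int.negSucc 1, Int.ofNat 0, Int.ofNat 0, Int.ofNat 0, Int.ofNat 2, Int.ofNat 0, Int.ofNat 2, Int.ofNat 0, Int.ofNat 0, Int.negSucc 1, Int.ofNat 0, Int.ofNat 2, Int.ofNat 0, Int.ofNat 0, Int.negSucc 1, Int.ofNat 0, Int.ofNat 0, Int.ofNat 0],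
  [Int.ofNat 0, Int.ofNat 0, Int.ofNat 2, Int.ofNat 0, Int.ofNat 2, Int.ofNat 0, Int.negSucc 1, Int.ofNat 0, Int.ofNat 0, Int.ofNat 0, Int.negSucc 1, Int.ofNat 0, Int.ofNat 2, Int.ofNat 0, Int.ofNat 0, Int.negSucc 1, Int.ofNat 0, Int.ofNat 2, Int.ofNat 0, Int.ofNat 0, Int.negSucc 1, Int.ofNat 0, Int.ofNat 0, Int.ofNat 0],
  [Int.ofNat 0, Int.ofNat 0, Int.negSucc 1, Int.ofNat 0, Int.negSucc 1, Int.ofNat 0, Int.ofNat 2, Int.ofNat 0, Int.ofNat 0, Int.ofNat 0, Int.negSucc 1, Int.ofNat 0, Int.negSucc 1, Int.ofNat 0, Int.ofNat 0, Int.negSucc 1, Int.ofNat 0, Int.ofNat 2, Int.ofNat 0, Int.ofNat 0, Int.negSucc 1, Int.ofNat 0, Int.ofNat 0, Int.ofNat 0],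
  [Int.ofNat 0, Int.ofNat 0, Int.ofNat 0, Int.negSucc 1, Int.ofNat 2, Int.ofNat 0, Int.ofNat 0, Int.ofNat 0, Int.negSucc 1, Int.ofNat 0, Int.ofNat 0, Int.negSucc 1, Int.ofNat 0, Int.ofNat 0, Int.ofNat 0, Int.ofNat 0, Int.negSucc 1, Int.negSucc 1, Int.ofNat 0, Int.ofNat 2, Int.ofNat 0, Int.negSucc 1, Int.ofNat 0, Int.ofNat 0],
  [Int.ofNat 0, Int.ofNat 0, Int.ofNat 0, Int.negSucc 1, Int.ofNat 2, Int.ofNat 0, Int.ofNat 0, Int.ofNat 0, Int.negSucc 1, Int.ofNat 0, Int.ofNat 0, Int.ofNat 2, Int.ofNat 0, Int.ofNat 0, Int.ofNat 0, Int.ofNat 0, Int.negSucc 1, Int.negSucc 1, Int.ofNat 0, Int.ofNat 2, Int.ofNat 0, Int.ofNat 2, Int.ofNat 0, Int.ofNat 0],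
  [Int.ofNat 0, Int.ofNat 0, Int.ofNat 0, Int.ofNat 0, Int.negSucc 1, Int.ofNat 2, Int.ofNat 0, Int.ofNat 0, Int.ofNat 0, Int.negSucc 1, Int.ofNat 0, Int.ofNat 0, Int.ofNat 2, Int.ofNat 0, Int.ofNat 0, Int.ofNat 0, Int.ofNat 0, Int.negSucc 1, Int.negSucc 1, Int.ofNat 0, Int.ofNat 2, Int.ofNat 0, Int.ofNat 2, Int.ofNat 0],
  [Int.ofNat 0, Int.ofNat 0, Int.ofNat 0, Int.ofNat 0, Int.negSucc 1, Int.ofNat 2, Int.ofNat 0, Int.ofNat 0, Int.ofNat 0, Int.negSucc 1, Int.ofNat 0, Int.ofNat 0, Int.ofNat 2, Int.ofNat 0, Int.ofNat 0, Int.ofNat 0, Int.ofNat 0, Int.negSucc 1, Int.negSucc 1, Int.ofNat 0, Int.ofNat 2, Int.ofNat 0, Int.ofNat 2, Int.ofNat 0],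
  [Int.ofNat 0, Int.negSucc 1, Int.ofNat 2, Int.ofNat 0, Int.ofNat 0, Int.ofNat 0, Int.negSucc 1, Int.ofNat 0, Int.ofNat 0, Int.ofNat 2, Int.ofNat 0, Int.ofNat 0, Int.ofNat 0, Int.ofNat 0, Int.negSucc 1, Int.negSucc 1, Int.ofNat 0, Int.ofNat 2, Int.ofNat 0, Int.ofNat 2, Int.ofNat 0, Int.ofNat 0, Int.ofNat 0, Int.ofNat 0],
  [Int.ofNat 0, Int.ofNat 2, Int.negSucc 1, Int.ofNat 0, Int.ofNat 0, Int.ofNat 0, Int.negSucc 1, Int.ofNat 0, Int.ofNat 0, Int.ofNat 2, Int.ofNat 0, Int.ofNat 0, Int.ofNat 0, Int.ofNat 0, Int.negSucc 1, Int.negSucc 1, Int.ofNat 0, Int.ofNat 2, Int.ofNat 0, Int.ofNat 2, Int.ofNat 0, Int.ofNat 0, Int.ofNat 0, Int.ofNat 0],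
  [Int.ofNat 0, Int.negSucc 1, Int.ofNat 0, Int.ofNat 0, Int.ofNat 0, Int.ofNat 0, Int.negSucc 1, Int.ofNat 0, Int.ofNat 0, Int.ofNat 0, Int.ofNat 0, Int.ofNat 2, Int.ofNat 2, Int.ofNat 0, Int.ofNat 0, Int.negSucc 1, Int.ofNat 0, Int.negSucc 1, Int.ofNat 2, Int.ofNat 0, Int.ofNat 0, Int.ofNat 0, Int.ofNat 2, Int.ofNat 0],
  [Int.negSucc 0, Int.ofNat 1, Int.negSucc 0, Int.ofNat 1, Int.negSucc 0, Int.ofNat 1, Int.negSucc 0, Int.ofNat 1, Int.negSucc 2, Int.ofNat 1, Int.ofNat 1, Int.negSucc 0, Int.negSucc 0, Int.negSucc 0, Int.ofNat 1, Int.negSucc 0, Int.negSucc 0, Int.negSucc 0, Int.negSucc 0, Int.ofNat 1, Int.ofNat 1, Int.ofNat 1, Int.ofNat 1, Int.negSucc 0],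
  [Int.negSucc 0, Int.ofNat 1, Int.ofNat 1, Int.ofNat 1, Int.negSucc 0, Int.negSucc 0, Int.ofNat 1, Int.ofNat 1, Int.negSucc 2, Int.negSucc 0, Int.negSucc 0, Int.negSucc 0, Int.negSucc 0, Int.negSucc 0, Int.ofNat 1, Int.ofNat 1, Int.negSucc 0, Int.negSucc 0, Int.ofNat 1, Int.ofNat 1, Int.ofNat 1, Int.ofNat 1, Int.negSucc 0, Int.negSucc 0],
  [Int.negSucc 0, Int.negSucc 0, Int.ofNat 1, Int.ofNat 1, Int.ofNat 1, Int.negSucc 0, Int.ofNat 1, Int.negSucc 0, Int.ofNat 1, Int.negSucc 0, Int.negSucc 0, Int.ofNat 1, Int.ofNat 1, Int.ofNat 1, Int.ofNat 1, Int.negSucc 0, Int.negSucc 2, Int.ofNat 1, Int.negSucc 0, Int.negSucc 0, Int.ofNat 1, Int.negSucc 0, Int.negSucc 0, Int.negSucc 0],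
  [Int.negSucc 0, Int.negSucc 0, Int.negSucc 0, Int.ofNat 1, Int.ofNat 1, Int.ofNat 1, Int.negSucc 0, Int.negSucc 0, Int.ofNat 1, Int.ofNat 1, Int.ofNat 1, Int.ofNat 1, Int.ofNat 1, Int.ofNat 1, Int.ofNat 1, Int.ofNat 1, Int.negSucc 2, Int.ofNat 1, Int.ofNat 1, Int.negSucc 0, Int.ofNat 1, Int.negSucc 0, Int.ofNat 1, Int.negSucc 0],
  [Int.negSucc 0, Int.negSucc 0, Int.negSucc 0, Int.negSucc 0, Int.ofNat 1, Int.negSucc 0, Int.ofNat 1, Int.ofNat 1, Int.negSucc 0, Int.negSucc 0, Int.negSucc 0, Int.negSucc 0, Int.negSucc 0, Int.ofNat 1, Int.negSucc 0, Int.negSucc 0, Int.negSucc 2, Int.negSucc 0, Int.negSucc 0, Int.ofNat 1, Int.negSucc 0, Int.ofNat 1, Int.ofNat 1, Int.negSucc 0],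
  [Int.negSucc 0, Int.negSucc 0, Int.ofNat 1, Int.negSucc 0, Int.negSucc 0, Int.ofNat 1, Int.negSucc 0, Int.negSucc 0, Int.negSucc 2, Int.negSucc 0, Int.ofNat 1, Int.ofNat 1, Int.negSucc 0, Int.negSucc 0, Int.negSucc 0, Int.negSucc 0, Int.ofNat 1, Int.negSucc 0, Int.ofNat 1, Int.ofNat 1, Int.negSucc 0, Int.negSucc 0, Int.negSucc 0, Int.negSucc 0],
  [Int.ofNat 0, Int.ofNat 0, Int.negSucc 1, Int.ofNat 0, Int.ofNat 0, Int.ofNat 2, Int.ofNat 0, Int.ofNat 0, Int.negSucc 1, Int.ofNat 0, Int.ofNat 2, Int.ofNat 2, Int.ofNat 0, Int.ofNat 0, Int.ofNat 0, Int.ofNat 0, Int.ofNat 2, Int.ofNat 0, Int.ofNat 2, Int.ofNat 2, Int.ofNat 0, Int.ofNat 0, Int.ofNat 0, Int.ofNat 0],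
  [Int.ofNat 0, Int.ofNat 0, Int.ofNat 0, Int.ofNat 0, Int.ofNat 0, Int.negSucc 1, Int.ofNat 0, Int.ofNat 0, Int.ofNat 2, Int.ofNat 0, Int.ofNat 0, Int.negSucc 1, Int.ofNat 0, Int.ofNat 2, Int.ofNat 2, Int.ofNat 0, Int.ofNat 0, Int.ofNat 0, Int.ofNat 0, Int.ofNat 2, Int.ofNat 0, Int.ofNat 2, Int.ofNat 2, Int.ofNat 0],
  [Int.ofNat 0, Int.ofNat 0, Int.ofNat 0, Int.ofNat 0, Int.negSucc 1, Int.negSucc 1, Int.negSucc 1, Int.negSucc 1, Int.ofNat 2, Int.ofNat 0, Int.ofNat 0, Int.negSucc 1, Int.ofNat 0, Int.ofNat 0, Int.ofNat 2, Int.ofNat 0, Int.negSucc 1, Int.ofNat 0, Int.ofNat 0, Int.ofNat 0, Int.ofNat 0, Int.ofNat 0, Int.ofNat 0, Int.ofNat 0],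
  [Int.ofNat 0, Int.ofNat 0, Int.ofNat 0, Int.negSucc 1, Int.negSucc 1, Int.negSucc 1, Int.negSucc 1, Int.ofNat 2, Int.ofNat 0, Int.ofNat 0, Int.negSucc 1, Int.ofNat 0, Int.ofNat 0, Int.ofNat 2, Int.ofNat 0, Int.negSucc 1, Int.ofNat 0, Int.ofNat 0, Int.ofNat 0, Int.ofNat 0, Int.ofNat 0, Int.ofNat 0, Int.ofNat 0, Int.ofNat 0],
  [Int.ofNat 0, Int.ofNat 0, Int.ofNat 0, Int.negSucc 1, Int.negSucc 1, Int.negSucc 1, Int.negSucc 1, Int.negSucc 1, Int.ofNat 0, Int.ofNat 0, Int.ofNat 2, Int.ofNat 0, Int.ofNat 0, Int.ofNat 2, Int.ofNat 0, Int.negSucc 1, Int.ofNat 0, Int.ofNat 0, Int.ofNat 0, Int.ofNat 0, Int.ofNat 0, Int.ofNat 0, Int.ofNat 0, Int.ofNat 0],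
  [Int.ofNat 0, Int.ofNat 0, Int.ofNat 0, Int.ofNat 2, Int.ofNat 2, Int.negSucc 1, Int.ofNat 2, Int.negSucc 1, Int.ofNat 0, Int.ofNat 0, Int.ofNat 2, Int.ofNat 0, Int.ofNat 0, Int.negSucc 1, Int.ofNat 0, Int.negSucc 1, Int.ofNat 0, Int.ofNat 0, Int.ofNat 0, Int.ofNat 0, Int.ofNat 0, Int.ofNat 0, Int.ofNat 0, Int.ofNat 0],
  [Int.ofNat 0, Int.ofNat 0, Int.ofNat 0, Int.negSucc 1, Int.ofNat 0, Int.ofNat 0, Int.ofNat 0, Int.negSucc 1, Int.ofNat 0, Int.negSucc 1, Int.ofNat 0, Int.ofNat 0, Int.ofNat 0, Int.negSucc 1, Int.ofNat 0, Int.ofNat 2, Int.ofNat 2, Int.ofNat 2, Int.ofNat 0, Int.ofNat 2, Int.ofNat 0, Int.ofNat 0, Int.ofNat 0, Int.ofNat 0],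
  [Int.ofNat 0, Int.ofNat 0, Int.ofNat 0, Int.negSucc 1, Int.ofNat 0, Int.ofNat 0, Int.ofNat 0, Int.ofNat 2, Int.ofNat 0, Int.ofNat 2, Int.ofNat 0, Int.ofNat 0, Int.ofNat 0, Int.negSucc 1, Int.ofNat 0, Int.ofNat 2, Int.ofNat 2, Int.ofNat 2, Int.ofNat 0, Int.ofNat 2, Int.ofNat 0, Int.ofNat 0, Int.ofNat 0, Int.ofNat 0],
  [Int.ofNat 0, Int.ofNat 0, Int.ofNat 0, Int.ofNat 0, Int.negSucc 1, Int.ofNat 0, Int.ofNat 0, Int.ofNat 0, Int.ofNat 2, Int.ofNat 0, Int.ofNat 2, Int.ofNat 0, Int.ofNat 0, Int.ofNat 0, Int.negSucc 1, Int.ofNat 0, Int.ofNat 2, Int.ofNat 2, Int.ofNat 2, Int.ofNat 0, Int.ofNat 2, Int.ofNat 0, Int.ofNat 0, Int.ofNat 0],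
  [Int.ofNat 0, Int.ofNat 0, Int.ofNat 0, Int.ofNat 0, Int.negSucc 1, Int.ofNat 0, Int.ofNat 0, Int.ofNat 0, Int.ofNat 0, Int.negSucc 1, Int.ofNat 0, Int.negSucc 1, Int.negSucc 1, Int.ofNat 0, Int.negSucc 1, Int.negSucc 1, Int.ofNat 2, Int.ofNat 2, Int.ofNat 0, Int.ofNat 0, Int.ofNat 0, Int.ofNat 0, Int.ofNat 0, Int.ofNat 0],
  [Int.ofNat 0, Int.negSucc 1, Int.ofNat 0, Int.ofNat 0, Int.ofNat 0, Int.ofNat 0, Int.negSucc 1, Int.ofNat 0, Int.negSucc 1, Int.negSucc 1, Int.ofNat 0, Int.negSucc 1, Int.negSucc 1, Int.ofNat 2, Int.ofNat 2, Int.ofNat 0, Int.ofNat 0, Int.ofNat 0, Int.ofNat 0, Int.ofNat 0, Int.ofNat 0, Int.ofNat 0, Int.ofNat 0, Int.ofNat 0],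
  [Int.negSucc 0, Int.ofNat 1, Int.negSucc 0, Int.negSucc 0, Int.negSucc 0, Int.negSucc 0, Int.negSucc 0, Int.ofNat 1, Int.ofNat 1, Int.negSucc 0, Int.ofNat 1, Int.ofNat 1, Int.ofNat 1, Int.ofNat 1, Int.ofNat 1, Int.ofNat 1, Int.negSucc 0, Int.negSucc 0, Int.ofNat 3, Int.ofNat 1, Int.ofNat 1, Int.ofNat 1, Int.negSucc 0, Int.negSucc 0],
  [Int.negSucc 0, Int.negSucc 0, Int.negSucc 0, Int.negSucc 0, Int.ofNat 3, Int.ofNat 1, Int.negSucc 0, Int.ofNat 1, Int.ofNat 1, Int.ofNat 1, Int.ofNat 1, Int.negSucc 0, Int.negSucc 0, Int.negSucc 0, Int.negSucc 0, Int.ofNat 1, Int.ofNat 1, Int.ofNat 1, Int.ofNat 1, Int.ofNat 1, Int.ofNat 1, Int.negSucc 0, Int.ofNat 1, Int.negSucc 0],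
  [Int.negSucc 0, Int.negSucc 0, Int.negSucc 0, Int.negSucc 0, Int.ofNat 1, Int.ofNat 1, Int.negSucc 0, Int.ofNat 1, Int.ofNat 1, Int.negSucc 0, Int.negSucc 0, Int.negSucc 0, Int.negSucc 0, Int.negSucc 2, Int.negSucc 0, Int.negSucc 0, Int.negSucc 0, Int.ofNat 1, Int.ofNat 1, Int.ofNat 1, Int.negSucc 0, Int.negSucc 0, Int.negSucc 0, Int.negSucc 0],
  [Int.negSucc 0, Int.negSucc 0, Int.ofNat 1, Int.negSucc 0, Int.ofNat 1, Int.negSucc 0, Int.ofNat 1, Int.ofNat 1, Int.ofNat 1, Int.ofNat 1, Int.ofNat 1, Int.negSucc 0, Int.negSucc 0, Int.negSucc 2, Int.negSucc 0, Int.ofNat 1, Int.negSucc 0, Int.ofNat 1, Int.negSucc 0, Int.ofNat 1, Int.negSucc 0, Int.negSucc 0, Int.ofNat 1, Int.negSucc 0],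
  [Int.ofNat 1, Int.ofNat 1, Int.negSucc 0, Int.negSucc 0, Int.negSucc 0, Int.negSucc 2, Int.negSucc 0, Int.ofNat 1, Int.ofNat 1, Int.negSucc 0, Int.negSucc 0, Int.negSucc 0, Int.ofNat 1, Int.ofNat 1, Int.negSucc 0, Int.ofNat 1, Int.ofNat 1, Int.ofNat 1, Int.negSucc 0, Int.ofNat 1, Int.ofNat 1, Int.negSucc 0, Int.negSucc 0, Int.negSucc 0],
  [Int.ofNat 1, Int.ofNat 1, Int.ofNat 1, Int.negSucc 0, Int.negSucc 0, Int.ofNat 3, Int.ofNat 1, Int.ofNat 1, Int.ofNat 1, Int.ofNat 1, Int.ofNat 1, Int.negSucc 0, Int.ofNat 1, Int.ofNat 1, Int.negSucc 0, Int.negSucc 0, Int.ofNat 1, Int.ofNat 1, Int.ofNat 1, Int.ofNat 1, Int.ofNat 1, Int.negSucc 0, Int.ofNat 1, Int.negSucc 0],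
  [Int.ofNat 0, Int.ofNat 0, Int.ofNat 0, Int.negSucc 1, Int.negSucc 1, Int.ofNat 2, Int.ofNat 0, Int.ofNat 0, Int.ofNat 0, Int.ofNat 0, Int.ofNat 0, Int.negSucc 1, Int.ofNat 0, Int.ofNat 0, Int.negSucc 1, Int.negSucc 1, Int.ofNat 0, Int.ofNat 0, Int.ofNat 0, Int.ofNat 0, Int.ofNat 0, Int.negSucc 1, Int.ofNat 0, Int.ofNat 2],
  [Int.ofNat 0, Int.ofNat 0, Int.ofNat 0, Int.negSucc 1, Int.ofNat 0, Int.negSucc 1, Int.ofNat 0, Int.ofNat 2, Int.ofNat 0, Int.ofNat 0, Int.ofNat 0, Int.ofNat 0, Int.ofNat 0, Int.ofNat 0, Int.ofNat 0, Int.negSucc 1, Int.ofNat 0, Int.negSucc 1, Int.negSucc 1, Int.ofNat 0, Int.ofNat 0, Int.ofNat 0, Int.negSucc 1, Int.ofNat 2],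
  [Int.ofNat 1, Int.ofNat 1, Int.ofNat 1, Int.ofNat 1, Int.ofNat 1, Int.ofNat 1, Int.negSucc 0, Int.ofNat 1, Int.ofNat 1, Int.ofNat 1, Int.ofNat 1, Int.ofNat 1, Int.ofNat 1, Int.ofNat 1, Int.ofNat 3, Int.negSucc 0, Int.ofNat 1, Int.ofNat 1, Int.negSucc 0, Int.negSucc 0, Int.ofNat 1, Int.negSucc 0, Int.negSucc 0, Int.negSucc 0],
  [Int.ofNat 1, Int.negSucc 0, Int.negSucc 0, Int.ofNat 1, Int.ofNat 1, Int.ofNat 1, Int.ofNat 1, Int.ofNat 1, Int.ofNat 1, Int.negSucc 0, Int.ofNat 1, Int.ofNat 1, Int.ofNat 1, Int.ofNat 1, Int.ofNat 1, Int.ofNat 1, Int.ofNat 1, Int.ofNat 3, Int.negSucc 0, Int.ofNat 1, Int.ofNat 1, Int.negSucc 0, Int.negSucc 0, Int.negSucc 0],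
  [Int.negSucc 1, Int.ofNat 0, Int.ofNat 0, Int.negSucc 1, Int.ofNat 0, Int.negSucc 1, Int.ofNat 0, Int.ofNat 0, Int.ofNat 0, Int.negSucc 1, Int.ofNat 0, Int.ofNat 0, Int.ofNat 0, Int.ofNat 0, Int.negSucc 1, Int.ofNat 0, Int.ofNat 0, Int.ofNat 0, Int.negSucc 1, Int.ofNat 0, Int.ofNat 0, Int.negSucc 1, Int.negSucc 1, Int.ofNat 0],
  [Int.ofNat 0, Int.ofNat 0, Int.negSucc 1, Int.ofNat 0, Int.negSucc 1, Int.ofNat 0, Int.ofNat 0, Int.ofNat 0, Int.negSucc 1, Int.ofNat 0, Int.ofNat 0, Int.ofNat 0, Int.ofNat 0, Int.negSucc 1, Int.ofNat 0, Int.ofNat 0, Int.ofNat 0, Int.negSucc 1, Int.ofNat 0, Int.ofNat 0, Int.negSucc 1, Int.negSucc 1, Int.negSucc 1, Int.ofNat 0],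
  [Int.ofNat 0, Int.ofNat 0, Int.ofNat 2, Int.ofNat 0, Int.negSucc 1, Int.ofNat 0, Int.ofNat 0, Int.ofNat 0, Int.negSucc 1, Int.ofNat 0, Int.ofNat 0, Int.ofNat 0, Int.ofNat 0, Int.negSucc 1, Int.ofNat 0, Int.ofNat 0, Int.ofNat 0, Int.negSucc 1, Int.ofNat 0, Int.ofNat 0, Int.negSucc 1, Int.ofNat 2, Int.negSucc 1, Int.ofNat 0],
  [Int.ofNat 0, Int.ofNat 0, Int.negSucc 1, Int.ofNat 0, Int.ofNat 2, Int.ofNat 0, Int.ofNat 0, Int.ofNat 0, Int.ofNat 2, Int.ofNat 0, Int.ofNat 0, Int.ofNat 0, Int.ofNat 0, Int.ofNat 2, Int.ofNat 0, Int.ofNat 0, Int.ofNat 0, Int.negSucc 1, Int.ofNat 0, Int.ofNat 0, Int.negSucc 1, Int.ofNat 2, Int.negSucc 1, Int.ofNat 0],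
  [Int.ofNat 0, Int.negSucc 1, Int.ofNat 0, Int.ofNat 0, Int.negSucc 1, Int.ofNat 0, Int.ofNat 0, Int.ofNat 2, Int.negSucc 1, Int.ofNat 0, Int.ofNat 0, Int.negSucc 1, Int.ofNat 2, Int.ofNat 0, Int.ofNat 0, Int.ofNat 0, Int.ofNat 0, Int.ofNat 2, Int.ofNat 0, Int.ofNat 0, Int.ofNat 2, Int.ofNat 0, Int.ofNat 0, Int.ofNat 0],
  [Int.ofNat 0, Int.negSucc 1, Int.ofNat 0, Int.ofNat 0, Int.negSucc 1, Int.ofNat 0, Int.ofNat 0, Int.negSucc 1, Int.negSucc 1, Int.ofNat 0, Int.ofNat 0, Int.ofNat 2, Int.ofNat 2, Int.ofNat 0, Int.ofNat 0, Int.ofNat 0, Int.ofNat 0, Int.ofNat 2, Int.ofNat 0, Int.ofNat 0, Int.ofNat 2, Int.ofNat 0, Int.ofNat 0, Int.ofNat 0],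
  [Int.ofNat 0, Int.ofNat 0, Int.negSucc 1, Int.ofNat 0, Int.ofNat 0, Int.negSucc 1, Int.ofNat 0, Int.ofNat 0, Int.negSucc 1, Int.negSucc 1, Int.ofNat 0, Int.ofNat 0, Int.ofNat 2, Int.ofNat 2, Int.ofNat 0, Int.ofNat 0, Int.ofNat 0, Int.ofNat 0, Int.ofNat 2, Int.ofNat 0, Int.ofNat 0, Int.ofNat 2, Int.ofNat 0, Int.ofNat 0],
  [Int.negSucc 0, Int.negSucc 0, Int.ofNat 1, Int.ofNat 1, Int.negSucc 0, Int.negSucc 0, Int.negSucc 0, Int.negSucc 0, Int.negSucc 2, Int.negSucc 0, Int.ofNat 1, Int.negSucc 0, Int.ofNat 1, Int.ofNat 1, Int.ofNat 1, Int.ofNat 1, Int.negSucc 0, Int.ofNat 1, Int.ofNat 1, Int.negSucc 0, Int.ofNat 1, Int.ofNat 1, Int.negSucc 0, Int.negSucc 0],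
  [Int.ofNat 1, Int.negSucc 0, Int.negSucc 0, Int.negSucc 0, Int.negSucc 0, Int.negSucc 2, Int.negSucc 0, Int.ofNat 1, Int.negSucc 0, Int.ofNat 1, Int.ofNat 1, Int.ofNat 1, Int.ofNat 1, Int.negSucc 0, Int.ofNat 1, Int.ofNat 1, Int.negSucc 0, Int.ofNat 1, Int.ofNat 1, Int.negSucc 0, Int.negSucc 0, Int.negSucc 0, Int.ofNat 1, Int.negSucc 0],
  [Int.negSucc 1, Int.ofNat 0, Int.ofNat 0, Int.ofNat 0, Int.ofNat 0, Int.negSucc 1, Int.ofNat 0, Int.ofNat 2, Int.negSucc 1, Int.ofNat 0, Int.ofNat 0, Int.ofNat 0, Int.ofNat 0, Int.ofNat 0, Int.ofNat 2, Int.ofNat 0, Int.ofNat 0, Int.ofNat 2, Int.ofNat 0, Int.ofNat 0, Int.negSucc 1, Int.ofNat 0, Int.ofNat 2, Int.ofNat 0],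
  [Int.negSucc 1, Int.ofNat 0, Int.ofNat 0, Int.ofNat 0, Int.ofNat 0, Int.ofNat 2, Int.ofNat 0, Int.ofNat 0, Int.ofNat 0, Int.ofNat 0, Int.negSucc 1, Int.ofNat 2, Int.ofNat 0, Int.ofNat 0, Int.ofNat 2, Int.ofNat 0, Int.negSucc 1, Int.ofNat 2, Int.ofNat 0, Int.ofNat 0, Int.ofNat 0, Int.negSucc 1, Int.ofNat 0, Int.ofNat 0],
  [Int.ofNat 1, Int.negSucc 0, Int.negSucc 0, Int.negSucc 2, Int.ofNat 1, Int.negSucc 0, Int.ofNat 1, Int.ofNat 1, Int.negSucc 0, Int.ofNat 1, Int.negSucc 0, Int.ofNat 1, Int.negSucc 0, Int.ofNat 1, Int.negSucc 0, Int.ofNat 1, Int.negSucc 0, Int.negSucc 0, Int.negSucc 0, Int.ofNat 1, Int.ofNat 1, Int.negSucc 0, Int.ofNat 1, Int.negSucc 0],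
  [Int.ofNat 1, Int.negSucc 0, Int.ofNat 1, Int.negSucc 2, Int.ofNat 1, Int.ofNat 1, Int.negSucc 0, Int.ofNat 1, Int.negSucc 0, Int.negSucc 0, Int.ofNat 1, Int.ofNat 1, Int.negSucc 0, Int.ofNat 1, Int.negSucc 0, Int.negSucc 0, Int.negSucc 0, Int.negSucc 0, Int.ofNat 1, Int.ofNat 1, Int.ofNat 1, Int.negSucc 0, Int.negSucc 0, Int.negSucc 0],
  [Int.negSucc 0, Int.ofNat 1, Int.negSucc 0, Int.ofNat 1, Int.ofNat 1, Int.ofNat 1, Int.negSucc 2, Int.ofNat 1, Int.negSucc 0, Int.ofNat 1, Int.ofNat 1, Int.negSucc 0, Int.ofNat 1, Int.negSucc 0, Int.negSucc 0, Int.negSucc 0, Int.negSucc 0, Int.ofNat 1, Int.negSucc 0, Int.negSucc 0, Int.ofNat 1, Int.ofNat 1, Int.negSucc 0, Int.negSucc 0],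
  [Int.negSucc 0, Int.ofNat 1, Int.ofNat 1, Int.ofNat 1, Int.ofNat 1, Int.negSucc 0, Int.ofNat 3, Int.ofNat 1, Int.negSucc 0, Int.negSucc 0, Int.negSucc 0, Int.negSucc 0, Int.ofNat 1, Int.negSucc 0, Int.negSucc 0, Int.ofNat 1, Int.negSucc 0, Int.ofNat 1, Int.ofNat 1, Int.negSucc 0, Int.ofNat 1, Int.ofNat 1, Int.ofNat 1, Int.negSucc 0],
  [Int.ofNat 1, Int.negSucc 0, Int.negSucc 0, Int.ofNat 1, Int.ofNat 1, Int.negSucc 0, Int.ofNat 1, Int.negSucc 0, Int.negSucc 0, Int.negSucc 0, Int.negSucc 0, Int.negSucc 0, Int.ofNat 1, Int.negSucc 0, Int.negSucc 0, Int.ofNat 1, Int.negSucc 0, Int.ofNat 1, Int.ofNat 1, Int.negSucc 2, Int.ofNat 1, Int.negSucc 0, Int.ofNat 1, Int.ofNat 1],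
  [Int.ofNat 1, Int.ofNat 1, Int.ofNat 1, Int.ofNat 1, Int.negSucc 0, Int.negSucc 0, Int.negSucc 0, Int.negSucc 0, Int.negSucc 0, Int.ofNat 1, Int.negSucc 0, Int.negSucc 2, Int.negSucc 0, Int.negSucc 0, Int.ofNat 1, Int.ofNat 1, Int.negSucc 0, Int.negSucc 0, Int.ofNat 1, Int.ofNat 1, Int.negSucc 0, Int.ofNat 1, Int.negSucc 0, Int.ofNat 1],
  [Int.ofNat 1, Int.ofNat 1, Int.ofNat 1, Int.ofNat 1, Int.ofNat 1, Int.negSucc 0, Int.negSucc 0, Int.negSucc 0, Int.ofNat 1, Int.ofNat 1, Int.negSucc 0, Int.negSucc 0, Int.ofNat 1, Int.ofNat 1, Int.ofNat 1, Int.ofNat 1, Int.ofNat 1, Int.negSucc 0, Int.ofNat 3, Int.ofNat 1, Int.negSucc 0, Int.ofNat 1, Int.ofNat 1, Int.ofNat 1],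
  [Int.negSucc 0, Int.ofNat 1, Int.ofNat 1, Int.ofNat 1, Int.ofNat 1, Int.ofNat 1, Int.ofNat 1, Int.ofNat 1, Int.negSucc 0, Int.negSucc 0, Int.negSucc 0, Int.ofNat 1, Int.ofNat 1, Int.negSucc 0, Int.negSucc 0, Int.ofNat 1, Int.ofNat 1, Int.ofNat 1, Int.ofNat 1, Int.ofNat 1, Int.negSucc 0, Int.ofNat 3, Int.ofNat 1, Int.ofNat 1],
  [Int.ofNat 2, Int.ofNat 0, Int.ofNat 0, Int.ofNat 0, Int.ofNat 0, Int.ofNat 0, Int.negSucc 1, Int.negSucc 1, Int.negSucc 1, Int.ofNat 0, Int.ofNat 0, Int.ofNat 0, Int.ofNat 0, Int.negSucc 1, Int.negSucc 1, Int.ofNat 2, Int.ofNat 0, Int.ofNat 0, Int.ofNat 0, Int.negSucc 1, Int.ofNat 0, Int.ofNat 0, Int.ofNat 0, Int.ofNat 0],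
  [Int.ofNat 0, Int.ofNat 0, Int.ofNat 0, Int.ofNat 0, Int.ofNat 0, Int.negSucc 1, Int.negSucc 1, Int.negSucc 1, Int.ofNat 0, Int.ofNat 0, Int.ofNat 0, Int.ofNat 0, Int.negSucc 1, Int.negSucc 1, Int.ofNat 2, Int.ofNat 0, Int.ofNat 0, Int.ofNat 0, Int.negSucc 1, Int.ofNat 0, Int.ofNat 0, Int.ofNat 0, Int.ofNat 2, Int.ofNat 0],
  [Int.ofNat 0, Int.ofNat 0, Int.ofNat 0, Int.ofNat 0, Int.ofNat 0, Int.negSucc 1, Int.negSucc 1, Int.ofNat 2, Int.ofNat 0, Int.ofNat 0, Int.ofNat 0, Int.ofNat 0, Int.negSucc 1, Int.negSucc 1, Int.ofNat 2, Int.ofNat 0, Int.ofNat 0, Int.ofNat 0, Int.ofNat 2, Int.ofNat 0, Int.ofNat 0, Int.ofNat 0, Int.ofNat 2, Int.ofNat 0],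
  [Int.ofNat 0, Int.ofNat 0, Int.ofNat 0, Int.ofNat 0, Int.ofNat 0, Int.negSucc 1, Int.ofNat 2, Int.ofNat 2, Int.ofNat 0, Int.ofNat 0, Int.ofNat 0, Int.ofNat 0, Int.ofNat 2, Int.ofNat 2, Int.ofNat 2, Int.ofNat 0, Int.ofNat 0, Int.ofNat 0, Int.negSucc 1, Int.ofNat 0, Int.ofNat 0, Int.ofNat 0, Int.ofNat 2, Int.ofNat 0],
  [Int.ofNat 0, Int.ofNat 2, Int.ofNat 0, Int.ofNat 0, Int.ofNat 0, Int.ofNat 0, Int.ofNat 0, Int.ofNat 2, Int.ofNat 0, Int.negSucc 1, Int.ofNat 0, Int.ofNat 0, Int.ofNat 0, Int.ofNat 2, Int.negSucc 1, Int.ofNat 0, Int.ofNat 0, Int.ofNat 0, Int.ofNat 2, Int.ofNat 2, Int.ofNat 0, Int.ofNat 2, Int.ofNat 0, Int.ofNat 0],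
  [Int.ofNat 0, Int.ofNat 2, Int.ofNat 0, Int.ofNat 0, Int.ofNat 0, Int.ofNat 0, Int.ofNat 0, Int.negSucc 1, Int.ofNat 0, Int.ofNat 2, Int.ofNat 0, Int.ofNat 0, Int.ofNat 0, Int.ofNat 2, Int.negSucc 1, Int.ofNat 0, Int.ofNat 0, Int.ofNat 0, Int.negSucc 1, Int.ofNat 2, Int.ofNat 0, Int.negSucc 1, Int.ofNat 0, Int.ofNat 0],
  [Int.ofNat 0, Int.ofNat 0, Int.ofNat 2, Int.ofNat 0, Int.ofNat 0, Int.ofNat 0, Int.ofNat 0, Int.ofNat 0, Int.negSucc 1, Int.ofNat 0, Int.ofNat 2, Int.ofNat 0, Int.ofNat 0, Int.ofNat 0, Int.ofNat 2, Int.negSucc 1, Int.ofNat 0, Int.ofNat 0, Int.ofNat 0, Int.negSucc 1, Int.ofNat 2, Int.ofNat 0, Int.negSucc 1, Int.ofNat 0],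
  [Int.ofNat 1, Int.ofNat 1, Int.negSucc 0, Int.negSucc 0, Int.ofNat 1, Int.negSucc 0, Int.ofNat 1, Int.ofNat 1, Int.negSucc 0, Int.negSucc 0, Int.ofNat 1, Int.ofNat 1, Int.ofNat 1, Int.ofNat 1, Int.ofNat 1, Int.negSucc 2, Int.ofNat 1, Int.negSucc 0, Int.ofNat 1, Int.negSucc 0, Int.ofNat 1, Int.ofNat 1, Int.negSucc 0, Int.ofNat 1],
  [Int.negSucc 0, Int.ofNat 1, Int.negSucc 0, Int.ofNat 1, Int.ofNat 1, Int.negSucc 0, Int.negSucc 0, Int.ofNat 1, Int.ofNat 1, Int.ofNat 1, Int.ofNat 1, Int.ofNat 1, Int.negSucc 2, Int.ofNat 1, Int.negSucc 0, Int.ofNat 1, Int.negSucc 0, Int.ofNat 1, Int.ofNat 1, Int.negSucc 0, Int.ofNat 1, Int.ofNat 1, Int.negSucc 0, Int.ofNat 1],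
  [Int.ofNat 1, Int.negSucc 0, Int.ofNat 1, Int.ofNat 1, Int.ofNat 1, Int.negSucc 0, Int.negSucc 0, Int.ofNat 1, Int.ofNat 1, Int.negSucc 0, Int.negSucc 0, Int.ofNat 1, Int.negSucc 2, Int.ofNat 1, Int.negSucc 0, Int.negSucc 0, Int.negSucc 0, Int.ofNat 1, Int.ofNat 1, Int.negSucc 0, Int.negSucc 0, Int.ofNat 1, Int.negSucc 0, Int.negSucc 0],
  [Int.ofNat 1, Int.negSucc 0, Int.ofNat 1, Int.ofNat 1, Int.ofNat 1, Int.ofNat 1, Int.ofNat 1, Int.negSucc 0, Int.negSucc 2, Int.ofNat 1, Int.negSucc 0, Int.ofNat 1, Int.negSucc 0, Int.negSucc 0, Int.negSucc 0, Int.negSucc 0, Int.ofNat 1, Int.negSucc 0, Int.negSucc 0, Int.ofNat 1, Int.ofNat 1, Int.negSucc 0, Int.negSucc 0, Int.negSucc 0],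
  [Int.negSucc 0, Int.ofNat 1, Int.negSucc 0, Int.ofNat 1, Int.ofNat 1, Int.ofNat 1, Int.ofNat 1, Int.negSucc 0, Int.negSucc 0, Int.ofNat 1, Int.negSucc 0, Int.ofNat 3, Int.ofNat 1, Int.negSucc 0, Int.negSucc 0, Int.negSucc 0, Int.ofNat 1, Int.negSucc 0, Int.ofNat 1, Int.ofNat 1, Int.ofNat 1, Int.negSucc 0, Int.negSucc 0, Int.ofNat 1],
  [Int.negSucc 0, Int.ofNat 1, Int.ofNat 1, Int.ofNat 1, Int.ofNat 1, Int.negSucc 0, Int.negSucc 0, Int.negSucc 0, Int.negSucc 0, Int.negSucc 0, Int.ofNat 1, Int.ofNat 3, Int.ofNat 1, Int.negSucc 0, Int.negSucc 0, Int.ofNat 1, Int.ofNat 1, Int.negSucc 0, Int.negSucc 0, Int.ofNat 1, Int.ofNat 1, Int.negSucc 0, Int.ofNat 1, Int.ofNat 1],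
  [Int.ofNat 1, Int.ofNat 1, Int.ofNat 1, Int.ofNat 1, Int.negSucc 0, Int.negSucc 0, Int.ofNat 1, Int.ofNat 1, Int.negSucc 0, Int.negSucc 0, Int.ofNat 3, Int.negSucc 0, Int.ofNat 1, Int.ofNat 1, Int.negSucc 0, Int.negSucc 0, Int.negSucc 0, Int.ofNat 1, Int.ofNat 1, Int.negSucc 0, Int.negSucc 0, Int.negSucc 0, Int.ofNat 1, Int.ofNat 1],
  [Int.ofNat 1, Int.ofNat 1, Int.negSucc 0, Int.ofNat 1, Int.negSucc 0, Int.ofNat 1, Int.negSucc 0, Int.ofNat 1, Int.negSucc 0, Int.ofNat 1, Int.negSucc 2, Int.negSucc 0, Int.ofNat 1, Int.ofNat 1, Int.negSucc 0, Int.ofNat 1, Int.negSucc 0, Int.ofNat 1, Int.negSucc 0, Int.negSucc 0, Int.negSucc 0, Int.negSucc 0, Int.negSucc 0, Int.ofNat 1],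
  [Int.ofNat 0, Int.ofNat 0, Int.ofNat 2, Int.ofNat 0, Int.ofNat 0, Int.ofNat 0, Int.ofNat 0, Int.ofNat 2, Int.ofNat 0, Int.ofNat 2, Int.negSucc 1, Int.ofNat 0, Int.ofNat 2, Int.ofNat 2, Int.negSucc 1, Int.ofNat 2, Int.ofNat 0, Int.ofNat 0, Int.ofNat 0, Int.ofNat 0, Int.ofNat 0, Int.ofNat 0, Int.ofNat 0, Int.ofNat 0],
  [Int.ofNat 0, Int.ofNat 0, Int.ofNat 0, Int.ofNat 0, Int.ofNat 2, Int.ofNat 0, Int.ofNat 0, Int.ofNat 0, Int.ofNat 0, Int.ofNat 2, Int.ofNat 2, Int.ofNat 0, Int.ofNat 0, Int.ofNat 2, Int.ofNat 0, Int.ofNat 2, Int.ofNat 2, Int.ofNat 0, Int.ofNat 0, Int.ofNat 0, Int.negSucc 1, Int.ofNat 0, Int.negSucc 1, Int.ofNat 0],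
  [Int.ofNat 0, Int.ofNat 0, Int.ofNat 0, Int.ofNat 0, Int.ofNat 0, Int.ofNat 0, Int.ofNat 0, Int.ofNat 0, Int.ofNat 0, Int.ofNat 0, Int.ofNat 0, Int.ofNat 0, Int.ofNat 0, Int.ofNat 0, Int.ofNat 0, Int.ofNat 0, Int.ofNat 0, Int.ofNat 0, Int.ofNat 0, Int.ofNat 0, Int.negSucc 3, Int.ofNat 0, Int.negSucc 3, Int.ofNat 0],
  [Int.negSucc 3, Int.ofNat 0, Int.negSucc 3, Int.ofNat 0, Int.ofNat 0, Int.ofNat 0, Int.ofNat 0, Int.ofNat 0, Int.ofNat 0, Int.ofNat 0, Int.ofNat 0, Int.ofNat 0, Int.ofNat 0, Int.ofNat 0, Int.ofNat 0, Int.ofNat 0, Int.ofNat 0, Int.ofNat 0, Int.ofNat 0, Int.ofNat 0, Int.ofNat 0, Int.ofNat 0, Int.ofNat 0, Int.ofNat 0],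
  [Int.ofNat 0, Int.negSucc 3, Int.ofNat 0, Int.ofNat 0, Int.ofNat 0, Int.ofNat 0, Int.ofNat 0, Int.ofNat 0, Int.ofNat 0, Int.ofNat 0, Int.ofNat 0, Int.ofNat 0, Int.ofNat 0, Int.ofNat 0, Int.ofNat 0, Int.ofNat 0, Int.ofNat 0, Int.ofNat 0, Int.ofNat 0, Int.ofNat 0, Int.ofNat 0, Int.ofNat 0, Int.ofNat 0, Int.negSucc 3],
  [Int.negSucc 3, Int.ofNat 0, Int.ofNat 0, Int.ofNat 0, Int.ofNat 0, Int.ofNat 0, Int.ofNat 0, Int.ofNat 0, Int.ofNat 0, Int.ofNat 0, Int.ofNat 0, Int.ofNat 0, Int.ofNat 0, Int.ofNat 0, Int.ofNat 0, Int.ofNat 0, Int.ofNat 0, Int.ofNat 0, Int.ofNat 0, Int.ofNat 0, Int.ofNat 0, Int.ofNat 0, Int.ofNat 0, Int.negSucc 3],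
  [Int.ofNat 4, Int.ofNat 0, Int.ofNat 0, Int.ofNat 0, Int.ofNat 0, Int.ofNat 0, Int.ofNat 0, Int.ofNat 0, Int.ofNat 0, Int.ofNat 0, Int.ofNat 0, Int.ofNat 0, Int.ofNat 0, Int.ofNat 0, Int.ofNat 0, Int.ofNat 0, Int.ofNat 0, Int.ofNat 0, Int.ofNat 0, Int.ofNat 0, Int.ofNat 0, Int.ofNat 0, Int.ofNat 0, Int.negSucc 3],
  [Int.negSucc 3, Int.ofNat 0, Int.ofNat 0, Int.ofNat 0, Int.ofNat 0, Int.ofNat 0, Int.ofNat 0, Int.ofNat 0, Int.ofNat 0, Int.ofNat 0, Int.ofNat 0, Int.ofNat 0, Int.ofNat 0, Int.ofNat 0, Int.ofNat 0, Int.ofNat 0, Int.ofNat 0, Int.ofNat 0, Int.ofNat 0, Int.ofNat 0, Int.ofNat 0, Int.ofNat 0, Int.ofNat 0, Int.negSucc 3],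
  [Int.negSucc 3, Int.ofNat 0, Int.ofNat 0, Int.ofNat 0, Int.ofNat 0, Int.ofNat 0, Int.ofNat 0, Int.ofNat 0, Int.ofNat 0, Int.ofNat 0, Int.ofNat 0, Int.ofNat 0, Int.ofNat 0, Int.ofNat 0, Int.ofNat 0, Int.ofNat 0, Int.ofNat 0, Int.ofNat 0, Int.ofNat 0, Int.ofNat 0, Int.ofNat 0, Int.ofNat 0, Int.ofNat 0, Int.negSucc 3],
  [Int.ofNat 4, Int.ofNat 0, Int.ofNat 0, Int.ofNat 0, Int.ofNat 0, Int.ofNat 0, Int.ofNat 0, Int.ofNat 0, Int.ofNat 0, Int.ofNat 0, Int.ofNat 0, Int.ofNat 0, Int.ofNat 0, Int.ofNat 0, Int.ofNat 0, Int.ofNat 0, Int.ofNat 0, Int.ofNat 0, Int.ofNat 0, Int.ofNat 0, Int.ofNat 0, Int.ofNat 0, Int.ofNat 0, Int.negSucc 3],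
  [Int.ofNat 0, Int.ofNat 4, Int.ofNat 0, Int.ofNat 0, Int.ofNat 0, Int.ofNat 0, Int.ofNat 0, Int.ofNat 0, Int.ofNat 0, Int.ofNat 0, Int.ofNat 0, Int.ofNat 0, Int.ofNat 0, Int.ofNat 0, Int.ofNat 0, Int.ofNat 0, Int.ofNat 0, Int.ofNat 0, Int.ofNat 0, Int.ofNat 0, Int.ofNat 0, Int.ofNat 0, Int.ofNat 0, Int.negSucc 3],
  [Int.ofNat 0, Int.negSucc 3, Int.ofNat 0, Int.ofNat 0, Int.ofNat 0, Int.ofNat 0, Int.ofNat 0, Int.ofNat 0, Int.ofNat 0, Int.ofNat 0, Int.ofNat 0, Int.ofNat 0, Int.ofNat 0, Int.ofNat 0, Int.ofNat 0, Int.ofNat 0, Int.ofNat 0, Int.ofNat 0, Int.ofNat 0, Int.ofNat 0, Int.ofNat 0, Int.ofNat 0, Int.ofNat 0, Int.ofNat 4],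
  [Int.ofNat 0, Int.ofNat 0, Int.ofNat 0, Int.ofNat 0, Int.ofNat 0, Int.ofNat 0, Int.ofNat 0, Int.ofNat 0, Int.ofNat 0, Int.ofNat 0, Int.ofNat 0, Int.ofNat 0, Int.ofNat 0, Int.ofNat 0, Int.ofNat 0, Int.ofNat 0, Int.ofNat 0, Int.ofNat 0, Int.ofNat 0, Int.ofNat 0, Int.ofNat 0, Int.negSucc 3, Int.ofNat 0, Int.ofNat 4],
  [Int.ofNat 2, Int.ofNat 2, Int.ofNat 2, Int.ofNat 0, Int.ofNat 0, Int.ofNat 0, Int.ofNat 2, Int.ofNat 2, Int.ofNat 0, Int.ofNat 0, Int.ofNat 0, Int.ofNat 0, Int.ofNat 0, Int.ofNat 0, Int.ofNat 0, Int.ofNat 0, Int.ofNat 0, Int.ofNat 0, Int.ofNat 0, Int.ofNat 2, Int.ofNat 0, Int.negSucc 1, Int.ofNat 0, Int.negSucc 1],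
  [Int.ofNat 2, Int.ofNat 2, Int.ofNat 0, Int.ofNat 0, Int.ofNat 0, Int.ofNat 2, Int.ofNat 2, Int.ofNat 0, Int.ofNat 0, Int.ofNat 0, Int.ofNat 0, Int.ofNat 0, Int.ofNat 0, Int.ofNat 0, Int.ofNat 0, Int.ofNat 0, Int.ofNat 0, Int.ofNat 0, Int.ofNat 2, Int.ofNat 0, Int.negSucc 1, Int.ofNat 0, Int.ofNat 2, Int.negSucc 1],
  [Int.negSucc 0, Int.negSucc 0, Int.ofNat 1, Int.negSucc 0, Int.negSucc 0, Int.ofNat 1, Int.ofNat 1, Int.negSucc 0, Int.negSucc 0, Int.ofNat 1, Int.ofNat 1, Int.negSucc 0, Int.negSucc 0, Int.negSucc 0, Int.negSucc 0, Int.ofNat 1, Int.negSucc 0, Int.negSucc 0, Int.ofNat 1, Int.negSucc 0, Int.negSucc 0, Int.negSucc 0, Int.ofNat 1, Int.ofNat 3],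
  [Int.negSucc 0, Int.negSucc 0, Int.negSucc 0, Int.negSucc 0, Int.negSucc 0, Int.negSucc 0, Int.negSucc 0, Int.negSucc 0, Int.negSucc 0, Int.negSucc 0, Int.negSucc 0, Int.negSucc 0, Int.negSucc 0, Int.negSucc 0, Int.negSucc 0, Int.negSucc 0, Int.negSucc 0, Int.negSucc 0, Int.negSucc 0, Int.negSucc 0, Int.negSucc 0, Int.negSucc 0, Int.negSucc 0, Int.ofNat 3],
  [Int.negSucc 0, Int.negSucc 0, Int.negSucc 0, Int.negSucc 0, Int.negSucc 0, Int.negSucc 0, Int.negSucc 0, Int.negSucc 0, Int.negSucc 0, Int.negSucc 0, Int.negSucc 0, Int.negSucc 0, Int.negSucc 0, Int.negSucc 0, Int.negSucc 0, Int.negSucc 0, Int.negSucc 0, Int.negSucc 0, Int.negSucc 0, Int.negSucc 0, Int.negSucc 0, Int.negSucc 0, Int.negSucc 0, Int.ofNat 3],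
  [Int.negSucc 0, Int.negSucc 0, Int.ofNat 1, Int.negSucc 0, Int.negSucc 0, Int.ofNat 1, Int.ofNat 1, Int.negSucc 0, Int.negSucc 0, Int.ofNat 1, Int.ofNat 1, Int.negSucc 0, Int.negSucc 0, Int.negSucc 0, Int.negSucc 0, Int.ofNat 1, Int.negSucc 0, Int.negSucc 0, Int.ofNat 1, Int.negSucc 0, Int.negSucc 0, Int.negSucc 0, Int.ofNat 1, Int.ofNat 3],
  [Int.ofNat 2, Int.ofNat 2, Int.ofNat 0, Int.ofNat 0, Int.ofNat 0, Int.ofNat 2, Int.ofNat 2, Int.ofNat 0, Int.ofNat 0, Int.ofNat 0, Int.ofNat 0, Int.ofNat 0, Int.ofNat 0, Int.ofNat 0, Int.ofNat 0, Int.ofNat 0, Int.ofNat 0, Int.ofNat 0, Int.ofNat 2, Int.ofNat 0, Int.negSucc 1, Int.ofNat 0, Int.ofNat 2, Int.negSucc 1],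
  [Int.ofNat 2, Int.ofNat 2, Int.ofNat 2, Int.ofNat 0, Int.ofNat 0, Int.ofNat 0, Int.ofNat 2, Int.ofNat 2, Int.ofNat 0, Int.ofNat 0, Int.ofNat 0, Int.ofNat 0, Int.ofNat 0, Int.ofNat 0, Int.ofNat 0, Int.ofNat 0, Int.ofNat 0, Int.ofNat 0, Int.ofNat 0, Int.ofNat 2, Int.ofNat 0, Int.negSucc 1, Int.ofNat 0, Int.negSucc 1],
  [Int.ofNat 0, Int.ofNat 0, Int.ofNat 0, Int.ofNat 0, Int.ofNat 0, Int.ofNat 0, Int.ofNat 0, Int.ofNat 0, Int.ofNat 0, Int.ofNat 0, Int.ofNat 0, Int.ofNat 0, Int.ofNat 0, Int.ofNat 0, Int.ofNat 0, Int.ofNat 0, Int.ofNat 0, Int.ofNat 0, Int.ofNat 0, Int.ofNat 0, Int.ofNat 0, Int.negSucc 3, Int.ofNat 0, Int.ofNat 4],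
  [Int.ofNat 0, Int.negSucc 3, Int.ofNat 0, Int.ofNat 0, Int.ofNat 0, Int.ofNat 0, Int.ofNat 0, Int.ofNat 0, Int.ofNat 0, Int.ofNat 0, Int.ofNat 0, Int.ofNat 0, Int.ofNat 0, Int.ofNat 0, Int.ofNat 0, Int.ofNat 0, Int.ofNat 0, Int.ofNat 0, Int.ofNat 0, Int.ofNat 0, Int.ofNat 0, Int.ofNat 0, Int.ofNat 0, Int.ofNat 4],
  [Int.ofNat 0, Int.ofNat 4, Int.ofNat 0, Int.ofNat 0, Int.ofNat 0, Int.ofNat 0, Int.ofNat 0, Int.ofNat 0, Int.ofNat 0, Int.ofNat 0, Int.ofNat 0, Int.ofNat 0, Int.ofNat 0, Int.ofNat 0, Int.ofNat 0, Int.ofNat 0, Int.ofNat 0, Int.ofNat 0, Int.ofNat 0, Int.ofNat 0, Int.ofNat 0, Int.ofNat 0, Int.ofNat 0, Int.negSucc 3],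
  [Int.ofNat 4, Int.ofNat 0, Int.ofNat 0, Int.ofNat 0, Int.ofNat 0, Int.ofNat 0, Int.ofNat 0, Int.ofNat 0, Int.ofNat 0, Int.ofNat 0, Int.ofNat 0, Int.ofNat 0, Int.ofNat 0, Int.ofNat 0, Int.ofNat 0, Int.ofNat 0, Int.ofNat 0, Int.ofNat 0, Int.ofNat 0, Int.ofNat 0, Int.ofNat 0, Int.ofNat 0, Int.ofNat 0, Int.negSucc 3],
  [Int.negSucc 3, Int.ofNat 0, Int.ofNat 0, Int.ofNat 0, Int.ofNat 0, Int.ofNat 0, Int.ofNat 0, Int.ofNat 0, Int.ofNat 0, Int.ofNat 0, Int.ofNat 0, Int.ofNat 0, Int.ofNat 0, Int.ofNat 0, Int.ofNat 0, Int.ofNat 0, Int.ofNat 0, Int.ofNat 0, Int.ofNat 0, Int.ofNat 0, Int.ofNat 0, Int.ofNat 0, Int.ofNat 0, Int.negSucc 3],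
  [Int.ofNat 4, Int.ofNat 0, Int.ofNat 0, Int.ofNat 0, Int.ofNat 0, Int.ofNat 0, Int.ofNat 0, Int.ofNat 0, Int.ofNat 0, Int.ofNat 0, Int.ofNat 0, Int.ofNat 0, Int.ofNat 0, Int.ofNat 0, Int.ofNat 0, Int.ofNat 0, Int.ofNat 0, Int.ofNat 0, Int.ofNat 0, Int.ofNat 0, Int.ofNat 0, Int.ofNat 0, Int.ofNat 0, Int.negSucc 3],
  [Int.negSucc 3, Int.ofNat 0, Int.ofNat 0, Int.ofNat 0, Int.ofNat 0, Int.ofNat 0, Int.ofNat 0, Int.ofNat 0, Int.ofNat 0, Int.ofNat 0, Int.ofNat 0, Int.ofNat 0, Int.ofNat 0, Int.ofNat 0, Int.ofNat 0, Int.ofNat 0, Int.ofNat 0, Int.ofNat 0, Int.ofNat 0, Int.ofNat 0, Int.ofNat 0, Int.ofNat 0, Int.ofNat 0, Int.ofNat 4],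
  [Int.ofNat 4, Int.ofNat 0, Int.ofNat 0, Int.ofNat 0, Int.ofNat 0, Int.ofNat 0, Int.ofNat 0, Int.ofNat 0, Int.ofNat 0, Int.ofNat 0, Int.ofNat 0, Int.ofNat 0, Int.ofNat 0, Int.ofNat 0, Int.ofNat 0, Int.ofNat 0, Int.ofNat 0, Int.ofNat 0, Int.ofNat 0, Int.ofNat 0, Int.ofNat 0, Int.ofNat 0, Int.ofNat 0, Int.ofNat 4],
  [Int.ofNat 0, Int.ofNat 4, Int.ofNat 0, Int.ofNat 0, Int.ofNat 0, Int.ofNat 0, Int.ofNat 0, Int.ofNat 0, Int.ofNat 0, Int.ofNat 0, Int.ofNat 0, Int.ofNat 0, Int.ofNat 0, Int.ofNat 0, Int.ofNat 0, Int.ofNat 0, Int.ofNat 0, Int.ofNat 0, Int.ofNat 0, Int.ofNat 0, Int.ofNat 0, Int.ofNat 0, Int.ofNat 0, Int.ofNat 4],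
  [Int.ofNat 4, Int.ofNat 0, Int.ofNat 4, Int.ofNat 0, Int.ofNat 0, Int.ofNat 0, Int.ofNat 0, Int.ofNat 0, Int.ofNat 0, Int.ofNat 0, Int.ofNat 0, Int.ofNat 0, Int.ofNat 0, Int.ofNat 0, Int.ofNat 0, Int.ofNat 0, Int.ofNat 0, Int.ofNat 0, Int.ofNat 0, Int.ofNat 0, Int.ofNat 0, Int.ofNat 0, Int.ofNat 0, Int.ofNat 0],
  [Int.ofNat 0, Int.ofNat 0, Int.ofNat 0, Int.ofNat 0, Int.ofNat 0, Int.ofNat 0, Int.ofNat 0, Int.ofNat 0, Int.ofNat 0, Int.ofNat 0, Int.ofNat 0, Int.ofNat 0, Int.ofNat 0, Int.ofNat 0, Int.ofNat 0, Int.ofNat 0, Int.ofNat 0, Int.ofNat 0, Int.ofNat 0, Int.ofNat 0, Int.ofNat 4, Int.ofNat 0, Int.ofNat 4, Int.ofNat 0],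
  [Int.ofNat 0, Int.ofNat 0, Int.ofNat 0, Int.ofNat 0, Int.negSucc 1, Int.ofNat 0, Int.ofNat 0, Int.ofNat 0, Int.ofNat 0, Int.negSucc 1, Int.negSucc 1, Int.ofNat 0, Int.ofNat 0, Int.negSucc 1, Int.ofNat 0, Int.negSucc 1, Int.negSucc 1, Int.ofNat 0, Int.ofNat 0, Int.ofNat 0, Int.ofNat 2, Int.ofNat 0, Int.ofNat 2, Int.ofNat 0],
  [Int.ofNat 0, Int.ofNat 0, Int.negSucc 1, Int.ofNat 0, Int.ofNat 0, Int.ofNat 0, Int.ofNat 0, Int.negSucc 1, Int.ofNat 0, Int.negSucc 1, Int.ofNat 2, Int.ofNat 0, Int.negSucc 1, Int.negSucc 1, Int.ofNat 2, Int.negSucc 1, Int.ofNat 0, Int.ofNat 0, Int.ofNat 0, Int.ofNat 0, Int.ofNat 0, Int.ofNat 0, Int.ofNat 0, Int.ofNat 0],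
  [Int.negSucc 0, Int.negSucc 0, Int.ofNat 1, Int.negSucc 0, Int.ofNat 1, Int.negSucc 0, Int.ofNat 1, Int.negSucc 0, Int.ofNat 1, Int.negSucc 0, Int.ofNat 3, Int.ofNat 1, Int.negSucc 0, Int.negSucc 0, Int.ofNat 1, Int.negSucc 0, Int.ofNat 1, Int.negSucc 0, Int.ofNat 1, Int.ofNat 1, Int.ofNat 1, Int.ofNat 1, Int.ofNat 1, Int.negSucc 0],
  [Int.negSucc 0, Int.negSucc 0, Int.negSucc 0, Int.negSucc 0, Int.ofNat 1, Int.ofNat 1, Int.negSucc 0, Int.negSucc 0, Int.ofNat 1, Int.ofNat 1, Int.negSucc 2, Int.ofNat 1, Int.negSucc 0, Int.negSucc 0, Int.ofNat 1, Int.ofNat 1, Int.ofNat 1, Int.negSucc 0, Int.negSucc 0, Int.ofNat 1, Int.ofNat 1, Int.ofNat 1, Int.negSucc 0, Int.negSucc 0],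
  [Int.negSucc 0, Int.negSucc 2, Int.negSucc 0, Int.ofNat 1, Int.negSucc 0, Int.negSucc 0, Int.negSucc 0, Int.ofNat 1, Int.negSucc 0, Int.negSucc 0, Int.ofNat 1, Int.ofNat 1, Int.negSucc 0, Int.ofNat 1, Int.ofNat 1, Int.negSucc 0, Int.ofNat 1, Int.ofNat 1, Int.negSucc 0, Int.ofNat 1, Int.negSucc 0, Int.ofNat 1, Int.ofNat 1, Int.negSucc 0],
  [Int.negSucc 0, Int.negSucc 2, Int.ofNat 1, Int.ofNat 1, Int.negSucc 0, Int.ofNat 1, Int.ofNat 1, Int.ofNat 1, Int.negSucc 0, Int.ofNat 1, Int.negSucc 0, Int.ofNat 1, Int.negSucc 0, Int.ofNat 1, Int.ofNat 1, Int.ofNat 1, Int.ofNat 1, Int.ofNat 1, Int.ofNat 1, Int.ofNat 1, Int.negSucc 0, Int.ofNat 1, Int.negSucc 0, Int.negSucc 0],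
  [Int.negSucc 0, Int.ofNat 1, Int.negSucc 2, Int.negSucc 0, Int.negSucc 0, Int.negSucc 0, Int.negSucc 0, Int.negSucc 0, Int.negSucc 0, Int.ofNat 1, Int.negSucc 0, Int.ofNat 1, Int.negSucc 0, Int.ofNat 1, Int.negSucc 0, Int.ofNat 1, Int.ofNat 1, Int.negSucc 0, Int.ofNat 1, Int.negSucc 0, Int.negSucc 0, Int.negSucc 0, Int.negSucc 0, Int.negSucc 0],
  [Int.negSucc 0, Int.ofNat 1, Int.negSucc 0, Int.negSucc 0, Int.negSucc 2, Int.negSucc 0, Int.ofNat 1, Int.negSucc 0, Int.ofNat 1, Int.negSucc 0, Int.negSucc 0, Int.negSucc 0, Int.negSucc 0, Int.ofNat 1, Int.negSucc 0, Int.ofNat 1, Int.ofNat 1, Int.ofNat 1, Int.negSucc 0, Int.negSucc 0, Int.negSucc 0, Int.negSucc 0, Int.negSucc 0, Int.negSucc 0],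
  [Int.ofNat 0, Int.negSucc 1, Int.ofNat 0, Int.ofNat 0, Int.negSucc 1, Int.ofNat 0, Int.ofNat 2, Int.ofNat 0, Int.ofNat 2, Int.ofNat 0, Int.ofNat 0, Int.ofNat 0, Int.ofNat 0, Int.ofNat 2, Int.ofNat 0, Int.ofNat 2, Int.ofNat 2, Int.ofNat 2, Int.ofNat 0, Int.ofNat 0, Int.ofNat 0, Int.ofNat 0, Int.ofNat 0, Int.ofNat 0],
  [Int.ofNat 0, Int.ofNat 0, Int.ofNat 0, Int.ofNat 0, Int.negSucc 1, Int.ofNat 0, Int.ofNat 0, Int.negSucc 1, Int.ofNat 0, Int.ofNat 2, Int.ofNat 0, Int.ofNat 2, Int.ofNat 0, Int.ofNat 0, Int.ofNat 0, Int.ofNat 0, Int.ofNat 2, Int.ofNat 0, Int.ofNat 2, Int.ofNat 2, Int.ofNat 2, Int.ofNat 0, Int.ofNat 0, Int.ofNat 0],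
  [Int.ofNat 0, Int.ofNat 0, Int.ofNat 0, Int.ofNat 0, Int.negSucc 1, Int.ofNat 0, Int.ofNat 0, Int.negSucc 1, Int.negSucc 1, Int.ofNat 0, Int.negSucc 1, Int.ofNat 0, Int.negSucc 1, Int.ofNat 0, Int.ofNat 0, Int.negSucc 1, Int.ofNat 2, Int.ofNat 0, Int.ofNat 0, Int.ofNat 2, Int.ofNat 0, Int.ofNat 0, Int.ofNat 0, Int.ofNat 0],
  [Int.ofNat 0, Int.ofNat 0, Int.ofNat 0, Int.negSucc 1, Int.ofNat 0, Int.ofNat 0, Int.negSucc 1, Int.negSucc 1, Int.ofNat 0, Int.negSucc 1, Int.ofNat 0, Int.negSucc 1, Int.ofNat 0, Int.ofNat 0, Int.negSucc 1, Int.ofNat 2, Int.ofNat 0, Int.ofNat 0, Int.ofNat 2, Int.ofNat 0, Int.ofNat 0, Int.ofNat 0, Int.ofNat 0, Int.ofNat 0],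
  [Int.ofNat 0, Int.ofNat 0, Int.ofNat 0, Int.negSucc 1, Int.ofNat 0, Int.ofNat 0, Int.negSucc 1, Int.ofNat 2, Int.ofNat 0, Int.ofNat 2, Int.ofNat 0, Int.ofNat 2, Int.ofNat 0, Int.ofNat 0, Int.negSucc 1, Int.ofNat 2, Int.ofNat 0, Int.ofNat 0, Int.negSucc 1, Int.ofNat 0, Int.ofNat 0, Int.ofNat 0, Int.ofNat 0, Int.ofNat 0]]

set_option maxRecDepth 100000 in
theorem c1e19_chk : pmChk (List.replicate 14 [19, 0, 25]).flatten nxL c1e19M 0 0 = true := by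
  decide +kernel

theorem c1e19_ne : wE letE2 (List.replicate 14 [19, 0, 25]).flatten ≠ 1 ∧ wE letE2 (List.replicate 14 [19, 0, 25]).flatten ≠ negElt :=
  ne_pm_of_chk nxL_mem c1e19_chk

set_option maxRecDepth 100000 in
def c1e20M : List (List ℤ) :=
  [[Int.ofNat 4, Int.ofNat 0, Int.ofNat 0, Int.ofNat 0, Int.ofNat 0, Int.ofNat 0, Int.ofNat 0, Int.ofNat 0, Int.ofNat 0, Int.ofNat 0, Int.ofNat 0, Int.ofNat 0, Int.ofNat 0, Int.ofNat 0, Int.ofNat 0, Int.ofNat 0, Int.ofNat 0, Int.ofNat 0, Int.ofNat 0, Int.ofNat 0, Int.ofNat 0, Int.ofNat 0, Int.ofNat 0, Int.ofNat 4],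
  [Int.ofNat 4, Int.ofNat 0, Int.ofNat 0, Int.ofNat 0, Int.ofNat 0, Int.ofNat 0, Int.ofNat 0, Int.ofNat 0, Int.ofNat 0, Int.ofNat 0, Int.ofNat 0, Int.ofNat 0, Int.ofNat 0, Int.ofNat 0, Int.ofNat 0, Int.ofNat 0, Int.ofNat 0, Int.ofNat 0, Int.ofNat 0, Int.ofNat 0, Int.ofNat 0, Int.ofNat 0, Int.ofNat 0, Int.ofNat 4],
  [Int.negSucc 3, Int.ofNat 0, Int.ofNat 0, Int.ofNat 0, Int.ofNat 0, Int.ofNat 0, Int.ofNat 0, Int.ofNat 0, Int.ofNat 0, Int.ofNat 0, Int.ofNat 0, Int.ofNat 0, Int.ofNat 0, Int.ofNat 0, Int.ofNat 0, Int.ofNat 0, Int.ofNat 0, Int.ofNat 0, Int.ofNat 0, Int.ofNat 0, Int.ofNat 0, Int.ofNat 0, Int.ofNat 0, Int.ofNat 4],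
  [Int.ofNat 0, Int.negSucc 3, Int.ofNat 0, Int.ofNat 0, Int.ofNat 0, Int.ofNat 0, Int.ofNat 0, Int.ofNat 0, Int.ofNat 0, Int.ofNat 0, Int.ofNat 0, Int.ofNat 0, Int.ofNat 0, Int.ofNat 0, Int.ofNat 0, Int.ofNat 0, Int.ofNat 0, Int.ofNat 0, Int.ofNat 0, Int.ofNat 0, Int.ofNat 0, Int.ofNat 0, Int.ofNat 0, Int.ofNat 4],
  [Int.ofNat 0, Int.ofNat 4, Int.ofNat 0, Int.ofNat 0, Int.ofNat 0, Int.ofNat 0, Int.ofNat 0, Int.ofNat 0, Int.ofNat 0, Int.ofNat 0, Int.ofNat 0, Int.ofNat 0, Int.ofNat 0, Int.ofNat 0, Int.ofNat 0, Int.ofNat 0, Int.ofNat 0, Int.ofNat 0, Int.ofNat 0, Int.ofNat 0, Int.ofNat 0, Int.ofNat 0, Int.ofNat 0, Int.negSucc 3],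
  [Int.ofNat 0, Int.ofNat 0, Int.ofNat 0, Int.ofNat 0, Int.ofNat 0, Int.ofNat 0, Int.ofNat 0, Int.ofNat 0, Int.ofNat 0, Int.ofNat 0, Int.ofNat 0, Int.ofNat 0, Int.ofNat 0, Int.ofNat 0, Int.ofNat 0, Int.ofNat 0, Int.ofNat 0, Int.ofNat 0, Int.ofNat 0, Int.ofNat 0, Int.ofNat 0, Int.ofNat 4, Int.ofNat 0, Int.negSucc 3],
  [Int.negSucc 1, Int.negSucc 1, Int.negSucc 1, Int.ofNat 0, Int.ofNat 0, Int.ofNat 0, Int.negSucc 1, Int.negSucc 1, Int.ofNat 0, Int.ofNat 0, Int.ofNat 0, Int.ofNat 0, Int.ofNat 0, Int.ofNat 0, Int.ofNat 0, Int.ofNat 0, Int.ofNat 0, Int.ofNat 0, Int.ofNat 0, Int.negSucc 1, Int.ofNat 0, Int.ofNat 2, Int.ofNat 0, Int.ofNat 2],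
  [Int.negSucc 1, Int.negSucc 1, Int.ofNat 0, Int.ofNat 0, Int.ofNat 0, Int.negSucc 1, Int.negSucc 1, Int.ofNat 0, Int.ofNat 0, Int.ofNat 0, Int.ofNat 0, Int.ofNat 0, Int.ofNat 0, Int.ofNat 0, Int.ofNat 0, Int.ofNat 0, Int.ofNat 0, Int.ofNat 0, Int.negSucc 1, Int.ofNat 0, Int.ofNat 2, Int.ofNat 0, Int.negSucc 1, Int.ofNat 2],
  [Int.ofNat 1, Int.ofNat 1, Int.negSucc 0, Int.ofNat 1, Int.ofNat 1, Int.negSucc 0, Int.negSucc 0, Int.ofNat 1, Int.ofNat 1, Int.negSucc 0, Int.negSucc 0, Int.ofNat 1, Int.ofNat 1, Int.ofNat 1, Int.ofNat 1, Int.negSucc 0, Int.ofNat 1, Int.ofNat 1, Int.negSucc 0, Int.ofNat 1, Int.ofNat 1, Int.ofNat 1, Int.negSucc 0, Int.negSucc 2],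
  [Int.ofNat 1, Int.ofNat 1, Int.ofNat 1, Int.ofNat 1, Int.ofNat 1, Int.ofNat 1, Int.ofNat 1, Int.ofNat 1, Int.ofNat 1, Int.ofNat 1, Int.ofNat 1, Int.ofNat 1, Int.ofNat 1, Int.ofNat 1, Int.ofNat 1, Int.ofNat 1, Int.ofNat 1, Int.ofNat 1, Int.ofNat 1, Int.ofNat 1, Int.ofNat 1, Int.ofNat 1, Int.ofNat 1, Int.negSucc 2],
  [Int.ofNat 1, Int.ofNat 1, Int.ofNat 1, Int.ofNat 1, Int.ofNat 1, Int.ofNat 1, Int.ofNat 1, Int.ofNat 1, Int.ofNat 1, Int.ofNat 1, Int.ofNat 1, Int.ofNat 1, Int.ofNat 1, Int.ofNat 1, Int.ofNat 1, Int.ofNat 1, Int.ofNat 1, Int.ofNat 1, Int.ofNat 1, Int.ofNat 1, Int.ofNat 1, Int.ofNat 1, Int.ofNat 1, Int.negSucc 2],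
  [Int.ofNat 1, Int.ofNat 1, Int.negSucc 0, Int.ofNat 1, Int.ofNat 1, Int.negSucc 0, Int.negSucc 0, Int.ofNat 1, Int.ofNat 1, Int.negSucc 0, Int.negSucc 0, Int.ofNat 1, Int.ofNat 1, Int.ofNat 1, Int.ofNat 1, Int.negSucc 0, Int.ofNat 1, Int.ofNat 1, Int.negSucc 0, Int.ofNat 1, Int.ofNat 1, Int.ofNat 1, Int.negSucc 0, Int.negSucc 2],
  [Int.negSucc 1, Int.negSucc 1, Int.ofNat 0, Int.ofNat 0, Int.ofNat 0, Int.negSucc 1, Int.negSucc 1, Int.ofNat 0, Int.ofNat 0, Int.ofNat 0, Int.ofNat 0, Int.ofNat 0, Int.ofNat 0, Int.ofNat 0, Int.ofNat 0, Int.ofNat 0, Int.ofNat 0, Int.ofNat 0, Int.negSucc 1, Int.ofNat 0, Int.ofNat 2, Int.ofNat 0, Int.negSucc 1, Int.ofNat 2],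
  [Int.negSucc 1, Int.negSucc 1, Int.negSucc 1, Int.ofNat 0, Int.ofNat 0, Int.ofNat 0, Int.negSucc 1, Int.negSucc 1, Int.ofNat 0, Int.ofNat 0, Int.ofNat 0, Int.ofNat 0, Int.ofNat 0, Int.ofNat 0, Int.ofNat 0, Int.ofNat 0, Int.ofNat 0, Int.ofNat 0, Int.ofNat 0, Int.negSucc 1, Int.ofNat 0, Int.ofNat 2, Int.ofNat 0, Int.ofNat 2],
  [Int.ofNat 0, Int.ofNat 0, Int.ofNat 0, Int.ofNat 0, Int.ofNat 0, Int.ofNat 0, Int.ofNat 0, Int.ofNat 0, Int.ofNat 0, Int.ofNat 0, Int.ofNat 0, Int.ofNat 0, Int.ofNat 0, Int.ofNat 0, Int.ofNat 0, Int.ofNat 0, Int.ofNat 0, Int.ofNat 0, Int.ofNat 0, Int.ofNat 0, Int.ofNat 0, Int.ofNat 4, Int.ofNat 0, Int.negSucc 3],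
  [Int.ofNat 0, Int.ofNat 4, Int.ofNat 0, Int.ofNat 0, Int.ofNat 0, Int.ofNat 0, Int.ofNat 0, Int.ofNat 0, Int.ofNat 0, Int.ofNat 0, Int.ofNat 0, Int.ofNat 0, Int.ofNat 0, Int.ofNat 0, Int.ofNat 0, Int.ofNat 0, Int.ofNat 0, Int.ofNat 0, Int.ofNat 0, Int.ofNat 0, Int.ofNat 0, Int.ofNat 0, Int.ofNat 0, Int.negSucc 3],
  [Int.ofNat 0, Int.negSucc 3, Int.ofNat 0, Int.ofNat 0, Int.ofNat 0, Int.ofNat 0, Int.ofNat 0, Int.ofNat 0, Int.ofNat 0, Int.ofNat 0, Int.ofNat 0, Int.ofNat 0, Int.ofNat 0, Int.ofNat 0, Int.ofNat 0, Int.ofNat 0, Int.ofNat 0, Int.ofNat 0, Int.ofNat 0, Int.ofNat 0, Int.ofNat 0, Int.ofNat 0, Int.ofNat 0, Int.ofNat 4],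
  [Int.negSucc 3, Int.ofNat 0, Int.ofNat 0, Int.ofNat 0, Int.ofNat 0, Int.ofNat 0, Int.ofNat 0, Int.ofNat 0, Int.ofNat 0, Int.ofNat 0, Int.ofNat 0, Int.ofNat 0, Int.ofNat 0, Int.ofNat 0, Int.ofNat 0, Int.ofNat 0, Int.ofNat 0, Int.ofNat 0, Int.ofNat 0, Int.ofNat 0, Int.ofNat 0, Int.ofNat 0, Int.ofNat 0, Int.ofNat 4],
  [Int.ofNat 4, Int.ofNat 0, Int.ofNat 0, Int.ofNat 0, Int.ofNat 0, Int.ofNat 0, Int.ofNat 0, Int.ofNat 0, Int.ofNat 0, Int.ofNat 0, Int.ofNat 0, Int.ofNat 0, Int.ofNat 0, Int.ofNat 0, Int.ofNat 0, Int.ofNat 0, Int.ofNat 0, Int.ofNat 0, Int.ofNat 0, Int.ofNat 0, Int.ofNat 0, Int.ofNat 0, Int.ofNat 0, Int.ofNat 4],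
  [Int.negSucc 3, Int.ofNat 0, Int.ofNat 0, Int.ofNat 0, Int.ofNat 0, Int.ofNat 0, Int.ofNat 0, Int.ofNat 0, Int.ofNat 0, Int.ofNat 0, Int.ofNat 0, Int.ofNat 0, Int.ofNat 0, Int.ofNat 0, Int.ofNat 0, Int.ofNat 0, Int.ofNat 0, Int.ofNat 0, Int.ofNat 0, Int.ofNat 0, Int.ofNat 0, Int.ofNat 0, Int.ofNat 0, Int.ofNat 4],
  [Int.ofNat 4, Int.ofNat 0, Int.ofNat 0, Int.ofNat 0, Int.ofNat 0, Int.ofNat 0, Int.ofNat 0, Int.ofNat 0, Int.ofNat 0, Int.ofNat 0, Int.ofNat 0, Int.ofNat 0, Int.ofNat 0, Int.ofNat 0, Int.ofNat 0, Int.ofNat 0, Int.ofNat 0, Int.ofNat 0, Int.ofNat 0, Int.ofNat 0, Int.ofNat 0, Int.ofNat 0, Int.ofNat 0, Int.negSucc 3],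
  [Int.negSucc 3, Int.ofNat 0, Int.ofNat 0, Int.ofNat 0, Int.ofNat 0, Int.ofNat 0, Int.ofNat 0, Int.ofNat 0, Int.ofNat 0, Int.ofNat 0, Int.ofNat 0, Int.ofNat 0, Int.ofNat 0, Int.ofNat 0, Int.ofNat 0, Int.ofNat 0, Int.ofNat 0, Int.ofNat 0, Int.ofNat 0, Int.ofNat 0, Int.ofNat 0, Int.ofNat 0, Int.ofNat 0, Int.negSucc 3],
  [Int.ofNat 0, Int.negSucc 3, Int.ofNat 0, Int.ofNat 0, Int.ofNat 0, Int.ofNat 0, Int.ofNat 0, Int.ofNat 0, Int.ofNat 0, Int.ofNat 0, Int.ofNat 0, Int.ofNat 0, Int.ofNat 0, Int.ofNat 0, Int.ofNat 0, Int.ofNat 0, Int.ofNat 0, Int.ofNat 0, Int.ofNat 0, Int.ofNat 0, Int.ofNat 0, Int.ofNat 0, Int.ofNat 0, Int.negSucc 3],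
  [Int.negSucc 3, Int.ofNat 0, Int.negSucc 3, Int.ofNat 0, Int.ofNat 0, Int.ofNat 0, Int.ofNat 0, Int.ofNat 0, Int.ofNat 0, Int.ofNat 0, Int.ofNat 0, Int.ofNat 0, Int.ofNat 0, Int.ofNat 0, Int.ofNat 0, Int.ofNat 0, Int.ofNat 0, Int.ofNat 0, Int.ofNat 0, Int.ofNat 0, Int.ofNat 0, Int.ofNat 0, Int.ofNat 0, Int.ofNat 0],
  [Int.ofNat 0, Int.ofNat 0, Int.ofNat 0, Int.ofNat 0, Int.ofNat 0, Int.ofNat 0, Int.ofNat 0, Int.ofNat 0, Int.ofNat 0, Int.ofNat 0, Int.ofNat 0, Int.ofNat 0, Int.ofNat 0, Int.ofNat 0, Int.ofNat 0, Int.ofNat 0, Int.ofNat 0, Int.ofNat 0, Int.ofNat 0, Int.ofNat 0, Int.negSucc 3, Int.ofNat 0, Int.negSucc 3, Int.ofNat 0],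
  [Int.ofNat 0, Int.ofNat 0, Int.ofNat 0, Int.ofNat 0, Int.ofNat 2, Int.ofNat 0, Int.ofNat 0, Int.ofNat 0, Int.ofNat 0, Int.ofNat 2, Int.ofNat 2, Int.ofNat 0, Int.ofNat 0, Int.ofNat 2, Int.ofNat 0, Int.ofNat 2, Int.ofNat 2, Int.ofNat 0, Int.ofNat 0, Int.ofNat 0, Int.negSucc 1, Int.ofNat 0, Int.negSucc 1, Int.ofNat 0],
  [Int.ofNat 0, Int.ofNat 0, Int.ofNat 2, Int.ofNat 0, Int.ofNat 0, Int.ofNat 0, Int.ofNat 0, Int.ofNat 2, Int.ofNat 0, Int.ofNat 2, Int.negSucc 1, Int.ofNat 0, Int.ofNat 2, Int.ofNat 2, Int.negSucc 1, Int.ofNat 2, Int.ofNat 0, Int.ofNat 0, Int.ofNat 0, Int.ofNat 0, Int.ofNat 0, Int.ofNat 0, Int.ofNat 0, Int.ofNat 0],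
  [Int.ofNat 1, Int.ofNat 1, Int.negSucc 0, Int.ofNat 1, Int.negSucc 0, Int.ofNat 1, Int.negSucc 0, Int.ofNat 1, Int.negSucc 0, Int.ofNat 1, Int.negSucc 2, Int.negSucc 0, Int.ofNat 1, Int.ofNat 1, Int.negSucc 0, Int.ofNat 1, Int.negSucc 0, Int.ofNat 1, Int.negSucc 0, Int.negSucc 0, Int.negSucc 0, Int.negSucc 0, Int.negSucc 0, Int.ofNat 1],
  [Int.ofNat 1, Int.ofNat 1, Int.ofNat 1, Int.ofNat 1, Int.negSucc 0, Int.negSucc 0, Int.ofNat 1, Int.ofNat 1, Int.negSucc 0, Int.negSucc 0, Int.ofNat 3, Int.negSucc 0, Int.ofNat 1, Int.ofNat 1, Int.negSucc 0, Int.negSucc 0, Int.negSucc 0, Int.ofNat 1, Int.ofNat 1, Int.negSucc 0, Int.negSucc 0, Int.negSucc 0, Int.ofNat 1, Int.ofNat 1],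
  [Int.ofNat 1, Int.ofNat 1, Int.negSucc 0, Int.ofNat 1, Int.negSucc 0, Int.ofNat 1, Int.negSucc 0, Int.negSucc 0, Int.negSucc 0, Int.negSucc 0, Int.negSucc 0, Int.ofNat 1, Int.ofNat 1, Int.ofNat 3, Int.ofNat 1, Int.negSucc 0, Int.ofNat 1, Int.negSucc 0, Int.ofNat 1, Int.negSucc 0, Int.ofNat 1, Int.ofNat 1, Int.negSucc 0, Int.ofNat 1],
  [Int.ofNat 1, Int.ofNat 1, Int.ofNat 1, Int.ofNat 1, Int.negSucc 0, Int.negSucc 0, Int.ofNat 1, Int.negSucc 0, Int.negSucc 0, Int.ofNat 1, Int.ofNat 1, Int.ofNat 1, Int.ofNat 1, Int.ofNat 3, Int.ofNat 1, Int.ofNat 1, Int.ofNat 1, Int.negSucc 0, Int.negSucc 0, Int.negSucc 0, Int.ofNat 1, Int.ofNat 1, Int.ofNat 1, Int.ofNat 1],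
  [Int.ofNat 1, Int.ofNat 1, Int.ofNat 1, Int.ofNat 1, Int.negSucc 2, Int.negSucc 0, Int.ofNat 1, Int.negSucc 0, Int.negSucc 0, Int.negSucc 0, Int.negSucc 0, Int.ofNat 1, Int.ofNat 1, Int.ofNat 1, Int.ofNat 1, Int.negSucc 0, Int.negSucc 0, Int.negSucc 0, Int.negSucc 0, Int.negSucc 0, Int.negSucc 0, Int.ofNat 1, Int.negSucc 0, Int.ofNat 1],
  [Int.ofNat 1, Int.negSucc 0, Int.ofNat 1, Int.ofNat 1, Int.ofNat 1, Int.ofNat 1, Int.ofNat 1, Int.negSucc 0, Int.negSucc 0, Int.ofNat 1, Int.negSucc 0, Int.negSucc 0, Int.negSucc 0, Int.negSucc 0, Int.negSucc 0, Int.negSucc 0, Int.ofNat 1, Int.ofNat 1, Int.negSucc 2, Int.negSucc 0, Int.negSucc 0, Int.negSucc 0, Int.ofNat 1, Int.ofNat 1],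
  [Int.ofNat 0, Int.ofNat 2, Int.ofNat 0, Int.ofNat 0, Int.ofNat 0, Int.ofNat 0, Int.ofNat 2, Int.ofNat 0, Int.ofNat 2, Int.ofNat 2, Int.ofNat 0, Int.ofNat 2, Int.ofNat 2, Int.negSucc 1, Int.negSucc 1, Int.ofNat 0, Int.ofNat 0, Int.ofNat 0, Int.ofNat 0, Int.ofNat 0, Int.ofNat 0, Int.ofNat 0, Int.ofNat 0, Int.ofNat 0],
  [Int.ofNat 0, Int.ofNat 0, Int.ofNat 0, Int.ofNat 0, Int.ofNat 2, Int.ofNat 0, Int.ofNat 0, Int.ofNat 0, Int.ofNat 0, Int.ofNat 2, Int.ofNat 0, Int.ofNat 2, Int.ofNat 2, Int.ofNat 0, Int.ofNat 2, Int.ofNat 2, Int.negSucc 1, Int.negSucc 1, Int.ofNat 0, Int.ofNat 0, Int.ofNat 0, Int.ofNat 0, Int.ofNat 0, Int.ofNat 0],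
  [Int.ofNat 0, Int.ofNat 0, Int.ofNat 0, Int.ofNat 0, Int.ofNat 2, Int.ofNat 0, Int.ofNat 0, Int.ofNat 0, Int.negSucc 1, Int.ofNat 0, Int.negSucc 1, Int.ofNat 0, Int.ofNat 0, Int.ofNat 0, Int.ofNat 2, Int.ofNat 0, Int.negSucc 1, Int.negSucc 1, Int.negSucc 1, Int.ofNat 0, Int.negSucc 1, Int.ofNat 0, Int.ofNat 0, Int.ofNat 0],
  [Int.ofNat 0, Int.ofNat 0, Int.ofNat 0, Int.ofNat 2, Int.ofNat 0, Int.ofNat 0, Int.ofNat 0, Int.negSucc 1, Int.ofNat 0, Int.negSucc 1, Int.ofNat 0, Int.ofNat 0, Int.ofNat 0, Int.ofNat 2, Int.ofNat 0, Int.negSucc 1, Int.negSucc 1, Int.negSucc 1, Int.ofNat 0, Int.negSucc 1, Int.ofNat 0, Int.ofNat 0, Int.ofNat 0, Int.ofNat 0],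
  [Int.ofNat 0, Int.ofNat 0, Int.ofNat 0, Int.ofNat 2, Int.ofNat 0, Int.ofNat 0, Int.ofNat 0, Int.ofNat 2, Int.ofNat 0, Int.ofNat 2, Int.ofNat 0, Int.ofNat 0, Int.ofNat 0, Int.ofNat 2, Int.ofNat 0, Int.negSucc 1, Int.negSucc 1, Int.negSucc 1, Int.ofNat 0, Int.negSucc 1, Int.ofNat 0, Int.ofNat 0, Int.ofNat 0, Int.ofNat 0],
  [Int.ofNat 0, Int.ofNat 0, Int.ofNat 0, Int.negSucc 1, Int.ofNat 0, Int.ofNat 0, Int.ofNat 0, Int.ofNat 2, Int.ofNat 0, Int.negSucc 1, Int.ofNat 0, Int.ofNat 0, Int.ofNat 0, Int.negSucc 1, Int.ofNat 0, Int.negSucc 1, Int.ofNat 2, Int.negSucc 1, Int.ofNat 0, Int.negSucc 1, Int.ofNat 0, Int.ofNat 0, Int.ofNat 0, Int.ofNat 0],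
  [Int.ofNat 0, Int.ofNat 0, Int.ofNat 0, Int.negSucc 1, Int.negSucc 1, Int.negSucc 1, Int.negSucc 1, Int.negSucc 1, Int.ofNat 0, Int.ofNat 0, Int.ofNat 2, Int.ofNat 0, Int.ofNat 0, Int.ofNat 2, Int.ofNat 0, Int.negSucc 1, Int.ofNat 0, Int.ofNat 0, Int.ofNat 0, Int.ofNat 0, Int.ofNat 0, Int.ofNat 0, Int.ofNat 0, Int.ofNat 0],
  [Int.ofNat 0, Int.ofNat 0, Int.ofNat 0, Int.negSucc 1, Int.negSucc 1, Int.negSucc 1, Int.negSucc 1, Int.ofNat 2, Int.ofNat 0, Int.ofNat 0, Int.negSucc 1, Int.ofNat 0, Int.ofNat 0, Int.ofNat 2, Int.ofNat 0, Int.negSucc 1, Int.ofNat 0, Int.ofNat 0, Int.ofNat 0, Int.ofNat 0, Int.ofNat 0, Int.ofNat 0, Int.ofNat 0, Int.ofNat 0],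
  [Int.ofNat 0, Int.ofNat 0, Int.ofNat 0, Int.ofNat 0, Int.negSucc 1, Int.negSucc 1, Int.negSucc 1, Int.negSucc 1, Int.ofNat 2, Int.ofNat 0, Int.ofNat 0, Int.negSucc 1, Int.ofNat 0, Int.ofNat 0, Int.ofNat 2, Int.ofNat 0, Int.negSucc 1, Int.ofNat 0, Int.ofNat 0, Int.ofNat 0, Int.ofNat 0, Int.ofNat 0, Int.ofNat 0, Int.ofNat 0],
  [Int.ofNat 0, Int.ofNat 0, Int.ofNat 0, Int.ofNat 0, Int.ofNat 0, Int.negSucc 1, Int.ofNat 0, Int.ofNat 0, Int.ofNat 2, Int.ofNat 0, Int.ofNat 0, Int.negSucc 1, Int.ofNat 0, Int.ofNat 2, Int.ofNat 2, Int.ofNat 0, Int.ofNat 0, Int.ofNat 0, Int.ofNat 0, Int.ofNat 2, Int.ofNat 0, Int.ofNat 2, Int.ofNat 2, Int.ofNat 0],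
  [Int.ofNat 0, Int.ofNat 0, Int.negSucc 1, Int.ofNat 0, Int.ofNat 0, Int.ofNat 2, Int.ofNat 0, Int.ofNat 0, Int.negSucc 1, Int.ofNat 0, Int.ofNat 2, Int.ofNat 2, Int.ofNat 0, Int.ofNat 0, Int.ofNat 0, Int.ofNat 0, Int.ofNat 2, Int.ofNat 0, Int.ofNat 2, Int.ofNat 2, Int.ofNat 0, Int.ofNat 0, Int.ofNat 0, Int.ofNat 0],
  [Int.negSucc 0, Int.negSucc 0, Int.ofNat 1, Int.negSucc 0, Int.negSucc 0, Int.ofNat 1, Int.negSucc 0, Int.negSucc 0, Int.negSucc 2, Int.negSucc 0, Int.ofNat 1, Int.ofNat 1, Int.negSucc 0, Int.negSucc 0, Int.negSucc 0, Int.negSucc 0, Int.ofNat 1, Int.negSucc 0, Int.ofNat 1, Int.ofNat 1, Int.negSucc 0, Int.negSucc 0, Int.negSucc 0, Int.negSucc 0],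
  [Int.negSucc 0, Int.negSucc 0, Int.negSucc 0, Int.negSucc 0, Int.ofNat 1, Int.negSucc 0, Int.ofNat 1, Int.ofNat 1, Int.negSucc 0, Int.negSucc 0, Int.negSucc 0, Int.negSucc 0, Int.negSucc 0, Int.ofNat 1, Int.negSucc 0, Int.negSucc 0, Int.negSucc 2, Int.negSucc 0, Int.negSucc 0, Int.ofNat 1, Int.negSucc 0, Int.ofNat 1, Int.ofNat 1, Int.negSucc 0],
  [Int.negSucc 0, Int.negSucc 0, Int.negSucc 0, Int.ofNat 1, Int.ofNat 1, Int.ofNat 1, Int.negSucc 0, Int.negSucc 0, Int.ofNat 1, Int.ofNat 1, Int.ofNat 1, Int.ofNat 1, Int.ofNat 1, Int.ofNat 1, Int.ofNat 1, Int.ofNat 1, Int.negSucc 2, Int.ofNat 1, Int.ofNat 1, Int.negSucc 0, Int.ofNat 1, Int.negSucc 0, Int.ofNat 1, Int.negSucc 0],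
  [Int.negSucc 0, Int.negSucc 0, Int.ofNat 1, Int.ofNat 1, Int.ofNat 1, Int.negSucc 0, Int.ofNat 1, Int.negSucc 0, Int.ofNat 1, Int.negSucc 0, Int.negSucc 0, Int.ofNat 1, Int.ofNat 1, Int.ofNat 1, Int.ofNat 1, Int.negSucc 0, Int.negSucc 2, Int.ofNat 1, Int.negSucc 0, Int.negSucc 0, Int.ofNat 1, Int.negSucc 0, Int.negSucc 0, Int.negSucc 0],
  [Int.ofNat 1, Int.negSucc 0, Int.ofNat 1, Int.negSucc 0, Int.ofNat 1, Int.negSucc 0, Int.negSucc 0, Int.negSucc 2, Int.negSucc 0, Int.negSucc 0, Int.ofNat 1, Int.negSucc 0, Int.ofNat 1, Int.negSucc 0, Int.ofNat 1, Int.ofNat 1, Int.ofNat 1, Int.ofNat 1, Int.ofNat 1, Int.negSucc 0, Int.negSucc 0, Int.ofNat 1, Int.negSucc 0, Int.negSucc 0],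
  [Int.ofNat 1, Int.negSucc 0, Int.negSucc 0, Int.negSucc 0, Int.ofNat 1, Int.ofNat 1, Int.ofNat 1, Int.negSucc 2, Int.negSucc 0, Int.ofNat 1, Int.negSucc 0, Int.negSucc 0, Int.ofNat 1, Int.negSucc 0, Int.ofNat 1, Int.negSucc 0, Int.ofNat 1, Int.ofNat 1, Int.negSucc 0, Int.negSucc 0, Int.negSucc 0, Int.ofNat 1, Int.ofNat 1, Int.negSucc 0],
  [Int.negSucc 1, Int.ofNat 0, Int.ofNat 0, Int.negSucc 1, Int.ofNat 0, Int.ofNat 0, Int.ofNat 2, Int.negSucc 1, Int.ofNat 0, Int.ofNat 2, Int.ofNat 0, Int.ofNat 0, Int.ofNat 2, Int.negSucc 1, Int.ofNat 0, Int.ofNat 0, Int.ofNat 0, Int.ofNat 0, Int.ofNat 0, Int.ofNat 0, Int.ofNat 0, Int.ofNat 2, Int.ofNat 0, Int.ofNat 0],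
  [Int.negSucc 1, Int.ofNat 0, Int.ofNat 2, Int.negSucc 1, Int.ofNat 0, Int.ofNat 2, Int.ofNat 0, Int.ofNat 0, Int.ofNat 0, Int.ofNat 2, Int.negSucc 1, Int.ofNat 0, Int.ofNat 0, Int.ofNat 2, Int.ofNat 0, Int.ofNat 0, Int.negSucc 1, Int.ofNat 0, Int.ofNat 0, Int.ofNat 0, Int.ofNat 0, Int.ofNat 0, Int.ofNat 0, Int.ofNat 0],
  [Int.ofNat 2, Int.ofNat 0, Int.negSucc 1, Int.negSucc 1, Int.ofNat 0, Int.ofNat 2, Int.ofNat 0, Int.ofNat 0, Int.ofNat 0, Int.ofNat 2, Int.negSucc 1, Int.ofNat 0, Int.ofNat 0, Int.ofNat 2, Int.ofNat 0, Int.ofNat 0, Int.negSucc 1, Int.ofNat 0, Int.ofNat 0, Int.ofNat 0, Int.ofNat 0, Int.ofNat 0, Int.ofNat 0, Int.ofNat 0],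
  [Int.ofNat 0, Int.ofNat 0, Int.ofNat 0, Int.ofNat 2, Int.ofNat 0, Int.negSucc 1, Int.negSucc 1, Int.ofNat 0, Int.ofNat 2, Int.ofNat 0, Int.ofNat 0, Int.ofNat 0, Int.ofNat 2, Int.negSucc 1, Int.ofNat 0, Int.ofNat 0, Int.ofNat 2, Int.ofNat 0, Int.ofNat 0, Int.negSucc 1, Int.ofNat 0, Int.ofNat 0, Int.ofNat 0, Int.ofNat 0],
  [Int.ofNat 0, Int.ofNat 0, Int.ofNat 0, Int.ofNat 2, Int.ofNat 0, Int.negSucc 1, Int.ofNat 0, Int.ofNat 2, Int.ofNat 0, Int.ofNat 0, Int.ofNat 0, Int.negSucc 1, Int.ofNat 0, Int.negSucc 1, Int.ofNat 0, Int.ofNat 0, Int.ofNat 2, Int.ofNat 0, Int.negSucc 1, Int.ofNat 0, Int.ofNat 0, Int.ofNat 2, Int.ofNat 0, Int.ofNat 0],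
  [Int.ofNat 0, Int.ofNat 0, Int.ofNat 2, Int.ofNat 0, Int.negSucc 1, Int.ofNat 0, Int.ofNat 2, Int.ofNat 0, Int.ofNat 0, Int.ofNat 0, Int.negSucc 1, Int.ofNat 0, Int.negSucc 1, Int.ofNat 0, Int.ofNat 0, Int.ofNat 2, Int.ofNat 0, Int.negSucc 1, Int.ofNat 0, Int.ofNat 0, Int.ofNat 2, Int.ofNat 0, Int.ofNat 0, Int.ofNat 0],
  [Int.ofNat 0, Int.ofNat 0, Int.negSucc 1, Int.ofNat 0, Int.negSucc 1, Int.ofNat 0, Int.ofNat 2, Int.ofNat 0, Int.ofNat 0, Int.ofNat 0, Int.ofNat 2, Int.ofNat 0, Int.negSucc 1, Int.ofNat 0, Int.ofNat 0, Int.ofNat 2, Int.ofNat 0, Int.negSucc 1, Int.ofNat 0, Int.ofNat 0, Int.ofNat 2, Int.ofNat 0, Int.ofNat 0, Int.ofNat 0],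
  [Int.ofNat 0, Int.ofNat 0, Int.ofNat 2, Int.ofNat 0, Int.ofNat 2, Int.ofNat 0, Int.negSucc 1, Int.ofNat 0, Int.ofNat 0, Int.ofNat 0, Int.ofNat 2, Int.ofNat 0, Int.ofNat 2, Int.ofNat 0, Int.ofNat 0, Int.ofNat 2, Int.ofNat 0, Int.negSucc 1, Int.ofNat 0, Int.ofNat 0, Int.ofNat 2, Int.ofNat 0, Int.ofNat 0, Int.ofNat 0],
  [Int.ofNat 0, Int.ofNat 0, Int.ofNat 0, Int.ofNat 2, Int.negSucc 1, Int.ofNat 0, Int.ofNat 0, Int.ofNat 0, Int.ofNat 2, Int.ofNat 0, Int.ofNat 0, Int.ofNat 2, Int.ofNat 0, Int.ofNat 0, Int.ofNat 0, Int.ofNat 0, Int.ofNat 2, Int.ofNat 2, Int.ofNat 0, Int.negSucc 1, Int.ofNat 0, Int.ofNat 2, Int.ofNat 0, Int.ofNat 0],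
  [Int.ofNat 0, Int.ofNat 0, Int.ofNat 0, Int.ofNat 2, Int.negSucc 1, Int.ofNat 0, Int.ofNat 0, Int.ofNat 0, Int.ofNat 2, Int.ofNat 0, Int.ofNat 0, Int.negSucc 1, Int.ofNat 0, Int.ofNat 0, Int.ofNat 0, Int.ofNat 0, Int.ofNat 2, Int.ofNat 2, Int.ofNat 0, Int.negSucc 1, Int.ofNat 0, Int.negSucc 1, Int.ofNat 0, Int.ofNat 0],
  [Int.ofNat 0, Int.ofNat 0, Int.ofNat 0, Int.ofNat 0, Int.ofNat 2, Int.negSucc 1, Int.ofNat 0, Int.ofNat 0, Int.ofNat 0, Int.ofNat 2, Int.ofNat 0, Int.ofNat 0, Int.negSucc 1, Int.ofNat 0, Int.ofNat 0, Int.ofNat 0, Int.ofNat 0, Int.ofNat 2, Int.ofNat 2, Int.ofNat 0, Int.negSucc 1, Int.ofNat 0, Int.negSucc 1, Int.ofNat 0],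
  [Int.ofNat 0, Int.ofNat 0, Int.ofNat 0, Int.ofNat 0, Int.ofNat 2, Int.negSucc 1, Int.ofNat 0, Int.ofNat 0, Int.ofNat 0, Int.ofNat 2, Int.ofNat 0, Int.ofNat 0, Int.negSucc 1, Int.ofNat 0, Int.ofNat 0, Int.ofNat 0, Int.ofNat 0, Int.ofNat 2, Int.ofNat 2, Int.ofNat 0, Int.negSucc 1, Int.ofNat 0, Int.negSucc 1, Int.ofNat 0],
  [Int.ofNat 0, Int.ofNat 2, Int.negSucc 1, Int.ofNat 0, Int.ofNat 0, Int.ofNat 0, Int.ofNat 2, Int.ofNat 0, Int.ofNat 0, Int.negSucc 1, Int.ofNat 0, Int.ofNat 0, Int.ofNat 0, Int.ofNat 0, Int.ofNat 2, Int.ofNat 2, Int.ofNat 0, Int.negSucc 1, Int.ofNat 0, Int.negSucc 1, Int.ofNat 0, Int.ofNat 0, Int.ofNat 0, Int.ofNat 0],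
  [Int.ofNat 0, Int.negSucc 1, Int.ofNat 2, Int.ofNat 0, Int.ofNat 0, Int.ofNat 0, Int.ofNat 2, Int.ofNat 0, Int.ofNat 0, Int.negSucc 1, Int.ofNat 0, Int.ofNat 0, Int.ofNat 0, Int.ofNat 0, Int.ofNat 2, Int.ofNat 2, Int.ofNat 0, Int.negSucc 1, Int.ofNat 0, Int.negSucc 1, Int.ofNat 0, Int.ofNat 0, Int.ofNat 0, Int.ofNat 0],
  [Int.ofNat 0, Int.ofNat 2, Int.ofNat 0, Int.ofNat 0, Int.ofNat 0, Int.ofNat 0, Int.ofNat 2, Int.ofNat 0, Int.ofNat 0, Int.ofNat 0, Int.ofNat 0, Int.negSucc 1, Int.negSucc 1, Int.ofNat 0, Int.ofNat 0, Int.ofNat 2, Int.ofNat 0, Int.ofNat 2, Int.negSucc 1, Int.ofNat 0, Int.ofNat 0, Int.ofNat 0, Int.negSucc 1, Int.ofNat 0],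
  [Int.ofNat 1, Int.negSucc 0, Int.ofNat 1, Int.negSucc 0, Int.ofNat 1, Int.negSucc 0, Int.ofNat 1, Int.negSucc 0, Int.ofNat 3, Int.negSucc 0, Int.negSucc 0, Int.ofNat 1, Int.ofNat 1, Int.ofNat 1, Int.negSucc 0, Int.ofNat 1, Int.ofNat 1, Int.ofNat 1, Int.ofNat 1, Int.negSucc 0, Int.negSucc 0, Int.negSucc 0, Int.negSucc 0, Int.ofNat 1],
  [Int.ofNat 1, Int.negSucc 0, Int.negSucc 0, Int.negSucc 0, Int.ofNat 1, Int.ofNat 1, Int.negSucc 0, Int.negSucc 0, Int.ofNat 3, Int.ofNat 1, Int.ofNat 1, Int.ofNat 1, Int.ofNat 1, Int.ofNat 1, Int.negSucc 0, Int.negSucc 0, Int.ofNat 1, Int.ofNat 1, Int.negSucc 0, Int.negSucc 0, Int.negSucc 0, Int.negSucc 0, Int.ofNat 1, Int.ofNat 1],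
  [Int.ofNat 1, Int.negSucc 0, Int.negSucc 0, Int.ofNat 1, Int.ofNat 3, Int.negSucc 0, Int.ofNat 1, Int.ofNat 1, Int.negSucc 0, Int.ofNat 1, Int.ofNat 1, Int.negSucc 0, Int.negSucc 0, Int.ofNat 1, Int.ofNat 1, Int.ofNat 1, Int.ofNat 1, Int.negSucc 0, Int.negSucc 0, Int.negSucc 0, Int.ofNat 1, Int.negSucc 0, Int.negSucc 0, Int.ofNat 1],
  [Int.ofNat 1, Int.negSucc 0, Int.ofNat 1, Int.ofNat 1, Int.ofNat 3, Int.ofNat 1, Int.negSucc 0, Int.ofNat 1, Int.negSucc 0, Int.negSucc 0, Int.negSucc 0, Int.negSucc 0, Int.negSucc 0, Int.ofNat 1, Int.ofNat 1, Int.negSucc 0, Int.ofNat 1, Int.negSucc 0, Int.ofNat 1, Int.negSucc 0, Int.ofNat 1, Int.negSucc 0, Int.ofNat 1, Int.ofNat 1],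
  [Int.ofNat 0, Int.ofNat 2, Int.ofNat 0, Int.ofNat 0, Int.ofNat 0, Int.ofNat 0, Int.ofNat 0, Int.ofNat 2, Int.ofNat 0, Int.ofNat 0, Int.ofNat 0, Int.ofNat 0, Int.ofNat 0, Int.negSucc 1, Int.ofNat 0, Int.ofNat 0, Int.negSucc 1, Int.negSucc 1, Int.ofNat 2, Int.ofNat 0, Int.ofNat 2, Int.ofNat 0, Int.negSucc 1, Int.ofNat 0],
  [Int.ofNat 0, Int.ofNat 2, Int.ofNat 0, Int.ofNat 0, Int.ofNat 0, Int.ofNat 0, Int.ofNat 2, Int.ofNat 0, Int.negSucc 1, Int.ofNat 0, Int.ofNat 2, Int.ofNat 0, Int.ofNat 0, Int.ofNat 0, Int.negSucc 1, Int.ofNat 0, Int.negSucc 1, Int.ofNat 0, Int.ofNat 0, Int.negSucc 1, Int.ofNat 0, Int.ofNat 2, Int.ofNat 0, Int.ofNat 0],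
  [Int.ofNat 1, Int.negSucc 0, Int.ofNat 1, Int.ofNat 1, Int.ofNat 1, Int.ofNat 1, Int.ofNat 1, Int.negSucc 0, Int.negSucc 0, Int.negSucc 0, Int.ofNat 1, Int.ofNat 1, Int.ofNat 1, Int.ofNat 1, Int.negSucc 0, Int.negSucc 0, Int.negSucc 0, Int.ofNat 1, Int.ofNat 1, Int.negSucc 2, Int.negSucc 0, Int.ofNat 1, Int.ofNat 1, Int.ofNat 1],
  [Int.negSucc 0, Int.ofNat 1, Int.ofNat 1, Int.ofNat 1, Int.negSucc 0, Int.ofNat 1, Int.ofNat 1, Int.ofNat 1, Int.ofNat 1, Int.ofNat 1, Int.negSucc 0, Int.negSucc 0, Int.negSucc 0, Int.ofNat 1, Int.ofNat 1, Int.ofNat 1, Int.ofNat 1, Int.negSucc 0, Int.negSucc 0, Int.negSucc 0, Int.ofNat 1, Int.ofNat 1, Int.negSucc 2, Int.ofNat 1],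
  [Int.ofNat 2, Int.ofNat 0, Int.ofNat 0, Int.ofNat 0, Int.ofNat 0, Int.ofNat 0, Int.ofNat 0, Int.ofNat 0, Int.ofNat 2, Int.ofNat 0, Int.negSucc 1, Int.ofNat 0, Int.ofNat 0, Int.ofNat 2, Int.ofNat 0, Int.ofNat 0, Int.ofNat 2, Int.negSucc 1, Int.ofNat 0, Int.negSucc 1, Int.ofNat 0, Int.ofNat 0, Int.negSucc 1, Int.ofNat 0],
  [Int.ofNat 0, Int.ofNat 0, Int.ofNat 0, Int.ofNat 0, Int.ofNat 0, Int.ofNat 0, Int.ofNat 0, Int.ofNat 2, Int.ofNat 0, Int.negSucc 1, Int.ofNat 0, Int.ofNat 0, Int.ofNat 2, Int.ofNat 0, Int.ofNat 0, Int.ofNat 2, Int.negSucc 1, Int.ofNat 0, Int.negSucc 1, Int.ofNat 0, Int.ofNat 0, Int.negSucc 1, Int.ofNat 2, Int.ofNat 0],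
  [Int.ofNat 0, Int.ofNat 0, Int.ofNat 0, Int.ofNat 0, Int.ofNat 0, Int.ofNat 0, Int.ofNat 0, Int.negSucc 1, Int.ofNat 0, Int.ofNat 2, Int.ofNat 0, Int.ofNat 0, Int.ofNat 2, Int.ofNat 0, Int.ofNat 0, Int.ofNat 2, Int.negSucc 1, Int.ofNat 0, Int.ofNat 2, Int.ofNat 0, Int.ofNat 0, Int.ofNat 2, Int.ofNat 2, Int.ofNat 0],
  [Int.ofNat 0, Int.ofNat 0, Int.ofNat 0, Int.ofNat 0, Int.ofNat 0, Int.ofNat 0, Int.ofNat 0, Int.negSucc 1, Int.ofNat 0, Int.negSucc 1, Int.ofNat 0, Int.ofNat 0, Int.negSucc 1, Int.ofNat 0, Int.ofNat 0, Int.ofNat 2, Int.ofNat 2, Int.ofNat 0, Int.negSucc 1, Int.ofNat 0, Int.ofNat 0, Int.ofNat 2, Int.ofNat 2, Int.ofNat 0],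
  [Int.ofNat 0, Int.ofNat 2, Int.ofNat 0, Int.ofNat 2, Int.ofNat 0, Int.negSucc 1, Int.ofNat 0, Int.ofNat 0, Int.ofNat 0, Int.ofNat 0, Int.ofNat 2, Int.ofNat 0, Int.ofNat 2, Int.negSucc 1, Int.negSucc 1, Int.ofNat 0, Int.ofNat 0, Int.ofNat 0, Int.ofNat 0, Int.ofNat 0, Int.ofNat 0, Int.negSucc 1, Int.ofNat 0, Int.ofNat 0],
  [Int.ofNat 0, Int.ofNat 2, Int.ofNat 0, Int.ofNat 2, Int.ofNat 0, Int.negSucc 1, Int.ofNat 0, Int.ofNat 0, Int.ofNat 0, Int.ofNat 0, Int.negSucc 1, Int.ofNat 0, Int.ofNat 2, Int.negSucc 1, Int.negSucc 1, Int.ofNat 0, Int.ofNat 0, Int.ofNat 0, Int.ofNat 0, Int.ofNat 0, Int.ofNat 0, Int.ofNat 2, Int.ofNat 0, Int.ofNat 0],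
  [Int.ofNat 0, Int.ofNat 0, Int.ofNat 2, Int.ofNat 0, Int.ofNat 2, Int.ofNat 0, Int.negSucc 1, Int.ofNat 0, Int.ofNat 0, Int.ofNat 0, Int.ofNat 0, Int.negSucc 1, Int.ofNat 0, Int.ofNat 2, Int.negSucc 1, Int.negSucc 1, Int.ofNat 0, Int.ofNat 0, Int.ofNat 0, Int.ofNat 0, Int.ofNat 0, Int.ofNat 0, Int.ofNat 2, Int.ofNat 0],
  [Int.ofNat 1, Int.ofNat 1, Int.negSucc 0, Int.ofNat 1, Int.negSucc 0, Int.ofNat 1, Int.negSucc 0, Int.ofNat 1, Int.ofNat 1, Int.ofNat 1, Int.ofNat 1, Int.negSucc 0, Int.ofNat 1, Int.negSucc 0, Int.negSucc 0, Int.negSucc 0, Int.negSucc 2, Int.ofNat 1, Int.ofNat 1, Int.ofNat 1, Int.ofNat 1, Int.ofNat 1, Int.negSucc 0, Int.ofNat 1],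
  [Int.ofNat 1, Int.negSucc 0, Int.ofNat 1, Int.negSucc 0, Int.ofNat 1, Int.ofNat 1, Int.ofNat 1, Int.ofNat 1, Int.negSucc 0, Int.ofNat 1, Int.negSucc 0, Int.negSucc 0, Int.negSucc 0, Int.negSucc 2, Int.ofNat 1, Int.ofNat 1, Int.ofNat 1, Int.ofNat 1, Int.ofNat 1, Int.negSucc 0, Int.ofNat 1, Int.ofNat 1, Int.negSucc 0, Int.ofNat 1],
  [Int.ofNat 0, Int.ofNat 2, Int.ofNat 0, Int.negSucc 1, Int.ofNat 2, Int.ofNat 0, Int.ofNat 0, Int.ofNat 0, Int.ofNat 0, Int.ofNat 0, Int.negSucc 1, Int.ofNat 0, Int.ofNat 0, Int.negSucc 1, Int.ofNat 0, Int.ofNat 0, Int.ofNat 2, Int.ofNat 0, Int.ofNat 2, Int.negSucc 1, Int.ofNat 0, Int.ofNat 0, Int.ofNat 0, Int.ofNat 0],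
  [Int.ofNat 0, Int.ofNat 0, Int.ofNat 2, Int.negSucc 1, Int.ofNat 2, Int.ofNat 0, Int.ofNat 0, Int.negSucc 1, Int.ofNat 0, Int.negSucc 1, Int.ofNat 0, Int.ofNat 0, Int.ofNat 0, Int.ofNat 2, Int.ofNat 0, Int.ofNat 0, Int.ofNat 0, Int.ofNat 0, Int.ofNat 2, Int.ofNat 0, Int.ofNat 0, Int.ofNat 0, Int.negSucc 1, Int.ofNat 0],
  [Int.ofNat 1, Int.ofNat 1, Int.negSucc 0, Int.negSucc 0, Int.ofNat 1, Int.ofNat 1, Int.ofNat 1, Int.negSucc 0, Int.negSucc 0, Int.negSucc 0, Int.ofNat 1, Int.negSucc 0, Int.negSucc 0, Int.ofNat 1, Int.ofNat 1, Int.ofNat 1, Int.negSucc 0, Int.ofNat 1, Int.ofNat 1, Int.ofNat 1, Int.ofNat 1, Int.ofNat 1, Int.negSucc 2, Int.ofNat 1],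
  [Int.ofNat 1, Int.ofNat 1, Int.ofNat 1, Int.negSucc 0, Int.ofNat 1, Int.negSucc 0, Int.negSucc 0, Int.negSucc 0, Int.negSucc 0, Int.ofNat 1, Int.negSucc 0, Int.negSucc 0, Int.negSucc 0, Int.ofNat 1, Int.ofNat 1, Int.negSucc 0, Int.negSucc 0, Int.ofNat 1, Int.negSucc 0, Int.ofNat 1, Int.ofNat 1, Int.ofNat 1, Int.ofNat 3, Int.ofNat 1],
  [Int.ofNat 1, Int.negSucc 0, Int.ofNat 1, Int.ofNat 1, Int.negSucc 0, Int.ofNat 1, Int.ofNat 1, Int.negSucc 0, Int.ofNat 1, Int.negSucc 0, Int.ofNat 1, Int.negSucc 0, Int.negSucc 0, Int.negSucc 0, Int.negSucc 0, Int.negSucc 0, Int.ofNat 1, Int.ofNat 1, Int.negSucc 0, Int.ofNat 1, Int.ofNat 3, Int.ofNat 1, Int.negSucc 0, Int.ofNat 1],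
  [Int.ofNat 1, Int.negSucc 0, Int.negSucc 0, Int.ofNat 1, Int.negSucc 0, Int.negSucc 0, Int.negSucc 0, Int.negSucc 0, Int.ofNat 1, Int.ofNat 1, Int.negSucc 0, Int.negSucc 0, Int.negSucc 0, Int.negSucc 0, Int.negSucc 0, Int.ofNat 1, Int.ofNat 1, Int.ofNat 1, Int.ofNat 1, Int.ofNat 1, Int.ofNat 3, Int.ofNat 1, Int.ofNat 1, Int.ofNat 1],
  [Int.negSucc 0, Int.ofNat 1, Int.ofNat 1, Int.ofNat 1, Int.negSucc 0, Int.negSucc 0, Int.negSucc 0, Int.negSucc 0, Int.ofNat 1, Int.negSucc 0, Int.negSucc 2, Int.negSucc 0, Int.negSucc 0, Int.negSucc 0, Int.negSucc 0, Int.negSucc 0, Int.ofNat 1, Int.ofNat 1, Int.ofNat 1, Int.ofNat 1, Int.ofNat 1, Int.ofNat 1, Int.ofNat 1, Int.negSucc 0],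
  [Int.negSucc 0, Int.ofNat 1, Int.negSucc 0, Int.ofNat 1, Int.ofNat 1, Int.ofNat 1, Int.ofNat 1, Int.negSucc 0, Int.ofNat 1, Int.negSucc 0, Int.negSucc 0, Int.ofNat 1, Int.ofNat 1, Int.negSucc 0, Int.ofNat 1, Int.negSucc 0, Int.negSucc 0, Int.negSucc 0, Int.negSucc 0, Int.ofNat 1, Int.negSucc 2, Int.ofNat 1, Int.negSucc 0, Int.negSucc 0],
  [Int.ofNat 0, Int.negSucc 1, Int.ofNat 0, Int.ofNat 0, Int.ofNat 2, Int.ofNat 0, Int.ofNat 0, Int.negSucc 1, Int.ofNat 0, Int.ofNat 2, Int.ofNat 2, Int.ofNat 0, Int.ofNat 0, Int.ofNat 0, Int.ofNat 0, Int.ofNat 2, Int.ofNat 0, Int.negSucc 1, Int.negSucc 1, Int.ofNat 0, Int.ofNat 0, Int.ofNat 0, Int.ofNat 0, Int.ofNat 0],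
  [Int.ofNat 0, Int.ofNat 0, Int.ofNat 0, Int.ofNat 0, Int.negSucc 1, Int.ofNat 0, Int.ofNat 0, Int.ofNat 2, Int.ofNat 0, Int.ofNat 0, Int.negSucc 1, Int.ofNat 0, Int.ofNat 2, Int.ofNat 2, Int.ofNat 0, Int.ofNat 0, Int.ofNat 0, Int.ofNat 0, Int.ofNat 2, Int.ofNat 0, Int.negSucc 1, Int.negSucc 1, Int.ofNat 0, Int.ofNat 0],
  [Int.ofNat 0, Int.ofNat 0, Int.ofNat 0, Int.ofNat 0, Int.negSucc 1, Int.ofNat 0, Int.ofNat 0, Int.ofNat 2, Int.negSucc 1, Int.ofNat 2, Int.ofNat 0, Int.negSucc 1, Int.ofNat 0, Int.ofNat 2, Int.ofNat 0, Int.ofNat 2, Int.ofNat 0, Int.ofNat 0, Int.ofNat 0, Int.ofNat 0, Int.ofNat 0, Int.negSucc 1, Int.ofNat 0, Int.ofNat 0],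
  [Int.ofNat 0, Int.ofNat 0, Int.ofNat 0, Int.negSucc 1, Int.ofNat 0, Int.ofNat 0, Int.ofNat 2, Int.negSucc 1, Int.ofNat 2, Int.ofNat 0, Int.negSucc 1, Int.ofNat 0, Int.ofNat 2, Int.ofNat 0, Int.ofNat 2, Int.ofNat 0, Int.ofNat 0, Int.ofNat 0, Int.ofNat 0, Int.ofNat 0, Int.negSucc 1, Int.ofNat 0, Int.ofNat 0, Int.ofNat 0],
  [Int.ofNat 0, Int.ofNat 0, Int.ofNat 0, Int.negSucc 1, Int.ofNat 0, Int.ofNat 0, Int.ofNat 2, Int.ofNat 2, Int.ofNat 2, Int.ofNat 0, Int.ofNat 2, Int.ofNat 0, Int.ofNat 2, Int.ofNat 0, Int.ofNat 2, Int.ofNat 0, Int.ofNat 0, Int.ofNat 0, Int.ofNat 0, Int.ofNat 0, Int.negSucc 1, Int.ofNat 0, Int.ofNat 0, Int.ofNat 0],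
  [Int.ofNat 0, Int.ofNat 0, Int.ofNat 0, Int.ofNat 2, Int.ofNat 0, Int.ofNat 0, Int.negSucc 1, Int.ofNat 2, Int.negSucc 1, Int.ofNat 0, Int.ofNat 2, Int.ofNat 0, Int.negSucc 1, Int.ofNat 0, Int.ofNat 2, Int.ofNat 0, Int.ofNat 0, Int.ofNat 0, Int.ofNat 0, Int.ofNat 0, Int.negSucc 1, Int.ofNat 0, Int.ofNat 0, Int.ofNat 0],
  [Int.ofNat 0, Int.ofNat 0, Int.ofNat 0, Int.ofNat 0, Int.ofNat 0, Int.ofNat 0, Int.ofNat 0, Int.ofNat 0, Int.negSucc 1, Int.ofNat 0, Int.ofNat 0, Int.ofNat 0, Int.ofNat 0, Int.ofNat 2, Int.ofNat 0, Int.ofNat 2, Int.ofNat 2, Int.ofNat 0, Int.ofNat 2, Int.negSucc 1, Int.negSucc 1, Int.negSucc 1, Int.ofNat 0, Int.ofNat 0],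
  [Int.ofNat 0, Int.ofNat 0, Int.ofNat 0, Int.ofNat 0, Int.ofNat 0, Int.ofNat 0, Int.ofNat 0, Int.ofNat 0, Int.negSucc 1, Int.ofNat 0, Int.ofNat 0, Int.ofNat 0, Int.ofNat 0, Int.ofNat 2, Int.ofNat 0, Int.ofNat 2, Int.ofNat 2, Int.ofNat 0, Int.negSucc 1, Int.negSucc 1, Int.negSucc 1, Int.ofNat 2, Int.ofNat 0, Int.ofNat 0],
  [Int.ofNat 0, Int.ofNat 0, Int.ofNat 0, Int.ofNat 0, Int.ofNat 0, Int.ofNat 0, Int.ofNat 0, Int.ofNat 0, Int.ofNat 0, Int.negSucc 1, Int.ofNat 0, Int.ofNat 0, Int.ofNat 0, Int.ofNat 0, Int.ofNat 2, Int.ofNat 0, Int.ofNat 2, Int.ofNat 2, Int.ofNat 0, Int.negSucc 1, Int.negSucc 1, Int.negSucc 1, Int.ofNat 2, Int.ofNat 0],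
  [Int.ofNat 0, Int.ofNat 0, Int.ofNat 0, Int.negSucc 1, Int.negSucc 1, Int.negSucc 1, Int.ofNat 2, Int.ofNat 2, Int.ofNat 0, Int.ofNat 0, Int.ofNat 2, Int.ofNat 0, Int.ofNat 0, Int.negSucc 1, Int.ofNat 0, Int.ofNat 2, Int.ofNat 0, Int.ofNat 0, Int.ofNat 0, Int.ofNat 0, Int.ofNat 0, Int.ofNat 0, Int.ofNat 0, Int.ofNat 0],
  [Int.negSucc 1, Int.negSucc 1, Int.negSucc 1, Int.ofNat 2, Int.ofNat 2, Int.ofNat 0, Int.ofNat 0, Int.ofNat 2, Int.ofNat 0, Int.ofNat 0, Int.negSucc 1, Int.ofNat 0, Int.ofNat 2, Int.ofNat 0, Int.ofNat 0, Int.ofNat 0, Int.ofNat 0, Int.ofNat 0, Int.ofNat 0, Int.ofNat 0, Int.ofNat 0, Int.ofNat 0, Int.ofNat 0, Int.ofNat 0],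
  [Int.negSucc 0, Int.negSucc 0, Int.negSucc 0, Int.ofNat 1, Int.ofNat 1, Int.negSucc 0, Int.negSucc 0, Int.ofNat 1, Int.negSucc 0, Int.ofNat 1, Int.negSucc 0, Int.negSucc 0, Int.ofNat 1, Int.negSucc 0, Int.negSucc 0, Int.ofNat 1, Int.negSucc 0, Int.negSucc 0, Int.negSucc 0, Int.negSucc 0, Int.ofNat 1, Int.negSucc 0, Int.negSucc 0, Int.negSucc 2],
  [Int.negSucc 0, Int.negSucc 0, Int.ofNat 1, Int.ofNat 1, Int.negSucc 0, Int.ofNat 1, Int.negSucc 0, Int.negSucc 0, Int.ofNat 1, Int.negSucc 0, Int.ofNat 1, Int.negSucc 0, Int.ofNat 1, Int.negSucc 0, Int.negSucc 0, Int.ofNat 1, Int.negSucc 0, Int.negSucc 0, Int.negSucc 0, Int.negSucc 0, Int.negSucc 0, Int.negSucc 0, Int.negSucc 0, Int.negSucc 2],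
  [Int.negSucc 0, Int.negSucc 0, Int.negSucc 2, Int.ofNat 1, Int.ofNat 1, Int.ofNat 1, Int.ofNat 1, Int.ofNat 1, Int.ofNat 1, Int.negSucc 0, Int.ofNat 1, Int.negSucc 0, Int.ofNat 1, Int.ofNat 1, Int.negSucc 0, Int.ofNat 1, Int.ofNat 1, Int.negSucc 0, Int.negSucc 0, Int.ofNat 1, Int.negSucc 0, Int.ofNat 1, Int.ofNat 1, Int.ofNat 1],
  [Int.negSucc 0, Int.negSucc 0, Int.ofNat 3, Int.ofNat 1, Int.ofNat 1, Int.negSucc 0, Int.negSucc 0, Int.ofNat 1, Int.ofNat 1, Int.ofNat 1, Int.negSucc 0, Int.negSucc 0, Int.ofNat 1, Int.ofNat 1, Int.negSucc 0, Int.negSucc 0, Int.ofNat 1, Int.negSucc 0, Int.ofNat 1, Int.ofNat 1, Int.negSucc 0, Int.ofNat 1, Int.negSucc 0, Int.ofNat 1],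
  [Int.ofNat 1, Int.ofNat 1, Int.negSucc 0, Int.negSucc 0, Int.ofNat 1, Int.negSucc 0, Int.ofNat 1, Int.ofNat 1, Int.ofNat 1, Int.negSucc 0, Int.ofNat 1, Int.ofNat 1, Int.ofNat 1, Int.negSucc 0, Int.ofNat 1, Int.negSucc 0, Int.negSucc 0, Int.negSucc 0, Int.negSucc 0, Int.ofNat 1, Int.negSucc 0, Int.ofNat 3, Int.negSucc 0, Int.ofNat 1],
  [Int.ofNat 1, Int.ofNat 1, Int.ofNat 1, Int.negSucc 0, Int.ofNat 1, Int.ofNat 1, Int.negSucc 0, Int.ofNat 1, Int.ofNat 1, Int.ofNat 1, Int.negSucc 0, Int.ofNat 1, Int.ofNat 1, Int.negSucc 0, Int.ofNat 1, Int.ofNat 1, Int.negSucc 0, Int.negSucc 0, Int.ofNat 1, Int.ofNat 1, Int.negSucc 0, Int.ofNat 3, Int.ofNat 1, Int.ofNat 1],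
  [Int.ofNat 1, Int.ofNat 1, Int.ofNat 1, Int.negSucc 0, Int.ofNat 1, Int.ofNat 1, Int.negSucc 2, Int.negSucc 0, Int.negSucc 0, Int.ofNat 1, Int.negSucc 0, Int.negSucc 0, Int.negSucc 0, Int.negSucc 0, Int.ofNat 1, Int.ofNat 1, Int.negSucc 0, Int.negSucc 0, Int.negSucc 0, Int.negSucc 0, Int.negSucc 0, Int.ofNat 1, Int.ofNat 1, Int.ofNat 1],
  [Int.ofNat 1, Int.negSucc 0, Int.negSucc 2, Int.negSucc 0, Int.ofNat 1, Int.ofNat 1, Int.ofNat 1, Int.ofNat 1, Int.negSucc 0, Int.negSucc 0, Int.negSucc 0, Int.negSucc 0, Int.negSucc 0, Int.ofNat 1, Int.negSucc 0, Int.ofNat 1, Int.negSucc 0, Int.negSucc 0, Int.ofNat 1, Int.ofNat 1, Int.negSucc 0, Int.negSucc 0, Int.ofNat 1, Int.ofNat 1],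
  [Int.negSucc 1, Int.ofNat 0, Int.ofNat 2, Int.ofNat 0, Int.ofNat 0, Int.ofNat 2, Int.ofNat 0, Int.ofNat 0, Int.ofNat 0, Int.ofNat 0, Int.ofNat 0, Int.ofNat 0, Int.ofNat 0, Int.ofNat 0, Int.ofNat 0, Int.ofNat 2, Int.negSucc 1, Int.ofNat 0, Int.ofNat 2, Int.ofNat 0, Int.ofNat 0, Int.negSucc 1, Int.ofNat 0, Int.negSucc 1],
  [Int.ofNat 0, Int.negSucc 1, Int.ofNat 0, Int.negSucc 1, Int.ofNat 0, Int.ofNat 2, Int.ofNat 0, Int.ofNat 0, Int.ofNat 2, Int.ofNat 0, Int.ofNat 0, Int.ofNat 0, Int.ofNat 0, Int.ofNat 0, Int.ofNat 0, Int.ofNat 0, Int.ofNat 0, Int.ofNat 0, Int.ofNat 2, Int.negSucc 1, Int.ofNat 0, Int.ofNat 2, Int.ofNat 0, Int.negSucc 1],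
  [Int.negSucc 1, Int.ofNat 0, Int.negSucc 1, Int.negSucc 1, Int.ofNat 0, Int.ofNat 2, Int.ofNat 0, Int.ofNat 0, Int.ofNat 0, Int.ofNat 0, Int.ofNat 0, Int.negSucc 1, Int.negSucc 1, Int.ofNat 0, Int.ofNat 0, Int.ofNat 0, Int.ofNat 0, Int.ofNat 0, Int.ofNat 0, Int.negSucc 1, Int.ofNat 0, Int.ofNat 2, Int.ofNat 0, Int.ofNat 0],
  [Int.ofNat 0, Int.negSucc 1, Int.negSucc 1, Int.ofNat 0, Int.ofNat 2, Int.ofNat 0, Int.ofNat 0, Int.ofNat 0, Int.ofNat 0, Int.ofNat 0, Int.negSucc 1, Int.negSucc 1, Int.ofNat 0, Int.ofNat 0, Int.ofNat 0, Int.ofNat 0, Int.ofNat 0, Int.ofNat 0, Int.negSucc 1, Int.ofNat 0, Int.ofNat 2, Int.ofNat 0, Int.negSucc 1, Int.ofNat 0],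
  [Int.ofNat 0, Int.negSucc 1, Int.ofNat 2, Int.ofNat 0, Int.ofNat 2, Int.ofNat 0, Int.ofNat 0, Int.ofNat 0, Int.ofNat 0, Int.ofNat 0, Int.ofNat 2, Int.ofNat 2, Int.ofNat 0, Int.ofNat 0, Int.ofNat 0, Int.ofNat 0, Int.ofNat 0, Int.ofNat 0, Int.ofNat 2, Int.ofNat 0, Int.ofNat 2, Int.ofNat 0, Int.negSucc 1, Int.ofNat 0],
  [Int.ofNat 0, Int.ofNat 2, Int.negSucc 1, Int.ofNat 0, Int.negSucc 1, Int.ofNat 0, Int.ofNat 0, Int.ofNat 0, Int.ofNat 0, Int.ofNat 0, Int.ofNat 2, Int.ofNat 2, Int.ofNat 0, Int.ofNat 0, Int.ofNat 0, Int.ofNat 0, Int.ofNat 0, Int.ofNat 0, Int.negSucc 1, Int.ofNat 0, Int.ofNat 2, Int.ofNat 0, Int.negSucc 1, Int.ofNat 0],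
  [Int.ofNat 0, Int.negSucc 1, Int.ofNat 2, Int.ofNat 0, Int.ofNat 0, Int.ofNat 0, Int.ofNat 0, Int.ofNat 0, Int.ofNat 2, Int.ofNat 0, Int.ofNat 0, Int.negSucc 1, Int.ofNat 0, Int.ofNat 0, Int.negSucc 1, Int.ofNat 0, Int.ofNat 2, Int.negSucc 1, Int.ofNat 0, Int.ofNat 0, Int.ofNat 0, Int.ofNat 0, Int.ofNat 2, Int.ofNat 0],
  [Int.ofNat 0, Int.negSucc 1, Int.negSucc 1, Int.ofNat 0, Int.ofNat 0, Int.ofNat 0, Int.ofNat 0, Int.ofNat 0, Int.ofNat 2, Int.ofNat 0, Int.ofNat 0, Int.ofNat 2, Int.ofNat 0, Int.ofNat 0, Int.negSucc 1, Int.ofNat 0, Int.ofNat 2, Int.negSucc 1, Int.ofNat 0, Int.ofNat 0, Int.ofNat 0, Int.ofNat 0, Int.ofNat 2, Int.ofNat 0],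
  [Int.ofNat 2, Int.ofNat 0, Int.negSucc 1, Int.negSucc 1, Int.ofNat 0, Int.ofNat 0, Int.ofNat 0, Int.ofNat 0, Int.ofNat 0, Int.ofNat 2, Int.ofNat 0, Int.ofNat 0, Int.ofNat 2, Int.ofNat 0, Int.ofNat 0, Int.negSucc 1, Int.ofNat 0, Int.ofNat 2, Int.negSucc 1, Int.ofNat 0, Int.ofNat 0, Int.ofNat 0, Int.ofNat 0, Int.ofNat 0],
  [Int.negSucc 1, Int.ofNat 0, Int.ofNat 2, Int.negSucc 1, Int.ofNat 0, Int.ofNat 0, Int.ofNat 0, Int.ofNat 0, Int.ofNat 0, Int.ofNat 2, Int.ofNat 0, Int.ofNat 0, Int.ofNat 2, Int.ofNat 0, Int.ofNat 0, Int.negSucc 1, Int.ofNat 0, Int.ofNat 2, Int.negSucc 1, Int.ofNat 0, Int.ofNat 0, Int.ofNat 0, Int.ofNat 0, Int.ofNat 0],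
  [Int.negSucc 1, Int.ofNat 0, Int.ofNat 0, Int.ofNat 0, Int.ofNat 0, Int.ofNat 0, Int.ofNat 2, Int.ofNat 0, Int.ofNat 0, Int.ofNat 2, Int.ofNat 0, Int.ofNat 0, Int.negSucc 1, Int.ofNat 0, Int.ofNat 2, Int.negSucc 1, Int.ofNat 0, Int.ofNat 0, Int.ofNat 0, Int.ofNat 0, Int.negSucc 1, Int.ofNat 0, Int.ofNat 2, Int.ofNat 0],
  [Int.ofNat 1, Int.negSucc 0, Int.negSucc 0, Int.negSucc 0, Int.negSucc 0, Int.negSucc 0, Int.ofNat 1, Int.negSucc 0, Int.ofNat 1, Int.ofNat 3, Int.ofNat 1, Int.ofNat 1, Int.negSucc 0, Int.negSucc 0, Int.ofNat 1, Int.negSucc 0, Int.negSucc 0, Int.negSucc 0, Int.ofNat 1, Int.negSucc 0, Int.negSucc 0, Int.negSucc 0, Int.ofNat 1, Int.negSucc 0],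
  [Int.ofNat 1, Int.ofNat 1, Int.negSucc 0, Int.negSucc 0, Int.ofNat 1, Int.negSucc 0, Int.negSucc 0, Int.ofNat 1, Int.negSucc 0, Int.negSucc 0, Int.negSucc 0, Int.negSucc 0, Int.ofNat 3, Int.negSucc 0, Int.ofNat 1, Int.negSucc 0, Int.ofNat 1, Int.ofNat 1, Int.negSucc 0, Int.ofNat 1, Int.negSucc 0, Int.negSucc 0, Int.negSucc 0, Int.negSucc 0],
  [Int.negSucc 0, Int.negSucc 0, Int.ofNat 1, Int.negSucc 0, Int.ofNat 1, Int.negSucc 0, Int.negSucc 0, Int.ofNat 1, Int.negSucc 0, Int.ofNat 1, Int.ofNat 1, Int.negSucc 0, Int.ofNat 3, Int.negSucc 0, Int.ofNat 1, Int.ofNat 1, Int.ofNat 1, Int.ofNat 1, Int.negSucc 0, Int.ofNat 1, Int.ofNat 1, Int.negSucc 0, Int.negSucc 0, Int.ofNat 1],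
  [Int.negSucc 0, Int.negSucc 0, Int.negSucc 0, Int.negSucc 0, Int.ofNat 1, Int.ofNat 1, Int.ofNat 1, Int.ofNat 1, Int.negSucc 0, Int.negSucc 0, Int.negSucc 0, Int.negSucc 0, Int.ofNat 3, Int.negSucc 0, Int.ofNat 1, Int.negSucc 0, Int.ofNat 1, Int.ofNat 1, Int.ofNat 1, Int.ofNat 1, Int.ofNat 1, Int.negSucc 0, Int.ofNat 1, Int.ofNat 1],
  [Int.negSucc 0, Int.ofNat 1, Int.ofNat 1, Int.negSucc 0, Int.negSucc 0, Int.negSucc 0, Int.negSucc 0, Int.ofNat 1, Int.ofNat 1, Int.ofNat 1, Int.ofNat 1, Int.ofNat 1, Int.negSucc 0, Int.negSucc 0, Int.ofNat 3, Int.negSucc 0, Int.ofNat 1, Int.ofNat 1, Int.ofNat 1, Int.negSucc 0, Int.ofNat 1, Int.negSucc 0, Int.negSucc 0, Int.ofNat 1],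
  [Int.negSucc 0, Int.ofNat 1, Int.negSucc 0, Int.negSucc 0, Int.negSucc 0, Int.ofNat 1, Int.ofNat 1, Int.ofNat 1, Int.ofNat 1, Int.negSucc 0, Int.negSucc 0, Int.ofNat 1, Int.negSucc 0, Int.negSucc 0, Int.ofNat 3, Int.ofNat 1, Int.ofNat 1, Int.ofNat 1, Int.negSucc 0, Int.negSucc 0, Int.ofNat 1, Int.negSucc 0, Int.ofNat 1, Int.ofNat 1],
  [Int.ofNat 1, Int.negSucc 0, Int.ofNat 1, Int.negSucc 2, Int.negSucc 0, Int.negSucc 0, Int.ofNat 1, Int.ofNat 1, Int.ofNat 1, Int.negSucc 0, Int.negSucc 0, Int.ofNat 1, Int.negSucc 0, Int.negSucc 0, Int.ofNat 1, Int.ofNat 1, Int.ofNat 1, Int.negSucc 0, Int.negSucc 0, Int.negSucc 0, Int.ofNat 1, Int.negSucc 0, Int.ofNat 1, Int.negSucc 0],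
  [Int.ofNat 1, Int.negSucc 0, Int.ofNat 1, Int.negSucc 2, Int.ofNat 1, Int.negSucc 0, Int.negSucc 0, Int.negSucc 0, Int.ofNat 1, Int.negSucc 0, Int.ofNat 1, Int.negSucc 0, Int.ofNat 1, Int.negSucc 0, Int.negSucc 0, Int.ofNat 1, Int.negSucc 0, Int.ofNat 1, Int.negSucc 0, Int.ofNat 1, Int.negSucc 0, Int.ofNat 1, Int.ofNat 1, Int.negSucc 0],
  [Int.negSucc 0, Int.ofNat 1, Int.negSucc 0, Int.negSucc 0, Int.ofNat 1, Int.ofNat 1, Int.negSucc 0, Int.negSucc 0, Int.ofNat 1, Int.negSucc 0, Int.ofNat 1, Int.negSucc 0, Int.ofNat 1, Int.negSucc 0, Int.ofNat 1, Int.ofNat 1, Int.negSucc 0, Int.ofNat 3, Int.negSucc 0, Int.ofNat 1, Int.negSucc 0, Int.ofNat 1, Int.ofNat 1, Int.ofNat 1],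
  [Int.negSucc 0, Int.ofNat 1, Int.ofNat 1, Int.negSucc 0, Int.ofNat 1, Int.negSucc 0, Int.negSucc 0, Int.ofNat 1, Int.ofNat 1, Int.negSucc 0, Int.negSucc 0, Int.ofNat 1, Int.negSucc 0, Int.ofNat 1, Int.negSucc 0, Int.ofNat 1, Int.negSucc 0, Int.ofNat 1, Int.ofNat 1, Int.negSucc 0, Int.ofNat 3, Int.negSucc 0, Int.ofNat 1, Int.ofNat 1],
  [Int.ofNat 2, Int.ofNat 0, Int.ofNat 0, Int.ofNat 0, Int.ofNat 0, Int.ofNat 0, Int.ofNat 0, Int.ofNat 2, Int.ofNat 0, Int.negSucc 1, Int.negSucc 1, Int.ofNat 0, Int.negSucc 1, Int.ofNat 0, Int.ofNat 0, Int.ofNat 0, Int.negSucc 1, Int.ofNat 2, Int.ofNat 0, Int.ofNat 0, Int.ofNat 2, Int.ofNat 0, Int.ofNat 0, Int.ofNat 0],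
  [Int.ofNat 0, Int.ofNat 0, Int.ofNat 0, Int.ofNat 0, Int.ofNat 0, Int.ofNat 0, Int.ofNat 2, Int.ofNat 0, Int.negSucc 1, Int.negSucc 1, Int.ofNat 0, Int.negSucc 1, Int.ofNat 0, Int.ofNat 0, Int.ofNat 0, Int.negSucc 1, Int.ofNat 2, Int.ofNat 0, Int.ofNat 0, Int.ofNat 2, Int.ofNat 0, Int.ofNat 0, Int.ofNat 2, Int.ofNat 0],
  [Int.ofNat 0, Int.ofNat 0, Int.ofNat 0, Int.ofNat 0, Int.ofNat 0, Int.ofNat 0, Int.ofNat 2, Int.ofNat 0, Int.negSucc 1, Int.ofNat 2, Int.ofNat 0, Int.ofNat 2, Int.ofNat 0, Int.ofNat 0, Int.ofNat 0, Int.negSucc 1, Int.ofNat 2, Int.ofNat 0, Int.ofNat 0, Int.ofNat 2, Int.ofNat 0, Int.ofNat 0, Int.ofNat 2, Int.ofNat 0],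
  [Int.ofNat 0, Int.ofNat 0, Int.ofNat 0, Int.ofNat 0, Int.ofNat 0, Int.ofNat 0, Int.negSucc 1, Int.ofNat 0, Int.ofNat 2, Int.negSucc 1, Int.ofNat 0, Int.ofNat 2, Int.ofNat 0, Int.ofNat 0, Int.ofNat 0, Int.negSucc 1, Int.negSucc 1, Int.ofNat 0, Int.ofNat 0, Int.ofNat 2, Int.ofNat 0, Int.ofNat 0, Int.ofNat 2, Int.ofNat 0],
  [Int.ofNat 0, Int.ofNat 2, Int.ofNat 2, Int.negSucc 1, Int.ofNat 0, Int.negSucc 1, Int.ofNat 2, Int.ofNat 0, Int.ofNat 0, Int.ofNat 0, Int.negSucc 1, Int.ofNat 0, Int.ofNat 0, Int.ofNat 0, Int.ofNat 0, Int.ofNat 0, Int.ofNat 0, Int.ofNat 0, Int.ofNat 0, Int.negSucc 1, Int.ofNat 2, Int.ofNat 0, Int.ofNat 0, Int.ofNat 0],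
  [Int.ofNat 0, Int.ofNat 2, Int.negSucc 1, Int.negSucc 1, Int.ofNat 0, Int.negSucc 1, Int.ofNat 2, Int.ofNat 0, Int.ofNat 0, Int.ofNat 0, Int.ofNat 2, Int.ofNat 0, Int.ofNat 0, Int.ofNat 0, Int.ofNat 0, Int.ofNat 0, Int.ofNat 0, Int.ofNat 0, Int.ofNat 0, Int.negSucc 1, Int.ofNat 2, Int.ofNat 0, Int.ofNat 0, Int.ofNat 0],
  [Int.ofNat 0, Int.ofNat 0, Int.ofNat 2, Int.negSucc 1, Int.negSucc 1, Int.ofNat 0, Int.negSucc 1, Int.ofNat 2, Int.ofNat 0, Int.ofNat 0, Int.ofNat 0, Int.ofNat 2, Int.ofNat 0, Int.ofNat 0, Int.ofNat 0, Int.ofNat 0, Int.ofNat 0, Int.ofNat 0, Int.ofNat 0, Int.ofNat 0, Int.negSucc 1, Int.ofNat 2, Int.ofNat 0, Int.ofNat 0],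
  [Int.ofNat 1, Int.ofNat 1, Int.negSucc 0, Int.negSucc 0, Int.negSucc 0, Int.ofNat 1, Int.negSucc 2, Int.ofNat 1, Int.negSucc 0, Int.ofNat 1, Int.ofNat 1, Int.ofNat 1, Int.negSucc 0, Int.ofNat 1, Int.ofNat 1, Int.ofNat 1, Int.ofNat 1, Int.ofNat 1, Int.negSucc 0, Int.negSucc 0, Int.negSucc 0, Int.ofNat 1, Int.ofNat 1, Int.ofNat 1],
  [Int.negSucc 0, Int.negSucc 0, Int.ofNat 1, Int.negSucc 2, Int.ofNat 1, Int.negSucc 0, Int.ofNat 1, Int.ofNat 1, Int.ofNat 1, Int.negSucc 0, Int.ofNat 1, Int.ofNat 1, Int.ofNat 1, Int.ofNat 1, Int.ofNat 1, Int.negSucc 0, Int.negSucc 0, Int.negSucc 0, Int.ofNat 1, Int.ofNat 1, Int.ofNat 1, Int.ofNat 1, Int.negSucc 0, Int.ofNat 1],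
  [Int.ofNat 1, Int.ofNat 1, Int.negSucc 0, Int.negSucc 0, Int.ofNat 1, Int.ofNat 1, Int.negSucc 0, Int.negSucc 0, Int.negSucc 0, Int.negSucc 0, Int.ofNat 1, Int.negSucc 0, Int.negSucc 0, Int.ofNat 1, Int.ofNat 3, Int.negSucc 0, Int.negSucc 0, Int.ofNat 1, Int.negSucc 0, Int.negSucc 0, Int.ofNat 1, Int.negSucc 0, Int.negSucc 0, Int.negSucc 0],
  [Int.ofNat 1, Int.negSucc 0, Int.ofNat 1, Int.negSucc 0, Int.negSucc 0, Int.negSucc 0, Int.negSucc 0, Int.ofNat 1, Int.negSucc 0, Int.ofNat 1, Int.ofNat 1, Int.ofNat 1, Int.negSucc 0, Int.negSucc 0, Int.negSucc 0, Int.negSucc 0, Int.negSucc 0, Int.ofNat 3, Int.ofNat 1, Int.negSucc 0, Int.negSucc 0, Int.ofNat 1, Int.negSucc 0, Int.negSucc 0],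
  [Int.negSucc 0, Int.ofNat 1, Int.negSucc 0, Int.negSucc 0, Int.ofNat 1, Int.negSucc 0, Int.negSucc 0, Int.ofNat 1, Int.negSucc 0, Int.ofNat 1, Int.ofNat 1, Int.ofNat 1, Int.negSucc 0, Int.ofNat 1, Int.negSucc 0, Int.negSucc 0, Int.ofNat 1, Int.ofNat 3, Int.ofNat 1, Int.negSucc 0, Int.negSucc 0, Int.ofNat 1, Int.ofNat 1, Int.ofNat 1],
  [Int.negSucc 0, Int.ofNat 1, Int.ofNat 1, Int.negSucc 0, Int.ofNat 1, Int.ofNat 1, Int.ofNat 1, Int.ofNat 1, Int.negSucc 0, Int.negSucc 0, Int.negSucc 0, Int.ofNat 1, Int.negSucc 0, Int.ofNat 1, Int.negSucc 0, Int.ofNat 1, Int.ofNat 1, Int.ofNat 3, Int.negSucc 0, Int.negSucc 0, Int.negSucc 0, Int.ofNat 1, Int.negSucc 0, Int.ofNat 1],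
  [Int.ofNat 1, Int.ofNat 1, Int.negSucc 0, Int.negSucc 0, Int.negSucc 0, Int.ofNat 1, Int.negSucc 0, Int.ofNat 1, Int.negSucc 0, Int.ofNat 1, Int.ofNat 1, Int.negSucc 0, Int.negSucc 0, Int.negSucc 0, Int.negSucc 0, Int.ofNat 1, Int.ofNat 3, Int.negSucc 0, Int.ofNat 1, Int.ofNat 1, Int.negSucc 0, Int.ofNat 1, Int.ofNat 1, Int.ofNat 1],
  [Int.ofNat 1, Int.ofNat 1, Int.ofNat 1, Int.negSucc 0, Int.negSucc 0, Int.negSucc 0, Int.ofNat 1, Int.ofNat 1, Int.negSucc 0, Int.negSucc 0, Int.negSucc 0, Int.negSucc 0, Int.negSucc 0, Int.negSucc 0, Int.negSucc 0, Int.negSucc 0, Int.ofNat 3, Int.negSucc 0, Int.negSucc 0, Int.ofNat 1, Int.negSucc 0, Int.ofNat 1, Int.negSucc 0, Int.ofNat 1],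
  [Int.ofNat 1, Int.ofNat 1, Int.ofNat 1, Int.ofNat 1, Int.negSucc 0, Int.ofNat 1, Int.negSucc 0, Int.negSucc 0, Int.ofNat 1, Int.ofNat 1, Int.ofNat 1, Int.ofNat 1, Int.ofNat 1, Int.negSucc 0, Int.ofNat 1, Int.ofNat 1, Int.ofNat 3, Int.ofNat 1, Int.ofNat 1, Int.negSucc 0, Int.ofNat 1, Int.negSucc 0, Int.negSucc 0, Int.ofNat 1],
  [Int.ofNat 1, Int.ofNat 1, Int.negSucc 0, Int.ofNat 1, Int.ofNat 1, Int.negSucc 0, Int.ofNat 1, Int.ofNat 1, Int.ofNat 3, Int.ofNat 1, Int.negSucc 0, Int.negSucc 0, Int.ofNat 1, Int.ofNat 1, Int.ofNat 1, Int.ofNat 1, Int.negSucc 0, Int.ofNat 1, Int.negSucc 0, Int.negSucc 0, Int.ofNat 1, Int.ofNat 1, Int.ofNat 1, Int.ofNat 1],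
  [Int.ofNat 0, Int.ofNat 0, Int.ofNat 2, Int.ofNat 0, Int.ofNat 0, Int.negSucc 1, Int.ofNat 0, Int.ofNat 0, Int.ofNat 2, Int.ofNat 0, Int.negSucc 1, Int.negSucc 1, Int.ofNat 0, Int.ofNat 0, Int.ofNat 0, Int.ofNat 0, Int.negSucc 1, Int.ofNat 0, Int.negSucc 1, Int.negSucc 1, Int.ofNat 0, Int.ofNat 0, Int.ofNat 0, Int.ofNat 0],
  [Int.ofNat 0, Int.ofNat 0, Int.ofNat 0, Int.ofNat 0, Int.ofNat 0, Int.ofNat 2, Int.ofNat 0, Int.ofNat 0, Int.negSucc 1, Int.ofNat 0, Int.ofNat 0, Int.ofNat 2, Int.ofNat 0, Int.negSucc 1, Int.negSucc 1, Int.ofNat 0, Int.ofNat 0, Int.ofNat 0, Int.ofNat 0, Int.negSucc 1, Int.ofNat 0, Int.negSucc 1, Int.negSucc 1, Int.ofNat 0],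
  [Int.ofNat 0, Int.ofNat 0, Int.ofNat 0, Int.ofNat 0, Int.ofNat 2, Int.ofNat 2, Int.ofNat 2, Int.ofNat 2, Int.negSucc 1, Int.ofNat 0, Int.ofNat 0, Int.ofNat 2, Int.ofNat 0, Int.ofNat 0, Int.negSucc 1, Int.ofNat 0, Int.ofNat 2, Int.ofNat 0, Int.ofNat 0, Int.ofNat 0, Int.ofNat 0, Int.ofNat 0, Int.ofNat 0, Int.ofNat 0],
  [Int.ofNat 0, Int.ofNat 0, Int.ofNat 0, Int.ofNat 2, Int.ofNat 2, Int.ofNat 2, Int.ofNat 2, Int.negSucc 1, Int.ofNat 0, Int.ofNat 0, Int.ofNat 2, Int.ofNat 0, Int.ofNat 0, Int.negSucc 1, Int.ofNat 0, Int.ofNat 2, Int.ofNat 0, Int.ofNat 0, Int.ofNat 0, Int.ofNat 0, Int.ofNat 0, Int.ofNat 0, Int.ofNat 0, Int.ofNat 0],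
  [Int.ofNat 0, Int.ofNat 0, Int.ofNat 0, Int.ofNat 2, Int.ofNat 2, Int.ofNat 2, Int.ofNat 2, Int.ofNat 2, Int.ofNat 0, Int.ofNat 0, Int.negSucc 1, Int.ofNat 0, Int.ofNat 0, Int.negSucc 1, Int.ofNat 0, Int.ofNat 2, Int.ofNat 0, Int.ofNat 0, Int.ofNat 0, Int.ofNat 0, Int.ofNat 0, Int.ofNat 0, Int.ofNat 0, Int.ofNat 0],
  [Int.ofNat 0, Int.ofNat 0, Int.ofNat 0, Int.negSucc 1, Int.negSucc 1, Int.ofNat 2, Int.negSucc 1, Int.ofNat 2, Int.ofNat 0, Int.ofNat 0, Int.negSucc 1, Int.ofNat 0, Int.ofNat 0, Int.ofNat 2, Int.ofNat 0, Int.ofNat 2, Int.ofNat 0, Int.ofNat 0, Int.ofNat 0, Int.ofNat 0, Int.ofNat 0, Int.ofNat 0, Int.ofNat 0, Int.ofNat 0],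
  [Int.ofNat 0, Int.ofNat 0, Int.ofNat 0, Int.ofNat 2, Int.ofNat 0, Int.ofNat 0, Int.ofNat 0, Int.ofNat 2, Int.ofNat 0, Int.ofNat 2, Int.ofNat 0, Int.ofNat 0, Int.ofNat 0, Int.ofNat 2, Int.ofNat 0, Int.negSucc 1, Int.negSucc 1, Int.negSucc 1, Int.ofNat 0, Int.negSucc 1, Int.ofNat 0, Int.ofNat 0, Int.ofNat 0, Int.ofNat 0],
  [Int.ofNat 0, Int.ofNat 0, Int.ofNat 0, Int.ofNat 2, Int.ofNat 0, Int.ofNat 0, Int.ofNat 0, Int.negSucc 1, Int.ofNat 0, Int.negSucc 1, Int.ofNat 0, Int.ofNat 0, Int.ofNat 0, Int.ofNat 2, Int.ofNat 0, Int.negSucc 1, Int.negSucc 1, Int.negSucc 1, Int.ofNat 0, Int.negSucc 1, Int.ofNat 0, Int.ofNat 0, Int.ofNat 0, Int.ofNat 0],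
  [Int.ofNat 0, Int.ofNat 0, Int.ofNat 0, Int.ofNat 0, Int.ofNat 2, Int.ofNat 0, Int.ofNat 0, Int.ofNat 0, Int.negSucc 1, Int.ofNat 0, Int.negSucc 1, Int.ofNat 0, Int.ofNat 0, Int.ofNat 0, Int.ofNat 2, Int.ofNat 0, Int.negSucc 1, Int.negSucc 1, Int.negSucc 1, Int.ofNat 0, Int.negSucc 1, Int.ofNat 0, Int.ofNat 0, Int.ofNat 0],
  [Int.ofNat 0, Int.ofNat 0, Int.ofNat 0, Int.ofNat 0, Int.ofNat 2, Int.ofNat 0, Int.ofNat 0, Int.ofNat 0, Int.ofNat 0, Int.ofNat 2, Int.ofNat 0, Int.ofNat 2, Int.ofNat 2, Int.ofNat 0, Int.ofNat 2, Int.ofNat 2, Int.negSucc 1, Int.negSucc 1, Int.ofNat 0, Int.ofNat 0, Int.ofNat 0, Int.ofNat 0, Int.ofNat 0, Int.ofNat 0],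
  [Int.ofNat 0, Int.ofNat 2, Int.ofNat 0, Int.ofNat 0, Int.ofNat 0, Int.ofNat 0, Int.ofNat 2, Int.ofNat 0, Int.ofNat 2, Int.ofNat 2, Int.ofNat 0, Int.ofNat 2, Int.ofNat 2, Int.negSucc 1, Int.negSucc 1, Int.ofNat 0, Int.ofNat 0, Int.ofNat 0, Int.ofNat 0, Int.ofNat 0, Int.ofNat 0, Int.ofNat 0, Int.ofNat 0, Int.ofNat 0],
  [Int.ofNat 1, Int.negSucc 0, Int.ofNat 1, Int.ofNat 1, Int.ofNat 1, Int.ofNat 1, Int.ofNat 1, Int.negSucc 0, Int.negSucc 0, Int.ofNat 1, Int.negSucc 0, Int.negSucc 0, Int.negSucc 0, Int.negSucc 0, Int.negSucc 0, Int.negSucc 0, Int.ofNat 1, Int.ofNat 1, Int.negSucc 2, Int.negSucc 0, Int.negSucc 0, Int.negSucc 0, Int.ofNat 1, Int.ofNat 1],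
  [Int.ofNat 1, Int.ofNat 1, Int.ofNat 1, Int.ofNat 1, Int.negSucc 2, Int.negSucc 0, Int.ofNat 1, Int.negSucc 0, Int.negSucc 0, Int.negSucc 0, Int.negSucc 0, Int.ofNat 1, Int.ofNat 1, Int.ofNat 1, Int.ofNat 1, Int.negSucc 0, Int.negSucc 0, Int.negSucc 0, Int.negSucc 0, Int.negSucc 0, Int.negSucc 0, Int.ofNat 1, Int.negSucc 0, Int.ofNat 1],
  [Int.ofNat 1, Int.ofNat 1, Int.ofNat 1, Int.ofNat 1, Int.negSucc 0, Int.negSucc 0, Int.ofNat 1, Int.negSucc 0, Int.negSucc 0, Int.ofNat 1, Int.ofNat 1, Int.ofNat 1, Int.ofNat 1, Int.ofNat 3, Int.ofNat 1, Int.ofNat 1, Int.ofNat 1, Int.negSucc 0, Int.negSucc 0, Int.negSucc 0, Int.ofNat 1, Int.ofNat 1, Int.ofNat 1, Int.ofNat 1],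
  [Int.ofNat 1, Int.ofNat 1, Int.negSucc 0, Int.ofNat 1, Int.negSucc 0, Int.ofNat 1, Int.negSucc 0, Int.negSucc 0, Int.negSucc 0, Int.negSucc 0, Int.negSucc 0, Int.ofNat 1, Int.ofNat 1, Int.ofNat 3, Int.ofNat 1, Int.negSucc 0, Int.ofNat 1, Int.negSucc 0, Int.ofNat 1, Int.negSucc 0, Int.ofNat 1, Int.ofNat 1, Int.negSucc 0, Int.ofNat 1],
  [Int.ofNat 3, Int.negSucc 0, Int.ofNat 1, Int.ofNat 1, Int.negSucc 0, Int.ofNat 1, Int.negSucc 0, Int.ofNat 1, Int.negSucc 0, Int.ofNat 1, Int.negSucc 0, Int.ofNat 1, Int.ofNat 1, Int.negSucc 0, Int.ofNat 1, Int.ofNat 1, Int.negSucc 0, Int.ofNat 1, Int.negSucc 0, Int.ofNat 1, Int.negSucc 0, Int.negSucc 0, Int.negSucc 0, Int.ofNat 1],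
  [Int.ofNat 3, Int.negSucc 0, Int.negSucc 0, Int.ofNat 1, Int.negSucc 0, Int.negSucc 0, Int.ofNat 1, Int.ofNat 1, Int.negSucc 0, Int.negSucc 0, Int.ofNat 1, Int.ofNat 1, Int.ofNat 1, Int.negSucc 0, Int.ofNat 1, Int.negSucc 0, Int.negSucc 0, Int.ofNat 1, Int.ofNat 1, Int.ofNat 1, Int.negSucc 0, Int.negSucc 0, Int.ofNat 1, Int.ofNat 1],
  [Int.negSucc 1, Int.ofNat 2, Int.ofNat 2, Int.ofNat 0, Int.ofNat 0, Int.negSucc 1, Int.ofNat 0, Int.ofNat 0, Int.negSucc 1, Int.ofNat 0, Int.ofNat 2, Int.ofNat 0, Int.ofNat 0, Int.ofNat 0, Int.ofNat 0, Int.ofNat 0, Int.ofNat 0, Int.ofNat 0, Int.ofNat 0, Int.ofNat 0, Int.ofNat 0, Int.negSucc 1, Int.ofNat 2, Int.ofNat 0],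
  [Int.negSucc 1, Int.ofNat 0, Int.ofNat 0, Int.ofNat 0, Int.ofNat 2, Int.negSucc 1, Int.ofNat 2, Int.negSucc 1, Int.ofNat 0, Int.ofNat 0, Int.ofNat 0, Int.ofNat 0, Int.negSucc 1, Int.ofNat 0, Int.ofNat 0, Int.ofNat 0, Int.ofNat 0, Int.ofNat 0, Int.ofNat 0, Int.ofNat 2, Int.ofNat 2, Int.ofNat 0, Int.ofNat 0, Int.ofNat 0],
  [Int.ofNat 1, Int.negSucc 0, Int.negSucc 0, Int.ofNat 1, Int.ofNat 1, Int.negSucc 0, Int.ofNat 1, Int.negSucc 2, Int.ofNat 1, Int.negSucc 0, Int.negSucc 0, Int.ofNat 1, Int.negSucc 0, Int.negSucc 0, Int.ofNat 1, Int.negSucc 0, Int.negSucc 0, Int.ofNat 1, Int.ofNat 1, Int.ofNat 1, Int.ofNat 1, Int.negSucc 0, Int.negSucc 0, Int.negSucc 0],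
  [Int.ofNat 1, Int.negSucc 0, Int.negSucc 0, Int.ofNat 1, Int.negSucc 0, Int.negSucc 0, Int.ofNat 1, Int.ofNat 1, Int.negSucc 0, Int.ofNat 1, Int.negSucc 2, Int.ofNat 1, Int.negSucc 0, Int.negSucc 0, Int.ofNat 1, Int.negSucc 0, Int.negSucc 0, Int.ofNat 1, Int.negSucc 0, Int.negSucc 0, Int.ofNat 1, Int.ofNat 1, Int.ofNat 1, Int.negSucc 0],
  [Int.negSucc 1, Int.ofNat 0, Int.ofNat 0, Int.ofNat 0, Int.ofNat 0, Int.negSucc 1, Int.ofNat 0, Int.ofNat 0, Int.ofNat 0, Int.ofNat 2, Int.negSucc 1, Int.ofNat 2, Int.ofNat 0, Int.ofNat 0, Int.ofNat 0, Int.ofNat 0, Int.ofNat 0, Int.ofNat 0, Int.ofNat 0, Int.negSucc 1, Int.ofNat 2, Int.ofNat 0, Int.ofNat 2, Int.ofNat 0],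
  [Int.ofNat 0, Int.ofNat 0, Int.ofNat 0, Int.ofNat 0, Int.negSucc 1, Int.ofNat 0, Int.ofNat 0, Int.ofNat 0, Int.ofNat 2, Int.negSucc 1, Int.ofNat 2, Int.ofNat 0, Int.ofNat 0, Int.ofNat 0, Int.ofNat 0, Int.ofNat 0, Int.ofNat 0, Int.ofNat 0, Int.negSucc 1, Int.ofNat 2, Int.ofNat 0, Int.ofNat 2, Int.negSucc 1, Int.ofNat 0],
  [Int.ofNat 0, Int.ofNat 0, Int.ofNat 0, Int.ofNat 0, Int.negSucc 1, Int.ofNat 0, Int.ofNat 0, Int.ofNat 0, Int.ofNat 2, Int.ofNat 2, Int.negSucc 1, Int.ofNat 0, Int.ofNat 0, Int.ofNat 0, Int.ofNat 0, Int.ofNat 0, Int.ofNat 0, Int.ofNat 0, Int.ofNat 2, Int.ofNat 2, Int.ofNat 0, Int.negSucc 1, Int.negSucc 1, Int.ofNat 0],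
  [Int.ofNat 0, Int.ofNat 0, Int.ofNat 0, Int.ofNat 0, Int.ofNat 2, Int.ofNat 0, Int.ofNat 0, Int.ofNat 0, Int.negSucc 1, Int.negSucc 1, Int.negSucc 1, Int.ofNat 0, Int.ofNat 0, Int.ofNat 0, Int.ofNat 0, Int.ofNat 0, Int.ofNat 0, Int.ofNat 0, Int.negSucc 1, Int.ofNat 2, Int.ofNat 0, Int.negSucc 1, Int.negSucc 1, Int.ofNat 0],
  [Int.ofNat 0, Int.negSucc 1, Int.ofNat 0, Int.ofNat 0, Int.ofNat 0, Int.negSucc 1, Int.ofNat 2, Int.ofNat 0, Int.ofNat 0, Int.ofNat 0, Int.ofNat 0, Int.ofNat 0, Int.negSucc 1, Int.ofNat 0, Int.negSucc 1, Int.ofNat 0, Int.negSucc 1, Int.ofNat 2, Int.ofNat 0, Int.ofNat 0, Int.negSucc 1, Int.ofNat 0, Int.ofNat 0, Int.ofNat 0],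
  [Int.ofNat 0, Int.negSucc 1, Int.ofNat 0, Int.ofNat 0, Int.ofNat 0, Int.negSucc 1, Int.ofNat 2, Int.ofNat 0, Int.ofNat 0, Int.ofNat 0, Int.ofNat 0, Int.ofNat 0, Int.negSucc 1, Int.ofNat 0, Int.negSucc 1, Int.ofNat 0, Int.negSucc 1, Int.ofNat 2, Int.ofNat 0, Int.ofNat 0, Int.negSucc 1, Int.ofNat 0, Int.ofNat 0, Int.ofNat 0],
  [Int.ofNat 0, Int.ofNat 0, Int.negSucc 1, Int.ofNat 0, Int.ofNat 0, Int.ofNat 0, Int.negSucc 1, Int.ofNat 2, Int.ofNat 0, Int.ofNat 0, Int.ofNat 0, Int.ofNat 0, Int.ofNat 0, Int.negSucc 1, Int.ofNat 0, Int.negSucc 1, Int.ofNat 0, Int.negSucc 1, Int.ofNat 2, Int.ofNat 0, Int.ofNat 0, Int.negSucc 1, Int.ofNat 0, Int.ofNat 0],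
  [Int.negSucc 0, Int.negSucc 0, Int.ofNat 1, Int.ofNat 1, Int.ofNat 1, Int.ofNat 1, Int.negSucc 0, Int.ofNat 3, Int.negSucc 0, Int.ofNat 1, Int.ofNat 1, Int.negSucc 0, Int.negSucc 0, Int.negSucc 0, Int.ofNat 1, Int.negSucc 0, Int.ofNat 1, Int.negSucc 0, Int.ofNat 1, Int.ofNat 1, Int.ofNat 1, Int.negSucc 0, Int.ofNat 1, Int.negSucc 0],
  [Int.ofNat 1, Int.ofNat 1, Int.ofNat 1, Int.negSucc 0, Int.ofNat 3, Int.negSucc 0, Int.ofNat 1, Int.ofNat 1, Int.negSucc 0, Int.negSucc 0, Int.negSucc 0, Int.ofNat 1, Int.negSucc 0, Int.ofNat 1, Int.negSucc 0, Int.ofNat 1, Int.ofNat 1, Int.ofNat 1, Int.negSucc 0, Int.ofNat 1, Int.negSucc 0, Int.negSucc 0, Int.ofNat 1, Int.negSucc 0],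
  [Int.ofNat 0, Int.ofNat 0, Int.ofNat 0, Int.ofNat 0, Int.ofNat 0, Int.ofNat 0, Int.ofNat 0, Int.ofNat 0, Int.ofNat 0, Int.ofNat 0, Int.ofNat 0, Int.ofNat 2, Int.ofNat 0, Int.negSucc 1, Int.ofNat 0, Int.ofNat 2, Int.negSucc 1, Int.ofNat 2, Int.ofNat 0, Int.ofNat 0, Int.ofNat 0, Int.negSucc 1, Int.negSucc 1, Int.ofNat 2],
  [Int.ofNat 0, Int.ofNat 0, Int.ofNat 0, Int.ofNat 0, Int.ofNat 0, Int.ofNat 0, Int.ofNat 0, Int.ofNat 0, Int.ofNat 0, Int.negSucc 1, Int.ofNat 0, Int.ofNat 2, Int.ofNat 0, Int.negSucc 1, Int.negSucc 1, Int.ofNat 2, Int.ofNat 0, Int.ofNat 0, Int.ofNat 0, Int.ofNat 2, Int.negSucc 1, Int.ofNat 0, Int.ofNat 0, Int.ofNat 2],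
  [Int.ofNat 1, Int.ofNat 1, Int.ofNat 1, Int.ofNat 1, Int.ofNat 1, Int.ofNat 1, Int.negSucc 0, Int.negSucc 0, Int.negSucc 0, Int.negSucc 0, Int.ofNat 1, Int.ofNat 1, Int.negSucc 0, Int.negSucc 0, Int.negSucc 0, Int.ofNat 3, Int.ofNat 1, Int.ofNat 1, Int.negSucc 0, Int.ofNat 1, Int.negSucc 0, Int.negSucc 0, Int.ofNat 1, Int.negSucc 0],
  [Int.ofNat 1, Int.ofNat 1, Int.negSucc 0, Int.ofNat 1, Int.ofNat 1, Int.negSucc 0, Int.ofNat 1, Int.negSucc 0, Int.negSucc 0, Int.ofNat 1, Int.negSucc 0, Int.ofNat 1, Int.negSucc 0, Int.negSucc 0, Int.negSucc 0, Int.negSucc 2, Int.ofNat 1, Int.ofNat 1, Int.ofNat 1, Int.ofNat 1, Int.negSucc 0, Int.negSucc 0, Int.negSucc 0, Int.negSucc 0],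
  [Int.negSucc 0, Int.negSucc 0, Int.negSucc 0, Int.ofNat 1, Int.negSucc 0, Int.ofNat 1, Int.ofNat 1, Int.ofNat 1, Int.ofNat 1, Int.negSucc 0, Int.ofNat 1, Int.ofNat 1, Int.ofNat 1, Int.negSucc 0, Int.negSucc 0, Int.ofNat 1, Int.ofNat 1, Int.negSucc 0, Int.ofNat 1, Int.negSucc 0, Int.negSucc 0, Int.negSucc 0, Int.negSucc 2, Int.negSucc 0],
  [Int.negSucc 0, Int.negSucc 0, Int.ofNat 1, Int.ofNat 1, Int.negSucc 0, Int.negSucc 0, Int.negSucc 0, Int.ofNat 1, Int.ofNat 1, Int.ofNat 1, Int.negSucc 0, Int.ofNat 1, Int.ofNat 1, Int.negSucc 0, Int.negSucc 0, Int.negSucc 0, Int.ofNat 1, Int.negSucc 0, Int.negSucc 0, Int.negSucc 0, Int.negSucc 0, Int.negSucc 0, Int.ofNat 3, Int.negSucc 0],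
  [Int.ofNat 0, Int.ofNat 0, Int.negSucc 1, Int.ofNat 2, Int.negSucc 1, Int.ofNat 0, Int.ofNat 0, Int.ofNat 2, Int.ofNat 0, Int.ofNat 2, Int.ofNat 0, Int.ofNat 0, Int.ofNat 0, Int.negSucc 1, Int.ofNat 0, Int.ofNat 0, Int.ofNat 0, Int.ofNat 0, Int.negSucc 1, Int.ofNat 0, Int.ofNat 0, Int.ofNat 0, Int.ofNat 2, Int.ofNat 0],
  [Int.ofNat 0, Int.negSucc 1, Int.ofNat 0, Int.ofNat 2, Int.negSucc 1, Int.ofNat 0, Int.ofNat 0, Int.ofNat 0, Int.ofNat 0, Int.ofNat 0, Int.ofNat 2, Int.ofNat 0, Int.ofNat 0, Int.ofNat 2, Int.ofNat 0, Int.ofNat 0, Int.negSucc 1, Int.ofNat 0, Int.negSucc 1, Int.ofNat 2, Int.ofNat 0, Int.ofNat 0, Int.ofNat 0, Int.ofNat 0],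
  [Int.negSucc 0, Int.ofNat 1, Int.negSucc 0, Int.ofNat 1, Int.negSucc 0, Int.negSucc 0, Int.negSucc 0, Int.negSucc 0, Int.ofNat 1, Int.negSucc 0, Int.ofNat 1, Int.ofNat 1, Int.ofNat 1, Int.ofNat 3, Int.negSucc 0, Int.negSucc 0, Int.negSucc 0, Int.negSucc 0, Int.negSucc 0, Int.ofNat 1, Int.negSucc 0, Int.negSucc 0, Int.ofNat 1, Int.negSucc 0],
  [Int.negSucc 0, Int.negSucc 0, Int.ofNat 1, Int.negSucc 0, Int.ofNat 1, Int.negSucc 0, Int.ofNat 1, Int.negSucc 0, Int.negSucc 0, Int.negSucc 0, Int.negSucc 0, Int.ofNat 1, Int.negSucc 0, Int.ofNat 1, Int.ofNat 1, Int.ofNat 1, Int.ofNat 3, Int.negSucc 0, Int.negSucc 0, Int.negSucc 0, Int.negSucc 0, Int.negSucc 0, Int.ofNat 1, Int.negSucc 0],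
  [Int.ofNat 0, Int.ofNat 0, Int.negSucc 1, Int.ofNat 0, Int.negSucc 1, Int.ofNat 0, Int.ofNat 2, Int.ofNat 0, Int.ofNat 0, Int.ofNat 0, Int.ofNat 0, Int.ofNat 2, Int.ofNat 0, Int.negSucc 1, Int.ofNat 2, Int.ofNat 2, Int.ofNat 0, Int.ofNat 0, Int.ofNat 0, Int.ofNat 0, Int.ofNat 0, Int.ofNat 0, Int.negSucc 1, Int.ofNat 0],
  [Int.ofNat 0, Int.negSucc 1, Int.ofNat 0, Int.negSucc 1, Int.ofNat 0, Int.ofNat 2, Int.ofNat 0, Int.ofNat 0, Int.ofNat 0, Int.ofNat 0, Int.ofNat 2, Int.ofNat 0, Int.negSucc 1, Int.ofNat 2, Int.ofNat 2, Int.ofNat 0, Int.ofNat 0, Int.ofNat 0, Int.ofNat 0, Int.ofNat 0, Int.ofNat 0, Int.negSucc 1, Int.ofNat 0, Int.ofNat 0],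
  [Int.ofNat 0, Int.negSucc 1, Int.ofNat 0, Int.negSucc 1, Int.ofNat 0, Int.ofNat 2, Int.ofNat 0, Int.ofNat 0, Int.ofNat 0, Int.ofNat 0, Int.negSucc 1, Int.ofNat 0, Int.negSucc 1, Int.ofNat 2, Int.ofNat 2, Int.ofNat 0, Int.ofNat 0, Int.ofNat 0, Int.ofNat 0, Int.ofNat 0, Int.ofNat 0, Int.ofNat 2, Int.ofNat 0, Int.ofNat 0],
  [Int.ofNat 0, Int.ofNat 2, Int.ofNat 0, Int.ofNat 2, Int.ofNat 0, Int.ofNat 2, Int.ofNat 0, Int.ofNat 0, Int.ofNat 0, Int.ofNat 0, Int.negSucc 1, Int.ofNat 0, Int.ofNat 2, Int.negSucc 1, Int.ofNat 2, Int.ofNat 0, Int.ofNat 0, Int.ofNat 0, Int.ofNat 0, Int.ofNat 0, Int.ofNat 0, Int.ofNat 2, Int.ofNat 0, Int.ofNat 0],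
  [Int.ofNat 0, Int.ofNat 0, Int.ofNat 0, Int.ofNat 0, Int.ofNat 0, Int.ofNat 0, Int.ofNat 0, Int.negSucc 1, Int.ofNat 0, Int.ofNat 2, Int.ofNat 0, Int.ofNat 0, Int.ofNat 2, Int.ofNat 0, Int.ofNat 0, Int.ofNat 2, Int.negSucc 1, Int.ofNat 0, Int.ofNat 2, Int.ofNat 0, Int.ofNat 0, Int.ofNat 2, Int.ofNat 2, Int.ofNat 0],
  [Int.ofNat 0, Int.ofNat 0, Int.ofNat 0, Int.ofNat 0, Int.ofNat 0, Int.ofNat 0, Int.ofNat 0, Int.ofNat 2, Int.ofNat 0, Int.negSucc 1, Int.ofNat 0, Int.ofNat 0, Int.ofNat 2, Int.ofNat 0, Int.ofNat 0, Int.ofNat 2, Int.negSucc 1, Int.ofNat 0, Int.negSucc 1, Int.ofNat 0, Int.ofNat 0, Int.negSucc 1, Int.ofNat 2, Int.ofNat 0],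
  [Int.ofNat 2, Int.ofNat 0, Int.ofNat 0, Int.ofNat 0, Int.ofNat 0, Int.ofNat 0, Int.ofNat 0, Int.ofNat 0, Int.ofNat 2, Int.ofNat 0, Int.negSucc 1, Int.ofNat 0, Int.ofNat 0, Int.ofNat 2, Int.ofNat 0, Int.ofNat 0, Int.ofNat 2, Int.negSucc 1, Int.ofNat 0, Int.negSucc 1, Int.ofNat 0, Int.ofNat 0, Int.negSucc 1, Int.ofNat 0],
  [Int.negSucc 0, Int.ofNat 1, Int.ofNat 1, Int.ofNat 1, Int.negSucc 0, Int.ofNat 1, Int.ofNat 1, Int.ofNat 1, Int.ofNat 1, Int.ofNat 1, Int.negSucc 0, Int.negSucc 0, Int.negSucc 0, Int.ofNat 1, Int.ofNat 1, Int.ofNat 1, Int.ofNat 1, Int.negSucc 0, Int.negSucc 0, Int.negSucc 0, Int.ofNat 1, Int.ofNat 1, Int.negSucc 2, Int.ofNat 1],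
  [Int.ofNat 1, Int.negSucc 0, Int.ofNat 1, Int.ofNat 1, Int.ofNat 1, Int.ofNat 1, Int.ofNat 1, Int.negSucc 0, Int.negSucc 0, Int.negSucc 0, Int.ofNat 1, Int.ofNat 1, Int.ofNat 1, Int.ofNat 1, Int.negSucc 0, Int.negSucc 0, Int.negSucc 0, Int.ofNat 1, Int.ofNat 1, Int.negSucc 2, Int.negSucc 0, Int.ofNat 1, Int.ofNat 1, Int.ofNat 1],
  [Int.ofNat 0, Int.ofNat 2, Int.ofNat 0, Int.ofNat 0, Int.ofNat 0, Int.ofNat 0, Int.ofNat 2, Int.ofNat 0, Int.negSucc 1, Int.ofNat 0, Int.ofNat 2, Int.ofNat 0, Int.ofNat 0, Int.ofNat 0, Int.negSucc 1, Int.ofNat 0, Int.negSucc 1, Int.ofNat 0, Int.ofNat 0, Int.negSucc 1, Int.ofNat 0, Int.ofNat 2, Int.ofNat 0, Int.ofNat 0],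
  [Int.ofNat 0, Int.ofNat 2, Int.ofNat 0, Int.ofNat 0, Int.ofNat 0, Int.ofNat 0, Int.ofNat 0, Int.ofNat 2, Int.ofNat 0, Int.ofNat 0, Int.ofNat 0, Int.ofNat 0, Int.ofNat 0, Int.negSucc 1, Int.ofNat 0, Int.ofNat 0, Int.negSucc 1, Int.negSucc 1, Int.ofNat 2, Int.ofNat 0, Int.ofNat 2, Int.ofNat 0, Int.negSucc 1, Int.ofNat 0],
  [Int.ofNat 1, Int.negSucc 0, Int.ofNat 1, Int.ofNat 1, Int.ofNat 3, Int.ofNat 1, Int.negSucc 0, Int.ofNat 1, Int.negSucc 0, Int.negSucc 0, Int.negSucc 0, Int.negSucc 0, Int.negSucc 0, Int.ofNat 1, Int.ofNat 1, Int.negSucc 0, Int.ofNat 1, Int.negSucc 0, Int.ofNat 1, Int.negSucc 0, Int.ofNat 1, Int.negSucc 0, Int.ofNat 1, Int.ofNat 1],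
  [Int.ofNat 1, Int.negSucc 0, Int.negSucc 0, Int.ofNat 1, Int.ofNat 3, Int.negSucc 0, Int.ofNat 1, Int.ofNat 1, Int.negSucc 0, Int.ofNat 1, Int.ofNat 1, Int.negSucc 0, Int.negSucc 0, Int.ofNat 1, Int.ofNat 1, Int.ofNat 1, Int.ofNat 1, Int.negSucc 0, Int.negSucc 0, Int.negSucc 0, Int.ofNat 1, Int.negSucc 0, Int.negSucc 0, Int.ofNat 1],
  [Int.ofNat 1, Int.ofNat 1, Int.ofNat 1, Int.ofNat 1, Int.negSucc 0, Int.negSucc 0, Int.ofNat 1, Int.ofNat 1, Int.negSucc 0, Int.negSucc 0, Int.ofNat 3, Int.negSucc 0, Int.ofNat 1, Int.ofNat 1, Int.negSucc 0, Int.negSucc 0, Int.negSucc 0, Int.ofNat 1, Int.ofNat 1, Int.negSucc 0, Int.negSucc 0, Int.negSucc 0, Int.ofNat 1, Int.ofNat 1],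
  [Int.ofNat 1, Int.ofNat 1, Int.negSucc 0, Int.ofNat 1, Int.negSucc 0, Int.ofNat 1, Int.negSucc 0, Int.ofNat 1, Int.negSucc 0, Int.ofNat 1, Int.negSucc 2, Int.negSucc 0, Int.ofNat 1, Int.ofNat 1, Int.negSucc 0, Int.ofNat 1, Int.negSucc 0, Int.ofNat 1, Int.negSucc 0, Int.negSucc 0, Int.negSucc 0, Int.negSucc 0, Int.negSucc 0, Int.ofNat 1],
  [Int.ofNat 0, Int.ofNat 0, Int.ofNat 2, Int.ofNat 0, Int.ofNat 0, Int.ofNat 0, Int.ofNat 0, Int.ofNat 2, Int.ofNat 0, Int.ofNat 2, Int.negSucc 1, Int.ofNat 0, Int.ofNat 2, Int.ofNat 2, Int.negSucc 1, Int.ofNat 2, Int.ofNat 0, Int.ofNat 0, Int.ofNat 0, Int.ofNat 0, Int.ofNat 0, Int.ofNat 0, Int.ofNat 0, Int.ofNat 0],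
  [Int.ofNat 0, Int.ofNat 0, Int.ofNat 0, Int.ofNat 0, Int.ofNat 2, Int.ofNat 0, Int.ofNat 0, Int.ofNat 0, Int.ofNat 0, Int.ofNat 2, Int.ofNat 2, Int.ofNat 0, Int.ofNat 0, Int.ofNat 2, Int.ofNat 0, Int.ofNat 2, Int.ofNat 2, Int.ofNat 0, Int.ofNat 0, Int.ofNat 0, Int.negSucc 1, Int.ofNat 0, Int.negSucc 1, Int.ofNat 0],
  [Int.ofNat 0, Int.ofNat 0, Int.ofNat 0, Int.ofNat 0, Int.ofNat 0, Int.ofNat 0, Int.ofNat 0, Int.ofNat 0, Int.ofNat 0, Int.ofNat 0, Int.ofNat 0, Int.ofNat 0, Int.ofNat 0, Int.ofNat 0, Int.ofNat 0, Int.ofNat 0, Int.ofNat 0, Int.ofNat 0, Int.ofNat 0, Int.ofNat 0, Int.negSucc 3, Int.ofNat 0, Int.negSucc 3, Int.ofNat 0],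
  [Int.negSucc 3, Int.ofNat 0, Int.negSucc 3, Int.ofNat 0, Int.ofNat 0, Int.ofNat 0, Int.ofNat 0, Int.ofNat 0, Int.ofNat 0, Int.ofNat 0, Int.ofNat 0, Int.ofNat 0, Int.ofNat 0, Int.ofNat 0, Int.ofNat 0, Int.ofNat 0, Int.ofNat 0, Int.ofNat 0, Int.ofNat 0, Int.ofNat 0, Int.ofNat 0, Int.ofNat 0, Int.ofNat 0, Int.ofNat 0],
  [Int.ofNat 0, Int.negSucc 3, Int.ofNat 0, Int.ofNat 0, Int.ofNat 0, Int.ofNat 0, Int.ofNat 0, Int.ofNat 0, Int.ofNat 0, Int.ofNat 0, Int.ofNat 0, Int.ofNat 0, Int.ofNat 0, Int.ofNat 0, Int.ofNat 0, Int.ofNat 0, Int.ofNat 0, Int.ofNat 0, Int.ofNat 0, Int.ofNat 0, Int.ofNat 0, Int.ofNat 0, Int.ofNat 0, Int.negSucc 3],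
  [Int.negSucc 3, Int.ofNat 0, Int.ofNat 0, Int.ofNat 0, Int.ofNat 0, Int.ofNat 0, Int.ofNat 0, Int.ofNat 0, Int.ofNat 0, Int.ofNat 0, Int.ofNat 0, Int.ofNat 0, Int.ofNat 0, Int.ofNat 0, Int.ofNat 0, Int.ofNat 0, Int.ofNat 0, Int.ofNat 0, Int.ofNat 0, Int.ofNat 0, Int.ofNat 0, Int.ofNat 0, Int.ofNat 0, Int.negSucc 3],
  [Int.ofNat 4, Int.ofNat 0, Int.ofNat 0, Int.ofNat 0, Int.ofNat 0, Int.ofNat 0, Int.ofNat 0, Int.ofNat 0, Int.ofNat 0, Int.ofNat 0, Int.ofNat 0, Int.ofNat 0, Int.ofNat 0, Int.ofNat 0, Int.ofNat 0, Int.ofNat 0, Int.ofNat 0, Int.ofNat 0, Int.ofNat 0, Int.ofNat 0, Int.ofNat 0, Int.ofNat 0, Int.ofNat 0, Int.negSucc 3],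
  [Int.negSucc 3, Int.ofNat 0, Int.ofNat 0, Int.ofNat 0, Int.ofNat 0, Int.ofNat 0, Int.ofNat 0, Int.ofNat 0, Int.ofNat 0, Int.ofNat 0, Int.ofNat 0, Int.ofNat 0, Int.ofNat 0, Int.ofNat 0, Int.ofNat 0, Int.ofNat 0, Int.ofNat 0, Int.ofNat 0, Int.ofNat 0, Int.ofNat 0, Int.ofNat 0, Int.ofNat 0, Int.ofNat 0, Int.negSucc 3],
  [Int.negSucc 3, Int.ofNat 0, Int.ofNat 0, Int.ofNat 0, Int.ofNat 0, Int.ofNat 0, Int.ofNat 0, Int.ofNat 0, Int.ofNat 0, Int.ofNat 0, Int.ofNat 0, Int.ofNat 0, Int.ofNat 0, Int.ofNat 0, Int.ofNat 0, Int.ofNat 0, Int.ofNat 0, Int.ofNat 0, Int.ofNat 0, Int.ofNat 0, Int.ofNat 0, Int.ofNat 0, Int.ofNat 0, Int.negSucc 3],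
  [Int.ofNat 4, Int.ofNat 0, Int.ofNat 0, Int.ofNat 0, Int.ofNat 0, Int.ofNat 0, Int.ofNat 0, Int.ofNat 0, Int.ofNat 0, Int.ofNat 0, Int.ofNat 0, Int.ofNat 0, Int.ofNat 0, Int.ofNat 0, Int.ofNat 0, Int.ofNat 0, Int.ofNat 0, Int.ofNat 0, Int.ofNat 0, Int.ofNat 0, Int.ofNat 0, Int.ofNat 0, Int.ofNat 0, Int.negSucc 3],
  [Int.ofNat 0, Int.ofNat 4, Int.ofNat 0, Int.ofNat 0, Int.ofNat 0, Int.ofNat 0, Int.ofNat 0, Int.ofNat 0, Int.ofNat 0, Int.ofNat 0, Int.ofNat 0, Int.ofNat 0, Int.ofNat 0, Int.ofNat 0, Int.ofNat 0, Int.ofNat 0, Int.ofNat 0, Int.ofNat 0, Int.ofNat 0, Int.ofNat 0, Int.ofNat 0, Int.ofNat 0, Int.ofNat 0, Int.negSucc 3],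
  [Int.ofNat 0, Int.negSucc 3, Int.ofNat 0, Int.ofNat 0, Int.ofNat 0, Int.ofNat 0, Int.ofNat 0, Int.ofNat 0, Int.ofNat 0, Int.ofNat 0, Int.ofNat 0, Int.ofNat 0, Int.ofNat 0, Int.ofNat 0, Int.ofNat 0, Int.ofNat 0, Int.ofNat 0, Int.ofNat 0, Int.ofNat 0, Int.ofNat 0, Int.ofNat 0, Int.ofNat 0, Int.ofNat 0, Int.ofNat 4],
  [Int.ofNat 0, Int.ofNat 0, Int.ofNat 0, Int.ofNat 0, Int.ofNat 0, Int.ofNat 0, Int.ofNat 0, Int.ofNat 0, Int.ofNat 0, Int.ofNat 0, Int.ofNat 0, Int.ofNat 0, Int.ofNat 0, Int.ofNat 0, Int.ofNat 0, Int.ofNat 0, Int.ofNat 0, Int.ofNat 0, Int.ofNat 0, Int.ofNat 0, Int.ofNat 0, Int.negSucc 3, Int.ofNat 0, Int.ofNat 4],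
  [Int.ofNat 2, Int.ofNat 2, Int.ofNat 2, Int.ofNat 0, Int.ofNat 0, Int.ofNat 0, Int.ofNat 2, Int.ofNat 2, Int.ofNat 0, Int.ofNat 0, Int.ofNat 0, Int.ofNat 0, Int.ofNat 0, Int.ofNat 0, Int.ofNat 0, Int.ofNat 0, Int.ofNat 0, Int.ofNat 0, Int.ofNat 0, Int.ofNat 2, Int.ofNat 0, Int.negSucc 1, Int.ofNat 0, Int.negSucc 1],
  [Int.ofNat 2, Int.ofNat 2, Int.ofNat 0, Int.ofNat 0, Int.ofNat 0, Int.ofNat 2, Int.ofNat 2, Int.ofNat 0, Int.ofNat 0, Int.ofNat 0, Int.ofNat 0, Int.ofNat 0, Int.ofNat 0, Int.ofNat 0, Int.ofNat 0, Int.ofNat 0, Int.ofNat 0, Int.ofNat 0, Int.ofNat 2, Int.ofNat 0, Int.negSucc 1, Int.ofNat 0, Int.ofNat 2, Int.negSucc 1],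
  [Int.negSucc 0, Int.negSucc 0, Int.ofNat 1, Int.negSucc 0, Int.negSucc 0, Int.ofNat 1, Int.ofNat 1, Int.negSucc 0, Int.negSucc 0, Int.ofNat 1, Int.ofNat 1, Int.negSucc 0, Int.negSucc 0, Int.negSucc 0, Int.negSucc 0, Int.ofNat 1, Int.negSucc 0, Int.negSucc 0, Int.ofNat 1, Int.negSucc 0, Int.negSucc 0, Int.negSucc 0, Int.ofNat 1, Int.ofNat 3],
  [Int.negSucc 0, Int.negSucc 0, Int.negSucc 0, Int.negSucc 0, Int.negSucc 0, Int.negSucc 0, Int.negSucc 0, Int.negSucc 0, Int.negSucc 0, Int.negSucc 0, Int.negSucc 0, Int.negSucc 0, Int.negSucc 0, Int.negSucc 0, Int.negSucc 0, Int.negSucc 0, Int.negSucc 0, Int.negSucc 0, Int.negSucc 0, Int.negSucc 0, Int.negSucc 0, Int.negSucc 0, Int.negSucc 0, Int.ofNat 3],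
  [Int.negSucc 0, Int.negSucc 0, Int.negSucc 0, Int.negSucc 0, Int.negSucc 0, Int.negSucc 0, Int.negSucc 0, Int.negSucc 0, Int.negSucc 0, Int.negSucc 0, Int.negSucc 0, Int.negSucc 0, Int.negSucc 0, Int.negSucc 0, Int.negSucc 0, Int.negSucc 0, Int.negSucc 0, Int.negSucc 0, Int.negSucc 0, Int.negSucc 0, Int.negSucc 0, Int.negSucc 0, Int.negSucc 0, Int.ofNat 3],
  [Int.negSucc 0, Int.negSucc 0, Int.ofNat 1, Int.negSucc 0, Int.negSucc 0, Int.ofNat 1, Int.ofNat 1, Int.negSucc 0, Int.negSucc 0, Int.ofNat 1, Int.ofNat 1, Int.negSucc 0, Int.negSucc 0, Int.negSucc 0, Int.negSucc 0, Int.ofNat 1, Int.negSucc 0, Int.negSucc 0, Int.ofNat 1, Int.negSucc 0, Int.negSucc 0, Int.negSucc 0, Int.ofNat 1, Int.ofNat 3],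
  [Int.ofNat 2, Int.ofNat 2, Int.ofNat 0, Int.ofNat 0, Int.ofNat 0, Int.ofNat 2, Int.ofNat 2, Int.ofNat 0, Int.ofNat 0, Int.ofNat 0, Int.ofNat 0, Int.ofNat 0, Int.ofNat 0, Int.ofNat 0, Int.ofNat 0, Int.ofNat 0, Int.ofNat 0, Int.ofNat 0, Int.ofNat 2, Int.ofNat 0, Int.negSucc 1, Int.ofNat 0, Int.ofNat 2, Int.negSucc 1],
  [Int.ofNat 2, Int.ofNat 2, Int.ofNat 2, Int.ofNat 0, Int.ofNat 0, Int.ofNat 0, Int.ofNat 2, Int.ofNat 2, Int.ofNat 0, Int.ofNat 0, Int.ofNat 0, Int.ofNat 0, Int.ofNat 0, Int.ofNat 0, Int.ofNat 0, Int.ofNat 0, Int.ofNat 0, Int.ofNat 0, Int.ofNat 0, Int.ofNat 2, Int.ofNat 0, Int.negSucc 1, Int.ofNat 0, Int.negSucc 1],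
  [Int.ofNat 0, Int.ofNat 0, Int.ofNat 0, Int.ofNat 0, Int.ofNat 0, Int.ofNat 0, Int.ofNat 0, Int.ofNat 0, Int.ofNat 0, Int.ofNat 0, Int.ofNat 0, Int.ofNat 0, Int.ofNat 0, Int.ofNat 0, Int.ofNat 0, Int.ofNat 0, Int.ofNat 0, Int.ofNat 0, Int.ofNat 0, Int.ofNat 0, Int.ofNat 0, Int.negSucc 3, Int.ofNat 0, Int.ofNat 4],
  [Int.ofNat 0, Int.negSucc 3, Int.ofNat 0, Int.ofNat 0, Int.ofNat 0, Int.ofNat 0, Int.ofNat 0, Int.ofNat 0, Int.ofNat 0, Int.ofNat 0, Int.ofNat 0, Int.ofNat 0, Int.ofNat 0, Int.ofNat 0, Int.ofNat 0, Int.ofNat 0, Int.ofNat 0, Int.ofNat 0, Int.ofNat 0, Int.ofNat 0, Int.ofNat 0, Int.ofNat 0, Int.ofNat 0, Int.ofNat 4],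
  [Int.ofNat 0, Int.ofNat 4, Int.ofNat 0, Int.ofNat 0, Int.ofNat 0, Int.ofNat 0, Int.ofNat 0, Int.ofNat 0, Int.ofNat 0, Int.ofNat 0, Int.ofNat 0, Int.ofNat 0, Int.ofNat 0, Int.ofNat 0, Int.ofNat 0, Int.ofNat 0, Int.ofNat 0, Int.ofNat 0, Int.ofNat 0, Int.ofNat 0, Int.ofNat 0, Int.ofNat 0, Int.ofNat 0, Int.negSucc 3],
  [Int.ofNat 4, Int.ofNat 0, Int.ofNat 0, Int.ofNat 0, Int.ofNat 0, Int.ofNat 0, Int.ofNat 0, Int.ofNat 0, Int.ofNat 0, Int.ofNat 0, Int.ofNat 0, Int.ofNat 0, Int.ofNat 0, Int.ofNat 0, Int.ofNat 0, Int.ofNat 0, Int.ofNat 0, Int.ofNat 0, Int.ofNat 0, Int.ofNat 0, Int.ofNat 0, Int.ofNat 0, Int.ofNat 0, Int.negSucc 3],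
  [Int.negSucc 3, Int.ofNat 0, Int.ofNat 0, Int.ofNat 0, Int.ofNat 0, Int.ofNat 0, Int.ofNat 0, Int.ofNat 0, Int.ofNat 0, Int.ofNat 0, Int.ofNat 0, Int.ofNat 0, Int.ofNat 0, Int.ofNat 0, Int.ofNat 0, Int.ofNat 0, Int.ofNat 0, Int.ofNat 0, Int.ofNat 0, Int.ofNat 0, Int.ofNat 0, Int.ofNat 0, Int.ofNat 0, Int.negSucc 3],
  [Int.ofNat 4, Int.ofNat 0, Int.ofNat 0, Int.ofNat 0, Int.ofNat 0, Int.ofNat 0, Int.ofNat 0, Int.ofNat 0, Int.ofNat 0, Int.ofNat 0, Int.ofNat 0, Int.ofNat 0, Int.ofNat 0, Int.ofNat 0, Int.ofNat 0, Int.ofNat 0, Int.ofNat 0, Int.ofNat 0, Int.ofNat 0, Int.ofNat 0, Int.ofNat 0, Int.ofNat 0, Int.ofNat 0, Int.negSucc 3],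
  [Int.negSucc 3, Int.ofNat 0, Int.ofNat 0, Int.ofNat 0, Int.ofNat 0, Int.ofNat 0, Int.ofNat 0, Int.ofNat 0, Int.ofNat 0, Int.ofNat 0, Int.ofNat 0, Int.ofNat 0, Int.ofNat 0, Int.ofNat 0, Int.ofNat 0, Int.ofNat 0, Int.ofNat 0, Int.ofNat 0, Int.ofNat 0, Int.ofNat 0, Int.ofNat 0, Int.ofNat 0, Int.ofNat 0, Int.ofNat 4],
  [Int.ofNat 4, Int.ofNat 0, Int.ofNat 0, Int.ofNat 0, Int.ofNat 0, Int.ofNat 0, Int.ofNat 0, Int.ofNat 0, Int.ofNat 0, Int.ofNat 0, Int.ofNat 0, Int.ofNat 0, Int.ofNat 0, Int.ofNat 0, Int.ofNat 0, Int.ofNat 0, Int.ofNat 0, Int.ofNat 0, Int.ofNat 0, Int.ofNat 0, Int.ofNat 0, Int.ofNat 0, Int.ofNat 0, Int.ofNat 4],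
  [Int.ofNat 0, Int.ofNat 4, Int.ofNat 0, Int.ofNat 0, Int.ofNat 0, Int.ofNat 0, Int.ofNat 0, Int.ofNat 0, Int.ofNat 0, Int.ofNat 0, Int.ofNat 0, Int.ofNat 0, Int.ofNat 0, Int.ofNat 0, Int.ofNat 0, Int.ofNat 0, Int.ofNat 0, Int.ofNat 0, Int.ofNat 0, Int.ofNat 0, Int.ofNat 0, Int.ofNat 0, Int.ofNat 0, Int.ofNat 4],
  [Int.ofNat 4, Int.ofNat 0, Int.ofNat 4, Int.ofNat 0, Int.ofNat 0, Int.ofNat 0, Int.ofNat 0, Int.ofNat 0, Int.ofNat 0, Int.ofNat 0, Int.ofNat 0, Int.ofNat 0, Int.ofNat 0, Int.ofNat 0, Int.ofNat 0, Int.ofNat 0, Int.ofNat 0, Int.ofNat 0, Int.ofNat 0, Int.ofNat 0, Int.ofNat 0, Int.ofNat 0, Int.ofNat 0, Int.ofNat 0],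
  [Int.ofNat 0, Int.ofNat 0, Int.ofNat 0, Int.ofNat 0, Int.ofNat 0, Int.ofNat 0, Int.ofNat 0, Int.ofNat 0, Int.ofNat 0, Int.ofNat 0, Int.ofNat 0, Int.ofNat 0, Int.ofNat 0, Int.ofNat 0, Int.ofNat 0, Int.ofNat 0, Int.ofNat 0, Int.ofNat 0, Int.ofNat 0, Int.ofNat 0, Int.ofNat 4, Int.ofNat 0, Int.ofNat 4, Int.ofNat 0],
  [Int.ofNat 0, Int.ofNat 0, Int.ofNat 0, Int.ofNat 0, Int.negSucc 1, Int.ofNat 0, Int.ofNat 0, Int.ofNat 0, Int.ofNat 0, Int.negSucc 1, Int.negSucc 1, Int.ofNat 0, Int.ofNat 0, Int.negSucc 1, Int.ofNat 0, Int.negSucc 1, Int.negSucc 1, Int.ofNat 0, Int.ofNat 0, Int.ofNat 0, Int.ofNat 2, Int.ofNat 0, Int.ofNat 2, Int.ofNat 0],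
  [Int.ofNat 0, Int.ofNat 0, Int.negSucc 1, Int.ofNat 0, Int.ofNat 0, Int.ofNat 0, Int.ofNat 0, Int.negSucc 1, Int.ofNat 0, Int.negSucc 1, Int.ofNat 2, Int.ofNat 0, Int.negSucc 1, Int.negSucc 1, Int.ofNat 2, Int.negSucc 1, Int.ofNat 0, Int.ofNat 0, Int.ofNat 0, Int.ofNat 0, Int.ofNat 0, Int.ofNat 0, Int.ofNat 0, Int.ofNat 0],
  [Int.negSucc 0, Int.negSucc 0, Int.ofNat 1, Int.negSucc 0, Int.ofNat 1, Int.negSucc 0, Int.ofNat 1, Int.negSucc 0, Int.ofNat 1, Int.negSucc 0, Int.ofNat 3, Int.ofNat 1, Int.negSucc 0, Int.negSucc 0, Int.ofNat 1, Int.negSucc 0, Int.ofNat 1, Int.negSucc 0, Int.ofNat 1, Int.ofNat 1, Int.ofNat 1, Int.ofNat 1, Int.ofNat 1, Int.negSucc 0],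
  [Int.negSucc 0, Int.negSucc 0, Int.negSucc 0, Int.negSucc 0, Int.ofNat 1, Int.ofNat 1, Int.negSucc 0, Int.negSucc 0, Int.ofNat 1, Int.ofNat 1, Int.negSucc 2, Int.ofNat 1, Int.negSucc 0, Int.negSucc 0, Int.ofNat 1, Int.ofNat 1, Int.ofNat 1, Int.negSucc 0, Int.negSucc 0, Int.ofNat 1, Int.ofNat 1, Int.ofNat 1, Int.negSucc 0, Int.negSucc 0],
  [Int.negSucc 0, Int.negSucc 0, Int.ofNat 1, Int.negSucc 0, Int.ofNat 1, Int.negSucc 0, Int.ofNat 1, Int.ofNat 1, Int.ofNat 1, Int.ofNat 1, Int.ofNat 1, Int.negSucc 0, Int.negSucc 0, Int.negSucc 2, Int.negSucc 0, Int.ofNat 1, Int.negSucc 0, Int.ofNat 1, Int.negSucc 0, Int.ofNat 1, Int.negSucc 0, Int.negSucc 0, Int.ofNat 1, Int.negSucc 0],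
  [Int.negSucc 0, Int.negSucc 0, Int.negSucc 0, Int.negSucc 0, Int.ofNat 1, Int.ofNat 1, Int.negSucc 0, Int.ofNat 1, Int.ofNat 1, Int.negSucc 0, Int.negSucc 0, Int.negSucc 0, Int.negSucc 0, Int.negSucc 2, Int.negSucc 0, Int.negSucc 0, Int.negSucc 0, Int.ofNat 1, Int.ofNat 1, Int.ofNat 1, Int.negSucc 0, Int.negSucc 0, Int.negSucc 0, Int.negSucc 0],
  [Int.negSucc 0, Int.negSucc 0, Int.negSucc 0, Int.negSucc 0, Int.ofNat 3, Int.ofNat 1, Int.negSucc 0, Int.ofNat 1, Int.ofNat 1, Int.ofNat 1, Int.ofNat 1, Int.negSucc 0, Int.negSucc 0, Int.negSucc 0, Int.negSucc 0, Int.ofNat 1, Int.ofNat 1, Int.ofNat 1, Int.ofNat 1, Int.ofNat 1, Int.ofNat 1, Int.negSucc 0, Int.ofNat 1, Int.negSucc 0],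
  [Int.negSucc 0, Int.ofNat 1, Int.negSucc 0, Int.negSucc 0, Int.negSucc 0, Int.negSucc 0, Int.negSucc 0, Int.ofNat 1, Int.ofNat 1, Int.negSucc 0, Int.ofNat 1, Int.ofNat 1, Int.ofNat 1, Int.ofNat 1, Int.ofNat 1, Int.ofNat 1, Int.negSucc 0, Int.negSucc 0, Int.ofNat 3, Int.ofNat 1, Int.ofNat 1, Int.ofNat 1, Int.negSucc 0, Int.negSucc 0],
  [Int.ofNat 0, Int.negSucc 1, Int.ofNat 0, Int.ofNat 0, Int.ofNat 0, Int.ofNat 0, Int.negSucc 1, Int.ofNat 0, Int.negSucc 1, Int.negSucc 1, Int.ofNat 0, Int.negSucc 1, Int.negSucc 1, Int.ofNat 2, Int.ofNat 2, Int.ofNat 0, Int.ofNat 0, Int.ofNat 0, Int.ofNat 0, Int.ofNat 0, Int.ofNat 0, Int.ofNat 0, Int.ofNat 0, Int.ofNat 0],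
  [Int.ofNat 0, Int.ofNat 0, Int.ofNat 0, Int.ofNat 0, Int.negSucc 1, Int.ofNat 0, Int.ofNat 0, Int.ofNat 0, Int.ofNat 0, Int.negSucc 1, Int.ofNat 0, Int.negSucc 1, Int.negSucc 1, Int.ofNat 0, Int.negSucc 1, Int.negSucc 1, Int.ofNat 2, Int.ofNat 2, Int.ofNat 0, Int.ofNat 0, Int.ofNat 0, Int.ofNat 0, Int.ofNat 0, Int.ofNat 0],
  [Int.ofNat 0, Int.ofNat 0, Int.ofNat 0, Int.ofNat 0, Int.negSucc 1, Int.ofNat 0, Int.ofNat 0, Int.ofNat 0, Int.ofNat 2, Int.ofNat 0, Int.ofNat 2, Int.ofNat 0, Int.ofNat 0, Int.ofNat 0, Int.negSucc 1, Int.ofNat 0, Int.ofNat 2, Int.ofNat 2, Int.ofNat 2, Int.ofNat 0, Int.ofNat 2, Int.ofNat 0, Int.ofNat 0, Int.ofNat 0],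
  [Int.ofNat 0, Int.ofNat 0, Int.ofNat 0, Int.negSucc 1, Int.ofNat 0, Int.ofNat 0, Int.ofNat 0, Int.ofNat 2, Int.ofNat 0, Int.ofNat 2, Int.ofNat 0, Int.ofNat 0, Int.ofNat 0, Int.negSucc 1, Int.ofNat 0, Int.ofNat 2, Int.ofNat 2, Int.ofNat 2, Int.ofNat 0, Int.ofNat 2, Int.ofNat 0, Int.ofNat 0, Int.ofNat 0, Int.ofNat 0],
  [Int.ofNat 0, Int.ofNat 0, Int.ofNat 0, Int.negSucc 1, Int.ofNat 0, Int.ofNat 0, Int.ofNat 0, Int.negSucc 1, Int.ofNat 0, Int.negSucc 1, Int.ofNat 0, Int.ofNat 0, Int.ofNat 0, Int.negSucc 1, Int.ofNat 0, Int.ofNat 2, Int.ofNat 2, Int.ofNat 2, Int.ofNat 0, Int.ofNat 2, Int.ofNat 0, Int.ofNat 0, Int.ofNat 0, Int.ofNat 0],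
  [Int.ofNat 0, Int.ofNat 0, Int.ofNat 0, Int.ofNat 2, Int.ofNat 0, Int.ofNat 0, Int.ofNat 0, Int.negSucc 1, Int.ofNat 0, Int.ofNat 2, Int.ofNat 0, Int.ofNat 0, Int.ofNat 0, Int.ofNat 2, Int.ofNat 0, Int.ofNat 2, Int.negSucc 1, Int.ofNat 2, Int.ofNat 0, Int.ofNat 2, Int.ofNat 0, Int.ofNat 0, Int.ofNat 0, Int.ofNat 0],
  [Int.ofNat 0, Int.ofNat 0, Int.ofNat 0, Int.ofNat 2, Int.ofNat 2, Int.ofNat 2, Int.ofNat 2, Int.ofNat 2, Int.ofNat 0, Int.ofNat 0, Int.negSucc 1, Int.ofNat 0, Int.ofNat 0, Int.negSucc 1, Int.ofNat 0, Int.ofNat 2, Int.ofNat 0, Int.ofNat 0, Int.ofNat 0, Int.ofNat 0, Int.ofNat 0, Int.ofNat 0, Int.ofNat 0, Int.ofNat 0],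
  [Int.ofNat 0, Int.ofNat 0, Int.ofNat 0, Int.ofNat 2, Int.ofNat 2, Int.ofNat 2, Int.ofNat 2, Int.negSucc 1, Int.ofNat 0, Int.ofNat 0, Int.ofNat 2, Int.ofNat 0, Int.ofNat 0, Int.negSucc 1, Int.ofNat 0, Int.ofNat 2, Int.ofNat 0, Int.ofNat 0, Int.ofNat 0, Int.ofNat 0, Int.ofNat 0, Int.ofNat 0, Int.ofNat 0, Int.ofNat 0],
  [Int.ofNat 0, Int.ofNat 0, Int.ofNat 0, Int.ofNat 0, Int.ofNat 2, Int.ofNat 2, Int.ofNat 2, Int.ofNat 2, Int.negSucc 1, Int.ofNat 0, Int.ofNat 0, Int.ofNat 2, Int.ofNat 0, Int.ofNat 0, Int.negSucc 1, Int.ofNat 0, Int.ofNat 2, Int.ofNat 0, Int.ofNat 0, Int.ofNat 0, Int.ofNat 0, Int.ofNat 0, Int.ofNat 0, Int.ofNat 0],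
  [Int.ofNat 0, Int.ofNat 0, Int.ofNat 0, Int.ofNat 0, Int.ofNat 0, Int.ofNat 2, Int.ofNat 0, Int.ofNat 0, Int.negSucc 1, Int.ofNat 0, Int.ofNat 0, Int.ofNat 2, Int.ofNat 0, Int.negSucc 1, Int.negSucc 1, Int.ofNat 0, Int.ofNat 0, Int.ofNat 0, Int.ofNat 0, Int.negSucc 1, Int.ofNat 0, Int.negSucc 1, Int.negSucc 1, Int.ofNat 0],
  [Int.ofNat 0, Int.ofNat 0, Int.ofNat 2, Int.ofNat 0, Int.ofNat 0, Int.negSucc 1, Int.ofNat 0, Int.ofNat 0, Int.ofNat 2, Int.ofNat 0, Int.negSucc 1, Int.negSucc 1, Int.ofNat 0, Int.ofNat 0, Int.ofNat 0, Int.ofNat 0, Int.negSucc 1, Int.ofNat 0, Int.negSucc 1, Int.negSucc 1, Int.ofNat 0, Int.ofNat 0, Int.ofNat 0, Int.ofNat 0],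
  [Int.ofNat 1, Int.ofNat 1, Int.negSucc 0, Int.ofNat 1, Int.ofNat 1, Int.negSucc 0, Int.ofNat 1, Int.ofNat 1, Int.ofNat 3, Int.ofNat 1, Int.negSucc 0, Int.negSucc 0, Int.ofNat 1, Int.ofNat 1, Int.ofNat 1, Int.ofNat 1, Int.negSucc 0, Int.ofNat 1, Int.negSucc 0, Int.negSucc 0, Int.ofNat 1, Int.ofNat 1, Int.ofNat 1, Int.ofNat 1],
  [Int.ofNat 1, Int.ofNat 1, Int.ofNat 1, Int.ofNat 1, Int.negSucc 0, Int.ofNat 1, Int.negSucc 0, Int.negSucc 0, Int.ofNat 1, Int.ofNat 1, Int.ofNat 1, Int.ofNat 1, Int.ofNat 1, Int.negSucc 0, Int.ofNat 1, Int.ofNat 1, Int.ofNat 3, Int.ofNat 1, Int.ofNat 1, Int.negSucc 0, Int.ofNat 1, Int.negSucc 0, Int.negSucc 0, Int.ofNat 1],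
  [Int.ofNat 1, Int.ofNat 1, Int.ofNat 1, Int.negSucc 0, Int.negSucc 0, Int.negSucc 0, Int.ofNat 1, Int.ofNat 1, Int.negSucc 0, Int.negSucc 0, Int.negSucc 0, Int.negSucc 0, Int.negSucc 0, Int.negSucc 0, Int.negSucc 0, Int.negSucc 0, Int.ofNat 3, Int.negSucc 0, Int.negSucc 0, Int.ofNat 1, Int.negSucc 0, Int.ofNat 1, Int.negSucc 0, Int.ofNat 1],
  [Int.ofNat 1, Int.ofNat 1, Int.negSucc 0, Int.negSucc 0, Int.negSucc 0, Int.ofNat 1, Int.negSucc 0, Int.ofNat 1, Int.negSucc 0, Int.ofNat 1, Int.ofNat 1, Int.negSucc 0, Int.negSucc 0, Int.negSucc 0, Int.negSucc 0, Int.ofNat 1, Int.ofNat 3, Int.negSucc 0, Int.ofNat 1, Int.ofNat 1, Int.negSucc 0, Int.ofNat 1, Int.ofNat 1, Int.ofNat 1],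
  [Int.negSucc 0, Int.ofNat 1, Int.negSucc 0, Int.ofNat 1, Int.negSucc 0, Int.ofNat 1, Int.ofNat 1, Int.ofNat 3, Int.ofNat 1, Int.ofNat 1, Int.negSucc 0, Int.ofNat 1, Int.negSucc 0, Int.ofNat 1, Int.negSucc 0, Int.negSucc 0, Int.negSucc 0, Int.negSucc 0, Int.negSucc 0, Int.ofNat 1, Int.ofNat 1, Int.negSucc 0, Int.ofNat 1, Int.ofNat 1],
  [Int.negSucc 0, Int.ofNat 1, Int.ofNat 1, Int.ofNat 1, Int.negSucc 0, Int.negSucc 0, Int.negSucc 0, Int.ofNat 3, Int.ofNat 1, Int.negSucc 0, Int.ofNat 1, Int.ofNat 1, Int.negSucc 0, Int.ofNat 1, Int.negSucc 0, Int.ofNat 1, Int.negSucc 0, Int.negSucc 0, Int.ofNat 1, Int.ofNat 1, Int.ofNat 1, Int.negSucc 0, Int.negSucc 0, Int.ofNat 1],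
  [Int.ofNat 2, Int.ofNat 0, Int.ofNat 0, Int.ofNat 2, Int.ofNat 0, Int.ofNat 0, Int.negSucc 1, Int.ofNat 2, Int.ofNat 0, Int.negSucc 1, Int.ofNat 0, Int.ofNat 0, Int.negSucc 1, Int.ofNat 2, Int.ofNat 0, Int.ofNat 0, Int.ofNat 0, Int.ofNat 0, Int.ofNat 0, Int.ofNat 0, Int.ofNat 0, Int.negSucc 1, Int.ofNat 0, Int.ofNat 0],
  [Int.ofNat 2, Int.ofNat 0, Int.negSucc 1, Int.ofNat 2, Int.ofNat 0, Int.negSucc 1, Int.ofNat 0, Int.ofNat 0, Int.ofNat 0, Int.negSucc 1, Int.ofNat 2, Int.ofNat 0, Int.ofNat 0, Int.negSucc 1, Int.ofNat 0, Int.ofNat 0, Int.ofNat 2, Int.ofNat 0, Int.ofNat 0, Int.ofNat 0, Int.ofNat 0, Int.ofNat 0, Int.ofNat 0, Int.ofNat 0],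
  [Int.negSucc 1, Int.ofNat 0, Int.ofNat 2, Int.ofNat 2, Int.ofNat 0, Int.negSucc 1, Int.ofNat 0, Int.ofNat 0, Int.ofNat 0, Int.negSucc 1, Int.ofNat 2, Int.ofNat 0, Int.ofNat 0, Int.negSucc 1, Int.ofNat 0, Int.ofNat 0, Int.ofNat 2, Int.ofNat 0, Int.ofNat 0, Int.ofNat 0, Int.ofNat 0, Int.ofNat 0, Int.ofNat 0, Int.ofNat 0],
  [Int.ofNat 0, Int.ofNat 0, Int.ofNat 0, Int.negSucc 1, Int.ofNat 0, Int.ofNat 2, Int.ofNat 2, Int.ofNat 0, Int.negSucc 1, Int.ofNat 0, Int.ofNat 0, Int.ofNat 0, Int.negSucc 1, Int.ofNat 2, Int.ofNat 0, Int.ofNat 0, Int.negSucc 1, Int.ofNat 0, Int.ofNat 0, Int.ofNat 2, Int.ofNat 0, Int.ofNat 0, Int.ofNat 0, Int.ofNat 0],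
  [Int.ofNat 0, Int.ofNat 0, Int.ofNat 0, Int.negSucc 1, Int.ofNat 0, Int.ofNat 2, Int.ofNat 0, Int.negSucc 1, Int.ofNat 0, Int.ofNat 0, Int.ofNat 0, Int.ofNat 2, Int.ofNat 0, Int.ofNat 2, Int.ofNat 0, Int.ofNat 0, Int.negSucc 1, Int.ofNat 0, Int.ofNat 2, Int.ofNat 0, Int.ofNat 0, Int.negSucc 1, Int.ofNat 0, Int.ofNat 0],
  [Int.ofNat 0, Int.ofNat 0, Int.negSucc 1, Int.ofNat 0, Int.ofNat 2, Int.ofNat 0, Int.negSucc 1, Int.ofNat 0, Int.ofNat 0, Int.ofNat 0, Int.ofNat 2, Int.ofNat 0, Int.ofNat 2, Int.ofNat 0, Int.ofNat 0, Int.negSucc 1, Int.ofNat 0, Int.ofNat 2, Int.ofNat 0, Int.ofNat 0, Int.negSucc 1, Int.ofNat 0, Int.ofNat 0, Int.ofNat 0],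
  [Int.ofNat 0, Int.ofNat 0, Int.ofNat 2, Int.ofNat 0, Int.ofNat 2, Int.ofNat 0, Int.negSucc 1, Int.ofNat 0, Int.ofNat 0, Int.ofNat 0, Int.negSucc 1, Int.ofNat 0, Int.ofNat 2, Int.ofNat 0, Int.ofNat 0, Int.negSucc 1, Int.ofNat 0, Int.ofNat 2, Int.ofNat 0, Int.ofNat 0, Int.negSucc 1, Int.ofNat 0, Int.ofNat 0, Int.ofNat 0]]

set_option maxRecDepth 100000 in
theorem c1e20_chk : pmChk (List.replicate 14 [20, 0, 25]).flatten nxL c1e20M 0 0 = true := by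
  decide +kernel

theorem c1e20_ne : wE letE2 (List.replicate 14 [20, 0, 25]).flatten ≠ 1 ∧ wE letE2 (List.replicate 14 [20, 0, 25]).flatten ≠ negElt :=
  ne_pm_of_chk nxL_mem c1e20_chk

set_option maxRecDepth 100000 in
def c1e21M : List (List ℤ) :=
  [[Int.ofNat 4, Int.ofNat 0, Int.ofNat 0, Int.ofNat 0, Int.ofNat 0, Int.ofNat 0, Int.ofNat 0, Int.ofNat 0, Int.ofNat 0, Int.ofNat 0, Int.ofNat 0, Int.ofNat 0, Int.ofNat 0, Int.ofNat 0, Int.ofNat 0, Int.ofNat 0, Int.ofNat 0, Int.ofNat 0, Int.ofNat 0, Int.ofNat 0, Int.ofNat 0, Int.ofNat 0, Int.ofNat 0, Int.ofNat 4],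
  [Int.ofNat 4, Int.ofNat 0, Int.ofNat 0, Int.ofNat 0, Int.ofNat 0, Int.ofNat 0, Int.ofNat 0, Int.ofNat 0, Int.ofNat 0, Int.ofNat 0, Int.ofNat 0, Int.ofNat 0, Int.ofNat 0, Int.ofNat 0, Int.ofNat 0, Int.ofNat 0, Int.ofNat 0, Int.ofNat 0, Int.ofNat 0, Int.ofNat 0, Int.ofNat 0, Int.ofNat 0, Int.ofNat 0, Int.ofNat 4],
  [Int.negSucc 3, Int.ofNat 0, Int.ofNat 0, Int.ofNat 0, Int.ofNat 0, Int.ofNat 0, Int.ofNat 0, Int.ofNat 0, Int.ofNat 0, Int.ofNat 0, Int.ofNat 0, Int.ofNat 0, Int.ofNat 0, Int.ofNat 0, Int.ofNat 0, Int.ofNat 0, Int.ofNat 0, Int.ofNat 0, Int.ofNat 0, Int.ofNat 0, Int.ofNat 0, Int.ofNat 0, Int.ofNat 0, Int.ofNat 4],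
  [Int.ofNat 0, Int.negSucc 3, Int.ofNat 0, Int.ofNat 0, Int.ofNat 0, Int.ofNat 0, Int.ofNat 0, Int.ofNat 0, Int.ofNat 0, Int.ofNat 0, Int.ofNat 0, Int.ofNat 0, Int.ofNat 0, Int.ofNat 0, Int.ofNat 0, Int.ofNat 0, Int.ofNat 0, Int.ofNat 0, Int.ofNat 0, Int.ofNat 0, Int.ofNat 0, Int.ofNat 0, Int.ofNat 0, Int.ofNat 4],
  [Int.ofNat 0, Int.ofNat 4, Int.ofNat 0, Int.ofNat 0, Int.ofNat 0, Int.ofNat 0, Int.ofNat 0, Int.ofNat 0, Int.ofNat 0, Int.ofNat 0, Int.ofNat 0, Int.ofNat 0, Int.ofNat 0, Int.ofNat 0, Int.ofNat 0, Int.ofNat 0, Int.ofNat 0, Int.ofNat 0, Int.ofNat 0, Int.ofNat 0, Int.ofNat 0, Int.ofNat 0, Int.ofNat 0, Int.negSucc 3],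
  [Int.ofNat 0, Int.ofNat 0, Int.ofNat 0, Int.ofNat 0, Int.ofNat 0, Int.ofNat 0, Int.ofNat 0, Int.ofNat 0, Int.ofNat 0, Int.ofNat 0, Int.ofNat 0, Int.ofNat 0, Int.ofNat 0, Int.ofNat 0, Int.ofNat 0, Int.ofNat 0, Int.ofNat 0, Int.ofNat 0, Int.ofNat 0, Int.ofNat 0, Int.ofNat 0, Int.ofNat 4, Int.ofNat 0, Int.negSucc 3],
  [Int.negSucc 1, Int.negSucc 1, Int.negSucc 1, Int.ofNat 0, Int.ofNat 0, Int.ofNat 0, Int.negSucc 1, Int.negSucc 1, Int.ofNat 0, Int.ofNat 0, Int.ofNat 0, Int.ofNat 0, Int.ofNat 0, Int.ofNat 0, Int.ofNat 0, Int.ofNat 0, Int.ofNat 0, Int.ofNat 0, Int.ofNat 0, Int.negSucc 1, Int.ofNat 0, Int.ofNat 2, Int.ofNat 0, Int.ofNat 2],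
  [Int.negSucc 1, Int.negSucc 1, Int.ofNat 0, Int.ofNat 0, Int.ofNat 0, Int.negSucc 1, Int.negSucc 1, Int.ofNat 0, Int.ofNat 0, Int.ofNat 0, Int.ofNat 0, Int.ofNat 0, Int.ofNat 0, Int.ofNat 0, Int.ofNat 0, Int.ofNat 0, Int.ofNat 0, Int.ofNat 0, Int.negSucc 1, Int.ofNat 0, Int.ofNat 2, Int.ofNat 0, Int.negSucc 1, Int.ofNat 2],
  [Int.ofNat 1, Int.ofNat 1, Int.negSucc 0, Int.ofNat 1, Int.ofNat 1, Int.negSucc 0, Int.negSucc 0, Int.ofNat 1, Int.ofNat 1, Int.negSucc 0, Int.negSucc 0, Int.ofNat 1, Int.ofNat 1, Int.ofNat 1, Int.ofNat 1, Int.negSucc 0, Int.ofNat 1, Int.ofNat 1, Int.negSucc 0, Int.ofNat 1, Int.ofNat 1, Int.ofNat 1, Int.negSucc 0, Int.negSucc 2],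
  [Int.ofNat 1, Int.ofNat 1, Int.ofNat 1, Int.ofNat 1, Int.ofNat 1, Int.ofNat 1, Int.ofNat 1, Int.ofNat 1, Int.ofNat 1, Int.ofNat 1, Int.ofNat 1, Int.ofNat 1, Int.ofNat 1, Int.ofNat 1, Int.ofNat 1, Int.ofNat 1, Int.ofNat 1, Int.ofNat 1, Int.ofNat 1, Int.ofNat 1, Int.ofNat 1, Int.ofNat 1, Int.ofNat 1, Int.negSucc 2],
  [Int.ofNat 1, Int.ofNat 1, Int.ofNat 1, Int.ofNat 1, Int.ofNat 1, Int.ofNat 1, Int.ofNat 1, Int.ofNat 1, Int.ofNat 1, Int.ofNat 1, Int.ofNat 1, Int.ofNat 1, Int.ofNat 1, Int.ofNat 1, Int.ofNat 1, Int.ofNat 1, Int.ofNat 1, Int.ofNat 1, Int.ofNat 1, Int.ofNat 1, Int.ofNat 1, Int.ofNat 1, Int.ofNat 1, Int.negSucc 2],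
  [Int.ofNat 1, Int.ofNat 1, Int.negSucc 0, Int.ofNat 1, Int.ofNat 1, Int.negSucc 0, Int.negSucc 0, Int.ofNat 1, Int.ofNat 1, Int.negSucc 0, Int.negSucc 0, Int.ofNat 1, Int.ofNat 1, Int.ofNat 1, Int.ofNat 1, Int.negSucc 0, Int.ofNat 1, Int.ofNat 1, Int.negSucc 0, Int.ofNat 1, Int.ofNat 1, Int.ofNat 1, Int.negSucc 0, Int.negSucc 2],
  [Int.negSucc 1, Int.negSucc 1, Int.ofNat 0, Int.ofNat 0, Int.ofNat 0, Int.negSucc 1, Int.negSucc 1, Int.ofNat 0, Int.ofNat 0, Int.ofNat 0, Int.ofNat 0, Int.ofNat 0, Int.ofNat 0, Int.ofNat 0, Int.ofNat 0, Int.ofNat 0, Int.ofNat 0, Int.ofNat 0, Int.negSucc 1, Int.ofNat 0, Int.ofNat 2, Int.ofNat 0, Int.negSucc 1, Int.ofNat 2],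
  [Int.negSucc 1, Int.negSucc 1, Int.negSucc 1, Int.ofNat 0, Int.ofNat 0, Int.ofNat 0, Int.negSucc 1, Int.negSucc 1, Int.ofNat 0, Int.ofNat 0, Int.ofNat 0, Int.ofNat 0, Int.ofNat 0, Int.ofNat 0, Int.ofNat 0, Int.ofNat 0, Int.ofNat 0, Int.ofNat 0, Int.ofNat 0, Int.negSucc 1, Int.ofNat 0, Int.ofNat 2, Int.ofNat 0, Int.ofNat 2],
  [Int.ofNat 0, Int.ofNat 0, Int.ofNat 0, Int.ofNat 0, Int.ofNat 0, Int.ofNat 0, Int.ofNat 0, Int.ofNat 0, Int.ofNat 0, Int.ofNat 0, Int.ofNat 0, Int.ofNat 0, Int.ofNat 0, Int.ofNat 0, Int.ofNat 0, Int.ofNat 0, Int.ofNat 0, Int.ofNat 0, Int.ofNat 0, Int.ofNat 0, Int.ofNat 0, Int.ofNat 4, Int.ofNat 0, Int.negSucc 3],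
  [Int.ofNat 0, Int.ofNat 4, Int.ofNat 0, Int.ofNat 0, Int.ofNat 0, Int.ofNat 0, Int.ofNat 0, Int.ofNat 0, Int.ofNat 0, Int.ofNat 0, Int.ofNat 0, Int.ofNat 0, Int.ofNat 0, Int.ofNat 0, Int.ofNat 0, Int.ofNat 0, Int.ofNat 0, Int.ofNat 0, Int.ofNat 0, Int.ofNat 0, Int.ofNat 0, Int.ofNat 0, Int.ofNat 0, Int.negSucc 3],
  [Int.ofNat 0, Int.negSucc 3, Int.ofNat 0, Int.ofNat 0, Int.ofNat 0, Int.ofNat 0, Int.ofNat 0, Int.ofNat 0, Int.ofNat 0, Int.ofNat 0, Int.ofNat 0, Int.ofNat 0, Int.ofNat 0, Int.ofNat 0, Int.ofNat 0, Int.ofNat 0, Int.ofNat 0, Int.ofNat 0, Int.ofNat 0, Int.ofNat 0, Int.ofNat 0, Int.ofNat 0, Int.ofNat 0, Int.ofNat 4],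
  [Int.negSucc 3, Int.ofNat 0, Int.ofNat 0, Int.ofNat 0, Int.ofNat 0, Int.ofNat 0, Int.ofNat 0, Int.ofNat 0, Int.ofNat 0, Int.ofNat 0, Int.ofNat 0, Int.ofNat 0, Int.ofNat 0, Int.ofNat 0, Int.ofNat 0, Int.ofNat 0, Int.ofNat 0, Int.ofNat 0, Int.ofNat 0, Int.ofNat 0, Int.ofNat 0, Int.ofNat 0, Int.ofNat 0, Int.ofNat 4],
  [Int.ofNat 4, Int.ofNat 0, Int.ofNat 0, Int.ofNat 0, Int.ofNat 0, Int.ofNat 0, Int.ofNat 0, Int.ofNat 0, Int.ofNat 0, Int.ofNat 0, Int.ofNat 0, Int.ofNat 0, Int.ofNat 0, Int.ofNat 0, Int.ofNat 0, Int.ofNat 0, Int.ofNat 0, Int.ofNat 0, Int.ofNat 0, Int.ofNat 0, Int.ofNat 0, Int.ofNat 0, Int.ofNat 0, Int.ofNat 4],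
  [Int.negSucc 3, Int.ofNat 0, Int.ofNat 0, Int.ofNat 0, Int.ofNat 0, Int.ofNat 0, Int.ofNat 0, Int.ofNat 0, Int.ofNat 0, Int.ofNat 0, Int.ofNat 0, Int.ofNat 0, Int.ofNat 0, Int.ofNat 0, Int.ofNat 0, Int.ofNat 0, Int.ofNat 0, Int.ofNat 0, Int.ofNat 0, Int.ofNat 0, Int.ofNat 0, Int.ofNat 0, Int.ofNat 0, Int.ofNat 4],
  [Int.ofNat 4, Int.ofNat 0, Int.ofNat 0, Int.ofNat 0, Int.ofNat 0, Int.ofNat 0, Int.ofNat 0, Int.ofNat 0, Int.ofNat 0, Int.ofNat 0, Int.ofNat 0, Int.ofNat 0, Int.ofNat 0, Int.ofNat 0, Int.ofNat 0, Int.ofNat 0, Int.ofNat 0, Int.ofNat 0, Int.ofNat 0, Int.ofNat 0, Int.ofNat 0, Int.ofNat 0, Int.ofNat 0, Int.negSucc 3],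
  [Int.negSucc 3, Int.ofNat 0, Int.ofNat 0, Int.ofNat 0, Int.ofNat 0, Int.ofNat 0, Int.ofNat 0, Int.ofNat 0, Int.ofNat 0, Int.ofNat 0, Int.ofNat 0, Int.ofNat 0, Int.ofNat 0, Int.ofNat 0, Int.ofNat 0, Int.ofNat 0, Int.ofNat 0, Int.ofNat 0, Int.ofNat 0, Int.ofNat 0, Int.ofNat 0, Int.ofNat 0, Int.ofNat 0, Int.negSucc 3],
  [Int.ofNat 0, Int.negSucc 3, Int.ofNat 0, Int.ofNat 0, Int.ofNat 0, Int.ofNat 0, Int.ofNat 0, Int.ofNat 0, Int.ofNat 0, Int.ofNat 0, Int.ofNat 0, Int.ofNat 0, Int.ofNat 0, Int.ofNat 0, Int.ofNat 0, Int.ofNat 0, Int.ofNat 0, Int.ofNat 0, Int.ofNat 0, Int.ofNat 0, Int.ofNat 0, Int.ofNat 0, Int.ofNat 0, Int.negSucc 3],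
  [Int.negSucc 3, Int.ofNat 0, Int.negSucc 3, Int.ofNat 0, Int.ofNat 0, Int.ofNat 0, Int.ofNat 0, Int.ofNat 0, Int.ofNat 0, Int.ofNat 0, Int.ofNat 0, Int.ofNat 0, Int.ofNat 0, Int.ofNat 0, Int.ofNat 0, Int.ofNat 0, Int.ofNat 0, Int.ofNat 0, Int.ofNat 0, Int.ofNat 0, Int.ofNat 0, Int.ofNat 0, Int.ofNat 0, Int.ofNat 0],
  [Int.ofNat 0, Int.ofNat 0, Int.ofNat 0, Int.ofNat 0, Int.ofNat 0, Int.ofNat 0, Int.ofNat 0, Int.ofNat 0, Int.ofNat 0, Int.ofNat 0, Int.ofNat 0, Int.ofNat 0, Int.ofNat 0, Int.ofNat 0, Int.ofNat 0, Int.ofNat 0, Int.ofNat 0, Int.ofNat 0, Int.ofNat 0, Int.ofNat 0, Int.negSucc 3, Int.ofNat 0, Int.negSucc 3, Int.ofNat 0],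
  [Int.ofNat 0, Int.ofNat 0, Int.ofNat 0, Int.ofNat 0, Int.ofNat 2, Int.ofNat 0, Int.ofNat 0, Int.ofNat 0, Int.ofNat 0, Int.ofNat 2, Int.ofNat 2, Int.ofNat 0, Int.ofNat 0, Int.ofNat 2, Int.ofNat 0, Int.ofNat 2, Int.ofNat 2, Int.ofNat 0, Int.ofNat 0, Int.ofNat 0, Int.negSucc 1, Int.ofNat 0, Int.negSucc 1, Int.ofNat 0],
  [Int.ofNat 0, Int.ofNat 0, Int.ofNat 2, Int.ofNat 0, Int.ofNat 0, Int.ofNat 0, Int.ofNat 0, Int.ofNat 2, Int.ofNat 0, Int.ofNat 2, Int.negSucc 1, Int.ofNat 0, Int.ofNat 2, Int.ofNat 2, Int.negSucc 1, Int.ofNat 2, Int.ofNat 0, Int.ofNat 0, Int.ofNat 0, Int.ofNat 0, Int.ofNat 0, Int.ofNat 0, Int.ofNat 0, Int.ofNat 0],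
  [Int.ofNat 1, Int.ofNat 1, Int.negSucc 0, Int.ofNat 1, Int.negSucc 0, Int.ofNat 1, Int.negSucc 0, Int.ofNat 1, Int.negSucc 0, Int.ofNat 1, Int.negSucc 2, Int.negSucc 0, Int.ofNat 1, Int.ofNat 1, Int.negSucc 0, Int.ofNat 1, Int.negSucc 0, Int.ofNat 1, Int.negSucc 0, Int.negSucc 0, Int.negSucc 0, Int.negSucc 0, Int.negSucc 0, Int.ofNat 1],
  [Int.ofNat 1, Int.ofNat 1, Int.ofNat 1, Int.ofNat 1, Int.negSucc 0, Int.negSucc 0, Int.ofNat 1, Int.ofNat 1, Int.negSucc 0, Int.negSucc 0, Int.ofNat 3, Int.negSucc 0, Int.ofNat 1, Int.ofNat 1, Int.negSucc 0, Int.negSucc 0, Int.negSucc 0, Int.ofNat 1, Int.ofNat 1, Int.negSucc 0, Int.negSucc 0, Int.negSucc 0, Int.ofNat 1, Int.ofNat 1],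
  [Int.ofNat 1, Int.ofNat 1, Int.ofNat 1, Int.negSucc 0, Int.ofNat 1, Int.negSucc 0, Int.negSucc 0, Int.negSucc 0, Int.negSucc 0, Int.ofNat 1, Int.negSucc 0, Int.negSucc 0, Int.negSucc 0, Int.ofNat 1, Int.ofNat 1, Int.negSucc 0, Int.negSucc 0, Int.ofNat 1, Int.negSucc 0, Int.ofNat 1, Int.ofNat 1, Int.ofNat 1, Int.ofNat 3, Int.ofNat 1],
  [Int.ofNat 1, Int.ofNat 1, Int.negSucc 0, Int.negSucc 0, Int.ofNat 1, Int.ofNat 1, Int.ofNat 1, Int.negSucc 0, Int.negSucc 0, Int.negSucc 0, Int.ofNat 1, Int.negSucc 0, Int.negSucc 0, Int.ofNat 1, Int.ofNat 1, Int.ofNat 1, Int.negSucc 0, Int.ofNat 1, Int.ofNat 1, Int.ofNat 1, Int.ofNat 1, Int.ofNat 1, Int.negSucc 2, Int.ofNat 1],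
  [Int.ofNat 0, Int.ofNat 0, Int.ofNat 2, Int.negSucc 1, Int.ofNat 2, Int.ofNat 0, Int.ofNat 0, Int.negSucc 1, Int.ofNat 0, Int.negSucc 1, Int.ofNat 0, Int.ofNat 0, Int.ofNat 0, Int.ofNat 2, Int.ofNat 0, Int.ofNat 0, Int.ofNat 0, Int.ofNat 0, Int.ofNat 2, Int.ofNat 0, Int.ofNat 0, Int.ofNat 0, Int.negSucc 1, Int.ofNat 0],
  [Int.ofNat 0, Int.ofNat 2, Int.ofNat 0, Int.negSucc 1, Int.ofNat 2, Int.ofNat 0, Int.ofNat 0, Int.ofNat 0, Int.ofNat 0, Int.ofNat 0, Int.negSucc 1, Int.ofNat 0, Int.ofNat 0, Int.negSucc 1, Int.ofNat 0, Int.ofNat 0, Int.ofNat 2, Int.ofNat 0, Int.ofNat 2, Int.negSucc 1, Int.ofNat 0, Int.ofNat 0, Int.ofNat 0, Int.ofNat 0],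
  [Int.ofNat 1, Int.negSucc 0, Int.ofNat 1, Int.negSucc 0, Int.ofNat 1, Int.ofNat 1, Int.ofNat 1, Int.ofNat 1, Int.negSucc 0, Int.ofNat 1, Int.negSucc 0, Int.negSucc 0, Int.negSucc 0, Int.negSucc 2, Int.ofNat 1, Int.ofNat 1, Int.ofNat 1, Int.ofNat 1, Int.ofNat 1, Int.negSucc 0, Int.ofNat 1, Int.ofNat 1, Int.negSucc 0, Int.ofNat 1],
  [Int.ofNat 1, Int.ofNat 1, Int.negSucc 0, Int.ofNat 1, Int.negSucc 0, Int.ofNat 1, Int.negSucc 0, Int.ofNat 1, Int.ofNat 1, Int.ofNat 1, Int.ofNat 1, Int.negSucc 0, Int.ofNat 1, Int.negSucc 0, Int.negSucc 0, Int.negSucc 0, Int.negSucc 2, Int.ofNat 1, Int.ofNat 1, Int.ofNat 1, Int.ofNat 1, Int.ofNat 1, Int.negSucc 0, Int.ofNat 1],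
  [Int.ofNat 0, Int.ofNat 0, Int.ofNat 2, Int.ofNat 0, Int.ofNat 2, Int.ofNat 0, Int.negSucc 1, Int.ofNat 0, Int.ofNat 0, Int.ofNat 0, Int.ofNat 0, Int.negSucc 1, Int.ofNat 0, Int.ofNat 2, Int.negSucc 1, Int.negSucc 1, Int.ofNat 0, Int.ofNat 0, Int.ofNat 0, Int.ofNat 0, Int.ofNat 0, Int.ofNat 0, Int.ofNat 2, Int.ofNat 0],
  [Int.ofNat 0, Int.ofNat 2, Int.ofNat 0, Int.ofNat 2, Int.ofNat 0, Int.negSucc 1, Int.ofNat 0, Int.ofNat 0, Int.ofNat 0, Int.ofNat 0, Int.negSucc 1, Int.ofNat 0, Int.ofNat 2, Int.negSucc 1, Int.negSucc 1, Int.ofNat 0, Int.ofNat 0, Int.ofNat 0, Int.ofNat 0, Int.ofNat 0, Int.ofNat 0, Int.ofNat 2, Int.ofNat 0, Int.ofNat 0],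
  [Int.ofNat 0, Int.ofNat 2, Int.ofNat 0, Int.ofNat 2, Int.ofNat 0, Int.negSucc 1, Int.ofNat 0, Int.ofNat 0, Int.ofNat 0, Int.ofNat 0, Int.ofNat 2, Int.ofNat 0, Int.ofNat 2, Int.negSucc 1, Int.negSucc 1, Int.ofNat 0, Int.ofNat 0, Int.ofNat 0, Int.ofNat 0, Int.ofNat 0, Int.ofNat 0, Int.negSucc 1, Int.ofNat 0, Int.ofNat 0],
  [Int.ofNat 0, Int.negSucc 1, Int.ofNat 0, Int.negSucc 1, Int.ofNat 0, Int.negSucc 1, Int.ofNat 0, Int.ofNat 0, Int.ofNat 0, Int.ofNat 0, Int.ofNat 2, Int.ofNat 0, Int.negSucc 1, Int.ofNat 2, Int.negSucc 1, Int.ofNat 0, Int.ofNat 0, Int.ofNat 0, Int.ofNat 0, Int.ofNat 0, Int.ofNat 0, Int.negSucc 1, Int.ofNat 0, Int.ofNat 0],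
  [Int.ofNat 0, Int.ofNat 0, Int.ofNat 0, Int.ofNat 0, Int.ofNat 0, Int.ofNat 0, Int.ofNat 0, Int.ofNat 2, Int.ofNat 0, Int.negSucc 1, Int.ofNat 0, Int.ofNat 0, Int.negSucc 1, Int.ofNat 0, Int.ofNat 0, Int.negSucc 1, Int.ofNat 2, Int.ofNat 0, Int.negSucc 1, Int.ofNat 0, Int.ofNat 0, Int.negSucc 1, Int.negSucc 1, Int.ofNat 0],
  [Int.ofNat 0, Int.ofNat 0, Int.ofNat 0, Int.ofNat 0, Int.ofNat 0, Int.ofNat 0, Int.ofNat 0, Int.negSucc 1, Int.ofNat 0, Int.ofNat 2, Int.ofNat 0, Int.ofNat 0, Int.negSucc 1, Int.ofNat 0, Int.ofNat 0, Int.negSucc 1, Int.ofNat 2, Int.ofNat 0, Int.ofNat 2, Int.ofNat 0, Int.ofNat 0, Int.ofNat 2, Int.negSucc 1, Int.ofNat 0],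
  [Int.negSucc 1, Int.ofNat 0, Int.ofNat 0, Int.ofNat 0, Int.ofNat 0, Int.ofNat 0, Int.ofNat 0, Int.ofNat 0, Int.negSucc 1, Int.ofNat 0, Int.ofNat 2, Int.ofNat 0, Int.ofNat 0, Int.negSucc 1, Int.ofNat 0, Int.ofNat 0, Int.negSucc 1, Int.ofNat 2, Int.ofNat 0, Int.ofNat 2, Int.ofNat 0, Int.ofNat 0, Int.ofNat 2, Int.ofNat 0],
  [Int.ofNat 1, Int.negSucc 0, Int.negSucc 0, Int.negSucc 0, Int.ofNat 1, Int.negSucc 0, Int.negSucc 0, Int.negSucc 0, Int.negSucc 0, Int.negSucc 0, Int.ofNat 1, Int.ofNat 1, Int.ofNat 1, Int.negSucc 0, Int.negSucc 0, Int.negSucc 0, Int.negSucc 0, Int.ofNat 1, Int.ofNat 1, Int.ofNat 1, Int.negSucc 0, Int.negSucc 0, Int.ofNat 3, Int.negSucc 0],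
  [Int.negSucc 0, Int.ofNat 1, Int.negSucc 0, Int.negSucc 0, Int.negSucc 0, Int.negSucc 0, Int.negSucc 0, Int.ofNat 1, Int.ofNat 1, Int.ofNat 1, Int.negSucc 0, Int.negSucc 0, Int.negSucc 0, Int.negSucc 0, Int.ofNat 1, Int.ofNat 1, Int.ofNat 1, Int.negSucc 0, Int.negSucc 0, Int.ofNat 3, Int.ofNat 1, Int.negSucc 0, Int.negSucc 0, Int.negSucc 0],
  [Int.ofNat 0, Int.negSucc 1, Int.ofNat 0, Int.ofNat 0, Int.ofNat 0, Int.ofNat 0, Int.negSucc 1, Int.ofNat 0, Int.ofNat 2, Int.ofNat 0, Int.negSucc 1, Int.ofNat 0, Int.ofNat 0, Int.ofNat 0, Int.ofNat 2, Int.ofNat 0, Int.ofNat 2, Int.ofNat 0, Int.ofNat 0, Int.ofNat 2, Int.ofNat 0, Int.negSucc 1, Int.ofNat 0, Int.ofNat 0],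
  [Int.ofNat 0, Int.negSucc 1, Int.ofNat 0, Int.ofNat 0, Int.ofNat 0, Int.ofNat 0, Int.ofNat 0, Int.negSucc 1, Int.ofNat 0, Int.ofNat 0, Int.ofNat 0, Int.ofNat 0, Int.ofNat 0, Int.ofNat 2, Int.ofNat 0, Int.ofNat 0, Int.ofNat 2, Int.ofNat 2, Int.negSucc 1, Int.ofNat 0, Int.negSucc 1, Int.ofNat 0, Int.ofNat 2, Int.ofNat 0],
  [Int.negSucc 0, Int.ofNat 1, Int.negSucc 0, Int.negSucc 0, Int.negSucc 2, Int.negSucc 0, Int.ofNat 1, Int.negSucc 0, Int.ofNat 1, Int.ofNat 1, Int.ofNat 1, Int.ofNat 1, Int.ofNat 1, Int.negSucc 0, Int.negSucc 0, Int.ofNat 1, Int.negSucc 0, Int.ofNat 1, Int.negSucc 0, Int.ofNat 1, Int.negSucc 0, Int.ofNat 1, Int.negSucc 0, Int.negSucc 0],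
  [Int.negSucc 0, Int.ofNat 1, Int.ofNat 1, Int.negSucc 0, Int.negSucc 2, Int.ofNat 1, Int.negSucc 0, Int.negSucc 0, Int.ofNat 1, Int.negSucc 0, Int.negSucc 0, Int.ofNat 1, Int.ofNat 1, Int.negSucc 0, Int.negSucc 0, Int.negSucc 0, Int.negSucc 0, Int.ofNat 1, Int.ofNat 1, Int.ofNat 1, Int.negSucc 0, Int.ofNat 1, Int.ofNat 1, Int.negSucc 0],
  [Int.ofNat 1, Int.ofNat 1, Int.negSucc 0, Int.ofNat 1, Int.ofNat 1, Int.negSucc 0, Int.ofNat 1, Int.negSucc 0, Int.negSucc 0, Int.ofNat 1, Int.negSucc 0, Int.ofNat 1, Int.negSucc 0, Int.negSucc 0, Int.negSucc 0, Int.negSucc 2, Int.ofNat 1, Int.ofNat 1, Int.ofNat 1, Int.ofNat 1, Int.negSucc 0, Int.negSucc 0, Int.negSucc 0, Int.negSucc 0],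
  [Int.ofNat 1, Int.ofNat 1, Int.ofNat 1, Int.ofNat 1, Int.ofNat 1, Int.ofNat 1, Int.negSucc 0, Int.negSucc 0, Int.negSucc 0, Int.negSucc 0, Int.ofNat 1, Int.ofNat 1, Int.negSucc 0, Int.negSucc 0, Int.negSucc 0, Int.ofNat 3, Int.ofNat 1, Int.ofNat 1, Int.negSucc 0, Int.ofNat 1, Int.negSucc 0, Int.negSucc 0, Int.ofNat 1, Int.negSucc 0],
  [Int.ofNat 0, Int.ofNat 0, Int.ofNat 0, Int.ofNat 0, Int.ofNat 0, Int.ofNat 0, Int.ofNat 0, Int.ofNat 0, Int.ofNat 0, Int.negSucc 1, Int.ofNat 0, Int.ofNat 2, Int.ofNat 0, Int.negSucc 1, Int.negSucc 1, Int.ofNat 2, Int.ofNat 0, Int.ofNat 0, Int.ofNat 0, Int.ofNat 2, Int.negSucc 1, Int.ofNat 0, Int.ofNat 0, Int.ofNat 2],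
  [Int.ofNat 0, Int.ofNat 0, Int.ofNat 0, Int.ofNat 0, Int.ofNat 0, Int.ofNat 0, Int.ofNat 0, Int.ofNat 0, Int.ofNat 0, Int.ofNat 0, Int.ofNat 0, Int.ofNat 2, Int.ofNat 0, Int.negSucc 1, Int.ofNat 0, Int.ofNat 2, Int.negSucc 1, Int.ofNat 2, Int.ofNat 0, Int.ofNat 0, Int.ofNat 0, Int.negSucc 1, Int.negSucc 1, Int.ofNat 2],
  [Int.ofNat 1, Int.ofNat 1, Int.ofNat 1, Int.negSucc 0, Int.ofNat 3, Int.negSucc 0, Int.ofNat 1, Int.ofNat 1, Int.negSucc 0, Int.negSucc 0, Int.negSucc 0, Int.ofNat 1, Int.negSucc 0, Int.ofNat 1, Int.negSucc 0, Int.ofNat 1, Int.ofNat 1, Int.ofNat 1, Int.negSucc 0, Int.ofNat 1, Int.negSucc 0, Int.negSucc 0, Int.ofNat 1, Int.negSucc 0],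
  [Int.negSucc 0, Int.negSucc 0, Int.ofNat 1, Int.ofNat 1, Int.ofNat 1, Int.ofNat 1, Int.negSucc 0, Int.ofNat 3, Int.negSucc 0, Int.ofNat 1, Int.ofNat 1, Int.negSucc 0, Int.negSucc 0, Int.negSucc 0, Int.ofNat 1, Int.negSucc 0, Int.ofNat 1, Int.negSucc 0, Int.ofNat 1, Int.ofNat 1, Int.ofNat 1, Int.negSucc 0, Int.ofNat 1, Int.negSucc 0],
  [Int.ofNat 0, Int.ofNat 0, Int.negSucc 1, Int.ofNat 0, Int.ofNat 0, Int.ofNat 0, Int.negSucc 1, Int.ofNat 2, Int.ofNat 0, Int.ofNat 0, Int.ofNat 0, Int.ofNat 0, Int.ofNat 0, Int.negSucc 1, Int.ofNat 0, Int.negSucc 1, Int.ofNat 0, Int.negSucc 1, Int.ofNat 2, Int.ofNat 0, Int.ofNat 0, Int.negSucc 1, Int.ofNat 0, Int.ofNat 0],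
  [Int.ofNat 0, Int.negSucc 1, Int.ofNat 0, Int.ofNat 0, Int.ofNat 0, Int.negSucc 1, Int.ofNat 2, Int.ofNat 0, Int.ofNat 0, Int.ofNat 0, Int.ofNat 0, Int.ofNat 0, Int.negSucc 1, Int.ofNat 0, Int.negSucc 1, Int.ofNat 0, Int.negSucc 1, Int.ofNat 2, Int.ofNat 0, Int.ofNat 0, Int.negSucc 1, Int.ofNat 0, Int.ofNat 0, Int.ofNat 0],
  [Int.ofNat 0, Int.negSucc 1, Int.ofNat 0, Int.ofNat 0, Int.ofNat 0, Int.negSucc 1, Int.ofNat 2, Int.ofNat 0, Int.ofNat 0, Int.ofNat 0, Int.ofNat 0, Int.ofNat 0, Int.negSucc 1, Int.ofNat 0, Int.negSucc 1, Int.ofNat 0, Int.negSucc 1, Int.ofNat 2, Int.ofNat 0, Int.ofNat 0, Int.negSucc 1, Int.ofNat 0, Int.ofNat 0, Int.ofNat 0],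
  [Int.ofNat 0, Int.ofNat 2, Int.ofNat 0, Int.ofNat 0, Int.ofNat 0, Int.negSucc 1, Int.negSucc 1, Int.ofNat 0, Int.ofNat 0, Int.ofNat 0, Int.ofNat 0, Int.ofNat 0, Int.ofNat 2, Int.ofNat 0, Int.negSucc 1, Int.ofNat 0, Int.ofNat 2, Int.ofNat 2, Int.ofNat 0, Int.ofNat 0, Int.negSucc 1, Int.ofNat 0, Int.ofNat 0, Int.ofNat 0],
  [Int.ofNat 0, Int.ofNat 0, Int.ofNat 0, Int.ofNat 0, Int.ofNat 2, Int.ofNat 0, Int.ofNat 0, Int.ofNat 0, Int.negSucc 1, Int.negSucc 1, Int.ofNat 2, Int.ofNat 0, Int.ofNat 0, Int.ofNat 0, Int.ofNat 0, Int.ofNat 0, Int.ofNat 0, Int.ofNat 0, Int.negSucc 1, Int.negSucc 1, Int.ofNat 0, Int.ofNat 2, Int.ofNat 2, Int.ofNat 0],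
  [Int.ofNat 0, Int.ofNat 0, Int.ofNat 0, Int.ofNat 0, Int.ofNat 2, Int.ofNat 0, Int.ofNat 0, Int.ofNat 0, Int.negSucc 1, Int.ofNat 2, Int.negSucc 1, Int.ofNat 0, Int.ofNat 0, Int.ofNat 0, Int.ofNat 0, Int.ofNat 0, Int.ofNat 0, Int.ofNat 0, Int.ofNat 2, Int.negSucc 1, Int.ofNat 0, Int.negSucc 1, Int.ofNat 2, Int.ofNat 0],
  [Int.ofNat 2, Int.ofNat 0, Int.ofNat 0, Int.ofNat 0, Int.ofNat 0, Int.ofNat 2, Int.ofNat 0, Int.ofNat 0, Int.ofNat 0, Int.negSucc 1, Int.ofNat 2, Int.negSucc 1, Int.ofNat 0, Int.ofNat 0, Int.ofNat 0, Int.ofNat 0, Int.ofNat 0, Int.ofNat 0, Int.ofNat 0, Int.ofNat 2, Int.negSucc 1, Int.ofNat 0, Int.negSucc 1, Int.ofNat 0],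
  [Int.negSucc 0, Int.ofNat 1, Int.ofNat 1, Int.negSucc 0, Int.ofNat 1, Int.ofNat 1, Int.negSucc 0, Int.negSucc 0, Int.ofNat 1, Int.negSucc 0, Int.ofNat 3, Int.negSucc 0, Int.ofNat 1, Int.ofNat 1, Int.negSucc 0, Int.ofNat 1, Int.ofNat 1, Int.negSucc 0, Int.ofNat 1, Int.ofNat 1, Int.negSucc 0, Int.negSucc 0, Int.negSucc 0, Int.ofNat 1],
  [Int.negSucc 0, Int.ofNat 1, Int.ofNat 1, Int.negSucc 0, Int.negSucc 0, Int.ofNat 1, Int.negSucc 0, Int.ofNat 3, Int.negSucc 0, Int.ofNat 1, Int.ofNat 1, Int.negSucc 0, Int.ofNat 1, Int.ofNat 1, Int.negSucc 0, Int.ofNat 1, Int.ofNat 1, Int.negSucc 0, Int.negSucc 0, Int.negSucc 0, Int.negSucc 0, Int.ofNat 1, Int.ofNat 1, Int.ofNat 1],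
  [Int.ofNat 2, Int.ofNat 0, Int.ofNat 0, Int.ofNat 0, Int.negSucc 1, Int.ofNat 2, Int.negSucc 1, Int.ofNat 2, Int.ofNat 0, Int.ofNat 0, Int.ofNat 0, Int.ofNat 0, Int.ofNat 2, Int.ofNat 0, Int.ofNat 0, Int.ofNat 0, Int.ofNat 0, Int.ofNat 0, Int.ofNat 0, Int.negSucc 1, Int.negSucc 1, Int.ofNat 0, Int.ofNat 0, Int.ofNat 0],
  [Int.ofNat 2, Int.negSucc 1, Int.negSucc 1, Int.ofNat 0, Int.ofNat 0, Int.ofNat 2, Int.ofNat 0, Int.ofNat 0, Int.ofNat 2, Int.ofNat 0, Int.negSucc 1, Int.ofNat 0, Int.ofNat 0, Int.ofNat 0, Int.ofNat 0, Int.ofNat 0, Int.ofNat 0, Int.ofNat 0, Int.ofNat 0, Int.ofNat 0, Int.ofNat 0, Int.ofNat 2, Int.negSucc 1, Int.ofNat 0],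
  [Int.negSucc 2, Int.ofNat 1, Int.ofNat 1, Int.negSucc 0, Int.ofNat 1, Int.ofNat 1, Int.negSucc 0, Int.negSucc 0, Int.ofNat 1, Int.ofNat 1, Int.negSucc 0, Int.negSucc 0, Int.negSucc 0, Int.ofNat 1, Int.negSucc 0, Int.ofNat 1, Int.ofNat 1, Int.negSucc 0, Int.negSucc 0, Int.negSucc 0, Int.ofNat 1, Int.ofNat 1, Int.negSucc 0, Int.negSucc 0],
  [Int.negSucc 2, Int.ofNat 1, Int.negSucc 0, Int.negSucc 0, Int.ofNat 1, Int.negSucc 0, Int.ofNat 1, Int.negSucc 0, Int.ofNat 1, Int.negSucc 0, Int.ofNat 1, Int.negSucc 0, Int.negSucc 0, Int.ofNat 1, Int.negSucc 0, Int.negSucc 0, Int.ofNat 1, Int.negSucc 0, Int.ofNat 1, Int.negSucc 0, Int.ofNat 1, Int.ofNat 1, Int.ofNat 1, Int.negSucc 0],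
  [Int.ofNat 1, Int.ofNat 1, Int.negSucc 2, Int.negSucc 0, Int.negSucc 0, Int.ofNat 1, Int.ofNat 1, Int.negSucc 0, Int.negSucc 0, Int.negSucc 0, Int.ofNat 1, Int.ofNat 1, Int.negSucc 0, Int.negSucc 0, Int.ofNat 1, Int.ofNat 1, Int.negSucc 0, Int.ofNat 1, Int.negSucc 0, Int.negSucc 0, Int.ofNat 1, Int.negSucc 0, Int.ofNat 1, Int.negSucc 0],
  [Int.ofNat 1, Int.ofNat 1, Int.ofNat 3, Int.negSucc 0, Int.negSucc 0, Int.negSucc 0, Int.negSucc 0, Int.negSucc 0, Int.negSucc 0, Int.ofNat 1, Int.negSucc 0, Int.ofNat 1, Int.negSucc 0, Int.negSucc 0, Int.ofNat 1, Int.negSucc 0, Int.negSucc 0, Int.ofNat 1, Int.ofNat 1, Int.negSucc 0, Int.ofNat 1, Int.negSucc 0, Int.negSucc 0, Int.negSucc 0],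
  [Int.ofNat 1, Int.ofNat 1, Int.negSucc 0, Int.negSucc 0, Int.ofNat 1, Int.negSucc 0, Int.ofNat 1, Int.ofNat 1, Int.negSucc 0, Int.ofNat 1, Int.negSucc 0, Int.ofNat 1, Int.negSucc 0, Int.ofNat 1, Int.ofNat 1, Int.negSucc 0, Int.ofNat 1, Int.ofNat 1, Int.ofNat 1, Int.ofNat 1, Int.ofNat 1, Int.ofNat 1, Int.ofNat 1, Int.ofNat 3],
  [Int.ofNat 1, Int.ofNat 1, Int.ofNat 1, Int.negSucc 0, Int.negSucc 0, Int.ofNat 1, Int.ofNat 1, Int.negSucc 0, Int.ofNat 1, Int.negSucc 0, Int.ofNat 1, Int.ofNat 1, Int.negSucc 0, Int.ofNat 1, Int.ofNat 1, Int.negSucc 0, Int.ofNat 1, Int.ofNat 1, Int.ofNat 1, Int.ofNat 1, Int.negSucc 0, Int.ofNat 1, Int.ofNat 1, Int.ofNat 3],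
  [Int.ofNat 2, Int.ofNat 2, Int.ofNat 2, Int.negSucc 1, Int.negSucc 1, Int.ofNat 0, Int.ofNat 0, Int.negSucc 1, Int.ofNat 0, Int.ofNat 0, Int.ofNat 2, Int.ofNat 0, Int.negSucc 1, Int.ofNat 0, Int.ofNat 0, Int.ofNat 0, Int.ofNat 0, Int.ofNat 0, Int.ofNat 0, Int.ofNat 0, Int.ofNat 0, Int.ofNat 0, Int.ofNat 0, Int.ofNat 0],
  [Int.ofNat 0, Int.ofNat 0, Int.ofNat 0, Int.ofNat 2, Int.ofNat 2, Int.ofNat 2, Int.negSucc 1, Int.negSucc 1, Int.ofNat 0, Int.ofNat 0, Int.negSucc 1, Int.ofNat 0, Int.ofNat 0, Int.ofNat 2, Int.ofNat 0, Int.negSucc 1, Int.ofNat 0, Int.ofNat 0, Int.ofNat 0, Int.ofNat 0, Int.ofNat 0, Int.ofNat 0, Int.ofNat 0, Int.ofNat 0],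
  [Int.ofNat 0, Int.ofNat 0, Int.ofNat 0, Int.ofNat 0, Int.ofNat 0, Int.ofNat 0, Int.ofNat 0, Int.ofNat 0, Int.ofNat 0, Int.ofNat 2, Int.ofNat 0, Int.ofNat 0, Int.ofNat 0, Int.ofNat 0, Int.negSucc 1, Int.ofNat 0, Int.negSucc 1, Int.negSucc 1, Int.ofNat 0, Int.ofNat 2, Int.ofNat 2, Int.ofNat 2, Int.negSucc 1, Int.ofNat 0],
  [Int.ofNat 0, Int.ofNat 0, Int.ofNat 0, Int.ofNat 0, Int.ofNat 0, Int.ofNat 0, Int.ofNat 0, Int.ofNat 0, Int.ofNat 2, Int.ofNat 0, Int.ofNat 0, Int.ofNat 0, Int.ofNat 0, Int.negSucc 1, Int.ofNat 0, Int.negSucc 1, Int.negSucc 1, Int.ofNat 0, Int.ofNat 2, Int.ofNat 2, Int.ofNat 2, Int.negSucc 1, Int.ofNat 0, Int.ofNat 0],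
  [Int.ofNat 0, Int.ofNat 0, Int.ofNat 0, Int.ofNat 0, Int.ofNat 0, Int.ofNat 0, Int.ofNat 0, Int.ofNat 0, Int.ofNat 2, Int.ofNat 0, Int.ofNat 0, Int.ofNat 0, Int.ofNat 0, Int.negSucc 1, Int.ofNat 0, Int.negSucc 1, Int.negSucc 1, Int.ofNat 0, Int.negSucc 1, Int.ofNat 2, Int.ofNat 2, Int.ofNat 2, Int.ofNat 0, Int.ofNat 0],
  [Int.ofNat 0, Int.ofNat 0, Int.ofNat 0, Int.ofNat 0, Int.ofNat 0, Int.ofNat 0, Int.ofNat 0, Int.ofNat 0, Int.negSucc 1, Int.ofNat 0, Int.ofNat 0, Int.ofNat 0, Int.ofNat 0, Int.ofNat 2, Int.ofNat 0, Int.negSucc 1, Int.ofNat 2, Int.ofNat 0, Int.ofNat 2, Int.ofNat 2, Int.ofNat 2, Int.ofNat 2, Int.ofNat 0, Int.ofNat 0],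
  [Int.ofNat 0, Int.ofNat 0, Int.ofNat 0, Int.negSucc 1, Int.ofNat 0, Int.ofNat 0, Int.ofNat 2, Int.ofNat 2, Int.ofNat 2, Int.ofNat 0, Int.ofNat 2, Int.ofNat 0, Int.ofNat 2, Int.ofNat 0, Int.ofNat 2, Int.ofNat 0, Int.ofNat 0, Int.ofNat 0, Int.ofNat 0, Int.ofNat 0, Int.negSucc 1, Int.ofNat 0, Int.ofNat 0, Int.ofNat 0],
  [Int.ofNat 0, Int.ofNat 0, Int.ofNat 0, Int.negSucc 1, Int.ofNat 0, Int.ofNat 0, Int.ofNat 2, Int.negSucc 1, Int.ofNat 2, Int.ofNat 0, Int.negSucc 1, Int.ofNat 0, Int.ofNat 2, Int.ofNat 0, Int.ofNat 2, Int.ofNat 0, Int.ofNat 0, Int.ofNat 0, Int.ofNat 0, Int.ofNat 0, Int.negSucc 1, Int.ofNat 0, Int.ofNat 0, Int.ofNat 0],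
  [Int.ofNat 0, Int.ofNat 0, Int.ofNat 0, Int.ofNat 0, Int.negSucc 1, Int.ofNat 0, Int.ofNat 0, Int.ofNat 2, Int.negSucc 1, Int.ofNat 2, Int.ofNat 0, Int.negSucc 1, Int.ofNat 0, Int.ofNat 2, Int.ofNat 0, Int.ofNat 2, Int.ofNat 0, Int.ofNat 0, Int.ofNat 0, Int.ofNat 0, Int.ofNat 0, Int.negSucc 1, Int.ofNat 0, Int.ofNat 0],
  [Int.ofNat 0, Int.ofNat 0, Int.ofNat 0, Int.ofNat 0, Int.negSucc 1, Int.ofNat 0, Int.ofNat 0, Int.ofNat 2, Int.ofNat 0, Int.ofNat 0, Int.negSucc 1, Int.ofNat 0, Int.ofNat 2, Int.ofNat 2, Int.ofNat 0, Int.ofNat 0, Int.ofNat 0, Int.ofNat 0, Int.ofNat 2, Int.ofNat 0, Int.negSucc 1, Int.negSucc 1, Int.ofNat 0, Int.ofNat 0],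
  [Int.ofNat 0, Int.negSucc 1, Int.ofNat 0, Int.ofNat 0, Int.ofNat 2, Int.ofNat 0, Int.ofNat 0, Int.negSucc 1, Int.ofNat 0, Int.ofNat 2, Int.ofNat 2, Int.ofNat 0, Int.ofNat 0, Int.ofNat 0, Int.ofNat 0, Int.ofNat 2, Int.ofNat 0, Int.negSucc 1, Int.negSucc 1, Int.ofNat 0, Int.ofNat 0, Int.ofNat 0, Int.ofNat 0, Int.ofNat 0],
  [Int.negSucc 0, Int.ofNat 1, Int.negSucc 0, Int.ofNat 1, Int.ofNat 1, Int.ofNat 1, Int.ofNat 1, Int.negSucc 0, Int.ofNat 1, Int.negSucc 0, Int.negSucc 0, Int.ofNat 1, Int.ofNat 1, Int.negSucc 0, Int.ofNat 1, Int.negSucc 0, Int.negSucc 0, Int.negSucc 0, Int.negSucc 0, Int.ofNat 1, Int.negSucc 2, Int.ofNat 1, Int.negSucc 0, Int.negSucc 0],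
  [Int.negSucc 0, Int.ofNat 1, Int.ofNat 1, Int.ofNat 1, Int.negSucc 0, Int.negSucc 0, Int.negSucc 0, Int.negSucc 0, Int.ofNat 1, Int.negSucc 0, Int.negSucc 2, Int.negSucc 0, Int.negSucc 0, Int.negSucc 0, Int.negSucc 0, Int.negSucc 0, Int.ofNat 1, Int.ofNat 1, Int.ofNat 1, Int.ofNat 1, Int.ofNat 1, Int.ofNat 1, Int.ofNat 1, Int.negSucc 0],
  [Int.ofNat 1, Int.negSucc 0, Int.negSucc 0, Int.ofNat 1, Int.negSucc 0, Int.negSucc 0, Int.negSucc 0, Int.negSucc 0, Int.ofNat 1, Int.ofNat 1, Int.negSucc 0, Int.negSucc 0, Int.negSucc 0, Int.negSucc 0, Int.negSucc 0, Int.ofNat 1, Int.ofNat 1, Int.ofNat 1, Int.ofNat 1, Int.ofNat 1, Int.ofNat 3, Int.ofNat 1, Int.ofNat 1, Int.ofNat 1],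
  [Int.ofNat 1, Int.negSucc 0, Int.ofNat 1, Int.ofNat 1, Int.negSucc 0, Int.ofNat 1, Int.ofNat 1, Int.negSucc 0, Int.ofNat 1, Int.negSucc 0, Int.ofNat 1, Int.negSucc 0, Int.negSucc 0, Int.negSucc 0, Int.negSucc 0, Int.negSucc 0, Int.ofNat 1, Int.ofNat 1, Int.negSucc 0, Int.ofNat 1, Int.ofNat 3, Int.ofNat 1, Int.negSucc 0, Int.ofNat 1],
  [Int.negSucc 0, Int.negSucc 0, Int.ofNat 1, Int.ofNat 1, Int.ofNat 1, Int.ofNat 3, Int.ofNat 1, Int.negSucc 0, Int.negSucc 0, Int.ofNat 1, Int.ofNat 1, Int.ofNat 1, Int.negSucc 0, Int.negSucc 0, Int.ofNat 1, Int.negSucc 0, Int.negSucc 0, Int.negSucc 0, Int.ofNat 1, Int.negSucc 0, Int.negSucc 0, Int.ofNat 1, Int.ofNat 1, Int.ofNat 1],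
  [Int.negSucc 0, Int.negSucc 0, Int.negSucc 0, Int.ofNat 1, Int.ofNat 1, Int.negSucc 2, Int.negSucc 0, Int.negSucc 0, Int.negSucc 0, Int.negSucc 0, Int.negSucc 0, Int.ofNat 1, Int.negSucc 0, Int.negSucc 0, Int.ofNat 1, Int.ofNat 1, Int.negSucc 0, Int.negSucc 0, Int.negSucc 0, Int.negSucc 0, Int.negSucc 0, Int.ofNat 1, Int.negSucc 0, Int.ofNat 1],
  [Int.ofNat 0, Int.ofNat 0, Int.ofNat 0, Int.ofNat 2, Int.ofNat 2, Int.negSucc 1, Int.ofNat 0, Int.ofNat 0, Int.ofNat 0, Int.ofNat 0, Int.ofNat 0, Int.ofNat 2, Int.ofNat 0, Int.ofNat 0, Int.ofNat 2, Int.ofNat 2, Int.ofNat 0, Int.ofNat 0, Int.ofNat 0, Int.ofNat 0, Int.ofNat 0, Int.ofNat 2, Int.ofNat 0, Int.negSucc 1],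
  [Int.ofNat 0, Int.ofNat 0, Int.ofNat 0, Int.ofNat 2, Int.ofNat 0, Int.ofNat 2, Int.ofNat 0, Int.negSucc 1, Int.ofNat 0, Int.ofNat 0, Int.ofNat 0, Int.ofNat 0, Int.ofNat 0, Int.ofNat 0, Int.ofNat 0, Int.ofNat 2, Int.ofNat 0, Int.ofNat 2, Int.ofNat 2, Int.ofNat 0, Int.ofNat 0, Int.ofNat 0, Int.ofNat 2, Int.negSucc 1],
  [Int.negSucc 0, Int.negSucc 0, Int.negSucc 0, Int.negSucc 0, Int.negSucc 0, Int.negSucc 0, Int.ofNat 1, Int.negSucc 0, Int.negSucc 0, Int.negSucc 0, Int.negSucc 0, Int.negSucc 0, Int.negSucc 0, Int.negSucc 0, Int.negSucc 2, Int.ofNat 1, Int.negSucc 0, Int.negSucc 0, Int.ofNat 1, Int.ofNat 1, Int.negSucc 0, Int.ofNat 1, Int.ofNat 1, Int.ofNat 1],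
  [Int.negSucc 0, Int.ofNat 1, Int.ofNat 1, Int.negSucc 0, Int.negSucc 0, Int.negSucc 0, Int.negSucc 0, Int.negSucc 0, Int.negSucc 0, Int.ofNat 1, Int.negSucc 0, Int.negSucc 0, Int.negSucc 0, Int.negSucc 0, Int.negSucc 0, Int.negSucc 0, Int.negSucc 0, Int.negSucc 2, Int.ofNat 1, Int.negSucc 0, Int.negSucc 0, Int.ofNat 1, Int.ofNat 1, Int.ofNat 1],
  [Int.ofNat 2, Int.ofNat 0, Int.ofNat 0, Int.ofNat 2, Int.ofNat 0, Int.ofNat 2, Int.ofNat 0, Int.ofNat 0, Int.ofNat 0, Int.ofNat 2, Int.ofNat 0, Int.ofNat 0, Int.ofNat 0, Int.ofNat 0, Int.ofNat 2, Int.ofNat 0, Int.ofNat 0, Int.ofNat 0, Int.ofNat 2, Int.ofNat 0, Int.ofNat 0, Int.ofNat 2, Int.ofNat 2, Int.ofNat 0],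
  [Int.ofNat 0, Int.ofNat 0, Int.ofNat 2, Int.ofNat 0, Int.ofNat 2, Int.ofNat 0, Int.ofNat 0, Int.ofNat 0, Int.ofNat 2, Int.ofNat 0, Int.ofNat 0, Int.ofNat 0, Int.ofNat 0, Int.ofNat 2, Int.ofNat 0, Int.ofNat 0, Int.ofNat 0, Int.ofNat 2, Int.ofNat 0, Int.ofNat 0, Int.ofNat 2, Int.ofNat 2, Int.ofNat 2, Int.ofNat 0],
  [Int.ofNat 0, Int.ofNat 0, Int.negSucc 1, Int.ofNat 0, Int.ofNat 2, Int.ofNat 0, Int.ofNat 0, Int.ofNat 0, Int.ofNat 2, Int.ofNat 0, Int.ofNat 0, Int.ofNat 0, Int.ofNat 0, Int.ofNat 2, Int.ofNat 0, Int.ofNat 0, Int.ofNat 0, Int.ofNat 2, Int.ofNat 0, Int.ofNat 0, Int.ofNat 2, Int.negSucc 1, Int.ofNat 2, Int.ofNat 0],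
  [Int.ofNat 0, Int.ofNat 0, Int.ofNat 2, Int.ofNat 0, Int.negSucc 1, Int.ofNat 0, Int.ofNat 0, Int.ofNat 0, Int.negSucc 1, Int.ofNat 0, Int.ofNat 0, Int.ofNat 0, Int.ofNat 0, Int.negSucc 1, Int.ofNat 0, Int.ofNat 0, Int.ofNat 0, Int.ofNat 2, Int.ofNat 0, Int.ofNat 0, Int.ofNat 2, Int.negSucc 1, Int.ofNat 2, Int.ofNat 0],
  [Int.ofNat 0, Int.ofNat 2, Int.ofNat 0, Int.ofNat 0, Int.ofNat 2, Int.ofNat 0, Int.ofNat 0, Int.negSucc 1, Int.ofNat 2, Int.ofNat 0, Int.ofNat 0, Int.ofNat 2, Int.negSucc 1, Int.ofNat 0, Int.ofNat 0, Int.ofNat 0, Int.ofNat 0, Int.negSucc 1, Int.ofNat 0, Int.ofNat 0, Int.negSucc 1, Int.ofNat 0, Int.ofNat 0, Int.ofNat 0],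
  [Int.ofNat 0, Int.ofNat 2, Int.ofNat 0, Int.ofNat 0, Int.ofNat 2, Int.ofNat 0, Int.ofNat 0, Int.ofNat 2, Int.ofNat 2, Int.ofNat 0, Int.ofNat 0, Int.negSucc 1, Int.negSucc 1, Int.ofNat 0, Int.ofNat 0, Int.ofNat 0, Int.ofNat 0, Int.negSucc 1, Int.ofNat 0, Int.ofNat 0, Int.negSucc 1, Int.ofNat 0, Int.ofNat 0, Int.ofNat 0],
  [Int.ofNat 0, Int.ofNat 0, Int.ofNat 2, Int.ofNat 0, Int.ofNat 0, Int.ofNat 2, Int.ofNat 0, Int.ofNat 0, Int.ofNat 2, Int.ofNat 2, Int.ofNat 0, Int.ofNat 0, Int.negSucc 1, Int.negSucc 1, Int.ofNat 0, Int.ofNat 0, Int.ofNat 0, Int.ofNat 0, Int.negSucc 1, Int.ofNat 0, Int.ofNat 0, Int.negSucc 1, Int.ofNat 0, Int.ofNat 0],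
  [Int.ofNat 1, Int.ofNat 1, Int.negSucc 0, Int.negSucc 0, Int.ofNat 1, Int.ofNat 1, Int.ofNat 1, Int.ofNat 1, Int.ofNat 3, Int.ofNat 1, Int.negSucc 0, Int.ofNat 1, Int.negSucc 0, Int.negSucc 0, Int.negSucc 0, Int.negSucc 0, Int.ofNat 1, Int.negSucc 0, Int.negSucc 0, Int.ofNat 1, Int.negSucc 0, Int.negSucc 0, Int.ofNat 1, Int.ofNat 1],
  [Int.negSucc 0, Int.ofNat 1, Int.ofNat 1, Int.ofNat 1, Int.ofNat 1, Int.ofNat 3, Int.ofNat 1, Int.negSucc 0, Int.ofNat 1, Int.negSucc 0, Int.negSucc 0, Int.negSucc 0, Int.negSucc 0, Int.ofNat 1, Int.negSucc 0, Int.negSucc 0, Int.ofNat 1, Int.negSucc 0, Int.negSucc 0, Int.ofNat 1, Int.ofNat 1, Int.ofNat 1, Int.negSucc 0, Int.ofNat 1],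
  [Int.ofNat 2, Int.ofNat 0, Int.ofNat 0, Int.ofNat 0, Int.ofNat 0, Int.ofNat 2, Int.ofNat 0, Int.negSucc 1, Int.ofNat 2, Int.ofNat 0, Int.ofNat 0, Int.ofNat 0, Int.ofNat 0, Int.ofNat 0, Int.negSucc 1, Int.ofNat 0, Int.ofNat 0, Int.negSucc 1, Int.ofNat 0, Int.ofNat 0, Int.ofNat 2, Int.ofNat 0, Int.negSucc 1, Int.ofNat 0],
  [Int.ofNat 2, Int.ofNat 0, Int.ofNat 0, Int.ofNat 0, Int.ofNat 0, Int.negSucc 1, Int.ofNat 0, Int.ofNat 0, Int.ofNat 0, Int.ofNat 0, Int.ofNat 2, Int.negSucc 1, Int.ofNat 0, Int.ofNat 0, Int.negSucc 1, Int.ofNat 0, Int.ofNat 2, Int.negSucc 1, Int.ofNat 0, Int.ofNat 0, Int.ofNat 0, Int.ofNat 2, Int.ofNat 0, Int.ofNat 0],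
  [Int.negSucc 0, Int.ofNat 1, Int.ofNat 1, Int.ofNat 3, Int.negSucc 0, Int.ofNat 1, Int.negSucc 0, Int.negSucc 0, Int.ofNat 1, Int.negSucc 0, Int.ofNat 1, Int.negSucc 0, Int.ofNat 1, Int.negSucc 0, Int.ofNat 1, Int.negSucc 0, Int.ofNat 1, Int.ofNat 1, Int.ofNat 1, Int.negSucc 0, Int.negSucc 0, Int.ofNat 1, Int.negSucc 0, Int.ofNat 1],
  [Int.negSucc 0, Int.ofNat 1, Int.negSucc 0, Int.ofNat 3, Int.negSucc 0, Int.negSucc 0, Int.ofNat 1, Int.negSucc 0, Int.ofNat 1, Int.ofNat 1, Int.negSucc 0, Int.negSucc 0, Int.ofNat 1, Int.negSucc 0, Int.ofNat 1, Int.ofNat 1, Int.ofNat 1, Int.ofNat 1, Int.negSucc 0, Int.negSucc 0, Int.negSucc 0, Int.ofNat 1, Int.ofNat 1, Int.ofNat 1],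
  [Int.ofNat 1, Int.ofNat 1, Int.negSucc 0, Int.negSucc 0, Int.ofNat 1, Int.negSucc 0, Int.ofNat 1, Int.ofNat 1, Int.ofNat 1, Int.negSucc 0, Int.ofNat 1, Int.ofNat 1, Int.ofNat 1, Int.negSucc 0, Int.ofNat 1, Int.negSucc 0, Int.negSucc 0, Int.negSucc 0, Int.negSucc 0, Int.ofNat 1, Int.negSucc 0, Int.ofNat 3, Int.negSucc 0, Int.ofNat 1],
  [Int.ofNat 1, Int.ofNat 1, Int.ofNat 1, Int.negSucc 0, Int.ofNat 1, Int.ofNat 1, Int.negSucc 0, Int.ofNat 1, Int.ofNat 1, Int.ofNat 1, Int.negSucc 0, Int.ofNat 1, Int.ofNat 1, Int.negSucc 0, Int.ofNat 1, Int.ofNat 1, Int.negSucc 0, Int.negSucc 0, Int.ofNat 1, Int.ofNat 1, Int.negSucc 0, Int.ofNat 3, Int.ofNat 1, Int.ofNat 1],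
  [Int.ofNat 1, Int.ofNat 1, Int.ofNat 1, Int.negSucc 0, Int.ofNat 1, Int.ofNat 1, Int.negSucc 2, Int.negSucc 0, Int.negSucc 0, Int.ofNat 1, Int.negSucc 0, Int.negSucc 0, Int.negSucc 0, Int.negSucc 0, Int.ofNat 1, Int.ofNat 1, Int.negSucc 0, Int.negSucc 0, Int.negSucc 0, Int.negSucc 0, Int.negSucc 0, Int.ofNat 1, Int.ofNat 1, Int.ofNat 1],
  [Int.ofNat 1, Int.negSucc 0, Int.negSucc 2, Int.negSucc 0, Int.ofNat 1, Int.ofNat 1, Int.ofNat 1, Int.ofNat 1, Int.negSucc 0, Int.negSucc 0, Int.negSucc 0, Int.negSucc 0, Int.negSucc 0, Int.ofNat 1, Int.negSucc 0, Int.ofNat 1, Int.negSucc 0, Int.negSucc 0, Int.ofNat 1, Int.ofNat 1, Int.negSucc 0, Int.negSucc 0, Int.ofNat 1, Int.ofNat 1],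
  [Int.negSucc 1, Int.ofNat 0, Int.ofNat 2, Int.ofNat 0, Int.ofNat 0, Int.ofNat 2, Int.ofNat 0, Int.ofNat 0, Int.ofNat 0, Int.ofNat 0, Int.ofNat 0, Int.ofNat 0, Int.ofNat 0, Int.ofNat 0, Int.ofNat 0, Int.ofNat 2, Int.negSucc 1, Int.ofNat 0, Int.ofNat 2, Int.ofNat 0, Int.ofNat 0, Int.negSucc 1, Int.ofNat 0, Int.negSucc 1],
  [Int.ofNat 0, Int.negSucc 1, Int.ofNat 0, Int.negSucc 1, Int.ofNat 0, Int.ofNat 2, Int.ofNat 0, Int.ofNat 0, Int.ofNat 2, Int.ofNat 0, Int.ofNat 0, Int.ofNat 0, Int.ofNat 0, Int.ofNat 0, Int.ofNat 0, Int.ofNat 0, Int.ofNat 0, Int.ofNat 0, Int.ofNat 2, Int.negSucc 1, Int.ofNat 0, Int.ofNat 2, Int.ofNat 0, Int.negSucc 1],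
  [Int.negSucc 1, Int.ofNat 0, Int.negSucc 1, Int.negSucc 1, Int.ofNat 0, Int.ofNat 2, Int.ofNat 0, Int.ofNat 0, Int.ofNat 0, Int.ofNat 0, Int.ofNat 0, Int.negSucc 1, Int.negSucc 1, Int.ofNat 0, Int.ofNat 0, Int.ofNat 0, Int.ofNat 0, Int.ofNat 0, Int.ofNat 0, Int.negSucc 1, Int.ofNat 0, Int.ofNat 2, Int.ofNat 0, Int.ofNat 0],
  [Int.ofNat 0, Int.negSucc 1, Int.negSucc 1, Int.ofNat 0, Int.ofNat 2, Int.ofNat 0, Int.ofNat 0, Int.ofNat 0, Int.ofNat 0, Int.ofNat 0, Int.negSucc 1, Int.negSucc 1, Int.ofNat 0, Int.ofNat 0, Int.ofNat 0, Int.ofNat 0, Int.ofNat 0, Int.ofNat 0, Int.negSucc 1, Int.ofNat 0, Int.ofNat 2, Int.ofNat 0, Int.negSucc 1, Int.ofNat 0],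
  [Int.ofNat 0, Int.negSucc 1, Int.ofNat 2, Int.ofNat 0, Int.ofNat 2, Int.ofNat 0, Int.ofNat 0, Int.ofNat 0, Int.ofNat 0, Int.ofNat 0, Int.ofNat 2, Int.ofNat 2, Int.ofNat 0, Int.ofNat 0, Int.ofNat 0, Int.ofNat 0, Int.ofNat 0, Int.ofNat 0, Int.ofNat 2, Int.ofNat 0, Int.ofNat 2, Int.ofNat 0, Int.negSucc 1, Int.ofNat 0],
  [Int.ofNat 0, Int.ofNat 2, Int.negSucc 1, Int.ofNat 0, Int.negSucc 1, Int.ofNat 0, Int.ofNat 0, Int.ofNat 0, Int.ofNat 0, Int.ofNat 0, Int.ofNat 2, Int.ofNat 2, Int.ofNat 0, Int.ofNat 0, Int.ofNat 0, Int.ofNat 0, Int.ofNat 0, Int.ofNat 0, Int.negSucc 1, Int.ofNat 0, Int.ofNat 2, Int.ofNat 0, Int.negSucc 1, Int.ofNat 0],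
  [Int.ofNat 0, Int.negSucc 1, Int.ofNat 2, Int.ofNat 0, Int.ofNat 0, Int.ofNat 0, Int.ofNat 0, Int.ofNat 0, Int.ofNat 2, Int.ofNat 0, Int.ofNat 0, Int.negSucc 1, Int.ofNat 0, Int.ofNat 0, Int.negSucc 1, Int.ofNat 0, Int.ofNat 2, Int.negSucc 1, Int.ofNat 0, Int.ofNat 0, Int.ofNat 0, Int.ofNat 0, Int.ofNat 2, Int.ofNat 0],
  [Int.ofNat 0, Int.negSucc 1, Int.negSucc 1, Int.ofNat 0, Int.ofNat 0, Int.ofNat 0, Int.ofNat 0, Int.ofNat 0, Int.ofNat 2, Int.ofNat 0, Int.ofNat 0, Int.ofNat 2, Int.ofNat 0, Int.ofNat 0, Int.negSucc 1, Int.ofNat 0, Int.ofNat 2, Int.negSucc 1, Int.ofNat 0, Int.ofNat 0, Int.ofNat 0, Int.ofNat 0, Int.ofNat 2, Int.ofNat 0],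
  [Int.ofNat 2, Int.ofNat 0, Int.negSucc 1, Int.negSucc 1, Int.ofNat 0, Int.ofNat 0, Int.ofNat 0, Int.ofNat 0, Int.ofNat 0, Int.ofNat 2, Int.ofNat 0, Int.ofNat 0, Int.ofNat 2, Int.ofNat 0, Int.ofNat 0, Int.negSucc 1, Int.ofNat 0, Int.ofNat 2, Int.negSucc 1, Int.ofNat 0, Int.ofNat 0, Int.ofNat 0, Int.ofNat 0, Int.ofNat 0],
  [Int.negSucc 1, Int.ofNat 0, Int.ofNat 2, Int.negSucc 1, Int.ofNat 0, Int.ofNat 0, Int.ofNat 0, Int.ofNat 0, Int.ofNat 0, Int.ofNat 2, Int.ofNat 0, Int.ofNat 0, Int.ofNat 2, Int.ofNat 0, Int.ofNat 0, Int.negSucc 1, Int.ofNat 0, Int.ofNat 2, Int.negSucc 1, Int.ofNat 0, Int.ofNat 0, Int.ofNat 0, Int.ofNat 0, Int.ofNat 0],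
  [Int.negSucc 1, Int.ofNat 0, Int.ofNat 0, Int.ofNat 0, Int.ofNat 0, Int.ofNat 0, Int.ofNat 2, Int.ofNat 0, Int.ofNat 0, Int.ofNat 2, Int.ofNat 0, Int.ofNat 0, Int.negSucc 1, Int.ofNat 0, Int.ofNat 2, Int.negSucc 1, Int.ofNat 0, Int.ofNat 0, Int.ofNat 0, Int.ofNat 0, Int.negSucc 1, Int.ofNat 0, Int.ofNat 2, Int.ofNat 0],
  [Int.ofNat 1, Int.negSucc 0, Int.negSucc 0, Int.negSucc 0, Int.negSucc 0, Int.negSucc 0, Int.ofNat 1, Int.negSucc 0, Int.ofNat 1, Int.ofNat 3, Int.ofNat 1, Int.ofNat 1, Int.negSucc 0, Int.negSucc 0, Int.ofNat 1, Int.negSucc 0, Int.negSucc 0, Int.negSucc 0, Int.ofNat 1, Int.negSucc 0, Int.negSucc 0, Int.negSucc 0, Int.ofNat 1, Int.negSucc 0],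
  [Int.ofNat 1, Int.ofNat 1, Int.negSucc 0, Int.negSucc 0, Int.ofNat 1, Int.negSucc 0, Int.negSucc 0, Int.ofNat 1, Int.negSucc 0, Int.negSucc 0, Int.negSucc 0, Int.negSucc 0, Int.ofNat 3, Int.negSucc 0, Int.ofNat 1, Int.negSucc 0, Int.ofNat 1, Int.ofNat 1, Int.negSucc 0, Int.ofNat 1, Int.negSucc 0, Int.negSucc 0, Int.negSucc 0, Int.negSucc 0],
  [Int.negSucc 0, Int.negSucc 0, Int.ofNat 1, Int.negSucc 0, Int.ofNat 1, Int.negSucc 0, Int.negSucc 0, Int.ofNat 1, Int.negSucc 0, Int.ofNat 1, Int.ofNat 1, Int.negSucc 0, Int.ofNat 3, Int.negSucc 0, Int.ofNat 1, Int.ofNat 1, Int.ofNat 1, Int.ofNat 1, Int.negSucc 0, Int.ofNat 1, Int.ofNat 1, Int.negSucc 0, Int.negSucc 0, Int.ofNat 1],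
  [Int.negSucc 0, Int.negSucc 0, Int.negSucc 0, Int.negSucc 0, Int.ofNat 1, Int.ofNat 1, Int.ofNat 1, Int.ofNat 1, Int.negSucc 0, Int.negSucc 0, Int.negSucc 0, Int.negSucc 0, Int.ofNat 3, Int.negSucc 0, Int.ofNat 1, Int.negSucc 0, Int.ofNat 1, Int.ofNat 1, Int.ofNat 1, Int.ofNat 1, Int.ofNat 1, Int.negSucc 0, Int.ofNat 1, Int.ofNat 1],
  [Int.negSucc 0, Int.ofNat 1, Int.negSucc 0, Int.ofNat 1, Int.ofNat 1, Int.ofNat 1, Int.negSucc 0, Int.negSucc 0, Int.ofNat 1, Int.negSucc 0, Int.ofNat 1, Int.negSucc 0, Int.negSucc 0, Int.ofNat 1, Int.ofNat 1, Int.ofNat 1, Int.negSucc 0, Int.ofNat 1, Int.ofNat 1, Int.ofNat 3, Int.negSucc 0, Int.negSucc 0, Int.negSucc 0, Int.ofNat 1],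
  [Int.negSucc 0, Int.ofNat 1, Int.ofNat 1, Int.ofNat 1, Int.ofNat 1, Int.negSucc 0, Int.ofNat 1, Int.negSucc 0, Int.ofNat 1, Int.ofNat 1, Int.negSucc 0, Int.negSucc 0, Int.negSucc 0, Int.ofNat 1, Int.ofNat 1, Int.negSucc 0, Int.negSucc 0, Int.ofNat 1, Int.negSucc 0, Int.ofNat 3, Int.negSucc 0, Int.negSucc 0, Int.ofNat 1, Int.ofNat 1],
  [Int.ofNat 2, Int.ofNat 0, Int.ofNat 0, Int.ofNat 0, Int.ofNat 0, Int.negSucc 1, Int.ofNat 0, Int.negSucc 1, Int.ofNat 2, Int.ofNat 2, Int.ofNat 0, Int.ofNat 0, Int.ofNat 0, Int.ofNat 0, Int.ofNat 0, Int.ofNat 0, Int.negSucc 1, Int.ofNat 0, Int.ofNat 0, Int.ofNat 2, Int.ofNat 0, Int.negSucc 1, Int.ofNat 0, Int.ofNat 0],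
  [Int.ofNat 2, Int.ofNat 0, Int.ofNat 0, Int.ofNat 0, Int.ofNat 0, Int.negSucc 1, Int.ofNat 0, Int.negSucc 1, Int.negSucc 1, Int.ofNat 0, Int.negSucc 1, Int.ofNat 2, Int.ofNat 2, Int.ofNat 2, Int.ofNat 0, Int.ofNat 0, Int.ofNat 0, Int.ofNat 0, Int.ofNat 0, Int.ofNat 0, Int.ofNat 0, Int.ofNat 0, Int.ofNat 0, Int.ofNat 0],
  [Int.negSucc 0, Int.ofNat 1, Int.ofNat 1, Int.ofNat 1, Int.negSucc 0, Int.negSucc 0, Int.ofNat 1, Int.negSucc 0, Int.negSucc 2, Int.ofNat 1, Int.negSucc 0, Int.ofNat 1, Int.ofNat 1, Int.ofNat 1, Int.ofNat 1, Int.ofNat 1, Int.negSucc 0, Int.ofNat 1, Int.negSucc 0, Int.ofNat 1, Int.ofNat 1, Int.ofNat 1, Int.negSucc 0, Int.ofNat 1],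
  [Int.ofNat 1, Int.ofNat 1, Int.negSucc 0, Int.negSucc 0, Int.ofNat 1, Int.ofNat 1, Int.ofNat 1, Int.negSucc 0, Int.negSucc 0, Int.ofNat 1, Int.negSucc 0, Int.negSucc 2, Int.ofNat 1, Int.negSucc 0, Int.ofNat 1, Int.ofNat 1, Int.ofNat 1, Int.ofNat 1, Int.ofNat 1, Int.negSucc 0, Int.ofNat 1, Int.negSucc 0, Int.ofNat 1, Int.ofNat 1],
  [Int.ofNat 0, Int.ofNat 0, Int.ofNat 2, Int.negSucc 1, Int.ofNat 0, Int.ofNat 0, Int.ofNat 2, Int.ofNat 0, Int.ofNat 0, Int.ofNat 0, Int.negSucc 1, Int.negSucc 1, Int.ofNat 2, Int.negSucc 1, Int.ofNat 0, Int.ofNat 0, Int.ofNat 0, Int.ofNat 0, Int.ofNat 2, Int.ofNat 0, Int.ofNat 0, Int.ofNat 0, Int.ofNat 0, Int.ofNat 0],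
  [Int.ofNat 0, Int.ofNat 2, Int.negSucc 1, Int.ofNat 0, Int.ofNat 0, Int.ofNat 2, Int.ofNat 0, Int.ofNat 0, Int.ofNat 0, Int.negSucc 1, Int.negSucc 1, Int.ofNat 2, Int.negSucc 1, Int.ofNat 0, Int.ofNat 0, Int.ofNat 0, Int.ofNat 0, Int.ofNat 2, Int.ofNat 0, Int.ofNat 0, Int.ofNat 0, Int.ofNat 0, Int.ofNat 0, Int.ofNat 0],
  [Int.ofNat 0, Int.ofNat 2, Int.ofNat 2, Int.ofNat 0, Int.ofNat 0, Int.ofNat 2, Int.ofNat 0, Int.ofNat 0, Int.ofNat 0, Int.ofNat 2, Int.ofNat 2, Int.negSucc 1, Int.negSucc 1, Int.ofNat 0, Int.ofNat 0, Int.ofNat 0, Int.ofNat 0, Int.ofNat 2, Int.ofNat 0, Int.ofNat 0, Int.ofNat 0, Int.ofNat 0, Int.ofNat 0, Int.ofNat 0],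
  [Int.ofNat 0, Int.negSucc 1, Int.negSucc 1, Int.ofNat 0, Int.ofNat 0, Int.ofNat 2, Int.ofNat 0, Int.ofNat 0, Int.ofNat 0, Int.negSucc 1, Int.ofNat 2, Int.negSucc 1, Int.ofNat 2, Int.ofNat 0, Int.ofNat 0, Int.ofNat 0, Int.ofNat 0, Int.ofNat 2, Int.ofNat 0, Int.ofNat 0, Int.ofNat 0, Int.ofNat 0, Int.ofNat 0, Int.ofNat 0],
  [Int.ofNat 0, Int.ofNat 0, Int.negSucc 1, Int.ofNat 0, Int.ofNat 2, Int.negSucc 1, Int.ofNat 0, Int.ofNat 0, Int.ofNat 0, Int.ofNat 2, Int.ofNat 0, Int.negSucc 1, Int.ofNat 0, Int.ofNat 0, Int.ofNat 0, Int.ofNat 0, Int.ofNat 2, Int.ofNat 0, Int.ofNat 0, Int.ofNat 0, Int.ofNat 0, Int.ofNat 2, Int.negSucc 1, Int.ofNat 0],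
  [Int.ofNat 0, Int.ofNat 0, Int.ofNat 2, Int.ofNat 0, Int.ofNat 2, Int.negSucc 1, Int.ofNat 0, Int.ofNat 0, Int.ofNat 0, Int.negSucc 1, Int.ofNat 0, Int.ofNat 2, Int.ofNat 0, Int.ofNat 0, Int.ofNat 0, Int.ofNat 0, Int.ofNat 2, Int.ofNat 0, Int.ofNat 0, Int.ofNat 0, Int.ofNat 0, Int.negSucc 1, Int.negSucc 1, Int.ofNat 0],
  [Int.negSucc 1, Int.ofNat 0, Int.ofNat 0, Int.ofNat 2, Int.ofNat 0, Int.ofNat 2, Int.negSucc 1, Int.ofNat 0, Int.ofNat 0, Int.ofNat 0, Int.negSucc 1, Int.ofNat 0, Int.ofNat 2, Int.ofNat 0, Int.ofNat 0, Int.ofNat 0, Int.ofNat 0, Int.ofNat 2, Int.ofNat 0, Int.ofNat 0, Int.ofNat 0, Int.ofNat 0, Int.negSucc 1, Int.ofNat 0],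
  [Int.ofNat 1, Int.negSucc 0, Int.negSucc 0, Int.negSucc 0, Int.ofNat 1, Int.negSucc 0, Int.negSucc 0, Int.ofNat 1, Int.negSucc 0, Int.ofNat 1, Int.negSucc 0, Int.negSucc 0, Int.ofNat 1, Int.ofNat 1, Int.negSucc 2, Int.ofNat 1, Int.ofNat 1, Int.negSucc 0, Int.negSucc 0, Int.ofNat 1, Int.ofNat 1, Int.ofNat 1, Int.negSucc 0, Int.negSucc 0],
  [Int.negSucc 0, Int.ofNat 1, Int.negSucc 0, Int.negSucc 0, Int.ofNat 1, Int.negSucc 0, Int.ofNat 1, Int.negSucc 0, Int.negSucc 0, Int.ofNat 1, Int.ofNat 1, Int.negSucc 2, Int.ofNat 1, Int.ofNat 1, Int.negSucc 0, Int.negSucc 0, Int.ofNat 1, Int.ofNat 1, Int.ofNat 1, Int.negSucc 0, Int.ofNat 1, Int.negSucc 0, Int.negSucc 0, Int.negSucc 0],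
  [Int.ofNat 0, Int.negSucc 1, Int.ofNat 0, Int.ofNat 0, Int.ofNat 0, Int.ofNat 0, Int.ofNat 2, Int.ofNat 0, Int.ofNat 0, Int.ofNat 0, Int.ofNat 0, Int.negSucc 1, Int.ofNat 2, Int.ofNat 0, Int.ofNat 0, Int.negSucc 1, Int.ofNat 0, Int.ofNat 2, Int.ofNat 2, Int.ofNat 0, Int.ofNat 0, Int.ofNat 0, Int.negSucc 1, Int.ofNat 0],
  [Int.ofNat 0, Int.ofNat 2, Int.ofNat 0, Int.ofNat 0, Int.ofNat 2, Int.ofNat 0, Int.ofNat 0, Int.ofNat 0, Int.ofNat 2, Int.ofNat 0, Int.ofNat 0, Int.ofNat 2, Int.ofNat 0, Int.ofNat 0, Int.negSucc 1, Int.negSucc 1, Int.ofNat 0, Int.ofNat 0, Int.negSucc 1, Int.negSucc 1, Int.ofNat 0, Int.ofNat 0, Int.ofNat 0, Int.ofNat 0],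
  [Int.ofNat 1, Int.negSucc 0, Int.ofNat 1, Int.ofNat 1, Int.ofNat 1, Int.ofNat 1, Int.ofNat 1, Int.ofNat 1, Int.ofNat 1, Int.ofNat 1, Int.ofNat 1, Int.ofNat 1, Int.negSucc 0, Int.negSucc 0, Int.negSucc 0, Int.negSucc 0, Int.negSucc 0, Int.ofNat 1, Int.negSucc 2, Int.negSucc 0, Int.ofNat 1, Int.ofNat 1, Int.negSucc 0, Int.ofNat 1],
  [Int.ofNat 1, Int.negSucc 0, Int.negSucc 0, Int.ofNat 1, Int.ofNat 1, Int.negSucc 0, Int.negSucc 0, Int.ofNat 1, Int.ofNat 1, Int.negSucc 0, Int.negSucc 0, Int.ofNat 1, Int.negSucc 0, Int.negSucc 0, Int.negSucc 0, Int.ofNat 1, Int.negSucc 0, Int.ofNat 1, Int.ofNat 3, Int.negSucc 0, Int.ofNat 1, Int.ofNat 1, Int.ofNat 1, Int.ofNat 1],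
  [Int.negSucc 0, Int.ofNat 1, Int.ofNat 1, Int.negSucc 0, Int.ofNat 1, Int.ofNat 1, Int.ofNat 1, Int.ofNat 1, Int.negSucc 0, Int.negSucc 0, Int.negSucc 0, Int.ofNat 1, Int.negSucc 0, Int.ofNat 1, Int.negSucc 0, Int.ofNat 1, Int.ofNat 1, Int.ofNat 3, Int.negSucc 0, Int.negSucc 0, Int.negSucc 0, Int.ofNat 1, Int.negSucc 0, Int.ofNat 1],
  [Int.negSucc 0, Int.ofNat 1, Int.negSucc 0, Int.negSucc 0, Int.ofNat 1, Int.negSucc 0, Int.negSucc 0, Int.ofNat 1, Int.negSucc 0, Int.ofNat 1, Int.ofNat 1, Int.ofNat 1, Int.negSucc 0, Int.ofNat 1, Int.negSucc 0, Int.negSucc 0, Int.ofNat 1, Int.ofNat 3, Int.ofNat 1, Int.negSucc 0, Int.negSucc 0, Int.ofNat 1, Int.ofNat 1, Int.ofNat 1],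
  [Int.ofNat 1, Int.negSucc 0, Int.ofNat 1, Int.negSucc 0, Int.negSucc 0, Int.negSucc 0, Int.negSucc 0, Int.ofNat 1, Int.negSucc 0, Int.ofNat 1, Int.ofNat 1, Int.ofNat 1, Int.negSucc 0, Int.negSucc 0, Int.negSucc 0, Int.negSucc 0, Int.negSucc 0, Int.ofNat 3, Int.ofNat 1, Int.negSucc 0, Int.negSucc 0, Int.ofNat 1, Int.negSucc 0, Int.negSucc 0],
  [Int.ofNat 1, Int.ofNat 1, Int.negSucc 0, Int.negSucc 0, Int.ofNat 1, Int.ofNat 1, Int.negSucc 0, Int.negSucc 0, Int.negSucc 0, Int.negSucc 0, Int.ofNat 1, Int.negSucc 0, Int.negSucc 0, Int.ofNat 1, Int.ofNat 3, Int.negSucc 0, Int.negSucc 0, Int.ofNat 1, Int.negSucc 0, Int.negSucc 0, Int.ofNat 1, Int.negSucc 0, Int.negSucc 0, Int.negSucc 0],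
  [Int.negSucc 0, Int.negSucc 0, Int.ofNat 1, Int.negSucc 2, Int.ofNat 1, Int.negSucc 0, Int.ofNat 1, Int.ofNat 1, Int.ofNat 1, Int.negSucc 0, Int.ofNat 1, Int.ofNat 1, Int.ofNat 1, Int.ofNat 1, Int.ofNat 1, Int.negSucc 0, Int.negSucc 0, Int.negSucc 0, Int.ofNat 1, Int.ofNat 1, Int.ofNat 1, Int.ofNat 1, Int.negSucc 0, Int.ofNat 1],
  [Int.ofNat 1, Int.ofNat 1, Int.negSucc 0, Int.negSucc 0, Int.negSucc 0, Int.ofNat 1, Int.negSucc 2, Int.ofNat 1, Int.negSucc 0, Int.ofNat 1, Int.ofNat 1, Int.ofNat 1, Int.negSucc 0, Int.ofNat 1, Int.ofNat 1, Int.ofNat 1, Int.ofNat 1, Int.ofNat 1, Int.negSucc 0, Int.negSucc 0, Int.negSucc 0, Int.ofNat 1, Int.ofNat 1, Int.ofNat 1],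
  [Int.ofNat 0, Int.ofNat 0, Int.ofNat 2, Int.negSucc 1, Int.negSucc 1, Int.ofNat 0, Int.negSucc 1, Int.ofNat 2, Int.ofNat 0, Int.ofNat 0, Int.ofNat 0, Int.ofNat 2, Int.ofNat 0, Int.ofNat 0, Int.ofNat 0, Int.ofNat 0, Int.ofNat 0, Int.ofNat 0, Int.ofNat 0, Int.ofNat 0, Int.negSucc 1, Int.ofNat 2, Int.ofNat 0, Int.ofNat 0],
  [Int.ofNat 0, Int.ofNat 2, Int.negSucc 1, Int.negSucc 1, Int.ofNat 0, Int.negSucc 1, Int.ofNat 2, Int.ofNat 0, Int.ofNat 0, Int.ofNat 0, Int.ofNat 2, Int.ofNat 0, Int.ofNat 0, Int.ofNat 0, Int.ofNat 0, Int.ofNat 0, Int.ofNat 0, Int.ofNat 0, Int.ofNat 0, Int.negSucc 1, Int.ofNat 2, Int.ofNat 0, Int.ofNat 0, Int.ofNat 0],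
  [Int.ofNat 0, Int.ofNat 2, Int.ofNat 2, Int.negSucc 1, Int.ofNat 0, Int.negSucc 1, Int.ofNat 2, Int.ofNat 0, Int.ofNat 0, Int.ofNat 0, Int.negSucc 1, Int.ofNat 0, Int.ofNat 0, Int.ofNat 0, Int.ofNat 0, Int.ofNat 0, Int.ofNat 0, Int.ofNat 0, Int.ofNat 0, Int.negSucc 1, Int.ofNat 2, Int.ofNat 0, Int.ofNat 0, Int.ofNat 0],
  [Int.ofNat 0, Int.negSucc 1, Int.negSucc 1, Int.ofNat 2, Int.ofNat 0, Int.negSucc 1, Int.negSucc 1, Int.ofNat 0, Int.ofNat 0, Int.ofNat 0, Int.negSucc 1, Int.ofNat 0, Int.ofNat 0, Int.ofNat 0, Int.ofNat 0, Int.ofNat 0, Int.ofNat 0, Int.ofNat 0, Int.ofNat 0, Int.negSucc 1, Int.ofNat 2, Int.ofNat 0, Int.ofNat 0, Int.ofNat 0],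
  [Int.ofNat 0, Int.ofNat 0, Int.ofNat 0, Int.ofNat 0, Int.ofNat 0, Int.ofNat 0, Int.negSucc 1, Int.ofNat 0, Int.ofNat 2, Int.negSucc 1, Int.ofNat 0, Int.negSucc 1, Int.ofNat 0, Int.ofNat 0, Int.ofNat 0, Int.ofNat 2, Int.negSucc 1, Int.ofNat 0, Int.ofNat 0, Int.negSucc 1, Int.ofNat 0, Int.ofNat 0, Int.negSucc 1, Int.ofNat 0],
  [Int.ofNat 0, Int.ofNat 0, Int.ofNat 0, Int.ofNat 0, Int.ofNat 0, Int.ofNat 0, Int.negSucc 1, Int.ofNat 0, Int.ofNat 2, Int.ofNat 2, Int.ofNat 0, Int.ofNat 2, Int.ofNat 0, Int.ofNat 0, Int.ofNat 0, Int.ofNat 2, Int.negSucc 1, Int.ofNat 0, Int.ofNat 0, Int.negSucc 1, Int.ofNat 0, Int.ofNat 0, Int.negSucc 1, Int.ofNat 0],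
  [Int.negSucc 1, Int.ofNat 0, Int.ofNat 0, Int.ofNat 0, Int.ofNat 0, Int.ofNat 0, Int.ofNat 0, Int.negSucc 1, Int.ofNat 0, Int.ofNat 2, Int.ofNat 2, Int.ofNat 0, Int.ofNat 2, Int.ofNat 0, Int.ofNat 0, Int.ofNat 0, Int.ofNat 2, Int.negSucc 1, Int.ofNat 0, Int.ofNat 0, Int.negSucc 1, Int.ofNat 0, Int.ofNat 0, Int.ofNat 0],
  [Int.ofNat 1, Int.negSucc 0, Int.negSucc 0, Int.ofNat 1, Int.negSucc 0, Int.ofNat 1, Int.ofNat 1, Int.negSucc 0, Int.negSucc 0, Int.ofNat 1, Int.ofNat 1, Int.negSucc 0, Int.ofNat 1, Int.negSucc 0, Int.ofNat 1, Int.negSucc 0, Int.ofNat 1, Int.negSucc 0, Int.negSucc 0, Int.ofNat 1, Int.negSucc 2, Int.ofNat 1, Int.negSucc 0, Int.negSucc 0],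
  [Int.ofNat 1, Int.negSucc 0, Int.ofNat 1, Int.ofNat 1, Int.negSucc 0, Int.negSucc 0, Int.ofNat 1, Int.ofNat 1, Int.negSucc 0, Int.ofNat 1, Int.negSucc 0, Int.ofNat 1, Int.negSucc 0, Int.ofNat 1, Int.negSucc 0, Int.negSucc 0, Int.ofNat 1, Int.negSucc 2, Int.ofNat 1, Int.negSucc 0, Int.ofNat 1, Int.negSucc 0, Int.negSucc 0, Int.negSucc 0],
  [Int.negSucc 0, Int.ofNat 1, Int.negSucc 0, Int.ofNat 3, Int.negSucc 0, Int.ofNat 1, Int.ofNat 1, Int.ofNat 1, Int.negSucc 0, Int.ofNat 1, Int.negSucc 0, Int.ofNat 1, Int.negSucc 0, Int.ofNat 1, Int.ofNat 1, Int.negSucc 0, Int.ofNat 1, Int.negSucc 0, Int.ofNat 1, Int.negSucc 0, Int.ofNat 1, Int.negSucc 0, Int.negSucc 0, Int.ofNat 1],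
  [Int.negSucc 0, Int.ofNat 1, Int.negSucc 0, Int.ofNat 3, Int.ofNat 1, Int.ofNat 1, Int.negSucc 0, Int.negSucc 0, Int.negSucc 0, Int.ofNat 1, Int.ofNat 1, Int.negSucc 0, Int.ofNat 1, Int.ofNat 1, Int.negSucc 0, Int.negSucc 0, Int.negSucc 0, Int.ofNat 1, Int.ofNat 1, Int.ofNat 1, Int.negSucc 0, Int.ofNat 1, Int.negSucc 0, Int.ofNat 1],
  [Int.ofNat 1, Int.negSucc 0, Int.ofNat 1, Int.ofNat 1, Int.ofNat 1, Int.negSucc 0, Int.negSucc 0, Int.negSucc 0, Int.negSucc 0, Int.ofNat 1, Int.ofNat 1, Int.negSucc 0, Int.ofNat 1, Int.ofNat 1, Int.negSucc 2, Int.negSucc 0, Int.negSucc 0, Int.negSucc 0, Int.ofNat 1, Int.ofNat 1, Int.negSucc 0, Int.ofNat 1, Int.negSucc 0, Int.negSucc 0],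
  [Int.ofNat 1, Int.negSucc 0, Int.negSucc 0, Int.ofNat 1, Int.ofNat 1, Int.ofNat 1, Int.ofNat 1, Int.negSucc 0, Int.negSucc 0, Int.negSucc 0, Int.negSucc 0, Int.negSucc 0, Int.ofNat 1, Int.ofNat 1, Int.negSucc 2, Int.ofNat 1, Int.negSucc 0, Int.negSucc 0, Int.negSucc 0, Int.ofNat 1, Int.negSucc 0, Int.ofNat 1, Int.ofNat 1, Int.negSucc 0],
  [Int.negSucc 0, Int.ofNat 1, Int.ofNat 1, Int.ofNat 1, Int.negSucc 0, Int.negSucc 0, Int.ofNat 1, Int.ofNat 1, Int.negSucc 2, Int.negSucc 0, Int.negSucc 0, Int.negSucc 0, Int.negSucc 0, Int.negSucc 0, Int.ofNat 1, Int.ofNat 1, Int.negSucc 0, Int.negSucc 0, Int.ofNat 1, Int.ofNat 1, Int.ofNat 1, Int.ofNat 1, Int.negSucc 0, Int.negSucc 0],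
  [Int.negSucc 0, Int.ofNat 1, Int.negSucc 0, Int.ofNat 1, Int.negSucc 0, Int.ofNat 1, Int.negSucc 0, Int.ofNat 1, Int.negSucc 2, Int.ofNat 1, Int.ofNat 1, Int.negSucc 0, Int.negSucc 0, Int.negSucc 0, Int.ofNat 1, Int.negSucc 0, Int.negSucc 0, Int.negSucc 0, Int.negSucc 0, Int.ofNat 1, Int.ofNat 1, Int.ofNat 1, Int.ofNat 1, Int.negSucc 0],
  [Int.ofNat 0, Int.negSucc 1, Int.ofNat 0, Int.ofNat 0, Int.ofNat 0, Int.ofNat 0, Int.negSucc 1, Int.ofNat 0, Int.ofNat 0, Int.ofNat 0, Int.ofNat 0, Int.ofNat 2, Int.ofNat 2, Int.ofNat 0, Int.ofNat 0, Int.negSucc 1, Int.ofNat 0, Int.negSucc 1, Int.ofNat 2, Int.ofNat 0, Int.ofNat 0, Int.ofNat 0, Int.ofNat 2, Int.ofNat 0],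
  [Int.ofNat 0, Int.ofNat 2, Int.negSucc 1, Int.ofNat 0, Int.ofNat 0, Int.ofNat 0, Int.negSucc 1, Int.ofNat 0, Int.ofNat 0, Int.ofNat 2, Int.ofNat 0, Int.ofNat 0, Int.ofNat 0, Int.ofNat 0, Int.negSucc 1, Int.negSucc 1, Int.ofNat 0, Int.ofNat 2, Int.ofNat 0, Int.ofNat 2, Int.ofNat 0, Int.ofNat 0, Int.ofNat 0, Int.ofNat 0],
  [Int.ofNat 0, Int.negSucc 1, Int.ofNat 2, Int.ofNat 0, Int.ofNat 0, Int.ofNat 0, Int.negSucc 1, Int.ofNat 0, Int.ofNat 0, Int.ofNat 2, Int.ofNat 0, Int.ofNat 0, Int.ofNat 0, Int.ofNat 0, Int.negSucc 1, Int.negSucc 1, Int.ofNat 0, Int.ofNat 2, Int.ofNat 0, Int.ofNat 2, Int.ofNat 0, Int.ofNat 0, Int.ofNat 0, Int.ofNat 0],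
  [Int.ofNat 0, Int.ofNat 0, Int.ofNat 0, Int.ofNat 0, Int.negSucc 1, Int.ofNat 2, Int.ofNat 0, Int.ofNat 0, Int.ofNat 0, Int.negSucc 1, Int.ofNat 0, Int.ofNat 0, Int.ofNat 2, Int.ofNat 0, Int.ofNat 0, Int.ofNat 0, Int.ofNat 0, Int.negSucc 1, Int.negSucc 1, Int.ofNat 0, Int.ofNat 2, Int.ofNat 0, Int.ofNat 2, Int.ofNat 0],
  [Int.ofNat 0, Int.ofNat 0, Int.ofNat 0, Int.ofNat 0, Int.negSucc 1, Int.ofNat 2, Int.ofNat 0, Int.ofNat 0, Int.ofNat 0, Int.negSucc 1, Int.ofNat 0, Int.ofNat 0, Int.ofNat 2, Int.ofNat 0, Int.ofNat 0, Int.ofNat 0, Int.ofNat 0, Int.negSucc 1, Int.negSucc 1, Int.ofNat 0, Int.ofNat 2, Int.ofNat 0, Int.ofNat 2, Int.ofNat 0],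
  [Int.ofNat 0, Int.ofNat 0, Int.ofNat 0, Int.negSucc 1, Int.ofNat 2, Int.ofNat 0, Int.ofNat 0, Int.ofNat 0, Int.negSucc 1, Int.ofNat 0, Int.ofNat 0, Int.ofNat 2, Int.ofNat 0, Int.ofNat 0, Int.ofNat 0, Int.ofNat 0, Int.negSucc 1, Int.negSucc 1, Int.ofNat 0, Int.ofNat 2, Int.ofNat 0, Int.ofNat 2, Int.ofNat 0, Int.ofNat 0],
  [Int.ofNat 0, Int.ofNat 0, Int.ofNat 0, Int.negSucc 1, Int.ofNat 2, Int.ofNat 0, Int.ofNat 0, Int.ofNat 0, Int.negSucc 1, Int.ofNat 0, Int.ofNat 0, Int.negSucc 1, Int.ofNat 0, Int.ofNat 0, Int.ofNat 0, Int.ofNat 0, Int.negSucc 1, Int.negSucc 1, Int.ofNat 0, Int.ofNat 2, Int.ofNat 0, Int.negSucc 1, Int.ofNat 0, Int.ofNat 0],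
  [Int.ofNat 0, Int.ofNat 0, Int.ofNat 0, Int.ofNat 2, Int.negSucc 1, Int.ofNat 0, Int.ofNat 0, Int.ofNat 0, Int.ofNat 2, Int.ofNat 0, Int.ofNat 0, Int.negSucc 1, Int.ofNat 0, Int.ofNat 0, Int.ofNat 0, Int.ofNat 0, Int.ofNat 2, Int.negSucc 1, Int.ofNat 0, Int.ofNat 2, Int.ofNat 0, Int.negSucc 1, Int.ofNat 0, Int.ofNat 0],
  [Int.ofNat 0, Int.ofNat 0, Int.negSucc 1, Int.ofNat 0, Int.negSucc 1, Int.ofNat 0, Int.ofNat 2, Int.ofNat 0, Int.ofNat 0, Int.ofNat 0, Int.ofNat 2, Int.ofNat 0, Int.negSucc 1, Int.ofNat 0, Int.ofNat 0, Int.ofNat 2, Int.ofNat 0, Int.negSucc 1, Int.ofNat 0, Int.ofNat 0, Int.ofNat 2, Int.ofNat 0, Int.ofNat 0, Int.ofNat 0],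
  [Int.ofNat 0, Int.ofNat 0, Int.ofNat 2, Int.ofNat 0, Int.negSucc 1, Int.ofNat 0, Int.ofNat 2, Int.ofNat 0, Int.ofNat 0, Int.ofNat 0, Int.negSucc 1, Int.ofNat 0, Int.negSucc 1, Int.ofNat 0, Int.ofNat 0, Int.ofNat 2, Int.ofNat 0, Int.negSucc 1, Int.ofNat 0, Int.ofNat 0, Int.ofNat 2, Int.ofNat 0, Int.ofNat 0, Int.ofNat 0],
  [Int.ofNat 0, Int.ofNat 0, Int.ofNat 0, Int.ofNat 2, Int.ofNat 0, Int.negSucc 1, Int.ofNat 0, Int.ofNat 2, Int.ofNat 0, Int.ofNat 0, Int.ofNat 0, Int.negSucc 1, Int.ofNat 0, Int.negSucc 1, Int.ofNat 0, Int.ofNat 0, Int.ofNat 2, Int.ofNat 0, Int.negSucc 1, Int.ofNat 0, Int.ofNat 0, Int.ofNat 2, Int.ofNat 0, Int.ofNat 0],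
  [Int.ofNat 0, Int.ofNat 0, Int.ofNat 0, Int.ofNat 2, Int.ofNat 0, Int.negSucc 1, Int.negSucc 1, Int.ofNat 0, Int.ofNat 2, Int.ofNat 0, Int.ofNat 0, Int.ofNat 0, Int.ofNat 2, Int.negSucc 1, Int.ofNat 0, Int.ofNat 0, Int.ofNat 2, Int.ofNat 0, Int.ofNat 0, Int.negSucc 1, Int.ofNat 0, Int.ofNat 0, Int.ofNat 0, Int.ofNat 0],
  [Int.ofNat 2, Int.ofNat 0, Int.negSucc 1, Int.negSucc 1, Int.ofNat 0, Int.ofNat 2, Int.ofNat 0, Int.ofNat 0, Int.ofNat 0, Int.ofNat 2, Int.negSucc 1, Int.ofNat 0, Int.ofNat 0, Int.ofNat 2, Int.ofNat 0, Int.ofNat 0, Int.negSucc 1, Int.ofNat 0, Int.ofNat 0, Int.ofNat 0, Int.ofNat 0, Int.ofNat 0, Int.ofNat 0, Int.ofNat 0],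
  [Int.negSucc 1, Int.ofNat 0, Int.ofNat 2, Int.negSucc 1, Int.ofNat 0, Int.ofNat 2, Int.ofNat 0, Int.ofNat 0, Int.ofNat 0, Int.ofNat 2, Int.negSucc 1, Int.ofNat 0, Int.ofNat 0, Int.ofNat 2, Int.ofNat 0, Int.ofNat 0, Int.negSucc 1, Int.ofNat 0, Int.ofNat 0, Int.ofNat 0, Int.ofNat 0, Int.ofNat 0, Int.ofNat 0, Int.ofNat 0],
  [Int.negSucc 1, Int.ofNat 0, Int.ofNat 0, Int.negSucc 1, Int.ofNat 0, Int.ofNat 0, Int.ofNat 2, Int.negSucc 1, Int.ofNat 0, Int.ofNat 2, Int.ofNat 0, Int.ofNat 0, Int.ofNat 2, Int.negSucc 1, Int.ofNat 0, Int.ofNat 0, Int.ofNat 0, Int.ofNat 0, Int.ofNat 0, Int.ofNat 0, Int.ofNat 0, Int.ofNat 2, Int.ofNat 0, Int.ofNat 0],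
  [Int.ofNat 1, Int.negSucc 0, Int.negSucc 0, Int.negSucc 0, Int.ofNat 1, Int.ofNat 1, Int.ofNat 1, Int.negSucc 2, Int.negSucc 0, Int.ofNat 1, Int.negSucc 0, Int.negSucc 0, Int.ofNat 1, Int.negSucc 0, Int.ofNat 1, Int.negSucc 0, Int.ofNat 1, Int.ofNat 1, Int.negSucc 0, Int.negSucc 0, Int.negSucc 0, Int.ofNat 1, Int.ofNat 1, Int.negSucc 0],
  [Int.ofNat 1, Int.negSucc 0, Int.ofNat 1, Int.negSucc 0, Int.ofNat 1, Int.negSucc 0, Int.negSucc 0, Int.negSucc 2, Int.negSucc 0, Int.negSucc 0, Int.ofNat 1, Int.negSucc 0, Int.ofNat 1, Int.negSucc 0, Int.ofNat 1, Int.ofNat 1, Int.ofNat 1, Int.ofNat 1, Int.ofNat 1, Int.negSucc 0, Int.negSucc 0, Int.ofNat 1, Int.negSucc 0, Int.negSucc 0],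
  [Int.negSucc 0, Int.negSucc 0, Int.ofNat 1, Int.negSucc 0, Int.ofNat 1, Int.negSucc 0, Int.ofNat 1, Int.ofNat 1, Int.ofNat 1, Int.ofNat 1, Int.ofNat 1, Int.negSucc 0, Int.negSucc 0, Int.negSucc 2, Int.negSucc 0, Int.ofNat 1, Int.negSucc 0, Int.ofNat 1, Int.negSucc 0, Int.ofNat 1, Int.negSucc 0, Int.negSucc 0, Int.ofNat 1, Int.negSucc 0],
  [Int.negSucc 0, Int.negSucc 0, Int.negSucc 0, Int.negSucc 0, Int.ofNat 1, Int.ofNat 1, Int.negSucc 0, Int.ofNat 1, Int.ofNat 1, Int.negSucc 0, Int.negSucc 0, Int.negSucc 0, Int.negSucc 0, Int.negSucc 2, Int.negSucc 0, Int.negSucc 0, Int.negSucc 0, Int.ofNat 1, Int.ofNat 1, Int.ofNat 1, Int.negSucc 0, Int.negSucc 0, Int.negSucc 0, Int.negSucc 0],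
  [Int.negSucc 0, Int.negSucc 0, Int.negSucc 0, Int.negSucc 0, Int.ofNat 3, Int.ofNat 1, Int.negSucc 0, Int.ofNat 1, Int.ofNat 1, Int.ofNat 1, Int.ofNat 1, Int.negSucc 0, Int.negSucc 0, Int.negSucc 0, Int.negSucc 0, Int.ofNat 1, Int.ofNat 1, Int.ofNat 1, Int.ofNat 1, Int.ofNat 1, Int.ofNat 1, Int.negSucc 0, Int.ofNat 1, Int.negSucc 0],
  [Int.negSucc 0, Int.ofNat 1, Int.negSucc 0, Int.negSucc 0, Int.negSucc 0, Int.negSucc 0, Int.negSucc 0, Int.ofNat 1, Int.ofNat 1, Int.negSucc 0, Int.ofNat 1, Int.ofNat 1, Int.ofNat 1, Int.ofNat 1, Int.ofNat 1, Int.ofNat 1, Int.negSucc 0, Int.negSucc 0, Int.ofNat 3, Int.ofNat 1, Int.ofNat 1, Int.ofNat 1, Int.negSucc 0, Int.negSucc 0],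
  [Int.ofNat 0, Int.negSucc 1, Int.ofNat 0, Int.ofNat 0, Int.ofNat 0, Int.ofNat 0, Int.negSucc 1, Int.ofNat 0, Int.negSucc 1, Int.negSucc 1, Int.ofNat 0, Int.negSucc 1, Int.negSucc 1, Int.ofNat 2, Int.ofNat 2, Int.ofNat 0, Int.ofNat 0, Int.ofNat 0, Int.ofNat 0, Int.ofNat 0, Int.ofNat 0, Int.ofNat 0, Int.ofNat 0, Int.ofNat 0],
  [Int.ofNat 0, Int.ofNat 0, Int.ofNat 0, Int.ofNat 0, Int.negSucc 1, Int.ofNat 0, Int.ofNat 0, Int.ofNat 0, Int.ofNat 0, Int.negSucc 1, Int.ofNat 0, Int.negSucc 1, Int.negSucc 1, Int.ofNat 0, Int.negSucc 1, Int.negSucc 1, Int.ofNat 2, Int.ofNat 2, Int.ofNat 0, Int.ofNat 0, Int.ofNat 0, Int.ofNat 0, Int.ofNat 0, Int.ofNat 0],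
  [Int.ofNat 0, Int.ofNat 0, Int.ofNat 0, Int.ofNat 0, Int.negSucc 1, Int.ofNat 0, Int.ofNat 0, Int.ofNat 0, Int.ofNat 2, Int.ofNat 0, Int.ofNat 2, Int.ofNat 0, Int.ofNat 0, Int.ofNat 0, Int.negSucc 1, Int.ofNat 0, Int.ofNat 2, Int.ofNat 2, Int.ofNat 2, Int.ofNat 0, Int.ofNat 2, Int.ofNat 0, Int.ofNat 0, Int.ofNat 0],
  [Int.ofNat 0, Int.ofNat 0, Int.ofNat 0, Int.negSucc 1, Int.ofNat 0, Int.ofNat 0, Int.ofNat 0, Int.ofNat 2, Int.ofNat 0, Int.ofNat 2, Int.ofNat 0, Int.ofNat 0, Int.ofNat 0, Int.negSucc 1, Int.ofNat 0, Int.ofNat 2, Int.ofNat 2, Int.ofNat 2, Int.ofNat 0, Int.ofNat 2, Int.ofNat 0, Int.ofNat 0, Int.ofNat 0, Int.ofNat 0],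
  [Int.ofNat 0, Int.ofNat 0, Int.ofNat 0, Int.negSucc 1, Int.ofNat 0, Int.ofNat 0, Int.ofNat 0, Int.negSucc 1, Int.ofNat 0, Int.negSucc 1, Int.ofNat 0, Int.ofNat 0, Int.ofNat 0, Int.negSucc 1, Int.ofNat 0, Int.ofNat 2, Int.ofNat 2, Int.ofNat 2, Int.ofNat 0, Int.ofNat 2, Int.ofNat 0, Int.ofNat 0, Int.ofNat 0, Int.ofNat 0],
  [Int.ofNat 0, Int.ofNat 0, Int.ofNat 0, Int.ofNat 2, Int.ofNat 0, Int.ofNat 0, Int.ofNat 0, Int.negSucc 1, Int.ofNat 0, Int.ofNat 2, Int.ofNat 0, Int.ofNat 0, Int.ofNat 0, Int.ofNat 2, Int.ofNat 0, Int.ofNat 2, Int.negSucc 1, Int.ofNat 2, Int.ofNat 0, Int.ofNat 2, Int.ofNat 0, Int.ofNat 0, Int.ofNat 0, Int.ofNat 0],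
  [Int.ofNat 0, Int.ofNat 0, Int.ofNat 0, Int.ofNat 2, Int.ofNat 2, Int.ofNat 2, Int.ofNat 2, Int.ofNat 2, Int.ofNat 0, Int.ofNat 0, Int.negSucc 1, Int.ofNat 0, Int.ofNat 0, Int.negSucc 1, Int.ofNat 0, Int.ofNat 2, Int.ofNat 0, Int.ofNat 0, Int.ofNat 0, Int.ofNat 0, Int.ofNat 0, Int.ofNat 0, Int.ofNat 0, Int.ofNat 0],
  [Int.ofNat 0, Int.ofNat 0, Int.ofNat 0, Int.ofNat 2, Int.ofNat 2, Int.ofNat 2, Int.ofNat 2, Int.negSucc 1, Int.ofNat 0, Int.ofNat 0, Int.ofNat 2, Int.ofNat 0, Int.ofNat 0, Int.negSucc 1, Int.ofNat 0, Int.ofNat 2, Int.ofNat 0, Int.ofNat 0, Int.ofNat 0, Int.ofNat 0, Int.ofNat 0, Int.ofNat 0, Int.ofNat 0, Int.ofNat 0],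
  [Int.ofNat 0, Int.ofNat 0, Int.ofNat 0, Int.ofNat 0, Int.ofNat 2, Int.ofNat 2, Int.ofNat 2, Int.ofNat 2, Int.negSucc 1, Int.ofNat 0, Int.ofNat 0, Int.ofNat 2, Int.ofNat 0, Int.ofNat 0, Int.negSucc 1, Int.ofNat 0, Int.ofNat 2, Int.ofNat 0, Int.ofNat 0, Int.ofNat 0, Int.ofNat 0, Int.ofNat 0, Int.ofNat 0, Int.ofNat 0],
  [Int.ofNat 0, Int.ofNat 0, Int.ofNat 0, Int.ofNat 0, Int.ofNat 0, Int.ofNat 2, Int.ofNat 0, Int.ofNat 0, Int.negSucc 1, Int.ofNat 0, Int.ofNat 0, Int.ofNat 2, Int.ofNat 0, Int.negSucc 1, Int.negSucc 1, Int.ofNat 0, Int.ofNat 0, Int.ofNat 0, Int.ofNat 0, Int.negSucc 1, Int.ofNat 0, Int.negSucc 1, Int.negSucc 1, Int.ofNat 0],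
  [Int.ofNat 0, Int.ofNat 0, Int.ofNat 2, Int.ofNat 0, Int.ofNat 0, Int.negSucc 1, Int.ofNat 0, Int.ofNat 0, Int.ofNat 2, Int.ofNat 0, Int.negSucc 1, Int.negSucc 1, Int.ofNat 0, Int.ofNat 0, Int.ofNat 0, Int.ofNat 0, Int.negSucc 1, Int.ofNat 0, Int.negSucc 1, Int.negSucc 1, Int.ofNat 0, Int.ofNat 0, Int.ofNat 0, Int.ofNat 0],
  [Int.ofNat 1, Int.ofNat 1, Int.negSucc 0, Int.ofNat 1, Int.ofNat 1, Int.negSucc 0, Int.ofNat 1, Int.ofNat 1, Int.ofNat 3, Int.ofNat 1, Int.negSucc 0, Int.negSucc 0, Int.ofNat 1, Int.ofNat 1, Int.ofNat 1, Int.ofNat 1, Int.negSucc 0, Int.ofNat 1, Int.negSucc 0, Int.negSucc 0, Int.ofNat 1, Int.ofNat 1, Int.ofNat 1, Int.ofNat 1],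
  [Int.ofNat 1, Int.ofNat 1, Int.ofNat 1, Int.ofNat 1, Int.negSucc 0, Int.ofNat 1, Int.negSucc 0, Int.negSucc 0, Int.ofNat 1, Int.ofNat 1, Int.ofNat 1, Int.ofNat 1, Int.ofNat 1, Int.negSucc 0, Int.ofNat 1, Int.ofNat 1, Int.ofNat 3, Int.ofNat 1, Int.ofNat 1, Int.negSucc 0, Int.ofNat 1, Int.negSucc 0, Int.negSucc 0, Int.ofNat 1],
  [Int.ofNat 1, Int.ofNat 1, Int.ofNat 1, Int.negSucc 0, Int.negSucc 0, Int.negSucc 0, Int.ofNat 1, Int.ofNat 1, Int.negSucc 0, Int.negSucc 0, Int.negSucc 0, Int.negSucc 0, Int.negSucc 0, Int.negSucc 0, Int.negSucc 0, Int.negSucc 0, Int.ofNat 3, Int.negSucc 0, Int.negSucc 0, Int.ofNat 1, Int.negSucc 0, Int.ofNat 1, Int.negSucc 0, Int.ofNat 1],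
  [Int.ofNat 1, Int.ofNat 1, Int.negSucc 0, Int.negSucc 0, Int.negSucc 0, Int.ofNat 1, Int.negSucc 0, Int.ofNat 1, Int.negSucc 0, Int.ofNat 1, Int.ofNat 1, Int.negSucc 0, Int.negSucc 0, Int.negSucc 0, Int.negSucc 0, Int.ofNat 1, Int.ofNat 3, Int.negSucc 0, Int.ofNat 1, Int.ofNat 1, Int.negSucc 0, Int.ofNat 1, Int.ofNat 1, Int.ofNat 1],
  [Int.ofNat 1, Int.ofNat 1, Int.ofNat 1, Int.ofNat 1, Int.negSucc 0, Int.negSucc 0, Int.ofNat 1, Int.ofNat 1, Int.negSucc 0, Int.negSucc 0, Int.ofNat 3, Int.negSucc 0, Int.ofNat 1, Int.ofNat 1, Int.negSucc 0, Int.negSucc 0, Int.negSucc 0, Int.ofNat 1, Int.ofNat 1, Int.negSucc 0, Int.negSucc 0, Int.negSucc 0, Int.ofNat 1, Int.ofNat 1],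
  [Int.ofNat 1, Int.ofNat 1, Int.negSucc 0, Int.ofNat 1, Int.negSucc 0, Int.ofNat 1, Int.negSucc 0, Int.ofNat 1, Int.negSucc 0, Int.ofNat 1, Int.negSucc 2, Int.negSucc 0, Int.ofNat 1, Int.ofNat 1, Int.negSucc 0, Int.ofNat 1, Int.negSucc 0, Int.ofNat 1, Int.negSucc 0, Int.negSucc 0, Int.negSucc 0, Int.negSucc 0, Int.negSucc 0, Int.ofNat 1],
  [Int.ofNat 0, Int.ofNat 0, Int.ofNat 2, Int.ofNat 0, Int.ofNat 0, Int.ofNat 0, Int.ofNat 0, Int.ofNat 2, Int.ofNat 0, Int.ofNat 2, Int.negSucc 1, Int.ofNat 0, Int.ofNat 2, Int.ofNat 2, Int.negSucc 1, Int.ofNat 2, Int.ofNat 0, Int.ofNat 0, Int.ofNat 0, Int.ofNat 0, Int.ofNat 0, Int.ofNat 0, Int.ofNat 0, Int.ofNat 0],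
  [Int.ofNat 0, Int.ofNat 0, Int.ofNat 0, Int.ofNat 0, Int.ofNat 2, Int.ofNat 0, Int.ofNat 0, Int.ofNat 0, Int.ofNat 0, Int.ofNat 2, Int.ofNat 2, Int.ofNat 0, Int.ofNat 0, Int.ofNat 2, Int.ofNat 0, Int.ofNat 2, Int.ofNat 2, Int.ofNat 0, Int.ofNat 0, Int.ofNat 0, Int.negSucc 1, Int.ofNat 0, Int.negSucc 1, Int.ofNat 0],
  [Int.ofNat 0, Int.ofNat 0, Int.ofNat 0, Int.ofNat 0, Int.ofNat 0, Int.ofNat 0, Int.ofNat 0, Int.ofNat 0, Int.ofNat 0, Int.ofNat 0, Int.ofNat 0, Int.ofNat 0, Int.ofNat 0, Int.ofNat 0, Int.ofNat 0, Int.ofNat 0, Int.ofNat 0, Int.ofNat 0, Int.ofNat 0, Int.ofNat 0, Int.negSucc 3, Int.ofNat 0, Int.negSucc 3, Int.ofNat 0],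
  [Int.negSucc 3, Int.ofNat 0, Int.negSucc 3, Int.ofNat 0, Int.ofNat 0, Int.ofNat 0, Int.ofNat 0, Int.ofNat 0, Int.ofNat 0, Int.ofNat 0, Int.ofNat 0, Int.ofNat 0, Int.ofNat 0, Int.ofNat 0, Int.ofNat 0, Int.ofNat 0, Int.ofNat 0, Int.ofNat 0, Int.ofNat 0, Int.ofNat 0, Int.ofNat 0, Int.ofNat 0, Int.ofNat 0, Int.ofNat 0],
  [Int.ofNat 0, Int.negSucc 3, Int.ofNat 0, Int.ofNat 0, Int.ofNat 0, Int.ofNat 0, Int.ofNat 0, Int.ofNat 0, Int.ofNat 0, Int.ofNat 0, Int.ofNat 0, Int.ofNat 0, Int.ofNat 0, Int.ofNat 0, Int.ofNat 0, Int.ofNat 0, Int.ofNat 0, Int.ofNat 0, Int.ofNat 0, Int.ofNat 0, Int.ofNat 0, Int.ofNat 0, Int.ofNat 0, Int.negSucc 3],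
  [Int.negSucc 3, Int.ofNat 0, Int.ofNat 0, Int.ofNat 0, Int.ofNat 0, Int.ofNat 0, Int.ofNat 0, Int.ofNat 0, Int.ofNat 0, Int.ofNat 0, Int.ofNat 0, Int.ofNat 0, Int.ofNat 0, Int.ofNat 0, Int.ofNat 0, Int.ofNat 0, Int.ofNat 0, Int.ofNat 0, Int.ofNat 0, Int.ofNat 0, Int.ofNat 0, Int.ofNat 0, Int.ofNat 0, Int.negSucc 3],
  [Int.ofNat 4, Int.ofNat 0, Int.ofNat 0, Int.ofNat 0, Int.ofNat 0, Int.ofNat 0, Int.ofNat 0, Int.ofNat 0, Int.ofNat 0, Int.ofNat 0, Int.ofNat 0, Int.ofNat 0, Int.ofNat 0, Int.ofNat 0, Int.ofNat 0, Int.ofNat 0, Int.ofNat 0, Int.ofNat 0, Int.ofNat 0, Int.ofNat 0, Int.ofNat 0, Int.ofNat 0, Int.ofNat 0, Int.negSucc 3],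
  [Int.negSucc 3, Int.ofNat 0, Int.ofNat 0, Int.ofNat 0, Int.ofNat 0, Int.ofNat 0, Int.ofNat 0, Int.ofNat 0, Int.ofNat 0, Int.ofNat 0, Int.ofNat 0, Int.ofNat 0, Int.ofNat 0, Int.ofNat 0, Int.ofNat 0, Int.ofNat 0, Int.ofNat 0, Int.ofNat 0, Int.ofNat 0, Int.ofNat 0, Int.ofNat 0, Int.ofNat 0, Int.ofNat 0, Int.negSucc 3],
  [Int.negSucc 3, Int.ofNat 0, Int.ofNat 0, Int.ofNat 0, Int.ofNat 0, Int.ofNat 0, Int.ofNat 0, Int.ofNat 0, Int.ofNat 0, Int.ofNat 0, Int.ofNat 0, Int.ofNat 0, Int.ofNat 0, Int.ofNat 0, Int.ofNat 0, Int.ofNat 0, Int.ofNat 0, Int.ofNat 0, Int.ofNat 0, Int.ofNat 0, Int.ofNat 0, Int.ofNat 0, Int.ofNat 0, Int.negSucc 3],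
  [Int.ofNat 4, Int.ofNat 0, Int.ofNat 0, Int.ofNat 0, Int.ofNat 0, Int.ofNat 0, Int.ofNat 0, Int.ofNat 0, Int.ofNat 0, Int.ofNat 0, Int.ofNat 0, Int.ofNat 0, Int.ofNat 0, Int.ofNat 0, Int.ofNat 0, Int.ofNat 0, Int.ofNat 0, Int.ofNat 0, Int.ofNat 0, Int.ofNat 0, Int.ofNat 0, Int.ofNat 0, Int.ofNat 0, Int.negSucc 3],
  [Int.ofNat 0, Int.ofNat 4, Int.ofNat 0, Int.ofNat 0, Int.ofNat 0, Int.ofNat 0, Int.ofNat 0, Int.ofNat 0, Int.ofNat 0, Int.ofNat 0, Int.ofNat 0, Int.ofNat 0, Int.ofNat 0, Int.ofNat 0, Int.ofNat 0, Int.ofNat 0, Int.ofNat 0, Int.ofNat 0, Int.ofNat 0, Int.ofNat 0, Int.ofNat 0, Int.ofNat 0, Int.ofNat 0, Int.negSucc 3],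
  [Int.ofNat 0, Int.negSucc 3, Int.ofNat 0, Int.ofNat 0, Int.ofNat 0, Int.ofNat 0, Int.ofNat 0, Int.ofNat 0, Int.ofNat 0, Int.ofNat 0, Int.ofNat 0, Int.ofNat 0, Int.ofNat 0, Int.ofNat 0, Int.ofNat 0, Int.ofNat 0, Int.ofNat 0, Int.ofNat 0, Int.ofNat 0, Int.ofNat 0, Int.ofNat 0, Int.ofNat 0, Int.ofNat 0, Int.ofNat 4],
  [Int.ofNat 0, Int.ofNat 0, Int.ofNat 0, Int.ofNat 0, Int.ofNat 0, Int.ofNat 0, Int.ofNat 0, Int.ofNat 0, Int.ofNat 0, Int.ofNat 0, Int.ofNat 0, Int.ofNat 0, Int.ofNat 0, Int.ofNat 0, Int.ofNat 0, Int.ofNat 0, Int.ofNat 0, Int.ofNat 0, Int.ofNat 0, Int.ofNat 0, Int.ofNat 0, Int.negSucc 3, Int.ofNat 0, Int.ofNat 4],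
  [Int.ofNat 2, Int.ofNat 2, Int.ofNat 2, Int.ofNat 0, Int.ofNat 0, Int.ofNat 0, Int.ofNat 2, Int.ofNat 2, Int.ofNat 0, Int.ofNat 0, Int.ofNat 0, Int.ofNat 0, Int.ofNat 0, Int.ofNat 0, Int.ofNat 0, Int.ofNat 0, Int.ofNat 0, Int.ofNat 0, Int.ofNat 0, Int.ofNat 2, Int.ofNat 0, Int.negSucc 1, Int.ofNat 0, Int.negSucc 1],
  [Int.ofNat 2, Int.ofNat 2, Int.ofNat 0, Int.ofNat 0, Int.ofNat 0, Int.ofNat 2, Int.ofNat 2, Int.ofNat 0, Int.ofNat 0, Int.ofNat 0, Int.ofNat 0, Int.ofNat 0, Int.ofNat 0, Int.ofNat 0, Int.ofNat 0, Int.ofNat 0, Int.ofNat 0, Int.ofNat 0, Int.ofNat 2, Int.ofNat 0, Int.negSucc 1, Int.ofNat 0, Int.ofNat 2, Int.negSucc 1],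
  [Int.negSucc 0, Int.negSucc 0, Int.ofNat 1, Int.negSucc 0, Int.negSucc 0, Int.ofNat 1, Int.ofNat 1, Int.negSucc 0, Int.negSucc 0, Int.ofNat 1, Int.ofNat 1, Int.negSucc 0, Int.negSucc 0, Int.negSucc 0, Int.negSucc 0, Int.ofNat 1, Int.negSucc 0, Int.negSucc 0, Int.ofNat 1, Int.negSucc 0, Int.negSucc 0, Int.negSucc 0, Int.ofNat 1, Int.ofNat 3],
  [Int.negSucc 0, Int.negSucc 0, Int.negSucc 0, Int.negSucc 0, Int.negSucc 0, Int.negSucc 0, Int.negSucc 0, Int.negSucc 0, Int.negSucc 0, Int.negSucc 0, Int.negSucc 0, Int.negSucc 0, Int.negSucc 0, Int.negSucc 0, Int.negSucc 0, Int.negSucc 0, Int.negSucc 0, Int.negSucc 0, Int.negSucc 0, Int.negSucc 0, Int.negSucc 0, Int.negSucc 0, Int.negSucc 0, Int.ofNat 3],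
  [Int.negSucc 0, Int.negSucc 0, Int.negSucc 0, Int.negSucc 0, Int.negSucc 0, Int.negSucc 0, Int.negSucc 0, Int.negSucc 0, Int.negSucc 0, Int.negSucc 0, Int.negSucc 0, Int.negSucc 0, Int.negSucc 0, Int.negSucc 0, Int.negSucc 0, Int.negSucc 0, Int.negSucc 0, Int.negSucc 0, Int.negSucc 0, Int.negSucc 0, Int.negSucc 0, Int.negSucc 0, Int.negSucc 0, Int.ofNat 3],
  [Int.negSucc 0, Int.negSucc 0, Int.ofNat 1, Int.negSucc 0, Int.negSucc 0, Int.ofNat 1, Int.ofNat 1, Int.negSucc 0, Int.negSucc 0, Int.ofNat 1, Int.ofNat 1, Int.negSucc 0, Int.negSucc 0, Int.negSucc 0, Int.negSucc 0, Int.ofNat 1, Int.negSucc 0, Int.negSucc 0, Int.ofNat 1, Int.negSucc 0, Int.negSucc 0, Int.negSucc 0, Int.ofNat 1, Int.ofNat 3],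
  [Int.ofNat 2, Int.ofNat 2, Int.ofNat 0, Int.ofNat 0, Int.ofNat 0, Int.ofNat 2, Int.ofNat 2, Int.ofNat 0, Int.ofNat 0, Int.ofNat 0, Int.ofNat 0, Int.ofNat 0, Int.ofNat 0, Int.ofNat 0, Int.ofNat 0, Int.ofNat 0, Int.ofNat 0, Int.ofNat 0, Int.ofNat 2, Int.ofNat 0, Int.negSucc 1, Int.ofNat 0, Int.ofNat 2, Int.negSucc 1],
  [Int.ofNat 2, Int.ofNat 2, Int.ofNat 2, Int.ofNat 0, Int.ofNat 0, Int.ofNat 0, Int.ofNat 2, Int.ofNat 2, Int.ofNat 0, Int.ofNat 0, Int.ofNat 0, Int.ofNat 0, Int.ofNat 0, Int.ofNat 0, Int.ofNat 0, Int.ofNat 0, Int.ofNat 0, Int.ofNat 0, Int.ofNat 0, Int.ofNat 2, Int.ofNat 0, Int.negSucc 1, Int.ofNat 0, Int.negSucc 1],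
  [Int.ofNat 0, Int.ofNat 0, Int.ofNat 0, Int.ofNat 0, Int.ofNat 0, Int.ofNat 0, Int.ofNat 0, Int.ofNat 0, Int.ofNat 0, Int.ofNat 0, Int.ofNat 0, Int.ofNat 0, Int.ofNat 0, Int.ofNat 0, Int.ofNat 0, Int.ofNat 0, Int.ofNat 0, Int.ofNat 0, Int.ofNat 0, Int.ofNat 0, Int.ofNat 0, Int.negSucc 3, Int.ofNat 0, Int.ofNat 4],
  [Int.ofNat 0, Int.negSucc 3, Int.ofNat 0, Int.ofNat 0, Int.ofNat 0, Int.ofNat 0, Int.ofNat 0, Int.ofNat 0, Int.ofNat 0, Int.ofNat 0, Int.ofNat 0, Int.ofNat 0, Int.ofNat 0, Int.ofNat 0, Int.ofNat 0, Int.ofNat 0, Int.ofNat 0, Int.ofNat 0, Int.ofNat 0, Int.ofNat 0, Int.ofNat 0, Int.ofNat 0, Int.ofNat 0, Int.ofNat 4],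
  [Int.ofNat 0, Int.ofNat 4, Int.ofNat 0, Int.ofNat 0, Int.ofNat 0, Int.ofNat 0, Int.ofNat 0, Int.ofNat 0, Int.ofNat 0, Int.ofNat 0, Int.ofNat 0, Int.ofNat 0, Int.ofNat 0, Int.ofNat 0, Int.ofNat 0, Int.ofNat 0, Int.ofNat 0, Int.ofNat 0, Int.ofNat 0, Int.ofNat 0, Int.ofNat 0, Int.ofNat 0, Int.ofNat 0, Int.negSucc 3],
  [Int.ofNat 4, Int.ofNat 0, Int.ofNat 0, Int.ofNat 0, Int.ofNat 0, Int.ofNat 0, Int.ofNat 0, Int.ofNat 0, Int.ofNat 0, Int.ofNat 0, Int.ofNat 0, Int.ofNat 0, Int.ofNat 0, Int.ofNat 0, Int.ofNat 0, Int.ofNat 0, Int.ofNat 0, Int.ofNat 0, Int.ofNat 0, Int.ofNat 0, Int.ofNat 0, Int.ofNat 0, Int.ofNat 0, Int.negSucc 3],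
  [Int.negSucc 3, Int.ofNat 0, Int.ofNat 0, Int.ofNat 0, Int.ofNat 0, Int.ofNat 0, Int.ofNat 0, Int.ofNat 0, Int.ofNat 0, Int.ofNat 0, Int.ofNat 0, Int.ofNat 0, Int.ofNat 0, Int.ofNat 0, Int.ofNat 0, Int.ofNat 0, Int.ofNat 0, Int.ofNat 0, Int.ofNat 0, Int.ofNat 0, Int.ofNat 0, Int.ofNat 0, Int.ofNat 0, Int.negSucc 3],
  [Int.ofNat 4, Int.ofNat 0, Int.ofNat 0, Int.ofNat 0, Int.ofNat 0, Int.ofNat 0, Int.ofNat 0, Int.ofNat 0, Int.ofNat 0, Int.ofNat 0, Int.ofNat 0, Int.ofNat 0, Int.ofNat 0, Int.ofNat 0, Int.ofNat 0, Int.ofNat 0, Int.ofNat 0, Int.ofNat 0, Int.ofNat 0, Int.ofNat 0, Int.ofNat 0, Int.ofNat 0, Int.ofNat 0, Int.negSucc 3],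
  [Int.negSucc 3, Int.ofNat 0, Int.ofNat 0, Int.ofNat 0, Int.ofNat 0, Int.ofNat 0, Int.ofNat 0, Int.ofNat 0, Int.ofNat 0, Int.ofNat 0, Int.ofNat 0, Int.ofNat 0, Int.ofNat 0, Int.ofNat 0, Int.ofNat 0, Int.ofNat 0, Int.ofNat 0, Int.ofNat 0, Int.ofNat 0, Int.ofNat 0, Int.ofNat 0, Int.ofNat 0, Int.ofNat 0, Int.ofNat 4],
  [Int.ofNat 4, Int.ofNat 0, Int.ofNat 0, Int.ofNat 0, Int.ofNat 0, Int.ofNat 0, Int.ofNat 0, Int.ofNat 0, Int.ofNat 0, Int.ofNat 0, Int.ofNat 0, Int.ofNat 0, Int.ofNat 0, Int.ofNat 0, Int.ofNat 0, Int.ofNat 0, Int.ofNat 0, Int.ofNat 0, Int.ofNat 0, Int.ofNat 0, Int.ofNat 0, Int.ofNat 0, Int.ofNat 0, Int.ofNat 4],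
  [Int.ofNat 0, Int.ofNat 4, Int.ofNat 0, Int.ofNat 0, Int.ofNat 0, Int.ofNat 0, Int.ofNat 0, Int.ofNat 0, Int.ofNat 0, Int.ofNat 0, Int.ofNat 0, Int.ofNat 0, Int.ofNat 0, Int.ofNat 0, Int.ofNat 0, Int.ofNat 0, Int.ofNat 0, Int.ofNat 0, Int.ofNat 0, Int.ofNat 0, Int.ofNat 0, Int.ofNat 0, Int.ofNat 0, Int.ofNat 4],
  [Int.ofNat 4, Int.ofNat 0, Int.ofNat 4, Int.ofNat 0, Int.ofNat 0, Int.ofNat 0, Int.ofNat 0, Int.ofNat 0, Int.ofNat 0, Int.ofNat 0, Int.ofNat 0, Int.ofNat 0, Int.ofNat 0, Int.ofNat 0, Int.ofNat 0, Int.ofNat 0, Int.ofNat 0, Int.ofNat 0, Int.ofNat 0, Int.ofNat 0, Int.ofNat 0, Int.ofNat 0, Int.ofNat 0, Int.ofNat 0],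
  [Int.ofNat 0, Int.ofNat 0, Int.ofNat 0, Int.ofNat 0, Int.ofNat 0, Int.ofNat 0, Int.ofNat 0, Int.ofNat 0, Int.ofNat 0, Int.ofNat 0, Int.ofNat 0, Int.ofNat 0, Int.ofNat 0, Int.ofNat 0, Int.ofNat 0, Int.ofNat 0, Int.ofNat 0, Int.ofNat 0, Int.ofNat 0, Int.ofNat 0, Int.ofNat 4, Int.ofNat 0, Int.ofNat 4, Int.ofNat 0],
  [Int.ofNat 0, Int.ofNat 0, Int.ofNat 0, Int.ofNat 0, Int.negSucc 1, Int.ofNat 0, Int.ofNat 0, Int.ofNat 0, Int.ofNat 0, Int.negSucc 1, Int.negSucc 1, Int.ofNat 0, Int.ofNat 0, Int.negSucc 1, Int.ofNat 0, Int.negSucc 1, Int.negSucc 1, Int.ofNat 0, Int.ofNat 0, Int.ofNat 0, Int.ofNat 2, Int.ofNat 0, Int.ofNat 2, Int.ofNat 0],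
  [Int.ofNat 0, Int.ofNat 0, Int.negSucc 1, Int.ofNat 0, Int.ofNat 0, Int.ofNat 0, Int.ofNat 0, Int.negSucc 1, Int.ofNat 0, Int.negSucc 1, Int.ofNat 2, Int.ofNat 0, Int.negSucc 1, Int.negSucc 1, Int.ofNat 2, Int.negSucc 1, Int.ofNat 0, Int.ofNat 0, Int.ofNat 0, Int.ofNat 0, Int.ofNat 0, Int.ofNat 0, Int.ofNat 0, Int.ofNat 0],
  [Int.negSucc 0, Int.negSucc 0, Int.ofNat 1, Int.negSucc 0, Int.ofNat 1, Int.negSucc 0, Int.ofNat 1, Int.negSucc 0, Int.ofNat 1, Int.negSucc 0, Int.ofNat 3, Int.ofNat 1, Int.negSucc 0, Int.negSucc 0, Int.ofNat 1, Int.negSucc 0, Int.ofNat 1, Int.negSucc 0, Int.ofNat 1, Int.ofNat 1, Int.ofNat 1, Int.ofNat 1, Int.ofNat 1, Int.negSucc 0],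
  [Int.negSucc 0, Int.negSucc 0, Int.negSucc 0, Int.negSucc 0, Int.ofNat 1, Int.ofNat 1, Int.negSucc 0, Int.negSucc 0, Int.ofNat 1, Int.ofNat 1, Int.negSucc 2, Int.ofNat 1, Int.negSucc 0, Int.negSucc 0, Int.ofNat 1, Int.ofNat 1, Int.ofNat 1, Int.negSucc 0, Int.negSucc 0, Int.ofNat 1, Int.ofNat 1, Int.ofNat 1, Int.negSucc 0, Int.negSucc 0],
  [Int.negSucc 0, Int.negSucc 0, Int.negSucc 0, Int.ofNat 1, Int.negSucc 0, Int.ofNat 1, Int.ofNat 1, Int.ofNat 1, Int.ofNat 1, Int.negSucc 0, Int.ofNat 1, Int.ofNat 1, Int.ofNat 1, Int.negSucc 0, Int.negSucc 0, Int.ofNat 1, Int.ofNat 1, Int.negSucc 0, Int.ofNat 1, Int.negSucc 0, Int.negSucc 0, Int.negSucc 0, Int.negSucc 2, Int.negSucc 0],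
  [Int.negSucc 0, Int.negSucc 0, Int.ofNat 1, Int.ofNat 1, Int.negSucc 0, Int.negSucc 0, Int.negSucc 0, Int.ofNat 1, Int.ofNat 1, Int.ofNat 1, Int.negSucc 0, Int.ofNat 1, Int.ofNat 1, Int.negSucc 0, Int.negSucc 0, Int.negSucc 0, Int.ofNat 1, Int.negSucc 0, Int.negSucc 0, Int.negSucc 0, Int.negSucc 0, Int.negSucc 0, Int.ofNat 3, Int.negSucc 0],
  [Int.ofNat 0, Int.ofNat 0, Int.negSucc 1, Int.ofNat 2, Int.negSucc 1, Int.ofNat 0, Int.ofNat 0, Int.ofNat 2, Int.ofNat 0, Int.ofNat 2, Int.ofNat 0, Int.ofNat 0, Int.ofNat 0, Int.negSucc 1, Int.ofNat 0, Int.ofNat 0, Int.ofNat 0, Int.ofNat 0, Int.negSucc 1, Int.ofNat 0, Int.ofNat 0, Int.ofNat 0, Int.ofNat 2, Int.ofNat 0],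
  [Int.ofNat 0, Int.negSucc 1, Int.ofNat 0, Int.ofNat 2, Int.negSucc 1, Int.ofNat 0, Int.ofNat 0, Int.ofNat 0, Int.ofNat 0, Int.ofNat 0, Int.ofNat 2, Int.ofNat 0, Int.ofNat 0, Int.ofNat 2, Int.ofNat 0, Int.ofNat 0, Int.negSucc 1, Int.ofNat 0, Int.negSucc 1, Int.ofNat 2, Int.ofNat 0, Int.ofNat 0, Int.ofNat 0, Int.ofNat 0],
  [Int.negSucc 0, Int.ofNat 1, Int.negSucc 0, Int.ofNat 1, Int.negSucc 0, Int.negSucc 0, Int.negSucc 0, Int.negSucc 0, Int.ofNat 1, Int.negSucc 0, Int.ofNat 1, Int.ofNat 1, Int.ofNat 1, Int.ofNat 3, Int.negSucc 0, Int.negSucc 0, Int.negSucc 0, Int.negSucc 0, Int.negSucc 0, Int.ofNat 1, Int.negSucc 0, Int.negSucc 0, Int.ofNat 1, Int.negSucc 0],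
  [Int.negSucc 0, Int.negSucc 0, Int.ofNat 1, Int.negSucc 0, Int.ofNat 1, Int.negSucc 0, Int.ofNat 1, Int.negSucc 0, Int.negSucc 0, Int.negSucc 0, Int.negSucc 0, Int.ofNat 1, Int.negSucc 0, Int.ofNat 1, Int.ofNat 1, Int.ofNat 1, Int.ofNat 3, Int.negSucc 0, Int.negSucc 0, Int.negSucc 0, Int.negSucc 0, Int.negSucc 0, Int.ofNat 1, Int.negSucc 0],
  [Int.ofNat 0, Int.ofNat 0, Int.negSucc 1, Int.ofNat 0, Int.negSucc 1, Int.ofNat 0, Int.ofNat 2, Int.ofNat 0, Int.ofNat 0, Int.ofNat 0, Int.ofNat 0, Int.ofNat 2, Int.ofNat 0, Int.negSucc 1, Int.ofNat 2, Int.ofNat 2, Int.ofNat 0, Int.ofNat 0, Int.ofNat 0, Int.ofNat 0, Int.ofNat 0, Int.ofNat 0, Int.negSucc 1, Int.ofNat 0],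
  [Int.ofNat 0, Int.negSucc 1, Int.ofNat 0, Int.negSucc 1, Int.ofNat 0, Int.ofNat 2, Int.ofNat 0, Int.ofNat 0, Int.ofNat 0, Int.ofNat 0, Int.ofNat 2, Int.ofNat 0, Int.negSucc 1, Int.ofNat 2, Int.ofNat 2, Int.ofNat 0, Int.ofNat 0, Int.ofNat 0, Int.ofNat 0, Int.ofNat 0, Int.ofNat 0, Int.negSucc 1, Int.ofNat 0, Int.ofNat 0],
  [Int.ofNat 0, Int.negSucc 1, Int.ofNat 0, Int.negSucc 1, Int.ofNat 0, Int.ofNat 2, Int.ofNat 0, Int.ofNat 0, Int.ofNat 0, Int.ofNat 0, Int.negSucc 1, Int.ofNat 0, Int.negSucc 1, Int.ofNat 2, Int.ofNat 2, Int.ofNat 0, Int.ofNat 0, Int.ofNat 0, Int.ofNat 0, Int.ofNat 0, Int.ofNat 0, Int.ofNat 2, Int.ofNat 0, Int.ofNat 0],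
  [Int.ofNat 0, Int.ofNat 2, Int.ofNat 0, Int.ofNat 2, Int.ofNat 0, Int.ofNat 2, Int.ofNat 0, Int.ofNat 0, Int.ofNat 0, Int.ofNat 0, Int.negSucc 1, Int.ofNat 0, Int.ofNat 2, Int.negSucc 1, Int.ofNat 2, Int.ofNat 0, Int.ofNat 0, Int.ofNat 0, Int.ofNat 0, Int.ofNat 0, Int.ofNat 0, Int.ofNat 2, Int.ofNat 0, Int.ofNat 0],
  [Int.ofNat 0, Int.ofNat 0, Int.ofNat 0, Int.ofNat 0, Int.ofNat 0, Int.ofNat 0, Int.ofNat 0, Int.negSucc 1, Int.ofNat 0, Int.ofNat 2, Int.ofNat 0, Int.ofNat 0, Int.ofNat 2, Int.ofNat 0, Int.ofNat 0, Int.ofNat 2, Int.negSucc 1, Int.ofNat 0, Int.ofNat 2, Int.ofNat 0, Int.ofNat 0, Int.ofNat 2, Int.ofNat 2, Int.ofNat 0],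
  [Int.ofNat 0, Int.ofNat 0, Int.ofNat 0, Int.ofNat 0, Int.ofNat 0, Int.ofNat 0, Int.ofNat 0, Int.ofNat 2, Int.ofNat 0, Int.negSucc 1, Int.ofNat 0, Int.ofNat 0, Int.ofNat 2, Int.ofNat 0, Int.ofNat 0, Int.ofNat 2, Int.negSucc 1, Int.ofNat 0, Int.negSucc 1, Int.ofNat 0, Int.ofNat 0, Int.negSucc 1, Int.ofNat 2, Int.ofNat 0],
  [Int.ofNat 2, Int.ofNat 0, Int.ofNat 0, Int.ofNat 0, Int.ofNat 0, Int.ofNat 0, Int.ofNat 0, Int.ofNat 0, Int.ofNat 2, Int.ofNat 0, Int.negSucc 1, Int.ofNat 0, Int.ofNat 0, Int.ofNat 2, Int.ofNat 0, Int.ofNat 0, Int.ofNat 2, Int.negSucc 1, Int.ofNat 0, Int.negSucc 1, Int.ofNat 0, Int.ofNat 0, Int.negSucc 1, Int.ofNat 0],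
  [Int.negSucc 0, Int.ofNat 1, Int.ofNat 1, Int.ofNat 1, Int.negSucc 0, Int.ofNat 1, Int.ofNat 1, Int.ofNat 1, Int.ofNat 1, Int.ofNat 1, Int.negSucc 0, Int.negSucc 0, Int.negSucc 0, Int.ofNat 1, Int.ofNat 1, Int.ofNat 1, Int.ofNat 1, Int.negSucc 0, Int.negSucc 0, Int.negSucc 0, Int.ofNat 1, Int.ofNat 1, Int.negSucc 2, Int.ofNat 1],
  [Int.ofNat 1, Int.negSucc 0, Int.ofNat 1, Int.ofNat 1, Int.ofNat 1, Int.ofNat 1, Int.ofNat 1, Int.negSucc 0, Int.negSucc 0, Int.negSucc 0, Int.ofNat 1, Int.ofNat 1, Int.ofNat 1, Int.ofNat 1, Int.negSucc 0, Int.negSucc 0, Int.negSucc 0, Int.ofNat 1, Int.ofNat 1, Int.negSucc 2, Int.negSucc 0, Int.ofNat 1, Int.ofNat 1, Int.ofNat 1],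
  [Int.ofNat 0, Int.ofNat 2, Int.ofNat 0, Int.ofNat 0, Int.ofNat 0, Int.ofNat 0, Int.ofNat 2, Int.ofNat 0, Int.negSucc 1, Int.ofNat 0, Int.ofNat 2, Int.ofNat 0, Int.ofNat 0, Int.ofNat 0, Int.negSucc 1, Int.ofNat 0, Int.negSucc 1, Int.ofNat 0, Int.ofNat 0, Int.negSucc 1, Int.ofNat 0, Int.ofNat 2, Int.ofNat 0, Int.ofNat 0],
  [Int.ofNat 0, Int.ofNat 2, Int.ofNat 0, Int.ofNat 0, Int.ofNat 0, Int.ofNat 0, Int.ofNat 0, Int.ofNat 2, Int.ofNat 0, Int.ofNat 0, Int.ofNat 0, Int.ofNat 0, Int.ofNat 0, Int.negSucc 1, Int.ofNat 0, Int.ofNat 0, Int.negSucc 1, Int.negSucc 1, Int.ofNat 2, Int.ofNat 0, Int.ofNat 2, Int.ofNat 0, Int.negSucc 1, Int.ofNat 0],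
  [Int.ofNat 1, Int.negSucc 0, Int.ofNat 1, Int.ofNat 1, Int.ofNat 3, Int.ofNat 1, Int.negSucc 0, Int.ofNat 1, Int.negSucc 0, Int.negSucc 0, Int.negSucc 0, Int.negSucc 0, Int.negSucc 0, Int.ofNat 1, Int.ofNat 1, Int.negSucc 0, Int.ofNat 1, Int.negSucc 0, Int.ofNat 1, Int.negSucc 0, Int.ofNat 1, Int.negSucc 0, Int.ofNat 1, Int.ofNat 1],
  [Int.ofNat 1, Int.negSucc 0, Int.negSucc 0, Int.ofNat 1, Int.ofNat 3, Int.negSucc 0, Int.ofNat 1, Int.ofNat 1, Int.negSucc 0, Int.ofNat 1, Int.ofNat 1, Int.negSucc 0, Int.negSucc 0, Int.ofNat 1, Int.ofNat 1, Int.ofNat 1, Int.ofNat 1, Int.negSucc 0, Int.negSucc 0, Int.negSucc 0, Int.ofNat 1, Int.negSucc 0, Int.negSucc 0, Int.ofNat 1],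
  [Int.negSucc 0, Int.negSucc 0, Int.ofNat 1, Int.negSucc 0, Int.negSucc 0, Int.ofNat 1, Int.negSucc 0, Int.ofNat 1, Int.ofNat 1, Int.negSucc 0, Int.ofNat 1, Int.negSucc 0, Int.ofNat 1, Int.ofNat 1, Int.ofNat 1, Int.ofNat 3, Int.negSucc 0, Int.negSucc 0, Int.negSucc 0, Int.negSucc 0, Int.ofNat 1, Int.ofNat 1, Int.ofNat 1, Int.ofNat 1],
  [Int.negSucc 0, Int.negSucc 0, Int.negSucc 0, Int.negSucc 0, Int.negSucc 0, Int.negSucc 0, Int.ofNat 1, Int.ofNat 1, Int.ofNat 1, Int.ofNat 1, Int.negSucc 0, Int.negSucc 0, Int.ofNat 1, Int.ofNat 1, Int.ofNat 1, Int.negSucc 2, Int.negSucc 0, Int.negSucc 0, Int.ofNat 1, Int.negSucc 0, Int.ofNat 1, Int.ofNat 1, Int.negSucc 0, Int.ofNat 1],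
  [Int.ofNat 0, Int.ofNat 0, Int.ofNat 0, Int.ofNat 0, Int.ofNat 0, Int.ofNat 0, Int.ofNat 0, Int.ofNat 0, Int.ofNat 0, Int.ofNat 2, Int.ofNat 0, Int.negSucc 1, Int.ofNat 0, Int.ofNat 2, Int.ofNat 2, Int.negSucc 1, Int.ofNat 0, Int.ofNat 0, Int.ofNat 0, Int.negSucc 1, Int.ofNat 2, Int.ofNat 0, Int.ofNat 0, Int.negSucc 1],
  [Int.ofNat 0, Int.ofNat 0, Int.ofNat 0, Int.ofNat 0, Int.ofNat 0, Int.ofNat 0, Int.ofNat 0, Int.ofNat 0, Int.ofNat 0, Int.ofNat 0, Int.ofNat 0, Int.negSucc 1, Int.ofNat 0, Int.ofNat 2, Int.ofNat 0, Int.negSucc 1, Int.ofNat 2, Int.negSucc 1, Int.ofNat 0, Int.ofNat 0, Int.ofNat 0, Int.ofNat 2, Int.ofNat 2, Int.negSucc 1],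
  [Int.negSucc 0, Int.negSucc 0, Int.negSucc 0, Int.ofNat 1, Int.negSucc 2, Int.ofNat 1, Int.negSucc 0, Int.negSucc 0, Int.ofNat 1, Int.ofNat 1, Int.ofNat 1, Int.negSucc 0, Int.ofNat 1, Int.negSucc 0, Int.ofNat 1, Int.negSucc 0, Int.negSucc 0, Int.negSucc 0, Int.ofNat 1, Int.negSucc 0, Int.ofNat 1, Int.ofNat 1, Int.negSucc 0, Int.ofNat 1],
  [Int.ofNat 1, Int.ofNat 1, Int.negSucc 0, Int.negSucc 0, Int.negSucc 0, Int.negSucc 0, Int.ofNat 1, Int.negSucc 2, Int.ofNat 1, Int.negSucc 0, Int.negSucc 0, Int.ofNat 1, Int.ofNat 1, Int.ofNat 1, Int.negSucc 0, Int.ofNat 1, Int.negSucc 0, Int.ofNat 1, Int.negSucc 0, Int.negSucc 0, Int.negSucc 0, Int.ofNat 1, Int.negSucc 0, Int.ofNat 1],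
  [Int.ofNat 0, Int.ofNat 0, Int.ofNat 2, Int.ofNat 0, Int.ofNat 0, Int.ofNat 0, Int.ofNat 2, Int.negSucc 1, Int.ofNat 0, Int.ofNat 0, Int.ofNat 0, Int.ofNat 0, Int.ofNat 0, Int.ofNat 2, Int.ofNat 0, Int.ofNat 2, Int.ofNat 0, Int.ofNat 2, Int.negSucc 1, Int.ofNat 0, Int.ofNat 0, Int.ofNat 2, Int.ofNat 0, Int.ofNat 0],
  [Int.ofNat 0, Int.ofNat 2, Int.ofNat 0, Int.ofNat 0, Int.ofNat 0, Int.ofNat 2, Int.negSucc 1, Int.ofNat 0, Int.ofNat 0, Int.ofNat 0, Int.ofNat 0, Int.ofNat 0, Int.ofNat 2, Int.ofNat 0, Int.ofNat 2, Int.ofNat 0, Int.ofNat 2, Int.negSucc 1, Int.ofNat 0, Int.ofNat 0, Int.ofNat 2, Int.ofNat 0, Int.ofNat 0, Int.ofNat 0],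
  [Int.ofNat 0, Int.ofNat 2, Int.ofNat 0, Int.ofNat 0, Int.ofNat 0, Int.ofNat 2, Int.negSucc 1, Int.ofNat 0, Int.ofNat 0, Int.ofNat 0, Int.ofNat 0, Int.ofNat 0, Int.ofNat 2, Int.ofNat 0, Int.ofNat 2, Int.ofNat 0, Int.ofNat 2, Int.negSucc 1, Int.ofNat 0, Int.ofNat 0, Int.ofNat 2, Int.ofNat 0, Int.ofNat 0, Int.ofNat 0]]

set_option maxRecDepth 100000 in
theorem c1e21_chk : pmChk (List.replicate 14 [21, 0, 25]).flatten nxL c1e21M 0 0 = true := by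
  decide +kernel

theorem c1e21_ne : wE letE2 (List.replicate 14 [21, 0, 25]).flatten ≠ 1 ∧ wE letE2 (List.replicate 14 [21, 0, 25]).flatten ≠ negElt :=
  ne_pm_of_chk nxL_mem c1e21_chk

set_option maxRecDepth 100000 in
def c1e22M : List (List ℤ) :=
  [[Int.ofNat 4, Int.ofNat 0, Int.ofNat 0, Int.ofNat 0, Int.ofNat 0, Int.ofNat 0, Int.ofNat 0, Int.ofNat 0, Int.ofNat 0, Int.ofNat 0, Int.ofNat 0, Int.ofNat 0, Int.ofNat 0, Int.ofNat 0, Int.ofNat 0, Int.ofNat 0, Int.ofNat 0, Int.ofNat 0, Int.ofNat 0, Int.ofNat 0, Int.ofNat 0, Int.ofNat 0, Int.ofNat 0, Int.ofNat 4],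
  [Int.ofNat 4, Int.ofNat 0, Int.ofNat 0, Int.ofNat 0, Int.ofNat 0, Int.ofNat 0, Int.ofNat 0, Int.ofNat 0, Int.ofNat 0, Int.ofNat 0, Int.ofNat 0, Int.ofNat 0, Int.ofNat 0, Int.ofNat 0, Int.ofNat 0, Int.ofNat 0, Int.ofNat 0, Int.ofNat 0, Int.ofNat 0, Int.ofNat 0, Int.ofNat 0, Int.ofNat 0, Int.ofNat 0, Int.ofNat 4],
  [Int.negSucc 3, Int.ofNat 0, Int.ofNat 0, Int.ofNat 0, Int.ofNat 0, Int.ofNat 0, Int.ofNat 0, Int.ofNat 0, Int.ofNat 0, Int.ofNat 0, Int.ofNat 0, Int.ofNat 0, Int.ofNat 0, Int.ofNat 0, Int.ofNat 0, Int.ofNat 0, Int.ofNat 0, Int.ofNat 0, Int.ofNat 0, Int.ofNat 0, Int.ofNat 0, Int.ofNat 0, Int.ofNat 0, Int.ofNat 4],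
  [Int.ofNat 0, Int.negSucc 3, Int.ofNat 0, Int.ofNat 0, Int.ofNat 0, Int.ofNat 0, Int.ofNat 0, Int.ofNat 0, Int.ofNat 0, Int.ofNat 0, Int.ofNat 0, Int.ofNat 0, Int.ofNat 0, Int.ofNat 0, Int.ofNat 0, Int.ofNat 0, Int.ofNat 0, Int.ofNat 0, Int.ofNat 0, Int.ofNat 0, Int.ofNat 0, Int.ofNat 0, Int.ofNat 0, Int.ofNat 4],
  [Int.ofNat 0, Int.ofNat 4, Int.ofNat 0, Int.ofNat 0, Int.ofNat 0, Int.ofNat 0, Int.ofNat 0, Int.ofNat 0, Int.ofNat 0, Int.ofNat 0, Int.ofNat 0, Int.ofNat 0, Int.ofNat 0, Int.ofNat 0, Int.ofNat 0, Int.ofNat 0, Int.ofNat 0, Int.ofNat 0, Int.ofNat 0, Int.ofNat 0, Int.ofNat 0, Int.ofNat 0, Int.ofNat 0, Int.negSucc 3],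
  [Int.ofNat 0, Int.ofNat 0, Int.ofNat 0, Int.ofNat 0, Int.ofNat 0, Int.ofNat 0, Int.ofNat 0, Int.ofNat 0, Int.ofNat 0, Int.ofNat 0, Int.ofNat 0, Int.ofNat 0, Int.ofNat 0, Int.ofNat 0, Int.ofNat 0, Int.ofNat 0, Int.ofNat 0, Int.ofNat 0, Int.ofNat 0, Int.ofNat 0, Int.ofNat 0, Int.ofNat 4, Int.ofNat 0, Int.negSucc 3],
  [Int.negSucc 1, Int.negSucc 1, Int.negSucc 1, Int.ofNat 0, Int.ofNat 0, Int.ofNat 0, Int.negSucc 1, Int.negSucc 1, Int.ofNat 0, Int.ofNat 0, Int.ofNat 0, Int.ofNat 0, Int.ofNat 0, Int.ofNat 0, Int.ofNat 0, Int.ofNat 0, Int.ofNat 0, Int.ofNat 0, Int.ofNat 0, Int.negSucc 1, Int.ofNat 0, Int.ofNat 2, Int.ofNat 0, Int.ofNat 2],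
  [Int.negSucc 1, Int.negSucc 1, Int.ofNat 0, Int.ofNat 0, Int.ofNat 0, Int.negSucc 1, Int.negSucc 1, Int.ofNat 0, Int.ofNat 0, Int.ofNat 0, Int.ofNat 0, Int.ofNat 0, Int.ofNat 0, Int.ofNat 0, Int.ofNat 0, Int.ofNat 0, Int.ofNat 0, Int.ofNat 0, Int.negSucc 1, Int.ofNat 0, Int.ofNat 2, Int.ofNat 0, Int.negSucc 1, Int.ofNat 2],
  [Int.ofNat 1, Int.ofNat 1, Int.negSucc 0, Int.ofNat 1, Int.ofNat 1, Int.negSucc 0, Int.negSucc 0, Int.ofNat 1, Int.ofNat 1, Int.negSucc 0, Int.negSucc 0, Int.ofNat 1, Int.ofNat 1, Int.ofNat 1, Int.ofNat 1, Int.negSucc 0, Int.ofNat 1, Int.ofNat 1, Int.negSucc 0, Int.ofNat 1, Int.ofNat 1, Int.ofNat 1, Int.negSucc 0, Int.negSucc 2],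
  [Int.ofNat 1, Int.ofNat 1, Int.ofNat 1, Int.ofNat 1, Int.ofNat 1, Int.ofNat 1, Int.ofNat 1, Int.ofNat 1, Int.ofNat 1, Int.ofNat 1, Int.ofNat 1, Int.ofNat 1, Int.ofNat 1, Int.ofNat 1, Int.ofNat 1, Int.ofNat 1, Int.ofNat 1, Int.ofNat 1, Int.ofNat 1, Int.ofNat 1, Int.ofNat 1, Int.ofNat 1, Int.ofNat 1, Int.negSucc 2],
  [Int.ofNat 1, Int.ofNat 1, Int.ofNat 1, Int.ofNat 1, Int.ofNat 1, Int.ofNat 1, Int.ofNat 1, Int.ofNat 1, Int.ofNat 1, Int.ofNat 1, Int.ofNat 1, Int.ofNat 1, Int.ofNat 1, Int.ofNat 1, Int.ofNat 1, Int.ofNat 1, Int.ofNat 1, Int.ofNat 1, Int.ofNat 1, Int.ofNat 1, Int.ofNat 1, Int.ofNat 1, Int.ofNat 1, Int.negSucc 2],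
  [Int.ofNat 1, Int.ofNat 1, Int.negSucc 0, Int.ofNat 1, Int.ofNat 1, Int.negSucc 0, Int.negSucc 0, Int.ofNat 1, Int.ofNat 1, Int.negSucc 0, Int.negSucc 0, Int.ofNat 1, Int.ofNat 1, Int.ofNat 1, Int.ofNat 1, Int.negSucc 0, Int.ofNat 1, Int.ofNat 1, Int.negSucc 0, Int.ofNat 1, Int.ofNat 1, Int.ofNat 1, Int.negSucc 0, Int.negSucc 2],
  [Int.negSucc 1, Int.negSucc 1, Int.ofNat 0, Int.ofNat 0, Int.ofNat 0, Int.negSucc 1, Int.negSucc 1, Int.ofNat 0, Int.ofNat 0, Int.ofNat 0, Int.ofNat 0, Int.ofNat 0, Int.ofNat 0, Int.ofNat 0, Int.ofNat 0, Int.ofNat 0, Int.ofNat 0, Int.ofNat 0, Int.negSucc 1, Int.ofNat 0, Int.ofNat 2, Int.ofNat 0, Int.negSucc 1, Int.ofNat 2],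
  [Int.negSucc 1, Int.negSucc 1, Int.negSucc 1, Int.ofNat 0, Int.ofNat 0, Int.ofNat 0, Int.negSucc 1, Int.negSucc 1, Int.ofNat 0, Int.ofNat 0, Int.ofNat 0, Int.ofNat 0, Int.ofNat 0, Int.ofNat 0, Int.ofNat 0, Int.ofNat 0, Int.ofNat 0, Int.ofNat 0, Int.ofNat 0, Int.negSucc 1, Int.ofNat 0, Int.ofNat 2, Int.ofNat 0, Int.ofNat 2],
  [Int.ofNat 0, Int.ofNat 0, Int.ofNat 0, Int.ofNat 0, Int.ofNat 0, Int.ofNat 0, Int.ofNat 0, Int.ofNat 0, Int.ofNat 0, Int.ofNat 0, Int.ofNat 0, Int.ofNat 0, Int.ofNat 0, Int.ofNat 0, Int.ofNat 0, Int.ofNat 0, Int.ofNat 0, Int.ofNat 0, Int.ofNat 0, Int.ofNat 0, Int.ofNat 0, Int.ofNat 4, Int.ofNat 0, Int.negSucc 3],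
  [Int.ofNat 0, Int.ofNat 4, Int.ofNat 0, Int.ofNat 0, Int.ofNat 0, Int.ofNat 0, Int.ofNat 0, Int.ofNat 0, Int.ofNat 0, Int.ofNat 0, Int.ofNat 0, Int.ofNat 0, Int.ofNat 0, Int.ofNat 0, Int.ofNat 0, Int.ofNat 0, Int.ofNat 0, Int.ofNat 0, Int.ofNat 0, Int.ofNat 0, Int.ofNat 0, Int.ofNat 0, Int.ofNat 0, Int.negSucc 3],
  [Int.ofNat 0, Int.negSucc 3, Int.ofNat 0, Int.ofNat 0, Int.ofNat 0, Int.ofNat 0, Int.ofNat 0, Int.ofNat 0, Int.ofNat 0, Int.ofNat 0, Int.ofNat 0, Int.ofNat 0, Int.ofNat 0, Int.ofNat 0, Int.ofNat 0, Int.ofNat 0, Int.ofNat 0, Int.ofNat 0, Int.ofNat 0, Int.ofNat 0, Int.ofNat 0, Int.ofNat 0, Int.ofNat 0, Int.ofNat 4],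
  [Int.negSucc 3, Int.ofNat 0, Int.ofNat 0, Int.ofNat 0, Int.ofNat 0, Int.ofNat 0, Int.ofNat 0, Int.ofNat 0, Int.ofNat 0, Int.ofNat 0, Int.ofNat 0, Int.ofNat 0, Int.ofNat 0, Int.ofNat 0, Int.ofNat 0, Int.ofNat 0, Int.ofNat 0, Int.ofNat 0, Int.ofNat 0, Int.ofNat 0, Int.ofNat 0, Int.ofNat 0, Int.ofNat 0, Int.ofNat 4],
  [Int.ofNat 4, Int.ofNat 0, Int.ofNat 0, Int.ofNat 0, Int.ofNat 0, Int.ofNat 0, Int.ofNat 0, Int.ofNat 0, Int.ofNat 0, Int.ofNat 0, Int.ofNat 0, Int.ofNat 0, Int.ofNat 0, Int.ofNat 0, Int.ofNat 0, Int.ofNat 0, Int.ofNat 0, Int.ofNat 0, Int.ofNat 0, Int.ofNat 0, Int.ofNat 0, Int.ofNat 0, Int.ofNat 0, Int.ofNat 4],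
  [Int.negSucc 3, Int.ofNat 0, Int.ofNat 0, Int.ofNat 0, Int.ofNat 0, Int.ofNat 0, Int.ofNat 0, Int.ofNat 0, Int.ofNat 0, Int.ofNat 0, Int.ofNat 0, Int.ofNat 0, Int.ofNat 0, Int.ofNat 0, Int.ofNat 0, Int.ofNat 0, Int.ofNat 0, Int.ofNat 0, Int.ofNat 0, Int.ofNat 0, Int.ofNat 0, Int.ofNat 0, Int.ofNat 0, Int.ofNat 4],
  [Int.ofNat 4, Int.ofNat 0, Int.ofNat 0, Int.ofNat 0, Int.ofNat 0, Int.ofNat 0, Int.ofNat 0, Int.ofNat 0, Int.ofNat 0, Int.ofNat 0, Int.ofNat 0, Int.ofNat 0, Int.ofNat 0, Int.ofNat 0, Int.ofNat 0, Int.ofNat 0, Int.ofNat 0, Int.ofNat 0, Int.ofNat 0, Int.ofNat 0, Int.ofNat 0, Int.ofNat 0, Int.ofNat 0, Int.negSucc 3],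
  [Int.negSucc 3, Int.ofNat 0, Int.ofNat 0, Int.ofNat 0, Int.ofNat 0, Int.ofNat 0, Int.ofNat 0, Int.ofNat 0, Int.ofNat 0, Int.ofNat 0, Int.ofNat 0, Int.ofNat 0, Int.ofNat 0, Int.ofNat 0, Int.ofNat 0, Int.ofNat 0, Int.ofNat 0, Int.ofNat 0, Int.ofNat 0, Int.ofNat 0, Int.ofNat 0, Int.ofNat 0, Int.ofNat 0, Int.negSucc 3],
  [Int.ofNat 0, Int.negSucc 3, Int.ofNat 0, Int.ofNat 0, Int.ofNat 0, Int.ofNat 0, Int.ofNat 0, Int.ofNat 0, Int.ofNat 0, Int.ofNat 0, Int.ofNat 0, Int.ofNat 0, Int.ofNat 0, Int.ofNat 0, Int.ofNat 0, Int.ofNat 0, Int.ofNat 0, Int.ofNat 0, Int.ofNat 0, Int.ofNat 0, Int.ofNat 0, Int.ofNat 0, Int.ofNat 0, Int.negSucc 3],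
  [Int.negSucc 3, Int.ofNat 0, Int.negSucc 3, Int.ofNat 0, Int.ofNat 0, Int.ofNat 0, Int.ofNat 0, Int.ofNat 0, Int.ofNat 0, Int.ofNat 0, Int.ofNat 0, Int.ofNat 0, Int.ofNat 0, Int.ofNat 0, Int.ofNat 0, Int.ofNat 0, Int.ofNat 0, Int.ofNat 0, Int.ofNat 0, Int.ofNat 0, Int.ofNat 0, Int.ofNat 0, Int.ofNat 0, Int.ofNat 0],
  [Int.ofNat 0, Int.ofNat 0, Int.ofNat 0, Int.ofNat 0, Int.ofNat 0, Int.ofNat 0, Int.ofNat 0, Int.ofNat 0, Int.ofNat 0, Int.ofNat 0, Int.ofNat 0, Int.ofNat 0, Int.ofNat 0, Int.ofNat 0, Int.ofNat 0, Int.ofNat 0, Int.ofNat 0, Int.ofNat 0, Int.ofNat 0, Int.ofNat 0, Int.negSucc 3, Int.ofNat 0, Int.negSucc 3, Int.ofNat 0],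
  [Int.ofNat 0, Int.ofNat 0, Int.ofNat 0, Int.ofNat 0, Int.ofNat 2, Int.ofNat 0, Int.ofNat 0, Int.ofNat 0, Int.ofNat 0, Int.ofNat 2, Int.ofNat 2, Int.ofNat 0, Int.ofNat 0, Int.ofNat 2, Int.ofNat 0, Int.ofNat 2, Int.ofNat 2, Int.ofNat 0, Int.ofNat 0, Int.ofNat 0, Int.negSucc 1, Int.ofNat 0, Int.negSucc 1, Int.ofNat 0],
  [Int.ofNat 0, Int.ofNat 0, Int.ofNat 2, Int.ofNat 0, Int.ofNat 0, Int.ofNat 0, Int.ofNat 0, Int.ofNat 2, Int.ofNat 0, Int.ofNat 2, Int.negSucc 1, Int.ofNat 0, Int.ofNat 2, Int.ofNat 2, Int.negSucc 1, Int.ofNat 2, Int.ofNat 0, Int.ofNat 0, Int.ofNat 0, Int.ofNat 0, Int.ofNat 0, Int.ofNat 0, Int.ofNat 0, Int.ofNat 0],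
  [Int.ofNat 1, Int.ofNat 1, Int.negSucc 0, Int.ofNat 1, Int.negSucc 0, Int.ofNat 1, Int.negSucc 0, Int.ofNat 1, Int.negSucc 0, Int.ofNat 1, Int.negSucc 2, Int.negSucc 0, Int.ofNat 1, Int.ofNat 1, Int.negSucc 0, Int.ofNat 1, Int.negSucc 0, Int.ofNat 1, Int.negSucc 0, Int.negSucc 0, Int.negSucc 0, Int.negSucc 0, Int.negSucc 0, Int.ofNat 1],
  [Int.ofNat 1, Int.ofNat 1, Int.ofNat 1, Int.ofNat 1, Int.negSucc 0, Int.negSucc 0, Int.ofNat 1, Int.ofNat 1, Int.negSucc 0, Int.negSucc 0, Int.ofNat 3, Int.negSucc 0, Int.ofNat 1, Int.ofNat 1, Int.negSucc 0, Int.negSucc 0, Int.negSucc 0, Int.ofNat 1, Int.ofNat 1, Int.negSucc 0, Int.negSucc 0, Int.negSucc 0, Int.ofNat 1, Int.ofNat 1],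
  [Int.negSucc 0, Int.ofNat 1, Int.negSucc 0, Int.ofNat 1, Int.negSucc 0, Int.ofNat 1, Int.ofNat 1, Int.ofNat 3, Int.ofNat 1, Int.ofNat 1, Int.negSucc 0, Int.ofNat 1, Int.negSucc 0, Int.ofNat 1, Int.negSucc 0, Int.negSucc 0, Int.negSucc 0, Int.negSucc 0, Int.negSucc 0, Int.ofNat 1, Int.ofNat 1, Int.negSucc 0, Int.ofNat 1, Int.ofNat 1],
  [Int.negSucc 0, Int.ofNat 1, Int.ofNat 1, Int.ofNat 1, Int.negSucc 0, Int.negSucc 0, Int.negSucc 0, Int.ofNat 3, Int.ofNat 1, Int.negSucc 0, Int.ofNat 1, Int.ofNat 1, Int.negSucc 0, Int.ofNat 1, Int.negSucc 0, Int.ofNat 1, Int.negSucc 0, Int.negSucc 0, Int.ofNat 1, Int.ofNat 1, Int.ofNat 1, Int.negSucc 0, Int.negSucc 0, Int.ofNat 1],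
  [Int.ofNat 2, Int.ofNat 0, Int.ofNat 0, Int.ofNat 2, Int.ofNat 0, Int.ofNat 0, Int.negSucc 1, Int.ofNat 2, Int.ofNat 0, Int.negSucc 1, Int.ofNat 0, Int.ofNat 0, Int.negSucc 1, Int.ofNat 2, Int.ofNat 0, Int.ofNat 0, Int.ofNat 0, Int.ofNat 0, Int.ofNat 0, Int.ofNat 0, Int.ofNat 0, Int.negSucc 1, Int.ofNat 0, Int.ofNat 0],
  [Int.ofNat 2, Int.ofNat 0, Int.negSucc 1, Int.ofNat 2, Int.ofNat 0, Int.negSucc 1, Int.ofNat 0, Int.ofNat 0, Int.ofNat 0, Int.negSucc 1, Int.ofNat 2, Int.ofNat 0, Int.ofNat 0, Int.negSucc 1, Int.ofNat 0, Int.ofNat 0, Int.ofNat 2, Int.ofNat 0, Int.ofNat 0, Int.ofNat 0, Int.ofNat 0, Int.ofNat 0, Int.ofNat 0, Int.ofNat 0],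
  [Int.negSucc 1, Int.ofNat 0, Int.ofNat 2, Int.ofNat 2, Int.ofNat 0, Int.negSucc 1, Int.ofNat 0, Int.ofNat 0, Int.ofNat 0, Int.negSucc 1, Int.ofNat 2, Int.ofNat 0, Int.ofNat 0, Int.negSucc 1, Int.ofNat 0, Int.ofNat 0, Int.ofNat 2, Int.ofNat 0, Int.ofNat 0, Int.ofNat 0, Int.ofNat 0, Int.ofNat 0, Int.ofNat 0, Int.ofNat 0],
  [Int.ofNat 0, Int.ofNat 0, Int.ofNat 0, Int.negSucc 1, Int.ofNat 0, Int.ofNat 2, Int.ofNat 2, Int.ofNat 0, Int.negSucc 1, Int.ofNat 0, Int.ofNat 0, Int.ofNat 0, Int.negSucc 1, Int.ofNat 2, Int.ofNat 0, Int.ofNat 0, Int.negSucc 1, Int.ofNat 0, Int.ofNat 0, Int.ofNat 2, Int.ofNat 0, Int.ofNat 0, Int.ofNat 0, Int.ofNat 0],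
  [Int.ofNat 0, Int.ofNat 0, Int.ofNat 0, Int.negSucc 1, Int.ofNat 0, Int.ofNat 2, Int.ofNat 0, Int.negSucc 1, Int.ofNat 0, Int.ofNat 0, Int.ofNat 0, Int.ofNat 2, Int.ofNat 0, Int.ofNat 2, Int.ofNat 0, Int.ofNat 0, Int.negSucc 1, Int.ofNat 0, Int.ofNat 2, Int.ofNat 0, Int.ofNat 0, Int.negSucc 1, Int.ofNat 0, Int.ofNat 0],
  [Int.ofNat 0, Int.ofNat 0, Int.negSucc 1, Int.ofNat 0, Int.ofNat 2, Int.ofNat 0, Int.negSucc 1, Int.ofNat 0, Int.ofNat 0, Int.ofNat 0, Int.ofNat 2, Int.ofNat 0, Int.ofNat 2, Int.ofNat 0, Int.ofNat 0, Int.negSucc 1, Int.ofNat 0, Int.ofNat 2, Int.ofNat 0, Int.ofNat 0, Int.negSucc 1, Int.ofNat 0, Int.ofNat 0, Int.ofNat 0],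
  [Int.ofNat 0, Int.ofNat 0, Int.ofNat 2, Int.ofNat 0, Int.ofNat 2, Int.ofNat 0, Int.negSucc 1, Int.ofNat 0, Int.ofNat 0, Int.ofNat 0, Int.negSucc 1, Int.ofNat 0, Int.ofNat 2, Int.ofNat 0, Int.ofNat 0, Int.negSucc 1, Int.ofNat 0, Int.ofNat 2, Int.ofNat 0, Int.ofNat 0, Int.negSucc 1, Int.ofNat 0, Int.ofNat 0, Int.ofNat 0],
  [Int.ofNat 0, Int.ofNat 0, Int.negSucc 1, Int.ofNat 0, Int.negSucc 1, Int.ofNat 0, Int.ofNat 2, Int.ofNat 0, Int.ofNat 0, Int.ofNat 0, Int.negSucc 1, Int.ofNat 0, Int.negSucc 1, Int.ofNat 0, Int.ofNat 0, Int.negSucc 1, Int.ofNat 0, Int.ofNat 2, Int.ofNat 0, Int.ofNat 0, Int.negSucc 1, Int.ofNat 0, Int.ofNat 0, Int.ofNat 0],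
  [Int.ofNat 0, Int.ofNat 0, Int.ofNat 0, Int.negSucc 1, Int.ofNat 2, Int.ofNat 0, Int.ofNat 0, Int.ofNat 0, Int.negSucc 1, Int.ofNat 0, Int.ofNat 0, Int.negSucc 1, Int.ofNat 0, Int.ofNat 0, Int.ofNat 0, Int.ofNat 0, Int.negSucc 1, Int.negSucc 1, Int.ofNat 0, Int.ofNat 2, Int.ofNat 0, Int.negSucc 1, Int.ofNat 0, Int.ofNat 0],
  [Int.ofNat 0, Int.ofNat 0, Int.ofNat 0, Int.negSucc 1, Int.ofNat 2, Int.ofNat 0, Int.ofNat 0, Int.ofNat 0, Int.negSucc 1, Int.ofNat 0, Int.ofNat 0, Int.ofNat 2, Int.ofNat 0, Int.ofNat 0, Int.ofNat 0, Int.ofNat 0, Int.negSucc 1, Int.negSucc 1, Int.ofNat 0, Int.ofNat 2, Int.ofNat 0, Int.ofNat 2, Int.ofNat 0, Int.ofNat 0],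
  [Int.ofNat 0, Int.ofNat 0, Int.ofNat 0, Int.ofNat 0, Int.negSucc 1, Int.ofNat 2, Int.ofNat 0, Int.ofNat 0, Int.ofNat 0, Int.negSucc 1, Int.ofNat 0, Int.ofNat 0, Int.ofNat 2, Int.ofNat 0, Int.ofNat 0, Int.ofNat 0, Int.ofNat 0, Int.negSucc 1, Int.negSucc 1, Int.ofNat 0, Int.ofNat 2, Int.ofNat 0, Int.ofNat 2, Int.ofNat 0],
  [Int.ofNat 0, Int.ofNat 0, Int.ofNat 0, Int.ofNat 0, Int.negSucc 1, Int.ofNat 2, Int.ofNat 0, Int.ofNat 0, Int.ofNat 0, Int.negSucc 1, Int.ofNat 0, Int.ofNat 0, Int.ofNat 2, Int.ofNat 0, Int.ofNat 0, Int.ofNat 0, Int.ofNat 0, Int.negSucc 1, Int.negSucc 1, Int.ofNat 0, Int.ofNat 2, Int.ofNat 0, Int.ofNat 2, Int.ofNat 0],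
  [Int.ofNat 0, Int.negSucc 1, Int.ofNat 2, Int.ofNat 0, Int.ofNat 0, Int.ofNat 0, Int.negSucc 1, Int.ofNat 0, Int.ofNat 0, Int.ofNat 2, Int.ofNat 0, Int.ofNat 0, Int.ofNat 0, Int.ofNat 0, Int.negSucc 1, Int.negSucc 1, Int.ofNat 0, Int.ofNat 2, Int.ofNat 0, Int.ofNat 2, Int.ofNat 0, Int.ofNat 0, Int.ofNat 0, Int.ofNat 0],
  [Int.ofNat 0, Int.ofNat 2, Int.negSucc 1, Int.ofNat 0, Int.ofNat 0, Int.ofNat 0, Int.negSucc 1, Int.ofNat 0, Int.ofNat 0, Int.ofNat 2, Int.ofNat 0, Int.ofNat 0, Int.ofNat 0, Int.ofNat 0, Int.negSucc 1, Int.negSucc 1, Int.ofNat 0, Int.ofNat 2, Int.ofNat 0, Int.ofNat 2, Int.ofNat 0, Int.ofNat 0, Int.ofNat 0, Int.ofNat 0],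
  [Int.ofNat 0, Int.negSucc 1, Int.ofNat 0, Int.ofNat 0, Int.ofNat 0, Int.ofNat 0, Int.negSucc 1, Int.ofNat 0, Int.ofNat 0, Int.ofNat 0, Int.ofNat 0, Int.ofNat 2, Int.ofNat 2, Int.ofNat 0, Int.ofNat 0, Int.negSucc 1, Int.ofNat 0, Int.negSucc 1, Int.ofNat 2, Int.ofNat 0, Int.ofNat 0, Int.ofNat 0, Int.ofNat 2, Int.ofNat 0],
  [Int.negSucc 0, Int.ofNat 1, Int.negSucc 0, Int.ofNat 1, Int.negSucc 0, Int.ofNat 1, Int.negSucc 0, Int.ofNat 1, Int.negSucc 2, Int.ofNat 1, Int.ofNat 1, Int.negSucc 0, Int.negSucc 0, Int.negSucc 0, Int.ofNat 1, Int.negSucc 0, Int.negSucc 0, Int.negSucc 0, Int.negSucc 0, Int.ofNat 1, Int.ofNat 1, Int.ofNat 1, Int.ofNat 1, Int.negSucc 0],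
  [Int.negSucc 0, Int.ofNat 1, Int.ofNat 1, Int.ofNat 1, Int.negSucc 0, Int.negSucc 0, Int.ofNat 1, Int.ofNat 1, Int.negSucc 2, Int.negSucc 0, Int.negSucc 0, Int.negSucc 0, Int.negSucc 0, Int.negSucc 0, Int.ofNat 1, Int.ofNat 1, Int.negSucc 0, Int.negSucc 0, Int.ofNat 1, Int.ofNat 1, Int.ofNat 1, Int.ofNat 1, Int.negSucc 0, Int.negSucc 0],
  [Int.ofNat 1, Int.negSucc 0, Int.negSucc 0, Int.ofNat 1, Int.negSucc 0, Int.negSucc 0, Int.negSucc 0, Int.negSucc 0, Int.ofNat 1, Int.ofNat 1, Int.ofNat 1, Int.negSucc 0, Int.ofNat 1, Int.negSucc 0, Int.ofNat 1, Int.negSucc 0, Int.negSucc 0, Int.negSucc 2, Int.ofNat 1, Int.ofNat 1, Int.ofNat 1, Int.negSucc 0, Int.ofNat 1, Int.negSucc 0],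
  [Int.ofNat 1, Int.negSucc 0, Int.ofNat 1, Int.ofNat 1, Int.negSucc 0, Int.ofNat 1, Int.ofNat 1, Int.negSucc 0, Int.ofNat 1, Int.negSucc 0, Int.negSucc 0, Int.negSucc 0, Int.ofNat 1, Int.negSucc 0, Int.ofNat 1, Int.ofNat 1, Int.negSucc 0, Int.negSucc 2, Int.negSucc 0, Int.ofNat 1, Int.ofNat 1, Int.negSucc 0, Int.negSucc 0, Int.negSucc 0],
  [Int.negSucc 0, Int.ofNat 1, Int.negSucc 0, Int.ofNat 1, Int.ofNat 1, Int.ofNat 1, Int.ofNat 1, Int.negSucc 0, Int.ofNat 1, Int.negSucc 0, Int.negSucc 0, Int.negSucc 0, Int.ofNat 1, Int.ofNat 1, Int.ofNat 1, Int.ofNat 1, Int.ofNat 1, Int.negSucc 2, Int.negSucc 0, Int.ofNat 1, Int.ofNat 1, Int.negSucc 0, Int.ofNat 1, Int.ofNat 1],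
  [Int.negSucc 0, Int.negSucc 0, Int.ofNat 1, Int.ofNat 1, Int.negSucc 0, Int.negSucc 0, Int.ofNat 1, Int.ofNat 1, Int.ofNat 1, Int.ofNat 1, Int.negSucc 0, Int.ofNat 1, Int.ofNat 1, Int.negSucc 0, Int.negSucc 2, Int.ofNat 1, Int.ofNat 1, Int.negSucc 0, Int.ofNat 1, Int.ofNat 1, Int.negSucc 0, Int.ofNat 1, Int.ofNat 1, Int.ofNat 1],
  [Int.ofNat 1, Int.ofNat 1, Int.negSucc 0, Int.ofNat 3, Int.negSucc 0, Int.ofNat 1, Int.negSucc 0, Int.negSucc 0, Int.negSucc 0, Int.ofNat 1, Int.negSucc 0, Int.negSucc 0, Int.negSucc 0, Int.negSucc 0, Int.negSucc 0, Int.ofNat 1, Int.ofNat 1, Int.ofNat 1, Int.negSucc 0, Int.negSucc 0, Int.negSucc 0, Int.negSucc 0, Int.ofNat 1, Int.negSucc 0],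
  [Int.negSucc 0, Int.negSucc 0, Int.ofNat 1, Int.ofNat 1, Int.ofNat 1, Int.negSucc 0, Int.ofNat 3, Int.negSucc 0, Int.ofNat 1, Int.negSucc 0, Int.negSucc 0, Int.negSucc 0, Int.ofNat 1, Int.negSucc 0, Int.negSucc 0, Int.negSucc 0, Int.negSucc 0, Int.negSucc 0, Int.ofNat 1, Int.ofNat 1, Int.ofNat 1, Int.negSucc 0, Int.negSucc 0, Int.negSucc 0],
  [Int.ofNat 0, Int.ofNat 0, Int.negSucc 1, Int.ofNat 2, Int.ofNat 2, Int.ofNat 0, Int.ofNat 2, Int.negSucc 1, Int.ofNat 0, Int.ofNat 0, Int.ofNat 0, Int.negSucc 1, Int.ofNat 0, Int.ofNat 0, Int.ofNat 0, Int.ofNat 0, Int.ofNat 0, Int.ofNat 0, Int.ofNat 0, Int.ofNat 0, Int.ofNat 2, Int.negSucc 1, Int.ofNat 0, Int.ofNat 0],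
  [Int.ofNat 0, Int.negSucc 1, Int.ofNat 2, Int.ofNat 2, Int.ofNat 0, Int.ofNat 2, Int.negSucc 1, Int.ofNat 0, Int.ofNat 0, Int.ofNat 0, Int.negSucc 1, Int.ofNat 0, Int.ofNat 0, Int.ofNat 0, Int.ofNat 0, Int.ofNat 0, Int.ofNat 0, Int.ofNat 0, Int.ofNat 0, Int.ofNat 2, Int.negSucc 1, Int.ofNat 0, Int.ofNat 0, Int.ofNat 0],
  [Int.ofNat 0, Int.negSucc 1, Int.negSucc 1, Int.ofNat 2, Int.ofNat 0, Int.ofNat 2, Int.negSucc 1, Int.ofNat 0, Int.ofNat 0, Int.ofNat 0, Int.ofNat 2, Int.ofNat 0, Int.ofNat 0, Int.ofNat 0, Int.ofNat 0, Int.ofNat 0, Int.ofNat 0, Int.ofNat 0, Int.ofNat 0, Int.ofNat 2, Int.negSucc 1, Int.ofNat 0, Int.ofNat 0, Int.ofNat 0],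
  [Int.ofNat 0, Int.ofNat 2, Int.ofNat 2, Int.negSucc 1, Int.ofNat 0, Int.ofNat 2, Int.ofNat 2, Int.ofNat 0, Int.ofNat 0, Int.ofNat 0, Int.ofNat 2, Int.ofNat 0, Int.ofNat 0, Int.ofNat 0, Int.ofNat 0, Int.ofNat 0, Int.ofNat 0, Int.ofNat 0, Int.ofNat 0, Int.ofNat 2, Int.negSucc 1, Int.ofNat 0, Int.ofNat 0, Int.ofNat 0],
  [Int.ofNat 0, Int.ofNat 0, Int.ofNat 0, Int.ofNat 0, Int.ofNat 0, Int.ofNat 0, Int.ofNat 2, Int.ofNat 0, Int.negSucc 1, Int.ofNat 2, Int.ofNat 0, Int.ofNat 2, Int.ofNat 0, Int.ofNat 0, Int.ofNat 0, Int.negSucc 1, Int.ofNat 2, Int.ofNat 0, Int.ofNat 0, Int.ofNat 2, Int.ofNat 0, Int.ofNat 0, Int.ofNat 2, Int.ofNat 0],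
  [Int.ofNat 0, Int.ofNat 0, Int.ofNat 0, Int.ofNat 0, Int.ofNat 0, Int.ofNat 0, Int.ofNat 2, Int.ofNat 0, Int.negSucc 1, Int.negSucc 1, Int.ofNat 0, Int.negSucc 1, Int.ofNat 0, Int.ofNat 0, Int.ofNat 0, Int.negSucc 1, Int.ofNat 2, Int.ofNat 0, Int.ofNat 0, Int.ofNat 2, Int.ofNat 0, Int.ofNat 0, Int.ofNat 2, Int.ofNat 0],
  [Int.ofNat 2, Int.ofNat 0, Int.ofNat 0, Int.ofNat 0, Int.ofNat 0, Int.ofNat 0, Int.ofNat 0, Int.ofNat 2, Int.ofNat 0, Int.negSucc 1, Int.negSucc 1, Int.ofNat 0, Int.negSucc 1, Int.ofNat 0, Int.ofNat 0, Int.ofNat 0, Int.negSucc 1, Int.ofNat 2, Int.ofNat 0, Int.ofNat 0, Int.ofNat 2, Int.ofNat 0, Int.ofNat 0, Int.ofNat 0],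
  [Int.negSucc 0, Int.ofNat 1, Int.ofNat 1, Int.negSucc 0, Int.ofNat 1, Int.negSucc 0, Int.negSucc 0, Int.ofNat 1, Int.ofNat 1, Int.negSucc 0, Int.negSucc 0, Int.ofNat 1, Int.negSucc 0, Int.ofNat 1, Int.negSucc 0, Int.ofNat 1, Int.negSucc 0, Int.ofNat 1, Int.ofNat 1, Int.negSucc 0, Int.ofNat 3, Int.negSucc 0, Int.ofNat 1, Int.ofNat 1],
  [Int.negSucc 0, Int.ofNat 1, Int.negSucc 0, Int.negSucc 0, Int.ofNat 1, Int.ofNat 1, Int.negSucc 0, Int.negSucc 0, Int.ofNat 1, Int.negSucc 0, Int.ofNat 1, Int.negSucc 0, Int.ofNat 1, Int.negSucc 0, Int.ofNat 1, Int.ofNat 1, Int.negSucc 0, Int.ofNat 3, Int.negSucc 0, Int.ofNat 1, Int.negSucc 0, Int.ofNat 1, Int.ofNat 1, Int.ofNat 1],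
  [Int.ofNat 1, Int.negSucc 0, Int.ofNat 1, Int.negSucc 2, Int.ofNat 1, Int.negSucc 0, Int.negSucc 0, Int.negSucc 0, Int.ofNat 1, Int.negSucc 0, Int.ofNat 1, Int.negSucc 0, Int.ofNat 1, Int.negSucc 0, Int.negSucc 0, Int.ofNat 1, Int.negSucc 0, Int.ofNat 1, Int.negSucc 0, Int.ofNat 1, Int.negSucc 0, Int.ofNat 1, Int.ofNat 1, Int.negSucc 0],
  [Int.ofNat 1, Int.negSucc 0, Int.ofNat 1, Int.negSucc 2, Int.negSucc 0, Int.negSucc 0, Int.ofNat 1, Int.ofNat 1, Int.ofNat 1, Int.negSucc 0, Int.negSucc 0, Int.ofNat 1, Int.negSucc 0, Int.negSucc 0, Int.ofNat 1, Int.ofNat 1, Int.ofNat 1, Int.negSucc 0, Int.negSucc 0, Int.negSucc 0, Int.ofNat 1, Int.negSucc 0, Int.ofNat 1, Int.negSucc 0],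
  [Int.negSucc 0, Int.ofNat 1, Int.negSucc 0, Int.negSucc 0, Int.negSucc 0, Int.ofNat 1, Int.ofNat 1, Int.ofNat 1, Int.ofNat 1, Int.negSucc 0, Int.negSucc 0, Int.ofNat 1, Int.negSucc 0, Int.negSucc 0, Int.ofNat 3, Int.ofNat 1, Int.ofNat 1, Int.ofNat 1, Int.negSucc 0, Int.negSucc 0, Int.ofNat 1, Int.negSucc 0, Int.ofNat 1, Int.ofNat 1],
  [Int.negSucc 0, Int.ofNat 1, Int.ofNat 1, Int.negSucc 0, Int.negSucc 0, Int.negSucc 0, Int.negSucc 0, Int.ofNat 1, Int.ofNat 1, Int.ofNat 1, Int.ofNat 1, Int.ofNat 1, Int.negSucc 0, Int.negSucc 0, Int.ofNat 3, Int.negSucc 0, Int.ofNat 1, Int.ofNat 1, Int.ofNat 1, Int.negSucc 0, Int.ofNat 1, Int.negSucc 0, Int.negSucc 0, Int.ofNat 1],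
  [Int.ofNat 1, Int.negSucc 0, Int.negSucc 0, Int.ofNat 1, Int.ofNat 1, Int.negSucc 0, Int.negSucc 0, Int.ofNat 1, Int.ofNat 1, Int.negSucc 0, Int.negSucc 0, Int.ofNat 1, Int.negSucc 0, Int.negSucc 0, Int.negSucc 0, Int.ofNat 1, Int.negSucc 0, Int.ofNat 1, Int.ofNat 3, Int.negSucc 0, Int.ofNat 1, Int.ofNat 1, Int.ofNat 1, Int.ofNat 1],
  [Int.ofNat 1, Int.negSucc 0, Int.ofNat 1, Int.ofNat 1, Int.ofNat 1, Int.ofNat 1, Int.ofNat 1, Int.ofNat 1, Int.ofNat 1, Int.ofNat 1, Int.ofNat 1, Int.ofNat 1, Int.negSucc 0, Int.negSucc 0, Int.negSucc 0, Int.negSucc 0, Int.negSucc 0, Int.ofNat 1, Int.negSucc 2, Int.negSucc 0, Int.ofNat 1, Int.ofNat 1, Int.negSucc 0, Int.ofNat 1],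
  [Int.ofNat 0, Int.ofNat 2, Int.ofNat 0, Int.ofNat 0, Int.ofNat 2, Int.ofNat 0, Int.ofNat 0, Int.ofNat 0, Int.ofNat 2, Int.ofNat 0, Int.ofNat 0, Int.ofNat 2, Int.ofNat 0, Int.ofNat 0, Int.negSucc 1, Int.negSucc 1, Int.ofNat 0, Int.ofNat 0, Int.negSucc 1, Int.negSucc 1, Int.ofNat 0, Int.ofNat 0, Int.ofNat 0, Int.ofNat 0],
  [Int.ofNat 0, Int.negSucc 1, Int.ofNat 0, Int.ofNat 0, Int.ofNat 0, Int.ofNat 0, Int.ofNat 2, Int.ofNat 0, Int.ofNat 0, Int.ofNat 0, Int.ofNat 0, Int.negSucc 1, Int.ofNat 2, Int.ofNat 0, Int.ofNat 0, Int.negSucc 1, Int.ofNat 0, Int.ofNat 2, Int.ofNat 2, Int.ofNat 0, Int.ofNat 0, Int.ofNat 0, Int.negSucc 1, Int.ofNat 0],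
  [Int.negSucc 0, Int.ofNat 1, Int.negSucc 0, Int.negSucc 0, Int.ofNat 1, Int.negSucc 0, Int.ofNat 1, Int.negSucc 0, Int.negSucc 0, Int.ofNat 1, Int.ofNat 1, Int.negSucc 2, Int.ofNat 1, Int.ofNat 1, Int.negSucc 0, Int.negSucc 0, Int.ofNat 1, Int.ofNat 1, Int.ofNat 1, Int.negSucc 0, Int.ofNat 1, Int.negSucc 0, Int.negSucc 0, Int.negSucc 0],
  [Int.ofNat 1, Int.negSucc 0, Int.negSucc 0, Int.negSucc 0, Int.ofNat 1, Int.negSucc 0, Int.negSucc 0, Int.ofNat 1, Int.negSucc 0, Int.ofNat 1, Int.negSucc 0, Int.negSucc 0, Int.ofNat 1, Int.ofNat 1, Int.negSucc 2, Int.ofNat 1, Int.ofNat 1, Int.negSucc 0, Int.negSucc 0, Int.ofNat 1, Int.ofNat 1, Int.ofNat 1, Int.negSucc 0, Int.negSucc 0],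
  [Int.negSucc 1, Int.ofNat 0, Int.ofNat 0, Int.ofNat 2, Int.ofNat 0, Int.ofNat 2, Int.negSucc 1, Int.ofNat 0, Int.ofNat 0, Int.ofNat 0, Int.negSucc 1, Int.ofNat 0, Int.ofNat 2, Int.ofNat 0, Int.ofNat 0, Int.ofNat 0, Int.ofNat 0, Int.ofNat 2, Int.ofNat 0, Int.ofNat 0, Int.ofNat 0, Int.ofNat 0, Int.negSucc 1, Int.ofNat 0],
  [Int.ofNat 0, Int.ofNat 0, Int.ofNat 2, Int.ofNat 0, Int.ofNat 2, Int.negSucc 1, Int.ofNat 0, Int.ofNat 0, Int.ofNat 0, Int.negSucc 1, Int.ofNat 0, Int.ofNat 2, Int.ofNat 0, Int.ofNat 0, Int.ofNat 0, Int.ofNat 0, Int.ofNat 2, Int.ofNat 0, Int.ofNat 0, Int.ofNat 0, Int.ofNat 0, Int.negSucc 1, Int.negSucc 1, Int.ofNat 0],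
  [Int.ofNat 0, Int.ofNat 0, Int.negSucc 1, Int.ofNat 0, Int.ofNat 2, Int.negSucc 1, Int.ofNat 0, Int.ofNat 0, Int.ofNat 0, Int.ofNat 2, Int.ofNat 0, Int.negSucc 1, Int.ofNat 0, Int.ofNat 0, Int.ofNat 0, Int.ofNat 0, Int.ofNat 2, Int.ofNat 0, Int.ofNat 0, Int.ofNat 0, Int.ofNat 0, Int.ofNat 2, Int.negSucc 1, Int.ofNat 0],
  [Int.ofNat 0, Int.ofNat 0, Int.ofNat 2, Int.ofNat 0, Int.negSucc 1, Int.negSucc 1, Int.ofNat 0, Int.ofNat 0, Int.ofNat 0, Int.negSucc 1, Int.ofNat 0, Int.negSucc 1, Int.ofNat 0, Int.ofNat 0, Int.ofNat 0, Int.ofNat 0, Int.negSucc 1, Int.ofNat 0, Int.ofNat 0, Int.ofNat 0, Int.ofNat 0, Int.ofNat 2, Int.negSucc 1, Int.ofNat 0],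
  [Int.ofNat 0, Int.negSucc 1, Int.negSucc 1, Int.ofNat 0, Int.ofNat 0, Int.negSucc 1, Int.ofNat 0, Int.ofNat 0, Int.ofNat 0, Int.negSucc 1, Int.negSucc 1, Int.ofNat 2, Int.ofNat 2, Int.ofNat 0, Int.ofNat 0, Int.ofNat 0, Int.ofNat 0, Int.negSucc 1, Int.ofNat 0, Int.ofNat 0, Int.ofNat 0, Int.ofNat 0, Int.ofNat 0, Int.ofNat 0],
  [Int.ofNat 0, Int.negSucc 1, Int.ofNat 2, Int.ofNat 0, Int.ofNat 0, Int.negSucc 1, Int.ofNat 0, Int.ofNat 0, Int.ofNat 0, Int.ofNat 2, Int.ofNat 2, Int.negSucc 1, Int.ofNat 2, Int.ofNat 0, Int.ofNat 0, Int.ofNat 0, Int.ofNat 0, Int.negSucc 1, Int.ofNat 0, Int.ofNat 0, Int.ofNat 0, Int.ofNat 0, Int.ofNat 0, Int.ofNat 0],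
  [Int.ofNat 0, Int.ofNat 0, Int.negSucc 1, Int.ofNat 2, Int.ofNat 0, Int.ofNat 0, Int.negSucc 1, Int.ofNat 0, Int.ofNat 0, Int.ofNat 0, Int.ofNat 2, Int.ofNat 2, Int.negSucc 1, Int.ofNat 2, Int.ofNat 0, Int.ofNat 0, Int.ofNat 0, Int.ofNat 0, Int.negSucc 1, Int.ofNat 0, Int.ofNat 0, Int.ofNat 0, Int.ofNat 0, Int.ofNat 0],
  [Int.negSucc 0, Int.negSucc 0, Int.ofNat 1, Int.ofNat 1, Int.negSucc 0, Int.negSucc 0, Int.negSucc 0, Int.ofNat 1, Int.ofNat 1, Int.negSucc 0, Int.ofNat 1, Int.ofNat 3, Int.negSucc 0, Int.ofNat 1, Int.negSucc 0, Int.negSucc 0, Int.negSucc 0, Int.negSucc 0, Int.negSucc 0, Int.ofNat 1, Int.negSucc 0, Int.ofNat 1, Int.negSucc 0, Int.negSucc 0],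
  [Int.ofNat 1, Int.negSucc 0, Int.negSucc 0, Int.negSucc 0, Int.ofNat 1, Int.ofNat 1, Int.negSucc 0, Int.ofNat 1, Int.ofNat 3, Int.negSucc 0, Int.ofNat 1, Int.negSucc 0, Int.negSucc 0, Int.negSucc 0, Int.negSucc 0, Int.negSucc 0, Int.ofNat 1, Int.negSucc 0, Int.ofNat 1, Int.negSucc 0, Int.negSucc 0, Int.negSucc 0, Int.ofNat 1, Int.negSucc 0],
  [Int.negSucc 1, Int.ofNat 0, Int.ofNat 0, Int.ofNat 0, Int.ofNat 0, Int.ofNat 2, Int.ofNat 0, Int.ofNat 2, Int.ofNat 2, Int.ofNat 0, Int.ofNat 2, Int.negSucc 1, Int.negSucc 1, Int.negSucc 1, Int.ofNat 0, Int.ofNat 0, Int.ofNat 0, Int.ofNat 0, Int.ofNat 0, Int.ofNat 0, Int.ofNat 0, Int.ofNat 0, Int.ofNat 0, Int.ofNat 0],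
  [Int.negSucc 1, Int.ofNat 0, Int.ofNat 0, Int.ofNat 0, Int.ofNat 0, Int.ofNat 2, Int.ofNat 0, Int.ofNat 2, Int.negSucc 1, Int.negSucc 1, Int.ofNat 0, Int.ofNat 0, Int.ofNat 0, Int.ofNat 0, Int.ofNat 0, Int.ofNat 0, Int.ofNat 2, Int.ofNat 0, Int.ofNat 0, Int.negSucc 1, Int.ofNat 0, Int.ofNat 2, Int.ofNat 0, Int.ofNat 0],
  [Int.ofNat 1, Int.negSucc 0, Int.negSucc 0, Int.negSucc 0, Int.negSucc 0, Int.ofNat 1, Int.negSucc 0, Int.ofNat 1, Int.negSucc 0, Int.negSucc 0, Int.ofNat 1, Int.ofNat 1, Int.ofNat 1, Int.negSucc 0, Int.negSucc 0, Int.ofNat 1, Int.ofNat 1, Int.negSucc 0, Int.ofNat 1, Int.negSucc 2, Int.ofNat 1, Int.ofNat 1, Int.negSucc 0, Int.negSucc 0],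
  [Int.ofNat 1, Int.negSucc 0, Int.ofNat 1, Int.negSucc 0, Int.negSucc 0, Int.negSucc 0, Int.ofNat 1, Int.ofNat 1, Int.negSucc 0, Int.ofNat 1, Int.negSucc 0, Int.ofNat 1, Int.ofNat 1, Int.negSucc 0, Int.negSucc 0, Int.negSucc 0, Int.ofNat 1, Int.negSucc 0, Int.negSucc 0, Int.negSucc 2, Int.ofNat 1, Int.ofNat 1, Int.ofNat 1, Int.negSucc 0],
  [Int.ofNat 1, Int.negSucc 0, Int.negSucc 0, Int.ofNat 1, Int.ofNat 1, Int.ofNat 1, Int.ofNat 1, Int.negSucc 0, Int.negSucc 0, Int.negSucc 0, Int.negSucc 0, Int.negSucc 0, Int.ofNat 1, Int.ofNat 1, Int.negSucc 2, Int.ofNat 1, Int.negSucc 0, Int.negSucc 0, Int.negSucc 0, Int.ofNat 1, Int.negSucc 0, Int.ofNat 1, Int.ofNat 1, Int.negSucc 0],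
  [Int.ofNat 1, Int.negSucc 0, Int.ofNat 1, Int.ofNat 1, Int.ofNat 1, Int.negSucc 0, Int.negSucc 0, Int.negSucc 0, Int.negSucc 0, Int.ofNat 1, Int.ofNat 1, Int.negSucc 0, Int.ofNat 1, Int.ofNat 1, Int.negSucc 2, Int.negSucc 0, Int.negSucc 0, Int.negSucc 0, Int.ofNat 1, Int.ofNat 1, Int.negSucc 0, Int.ofNat 1, Int.negSucc 0, Int.negSucc 0],
  [Int.negSucc 0, Int.ofNat 1, Int.negSucc 0, Int.ofNat 3, Int.ofNat 1, Int.ofNat 1, Int.negSucc 0, Int.negSucc 0, Int.negSucc 0, Int.ofNat 1, Int.ofNat 1, Int.negSucc 0, Int.ofNat 1, Int.ofNat 1, Int.negSucc 0, Int.negSucc 0, Int.negSucc 0, Int.ofNat 1, Int.ofNat 1, Int.ofNat 1, Int.negSucc 0, Int.ofNat 1, Int.negSucc 0, Int.ofNat 1],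
  [Int.negSucc 0, Int.ofNat 1, Int.negSucc 0, Int.ofNat 3, Int.negSucc 0, Int.ofNat 1, Int.ofNat 1, Int.ofNat 1, Int.negSucc 0, Int.ofNat 1, Int.negSucc 0, Int.ofNat 1, Int.negSucc 0, Int.ofNat 1, Int.ofNat 1, Int.negSucc 0, Int.ofNat 1, Int.negSucc 0, Int.ofNat 1, Int.negSucc 0, Int.ofNat 1, Int.negSucc 0, Int.negSucc 0, Int.ofNat 1],
  [Int.ofNat 1, Int.negSucc 0, Int.ofNat 1, Int.ofNat 1, Int.negSucc 0, Int.negSucc 0, Int.ofNat 1, Int.ofNat 1, Int.negSucc 0, Int.ofNat 1, Int.negSucc 0, Int.ofNat 1, Int.negSucc 0, Int.ofNat 1, Int.negSucc 0, Int.negSucc 0, Int.ofNat 1, Int.negSucc 2, Int.ofNat 1, Int.negSucc 0, Int.ofNat 1, Int.negSucc 0, Int.negSucc 0, Int.negSucc 0],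
  [Int.ofNat 1, Int.negSucc 0, Int.negSucc 0, Int.ofNat 1, Int.negSucc 0, Int.ofNat 1, Int.ofNat 1, Int.negSucc 0, Int.negSucc 0, Int.ofNat 1, Int.ofNat 1, Int.negSucc 0, Int.ofNat 1, Int.negSucc 0, Int.ofNat 1, Int.negSucc 0, Int.ofNat 1, Int.negSucc 0, Int.negSucc 0, Int.ofNat 1, Int.negSucc 2, Int.ofNat 1, Int.negSucc 0, Int.negSucc 0],
  [Int.negSucc 1, Int.ofNat 0, Int.ofNat 0, Int.ofNat 0, Int.ofNat 0, Int.ofNat 0, Int.ofNat 0, Int.negSucc 1, Int.ofNat 0, Int.ofNat 2, Int.ofNat 2, Int.ofNat 0, Int.ofNat 2, Int.ofNat 0, Int.ofNat 0, Int.ofNat 0, Int.ofNat 2, Int.negSucc 1, Int.ofNat 0, Int.ofNat 0, Int.negSucc 1, Int.ofNat 0, Int.ofNat 0, Int.ofNat 0],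
  [Int.ofNat 0, Int.ofNat 0, Int.ofNat 0, Int.ofNat 0, Int.ofNat 0, Int.ofNat 0, Int.negSucc 1, Int.ofNat 0, Int.ofNat 2, Int.ofNat 2, Int.ofNat 0, Int.ofNat 2, Int.ofNat 0, Int.ofNat 0, Int.ofNat 0, Int.ofNat 2, Int.negSucc 1, Int.ofNat 0, Int.ofNat 0, Int.negSucc 1, Int.ofNat 0, Int.ofNat 0, Int.negSucc 1, Int.ofNat 0],
  [Int.ofNat 0, Int.ofNat 0, Int.ofNat 0, Int.ofNat 0, Int.ofNat 0, Int.ofNat 0, Int.negSucc 1, Int.ofNat 0, Int.ofNat 2, Int.negSucc 1, Int.ofNat 0, Int.negSucc 1, Int.ofNat 0, Int.ofNat 0, Int.ofNat 0, Int.ofNat 2, Int.negSucc 1, Int.ofNat 0, Int.ofNat 0, Int.negSucc 1, Int.ofNat 0, Int.ofNat 0, Int.negSucc 1, Int.ofNat 0],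
  [Int.ofNat 0, Int.ofNat 0, Int.ofNat 0, Int.ofNat 0, Int.ofNat 0, Int.ofNat 0, Int.ofNat 2, Int.ofNat 0, Int.negSucc 1, Int.ofNat 2, Int.ofNat 0, Int.negSucc 1, Int.ofNat 0, Int.ofNat 0, Int.ofNat 0, Int.ofNat 2, Int.ofNat 2, Int.ofNat 0, Int.ofNat 0, Int.negSucc 1, Int.ofNat 0, Int.ofNat 0, Int.negSucc 1, Int.ofNat 0],
  [Int.ofNat 0, Int.negSucc 1, Int.negSucc 1, Int.ofNat 2, Int.ofNat 0, Int.ofNat 2, Int.negSucc 1, Int.ofNat 0, Int.ofNat 0, Int.ofNat 0, Int.ofNat 2, Int.ofNat 0, Int.ofNat 0, Int.ofNat 0, Int.ofNat 0, Int.ofNat 0, Int.ofNat 0, Int.ofNat 0, Int.ofNat 0, Int.ofNat 2, Int.negSucc 1, Int.ofNat 0, Int.ofNat 0, Int.ofNat 0],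
  [Int.ofNat 0, Int.negSucc 1, Int.ofNat 2, Int.ofNat 2, Int.ofNat 0, Int.ofNat 2, Int.negSucc 1, Int.ofNat 0, Int.ofNat 0, Int.ofNat 0, Int.negSucc 1, Int.ofNat 0, Int.ofNat 0, Int.ofNat 0, Int.ofNat 0, Int.ofNat 0, Int.ofNat 0, Int.ofNat 0, Int.ofNat 0, Int.ofNat 2, Int.negSucc 1, Int.ofNat 0, Int.ofNat 0, Int.ofNat 0],
  [Int.ofNat 0, Int.ofNat 0, Int.negSucc 1, Int.ofNat 2, Int.ofNat 2, Int.ofNat 0, Int.ofNat 2, Int.negSucc 1, Int.ofNat 0, Int.ofNat 0, Int.ofNat 0, Int.negSucc 1, Int.ofNat 0, Int.ofNat 0, Int.ofNat 0, Int.ofNat 0, Int.ofNat 0, Int.ofNat 0, Int.ofNat 0, Int.ofNat 0, Int.ofNat 2, Int.negSucc 1, Int.ofNat 0, Int.ofNat 0],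
  [Int.negSucc 0, Int.negSucc 0, Int.ofNat 1, Int.ofNat 1, Int.ofNat 1, Int.negSucc 0, Int.ofNat 3, Int.negSucc 0, Int.ofNat 1, Int.negSucc 0, Int.negSucc 0, Int.negSucc 0, Int.ofNat 1, Int.negSucc 0, Int.negSucc 0, Int.negSucc 0, Int.negSucc 0, Int.negSucc 0, Int.ofNat 1, Int.ofNat 1, Int.ofNat 1, Int.negSucc 0, Int.negSucc 0, Int.negSucc 0],
  [Int.ofNat 1, Int.ofNat 1, Int.negSucc 0, Int.ofNat 3, Int.negSucc 0, Int.ofNat 1, Int.negSucc 0, Int.negSucc 0, Int.negSucc 0, Int.ofNat 1, Int.negSucc 0, Int.negSucc 0, Int.negSucc 0, Int.negSucc 0, Int.negSucc 0, Int.ofNat 1, Int.ofNat 1, Int.ofNat 1, Int.negSucc 0, Int.negSucc 0, Int.negSucc 0, Int.negSucc 0, Int.ofNat 1, Int.negSucc 0],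
  [Int.negSucc 0, Int.negSucc 0, Int.ofNat 1, Int.ofNat 1, Int.negSucc 0, Int.negSucc 0, Int.ofNat 1, Int.ofNat 1, Int.ofNat 1, Int.ofNat 1, Int.negSucc 0, Int.ofNat 1, Int.ofNat 1, Int.negSucc 0, Int.negSucc 2, Int.ofNat 1, Int.ofNat 1, Int.negSucc 0, Int.ofNat 1, Int.ofNat 1, Int.negSucc 0, Int.ofNat 1, Int.ofNat 1, Int.ofNat 1],
  [Int.negSucc 0, Int.ofNat 1, Int.negSucc 0, Int.ofNat 1, Int.ofNat 1, Int.ofNat 1, Int.ofNat 1, Int.negSucc 0, Int.ofNat 1, Int.negSucc 0, Int.negSucc 0, Int.negSucc 0, Int.ofNat 1, Int.ofNat 1, Int.ofNat 1, Int.ofNat 1, Int.ofNat 1, Int.negSucc 2, Int.negSucc 0, Int.ofNat 1, Int.ofNat 1, Int.negSucc 0, Int.ofNat 1, Int.ofNat 1],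
  [Int.ofNat 1, Int.negSucc 0, Int.ofNat 1, Int.ofNat 1, Int.negSucc 0, Int.ofNat 1, Int.ofNat 1, Int.negSucc 0, Int.ofNat 1, Int.negSucc 0, Int.negSucc 0, Int.negSucc 0, Int.ofNat 1, Int.negSucc 0, Int.ofNat 1, Int.ofNat 1, Int.negSucc 0, Int.negSucc 2, Int.negSucc 0, Int.ofNat 1, Int.ofNat 1, Int.negSucc 0, Int.negSucc 0, Int.negSucc 0],
  [Int.ofNat 1, Int.negSucc 0, Int.negSucc 0, Int.ofNat 1, Int.negSucc 0, Int.negSucc 0, Int.negSucc 0, Int.negSucc 0, Int.ofNat 1, Int.ofNat 1, Int.ofNat 1, Int.negSucc 0, Int.ofNat 1, Int.negSucc 0, Int.ofNat 1, Int.negSucc 0, Int.negSucc 0, Int.negSucc 2, Int.ofNat 1, Int.ofNat 1, Int.ofNat 1, Int.negSucc 0, Int.ofNat 1, Int.negSucc 0],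
  [Int.ofNat 1, Int.negSucc 0, Int.negSucc 0, Int.negSucc 0, Int.negSucc 0, Int.ofNat 1, Int.ofNat 1, Int.ofNat 1, Int.ofNat 1, Int.ofNat 1, Int.negSucc 0, Int.negSucc 2, Int.negSucc 0, Int.ofNat 1, Int.ofNat 1, Int.negSucc 0, Int.negSucc 0, Int.ofNat 1, Int.ofNat 1, Int.negSucc 0, Int.negSucc 0, Int.ofNat 1, Int.negSucc 0, Int.negSucc 0],
  [Int.ofNat 1, Int.negSucc 0, Int.ofNat 1, Int.negSucc 0, Int.negSucc 0, Int.negSucc 0, Int.negSucc 0, Int.ofNat 1, Int.ofNat 1, Int.negSucc 0, Int.ofNat 1, Int.negSucc 2, Int.negSucc 0, Int.ofNat 1, Int.ofNat 1, Int.ofNat 1, Int.negSucc 0, Int.ofNat 1, Int.negSucc 0, Int.negSucc 0, Int.negSucc 0, Int.ofNat 1, Int.ofNat 1, Int.negSucc 0],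
  [Int.negSucc 0, Int.ofNat 1, Int.negSucc 0, Int.negSucc 0, Int.negSucc 0, Int.negSucc 0, Int.negSucc 0, Int.ofNat 1, Int.ofNat 3, Int.negSucc 0, Int.ofNat 1, Int.negSucc 0, Int.ofNat 1, Int.ofNat 1, Int.ofNat 1, Int.ofNat 1, Int.negSucc 0, Int.ofNat 1, Int.ofNat 1, Int.negSucc 0, Int.negSucc 0, Int.ofNat 1, Int.ofNat 1, Int.ofNat 1],
  [Int.negSucc 0, Int.ofNat 1, Int.negSucc 0, Int.negSucc 0, Int.negSucc 0, Int.ofNat 1, Int.ofNat 1, Int.negSucc 0, Int.negSucc 0, Int.ofNat 1, Int.ofNat 1, Int.negSucc 0, Int.ofNat 3, Int.negSucc 0, Int.ofNat 1, Int.ofNat 1, Int.ofNat 1, Int.negSucc 0, Int.negSucc 0, Int.ofNat 1, Int.ofNat 1, Int.negSucc 0, Int.ofNat 1, Int.ofNat 1],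
  [Int.ofNat 1, Int.negSucc 0, Int.ofNat 1, Int.negSucc 0, Int.negSucc 0, Int.ofNat 1, Int.ofNat 1, Int.negSucc 0, Int.negSucc 0, Int.negSucc 0, Int.negSucc 0, Int.negSucc 0, Int.ofNat 3, Int.negSucc 0, Int.ofNat 1, Int.negSucc 0, Int.ofNat 1, Int.negSucc 0, Int.negSucc 0, Int.ofNat 1, Int.negSucc 0, Int.negSucc 0, Int.ofNat 1, Int.negSucc 0],
  [Int.negSucc 0, Int.negSucc 0, Int.ofNat 1, Int.ofNat 1, Int.negSucc 0, Int.ofNat 1, Int.negSucc 0, Int.negSucc 0, Int.ofNat 1, Int.ofNat 1, Int.negSucc 0, Int.negSucc 0, Int.negSucc 0, Int.negSucc 0, Int.negSucc 0, Int.ofNat 3, Int.negSucc 0, Int.ofNat 1, Int.negSucc 0, Int.ofNat 1, Int.negSucc 0, Int.negSucc 0, Int.ofNat 1, Int.negSucc 0],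
  [Int.ofNat 0, Int.ofNat 0, Int.negSucc 1, Int.ofNat 0, Int.ofNat 0, Int.ofNat 0, Int.ofNat 0, Int.ofNat 0, Int.ofNat 2, Int.ofNat 0, Int.negSucc 1, Int.ofNat 0, Int.ofNat 0, Int.ofNat 0, Int.negSucc 1, Int.ofNat 2, Int.ofNat 0, Int.ofNat 0, Int.ofNat 0, Int.ofNat 2, Int.negSucc 1, Int.ofNat 0, Int.ofNat 2, Int.ofNat 0],
  [Int.ofNat 0, Int.negSucc 1, Int.ofNat 0, Int.ofNat 0, Int.ofNat 0, Int.ofNat 0, Int.ofNat 0, Int.ofNat 2, Int.ofNat 0, Int.negSucc 1, Int.ofNat 0, Int.ofNat 0, Int.ofNat 0, Int.negSucc 1, Int.ofNat 2, Int.ofNat 0, Int.ofNat 0, Int.ofNat 0, Int.ofNat 2, Int.negSucc 1, Int.ofNat 0, Int.ofNat 2, Int.ofNat 0, Int.ofNat 0],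
  [Int.ofNat 0, Int.negSucc 1, Int.ofNat 0, Int.ofNat 0, Int.ofNat 0, Int.ofNat 0, Int.ofNat 0, Int.negSucc 1, Int.ofNat 0, Int.ofNat 2, Int.ofNat 0, Int.ofNat 0, Int.ofNat 0, Int.negSucc 1, Int.ofNat 2, Int.ofNat 0, Int.ofNat 0, Int.ofNat 0, Int.negSucc 1, Int.negSucc 1, Int.ofNat 0, Int.negSucc 1, Int.ofNat 0, Int.ofNat 0],
  [Int.ofNat 0, Int.ofNat 2, Int.ofNat 0, Int.ofNat 0, Int.ofNat 0, Int.ofNat 0, Int.ofNat 0, Int.negSucc 1, Int.ofNat 0, Int.negSucc 1, Int.ofNat 0, Int.ofNat 0, Int.ofNat 0, Int.ofNat 2, Int.ofNat 2, Int.ofNat 0, Int.ofNat 0, Int.ofNat 0, Int.ofNat 2, Int.negSucc 1, Int.ofNat 0, Int.negSucc 1, Int.ofNat 0, Int.ofNat 0],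
  [Int.ofNat 0, Int.ofNat 0, Int.ofNat 0, Int.ofNat 0, Int.ofNat 0, Int.negSucc 1, Int.negSucc 1, Int.ofNat 2, Int.ofNat 0, Int.ofNat 0, Int.ofNat 0, Int.ofNat 0, Int.negSucc 1, Int.negSucc 1, Int.ofNat 2, Int.ofNat 0, Int.ofNat 0, Int.ofNat 0, Int.ofNat 2, Int.ofNat 0, Int.ofNat 0, Int.ofNat 0, Int.ofNat 2, Int.ofNat 0],
  [Int.ofNat 0, Int.ofNat 0, Int.ofNat 0, Int.ofNat 0, Int.ofNat 0, Int.negSucc 1, Int.negSucc 1, Int.negSucc 1, Int.ofNat 0, Int.ofNat 0, Int.ofNat 0, Int.ofNat 0, Int.negSucc 1, Int.negSucc 1, Int.ofNat 2, Int.ofNat 0, Int.ofNat 0, Int.ofNat 0, Int.negSucc 1, Int.ofNat 0, Int.ofNat 0, Int.ofNat 0, Int.ofNat 2, Int.ofNat 0],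
  [Int.ofNat 2, Int.ofNat 0, Int.ofNat 0, Int.ofNat 0, Int.ofNat 0, Int.ofNat 0, Int.negSucc 1, Int.negSucc 1, Int.negSucc 1, Int.ofNat 0, Int.ofNat 0, Int.ofNat 0, Int.ofNat 0, Int.negSucc 1, Int.negSucc 1, Int.ofNat 2, Int.ofNat 0, Int.ofNat 0, Int.ofNat 0, Int.negSucc 1, Int.ofNat 0, Int.ofNat 0, Int.ofNat 0, Int.ofNat 0],
  [Int.negSucc 0, Int.ofNat 1, Int.ofNat 1, Int.ofNat 1, Int.ofNat 1, Int.ofNat 1, Int.ofNat 1, Int.ofNat 1, Int.negSucc 0, Int.negSucc 0, Int.negSucc 0, Int.ofNat 1, Int.ofNat 1, Int.negSucc 0, Int.negSucc 0, Int.ofNat 1, Int.ofNat 1, Int.ofNat 1, Int.ofNat 1, Int.ofNat 1, Int.negSucc 0, Int.ofNat 3, Int.ofNat 1, Int.ofNat 1],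
  [Int.ofNat 1, Int.ofNat 1, Int.ofNat 1, Int.ofNat 1, Int.ofNat 1, Int.negSucc 0, Int.negSucc 0, Int.negSucc 0, Int.ofNat 1, Int.ofNat 1, Int.negSucc 0, Int.negSucc 0, Int.ofNat 1, Int.ofNat 1, Int.ofNat 1, Int.ofNat 1, Int.ofNat 1, Int.negSucc 0, Int.ofNat 3, Int.ofNat 1, Int.negSucc 0, Int.ofNat 1, Int.ofNat 1, Int.ofNat 1],
  [Int.ofNat 1, Int.ofNat 1, Int.ofNat 1, Int.ofNat 1, Int.negSucc 0, Int.negSucc 0, Int.negSucc 0, Int.negSucc 0, Int.negSucc 0, Int.ofNat 1, Int.negSucc 0, Int.negSucc 2, Int.negSucc 0, Int.negSucc 0, Int.ofNat 1, Int.ofNat 1, Int.negSucc 0, Int.negSucc 0, Int.ofNat 1, Int.ofNat 1, Int.negSucc 0, Int.ofNat 1, Int.negSucc 0, Int.ofNat 1],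
  [Int.ofNat 1, Int.negSucc 0, Int.negSucc 0, Int.ofNat 1, Int.ofNat 1, Int.negSucc 0, Int.ofNat 1, Int.negSucc 0, Int.negSucc 0, Int.negSucc 0, Int.negSucc 0, Int.negSucc 0, Int.ofNat 1, Int.negSucc 0, Int.negSucc 0, Int.ofNat 1, Int.negSucc 0, Int.ofNat 1, Int.ofNat 1, Int.negSucc 2, Int.ofNat 1, Int.negSucc 0, Int.ofNat 1, Int.ofNat 1],
  [Int.negSucc 0, Int.ofNat 1, Int.ofNat 1, Int.ofNat 1, Int.ofNat 1, Int.negSucc 0, Int.ofNat 3, Int.ofNat 1, Int.negSucc 0, Int.negSucc 0, Int.negSucc 0, Int.negSucc 0, Int.ofNat 1, Int.negSucc 0, Int.negSucc 0, Int.ofNat 1, Int.negSucc 0, Int.ofNat 1, Int.ofNat 1, Int.negSucc 0, Int.ofNat 1, Int.ofNat 1, Int.ofNat 1, Int.negSucc 0],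
  [Int.negSucc 0, Int.ofNat 1, Int.negSucc 0, Int.ofNat 1, Int.ofNat 1, Int.ofNat 1, Int.negSucc 2, Int.ofNat 1, Int.negSucc 0, Int.ofNat 1, Int.ofNat 1, Int.negSucc 0, Int.ofNat 1, Int.negSucc 0, Int.negSucc 0, Int.negSucc 0, Int.negSucc 0, Int.ofNat 1, Int.negSucc 0, Int.negSucc 0, Int.ofNat 1, Int.ofNat 1, Int.negSucc 0, Int.negSucc 0],
  [Int.ofNat 1, Int.negSucc 0, Int.ofNat 1, Int.negSucc 0, Int.negSucc 0, Int.negSucc 0, Int.ofNat 1, Int.ofNat 1, Int.negSucc 0, Int.ofNat 1, Int.negSucc 0, Int.ofNat 1, Int.ofNat 1, Int.negSucc 0, Int.negSucc 0, Int.negSucc 0, Int.ofNat 1, Int.negSucc 0, Int.negSucc 0, Int.negSucc 2, Int.ofNat 1, Int.ofNat 1, Int.ofNat 1, Int.negSucc 0],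
  [Int.ofNat 1, Int.negSucc 0, Int.negSucc 0, Int.negSucc 0, Int.negSucc 0, Int.ofNat 1, Int.negSucc 0, Int.ofNat 1, Int.negSucc 0, Int.negSucc 0, Int.ofNat 1, Int.ofNat 1, Int.ofNat 1, Int.negSucc 0, Int.negSucc 0, Int.ofNat 1, Int.ofNat 1, Int.negSucc 0, Int.ofNat 1, Int.negSucc 2, Int.ofNat 1, Int.ofNat 1, Int.negSucc 0, Int.negSucc 0],
  [Int.negSucc 1, Int.ofNat 0, Int.ofNat 0, Int.ofNat 0, Int.ofNat 0, Int.ofNat 2, Int.ofNat 0, Int.ofNat 2, Int.negSucc 1, Int.negSucc 1, Int.ofNat 0, Int.ofNat 0, Int.ofNat 0, Int.ofNat 0, Int.ofNat 0, Int.ofNat 0, Int.ofNat 2, Int.ofNat 0, Int.ofNat 0, Int.negSucc 1, Int.ofNat 0, Int.ofNat 2, Int.ofNat 0, Int.ofNat 0],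
  [Int.negSucc 1, Int.ofNat 0, Int.ofNat 0, Int.ofNat 0, Int.ofNat 0, Int.ofNat 2, Int.ofNat 0, Int.ofNat 2, Int.ofNat 2, Int.ofNat 0, Int.ofNat 2, Int.negSucc 1, Int.negSucc 1, Int.negSucc 1, Int.ofNat 0, Int.ofNat 0, Int.ofNat 0, Int.ofNat 0, Int.ofNat 0, Int.ofNat 0, Int.ofNat 0, Int.ofNat 0, Int.ofNat 0, Int.ofNat 0],
  [Int.ofNat 1, Int.negSucc 0, Int.negSucc 0, Int.negSucc 0, Int.ofNat 1, Int.ofNat 1, Int.negSucc 0, Int.ofNat 1, Int.ofNat 3, Int.negSucc 0, Int.ofNat 1, Int.negSucc 0, Int.negSucc 0, Int.negSucc 0, Int.negSucc 0, Int.negSucc 0, Int.ofNat 1, Int.negSucc 0, Int.ofNat 1, Int.negSucc 0, Int.negSucc 0, Int.negSucc 0, Int.ofNat 1, Int.negSucc 0],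
  [Int.negSucc 0, Int.negSucc 0, Int.ofNat 1, Int.ofNat 1, Int.negSucc 0, Int.negSucc 0, Int.negSucc 0, Int.ofNat 1, Int.ofNat 1, Int.negSucc 0, Int.ofNat 1, Int.ofNat 3, Int.negSucc 0, Int.ofNat 1, Int.negSucc 0, Int.negSucc 0, Int.negSucc 0, Int.negSucc 0, Int.negSucc 0, Int.ofNat 1, Int.negSucc 0, Int.ofNat 1, Int.negSucc 0, Int.negSucc 0],
  [Int.ofNat 0, Int.ofNat 0, Int.negSucc 1, Int.ofNat 2, Int.ofNat 0, Int.ofNat 0, Int.negSucc 1, Int.ofNat 0, Int.ofNat 0, Int.ofNat 0, Int.ofNat 2, Int.ofNat 2, Int.negSucc 1, Int.ofNat 2, Int.ofNat 0, Int.ofNat 0, Int.ofNat 0, Int.ofNat 0, Int.negSucc 1, Int.ofNat 0, Int.ofNat 0, Int.ofNat 0, Int.ofNat 0, Int.ofNat 0],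
  [Int.ofNat 0, Int.negSucc 1, Int.ofNat 2, Int.ofNat 0, Int.ofNat 0, Int.negSucc 1, Int.ofNat 0, Int.ofNat 0, Int.ofNat 0, Int.ofNat 2, Int.ofNat 2, Int.negSucc 1, Int.ofNat 2, Int.ofNat 0, Int.ofNat 0, Int.ofNat 0, Int.ofNat 0, Int.negSucc 1, Int.ofNat 0, Int.ofNat 0, Int.ofNat 0, Int.ofNat 0, Int.ofNat 0, Int.ofNat 0],
  [Int.ofNat 0, Int.negSucc 1, Int.negSucc 1, Int.ofNat 0, Int.ofNat 0, Int.negSucc 1, Int.ofNat 0, Int.ofNat 0, Int.ofNat 0, Int.negSucc 1, Int.negSucc 1, Int.ofNat 2, Int.ofNat 2, Int.ofNat 0, Int.ofNat 0, Int.ofNat 0, Int.ofNat 0, Int.negSucc 1, Int.ofNat 0, Int.ofNat 0, Int.ofNat 0, Int.ofNat 0, Int.ofNat 0, Int.ofNat 0],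
  [Int.ofNat 0, Int.ofNat 2, Int.ofNat 2, Int.ofNat 0, Int.ofNat 0, Int.negSucc 1, Int.ofNat 0, Int.ofNat 0, Int.ofNat 0, Int.ofNat 2, Int.negSucc 1, Int.ofNat 2, Int.negSucc 1, Int.ofNat 0, Int.ofNat 0, Int.ofNat 0, Int.ofNat 0, Int.negSucc 1, Int.ofNat 0, Int.ofNat 0, Int.ofNat 0, Int.ofNat 0, Int.ofNat 0, Int.ofNat 0],
  [Int.ofNat 0, Int.ofNat 0, Int.ofNat 2, Int.ofNat 0, Int.negSucc 1, Int.ofNat 2, Int.ofNat 0, Int.ofNat 0, Int.ofNat 0, Int.negSucc 1, Int.ofNat 0, Int.ofNat 2, Int.ofNat 0, Int.ofNat 0, Int.ofNat 0, Int.ofNat 0, Int.negSucc 1, Int.ofNat 0, Int.ofNat 0, Int.ofNat 0, Int.ofNat 0, Int.negSucc 1, Int.ofNat 2, Int.ofNat 0],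
  [Int.ofNat 0, Int.ofNat 0, Int.negSucc 1, Int.ofNat 0, Int.negSucc 1, Int.ofNat 2, Int.ofNat 0, Int.ofNat 0, Int.ofNat 0, Int.ofNat 2, Int.ofNat 0, Int.negSucc 1, Int.ofNat 0, Int.ofNat 0, Int.ofNat 0, Int.ofNat 0, Int.negSucc 1, Int.ofNat 0, Int.ofNat 0, Int.ofNat 0, Int.ofNat 0, Int.ofNat 2, Int.ofNat 2, Int.ofNat 0],
  [Int.ofNat 2, Int.ofNat 0, Int.ofNat 0, Int.negSucc 1, Int.ofNat 0, Int.negSucc 1, Int.ofNat 2, Int.ofNat 0, Int.ofNat 0, Int.ofNat 0, Int.ofNat 2, Int.ofNat 0, Int.negSucc 1, Int.ofNat 0, Int.ofNat 0, Int.ofNat 0, Int.ofNat 0, Int.negSucc 1, Int.ofNat 0, Int.ofNat 0, Int.ofNat 0, Int.ofNat 0, Int.ofNat 2, Int.ofNat 0],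
  [Int.negSucc 0, Int.ofNat 1, Int.ofNat 1, Int.ofNat 1, Int.negSucc 0, Int.ofNat 1, Int.ofNat 1, Int.negSucc 0, Int.ofNat 1, Int.negSucc 0, Int.ofNat 1, Int.ofNat 1, Int.negSucc 0, Int.negSucc 0, Int.ofNat 3, Int.negSucc 0, Int.negSucc 0, Int.ofNat 1, Int.ofNat 1, Int.negSucc 0, Int.negSucc 0, Int.negSucc 0, Int.ofNat 1, Int.ofNat 1],
  [Int.ofNat 1, Int.negSucc 0, Int.ofNat 1, Int.ofNat 1, Int.negSucc 0, Int.ofNat 1, Int.negSucc 0, Int.ofNat 1, Int.ofNat 1, Int.negSucc 0, Int.negSucc 0, Int.ofNat 3, Int.negSucc 0, Int.negSucc 0, Int.ofNat 1, Int.ofNat 1, Int.negSucc 0, Int.negSucc 0, Int.negSucc 0, Int.ofNat 1, Int.negSucc 0, Int.ofNat 1, Int.ofNat 1, Int.ofNat 1],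
  [Int.ofNat 0, Int.ofNat 2, Int.ofNat 0, Int.ofNat 0, Int.ofNat 0, Int.ofNat 0, Int.negSucc 1, Int.ofNat 0, Int.ofNat 0, Int.ofNat 0, Int.ofNat 0, Int.ofNat 2, Int.negSucc 1, Int.ofNat 0, Int.ofNat 0, Int.ofNat 2, Int.ofNat 0, Int.negSucc 1, Int.negSucc 1, Int.ofNat 0, Int.ofNat 0, Int.ofNat 0, Int.ofNat 2, Int.ofNat 0],
  [Int.ofNat 0, Int.negSucc 1, Int.ofNat 0, Int.ofNat 0, Int.negSucc 1, Int.ofNat 0, Int.ofNat 0, Int.ofNat 0, Int.negSucc 1, Int.ofNat 0, Int.ofNat 0, Int.negSucc 1, Int.ofNat 0, Int.ofNat 0, Int.ofNat 2, Int.ofNat 2, Int.ofNat 0, Int.ofNat 0, Int.ofNat 2, Int.ofNat 2, Int.ofNat 0, Int.ofNat 0, Int.ofNat 0, Int.ofNat 0],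
  [Int.negSucc 0, Int.ofNat 1, Int.negSucc 0, Int.negSucc 0, Int.negSucc 0, Int.negSucc 0, Int.negSucc 0, Int.negSucc 0, Int.negSucc 0, Int.negSucc 0, Int.negSucc 0, Int.negSucc 0, Int.ofNat 1, Int.ofNat 1, Int.ofNat 1, Int.ofNat 1, Int.ofNat 1, Int.negSucc 0, Int.ofNat 3, Int.ofNat 1, Int.negSucc 0, Int.negSucc 0, Int.ofNat 1, Int.negSucc 0],
  [Int.negSucc 0, Int.ofNat 1, Int.ofNat 1, Int.negSucc 0, Int.negSucc 0, Int.ofNat 1, Int.ofNat 1, Int.negSucc 0, Int.negSucc 0, Int.ofNat 1, Int.ofNat 1, Int.negSucc 0, Int.ofNat 1, Int.ofNat 1, Int.ofNat 1, Int.negSucc 0, Int.ofNat 1, Int.negSucc 0, Int.negSucc 2, Int.ofNat 1, Int.negSucc 0, Int.negSucc 0, Int.negSucc 0, Int.negSucc 0],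
  [Int.negSucc 0, Int.ofNat 1, Int.ofNat 1, Int.ofNat 1, Int.negSucc 0, Int.negSucc 0, Int.ofNat 1, Int.ofNat 1, Int.negSucc 2, Int.negSucc 0, Int.negSucc 0, Int.negSucc 0, Int.negSucc 0, Int.negSucc 0, Int.ofNat 1, Int.ofNat 1, Int.negSucc 0, Int.negSucc 0, Int.ofNat 1, Int.ofNat 1, Int.ofNat 1, Int.ofNat 1, Int.negSucc 0, Int.negSucc 0],
  [Int.negSucc 0, Int.ofNat 1, Int.negSucc 0, Int.ofNat 1, Int.negSucc 0, Int.ofNat 1, Int.negSucc 0, Int.ofNat 1, Int.negSucc 2, Int.ofNat 1, Int.ofNat 1, Int.negSucc 0, Int.negSucc 0, Int.negSucc 0, Int.ofNat 1, Int.negSucc 0, Int.negSucc 0, Int.negSucc 0, Int.negSucc 0, Int.ofNat 1, Int.ofNat 1, Int.ofNat 1, Int.ofNat 1, Int.negSucc 0],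
  [Int.ofNat 0, Int.negSucc 1, Int.ofNat 0, Int.ofNat 0, Int.ofNat 0, Int.ofNat 0, Int.negSucc 1, Int.ofNat 0, Int.ofNat 0, Int.ofNat 0, Int.ofNat 0, Int.ofNat 2, Int.ofNat 2, Int.ofNat 0, Int.ofNat 0, Int.negSucc 1, Int.ofNat 0, Int.negSucc 1, Int.ofNat 2, Int.ofNat 0, Int.ofNat 0, Int.ofNat 0, Int.ofNat 2, Int.ofNat 0],
  [Int.ofNat 0, Int.ofNat 2, Int.negSucc 1, Int.ofNat 0, Int.ofNat 0, Int.ofNat 0, Int.negSucc 1, Int.ofNat 0, Int.ofNat 0, Int.ofNat 2, Int.ofNat 0, Int.ofNat 0, Int.ofNat 0, Int.ofNat 0, Int.negSucc 1, Int.negSucc 1, Int.ofNat 0, Int.ofNat 2, Int.ofNat 0, Int.ofNat 2, Int.ofNat 0, Int.ofNat 0, Int.ofNat 0, Int.ofNat 0],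
  [Int.ofNat 0, Int.negSucc 1, Int.ofNat 2, Int.ofNat 0, Int.ofNat 0, Int.ofNat 0, Int.negSucc 1, Int.ofNat 0, Int.ofNat 0, Int.ofNat 2, Int.ofNat 0, Int.ofNat 0, Int.ofNat 0, Int.ofNat 0, Int.negSucc 1, Int.negSucc 1, Int.ofNat 0, Int.ofNat 2, Int.ofNat 0, Int.ofNat 2, Int.ofNat 0, Int.ofNat 0, Int.ofNat 0, Int.ofNat 0],
  [Int.ofNat 0, Int.ofNat 0, Int.ofNat 0, Int.ofNat 0, Int.negSucc 1, Int.ofNat 2, Int.ofNat 0, Int.ofNat 0, Int.ofNat 0, Int.negSucc 1, Int.ofNat 0, Int.ofNat 0, Int.ofNat 2, Int.ofNat 0, Int.ofNat 0, Int.ofNat 0, Int.ofNat 0, Int.negSucc 1, Int.negSucc 1, Int.ofNat 0, Int.ofNat 2, Int.ofNat 0, Int.ofNat 2, Int.ofNat 0],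
  [Int.ofNat 0, Int.ofNat 0, Int.ofNat 0, Int.ofNat 0, Int.negSucc 1, Int.ofNat 2, Int.ofNat 0, Int.ofNat 0, Int.ofNat 0, Int.negSucc 1, Int.ofNat 0, Int.ofNat 0, Int.ofNat 2, Int.ofNat 0, Int.ofNat 0, Int.ofNat 0, Int.ofNat 0, Int.negSucc 1, Int.negSucc 1, Int.ofNat 0, Int.ofNat 2, Int.ofNat 0, Int.ofNat 2, Int.ofNat 0],
  [Int.ofNat 0, Int.ofNat 0, Int.ofNat 0, Int.negSucc 1, Int.ofNat 2, Int.ofNat 0, Int.ofNat 0, Int.ofNat 0, Int.negSucc 1, Int.ofNat 0, Int.ofNat 0, Int.ofNat 2, Int.ofNat 0, Int.ofNat 0, Int.ofNat 0, Int.ofNat 0, Int.negSucc 1, Int.negSucc 1, Int.ofNat 0, Int.ofNat 2, Int.ofNat 0, Int.ofNat 2, Int.ofNat 0, Int.ofNat 0],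
  [Int.ofNat 0, Int.ofNat 0, Int.ofNat 0, Int.negSucc 1, Int.ofNat 2, Int.ofNat 0, Int.ofNat 0, Int.ofNat 0, Int.negSucc 1, Int.ofNat 0, Int.ofNat 0, Int.negSucc 1, Int.ofNat 0, Int.ofNat 0, Int.ofNat 0, Int.ofNat 0, Int.negSucc 1, Int.negSucc 1, Int.ofNat 0, Int.ofNat 2, Int.ofNat 0, Int.negSucc 1, Int.ofNat 0, Int.ofNat 0],
  [Int.ofNat 0, Int.ofNat 0, Int.ofNat 0, Int.ofNat 2, Int.negSucc 1, Int.ofNat 0, Int.ofNat 0, Int.ofNat 0, Int.ofNat 2, Int.ofNat 0, Int.ofNat 0, Int.negSucc 1, Int.ofNat 0, Int.ofNat 0, Int.ofNat 0, Int.ofNat 0, Int.ofNat 2, Int.negSucc 1, Int.ofNat 0, Int.ofNat 2, Int.ofNat 0, Int.negSucc 1, Int.ofNat 0, Int.ofNat 0],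
  [Int.ofNat 0, Int.ofNat 0, Int.negSucc 1, Int.ofNat 0, Int.negSucc 1, Int.ofNat 0, Int.ofNat 2, Int.ofNat 0, Int.ofNat 0, Int.ofNat 0, Int.ofNat 2, Int.ofNat 0, Int.negSucc 1, Int.ofNat 0, Int.ofNat 0, Int.ofNat 2, Int.ofNat 0, Int.negSucc 1, Int.ofNat 0, Int.ofNat 0, Int.ofNat 2, Int.ofNat 0, Int.ofNat 0, Int.ofNat 0],
  [Int.ofNat 0, Int.ofNat 0, Int.ofNat 2, Int.ofNat 0, Int.negSucc 1, Int.ofNat 0, Int.ofNat 2, Int.ofNat 0, Int.ofNat 0, Int.ofNat 0, Int.negSucc 1, Int.ofNat 0, Int.negSucc 1, Int.ofNat 0, Int.ofNat 0, Int.ofNat 2, Int.ofNat 0, Int.negSucc 1, Int.ofNat 0, Int.ofNat 0, Int.ofNat 2, Int.ofNat 0, Int.ofNat 0, Int.ofNat 0],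
  [Int.ofNat 0, Int.ofNat 0, Int.ofNat 0, Int.ofNat 2, Int.ofNat 0, Int.negSucc 1, Int.ofNat 0, Int.ofNat 2, Int.ofNat 0, Int.ofNat 0, Int.ofNat 0, Int.negSucc 1, Int.ofNat 0, Int.negSucc 1, Int.ofNat 0, Int.ofNat 0, Int.ofNat 2, Int.ofNat 0, Int.negSucc 1, Int.ofNat 0, Int.ofNat 0, Int.ofNat 2, Int.ofNat 0, Int.ofNat 0],
  [Int.ofNat 0, Int.ofNat 0, Int.ofNat 0, Int.ofNat 2, Int.ofNat 0, Int.negSucc 1, Int.negSucc 1, Int.ofNat 0, Int.ofNat 2, Int.ofNat 0, Int.ofNat 0, Int.ofNat 0, Int.ofNat 2, Int.negSucc 1, Int.ofNat 0, Int.ofNat 0, Int.ofNat 2, Int.ofNat 0, Int.ofNat 0, Int.negSucc 1, Int.ofNat 0, Int.ofNat 0, Int.ofNat 0, Int.ofNat 0],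
  [Int.ofNat 2, Int.ofNat 0, Int.negSucc 1, Int.negSucc 1, Int.ofNat 0, Int.ofNat 2, Int.ofNat 0, Int.ofNat 0, Int.ofNat 0, Int.ofNat 2, Int.negSucc 1, Int.ofNat 0, Int.ofNat 0, Int.ofNat 2, Int.ofNat 0, Int.ofNat 0, Int.negSucc 1, Int.ofNat 0, Int.ofNat 0, Int.ofNat 0, Int.ofNat 0, Int.ofNat 0, Int.ofNat 0, Int.ofNat 0],
  [Int.negSucc 1, Int.ofNat 0, Int.ofNat 2, Int.negSucc 1, Int.ofNat 0, Int.ofNat 2, Int.ofNat 0, Int.ofNat 0, Int.ofNat 0, Int.ofNat 2, Int.negSucc 1, Int.ofNat 0, Int.ofNat 0, Int.ofNat 2, Int.ofNat 0, Int.ofNat 0, Int.negSucc 1, Int.ofNat 0, Int.ofNat 0, Int.ofNat 0, Int.ofNat 0, Int.ofNat 0, Int.ofNat 0, Int.ofNat 0],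
  [Int.negSucc 1, Int.ofNat 0, Int.ofNat 0, Int.negSucc 1, Int.ofNat 0, Int.ofNat 0, Int.ofNat 2, Int.negSucc 1, Int.ofNat 0, Int.ofNat 2, Int.ofNat 0, Int.ofNat 0, Int.ofNat 2, Int.negSucc 1, Int.ofNat 0, Int.ofNat 0, Int.ofNat 0, Int.ofNat 0, Int.ofNat 0, Int.ofNat 0, Int.ofNat 0, Int.ofNat 2, Int.ofNat 0, Int.ofNat 0],
  [Int.ofNat 1, Int.negSucc 0, Int.negSucc 0, Int.negSucc 0, Int.ofNat 1, Int.ofNat 1, Int.ofNat 1, Int.negSucc 2, Int.negSucc 0, Int.ofNat 1, Int.negSucc 0, Int.negSucc 0, Int.ofNat 1, Int.negSucc 0, Int.ofNat 1, Int.negSucc 0, Int.ofNat 1, Int.ofNat 1, Int.negSucc 0, Int.negSucc 0, Int.negSucc 0, Int.ofNat 1, Int.ofNat 1, Int.negSucc 0],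
  [Int.ofNat 1, Int.negSucc 0, Int.ofNat 1, Int.negSucc 0, Int.ofNat 1, Int.negSucc 0, Int.negSucc 0, Int.negSucc 2, Int.negSucc 0, Int.negSucc 0, Int.ofNat 1, Int.negSucc 0, Int.ofNat 1, Int.negSucc 0, Int.ofNat 1, Int.ofNat 1, Int.ofNat 1, Int.ofNat 1, Int.ofNat 1, Int.negSucc 0, Int.negSucc 0, Int.ofNat 1, Int.negSucc 0, Int.negSucc 0],
  [Int.negSucc 0, Int.negSucc 0, Int.negSucc 0, Int.ofNat 1, Int.negSucc 0, Int.ofNat 1, Int.ofNat 1, Int.ofNat 1, Int.ofNat 1, Int.negSucc 0, Int.ofNat 1, Int.ofNat 1, Int.ofNat 1, Int.negSucc 0, Int.negSucc 0, Int.ofNat 1, Int.ofNat 1, Int.negSucc 0, Int.ofNat 1, Int.negSucc 0, Int.negSucc 0, Int.negSucc 0, Int.negSucc 2, Int.negSucc 0],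
  [Int.negSucc 0, Int.negSucc 0, Int.ofNat 1, Int.ofNat 1, Int.negSucc 0, Int.negSucc 0, Int.negSucc 0, Int.ofNat 1, Int.ofNat 1, Int.ofNat 1, Int.negSucc 0, Int.ofNat 1, Int.ofNat 1, Int.negSucc 0, Int.negSucc 0, Int.negSucc 0, Int.ofNat 1, Int.negSucc 0, Int.negSucc 0, Int.negSucc 0, Int.negSucc 0, Int.negSucc 0, Int.ofNat 3, Int.negSucc 0],
  [Int.ofNat 0, Int.ofNat 0, Int.negSucc 1, Int.ofNat 2, Int.negSucc 1, Int.ofNat 0, Int.ofNat 0, Int.ofNat 2, Int.ofNat 0, Int.ofNat 2, Int.ofNat 0, Int.ofNat 0, Int.ofNat 0, Int.negSucc 1, Int.ofNat 0, Int.ofNat 0, Int.ofNat 0, Int.ofNat 0, Int.negSucc 1, Int.ofNat 0, Int.ofNat 0, Int.ofNat 0, Int.ofNat 2, Int.ofNat 0],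
  [Int.ofNat 0, Int.negSucc 1, Int.ofNat 0, Int.ofNat 2, Int.negSucc 1, Int.ofNat 0, Int.ofNat 0, Int.ofNat 0, Int.ofNat 0, Int.ofNat 0, Int.ofNat 2, Int.ofNat 0, Int.ofNat 0, Int.ofNat 2, Int.ofNat 0, Int.ofNat 0, Int.negSucc 1, Int.ofNat 0, Int.negSucc 1, Int.ofNat 2, Int.ofNat 0, Int.ofNat 0, Int.ofNat 0, Int.ofNat 0],
  [Int.negSucc 0, Int.ofNat 1, Int.negSucc 0, Int.ofNat 1, Int.negSucc 0, Int.negSucc 0, Int.negSucc 0, Int.negSucc 0, Int.ofNat 1, Int.negSucc 0, Int.ofNat 1, Int.ofNat 1, Int.ofNat 1, Int.ofNat 3, Int.negSucc 0, Int.negSucc 0, Int.negSucc 0, Int.negSucc 0, Int.negSucc 0, Int.ofNat 1, Int.negSucc 0, Int.negSucc 0, Int.ofNat 1, Int.negSucc 0],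
  [Int.negSucc 0, Int.negSucc 0, Int.ofNat 1, Int.negSucc 0, Int.ofNat 1, Int.negSucc 0, Int.ofNat 1, Int.negSucc 0, Int.negSucc 0, Int.negSucc 0, Int.negSucc 0, Int.ofNat 1, Int.negSucc 0, Int.ofNat 1, Int.ofNat 1, Int.ofNat 1, Int.ofNat 3, Int.negSucc 0, Int.negSucc 0, Int.negSucc 0, Int.negSucc 0, Int.negSucc 0, Int.ofNat 1, Int.negSucc 0],
  [Int.ofNat 0, Int.ofNat 0, Int.negSucc 1, Int.ofNat 0, Int.negSucc 1, Int.ofNat 0, Int.ofNat 2, Int.ofNat 0, Int.ofNat 0, Int.ofNat 0, Int.ofNat 0, Int.ofNat 2, Int.ofNat 0, Int.negSucc 1, Int.ofNat 2, Int.ofNat 2, Int.ofNat 0, Int.ofNat 0, Int.ofNat 0, Int.ofNat 0, Int.ofNat 0, Int.ofNat 0, Int.negSucc 1, Int.ofNat 0],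
  [Int.ofNat 0, Int.negSucc 1, Int.ofNat 0, Int.negSucc 1, Int.ofNat 0, Int.ofNat 2, Int.ofNat 0, Int.ofNat 0, Int.ofNat 0, Int.ofNat 0, Int.ofNat 2, Int.ofNat 0, Int.negSucc 1, Int.ofNat 2, Int.ofNat 2, Int.ofNat 0, Int.ofNat 0, Int.ofNat 0, Int.ofNat 0, Int.ofNat 0, Int.ofNat 0, Int.negSucc 1, Int.ofNat 0, Int.ofNat 0],
  [Int.ofNat 0, Int.negSucc 1, Int.ofNat 0, Int.negSucc 1, Int.ofNat 0, Int.ofNat 2, Int.ofNat 0, Int.ofNat 0, Int.ofNat 0, Int.ofNat 0, Int.negSucc 1, Int.ofNat 0, Int.negSucc 1, Int.ofNat 2, Int.ofNat 2, Int.ofNat 0, Int.ofNat 0, Int.ofNat 0, Int.ofNat 0, Int.ofNat 0, Int.ofNat 0, Int.ofNat 2, Int.ofNat 0, Int.ofNat 0],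
  [Int.ofNat 0, Int.ofNat 2, Int.ofNat 0, Int.ofNat 2, Int.ofNat 0, Int.ofNat 2, Int.ofNat 0, Int.ofNat 0, Int.ofNat 0, Int.ofNat 0, Int.negSucc 1, Int.ofNat 0, Int.ofNat 2, Int.negSucc 1, Int.ofNat 2, Int.ofNat 0, Int.ofNat 0, Int.ofNat 0, Int.ofNat 0, Int.ofNat 0, Int.ofNat 0, Int.ofNat 2, Int.ofNat 0, Int.ofNat 0],
  [Int.ofNat 0, Int.ofNat 0, Int.ofNat 0, Int.ofNat 0, Int.ofNat 0, Int.ofNat 0, Int.ofNat 0, Int.negSucc 1, Int.ofNat 0, Int.ofNat 2, Int.ofNat 0, Int.ofNat 0, Int.ofNat 2, Int.ofNat 0, Int.ofNat 0, Int.ofNat 2, Int.negSucc 1, Int.ofNat 0, Int.ofNat 2, Int.ofNat 0, Int.ofNat 0, Int.ofNat 2, Int.ofNat 2, Int.ofNat 0],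
  [Int.ofNat 0, Int.ofNat 0, Int.ofNat 0, Int.ofNat 0, Int.ofNat 0, Int.ofNat 0, Int.ofNat 0, Int.ofNat 2, Int.ofNat 0, Int.negSucc 1, Int.ofNat 0, Int.ofNat 0, Int.ofNat 2, Int.ofNat 0, Int.ofNat 0, Int.ofNat 2, Int.negSucc 1, Int.ofNat 0, Int.negSucc 1, Int.ofNat 0, Int.ofNat 0, Int.negSucc 1, Int.ofNat 2, Int.ofNat 0],
  [Int.ofNat 2, Int.ofNat 0, Int.ofNat 0, Int.ofNat 0, Int.ofNat 0, Int.ofNat 0, Int.ofNat 0, Int.ofNat 0, Int.ofNat 2, Int.ofNat 0, Int.negSucc 1, Int.ofNat 0, Int.ofNat 0, Int.ofNat 2, Int.ofNat 0, Int.ofNat 0, Int.ofNat 2, Int.negSucc 1, Int.ofNat 0, Int.negSucc 1, Int.ofNat 0, Int.ofNat 0, Int.negSucc 1, Int.ofNat 0],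
  [Int.negSucc 0, Int.ofNat 1, Int.ofNat 1, Int.ofNat 1, Int.negSucc 0, Int.ofNat 1, Int.ofNat 1, Int.ofNat 1, Int.ofNat 1, Int.ofNat 1, Int.negSucc 0, Int.negSucc 0, Int.negSucc 0, Int.ofNat 1, Int.ofNat 1, Int.ofNat 1, Int.ofNat 1, Int.negSucc 0, Int.negSucc 0, Int.negSucc 0, Int.ofNat 1, Int.ofNat 1, Int.negSucc 2, Int.ofNat 1],
  [Int.ofNat 1, Int.negSucc 0, Int.ofNat 1, Int.ofNat 1, Int.ofNat 1, Int.ofNat 1, Int.ofNat 1, Int.negSucc 0, Int.negSucc 0, Int.negSucc 0, Int.ofNat 1, Int.ofNat 1, Int.ofNat 1, Int.ofNat 1, Int.negSucc 0, Int.negSucc 0, Int.negSucc 0, Int.ofNat 1, Int.ofNat 1, Int.negSucc 2, Int.negSucc 0, Int.ofNat 1, Int.ofNat 1, Int.ofNat 1],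
  [Int.ofNat 0, Int.ofNat 2, Int.ofNat 0, Int.ofNat 0, Int.ofNat 0, Int.ofNat 0, Int.ofNat 2, Int.ofNat 0, Int.negSucc 1, Int.ofNat 0, Int.ofNat 2, Int.ofNat 0, Int.ofNat 0, Int.ofNat 0, Int.negSucc 1, Int.ofNat 0, Int.negSucc 1, Int.ofNat 0, Int.ofNat 0, Int.negSucc 1, Int.ofNat 0, Int.ofNat 2, Int.ofNat 0, Int.ofNat 0],
  [Int.ofNat 0, Int.ofNat 2, Int.ofNat 0, Int.ofNat 0, Int.ofNat 0, Int.ofNat 0, Int.ofNat 0, Int.ofNat 2, Int.ofNat 0, Int.ofNat 0, Int.ofNat 0, Int.ofNat 0, Int.ofNat 0, Int.negSucc 1, Int.ofNat 0, Int.ofNat 0, Int.negSucc 1, Int.negSucc 1, Int.ofNat 2, Int.ofNat 0, Int.ofNat 2, Int.ofNat 0, Int.negSucc 1, Int.ofNat 0],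
  [Int.ofNat 1, Int.negSucc 0, Int.ofNat 1, Int.ofNat 1, Int.ofNat 3, Int.ofNat 1, Int.negSucc 0, Int.ofNat 1, Int.negSucc 0, Int.negSucc 0, Int.negSucc 0, Int.negSucc 0, Int.negSucc 0, Int.ofNat 1, Int.ofNat 1, Int.negSucc 0, Int.ofNat 1, Int.negSucc 0, Int.ofNat 1, Int.negSucc 0, Int.ofNat 1, Int.negSucc 0, Int.ofNat 1, Int.ofNat 1],
  [Int.ofNat 1, Int.negSucc 0, Int.negSucc 0, Int.ofNat 1, Int.ofNat 3, Int.negSucc 0, Int.ofNat 1, Int.ofNat 1, Int.negSucc 0, Int.ofNat 1, Int.ofNat 1, Int.negSucc 0, Int.negSucc 0, Int.ofNat 1, Int.ofNat 1, Int.ofNat 1, Int.ofNat 1, Int.negSucc 0, Int.negSucc 0, Int.negSucc 0, Int.ofNat 1, Int.negSucc 0, Int.negSucc 0, Int.ofNat 1],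
  [Int.ofNat 1, Int.ofNat 1, Int.negSucc 0, Int.negSucc 0, Int.negSucc 0, Int.ofNat 1, Int.negSucc 0, Int.ofNat 1, Int.negSucc 0, Int.ofNat 1, Int.ofNat 1, Int.negSucc 0, Int.negSucc 0, Int.negSucc 0, Int.negSucc 0, Int.ofNat 1, Int.ofNat 3, Int.negSucc 0, Int.ofNat 1, Int.ofNat 1, Int.negSucc 0, Int.ofNat 1, Int.ofNat 1, Int.ofNat 1],
  [Int.ofNat 1, Int.ofNat 1, Int.ofNat 1, Int.negSucc 0, Int.negSucc 0, Int.negSucc 0, Int.ofNat 1, Int.ofNat 1, Int.negSucc 0, Int.negSucc 0, Int.negSucc 0, Int.negSucc 0, Int.negSucc 0, Int.negSucc 0, Int.negSucc 0, Int.negSucc 0, Int.ofNat 3, Int.negSucc 0, Int.negSucc 0, Int.ofNat 1, Int.negSucc 0, Int.ofNat 1, Int.negSucc 0, Int.ofNat 1],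
  [Int.ofNat 1, Int.ofNat 1, Int.ofNat 1, Int.ofNat 1, Int.negSucc 0, Int.ofNat 1, Int.negSucc 0, Int.negSucc 0, Int.ofNat 1, Int.ofNat 1, Int.ofNat 1, Int.ofNat 1, Int.ofNat 1, Int.negSucc 0, Int.ofNat 1, Int.ofNat 1, Int.ofNat 3, Int.ofNat 1, Int.ofNat 1, Int.negSucc 0, Int.ofNat 1, Int.negSucc 0, Int.negSucc 0, Int.ofNat 1],
  [Int.ofNat 1, Int.ofNat 1, Int.negSucc 0, Int.ofNat 1, Int.ofNat 1, Int.negSucc 0, Int.ofNat 1, Int.ofNat 1, Int.ofNat 3, Int.ofNat 1, Int.negSucc 0, Int.negSucc 0, Int.ofNat 1, Int.ofNat 1, Int.ofNat 1, Int.ofNat 1, Int.negSucc 0, Int.ofNat 1, Int.negSucc 0, Int.negSucc 0, Int.ofNat 1, Int.ofNat 1, Int.ofNat 1, Int.ofNat 1],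
  [Int.ofNat 0, Int.ofNat 0, Int.ofNat 2, Int.ofNat 0, Int.ofNat 0, Int.negSucc 1, Int.ofNat 0, Int.ofNat 0, Int.ofNat 2, Int.ofNat 0, Int.negSucc 1, Int.negSucc 1, Int.ofNat 0, Int.ofNat 0, Int.ofNat 0, Int.ofNat 0, Int.negSucc 1, Int.ofNat 0, Int.negSucc 1, Int.negSucc 1, Int.ofNat 0, Int.ofNat 0, Int.ofNat 0, Int.ofNat 0],
  [Int.ofNat 0, Int.ofNat 0, Int.ofNat 0, Int.ofNat 0, Int.ofNat 0, Int.ofNat 2, Int.ofNat 0, Int.ofNat 0, Int.negSucc 1, Int.ofNat 0, Int.ofNat 0, Int.ofNat 2, Int.ofNat 0, Int.negSucc 1, Int.negSucc 1, Int.ofNat 0, Int.ofNat 0, Int.ofNat 0, Int.ofNat 0, Int.negSucc 1, Int.ofNat 0, Int.negSucc 1, Int.negSucc 1, Int.ofNat 0],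
  [Int.ofNat 0, Int.ofNat 0, Int.ofNat 0, Int.ofNat 0, Int.ofNat 2, Int.ofNat 2, Int.ofNat 2, Int.ofNat 2, Int.negSucc 1, Int.ofNat 0, Int.ofNat 0, Int.ofNat 2, Int.ofNat 0, Int.ofNat 0, Int.negSucc 1, Int.ofNat 0, Int.ofNat 2, Int.ofNat 0, Int.ofNat 0, Int.ofNat 0, Int.ofNat 0, Int.ofNat 0, Int.ofNat 0, Int.ofNat 0],
  [Int.ofNat 0, Int.ofNat 0, Int.ofNat 0, Int.ofNat 2, Int.ofNat 2, Int.ofNat 2, Int.ofNat 2, Int.negSucc 1, Int.ofNat 0, Int.ofNat 0, Int.ofNat 2, Int.ofNat 0, Int.ofNat 0, Int.negSucc 1, Int.ofNat 0, Int.ofNat 2, Int.ofNat 0, Int.ofNat 0, Int.ofNat 0, Int.ofNat 0, Int.ofNat 0, Int.ofNat 0, Int.ofNat 0, Int.ofNat 0],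
  [Int.ofNat 0, Int.ofNat 0, Int.ofNat 0, Int.ofNat 2, Int.ofNat 2, Int.ofNat 2, Int.ofNat 2, Int.ofNat 2, Int.ofNat 0, Int.ofNat 0, Int.negSucc 1, Int.ofNat 0, Int.ofNat 0, Int.negSucc 1, Int.ofNat 0, Int.ofNat 2, Int.ofNat 0, Int.ofNat 0, Int.ofNat 0, Int.ofNat 0, Int.ofNat 0, Int.ofNat 0, Int.ofNat 0, Int.ofNat 0],
  [Int.ofNat 0, Int.ofNat 0, Int.ofNat 0, Int.negSucc 1, Int.negSucc 1, Int.ofNat 2, Int.negSucc 1, Int.ofNat 2, Int.ofNat 0, Int.ofNat 0, Int.negSucc 1, Int.ofNat 0, Int.ofNat 0, Int.ofNat 2, Int.ofNat 0, Int.ofNat 2, Int.ofNat 0, Int.ofNat 0, Int.ofNat 0, Int.ofNat 0, Int.ofNat 0, Int.ofNat 0, Int.ofNat 0, Int.ofNat 0],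
  [Int.ofNat 0, Int.ofNat 0, Int.ofNat 0, Int.ofNat 2, Int.ofNat 0, Int.ofNat 0, Int.ofNat 0, Int.ofNat 2, Int.ofNat 0, Int.ofNat 2, Int.ofNat 0, Int.ofNat 0, Int.ofNat 0, Int.ofNat 2, Int.ofNat 0, Int.negSucc 1, Int.negSucc 1, Int.negSucc 1, Int.ofNat 0, Int.negSucc 1, Int.ofNat 0, Int.ofNat 0, Int.ofNat 0, Int.ofNat 0],
  [Int.ofNat 0, Int.ofNat 0, Int.ofNat 0, Int.ofNat 2, Int.ofNat 0, Int.ofNat 0, Int.ofNat 0, Int.negSucc 1, Int.ofNat 0, Int.negSucc 1, Int.ofNat 0, Int.ofNat 0, Int.ofNat 0, Int.ofNat 2, Int.ofNat 0, Int.negSucc 1, Int.negSucc 1, Int.negSucc 1, Int.ofNat 0, Int.negSucc 1, Int.ofNat 0, Int.ofNat 0, Int.ofNat 0, Int.ofNat 0],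
  [Int.ofNat 0, Int.ofNat 0, Int.ofNat 0, Int.ofNat 0, Int.ofNat 2, Int.ofNat 0, Int.ofNat 0, Int.ofNat 0, Int.negSucc 1, Int.ofNat 0, Int.negSucc 1, Int.ofNat 0, Int.ofNat 0, Int.ofNat 0, Int.ofNat 2, Int.ofNat 0, Int.negSucc 1, Int.negSucc 1, Int.negSucc 1, Int.ofNat 0, Int.negSucc 1, Int.ofNat 0, Int.ofNat 0, Int.ofNat 0],
  [Int.ofNat 0, Int.ofNat 0, Int.ofNat 0, Int.ofNat 0, Int.ofNat 2, Int.ofNat 0, Int.ofNat 0, Int.ofNat 0, Int.ofNat 0, Int.ofNat 2, Int.ofNat 0, Int.ofNat 2, Int.ofNat 2, Int.ofNat 0, Int.ofNat 2, Int.ofNat 2, Int.negSucc 1, Int.negSucc 1, Int.ofNat 0, Int.ofNat 0, Int.ofNat 0, Int.ofNat 0, Int.ofNat 0, Int.ofNat 0],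
  [Int.ofNat 0, Int.ofNat 2, Int.ofNat 0, Int.ofNat 0, Int.ofNat 0, Int.ofNat 0, Int.ofNat 2, Int.ofNat 0, Int.ofNat 2, Int.ofNat 2, Int.ofNat 0, Int.ofNat 2, Int.ofNat 2, Int.negSucc 1, Int.negSucc 1, Int.ofNat 0, Int.ofNat 0, Int.ofNat 0, Int.ofNat 0, Int.ofNat 0, Int.ofNat 0, Int.ofNat 0, Int.ofNat 0, Int.ofNat 0],
  [Int.ofNat 1, Int.negSucc 0, Int.ofNat 1, Int.ofNat 1, Int.ofNat 1, Int.ofNat 1, Int.ofNat 1, Int.negSucc 0, Int.negSucc 0, Int.ofNat 1, Int.negSucc 0, Int.negSucc 0, Int.negSucc 0, Int.negSucc 0, Int.negSucc 0, Int.negSucc 0, Int.ofNat 1, Int.ofNat 1, Int.negSucc 2, Int.negSucc 0, Int.negSucc 0, Int.negSucc 0, Int.ofNat 1, Int.ofNat 1],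
  [Int.ofNat 1, Int.ofNat 1, Int.ofNat 1, Int.ofNat 1, Int.negSucc 2, Int.negSucc 0, Int.ofNat 1, Int.negSucc 0, Int.negSucc 0, Int.negSucc 0, Int.negSucc 0, Int.ofNat 1, Int.ofNat 1, Int.ofNat 1, Int.ofNat 1, Int.negSucc 0, Int.negSucc 0, Int.negSucc 0, Int.negSucc 0, Int.negSucc 0, Int.negSucc 0, Int.ofNat 1, Int.negSucc 0, Int.ofNat 1],
  [Int.ofNat 1, Int.ofNat 1, Int.ofNat 1, Int.ofNat 1, Int.negSucc 0, Int.negSucc 0, Int.ofNat 1, Int.negSucc 0, Int.negSucc 0, Int.ofNat 1, Int.ofNat 1, Int.ofNat 1, Int.ofNat 1, Int.ofNat 3, Int.ofNat 1, Int.ofNat 1, Int.ofNat 1, Int.negSucc 0, Int.negSucc 0, Int.negSucc 0, Int.ofNat 1, Int.ofNat 1, Int.ofNat 1, Int.ofNat 1],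
  [Int.ofNat 1, Int.ofNat 1, Int.negSucc 0, Int.ofNat 1, Int.negSucc 0, Int.ofNat 1, Int.negSucc 0, Int.negSucc 0, Int.negSucc 0, Int.negSucc 0, Int.negSucc 0, Int.ofNat 1, Int.ofNat 1, Int.ofNat 3, Int.ofNat 1, Int.negSucc 0, Int.ofNat 1, Int.negSucc 0, Int.ofNat 1, Int.negSucc 0, Int.ofNat 1, Int.ofNat 1, Int.negSucc 0, Int.ofNat 1],
  [Int.ofNat 1, Int.ofNat 3, Int.ofNat 1, Int.negSucc 0, Int.ofNat 1, Int.ofNat 1, Int.ofNat 1, Int.negSucc 0, Int.ofNat 1, Int.ofNat 1, Int.negSucc 0, Int.negSucc 0, Int.ofNat 1, Int.negSucc 0, Int.negSucc 0, Int.ofNat 1, Int.negSucc 0, Int.negSucc 0, Int.ofNat 1, Int.negSucc 0, Int.ofNat 1, Int.negSucc 0, Int.negSucc 0, Int.ofNat 1],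
  [Int.ofNat 1, Int.ofNat 3, Int.negSucc 0, Int.negSucc 0, Int.ofNat 1, Int.negSucc 0, Int.negSucc 0, Int.negSucc 0, Int.ofNat 1, Int.negSucc 0, Int.ofNat 1, Int.negSucc 0, Int.ofNat 1, Int.negSucc 0, Int.negSucc 0, Int.negSucc 0, Int.negSucc 0, Int.negSucc 0, Int.negSucc 0, Int.negSucc 0, Int.ofNat 1, Int.negSucc 0, Int.ofNat 1, Int.ofNat 1],
  [Int.ofNat 1, Int.negSucc 0, Int.ofNat 3, Int.ofNat 1, Int.ofNat 1, Int.ofNat 1, Int.ofNat 1, Int.ofNat 1, Int.ofNat 1, Int.negSucc 0, Int.ofNat 1, Int.negSucc 0, Int.ofNat 1, Int.negSucc 0, Int.ofNat 1, Int.negSucc 0, Int.negSucc 0, Int.ofNat 1, Int.negSucc 0, Int.ofNat 1, Int.ofNat 1, Int.ofNat 1, Int.ofNat 1, Int.ofNat 1],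
  [Int.ofNat 1, Int.negSucc 0, Int.ofNat 1, Int.ofNat 1, Int.ofNat 3, Int.ofNat 1, Int.negSucc 0, Int.ofNat 1, Int.negSucc 0, Int.ofNat 1, Int.ofNat 1, Int.ofNat 1, Int.ofNat 1, Int.negSucc 0, Int.ofNat 1, Int.negSucc 0, Int.negSucc 0, Int.negSucc 0, Int.ofNat 1, Int.ofNat 1, Int.ofNat 1, Int.ofNat 1, Int.ofNat 1, Int.ofNat 1],
  [Int.ofNat 0, Int.ofNat 2, Int.ofNat 0, Int.ofNat 0, Int.ofNat 2, Int.ofNat 0, Int.negSucc 1, Int.ofNat 0, Int.negSucc 1, Int.ofNat 0, Int.ofNat 0, Int.ofNat 0, Int.ofNat 0, Int.negSucc 1, Int.ofNat 0, Int.negSucc 1, Int.negSucc 1, Int.negSucc 1, Int.ofNat 0, Int.ofNat 0, Int.ofNat 0, Int.ofNat 0, Int.ofNat 0, Int.ofNat 0],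
  [Int.ofNat 0, Int.ofNat 0, Int.ofNat 0, Int.ofNat 0, Int.ofNat 2, Int.ofNat 0, Int.ofNat 0, Int.ofNat 2, Int.ofNat 0, Int.negSucc 1, Int.ofNat 0, Int.negSucc 1, Int.ofNat 0, Int.ofNat 0, Int.ofNat 0, Int.ofNat 0, Int.negSucc 1, Int.ofNat 0, Int.negSucc 1, Int.negSucc 1, Int.negSucc 1, Int.ofNat 0, Int.ofNat 0, Int.ofNat 0],
  [Int.ofNat 0, Int.ofNat 0, Int.ofNat 0, Int.ofNat 0, Int.ofNat 2, Int.ofNat 0, Int.ofNat 0, Int.ofNat 2, Int.ofNat 2, Int.ofNat 0, Int.ofNat 2, Int.ofNat 0, Int.ofNat 2, Int.ofNat 0, Int.ofNat 0, Int.ofNat 2, Int.negSucc 1, Int.ofNat 0, Int.ofNat 0, Int.negSucc 1, Int.ofNat 0, Int.ofNat 0, Int.ofNat 0, Int.ofNat 0],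
  [Int.ofNat 0, Int.ofNat 0, Int.ofNat 0, Int.ofNat 2, Int.ofNat 0, Int.ofNat 0, Int.ofNat 2, Int.ofNat 2, Int.ofNat 0, Int.ofNat 2, Int.ofNat 0, Int.ofNat 2, Int.ofNat 0, Int.ofNat 0, Int.ofNat 2, Int.negSucc 1, Int.ofNat 0, Int.ofNat 0, Int.negSucc 1, Int.ofNat 0, Int.ofNat 0, Int.ofNat 0, Int.ofNat 0, Int.ofNat 0],
  [Int.ofNat 0, Int.ofNat 0, Int.ofNat 0, Int.ofNat 2, Int.ofNat 0, Int.ofNat 0, Int.ofNat 2, Int.negSucc 1, Int.ofNat 0, Int.negSucc 1, Int.ofNat 0, Int.negSucc 1, Int.ofNat 0, Int.ofNat 0, Int.ofNat 2, Int.negSucc 1, Int.ofNat 0, Int.ofNat 0, Int.ofNat 2, Int.ofNat 0, Int.ofNat 0, Int.ofNat 0, Int.ofNat 0, Int.ofNat 0],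
  [Int.ofNat 0, Int.ofNat 0, Int.ofNat 0, Int.negSucc 1, Int.ofNat 0, Int.ofNat 0, Int.negSucc 1, Int.negSucc 1, Int.ofNat 0, Int.ofNat 2, Int.ofNat 0, Int.negSucc 1, Int.ofNat 0, Int.ofNat 0, Int.ofNat 2, Int.negSucc 1, Int.ofNat 0, Int.ofNat 0, Int.negSucc 1, Int.ofNat 0, Int.ofNat 0, Int.ofNat 0, Int.ofNat 0, Int.ofNat 0],
  [Int.ofNat 0, Int.ofNat 0, Int.negSucc 1, Int.negSucc 1, Int.ofNat 0, Int.ofNat 2, Int.ofNat 0, Int.ofNat 0, Int.ofNat 0, Int.ofNat 0, Int.ofNat 0, Int.ofNat 0, Int.ofNat 0, Int.negSucc 1, Int.negSucc 1, Int.negSucc 1, Int.ofNat 0, Int.ofNat 0, Int.ofNat 2, Int.negSucc 1, Int.ofNat 0, Int.ofNat 0, Int.ofNat 0, Int.ofNat 0],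
  [Int.ofNat 0, Int.ofNat 0, Int.ofNat 2, Int.negSucc 1, Int.ofNat 0, Int.ofNat 2, Int.ofNat 0, Int.ofNat 0, Int.ofNat 0, Int.ofNat 0, Int.ofNat 0, Int.ofNat 0, Int.ofNat 0, Int.negSucc 1, Int.negSucc 1, Int.negSucc 1, Int.ofNat 0, Int.ofNat 0, Int.negSucc 1, Int.negSucc 1, Int.ofNat 0, Int.ofNat 0, Int.ofNat 0, Int.ofNat 0],
  [Int.ofNat 0, Int.ofNat 0, Int.ofNat 0, Int.ofNat 2, Int.negSucc 1, Int.ofNat 0, Int.ofNat 2, Int.ofNat 0, Int.ofNat 0, Int.ofNat 0, Int.ofNat 0, Int.ofNat 0, Int.ofNat 0, Int.ofNat 0, Int.negSucc 1, Int.negSucc 1, Int.negSucc 1, Int.ofNat 0, Int.ofNat 0, Int.negSucc 1, Int.negSucc 1, Int.ofNat 0, Int.ofNat 0, Int.ofNat 0],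
  [Int.ofNat 0, Int.ofNat 0, Int.ofNat 0, Int.ofNat 2, Int.ofNat 0, Int.ofNat 0, Int.ofNat 2, Int.ofNat 0, Int.ofNat 0, Int.ofNat 2, Int.ofNat 2, Int.ofNat 0, Int.ofNat 0, Int.ofNat 2, Int.negSucc 1, Int.ofNat 0, Int.ofNat 0, Int.ofNat 0, Int.ofNat 0, Int.negSucc 1, Int.ofNat 0, Int.ofNat 0, Int.ofNat 2, Int.ofNat 0],
  [Int.ofNat 2, Int.ofNat 0, Int.ofNat 0, Int.ofNat 2, Int.ofNat 0, Int.ofNat 0, Int.ofNat 2, Int.ofNat 2, Int.ofNat 0, Int.ofNat 0, Int.ofNat 2, Int.negSucc 1, Int.ofNat 0, Int.ofNat 0, Int.ofNat 0, Int.ofNat 0, Int.negSucc 1, Int.ofNat 0, Int.ofNat 0, Int.ofNat 2, Int.ofNat 0, Int.ofNat 0, Int.ofNat 0, Int.ofNat 0],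
  [Int.negSucc 0, Int.ofNat 1, Int.ofNat 1, Int.ofNat 1, Int.ofNat 1, Int.negSucc 0, Int.negSucc 0, Int.negSucc 0, Int.ofNat 1, Int.negSucc 0, Int.ofNat 1, Int.negSucc 0, Int.ofNat 1, Int.ofNat 1, Int.negSucc 0, Int.negSucc 0, Int.negSucc 0, Int.negSucc 0, Int.ofNat 1, Int.negSucc 0, Int.negSucc 0, Int.negSucc 2, Int.ofNat 1, Int.ofNat 1],
  [Int.negSucc 0, Int.negSucc 0, Int.ofNat 1, Int.ofNat 1, Int.ofNat 1, Int.negSucc 0, Int.ofNat 1, Int.ofNat 1, Int.ofNat 1, Int.ofNat 1, Int.negSucc 0, Int.negSucc 0, Int.negSucc 0, Int.negSucc 0, Int.ofNat 1, Int.negSucc 0, Int.ofNat 1, Int.negSucc 0, Int.ofNat 1, Int.negSucc 0, Int.negSucc 2, Int.negSucc 0, Int.negSucc 0, Int.ofNat 1],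
  [Int.ofNat 1, Int.ofNat 1, Int.negSucc 0, Int.ofNat 1, Int.ofNat 1, Int.negSucc 0, Int.ofNat 1, Int.ofNat 1, Int.ofNat 1, Int.ofNat 3, Int.ofNat 1, Int.negSucc 0, Int.negSucc 0, Int.negSucc 0, Int.ofNat 1, Int.ofNat 1, Int.ofNat 1, Int.negSucc 0, Int.ofNat 1, Int.negSucc 0, Int.negSucc 0, Int.negSucc 0, Int.negSucc 0, Int.negSucc 0],
  [Int.ofNat 1, Int.ofNat 1, Int.ofNat 1, Int.ofNat 1, Int.ofNat 1, Int.ofNat 1, Int.negSucc 0, Int.ofNat 1, Int.ofNat 1, Int.negSucc 2, Int.negSucc 0, Int.negSucc 0, Int.negSucc 0, Int.negSucc 0, Int.ofNat 1, Int.negSucc 0, Int.ofNat 1, Int.negSucc 0, Int.negSucc 0, Int.negSucc 0, Int.negSucc 0, Int.negSucc 0, Int.ofNat 1, Int.negSucc 0],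
  [Int.negSucc 0, Int.negSucc 0, Int.ofNat 1, Int.ofNat 1, Int.negSucc 0, Int.ofNat 1, Int.negSucc 0, Int.negSucc 0, Int.negSucc 0, Int.ofNat 1, Int.negSucc 0, Int.negSucc 0, Int.negSucc 0, Int.ofNat 1, Int.negSucc 0, Int.ofNat 1, Int.ofNat 1, Int.ofNat 1, Int.ofNat 1, Int.negSucc 0, Int.ofNat 1, Int.negSucc 2, Int.ofNat 1, Int.negSucc 0],
  [Int.negSucc 0, Int.negSucc 0, Int.negSucc 0, Int.ofNat 1, Int.negSucc 0, Int.negSucc 0, Int.ofNat 1, Int.negSucc 0, Int.negSucc 0, Int.negSucc 0, Int.ofNat 1, Int.negSucc 0, Int.negSucc 0, Int.ofNat 1, Int.negSucc 0, Int.negSucc 0, Int.ofNat 1, Int.ofNat 1, Int.negSucc 0, Int.negSucc 0, Int.ofNat 1, Int.negSucc 2, Int.negSucc 0, Int.negSucc 0],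
  [Int.negSucc 0, Int.negSucc 0, Int.negSucc 0, Int.ofNat 1, Int.negSucc 0, Int.negSucc 0, Int.ofNat 3, Int.ofNat 1, Int.ofNat 1, Int.negSucc 0, Int.ofNat 1, Int.ofNat 1, Int.ofNat 1, Int.ofNat 1, Int.negSucc 0, Int.negSucc 0, Int.ofNat 1, Int.ofNat 1, Int.ofNat 1, Int.ofNat 1, Int.ofNat 1, Int.negSucc 0, Int.negSucc 0, Int.negSucc 0],
  [Int.negSucc 0, Int.ofNat 1, Int.ofNat 3, Int.ofNat 1, Int.negSucc 0, Int.negSucc 0, Int.negSucc 0, Int.negSucc 0, Int.ofNat 1, Int.ofNat 1, Int.ofNat 1, Int.ofNat 1, Int.ofNat 1, Int.negSucc 0, Int.ofNat 1, Int.negSucc 0, Int.ofNat 1, Int.ofNat 1, Int.negSucc 0, Int.negSucc 0, Int.ofNat 1, Int.ofNat 1, Int.negSucc 0, Int.negSucc 0],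
  [Int.ofNat 2, Int.ofNat 0, Int.negSucc 1, Int.ofNat 0, Int.ofNat 0, Int.negSucc 1, Int.ofNat 0, Int.ofNat 0, Int.ofNat 0, Int.ofNat 0, Int.ofNat 0, Int.ofNat 0, Int.ofNat 0, Int.ofNat 0, Int.ofNat 0, Int.negSucc 1, Int.ofNat 2, Int.ofNat 0, Int.negSucc 1, Int.ofNat 0, Int.ofNat 0, Int.ofNat 2, Int.ofNat 0, Int.ofNat 2],
  [Int.ofNat 0, Int.ofNat 2, Int.ofNat 0, Int.ofNat 2, Int.ofNat 0, Int.negSucc 1, Int.ofNat 0, Int.ofNat 0, Int.negSucc 1, Int.ofNat 0, Int.ofNat 0, Int.ofNat 0, Int.ofNat 0, Int.ofNat 0, Int.ofNat 0, Int.ofNat 0, Int.ofNat 0, Int.ofNat 0, Int.negSucc 1, Int.ofNat 2, Int.ofNat 0, Int.negSucc 1, Int.ofNat 0, Int.ofNat 2],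
  [Int.ofNat 2, Int.ofNat 0, Int.ofNat 2, Int.ofNat 2, Int.ofNat 0, Int.negSucc 1, Int.ofNat 0, Int.ofNat 0, Int.ofNat 0, Int.ofNat 0, Int.ofNat 0, Int.ofNat 2, Int.ofNat 2, Int.ofNat 0, Int.ofNat 0, Int.ofNat 0, Int.ofNat 0, Int.ofNat 0, Int.ofNat 0, Int.ofNat 2, Int.ofNat 0, Int.negSucc 1, Int.ofNat 0, Int.ofNat 0],
  [Int.ofNat 0, Int.ofNat 2, Int.ofNat 2, Int.ofNat 0, Int.negSucc 1, Int.ofNat 0, Int.ofNat 0, Int.ofNat 0, Int.ofNat 0, Int.ofNat 0, Int.ofNat 2, Int.ofNat 2, Int.ofNat 0, Int.ofNat 0, Int.ofNat 0, Int.ofNat 0, Int.ofNat 0, Int.ofNat 0, Int.ofNat 2, Int.ofNat 0, Int.negSucc 1, Int.ofNat 0, Int.ofNat 2, Int.ofNat 0],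
  [Int.ofNat 0, Int.ofNat 2, Int.negSucc 1, Int.ofNat 0, Int.negSucc 1, Int.ofNat 0, Int.ofNat 0, Int.ofNat 0, Int.ofNat 0, Int.ofNat 0, Int.negSucc 1, Int.negSucc 1, Int.ofNat 0, Int.ofNat 0, Int.ofNat 0, Int.ofNat 0, Int.ofNat 0, Int.ofNat 0, Int.negSucc 1, Int.ofNat 0, Int.negSucc 1, Int.ofNat 0, Int.ofNat 2, Int.ofNat 0],
  [Int.ofNat 0, Int.negSucc 1, Int.ofNat 2, Int.ofNat 0, Int.ofNat 2, Int.ofNat 0, Int.ofNat 0, Int.ofNat 0, Int.ofNat 0, Int.ofNat 0, Int.negSucc 1, Int.negSucc 1, Int.ofNat 0, Int.ofNat 0, Int.ofNat 0, Int.ofNat 0, Int.ofNat 0, Int.ofNat 0, Int.ofNat 2, Int.ofNat 0, Int.negSucc 1, Int.ofNat 0, Int.ofNat 2, Int.ofNat 0],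
  [Int.ofNat 0, Int.ofNat 2, Int.negSucc 1, Int.ofNat 0, Int.ofNat 0, Int.ofNat 0, Int.ofNat 0, Int.ofNat 0, Int.negSucc 1, Int.ofNat 0, Int.ofNat 0, Int.ofNat 2, Int.ofNat 0, Int.ofNat 0, Int.ofNat 2, Int.ofNat 0, Int.negSucc 1, Int.ofNat 2, Int.ofNat 0, Int.ofNat 0, Int.ofNat 0, Int.ofNat 0, Int.negSucc 1, Int.ofNat 0],
  [Int.ofNat 0, Int.ofNat 2, Int.ofNat 2, Int.ofNat 0, Int.ofNat 0, Int.ofNat 0, Int.ofNat 0, Int.ofNat 0, Int.negSucc 1, Int.ofNat 0, Int.ofNat 0, Int.negSucc 1, Int.ofNat 0, Int.ofNat 0, Int.ofNat 2, Int.ofNat 0, Int.negSucc 1, Int.ofNat 2, Int.ofNat 0, Int.ofNat 0, Int.ofNat 0, Int.ofNat 0, Int.negSucc 1, Int.ofNat 0],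
  [Int.negSucc 1, Int.ofNat 0, Int.ofNat 2, Int.ofNat 2, Int.ofNat 0, Int.ofNat 0, Int.ofNat 0, Int.ofNat 0, Int.ofNat 0, Int.negSucc 1, Int.ofNat 0, Int.ofNat 0, Int.negSucc 1, Int.ofNat 0, Int.ofNat 0, Int.ofNat 2, Int.ofNat 0, Int.negSucc 1, Int.ofNat 2, Int.ofNat 0, Int.ofNat 0, Int.ofNat 0, Int.ofNat 0, Int.ofNat 0],
  [Int.ofNat 2, Int.ofNat 0, Int.negSucc 1, Int.ofNat 2, Int.ofNat 0, Int.ofNat 0, Int.ofNat 0, Int.ofNat 0, Int.ofNat 0, Int.negSucc 1, Int.ofNat 0, Int.ofNat 0, Int.negSucc 1, Int.ofNat 0, Int.ofNat 0, Int.ofNat 2, Int.ofNat 0, Int.negSucc 1, Int.ofNat 2, Int.ofNat 0, Int.ofNat 0, Int.ofNat 0, Int.ofNat 0, Int.ofNat 0],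
  [Int.ofNat 2, Int.ofNat 0, Int.ofNat 0, Int.ofNat 0, Int.ofNat 0, Int.ofNat 0, Int.negSucc 1, Int.ofNat 0, Int.ofNat 0, Int.negSucc 1, Int.ofNat 0, Int.ofNat 0, Int.ofNat 2, Int.ofNat 0, Int.negSucc 1, Int.ofNat 2, Int.ofNat 0, Int.ofNat 0, Int.ofNat 0, Int.ofNat 0, Int.ofNat 2, Int.ofNat 0, Int.negSucc 1, Int.ofNat 0],
  [Int.negSucc 0, Int.ofNat 1, Int.ofNat 1, Int.ofNat 1, Int.ofNat 1, Int.ofNat 1, Int.negSucc 0, Int.ofNat 1, Int.negSucc 0, Int.negSucc 2, Int.negSucc 0, Int.negSucc 0, Int.ofNat 1, Int.ofNat 1, Int.negSucc 0, Int.ofNat 1, Int.ofNat 1, Int.ofNat 1, Int.negSucc 0, Int.ofNat 1, Int.ofNat 1, Int.ofNat 1, Int.negSucc 0, Int.ofNat 1],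
  [Int.negSucc 0, Int.negSucc 0, Int.ofNat 1, Int.ofNat 1, Int.negSucc 0, Int.ofNat 1, Int.ofNat 1, Int.negSucc 0, Int.ofNat 1, Int.ofNat 1, Int.ofNat 1, Int.ofNat 1, Int.negSucc 2, Int.ofNat 1, Int.negSucc 0, Int.ofNat 1, Int.negSucc 0, Int.negSucc 0, Int.ofNat 1, Int.negSucc 0, Int.ofNat 1, Int.ofNat 1, Int.ofNat 1, Int.ofNat 1],
  [Int.ofNat 1, Int.ofNat 1, Int.negSucc 0, Int.ofNat 1, Int.negSucc 0, Int.ofNat 1, Int.ofNat 1, Int.negSucc 0, Int.ofNat 1, Int.negSucc 0, Int.negSucc 0, Int.ofNat 1, Int.negSucc 2, Int.ofNat 1, Int.negSucc 0, Int.negSucc 0, Int.negSucc 0, Int.negSucc 0, Int.ofNat 1, Int.negSucc 0, Int.negSucc 0, Int.ofNat 1, Int.ofNat 1, Int.negSucc 0],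
  [Int.ofNat 1, Int.ofNat 1, Int.ofNat 1, Int.ofNat 1, Int.negSucc 0, Int.negSucc 0, Int.negSucc 0, Int.negSucc 0, Int.ofNat 1, Int.ofNat 1, Int.ofNat 1, Int.ofNat 1, Int.negSucc 2, Int.ofNat 1, Int.negSucc 0, Int.ofNat 1, Int.negSucc 0, Int.negSucc 0, Int.negSucc 0, Int.negSucc 0, Int.negSucc 0, Int.ofNat 1, Int.negSucc 0, Int.negSucc 0],
  [Int.negSucc 0, Int.ofNat 1, Int.negSucc 0, Int.ofNat 1, Int.ofNat 1, Int.ofNat 1, Int.negSucc 2, Int.ofNat 1, Int.negSucc 0, Int.ofNat 1, Int.ofNat 1, Int.negSucc 0, Int.ofNat 1, Int.negSucc 0, Int.negSucc 0, Int.negSucc 0, Int.negSucc 0, Int.ofNat 1, Int.negSucc 0, Int.negSucc 0, Int.ofNat 1, Int.ofNat 1, Int.negSucc 0, Int.negSucc 0],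
  [Int.negSucc 0, Int.ofNat 1, Int.ofNat 1, Int.ofNat 1, Int.ofNat 1, Int.negSucc 0, Int.ofNat 3, Int.ofNat 1, Int.negSucc 0, Int.negSucc 0, Int.negSucc 0, Int.negSucc 0, Int.ofNat 1, Int.negSucc 0, Int.negSucc 0, Int.ofNat 1, Int.negSucc 0, Int.ofNat 1, Int.ofNat 1, Int.negSucc 0, Int.ofNat 1, Int.ofNat 1, Int.ofNat 1, Int.negSucc 0],
  [Int.ofNat 1, Int.negSucc 0, Int.negSucc 0, Int.ofNat 1, Int.ofNat 1, Int.negSucc 0, Int.ofNat 1, Int.negSucc 0, Int.negSucc 0, Int.negSucc 0, Int.negSucc 0, Int.negSucc 0, Int.ofNat 1, Int.negSucc 0, Int.negSucc 0, Int.ofNat 1, Int.negSucc 0, Int.ofNat 1, Int.ofNat 1, Int.negSucc 2, Int.ofNat 1, Int.negSucc 0, Int.ofNat 1, Int.ofNat 1],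
  [Int.ofNat 1, Int.ofNat 1, Int.ofNat 1, Int.ofNat 1, Int.negSucc 0, Int.negSucc 0, Int.negSucc 0, Int.negSucc 0, Int.negSucc 0, Int.ofNat 1, Int.negSucc 0, Int.negSucc 2, Int.negSucc 0, Int.negSucc 0, Int.ofNat 1, Int.ofNat 1, Int.negSucc 0, Int.negSucc 0, Int.ofNat 1, Int.ofNat 1, Int.negSucc 0, Int.ofNat 1, Int.negSucc 0, Int.ofNat 1],
  [Int.ofNat 1, Int.ofNat 1, Int.ofNat 1, Int.ofNat 1, Int.ofNat 1, Int.negSucc 0, Int.negSucc 0, Int.negSucc 0, Int.ofNat 1, Int.ofNat 1, Int.negSucc 0, Int.negSucc 0, Int.ofNat 1, Int.ofNat 1, Int.ofNat 1, Int.ofNat 1, Int.ofNat 1, Int.negSucc 0, Int.ofNat 3, Int.ofNat 1, Int.negSucc 0, Int.ofNat 1, Int.ofNat 1, Int.ofNat 1],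
  [Int.negSucc 0, Int.ofNat 1, Int.ofNat 1, Int.ofNat 1, Int.ofNat 1, Int.ofNat 1, Int.ofNat 1, Int.ofNat 1, Int.negSucc 0, Int.negSucc 0, Int.negSucc 0, Int.ofNat 1, Int.ofNat 1, Int.negSucc 0, Int.negSucc 0, Int.ofNat 1, Int.ofNat 1, Int.ofNat 1, Int.ofNat 1, Int.ofNat 1, Int.negSucc 0, Int.ofNat 3, Int.ofNat 1, Int.ofNat 1],
  [Int.ofNat 2, Int.ofNat 0, Int.ofNat 0, Int.ofNat 0, Int.ofNat 0, Int.ofNat 0, Int.negSucc 1, Int.negSucc 1, Int.negSucc 1, Int.ofNat 0, Int.ofNat 0, Int.ofNat 0, Int.ofNat 0, Int.negSucc 1, Int.negSucc 1, Int.ofNat 2, Int.ofNat 0, Int.ofNat 0, Int.ofNat 0, Int.negSucc 1, Int.ofNat 0, Int.ofNat 0, Int.ofNat 0, Int.ofNat 0],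
  [Int.ofNat 0, Int.ofNat 0, Int.ofNat 0, Int.ofNat 0, Int.ofNat 0, Int.negSucc 1, Int.negSucc 1, Int.negSucc 1, Int.ofNat 0, Int.ofNat 0, Int.ofNat 0, Int.ofNat 0, Int.negSucc 1, Int.negSucc 1, Int.ofNat 2, Int.ofNat 0, Int.ofNat 0, Int.ofNat 0, Int.negSucc 1, Int.ofNat 0, Int.ofNat 0, Int.ofNat 0, Int.ofNat 2, Int.ofNat 0],
  [Int.ofNat 0, Int.ofNat 0, Int.ofNat 0, Int.ofNat 0, Int.ofNat 0, Int.negSucc 1, Int.negSucc 1, Int.ofNat 2, Int.ofNat 0, Int.ofNat 0, Int.ofNat 0, Int.ofNat 0, Int.negSucc 1, Int.negSucc 1, Int.ofNat 2, Int.ofNat 0, Int.ofNat 0, Int.ofNat 0, Int.ofNat 2, Int.ofNat 0, Int.ofNat 0, Int.ofNat 0, Int.ofNat 2, Int.ofNat 0],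
  [Int.ofNat 0, Int.ofNat 0, Int.ofNat 0, Int.ofNat 0, Int.ofNat 0, Int.negSucc 1, Int.ofNat 2, Int.ofNat 2, Int.ofNat 0, Int.ofNat 0, Int.ofNat 0, Int.ofNat 0, Int.ofNat 2, Int.ofNat 2, Int.ofNat 2, Int.ofNat 0, Int.ofNat 0, Int.ofNat 0, Int.negSucc 1, Int.ofNat 0, Int.ofNat 0, Int.ofNat 0, Int.ofNat 2, Int.ofNat 0],
  [Int.ofNat 0, Int.ofNat 2, Int.ofNat 0, Int.ofNat 0, Int.ofNat 0, Int.ofNat 0, Int.ofNat 0, Int.ofNat 2, Int.ofNat 0, Int.negSucc 1, Int.ofNat 0, Int.ofNat 0, Int.ofNat 0, Int.ofNat 2, Int.negSucc 1, Int.ofNat 0, Int.ofNat 0, Int.ofNat 0, Int.ofNat 2, Int.ofNat 2, Int.ofNat 0, Int.ofNat 2, Int.ofNat 0, Int.ofNat 0],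
  [Int.ofNat 0, Int.ofNat 2, Int.ofNat 0, Int.ofNat 0, Int.ofNat 0, Int.ofNat 0, Int.ofNat 0, Int.negSucc 1, Int.ofNat 0, Int.ofNat 2, Int.ofNat 0, Int.ofNat 0, Int.ofNat 0, Int.ofNat 2, Int.negSucc 1, Int.ofNat 0, Int.ofNat 0, Int.ofNat 0, Int.negSucc 1, Int.ofNat 2, Int.ofNat 0, Int.negSucc 1, Int.ofNat 0, Int.ofNat 0],
  [Int.ofNat 0, Int.ofNat 0, Int.ofNat 2, Int.ofNat 0, Int.ofNat 0, Int.ofNat 0, Int.ofNat 0, Int.ofNat 0, Int.negSucc 1, Int.ofNat 0, Int.ofNat 2, Int.ofNat 0, Int.ofNat 0, Int.ofNat 0, Int.ofNat 2, Int.negSucc 1, Int.ofNat 0, Int.ofNat 0, Int.ofNat 0, Int.negSucc 1, Int.ofNat 2, Int.ofNat 0, Int.negSucc 1, Int.ofNat 0],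
  [Int.ofNat 1, Int.ofNat 1, Int.negSucc 0, Int.negSucc 0, Int.ofNat 1, Int.negSucc 0, Int.ofNat 1, Int.ofNat 1, Int.negSucc 0, Int.negSucc 0, Int.ofNat 1, Int.ofNat 1, Int.ofNat 1, Int.ofNat 1, Int.ofNat 1, Int.negSucc 2, Int.ofNat 1, Int.negSucc 0, Int.ofNat 1, Int.negSucc 0, Int.ofNat 1, Int.ofNat 1, Int.negSucc 0, Int.ofNat 1],
  [Int.negSucc 0, Int.ofNat 1, Int.negSucc 0, Int.ofNat 1, Int.ofNat 1, Int.negSucc 0, Int.negSucc 0, Int.ofNat 1, Int.ofNat 1, Int.ofNat 1, Int.ofNat 1, Int.ofNat 1, Int.negSucc 2, Int.ofNat 1, Int.negSucc 0, Int.ofNat 1, Int.negSucc 0, Int.ofNat 1, Int.ofNat 1, Int.negSucc 0, Int.ofNat 1, Int.ofNat 1, Int.negSucc 0, Int.ofNat 1],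
  [Int.ofNat 1, Int.negSucc 0, Int.ofNat 1, Int.ofNat 1, Int.ofNat 1, Int.negSucc 0, Int.negSucc 0, Int.ofNat 1, Int.ofNat 1, Int.negSucc 0, Int.negSucc 0, Int.ofNat 1, Int.negSucc 2, Int.ofNat 1, Int.negSucc 0, Int.negSucc 0, Int.negSucc 0, Int.ofNat 1, Int.ofNat 1, Int.negSucc 0, Int.negSucc 0, Int.ofNat 1, Int.negSucc 0, Int.negSucc 0],
  [Int.ofNat 1, Int.negSucc 0, Int.ofNat 1, Int.ofNat 1, Int.ofNat 1, Int.ofNat 1, Int.ofNat 1, Int.negSucc 0, Int.negSucc 2, Int.ofNat 1, Int.negSucc 0, Int.ofNat 1, Int.negSucc 0, Int.negSucc 0, Int.negSucc 0, Int.negSucc 0, Int.ofNat 1, Int.negSucc 0, Int.negSucc 0, Int.ofNat 1, Int.ofNat 1, Int.negSucc 0, Int.negSucc 0, Int.negSucc 0],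
  [Int.negSucc 0, Int.ofNat 1, Int.negSucc 0, Int.ofNat 1, Int.ofNat 1, Int.ofNat 1, Int.ofNat 1, Int.negSucc 0, Int.negSucc 0, Int.ofNat 1, Int.negSucc 0, Int.ofNat 3, Int.ofNat 1, Int.negSucc 0, Int.negSucc 0, Int.negSucc 0, Int.ofNat 1, Int.negSucc 0, Int.ofNat 1, Int.ofNat 1, Int.ofNat 1, Int.negSucc 0, Int.negSucc 0, Int.ofNat 1],
  [Int.negSucc 0, Int.ofNat 1, Int.ofNat 1, Int.ofNat 1, Int.ofNat 1, Int.negSucc 0, Int.negSucc 0, Int.negSucc 0, Int.negSucc 0, Int.negSucc 0, Int.ofNat 1, Int.ofNat 3, Int.ofNat 1, Int.negSucc 0, Int.negSucc 0, Int.ofNat 1, Int.ofNat 1, Int.negSucc 0, Int.negSucc 0, Int.ofNat 1, Int.ofNat 1, Int.negSucc 0, Int.ofNat 1, Int.ofNat 1],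
  [Int.ofNat 1, Int.negSucc 0, Int.negSucc 0, Int.ofNat 1, Int.ofNat 3, Int.negSucc 0, Int.ofNat 1, Int.ofNat 1, Int.negSucc 0, Int.ofNat 1, Int.ofNat 1, Int.negSucc 0, Int.negSucc 0, Int.ofNat 1, Int.ofNat 1, Int.ofNat 1, Int.ofNat 1, Int.negSucc 0, Int.negSucc 0, Int.negSucc 0, Int.ofNat 1, Int.negSucc 0, Int.negSucc 0, Int.ofNat 1],
  [Int.ofNat 1, Int.negSucc 0, Int.ofNat 1, Int.ofNat 1, Int.ofNat 3, Int.ofNat 1, Int.negSucc 0, Int.ofNat 1, Int.negSucc 0, Int.negSucc 0, Int.negSucc 0, Int.negSucc 0, Int.negSucc 0, Int.ofNat 1, Int.ofNat 1, Int.negSucc 0, Int.ofNat 1, Int.negSucc 0, Int.ofNat 1, Int.negSucc 0, Int.ofNat 1, Int.negSucc 0, Int.ofNat 1, Int.ofNat 1],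
  [Int.ofNat 0, Int.ofNat 2, Int.ofNat 0, Int.ofNat 0, Int.ofNat 0, Int.ofNat 0, Int.ofNat 0, Int.ofNat 2, Int.ofNat 0, Int.ofNat 0, Int.ofNat 0, Int.ofNat 0, Int.ofNat 0, Int.negSucc 1, Int.ofNat 0, Int.ofNat 0, Int.negSucc 1, Int.negSucc 1, Int.ofNat 2, Int.ofNat 0, Int.ofNat 2, Int.ofNat 0, Int.negSucc 1, Int.ofNat 0],
  [Int.ofNat 0, Int.ofNat 2, Int.ofNat 0, Int.ofNat 0, Int.ofNat 0, Int.ofNat 0, Int.ofNat 2, Int.ofNat 0, Int.negSucc 1, Int.ofNat 0, Int.ofNat 2, Int.ofNat 0, Int.ofNat 0, Int.ofNat 0, Int.negSucc 1, Int.ofNat 0, Int.negSucc 1, Int.ofNat 0, Int.ofNat 0, Int.negSucc 1, Int.ofNat 0, Int.ofNat 2, Int.ofNat 0, Int.ofNat 0],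
  [Int.ofNat 1, Int.negSucc 0, Int.ofNat 1, Int.ofNat 1, Int.ofNat 1, Int.ofNat 1, Int.ofNat 1, Int.negSucc 0, Int.negSucc 0, Int.negSucc 0, Int.ofNat 1, Int.ofNat 1, Int.ofNat 1, Int.ofNat 1, Int.negSucc 0, Int.negSucc 0, Int.negSucc 0, Int.ofNat 1, Int.ofNat 1, Int.negSucc 2, Int.negSucc 0, Int.ofNat 1, Int.ofNat 1, Int.ofNat 1],
  [Int.negSucc 0, Int.ofNat 1, Int.ofNat 1, Int.ofNat 1, Int.negSucc 0, Int.ofNat 1, Int.ofNat 1, Int.ofNat 1, Int.ofNat 1, Int.ofNat 1, Int.negSucc 0, Int.negSucc 0, Int.negSucc 0, Int.ofNat 1, Int.ofNat 1, Int.ofNat 1, Int.ofNat 1, Int.negSucc 0, Int.negSucc 0, Int.negSucc 0, Int.ofNat 1, Int.ofNat 1, Int.negSucc 2, Int.ofNat 1],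
  [Int.ofNat 2, Int.ofNat 0, Int.ofNat 0, Int.ofNat 0, Int.ofNat 0, Int.ofNat 0, Int.ofNat 0, Int.ofNat 0, Int.ofNat 2, Int.ofNat 0, Int.negSucc 1, Int.ofNat 0, Int.ofNat 0, Int.ofNat 2, Int.ofNat 0, Int.ofNat 0, Int.ofNat 2, Int.negSucc 1, Int.ofNat 0, Int.negSucc 1, Int.ofNat 0, Int.ofNat 0, Int.negSucc 1, Int.ofNat 0],
  [Int.ofNat 0, Int.ofNat 0, Int.ofNat 0, Int.ofNat 0, Int.ofNat 0, Int.ofNat 0, Int.ofNat 0, Int.ofNat 2, Int.ofNat 0, Int.negSucc 1, Int.ofNat 0, Int.ofNat 0, Int.ofNat 2, Int.ofNat 0, Int.ofNat 0, Int.ofNat 2, Int.negSucc 1, Int.ofNat 0, Int.negSucc 1, Int.ofNat 0, Int.ofNat 0, Int.negSucc 1, Int.ofNat 2, Int.ofNat 0],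
  [Int.ofNat 0, Int.ofNat 0, Int.ofNat 0, Int.ofNat 0, Int.ofNat 0, Int.ofNat 0, Int.ofNat 0, Int.negSucc 1, Int.ofNat 0, Int.ofNat 2, Int.ofNat 0, Int.ofNat 0, Int.ofNat 2, Int.ofNat 0, Int.ofNat 0, Int.ofNat 2, Int.negSucc 1, Int.ofNat 0, Int.ofNat 2, Int.ofNat 0, Int.ofNat 0, Int.ofNat 2, Int.ofNat 2, Int.ofNat 0]]

set_option maxRecDepth 100000 in
theorem c1e22_chk : pmChk (List.replicate 14 [22, 0, 25]).flatten nxL c1e22M 0 0 = true := by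
  decide +kernel

theorem c1e22_ne : wE letE2 (List.replicate 14 [22, 0, 25]).flatten ≠ 1 ∧ wE letE2 (List.replicate 14 [22, 0, 25]).flatten ≠ negElt :=
  ne_pm_of_chk nxL_mem c1e22_chk

set_option maxRecDepth 100000 in
def c2tM : List (List ℤ) :=
  [[Int.negSucc 3, Int.ofNat 0, Int.ofNat 0, Int.ofNat 0, Int.ofNat 0, Int.ofNat 0, Int.ofNat 0, Int.ofNat 0, Int.ofNat 0, Int.ofNat 0, Int.ofNat 0, Int.ofNat 0, Int.ofNat 0, Int.ofNat 0, Int.ofNat 0, Int.ofNat 0, Int.ofNat 0, Int.ofNat 0, Int.ofNat 0, Int.ofNat 0, Int.ofNat 0, Int.ofNat 0, Int.ofNat 0, Int.ofNat 4],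
  [Int.ofNat 4, Int.ofNat 0, Int.ofNat 0, Int.ofNat 0, Int.ofNat 0, Int.ofNat 0, Int.ofNat 0, Int.ofNat 0, Int.ofNat 0, Int.ofNat 0, Int.ofNat 0, Int.ofNat 0, Int.ofNat 0, Int.ofNat 0, Int.ofNat 0, Int.ofNat 0, Int.ofNat 0, Int.ofNat 0, Int.ofNat 0, Int.ofNat 0, Int.ofNat 0, Int.ofNat 0, Int.ofNat 0, Int.ofNat 4],
  [Int.ofNat 0, Int.ofNat 4, Int.ofNat 0, Int.ofNat 0, Int.ofNat 0, Int.ofNat 0, Int.ofNat 0, Int.ofNat 0, Int.ofNat 0, Int.ofNat 0, Int.ofNat 0, Int.ofNat 0, Int.ofNat 0, Int.ofNat 0, Int.ofNat 0, Int.ofNat 0, Int.ofNat 0, Int.ofNat 0, Int.ofNat 0, Int.ofNat 0, Int.ofNat 0, Int.ofNat 0, Int.ofNat 0, Int.ofNat 4],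
  [Int.ofNat 4, Int.ofNat 0, Int.ofNat 4, Int.ofNat 0, Int.ofNat 0, Int.ofNat 0, Int.ofNat 0, Int.ofNat 0, Int.ofNat 0, Int.ofNat 0, Int.ofNat 0, Int.ofNat 0, Int.ofNat 0, Int.ofNat 0, Int.ofNat 0, Int.ofNat 0, Int.ofNat 0, Int.ofNat 0, Int.ofNat 0, Int.ofNat 0, Int.ofNat 0, Int.ofNat 0, Int.ofNat 0, Int.ofNat 0],
  [Int.ofNat 0, Int.ofNat 0, Int.ofNat 0, Int.ofNat 0, Int.ofNat 0, Int.ofNat 0, Int.ofNat 0, Int.ofNat 0, Int.ofNat 0, Int.ofNat 0, Int.ofNat 0, Int.ofNat 0, Int.ofNat 0, Int.ofNat 0, Int.ofNat 0, Int.ofNat 0, Int.ofNat 0, Int.ofNat 0, Int.ofNat 0, Int.ofNat 0, Int.ofNat 4, Int.ofNat 0, Int.ofNat 4, Int.ofNat 0],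
  [Int.ofNat 0, Int.ofNat 0, Int.ofNat 0, Int.ofNat 0, Int.negSucc 1, Int.ofNat 0, Int.ofNat 0, Int.ofNat 0, Int.ofNat 0, Int.negSucc 1, Int.negSucc 1, Int.ofNat 0, Int.ofNat 0, Int.negSucc 1, Int.ofNat 0, Int.negSucc 1, Int.negSucc 1, Int.ofNat 0, Int.ofNat 0, Int.ofNat 0, Int.ofNat 2, Int.ofNat 0, Int.ofNat 2, Int.ofNat 0],
  [Int.ofNat 0, Int.ofNat 0, Int.negSucc 1, Int.ofNat 0, Int.ofNat 0, Int.ofNat 0, Int.ofNat 0, Int.negSucc 1, Int.ofNat 0, Int.negSucc 1, Int.ofNat 2, Int.ofNat 0, Int.negSucc 1, Int.negSucc 1, Int.ofNat 2, Int.negSucc 1, Int.ofNat 0, Int.ofNat 0, Int.ofNat 0, Int.ofNat 0, Int.ofNat 0, Int.ofNat 0, Int.ofNat 0, Int.ofNat 0],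
  [Int.negSucc 0, Int.negSucc 0, Int.ofNat 1, Int.negSucc 0, Int.ofNat 1, Int.negSucc 0, Int.ofNat 1, Int.negSucc 0, Int.ofNat 1, Int.negSucc 0, Int.ofNat 3, Int.ofNat 1, Int.negSucc 0, Int.negSucc 0, Int.ofNat 1, Int.negSucc 0, Int.ofNat 1, Int.negSucc 0, Int.ofNat 1, Int.ofNat 1, Int.ofNat 1, Int.ofNat 1, Int.ofNat 1, Int.negSucc 0],
  [Int.negSucc 0, Int.negSucc 0, Int.negSucc 0, Int.negSucc 0, Int.ofNat 1, Int.ofNat 1, Int.negSucc 0, Int.negSucc 0, Int.ofNat 1, Int.ofNat 1, Int.negSucc 2, Int.ofNat 1, Int.negSucc 0, Int.negSucc 0, Int.ofNat 1, Int.ofNat 1, Int.ofNat 1, Int.negSucc 0, Int.negSucc 0, Int.ofNat 1, Int.ofNat 1, Int.ofNat 1, Int.negSucc 0, Int.negSucc 0],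
  [Int.negSucc 2, Int.ofNat 1, Int.ofNat 1, Int.ofNat 1, Int.ofNat 1, Int.negSucc 0, Int.ofNat 1, Int.negSucc 0, Int.ofNat 1, Int.ofNat 1, Int.negSucc 0, Int.negSucc 0, Int.ofNat 1, Int.ofNat 1, Int.negSucc 0, Int.negSucc 0, Int.ofNat 1, Int.negSucc 0, Int.ofNat 1, Int.negSucc 0, Int.negSucc 0, Int.negSucc 0, Int.negSucc 0, Int.negSucc 0],
  [Int.negSucc 0, Int.negSucc 0, Int.negSucc 0, Int.negSucc 0, Int.negSucc 0, Int.ofNat 1, Int.negSucc 0, Int.ofNat 1, Int.negSucc 0, Int.negSucc 0, Int.ofNat 1, Int.ofNat 1, Int.negSucc 0, Int.negSucc 0, Int.ofNat 1, Int.ofNat 1, Int.negSucc 0, Int.ofNat 1, Int.negSucc 0, Int.ofNat 1, Int.ofNat 1, Int.ofNat 1, Int.ofNat 1, Int.negSucc 2],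
  [Int.negSucc 0, Int.negSucc 0, Int.negSucc 0, Int.negSucc 0, Int.negSucc 0, Int.ofNat 1, Int.negSucc 0, Int.ofNat 1, Int.negSucc 0, Int.negSucc 0, Int.ofNat 1, Int.ofNat 1, Int.negSucc 0, Int.negSucc 0, Int.ofNat 1, Int.ofNat 1, Int.negSucc 0, Int.ofNat 1, Int.negSucc 0, Int.ofNat 1, Int.ofNat 1, Int.ofNat 1, Int.ofNat 1, Int.negSucc 2],
  [Int.ofNat 1, Int.negSucc 0, Int.ofNat 1, Int.negSucc 0, Int.negSucc 0, Int.ofNat 1, Int.negSucc 0, Int.negSucc 0, Int.negSucc 0, Int.ofNat 1, Int.negSucc 0, Int.negSucc 0, Int.negSucc 0, Int.negSucc 0, Int.ofNat 1, Int.ofNat 1, Int.negSucc 0, Int.ofNat 1, Int.ofNat 1, Int.ofNat 1, Int.ofNat 1, Int.negSucc 0, Int.ofNat 1, Int.negSucc 2],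
  [Int.ofNat 1, Int.ofNat 1, Int.negSucc 0, Int.ofNat 1, Int.negSucc 0, Int.negSucc 0, Int.ofNat 1, Int.negSucc 0, Int.negSucc 0, Int.negSucc 0, Int.ofNat 1, Int.negSucc 0, Int.negSucc 0, Int.negSucc 0, Int.negSucc 0, Int.ofNat 1, Int.ofNat 1, Int.negSucc 0, Int.ofNat 1, Int.ofNat 1, Int.ofNat 1, Int.ofNat 1, Int.negSucc 0, Int.negSucc 2],
  [Int.negSucc 1, Int.negSucc 1, Int.ofNat 0, Int.ofNat 2, Int.ofNat 0, Int.ofNat 0, Int.ofNat 0, Int.negSucc 1, Int.ofNat 0, Int.negSucc 1, Int.ofNat 0, Int.ofNat 0, Int.ofNat 0, Int.ofNat 0, Int.ofNat 0, Int.ofNat 0, Int.ofNat 2, Int.ofNat 0, Int.ofNat 2, Int.ofNat 0, Int.ofNat 0, Int.ofNat 0, Int.ofNat 0, Int.ofNat 2],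
  [Int.ofNat 2, Int.ofNat 0, Int.ofNat 0, Int.ofNat 0, Int.negSucc 1, Int.ofNat 0, Int.negSucc 1, Int.ofNat 0, Int.ofNat 0, Int.ofNat 0, Int.ofNat 0, Int.ofNat 0, Int.ofNat 0, Int.ofNat 2, Int.ofNat 0, Int.ofNat 2, Int.ofNat 0, Int.ofNat 0, Int.ofNat 0, Int.ofNat 0, Int.negSucc 1, Int.negSucc 1, Int.ofNat 0, Int.ofNat 2],
  [Int.ofNat 0, Int.ofNat 2, Int.ofNat 2, Int.ofNat 0, Int.negSucc 1, Int.ofNat 0, Int.ofNat 0, Int.ofNat 2, Int.ofNat 0, Int.ofNat 0, Int.ofNat 0, Int.ofNat 0, Int.ofNat 0, Int.ofNat 2, Int.ofNat 0, Int.ofNat 2, Int.ofNat 0, Int.ofNat 0, Int.ofNat 0, Int.ofNat 2, Int.negSucc 1, Int.ofNat 0, Int.ofNat 0, Int.ofNat 0],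
  [Int.ofNat 0, Int.ofNat 0, Int.negSucc 1, Int.ofNat 0, Int.ofNat 0, Int.ofNat 2, Int.ofNat 2, Int.ofNat 0, Int.ofNat 0, Int.ofNat 2, Int.negSucc 1, Int.ofNat 0, Int.ofNat 0, Int.ofNat 0, Int.ofNat 0, Int.ofNat 2, Int.ofNat 0, Int.ofNat 0, Int.ofNat 2, Int.ofNat 0, Int.ofNat 0, Int.ofNat 0, Int.ofNat 2, Int.ofNat 0],
  [Int.negSucc 0, Int.negSucc 0, Int.ofNat 1, Int.negSucc 0, Int.negSucc 0, Int.ofNat 1, Int.ofNat 1, Int.negSucc 0, Int.negSucc 0, Int.ofNat 1, Int.negSucc 2, Int.negSucc 0, Int.negSucc 0, Int.negSucc 0, Int.negSucc 0, Int.ofNat 1, Int.negSucc 0, Int.negSucc 0, Int.ofNat 1, Int.negSucc 0, Int.negSucc 0, Int.negSucc 0, Int.ofNat 1, Int.negSucc 0],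
  [Int.negSucc 0, Int.negSucc 0, Int.negSucc 0, Int.negSucc 0, Int.negSucc 0, Int.negSucc 0, Int.negSucc 0, Int.negSucc 0, Int.negSucc 0, Int.negSucc 0, Int.ofNat 3, Int.negSucc 0, Int.negSucc 0, Int.negSucc 0, Int.negSucc 0, Int.negSucc 0, Int.negSucc 0, Int.negSucc 0, Int.negSucc 0, Int.negSucc 0, Int.negSucc 0, Int.negSucc 0, Int.negSucc 0, Int.negSucc 0],
  [Int.ofNat 3, Int.negSucc 0, Int.negSucc 0, Int.negSucc 0, Int.negSucc 0, Int.negSucc 0, Int.negSucc 0, Int.negSucc 0, Int.negSucc 0, Int.negSucc 0, Int.negSucc 0, Int.negSucc 0, Int.negSucc 0, Int.negSucc 0, Int.negSucc 0, Int.negSucc 0, Int.negSucc 0, Int.negSucc 0, Int.negSucc 0, Int.negSucc 0, Int.negSucc 0, Int.negSucc 0, Int.negSucc 0, Int.negSucc 0],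
  [Int.negSucc 0, Int.negSucc 0, Int.negSucc 0, Int.negSucc 0, Int.negSucc 0, Int.negSucc 0, Int.negSucc 0, Int.negSucc 0, Int.negSucc 0, Int.negSucc 0, Int.negSucc 0, Int.negSucc 0, Int.negSucc 0, Int.negSucc 0, Int.negSucc 0, Int.negSucc 0, Int.negSucc 0, Int.negSucc 0, Int.negSucc 0, Int.negSucc 0, Int.negSucc 0, Int.negSucc 0, Int.negSucc 0, Int.ofNat 3]]

set_option maxRecDepth 100000 in
theorem c2t_chk : pmChk (List.replicate 2 [0, 26]).flatten nxL c2tM 0 0 = true := by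
  decide +kernel

theorem c2t_ne : wE letE2 (List.replicate 2 [0, 26]).flatten ≠ 1 ∧ wE letE2 (List.replicate 2 [0, 26]).flatten ≠ negElt :=
  ne_pm_of_chk nxL_mem c2t_chk

set_option maxRecDepth 100000 in
def c2eteM : List (List ℤ) :=
  [[Int.ofNat 4, Int.ofNat 0, Int.ofNat 0, Int.ofNat 0, Int.ofNat 0, Int.ofNat 0, Int.ofNat 0, Int.ofNat 0, Int.ofNat 0, Int.ofNat 0, Int.ofNat 0, Int.ofNat 0, Int.ofNat 0, Int.ofNat 0, Int.ofNat 0, Int.ofNat 0, Int.ofNat 0, Int.ofNat 0, Int.ofNat 0, Int.ofNat 0, Int.ofNat 0, Int.ofNat 0, Int.ofNat 0, Int.ofNat 4],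
  [Int.ofNat 4, Int.ofNat 0, Int.ofNat 0, Int.ofNat 0, Int.ofNat 0, Int.ofNat 0, Int.ofNat 0, Int.ofNat 0, Int.ofNat 0, Int.ofNat 0, Int.ofNat 0, Int.ofNat 0, Int.ofNat 0, Int.ofNat 0, Int.ofNat 0, Int.ofNat 0, Int.ofNat 0, Int.ofNat 0, Int.ofNat 0, Int.ofNat 0, Int.ofNat 0, Int.ofNat 0, Int.ofNat 0, Int.ofNat 4],
  [Int.negSucc 3, Int.ofNat 0, Int.ofNat 0, Int.ofNat 0, Int.ofNat 0, Int.ofNat 0, Int.ofNat 0, Int.ofNat 0, Int.ofNat 0, Int.ofNat 0, Int.ofNat 0, Int.ofNat 0, Int.ofNat 0, Int.ofNat 0, Int.ofNat 0, Int.ofNat 0, Int.ofNat 0, Int.ofNat 0, Int.ofNat 0, Int.ofNat 0, Int.ofNat 0, Int.ofNat 0, Int.ofNat 0, Int.ofNat 4],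
  [Int.ofNat 0, Int.negSucc 3, Int.ofNat 0, Int.ofNat 0, Int.ofNat 0, Int.ofNat 0, Int.ofNat 0, Int.ofNat 0, Int.ofNat 0, Int.ofNat 0, Int.ofNat 0, Int.ofNat 0, Int.ofNat 0, Int.ofNat 0, Int.ofNat 0, Int.ofNat 0, Int.ofNat 0, Int.ofNat 0, Int.ofNat 0, Int.ofNat 0, Int.ofNat 0, Int.ofNat 0, Int.ofNat 0, Int.ofNat 4],
  [Int.ofNat 0, Int.ofNat 4, Int.ofNat 0, Int.ofNat 0, Int.ofNat 0, Int.ofNat 0, Int.ofNat 0, Int.ofNat 0, Int.ofNat 0, Int.ofNat 0, Int.ofNat 0, Int.ofNat 0, Int.ofNat 0, Int.ofNat 0, Int.ofNat 0, Int.ofNat 0, Int.ofNat 0, Int.ofNat 0, Int.ofNat 0, Int.ofNat 0, Int.ofNat 0, Int.ofNat 0, Int.ofNat 0, Int.negSucc 3],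
  [Int.ofNat 0, Int.ofNat 0, Int.ofNat 0, Int.ofNat 0, Int.ofNat 0, Int.ofNat 0, Int.ofNat 0, Int.ofNat 0, Int.ofNat 0, Int.ofNat 0, Int.ofNat 0, Int.ofNat 0, Int.ofNat 0, Int.ofNat 0, Int.ofNat 0, Int.ofNat 0, Int.ofNat 0, Int.ofNat 0, Int.ofNat 0, Int.ofNat 0, Int.ofNat 0, Int.ofNat 4, Int.ofNat 0, Int.negSucc 3],
  [Int.negSucc 1, Int.negSucc 1, Int.negSucc 1, Int.ofNat 0, Int.ofNat 0, Int.ofNat 0, Int.negSucc 1, Int.negSucc 1, Int.ofNat 0, Int.ofNat 0, Int.ofNat 0, Int.ofNat 0, Int.ofNat 0, Int.ofNat 0, Int.ofNat 0, Int.ofNat 0, Int.ofNat 0, Int.ofNat 0, Int.ofNat 0, Int.negSucc 1, Int.ofNat 0, Int.ofNat 2, Int.ofNat 0, Int.ofNat 2],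
  [Int.negSucc 1, Int.negSucc 1, Int.ofNat 0, Int.ofNat 0, Int.ofNat 0, Int.negSucc 1, Int.negSucc 1, Int.ofNat 0, Int.ofNat 0, Int.ofNat 0, Int.ofNat 0, Int.ofNat 0, Int.ofNat 0, Int.ofNat 0, Int.ofNat 0, Int.ofNat 0, Int.ofNat 0, Int.ofNat 0, Int.negSucc 1, Int.ofNat 0, Int.ofNat 2, Int.ofNat 0, Int.negSucc 1, Int.ofNat 2],
  [Int.ofNat 1, Int.ofNat 1, Int.negSucc 0, Int.ofNat 1, Int.ofNat 1, Int.negSucc 0, Int.negSucc 0, Int.ofNat 1, Int.ofNat 1, Int.negSucc 0, Int.negSucc 0, Int.ofNat 1, Int.ofNat 1, Int.ofNat 1, Int.ofNat 1, Int.negSucc 0, Int.ofNat 1, Int.ofNat 1, Int.negSucc 0, Int.ofNat 1, Int.ofNat 1, Int.ofNat 1, Int.negSucc 0, Int.negSucc 2],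
  [Int.ofNat 1, Int.ofNat 1, Int.ofNat 1, Int.ofNat 1, Int.ofNat 1, Int.ofNat 1, Int.ofNat 1, Int.ofNat 1, Int.ofNat 1, Int.ofNat 1, Int.ofNat 1, Int.ofNat 1, Int.ofNat 1, Int.ofNat 1, Int.ofNat 1, Int.ofNat 1, Int.ofNat 1, Int.ofNat 1, Int.ofNat 1, Int.ofNat 1, Int.ofNat 1, Int.ofNat 1, Int.ofNat 1, Int.negSucc 2],
  [Int.ofNat 1, Int.ofNat 1, Int.ofNat 1, Int.ofNat 1, Int.ofNat 1, Int.ofNat 1, Int.ofNat 1, Int.ofNat 1, Int.ofNat 1, Int.ofNat 1, Int.ofNat 1, Int.ofNat 1, Int.ofNat 1, Int.ofNat 1, Int.ofNat 1, Int.ofNat 1, Int.ofNat 1, Int.ofNat 1, Int.ofNat 1, Int.ofNat 1, Int.ofNat 1, Int.ofNat 1, Int.ofNat 1, Int.negSucc 2],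
  [Int.negSucc 0, Int.negSucc 0, Int.negSucc 0, Int.negSucc 0, Int.negSucc 0, Int.ofNat 1, Int.negSucc 0, Int.ofNat 1, Int.negSucc 0, Int.negSucc 0, Int.ofNat 1, Int.ofNat 1, Int.negSucc 0, Int.negSucc 0, Int.ofNat 1, Int.ofNat 1, Int.negSucc 0, Int.ofNat 1, Int.negSucc 0, Int.ofNat 1, Int.ofNat 1, Int.ofNat 1, Int.ofNat 1, Int.negSucc 2],
  [Int.negSucc 2, Int.ofNat 1, Int.ofNat 1, Int.ofNat 1, Int.ofNat 1, Int.negSucc 0, Int.ofNat 1, Int.negSucc 0, Int.ofNat 1, Int.ofNat 1, Int.negSucc 0, Int.negSucc 0, Int.ofNat 1, Int.ofNat 1, Int.negSucc 0, Int.negSucc 0, Int.ofNat 1, Int.negSucc 0, Int.ofNat 1, Int.negSucc 0, Int.negSucc 0, Int.negSucc 0, Int.negSucc 0, Int.negSucc 0],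
  [Int.ofNat 3, Int.negSucc 0, Int.negSucc 0, Int.negSucc 0, Int.negSucc 0, Int.negSucc 0, Int.negSucc 0, Int.negSucc 0, Int.negSucc 0, Int.negSucc 0, Int.negSucc 0, Int.negSucc 0, Int.negSucc 0, Int.negSucc 0, Int.negSucc 0, Int.negSucc 0, Int.negSucc 0, Int.negSucc 0, Int.negSucc 0, Int.negSucc 0, Int.negSucc 0, Int.negSucc 0, Int.negSucc 0, Int.negSucc 0],
  [Int.ofNat 3, Int.negSucc 0, Int.negSucc 0, Int.negSucc 0, Int.negSucc 0, Int.negSucc 0, Int.negSucc 0, Int.negSucc 0, Int.negSucc 0, Int.negSucc 0, Int.negSucc 0, Int.negSucc 0, Int.negSucc 0, Int.negSucc 0, Int.negSucc 0, Int.negSucc 0, Int.negSucc 0, Int.negSucc 0, Int.negSucc 0, Int.negSucc 0, Int.negSucc 0, Int.negSucc 0, Int.negSucc 0, Int.negSucc 0],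
  [Int.negSucc 2, Int.negSucc 0, Int.ofNat 1, Int.negSucc 0, Int.negSucc 0, Int.negSucc 0, Int.negSucc 0, Int.ofNat 1, Int.negSucc 0, Int.ofNat 1, Int.ofNat 1, Int.ofNat 1, Int.negSucc 0, Int.negSucc 0, Int.negSucc 0, Int.negSucc 0, Int.negSucc 0, Int.negSucc 0, Int.ofNat 1, Int.negSucc 0, Int.negSucc 0, Int.ofNat 1, Int.negSucc 0, Int.negSucc 0],
  [Int.negSucc 0, Int.negSucc 2, Int.negSucc 0, Int.ofNat 1, Int.negSucc 0, Int.negSucc 0, Int.negSucc 0, Int.negSucc 0, Int.ofNat 1, Int.negSucc 0, Int.ofNat 1, Int.ofNat 1, Int.ofNat 1, Int.negSucc 0, Int.negSucc 0, Int.negSucc 0, Int.negSucc 0, Int.negSucc 0, Int.negSucc 0, Int.ofNat 1, Int.negSucc 0, Int.negSucc 0, Int.ofNat 1, Int.negSucc 0],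
  [Int.negSucc 1, Int.ofNat 0, Int.negSucc 1, Int.ofNat 2, Int.ofNat 0, Int.ofNat 0, Int.ofNat 0, Int.ofNat 0, Int.ofNat 0, Int.ofNat 0, Int.ofNat 2, Int.ofNat 0, Int.ofNat 0, Int.ofNat 0, Int.ofNat 0, Int.ofNat 0, Int.ofNat 0, Int.ofNat 0, Int.negSucc 1, Int.ofNat 2, Int.ofNat 0, Int.ofNat 0, Int.ofNat 2, Int.negSucc 1],
  [Int.ofNat 2, Int.ofNat 0, Int.ofNat 0, Int.ofNat 0, Int.ofNat 0, Int.ofNat 0, Int.ofNat 0, Int.ofNat 2, Int.ofNat 0, Int.ofNat 0, Int.ofNat 0, Int.ofNat 0, Int.ofNat 0, Int.ofNat 0, Int.ofNat 0, Int.negSucc 1, Int.ofNat 2, Int.ofNat 0, Int.ofNat 0, Int.ofNat 2, Int.negSucc 1, Int.ofNat 0, Int.negSucc 1, Int.negSucc 1],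
  [Int.negSucc 1, Int.ofNat 0, Int.ofNat 0, Int.ofNat 0, Int.ofNat 0, Int.ofNat 0, Int.negSucc 1, Int.ofNat 0, Int.ofNat 0, Int.ofNat 2, Int.ofNat 2, Int.ofNat 0, Int.ofNat 0, Int.ofNat 0, Int.ofNat 0, Int.ofNat 0, Int.ofNat 2, Int.ofNat 0, Int.ofNat 0, Int.ofNat 0, Int.ofNat 0, Int.negSucc 1, Int.negSucc 1, Int.ofNat 2],
  [Int.negSucc 1, Int.negSucc 1, Int.ofNat 0, Int.ofNat 0, Int.ofNat 0, Int.ofNat 0, Int.ofNat 0, Int.ofNat 2, Int.ofNat 0, Int.ofNat 0, Int.ofNat 0, Int.ofNat 0, Int.ofNat 2, Int.ofNat 2, Int.negSucc 1, Int.ofNat 0, Int.ofNat 0, Int.ofNat 0, Int.ofNat 0, Int.ofNat 0, Int.negSucc 1, Int.ofNat 0, Int.ofNat 0, Int.ofNat 2],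
  [Int.ofNat 1, Int.ofNat 1, Int.negSucc 0, Int.ofNat 1, Int.negSucc 0, Int.ofNat 1, Int.negSucc 0, Int.ofNat 1, Int.negSucc 0, Int.ofNat 1, Int.ofNat 1, Int.negSucc 0, Int.ofNat 1, Int.ofNat 1, Int.negSucc 0, Int.ofNat 1, Int.negSucc 0, Int.ofNat 1, Int.negSucc 0, Int.negSucc 0, Int.negSucc 0, Int.negSucc 0, Int.negSucc 0, Int.negSucc 2],
  [Int.ofNat 1, Int.ofNat 1, Int.ofNat 1, Int.ofNat 1, Int.negSucc 0, Int.negSucc 0, Int.ofNat 1, Int.ofNat 1, Int.negSucc 0, Int.negSucc 0, Int.negSucc 0, Int.negSucc 0, Int.ofNat 1, Int.ofNat 1, Int.negSucc 0, Int.negSucc 0, Int.negSucc 0, Int.ofNat 1, Int.ofNat 1, Int.negSucc 0, Int.negSucc 0, Int.negSucc 0, Int.ofNat 1, Int.negSucc 2],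
  [Int.negSucc 0, Int.negSucc 0, Int.negSucc 0, Int.negSucc 0, Int.negSucc 0, Int.ofNat 1, Int.negSucc 0, Int.ofNat 1, Int.negSucc 0, Int.negSucc 0, Int.ofNat 1, Int.ofNat 1, Int.negSucc 0, Int.negSucc 0, Int.ofNat 1, Int.ofNat 1, Int.negSucc 0, Int.ofNat 1, Int.negSucc 0, Int.ofNat 1, Int.ofNat 1, Int.ofNat 1, Int.ofNat 1, Int.negSucc 2],
  [Int.ofNat 1, Int.ofNat 1, Int.ofNat 1, Int.ofNat 1, Int.ofNat 1, Int.ofNat 1, Int.ofNat 1, Int.ofNat 1, Int.ofNat 1, Int.ofNat 1, Int.ofNat 1, Int.ofNat 1, Int.ofNat 1, Int.ofNat 1, Int.ofNat 1, Int.ofNat 1, Int.ofNat 1, Int.ofNat 1, Int.ofNat 1, Int.ofNat 1, Int.ofNat 1, Int.ofNat 1, Int.ofNat 1, Int.negSucc 2],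
  [Int.negSucc 2, Int.ofNat 1, Int.ofNat 1, Int.ofNat 1, Int.ofNat 1, Int.ofNat 1, Int.ofNat 1, Int.ofNat 1, Int.ofNat 1, Int.ofNat 1, Int.ofNat 1, Int.ofNat 1, Int.ofNat 1, Int.ofNat 1, Int.ofNat 1, Int.ofNat 1, Int.ofNat 1, Int.ofNat 1, Int.ofNat 1, Int.ofNat 1, Int.ofNat 1, Int.ofNat 1, Int.ofNat 1, Int.ofNat 1]]

set_option maxRecDepth 100000 in
theorem c2ete_chk : pmChk (List.replicate 2 [0, 25, 26, 25]).flatten nxL c2eteM 0 0 = true := by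
  decide +kernel

theorem c2ete_ne : wE letE2 (List.replicate 2 [0, 25, 26, 25]).flatten ≠ 1 ∧ wE letE2 (List.replicate 2 [0, 25, 26, 25]).flatten ≠ negElt :=
  ne_pm_of_chk nxL_mem c2ete_chk

set_option maxRecDepth 100000 in
def c3teM : List (List ℤ) :=
  [[Int.ofNat 4, Int.ofNat 0, Int.ofNat 0, Int.ofNat 0, Int.ofNat 0, Int.ofNat 0, Int.ofNat 0, Int.ofNat 0, Int.ofNat 0, Int.ofNat 0, Int.ofNat 0, Int.ofNat 0, Int.ofNat 0, Int.ofNat 0, Int.ofNat 0, Int.ofNat 0, Int.ofNat 0, Int.ofNat 0, Int.ofNat 0, Int.ofNat 0, Int.ofNat 0, Int.ofNat 0, Int.ofNat 0, Int.ofNat 4],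
  [Int.ofNat 4, Int.ofNat 0, Int.ofNat 0, Int.ofNat 0, Int.ofNat 0, Int.ofNat 0, Int.ofNat 0, Int.ofNat 0, Int.ofNat 0, Int.ofNat 0, Int.ofNat 0, Int.ofNat 0, Int.ofNat 0, Int.ofNat 0, Int.ofNat 0, Int.ofNat 0, Int.ofNat 0, Int.ofNat 0, Int.ofNat 0, Int.ofNat 0, Int.ofNat 0, Int.ofNat 0, Int.ofNat 0, Int.ofNat 4],
  [Int.negSucc 3, Int.ofNat 0, Int.ofNat 0, Int.ofNat 0, Int.ofNat 0, Int.ofNat 0, Int.ofNat 0, Int.ofNat 0, Int.ofNat 0, Int.ofNat 0, Int.ofNat 0, Int.ofNat 0, Int.ofNat 0, Int.ofNat 0, Int.ofNat 0, Int.ofNat 0, Int.ofNat 0, Int.ofNat 0, Int.ofNat 0, Int.ofNat 0, Int.ofNat 0, Int.ofNat 0, Int.ofNat 0, Int.ofNat 4],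
  [Int.ofNat 0, Int.negSucc 3, Int.ofNat 0, Int.ofNat 0, Int.ofNat 0, Int.ofNat 0, Int.ofNat 0, Int.ofNat 0, Int.ofNat 0, Int.ofNat 0, Int.ofNat 0, Int.ofNat 0, Int.ofNat 0, Int.ofNat 0, Int.ofNat 0, Int.ofNat 0, Int.ofNat 0, Int.ofNat 0, Int.ofNat 0, Int.ofNat 0, Int.ofNat 0, Int.ofNat 0, Int.ofNat 0, Int.ofNat 4],
  [Int.ofNat 0, Int.ofNat 4, Int.ofNat 0, Int.ofNat 0, Int.ofNat 0, Int.ofNat 0, Int.ofNat 0, Int.ofNat 0, Int.ofNat 0, Int.ofNat 0, Int.ofNat 0, Int.ofNat 0, Int.ofNat 0, Int.ofNat 0, Int.ofNat 0, Int.ofNat 0, Int.ofNat 0, Int.ofNat 0, Int.ofNat 0, Int.ofNat 0, Int.ofNat 0, Int.ofNat 0, Int.ofNat 0, Int.negSucc 3],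
  [Int.ofNat 0, Int.ofNat 0, Int.ofNat 0, Int.ofNat 0, Int.ofNat 0, Int.ofNat 0, Int.ofNat 0, Int.ofNat 0, Int.ofNat 0, Int.ofNat 0, Int.ofNat 0, Int.ofNat 0, Int.ofNat 0, Int.ofNat 0, Int.ofNat 0, Int.ofNat 0, Int.ofNat 0, Int.ofNat 0, Int.ofNat 0, Int.ofNat 0, Int.ofNat 0, Int.ofNat 4, Int.ofNat 0, Int.negSucc 3],
  [Int.negSucc 1, Int.negSucc 1, Int.negSucc 1, Int.ofNat 0, Int.ofNat 0, Int.ofNat 0, Int.negSucc 1, Int.negSucc 1, Int.ofNat 0, Int.ofNat 0, Int.ofNat 0, Int.ofNat 0, Int.ofNat 0, Int.ofNat 0, Int.ofNat 0, Int.ofNat 0, Int.ofNat 0, Int.ofNat 0, Int.ofNat 0, Int.negSucc 1, Int.ofNat 0, Int.ofNat 2, Int.ofNat 0, Int.ofNat 2],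
  [Int.negSucc 1, Int.negSucc 1, Int.ofNat 0, Int.ofNat 0, Int.ofNat 0, Int.negSucc 1, Int.negSucc 1, Int.ofNat 0, Int.ofNat 0, Int.ofNat 0, Int.ofNat 0, Int.ofNat 0, Int.ofNat 0, Int.ofNat 0, Int.ofNat 0, Int.ofNat 0, Int.ofNat 0, Int.ofNat 0, Int.negSucc 1, Int.ofNat 0, Int.ofNat 2, Int.ofNat 0, Int.negSucc 1, Int.ofNat 2],
  [Int.ofNat 1, Int.ofNat 1, Int.negSucc 0, Int.ofNat 1, Int.ofNat 1, Int.negSucc 0, Int.negSucc 0, Int.ofNat 1, Int.ofNat 1, Int.negSucc 0, Int.negSucc 0, Int.ofNat 1, Int.ofNat 1, Int.ofNat 1, Int.ofNat 1, Int.negSucc 0, Int.ofNat 1, Int.ofNat 1, Int.negSucc 0, Int.ofNat 1, Int.ofNat 1, Int.ofNat 1, Int.negSucc 0, Int.negSucc 2],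
  [Int.ofNat 1, Int.ofNat 1, Int.ofNat 1, Int.ofNat 1, Int.ofNat 1, Int.ofNat 1, Int.ofNat 1, Int.ofNat 1, Int.ofNat 1, Int.ofNat 1, Int.ofNat 1, Int.ofNat 1, Int.ofNat 1, Int.ofNat 1, Int.ofNat 1, Int.ofNat 1, Int.ofNat 1, Int.ofNat 1, Int.ofNat 1, Int.ofNat 1, Int.ofNat 1, Int.ofNat 1, Int.ofNat 1, Int.negSucc 2],
  [Int.ofNat 1, Int.ofNat 1, Int.ofNat 1, Int.ofNat 1, Int.ofNat 1, Int.ofNat 1, Int.ofNat 1, Int.ofNat 1, Int.ofNat 1, Int.ofNat 1, Int.ofNat 1, Int.ofNat 1, Int.ofNat 1, Int.ofNat 1, Int.ofNat 1, Int.ofNat 1, Int.ofNat 1, Int.ofNat 1, Int.ofNat 1, Int.ofNat 1, Int.ofNat 1, Int.ofNat 1, Int.ofNat 1, Int.negSucc 2],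
  [Int.negSucc 0, Int.negSucc 0, Int.negSucc 0, Int.negSucc 0, Int.negSucc 0, Int.ofNat 1, Int.negSucc 0, Int.ofNat 1, Int.negSucc 0, Int.negSucc 0, Int.ofNat 1, Int.ofNat 1, Int.negSucc 0, Int.negSucc 0, Int.ofNat 1, Int.ofNat 1, Int.negSucc 0, Int.ofNat 1, Int.negSucc 0, Int.ofNat 1, Int.ofNat 1, Int.ofNat 1, Int.ofNat 1, Int.negSucc 2],
  [Int.negSucc 0, Int.negSucc 0, Int.negSucc 0, Int.negSucc 0, Int.negSucc 0, Int.ofNat 1, Int.negSucc 0, Int.ofNat 1, Int.negSucc 0, Int.negSucc 0, Int.ofNat 1, Int.ofNat 1, Int.negSucc 0, Int.negSucc 0, Int.ofNat 1, Int.ofNat 1, Int.negSucc 0, Int.ofNat 1, Int.negSucc 0, Int.ofNat 1, Int.ofNat 1, Int.ofNat 1, Int.ofNat 1, Int.negSucc 2],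
  [Int.ofNat 1, Int.negSucc 0, Int.ofNat 1, Int.negSucc 0, Int.negSucc 0, Int.ofNat 1, Int.negSucc 0, Int.negSucc 0, Int.negSucc 0, Int.ofNat 1, Int.negSucc 0, Int.negSucc 0, Int.negSucc 0, Int.negSucc 0, Int.ofNat 1, Int.ofNat 1, Int.negSucc 0, Int.ofNat 1, Int.ofNat 1, Int.ofNat 1, Int.ofNat 1, Int.negSucc 0, Int.ofNat 1, Int.negSucc 2],
  [Int.ofNat 1, Int.ofNat 1, Int.negSucc 0, Int.ofNat 1, Int.negSucc 0, Int.negSucc 0, Int.ofNat 1, Int.negSucc 0, Int.negSucc 0, Int.negSucc 0, Int.ofNat 1, Int.negSucc 0, Int.negSucc 0, Int.negSucc 0, Int.negSucc 0, Int.ofNat 1, Int.ofNat 1, Int.negSucc 0, Int.ofNat 1, Int.ofNat 1, Int.ofNat 1, Int.ofNat 1, Int.negSucc 0, Int.negSucc 2],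
  [Int.negSucc 1, Int.negSucc 1, Int.ofNat 0, Int.ofNat 2, Int.ofNat 0, Int.ofNat 0, Int.ofNat 0, Int.negSucc 1, Int.ofNat 0, Int.negSucc 1, Int.ofNat 0, Int.ofNat 0, Int.ofNat 0, Int.ofNat 0, Int.ofNat 0, Int.ofNat 0, Int.ofNat 2, Int.ofNat 0, Int.ofNat 2, Int.ofNat 0, Int.ofNat 0, Int.ofNat 0, Int.ofNat 0, Int.ofNat 2],
  [Int.ofNat 2, Int.ofNat 0, Int.ofNat 0, Int.ofNat 0, Int.negSucc 1, Int.ofNat 0, Int.negSucc 1, Int.ofNat 0, Int.ofNat 0, Int.ofNat 0, Int.ofNat 0, Int.ofNat 0, Int.ofNat 0, Int.ofNat 2, Int.ofNat 0, Int.ofNat 2, Int.ofNat 0, Int.ofNat 0, Int.ofNat 0, Int.ofNat 0, Int.negSucc 1, Int.negSucc 1, Int.ofNat 0, Int.ofNat 2],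
  [Int.ofNat 0, Int.ofNat 2, Int.ofNat 2, Int.ofNat 0, Int.negSucc 1, Int.ofNat 0, Int.ofNat 0, Int.ofNat 2, Int.ofNat 0, Int.ofNat 0, Int.ofNat 0, Int.ofNat 0, Int.ofNat 0, Int.ofNat 2, Int.ofNat 0, Int.ofNat 2, Int.ofNat 0, Int.ofNat 0, Int.ofNat 0, Int.ofNat 2, Int.negSucc 1, Int.ofNat 0, Int.ofNat 0, Int.ofNat 0],
  [Int.ofNat 0, Int.ofNat 0, Int.negSucc 1, Int.ofNat 0, Int.ofNat 0, Int.ofNat 2, Int.ofNat 2, Int.ofNat 0, Int.ofNat 0, Int.ofNat 2, Int.negSucc 1, Int.ofNat 0, Int.ofNat 0, Int.ofNat 0, Int.ofNat 0, Int.ofNat 2, Int.ofNat 0, Int.ofNat 0, Int.ofNat 2, Int.ofNat 0, Int.ofNat 0, Int.ofNat 0, Int.ofNat 2, Int.ofNat 0],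
  [Int.negSucc 0, Int.negSucc 0, Int.ofNat 1, Int.negSucc 0, Int.negSucc 0, Int.ofNat 1, Int.ofNat 1, Int.negSucc 0, Int.negSucc 0, Int.ofNat 1, Int.negSucc 2, Int.negSucc 0, Int.negSucc 0, Int.negSucc 0, Int.negSucc 0, Int.ofNat 1, Int.negSucc 0, Int.negSucc 0, Int.ofNat 1, Int.negSucc 0, Int.negSucc 0, Int.negSucc 0, Int.ofNat 1, Int.negSucc 0],
  [Int.negSucc 0, Int.negSucc 0, Int.negSucc 0, Int.negSucc 0, Int.negSucc 0, Int.negSucc 0, Int.negSucc 0, Int.negSucc 0, Int.negSucc 0, Int.negSucc 0, Int.ofNat 3, Int.negSucc 0, Int.negSucc 0, Int.negSucc 0, Int.negSucc 0, Int.negSucc 0, Int.negSucc 0, Int.negSucc 0, Int.negSucc 0, Int.negSucc 0, Int.negSucc 0, Int.negSucc 0, Int.negSucc 0, Int.negSucc 0],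
  [Int.ofNat 3, Int.negSucc 0, Int.negSucc 0, Int.negSucc 0, Int.negSucc 0, Int.negSucc 0, Int.negSucc 0, Int.negSucc 0, Int.negSucc 0, Int.negSucc 0, Int.negSucc 0, Int.negSucc 0, Int.negSucc 0, Int.negSucc 0, Int.negSucc 0, Int.negSucc 0, Int.negSucc 0, Int.negSucc 0, Int.negSucc 0, Int.negSucc 0, Int.negSucc 0, Int.negSucc 0, Int.negSucc 0, Int.negSucc 0],
  [Int.negSucc 2, Int.ofNat 1, Int.ofNat 1, Int.ofNat 1, Int.ofNat 1, Int.negSucc 0, Int.ofNat 1, Int.negSucc 0, Int.ofNat 1, Int.ofNat 1, Int.negSucc 0, Int.negSucc 0, Int.ofNat 1, Int.ofNat 1, Int.negSucc 0, Int.negSucc 0, Int.ofNat 1, Int.negSucc 0, Int.ofNat 1, Int.negSucc 0, Int.negSucc 0, Int.negSucc 0, Int.negSucc 0, Int.negSucc 0],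
  [Int.negSucc 2, Int.ofNat 1, Int.ofNat 1, Int.ofNat 1, Int.ofNat 1, Int.negSucc 0, Int.ofNat 1, Int.negSucc 0, Int.ofNat 1, Int.ofNat 1, Int.negSucc 0, Int.negSucc 0, Int.ofNat 1, Int.ofNat 1, Int.negSucc 0, Int.negSucc 0, Int.ofNat 1, Int.negSucc 0, Int.ofNat 1, Int.negSucc 0, Int.negSucc 0, Int.negSucc 0, Int.negSucc 0, Int.negSucc 0],
  [Int.ofNat 3, Int.ofNat 1, Int.negSucc 0, Int.ofNat 1, Int.ofNat 1, Int.negSucc 0, Int.ofNat 1, Int.ofNat 1, Int.ofNat 1, Int.negSucc 0, Int.ofNat 1, Int.ofNat 1, Int.ofNat 1, Int.ofNat 1, Int.negSucc 0, Int.negSucc 0, Int.ofNat 1, Int.negSucc 0, Int.negSucc 0, Int.negSucc 0, Int.negSucc 0, Int.ofNat 1, Int.negSucc 0, Int.negSucc 0],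
  [Int.negSucc 0, Int.ofNat 3, Int.ofNat 1, Int.negSucc 0, Int.ofNat 1, Int.ofNat 1, Int.negSucc 0, Int.ofNat 1, Int.ofNat 1, Int.ofNat 1, Int.negSucc 0, Int.ofNat 1, Int.ofNat 1, Int.ofNat 1, Int.ofNat 1, Int.negSucc 0, Int.negSucc 0, Int.ofNat 1, Int.negSucc 0, Int.negSucc 0, Int.negSucc 0, Int.negSucc 0, Int.ofNat 1, Int.negSucc 0],
  [Int.ofNat 2, Int.negSucc 1, Int.ofNat 0, Int.negSucc 1, Int.ofNat 0, Int.ofNat 0, Int.ofNat 0, Int.ofNat 2, Int.ofNat 0, Int.ofNat 2, Int.ofNat 0, Int.ofNat 0, Int.ofNat 0, Int.ofNat 0, Int.ofNat 0, Int.ofNat 0, Int.negSucc 1, Int.ofNat 0, Int.negSucc 1, Int.ofNat 0, Int.ofNat 0, Int.ofNat 0, Int.ofNat 0, Int.ofNat 2],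
  [Int.negSucc 1, Int.ofNat 0, Int.ofNat 0, Int.ofNat 0, Int.ofNat 2, Int.ofNat 0, Int.ofNat 2, Int.ofNat 0, Int.ofNat 0, Int.ofNat 0, Int.ofNat 0, Int.ofNat 0, Int.ofNat 0, Int.negSucc 1, Int.ofNat 0, Int.negSucc 1, Int.ofNat 0, Int.ofNat 0, Int.ofNat 0, Int.ofNat 0, Int.ofNat 2, Int.negSucc 1, Int.ofNat 0, Int.ofNat 2],
  [Int.ofNat 2, Int.ofNat 0, Int.ofNat 0, Int.ofNat 0, Int.ofNat 2, Int.ofNat 0, Int.ofNat 2, Int.ofNat 0, Int.ofNat 0, Int.ofNat 0, Int.ofNat 0, Int.ofNat 0, Int.ofNat 0, Int.negSucc 1, Int.ofNat 0, Int.negSucc 1, Int.ofNat 0, Int.ofNat 0, Int.ofNat 0, Int.ofNat 0, Int.ofNat 2, Int.negSucc 1, Int.ofNat 0, Int.negSucc 1],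
  [Int.ofNat 2, Int.ofNat 2, Int.ofNat 2, Int.ofNat 0, Int.ofNat 0, Int.ofNat 0, Int.ofNat 0, Int.ofNat 0, Int.ofNat 0, Int.negSucc 1, Int.ofNat 2, Int.ofNat 0, Int.ofNat 0, Int.ofNat 0, Int.ofNat 0, Int.negSucc 1, Int.ofNat 0, Int.ofNat 0, Int.ofNat 0, Int.ofNat 0, Int.negSucc 1, Int.ofNat 0, Int.ofNat 0, Int.negSucc 1],
  [Int.ofNat 0, Int.ofNat 0, Int.ofNat 0, Int.ofNat 0, Int.ofNat 0, Int.ofNat 0, Int.ofNat 0, Int.ofNat 0, Int.ofNat 0, Int.ofNat 0, Int.ofNat 4, Int.ofNat 0, Int.ofNat 0, Int.ofNat 0, Int.ofNat 0, Int.ofNat 0, Int.ofNat 0, Int.ofNat 0, Int.ofNat 0, Int.ofNat 0, Int.ofNat 0, Int.ofNat 0, Int.ofNat 0, Int.ofNat 4],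
  [Int.ofNat 0, Int.ofNat 0, Int.ofNat 0, Int.ofNat 0, Int.ofNat 0, Int.ofNat 0, Int.ofNat 0, Int.ofNat 0, Int.ofNat 0, Int.ofNat 0, Int.negSucc 3, Int.ofNat 0, Int.ofNat 0, Int.ofNat 0, Int.ofNat 0, Int.ofNat 0, Int.ofNat 0, Int.ofNat 0, Int.ofNat 0, Int.ofNat 0, Int.ofNat 0, Int.ofNat 0, Int.ofNat 0, Int.ofNat 4],
  [Int.negSucc 3, Int.ofNat 0, Int.ofNat 0, Int.ofNat 0, Int.ofNat 0, Int.ofNat 0, Int.ofNat 0, Int.ofNat 0, Int.ofNat 0, Int.ofNat 0, Int.ofNat 0, Int.ofNat 0, Int.ofNat 0, Int.ofNat 0, Int.ofNat 0, Int.ofNat 0, Int.ofNat 0, Int.ofNat 0, Int.ofNat 0, Int.ofNat 0, Int.ofNat 0, Int.ofNat 0, Int.ofNat 0, Int.ofNat 4],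
  [Int.ofNat 4, Int.ofNat 0, Int.ofNat 0, Int.ofNat 0, Int.ofNat 0, Int.ofNat 0, Int.ofNat 0, Int.ofNat 0, Int.ofNat 0, Int.ofNat 0, Int.ofNat 0, Int.ofNat 0, Int.ofNat 0, Int.ofNat 0, Int.ofNat 0, Int.ofNat 0, Int.ofNat 0, Int.ofNat 0, Int.ofNat 0, Int.ofNat 0, Int.ofNat 0, Int.ofNat 0, Int.ofNat 0, Int.ofNat 4],
  [Int.ofNat 4, Int.ofNat 0, Int.ofNat 0, Int.ofNat 0, Int.ofNat 0, Int.ofNat 0, Int.ofNat 0, Int.ofNat 0, Int.ofNat 0, Int.ofNat 0, Int.ofNat 0, Int.ofNat 0, Int.ofNat 0, Int.ofNat 0, Int.ofNat 0, Int.ofNat 0, Int.ofNat 0, Int.ofNat 0, Int.ofNat 0, Int.ofNat 0, Int.ofNat 0, Int.ofNat 0, Int.ofNat 0, Int.ofNat 4],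
  [Int.negSucc 3, Int.ofNat 0, Int.ofNat 0, Int.ofNat 0, Int.ofNat 0, Int.ofNat 0, Int.ofNat 0, Int.ofNat 0, Int.ofNat 0, Int.ofNat 0, Int.ofNat 0, Int.ofNat 0, Int.ofNat 0, Int.ofNat 0, Int.ofNat 0, Int.ofNat 0, Int.ofNat 0, Int.ofNat 0, Int.ofNat 0, Int.ofNat 0, Int.ofNat 0, Int.ofNat 0, Int.ofNat 0, Int.ofNat 4],
  [Int.ofNat 0, Int.negSucc 3, Int.ofNat 0, Int.ofNat 0, Int.ofNat 0, Int.ofNat 0, Int.ofNat 0, Int.ofNat 0, Int.ofNat 0, Int.ofNat 0, Int.ofNat 0, Int.ofNat 0, Int.ofNat 0, Int.ofNat 0, Int.ofNat 0, Int.ofNat 0, Int.ofNat 0, Int.ofNat 0, Int.ofNat 0, Int.ofNat 0, Int.ofNat 0, Int.ofNat 0, Int.ofNat 0, Int.ofNat 4],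
  [Int.ofNat 0, Int.ofNat 4, Int.ofNat 0, Int.ofNat 0, Int.ofNat 0, Int.ofNat 0, Int.ofNat 0, Int.ofNat 0, Int.ofNat 0, Int.ofNat 0, Int.ofNat 0, Int.ofNat 0, Int.ofNat 0, Int.ofNat 0, Int.ofNat 0, Int.ofNat 0, Int.ofNat 0, Int.ofNat 0, Int.ofNat 0, Int.ofNat 0, Int.ofNat 0, Int.ofNat 0, Int.ofNat 0, Int.negSucc 3],
  [Int.ofNat 0, Int.ofNat 0, Int.ofNat 0, Int.ofNat 0, Int.ofNat 0, Int.ofNat 0, Int.ofNat 0, Int.ofNat 0, Int.ofNat 0, Int.ofNat 0, Int.ofNat 0, Int.ofNat 0, Int.ofNat 0, Int.ofNat 0, Int.ofNat 0, Int.ofNat 0, Int.ofNat 0, Int.ofNat 0, Int.ofNat 0, Int.ofNat 0, Int.ofNat 0, Int.ofNat 4, Int.ofNat 0, Int.negSucc 3],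
  [Int.negSucc 1, Int.negSucc 1, Int.negSucc 1, Int.ofNat 0, Int.ofNat 0, Int.ofNat 0, Int.negSucc 1, Int.negSucc 1, Int.ofNat 0, Int.ofNat 0, Int.ofNat 0, Int.ofNat 0, Int.ofNat 0, Int.ofNat 0, Int.ofNat 0, Int.ofNat 0, Int.ofNat 0, Int.ofNat 0, Int.ofNat 0, Int.negSucc 1, Int.ofNat 0, Int.ofNat 2, Int.ofNat 0, Int.ofNat 2],
  [Int.negSucc 1, Int.negSucc 1, Int.ofNat 0, Int.ofNat 0, Int.ofNat 0, Int.negSucc 1, Int.negSucc 1, Int.ofNat 0, Int.ofNat 0, Int.ofNat 0, Int.ofNat 0, Int.ofNat 0, Int.ofNat 0, Int.ofNat 0, Int.ofNat 0, Int.ofNat 0, Int.ofNat 0, Int.ofNat 0, Int.negSucc 1, Int.ofNat 0, Int.ofNat 2, Int.ofNat 0, Int.negSucc 1, Int.ofNat 2],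
  [Int.ofNat 1, Int.ofNat 1, Int.negSucc 0, Int.ofNat 1, Int.ofNat 1, Int.negSucc 0, Int.negSucc 0, Int.ofNat 1, Int.ofNat 1, Int.negSucc 0, Int.negSucc 0, Int.ofNat 1, Int.ofNat 1, Int.ofNat 1, Int.ofNat 1, Int.negSucc 0, Int.ofNat 1, Int.ofNat 1, Int.negSucc 0, Int.ofNat 1, Int.ofNat 1, Int.ofNat 1, Int.negSucc 0, Int.negSucc 2],
  [Int.ofNat 1, Int.ofNat 1, Int.ofNat 1, Int.ofNat 1, Int.ofNat 1, Int.ofNat 1, Int.ofNat 1, Int.ofNat 1, Int.ofNat 1, Int.ofNat 1, Int.ofNat 1, Int.ofNat 1, Int.ofNat 1, Int.ofNat 1, Int.ofNat 1, Int.ofNat 1, Int.ofNat 1, Int.ofNat 1, Int.ofNat 1, Int.ofNat 1, Int.ofNat 1, Int.ofNat 1, Int.ofNat 1, Int.negSucc 2],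
  [Int.ofNat 1, Int.ofNat 1, Int.ofNat 1, Int.ofNat 1, Int.ofNat 1, Int.ofNat 1, Int.ofNat 1, Int.ofNat 1, Int.ofNat 1, Int.ofNat 1, Int.ofNat 1, Int.ofNat 1, Int.ofNat 1, Int.ofNat 1, Int.ofNat 1, Int.ofNat 1, Int.ofNat 1, Int.ofNat 1, Int.ofNat 1, Int.ofNat 1, Int.ofNat 1, Int.ofNat 1, Int.ofNat 1, Int.negSucc 2],
  [Int.negSucc 0, Int.negSucc 0, Int.negSucc 0, Int.negSucc 0, Int.negSucc 0, Int.ofNat 1, Int.negSucc 0, Int.ofNat 1, Int.negSucc 0, Int.negSucc 0, Int.ofNat 1, Int.ofNat 1, Int.negSucc 0, Int.negSucc 0, Int.ofNat 1, Int.ofNat 1, Int.negSucc 0, Int.ofNat 1, Int.negSucc 0, Int.ofNat 1, Int.ofNat 1, Int.ofNat 1, Int.ofNat 1, Int.negSucc 2],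
  [Int.negSucc 0, Int.negSucc 0, Int.negSucc 0, Int.negSucc 0, Int.negSucc 0, Int.ofNat 1, Int.negSucc 0, Int.ofNat 1, Int.negSucc 0, Int.negSucc 0, Int.ofNat 1, Int.ofNat 1, Int.negSucc 0, Int.negSucc 0, Int.ofNat 1, Int.ofNat 1, Int.negSucc 0, Int.ofNat 1, Int.negSucc 0, Int.ofNat 1, Int.ofNat 1, Int.ofNat 1, Int.ofNat 1, Int.negSucc 2],
  [Int.ofNat 1, Int.negSucc 0, Int.ofNat 1, Int.negSucc 0, Int.negSucc 0, Int.ofNat 1, Int.negSucc 0, Int.negSucc 0, Int.negSucc 0, Int.ofNat 1, Int.negSucc 0, Int.negSucc 0, Int.negSucc 0, Int.negSucc 0, Int.ofNat 1, Int.ofNat 1, Int.negSucc 0, Int.ofNat 1, Int.ofNat 1, Int.ofNat 1, Int.ofNat 1, Int.negSucc 0, Int.ofNat 1, Int.negSucc 2],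
  [Int.ofNat 1, Int.ofNat 1, Int.negSucc 0, Int.ofNat 1, Int.negSucc 0, Int.negSucc 0, Int.ofNat 1, Int.negSucc 0, Int.negSucc 0, Int.negSucc 0, Int.ofNat 1, Int.negSucc 0, Int.negSucc 0, Int.negSucc 0, Int.negSucc 0, Int.ofNat 1, Int.ofNat 1, Int.negSucc 0, Int.ofNat 1, Int.ofNat 1, Int.ofNat 1, Int.ofNat 1, Int.negSucc 0, Int.negSucc 2],
  [Int.negSucc 1, Int.negSucc 1, Int.ofNat 0, Int.ofNat 2, Int.ofNat 0, Int.ofNat 0, Int.ofNat 0, Int.negSucc 1, Int.ofNat 0, Int.negSucc 1, Int.ofNat 0, Int.ofNat 0, Int.ofNat 0, Int.ofNat 0, Int.ofNat 0, Int.ofNat 0, Int.ofNat 2, Int.ofNat 0, Int.ofNat 2, Int.ofNat 0, Int.ofNat 0, Int.ofNat 0, Int.ofNat 0, Int.ofNat 2],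
  [Int.ofNat 2, Int.ofNat 0, Int.ofNat 0, Int.ofNat 0, Int.negSucc 1, Int.ofNat 0, Int.negSucc 1, Int.ofNat 0, Int.ofNat 0, Int.ofNat 0, Int.ofNat 0, Int.ofNat 0, Int.ofNat 0, Int.ofNat 2, Int.ofNat 0, Int.ofNat 2, Int.ofNat 0, Int.ofNat 0, Int.ofNat 0, Int.ofNat 0, Int.negSucc 1, Int.negSucc 1, Int.ofNat 0, Int.ofNat 2],
  [Int.ofNat 0, Int.ofNat 2, Int.ofNat 2, Int.ofNat 0, Int.negSucc 1, Int.ofNat 0, Int.ofNat 0, Int.ofNat 2, Int.ofNat 0, Int.ofNat 0, Int.ofNat 0, Int.ofNat 0, Int.ofNat 0, Int.ofNat 2, Int.ofNat 0, Int.ofNat 2, Int.ofNat 0, Int.ofNat 0, Int.ofNat 0, Int.ofNat 2, Int.negSucc 1, Int.ofNat 0, Int.ofNat 0, Int.ofNat 0],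
  [Int.ofNat 0, Int.ofNat 0, Int.negSucc 1, Int.ofNat 0, Int.ofNat 0, Int.ofNat 2, Int.ofNat 2, Int.ofNat 0, Int.ofNat 0, Int.ofNat 2, Int.negSucc 1, Int.ofNat 0, Int.ofNat 0, Int.ofNat 0, Int.ofNat 0, Int.ofNat 2, Int.ofNat 0, Int.ofNat 0, Int.ofNat 2, Int.ofNat 0, Int.ofNat 0, Int.ofNat 0, Int.ofNat 2, Int.ofNat 0],
  [Int.negSucc 0, Int.negSucc 0, Int.ofNat 1, Int.negSucc 0, Int.negSucc 0, Int.ofNat 1, Int.ofNat 1, Int.negSucc 0, Int.negSucc 0, Int.ofNat 1, Int.negSucc 2, Int.negSucc 0, Int.negSucc 0, Int.negSucc 0, Int.negSucc 0, Int.ofNat 1, Int.negSucc 0, Int.negSucc 0, Int.ofNat 1, Int.negSucc 0, Int.negSucc 0, Int.negSucc 0, Int.ofNat 1, Int.negSucc 0],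
  [Int.negSucc 0, Int.negSucc 0, Int.negSucc 0, Int.negSucc 0, Int.negSucc 0, Int.negSucc 0, Int.negSucc 0, Int.negSucc 0, Int.negSucc 0, Int.negSucc 0, Int.ofNat 3, Int.negSucc 0, Int.negSucc 0, Int.negSucc 0, Int.negSucc 0, Int.negSucc 0, Int.negSucc 0, Int.negSucc 0, Int.negSucc 0, Int.negSucc 0, Int.negSucc 0, Int.negSucc 0, Int.negSucc 0, Int.negSucc 0],
  [Int.ofNat 3, Int.negSucc 0, Int.negSucc 0, Int.negSucc 0, Int.negSucc 0, Int.negSucc 0, Int.negSucc 0, Int.negSucc 0, Int.negSucc 0, Int.negSucc 0, Int.negSucc 0, Int.negSucc 0, Int.negSucc 0, Int.negSucc 0, Int.negSucc 0, Int.negSucc 0, Int.negSucc 0, Int.negSucc 0, Int.negSucc 0, Int.negSucc 0, Int.negSucc 0, Int.negSucc 0, Int.negSucc 0, Int.negSucc 0],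
  [Int.negSucc 2, Int.ofNat 1, Int.ofNat 1, Int.ofNat 1, Int.ofNat 1, Int.negSucc 0, Int.ofNat 1, Int.negSucc 0, Int.ofNat 1, Int.ofNat 1, Int.negSucc 0, Int.negSucc 0, Int.ofNat 1, Int.ofNat 1, Int.negSucc 0, Int.negSucc 0, Int.ofNat 1, Int.negSucc 0, Int.ofNat 1, Int.negSucc 0, Int.negSucc 0, Int.negSucc 0, Int.negSucc 0, Int.negSucc 0],
  [Int.negSucc 2, Int.ofNat 1, Int.ofNat 1, Int.ofNat 1, Int.ofNat 1, Int.negSucc 0, Int.ofNat 1, Int.negSucc 0, Int.ofNat 1, Int.ofNat 1, Int.negSucc 0, Int.negSucc 0, Int.ofNat 1, Int.ofNat 1, Int.negSucc 0, Int.negSucc 0, Int.ofNat 1, Int.negSucc 0, Int.ofNat 1, Int.negSucc 0, Int.negSucc 0, Int.negSucc 0, Int.negSucc 0, Int.negSucc 0],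
  [Int.ofNat 3, Int.ofNat 1, Int.negSucc 0, Int.ofNat 1, Int.ofNat 1, Int.negSucc 0, Int.ofNat 1, Int.ofNat 1, Int.ofNat 1, Int.negSucc 0, Int.ofNat 1, Int.ofNat 1, Int.ofNat 1, Int.ofNat 1, Int.negSucc 0, Int.negSucc 0, Int.ofNat 1, Int.negSucc 0, Int.negSucc 0, Int.negSucc 0, Int.negSucc 0, Int.ofNat 1, Int.negSucc 0, Int.negSucc 0],
  [Int.negSucc 0, Int.ofNat 3, Int.ofNat 1, Int.negSucc 0, Int.ofNat 1, Int.ofNat 1, Int.negSucc 0, Int.ofNat 1, Int.ofNat 1, Int.ofNat 1, Int.negSucc 0, Int.ofNat 1, Int.ofNat 1, Int.ofNat 1, Int.ofNat 1, Int.negSucc 0, Int.negSucc 0, Int.ofNat 1, Int.negSucc 0, Int.negSucc 0, Int.negSucc 0, Int.negSucc 0, Int.ofNat 1, Int.negSucc 0],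
  [Int.ofNat 2, Int.negSucc 1, Int.ofNat 0, Int.negSucc 1, Int.ofNat 0, Int.ofNat 0, Int.ofNat 0, Int.ofNat 2, Int.ofNat 0, Int.ofNat 2, Int.ofNat 0, Int.ofNat 0, Int.ofNat 0, Int.ofNat 0, Int.ofNat 0, Int.ofNat 0, Int.negSucc 1, Int.ofNat 0, Int.negSucc 1, Int.ofNat 0, Int.ofNat 0, Int.ofNat 0, Int.ofNat 0, Int.ofNat 2],
  [Int.negSucc 1, Int.ofNat 0, Int.ofNat 0, Int.ofNat 0, Int.ofNat 2, Int.ofNat 0, Int.ofNat 2, Int.ofNat 0, Int.ofNat 0, Int.ofNat 0, Int.ofNat 0, Int.ofNat 0, Int.ofNat 0, Int.negSucc 1, Int.ofNat 0, Int.negSucc 1, Int.ofNat 0, Int.ofNat 0, Int.ofNat 0, Int.ofNat 0, Int.ofNat 2, Int.negSucc 1, Int.ofNat 0, Int.ofNat 2],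
  [Int.ofNat 2, Int.ofNat 0, Int.ofNat 0, Int.ofNat 0, Int.ofNat 2, Int.ofNat 0, Int.ofNat 2, Int.ofNat 0, Int.ofNat 0, Int.ofNat 0, Int.ofNat 0, Int.ofNat 0, Int.ofNat 0, Int.negSucc 1, Int.ofNat 0, Int.negSucc 1, Int.ofNat 0, Int.ofNat 0, Int.ofNat 0, Int.ofNat 0, Int.ofNat 2, Int.negSucc 1, Int.ofNat 0, Int.negSucc 1],
  [Int.ofNat 2, Int.ofNat 2, Int.ofNat 2, Int.ofNat 0, Int.ofNat 0, Int.ofNat 0, Int.ofNat 0, Int.ofNat 0, Int.ofNat 0, Int.negSucc 1, Int.ofNat 2, Int.ofNat 0, Int.ofNat 0, Int.ofNat 0, Int.ofNat 0, Int.negSucc 1, Int.ofNat 0, Int.ofNat 0, Int.ofNat 0, Int.ofNat 0, Int.negSucc 1, Int.ofNat 0, Int.ofNat 0, Int.negSucc 1],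
  [Int.ofNat 0, Int.ofNat 0, Int.ofNat 0, Int.ofNat 0, Int.ofNat 0, Int.ofNat 0, Int.ofNat 0, Int.ofNat 0, Int.ofNat 0, Int.ofNat 0, Int.ofNat 4, Int.ofNat 0, Int.ofNat 0, Int.ofNat 0, Int.ofNat 0, Int.ofNat 0, Int.ofNat 0, Int.ofNat 0, Int.ofNat 0, Int.ofNat 0, Int.ofNat 0, Int.ofNat 0, Int.ofNat 0, Int.ofNat 4],
  [Int.ofNat 0, Int.ofNat 0, Int.ofNat 0, Int.ofNat 0, Int.ofNat 0, Int.ofNat 0, Int.ofNat 0, Int.ofNat 0, Int.ofNat 0, Int.ofNat 0, Int.negSucc 3, Int.ofNat 0, Int.ofNat 0, Int.ofNat 0, Int.ofNat 0, Int.ofNat 0, Int.ofNat 0, Int.ofNat 0, Int.ofNat 0, Int.ofNat 0, Int.ofNat 0, Int.ofNat 0, Int.ofNat 0, Int.ofNat 4],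
  [Int.negSucc 3, Int.ofNat 0, Int.ofNat 0, Int.ofNat 0, Int.ofNat 0, Int.ofNat 0, Int.ofNat 0, Int.ofNat 0, Int.ofNat 0, Int.ofNat 0, Int.ofNat 0, Int.ofNat 0, Int.ofNat 0, Int.ofNat 0, Int.ofNat 0, Int.ofNat 0, Int.ofNat 0, Int.ofNat 0, Int.ofNat 0, Int.ofNat 0, Int.ofNat 0, Int.ofNat 0, Int.ofNat 0, Int.ofNat 4],
  [Int.ofNat 4, Int.ofNat 0, Int.ofNat 0, Int.ofNat 0, Int.ofNat 0, Int.ofNat 0, Int.ofNat 0, Int.ofNat 0, Int.ofNat 0, Int.ofNat 0, Int.ofNat 0, Int.ofNat 0, Int.ofNat 0, Int.ofNat 0, Int.ofNat 0, Int.ofNat 0, Int.ofNat 0, Int.ofNat 0, Int.ofNat 0, Int.ofNat 0, Int.ofNat 0, Int.ofNat 0, Int.ofNat 0, Int.ofNat 4],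
  [Int.ofNat 4, Int.ofNat 0, Int.ofNat 0, Int.ofNat 0, Int.ofNat 0, Int.ofNat 0, Int.ofNat 0, Int.ofNat 0, Int.ofNat 0, Int.ofNat 0, Int.ofNat 0, Int.ofNat 0, Int.ofNat 0, Int.ofNat 0, Int.ofNat 0, Int.ofNat 0, Int.ofNat 0, Int.ofNat 0, Int.ofNat 0, Int.ofNat 0, Int.ofNat 0, Int.ofNat 0, Int.ofNat 0, Int.ofNat 4],
  [Int.negSucc 3, Int.ofNat 0, Int.ofNat 0, Int.ofNat 0, Int.ofNat 0, Int.ofNat 0, Int.ofNat 0, Int.ofNat 0, Int.ofNat 0, Int.ofNat 0, Int.ofNat 0, Int.ofNat 0, Int.ofNat 0, Int.ofNat 0, Int.ofNat 0, Int.ofNat 0, Int.ofNat 0, Int.ofNat 0, Int.ofNat 0, Int.ofNat 0, Int.ofNat 0, Int.ofNat 0, Int.ofNat 0, Int.ofNat 4],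
  [Int.ofNat 0, Int.negSucc 3, Int.ofNat 0, Int.ofNat 0, Int.ofNat 0, Int.ofNat 0, Int.ofNat 0, Int.ofNat 0, Int.ofNat 0, Int.ofNat 0, Int.ofNat 0, Int.ofNat 0, Int.ofNat 0, Int.ofNat 0, Int.ofNat 0, Int.ofNat 0, Int.ofNat 0, Int.ofNat 0, Int.ofNat 0, Int.ofNat 0, Int.ofNat 0, Int.ofNat 0, Int.ofNat 0, Int.ofNat 4],
  [Int.ofNat 0, Int.ofNat 4, Int.ofNat 0, Int.ofNat 0, Int.ofNat 0, Int.ofNat 0, Int.ofNat 0, Int.ofNat 0, Int.ofNat 0, Int.ofNat 0, Int.ofNat 0, Int.ofNat 0, Int.ofNat 0, Int.ofNat 0, Int.ofNat 0, Int.ofNat 0, Int.ofNat 0, Int.ofNat 0, Int.ofNat 0, Int.ofNat 0, Int.ofNat 0, Int.ofNat 0, Int.ofNat 0, Int.negSucc 3],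
  [Int.ofNat 0, Int.ofNat 0, Int.ofNat 0, Int.ofNat 0, Int.ofNat 0, Int.ofNat 0, Int.ofNat 0, Int.ofNat 0, Int.ofNat 0, Int.ofNat 0, Int.ofNat 0, Int.ofNat 0, Int.ofNat 0, Int.ofNat 0, Int.ofNat 0, Int.ofNat 0, Int.ofNat 0, Int.ofNat 0, Int.ofNat 0, Int.ofNat 0, Int.ofNat 0, Int.ofNat 4, Int.ofNat 0, Int.negSucc 3],
  [Int.negSucc 1, Int.negSucc 1, Int.negSucc 1, Int.ofNat 0, Int.ofNat 0, Int.ofNat 0, Int.negSucc 1, Int.negSucc 1, Int.ofNat 0, Int.ofNat 0, Int.ofNat 0, Int.ofNat 0, Int.ofNat 0, Int.ofNat 0, Int.ofNat 0, Int.ofNat 0, Int.ofNat 0, Int.ofNat 0, Int.ofNat 0, Int.negSucc 1, Int.ofNat 0, Int.ofNat 2, Int.ofNat 0, Int.ofNat 2],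
  [Int.negSucc 1, Int.negSucc 1, Int.ofNat 0, Int.ofNat 0, Int.ofNat 0, Int.negSucc 1, Int.negSucc 1, Int.ofNat 0, Int.ofNat 0, Int.ofNat 0, Int.ofNat 0, Int.ofNat 0, Int.ofNat 0, Int.ofNat 0, Int.ofNat 0, Int.ofNat 0, Int.ofNat 0, Int.ofNat 0, Int.negSucc 1, Int.ofNat 0, Int.ofNat 2, Int.ofNat 0, Int.negSucc 1, Int.ofNat 2],
  [Int.ofNat 1, Int.ofNat 1, Int.negSucc 0, Int.ofNat 1, Int.ofNat 1, Int.negSucc 0, Int.negSucc 0, Int.ofNat 1, Int.ofNat 1, Int.negSucc 0, Int.negSucc 0, Int.ofNat 1, Int.ofNat 1, Int.ofNat 1, Int.ofNat 1, Int.negSucc 0, Int.ofNat 1, Int.ofNat 1, Int.negSucc 0, Int.ofNat 1, Int.ofNat 1, Int.ofNat 1, Int.negSucc 0, Int.negSucc 2],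
  [Int.ofNat 1, Int.ofNat 1, Int.ofNat 1, Int.ofNat 1, Int.ofNat 1, Int.ofNat 1, Int.ofNat 1, Int.ofNat 1, Int.ofNat 1, Int.ofNat 1, Int.ofNat 1, Int.ofNat 1, Int.ofNat 1, Int.ofNat 1, Int.ofNat 1, Int.ofNat 1, Int.ofNat 1, Int.ofNat 1, Int.ofNat 1, Int.ofNat 1, Int.ofNat 1, Int.ofNat 1, Int.ofNat 1, Int.negSucc 2],
  [Int.ofNat 1, Int.ofNat 1, Int.ofNat 1, Int.ofNat 1, Int.ofNat 1, Int.ofNat 1, Int.ofNat 1, Int.ofNat 1, Int.ofNat 1, Int.ofNat 1, Int.ofNat 1, Int.ofNat 1, Int.ofNat 1, Int.ofNat 1, Int.ofNat 1, Int.ofNat 1, Int.ofNat 1, Int.ofNat 1, Int.ofNat 1, Int.ofNat 1, Int.ofNat 1, Int.ofNat 1, Int.ofNat 1, Int.negSucc 2],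
  [Int.negSucc 0, Int.negSucc 0, Int.negSucc 0, Int.negSucc 0, Int.negSucc 0, Int.ofNat 1, Int.negSucc 0, Int.ofNat 1, Int.negSucc 0, Int.negSucc 0, Int.ofNat 1, Int.ofNat 1, Int.negSucc 0, Int.negSucc 0, Int.ofNat 1, Int.ofNat 1, Int.negSucc 0, Int.ofNat 1, Int.negSucc 0, Int.ofNat 1, Int.ofNat 1, Int.ofNat 1, Int.ofNat 1, Int.negSucc 2],
  [Int.negSucc 0, Int.negSucc 0, Int.negSucc 0, Int.negSucc 0, Int.negSucc 0, Int.ofNat 1, Int.negSucc 0, Int.ofNat 1, Int.negSucc 0, Int.negSucc 0, Int.ofNat 1, Int.ofNat 1, Int.negSucc 0, Int.negSucc 0, Int.ofNat 1, Int.ofNat 1, Int.negSucc 0, Int.ofNat 1, Int.negSucc 0, Int.ofNat 1, Int.ofNat 1, Int.ofNat 1, Int.ofNat 1, Int.negSucc 2],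
  [Int.ofNat 1, Int.negSucc 0, Int.ofNat 1, Int.negSucc 0, Int.negSucc 0, Int.ofNat 1, Int.negSucc 0, Int.negSucc 0, Int.negSucc 0, Int.ofNat 1, Int.negSucc 0, Int.negSucc 0, Int.negSucc 0, Int.negSucc 0, Int.ofNat 1, Int.ofNat 1, Int.negSucc 0, Int.ofNat 1, Int.ofNat 1, Int.ofNat 1, Int.ofNat 1, Int.negSucc 0, Int.ofNat 1, Int.negSucc 2],
  [Int.ofNat 1, Int.ofNat 1, Int.negSucc 0, Int.ofNat 1, Int.negSucc 0, Int.negSucc 0, Int.ofNat 1, Int.negSucc 0, Int.negSucc 0, Int.negSucc 0, Int.ofNat 1, Int.negSucc 0, Int.negSucc 0, Int.negSucc 0, Int.negSucc 0, Int.ofNat 1, Int.ofNat 1, Int.negSucc 0, Int.ofNat 1, Int.ofNat 1, Int.ofNat 1, Int.ofNat 1, Int.negSucc 0, Int.negSucc 2],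
  [Int.negSucc 1, Int.negSucc 1, Int.ofNat 0, Int.ofNat 2, Int.ofNat 0, Int.ofNat 0, Int.ofNat 0, Int.negSucc 1, Int.ofNat 0, Int.negSucc 1, Int.ofNat 0, Int.ofNat 0, Int.ofNat 0, Int.ofNat 0, Int.ofNat 0, Int.ofNat 0, Int.ofNat 2, Int.ofNat 0, Int.ofNat 2, Int.ofNat 0, Int.ofNat 0, Int.ofNat 0, Int.ofNat 0, Int.ofNat 2],
  [Int.ofNat 2, Int.ofNat 0, Int.ofNat 0, Int.ofNat 0, Int.negSucc 1, Int.ofNat 0, Int.negSucc 1, Int.ofNat 0, Int.ofNat 0, Int.ofNat 0, Int.ofNat 0, Int.ofNat 0, Int.ofNat 0, Int.ofNat 2, Int.ofNat 0, Int.ofNat 2, Int.ofNat 0, Int.ofNat 0, Int.ofNat 0, Int.ofNat 0, Int.negSucc 1, Int.negSucc 1, Int.ofNat 0, Int.ofNat 2],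
  [Int.ofNat 0, Int.ofNat 2, Int.ofNat 2, Int.ofNat 0, Int.negSucc 1, Int.ofNat 0, Int.ofNat 0, Int.ofNat 2, Int.ofNat 0, Int.ofNat 0, Int.ofNat 0, Int.ofNat 0, Int.ofNat 0, Int.ofNat 2, Int.ofNat 0, Int.ofNat 2, Int.ofNat 0, Int.ofNat 0, Int.ofNat 0, Int.ofNat 2, Int.negSucc 1, Int.ofNat 0, Int.ofNat 0, Int.ofNat 0],
  [Int.ofNat 0, Int.ofNat 0, Int.negSucc 1, Int.ofNat 0, Int.ofNat 0, Int.ofNat 2, Int.ofNat 2, Int.ofNat 0, Int.ofNat 0, Int.ofNat 2, Int.negSucc 1, Int.ofNat 0, Int.ofNat 0, Int.ofNat 0, Int.ofNat 0, Int.ofNat 2, Int.ofNat 0, Int.ofNat 0, Int.ofNat 2, Int.ofNat 0, Int.ofNat 0, Int.ofNat 0, Int.ofNat 2, Int.ofNat 0],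
  [Int.negSucc 0, Int.negSucc 0, Int.ofNat 1, Int.negSucc 0, Int.negSucc 0, Int.ofNat 1, Int.ofNat 1, Int.negSucc 0, Int.negSucc 0, Int.ofNat 1, Int.negSucc 2, Int.negSucc 0, Int.negSucc 0, Int.negSucc 0, Int.negSucc 0, Int.ofNat 1, Int.negSucc 0, Int.negSucc 0, Int.ofNat 1, Int.negSucc 0, Int.negSucc 0, Int.negSucc 0, Int.ofNat 1, Int.negSucc 0],
  [Int.negSucc 0, Int.negSucc 0, Int.negSucc 0, Int.negSucc 0, Int.negSucc 0, Int.negSucc 0, Int.negSucc 0, Int.negSucc 0, Int.negSucc 0, Int.negSucc 0, Int.ofNat 3, Int.negSucc 0, Int.negSucc 0, Int.negSucc 0, Int.negSucc 0, Int.negSucc 0, Int.negSucc 0, Int.negSucc 0, Int.negSucc 0, Int.negSucc 0, Int.negSucc 0, Int.negSucc 0, Int.negSucc 0, Int.negSucc 0],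
  [Int.ofNat 3, Int.negSucc 0, Int.negSucc 0, Int.negSucc 0, Int.negSucc 0, Int.negSucc 0, Int.negSucc 0, Int.negSucc 0, Int.negSucc 0, Int.negSucc 0, Int.negSucc 0, Int.negSucc 0, Int.negSucc 0, Int.negSucc 0, Int.negSucc 0, Int.negSucc 0, Int.negSucc 0, Int.negSucc 0, Int.negSucc 0, Int.negSucc 0, Int.negSucc 0, Int.negSucc 0, Int.negSucc 0, Int.negSucc 0],
  [Int.negSucc 2, Int.ofNat 1, Int.ofNat 1, Int.ofNat 1, Int.ofNat 1, Int.negSucc 0, Int.ofNat 1, Int.negSucc 0, Int.ofNat 1, Int.ofNat 1, Int.negSucc 0, Int.negSucc 0, Int.ofNat 1, Int.ofNat 1, Int.negSucc 0, Int.negSucc 0, Int.ofNat 1, Int.negSucc 0, Int.ofNat 1, Int.negSucc 0, Int.negSucc 0, Int.negSucc 0, Int.negSucc 0, Int.negSucc 0],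
  [Int.negSucc 2, Int.ofNat 1, Int.ofNat 1, Int.ofNat 1, Int.ofNat 1, Int.negSucc 0, Int.ofNat 1, Int.negSucc 0, Int.ofNat 1, Int.ofNat 1, Int.negSucc 0, Int.negSucc 0, Int.ofNat 1, Int.ofNat 1, Int.negSucc 0, Int.negSucc 0, Int.ofNat 1, Int.negSucc 0, Int.ofNat 1, Int.negSucc 0, Int.negSucc 0, Int.negSucc 0, Int.negSucc 0, Int.negSucc 0],
  [Int.ofNat 3, Int.ofNat 1, Int.negSucc 0, Int.ofNat 1, Int.ofNat 1, Int.negSucc 0, Int.ofNat 1, Int.ofNat 1, Int.ofNat 1, Int.negSucc 0, Int.ofNat 1, Int.ofNat 1, Int.ofNat 1, Int.ofNat 1, Int.negSucc 0, Int.negSucc 0, Int.ofNat 1, Int.negSucc 0, Int.negSucc 0, Int.negSucc 0, Int.negSucc 0, Int.ofNat 1, Int.negSucc 0, Int.negSucc 0],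
  [Int.negSucc 0, Int.ofNat 3, Int.ofNat 1, Int.negSucc 0, Int.ofNat 1, Int.ofNat 1, Int.negSucc 0, Int.ofNat 1, Int.ofNat 1, Int.ofNat 1, Int.negSucc 0, Int.ofNat 1, Int.ofNat 1, Int.ofNat 1, Int.ofNat 1, Int.negSucc 0, Int.negSucc 0, Int.ofNat 1, Int.negSucc 0, Int.negSucc 0, Int.negSucc 0, Int.negSucc 0, Int.ofNat 1, Int.negSucc 0],
  [Int.ofNat 2, Int.negSucc 1, Int.ofNat 0, Int.negSucc 1, Int.ofNat 0, Int.ofNat 0, Int.ofNat 0, Int.ofNat 2, Int.ofNat 0, Int.ofNat 2, Int.ofNat 0, Int.ofNat 0, Int.ofNat 0, Int.ofNat 0, Int.ofNat 0, Int.ofNat 0, Int.negSucc 1, Int.ofNat 0, Int.negSucc 1, Int.ofNat 0, Int.ofNat 0, Int.ofNat 0, Int.ofNat 0, Int.ofNat 2],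
  [Int.negSucc 1, Int.ofNat 0, Int.ofNat 0, Int.ofNat 0, Int.ofNat 2, Int.ofNat 0, Int.ofNat 2, Int.ofNat 0, Int.ofNat 0, Int.ofNat 0, Int.ofNat 0, Int.ofNat 0, Int.ofNat 0, Int.negSucc 1, Int.ofNat 0, Int.negSucc 1, Int.ofNat 0, Int.ofNat 0, Int.ofNat 0, Int.ofNat 0, Int.ofNat 2, Int.negSucc 1, Int.ofNat 0, Int.ofNat 2],
  [Int.ofNat 2, Int.ofNat 0, Int.ofNat 0, Int.ofNat 0, Int.ofNat 2, Int.ofNat 0, Int.ofNat 2, Int.ofNat 0, Int.ofNat 0, Int.ofNat 0, Int.ofNat 0, Int.ofNat 0, Int.ofNat 0, Int.negSucc 1, Int.ofNat 0, Int.negSucc 1, Int.ofNat 0, Int.ofNat 0, Int.ofNat 0, Int.ofNat 0, Int.ofNat 2, Int.negSucc 1, Int.ofNat 0, Int.negSucc 1],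
  [Int.ofNat 2, Int.ofNat 2, Int.ofNat 2, Int.ofNat 0, Int.ofNat 0, Int.ofNat 0, Int.ofNat 0, Int.ofNat 0, Int.ofNat 0, Int.negSucc 1, Int.ofNat 2, Int.ofNat 0, Int.ofNat 0, Int.ofNat 0, Int.ofNat 0, Int.negSucc 1, Int.ofNat 0, Int.ofNat 0, Int.ofNat 0, Int.ofNat 0, Int.negSucc 1, Int.ofNat 0, Int.ofNat 0, Int.negSucc 1],
  [Int.ofNat 0, Int.ofNat 0, Int.ofNat 0, Int.ofNat 0, Int.ofNat 0, Int.ofNat 0, Int.ofNat 0, Int.ofNat 0, Int.ofNat 0, Int.ofNat 0, Int.ofNat 4, Int.ofNat 0, Int.ofNat 0, Int.ofNat 0, Int.ofNat 0, Int.ofNat 0, Int.ofNat 0, Int.ofNat 0, Int.ofNat 0, Int.ofNat 0, Int.ofNat 0, Int.ofNat 0, Int.ofNat 0, Int.ofNat 4],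
  [Int.ofNat 0, Int.ofNat 0, Int.ofNat 0, Int.ofNat 0, Int.ofNat 0, Int.ofNat 0, Int.ofNat 0, Int.ofNat 0, Int.ofNat 0, Int.ofNat 0, Int.negSucc 3, Int.ofNat 0, Int.ofNat 0, Int.ofNat 0, Int.ofNat 0, Int.ofNat 0, Int.ofNat 0, Int.ofNat 0, Int.ofNat 0, Int.ofNat 0, Int.ofNat 0, Int.ofNat 0, Int.ofNat 0, Int.ofNat 4],
  [Int.negSucc 3, Int.ofNat 0, Int.ofNat 0, Int.ofNat 0, Int.ofNat 0, Int.ofNat 0, Int.ofNat 0, Int.ofNat 0, Int.ofNat 0, Int.ofNat 0, Int.ofNat 0, Int.ofNat 0, Int.ofNat 0, Int.ofNat 0, Int.ofNat 0, Int.ofNat 0, Int.ofNat 0, Int.ofNat 0, Int.ofNat 0, Int.ofNat 0, Int.ofNat 0, Int.ofNat 0, Int.ofNat 0, Int.ofNat 4],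
  [Int.ofNat 4, Int.ofNat 0, Int.ofNat 0, Int.ofNat 0, Int.ofNat 0, Int.ofNat 0, Int.ofNat 0, Int.ofNat 0, Int.ofNat 0, Int.ofNat 0, Int.ofNat 0, Int.ofNat 0, Int.ofNat 0, Int.ofNat 0, Int.ofNat 0, Int.ofNat 0, Int.ofNat 0, Int.ofNat 0, Int.ofNat 0, Int.ofNat 0, Int.ofNat 0, Int.ofNat 0, Int.ofNat 0, Int.ofNat 4],
  [Int.ofNat 4, Int.ofNat 0, Int.ofNat 0, Int.ofNat 0, Int.ofNat 0, Int.ofNat 0, Int.ofNat 0, Int.ofNat 0, Int.ofNat 0, Int.ofNat 0, Int.ofNat 0, Int.ofNat 0, Int.ofNat 0, Int.ofNat 0, Int.ofNat 0, Int.ofNat 0, Int.ofNat 0, Int.ofNat 0, Int.ofNat 0, Int.ofNat 0, Int.ofNat 0, Int.ofNat 0, Int.ofNat 0, Int.ofNat 4],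
  [Int.negSucc 3, Int.ofNat 0, Int.ofNat 0, Int.ofNat 0, Int.ofNat 0, Int.ofNat 0, Int.ofNat 0, Int.ofNat 0, Int.ofNat 0, Int.ofNat 0, Int.ofNat 0, Int.ofNat 0, Int.ofNat 0, Int.ofNat 0, Int.ofNat 0, Int.ofNat 0, Int.ofNat 0, Int.ofNat 0, Int.ofNat 0, Int.ofNat 0, Int.ofNat 0, Int.ofNat 0, Int.ofNat 0, Int.ofNat 4],
  [Int.ofNat 0, Int.negSucc 3, Int.ofNat 0, Int.ofNat 0, Int.ofNat 0, Int.ofNat 0, Int.ofNat 0, Int.ofNat 0, Int.ofNat 0, Int.ofNat 0, Int.ofNat 0, Int.ofNat 0, Int.ofNat 0, Int.ofNat 0, Int.ofNat 0, Int.ofNat 0, Int.ofNat 0, Int.ofNat 0, Int.ofNat 0, Int.ofNat 0, Int.ofNat 0, Int.ofNat 0, Int.ofNat 0, Int.ofNat 4],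
  [Int.ofNat 0, Int.ofNat 4, Int.ofNat 0, Int.ofNat 0, Int.ofNat 0, Int.ofNat 0, Int.ofNat 0, Int.ofNat 0, Int.ofNat 0, Int.ofNat 0, Int.ofNat 0, Int.ofNat 0, Int.ofNat 0, Int.ofNat 0, Int.ofNat 0, Int.ofNat 0, Int.ofNat 0, Int.ofNat 0, Int.ofNat 0, Int.ofNat 0, Int.ofNat 0, Int.ofNat 0, Int.ofNat 0, Int.negSucc 3],
  [Int.ofNat 0, Int.ofNat 0, Int.ofNat 0, Int.ofNat 0, Int.ofNat 0, Int.ofNat 0, Int.ofNat 0, Int.ofNat 0, Int.ofNat 0, Int.ofNat 0, Int.ofNat 0, Int.ofNat 0, Int.ofNat 0, Int.ofNat 0, Int.ofNat 0, Int.ofNat 0, Int.ofNat 0, Int.ofNat 0, Int.ofNat 0, Int.ofNat 0, Int.ofNat 0, Int.ofNat 4, Int.ofNat 0, Int.negSucc 3],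
  [Int.negSucc 1, Int.negSucc 1, Int.negSucc 1, Int.ofNat 0, Int.ofNat 0, Int.ofNat 0, Int.negSucc 1, Int.negSucc 1, Int.ofNat 0, Int.ofNat 0, Int.ofNat 0, Int.ofNat 0, Int.ofNat 0, Int.ofNat 0, Int.ofNat 0, Int.ofNat 0, Int.ofNat 0, Int.ofNat 0, Int.ofNat 0, Int.negSucc 1, Int.ofNat 0, Int.ofNat 2, Int.ofNat 0, Int.ofNat 2],
  [Int.negSucc 1, Int.negSucc 1, Int.ofNat 0, Int.ofNat 0, Int.ofNat 0, Int.negSucc 1, Int.negSucc 1, Int.ofNat 0, Int.ofNat 0, Int.ofNat 0, Int.ofNat 0, Int.ofNat 0, Int.ofNat 0, Int.ofNat 0, Int.ofNat 0, Int.ofNat 0, Int.ofNat 0, Int.ofNat 0, Int.negSucc 1, Int.ofNat 0, Int.ofNat 2, Int.ofNat 0, Int.negSucc 1, Int.ofNat 2],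
  [Int.ofNat 1, Int.ofNat 1, Int.negSucc 0, Int.ofNat 1, Int.ofNat 1, Int.negSucc 0, Int.negSucc 0, Int.ofNat 1, Int.ofNat 1, Int.negSucc 0, Int.negSucc 0, Int.ofNat 1, Int.ofNat 1, Int.ofNat 1, Int.ofNat 1, Int.negSucc 0, Int.ofNat 1, Int.ofNat 1, Int.negSucc 0, Int.ofNat 1, Int.ofNat 1, Int.ofNat 1, Int.negSucc 0, Int.negSucc 2],
  [Int.ofNat 1, Int.ofNat 1, Int.ofNat 1, Int.ofNat 1, Int.ofNat 1, Int.ofNat 1, Int.ofNat 1, Int.ofNat 1, Int.ofNat 1, Int.ofNat 1, Int.ofNat 1, Int.ofNat 1, Int.ofNat 1, Int.ofNat 1, Int.ofNat 1, Int.ofNat 1, Int.ofNat 1, Int.ofNat 1, Int.ofNat 1, Int.ofNat 1, Int.ofNat 1, Int.ofNat 1, Int.ofNat 1, Int.negSucc 2],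
  [Int.ofNat 1, Int.ofNat 1, Int.ofNat 1, Int.ofNat 1, Int.ofNat 1, Int.ofNat 1, Int.ofNat 1, Int.ofNat 1, Int.ofNat 1, Int.ofNat 1, Int.ofNat 1, Int.ofNat 1, Int.ofNat 1, Int.ofNat 1, Int.ofNat 1, Int.ofNat 1, Int.ofNat 1, Int.ofNat 1, Int.ofNat 1, Int.ofNat 1, Int.ofNat 1, Int.ofNat 1, Int.ofNat 1, Int.negSucc 2],
  [Int.negSucc 0, Int.negSucc 0, Int.negSucc 0, Int.negSucc 0, Int.negSucc 0, Int.ofNat 1, Int.negSucc 0, Int.ofNat 1, Int.negSucc 0, Int.negSucc 0, Int.ofNat 1, Int.ofNat 1, Int.negSucc 0, Int.negSucc 0, Int.ofNat 1, Int.ofNat 1, Int.negSucc 0, Int.ofNat 1, Int.negSucc 0, Int.ofNat 1, Int.ofNat 1, Int.ofNat 1, Int.ofNat 1, Int.negSucc 2],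
  [Int.negSucc 0, Int.negSucc 0, Int.negSucc 0, Int.negSucc 0, Int.negSucc 0, Int.ofNat 1, Int.negSucc 0, Int.ofNat 1, Int.negSucc 0, Int.negSucc 0, Int.ofNat 1, Int.ofNat 1, Int.negSucc 0, Int.negSucc 0, Int.ofNat 1, Int.ofNat 1, Int.negSucc 0, Int.ofNat 1, Int.negSucc 0, Int.ofNat 1, Int.ofNat 1, Int.ofNat 1, Int.ofNat 1, Int.negSucc 2],
  [Int.ofNat 1, Int.negSucc 0, Int.ofNat 1, Int.negSucc 0, Int.negSucc 0, Int.ofNat 1, Int.negSucc 0, Int.negSucc 0, Int.negSucc 0, Int.ofNat 1, Int.negSucc 0, Int.negSucc 0, Int.negSucc 0, Int.negSucc 0, Int.ofNat 1, Int.ofNat 1, Int.negSucc 0, Int.ofNat 1, Int.ofNat 1, Int.ofNat 1, Int.ofNat 1, Int.negSucc 0, Int.ofNat 1, Int.negSucc 2],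
  [Int.ofNat 1, Int.ofNat 1, Int.negSucc 0, Int.ofNat 1, Int.negSucc 0, Int.negSucc 0, Int.ofNat 1, Int.negSucc 0, Int.negSucc 0, Int.negSucc 0, Int.ofNat 1, Int.negSucc 0, Int.negSucc 0, Int.negSucc 0, Int.negSucc 0, Int.ofNat 1, Int.ofNat 1, Int.negSucc 0, Int.ofNat 1, Int.ofNat 1, Int.ofNat 1, Int.ofNat 1, Int.negSucc 0, Int.negSucc 2],
  [Int.negSucc 1, Int.negSucc 1, Int.ofNat 0, Int.ofNat 2, Int.ofNat 0, Int.ofNat 0, Int.ofNat 0, Int.negSucc 1, Int.ofNat 0, Int.negSucc 1, Int.ofNat 0, Int.ofNat 0, Int.ofNat 0, Int.ofNat 0, Int.ofNat 0, Int.ofNat 0, Int.ofNat 2, Int.ofNat 0, Int.ofNat 2, Int.ofNat 0, Int.ofNat 0, Int.ofNat 0, Int.ofNat 0, Int.ofNat 2],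
  [Int.ofNat 2, Int.ofNat 0, Int.ofNat 0, Int.ofNat 0, Int.negSucc 1, Int.ofNat 0, Int.negSucc 1, Int.ofNat 0, Int.ofNat 0, Int.ofNat 0, Int.ofNat 0, Int.ofNat 0, Int.ofNat 0, Int.ofNat 2, Int.ofNat 0, Int.ofNat 2, Int.ofNat 0, Int.ofNat 0, Int.ofNat 0, Int.ofNat 0, Int.negSucc 1, Int.negSucc 1, Int.ofNat 0, Int.ofNat 2],
  [Int.ofNat 0, Int.ofNat 2, Int.ofNat 2, Int.ofNat 0, Int.negSucc 1, Int.ofNat 0, Int.ofNat 0, Int.ofNat 2, Int.ofNat 0, Int.ofNat 0, Int.ofNat 0, Int.ofNat 0, Int.ofNat 0, Int.ofNat 2, Int.ofNat 0, Int.ofNat 2, Int.ofNat 0, Int.ofNat 0, Int.ofNat 0, Int.ofNat 2, Int.negSucc 1, Int.ofNat 0, Int.ofNat 0, Int.ofNat 0],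
  [Int.ofNat 0, Int.ofNat 0, Int.negSucc 1, Int.ofNat 0, Int.ofNat 0, Int.ofNat 2, Int.ofNat 2, Int.ofNat 0, Int.ofNat 0, Int.ofNat 2, Int.negSucc 1, Int.ofNat 0, Int.ofNat 0, Int.ofNat 0, Int.ofNat 0, Int.ofNat 2, Int.ofNat 0, Int.ofNat 0, Int.ofNat 2, Int.ofNat 0, Int.ofNat 0, Int.ofNat 0, Int.ofNat 2, Int.ofNat 0],
  [Int.negSucc 0, Int.negSucc 0, Int.ofNat 1, Int.negSucc 0, Int.negSucc 0, Int.ofNat 1, Int.ofNat 1, Int.negSucc 0, Int.negSucc 0, Int.ofNat 1, Int.negSucc 2, Int.negSucc 0, Int.negSucc 0, Int.negSucc 0, Int.negSucc 0, Int.ofNat 1, Int.negSucc 0, Int.negSucc 0, Int.ofNat 1, Int.negSucc 0, Int.negSucc 0, Int.negSucc 0, Int.ofNat 1, Int.negSucc 0],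
  [Int.negSucc 0, Int.negSucc 0, Int.negSucc 0, Int.negSucc 0, Int.negSucc 0, Int.negSucc 0, Int.negSucc 0, Int.negSucc 0, Int.negSucc 0, Int.negSucc 0, Int.ofNat 3, Int.negSucc 0, Int.negSucc 0, Int.negSucc 0, Int.negSucc 0, Int.negSucc 0, Int.negSucc 0, Int.negSucc 0, Int.negSucc 0, Int.negSucc 0, Int.negSucc 0, Int.negSucc 0, Int.negSucc 0, Int.negSucc 0],
  [Int.ofNat 3, Int.negSucc 0, Int.negSucc 0, Int.negSucc 0, Int.negSucc 0, Int.negSucc 0, Int.negSucc 0, Int.negSucc 0, Int.negSucc 0, Int.negSucc 0, Int.negSucc 0, Int.negSucc 0, Int.negSucc 0, Int.negSucc 0, Int.negSucc 0, Int.negSucc 0, Int.negSucc 0, Int.negSucc 0, Int.negSucc 0, Int.negSucc 0, Int.negSucc 0, Int.negSucc 0, Int.negSucc 0, Int.negSucc 0],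
  [Int.negSucc 2, Int.ofNat 1, Int.ofNat 1, Int.ofNat 1, Int.ofNat 1, Int.negSucc 0, Int.ofNat 1, Int.negSucc 0, Int.ofNat 1, Int.ofNat 1, Int.negSucc 0, Int.negSucc 0, Int.ofNat 1, Int.ofNat 1, Int.negSucc 0, Int.negSucc 0, Int.ofNat 1, Int.negSucc 0, Int.ofNat 1, Int.negSucc 0, Int.negSucc 0, Int.negSucc 0, Int.negSucc 0, Int.negSucc 0],
  [Int.negSucc 2, Int.ofNat 1, Int.ofNat 1, Int.ofNat 1, Int.ofNat 1, Int.negSucc 0, Int.ofNat 1, Int.negSucc 0, Int.ofNat 1, Int.ofNat 1, Int.negSucc 0, Int.negSucc 0, Int.ofNat 1, Int.ofNat 1, Int.negSucc 0, Int.negSucc 0, Int.ofNat 1, Int.negSucc 0, Int.ofNat 1, Int.negSucc 0, Int.negSucc 0, Int.negSucc 0, Int.negSucc 0, Int.negSucc 0],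
  [Int.ofNat 3, Int.ofNat 1, Int.negSucc 0, Int.ofNat 1, Int.ofNat 1, Int.negSucc 0, Int.ofNat 1, Int.ofNat 1, Int.ofNat 1, Int.negSucc 0, Int.ofNat 1, Int.ofNat 1, Int.ofNat 1, Int.ofNat 1, Int.negSucc 0, Int.negSucc 0, Int.ofNat 1, Int.negSucc 0, Int.negSucc 0, Int.negSucc 0, Int.negSucc 0, Int.ofNat 1, Int.negSucc 0, Int.negSucc 0],
  [Int.negSucc 0, Int.ofNat 3, Int.ofNat 1, Int.negSucc 0, Int.ofNat 1, Int.ofNat 1, Int.negSucc 0, Int.ofNat 1, Int.ofNat 1, Int.ofNat 1, Int.negSucc 0, Int.ofNat 1, Int.ofNat 1, Int.ofNat 1, Int.ofNat 1, Int.negSucc 0, Int.negSucc 0, Int.ofNat 1, Int.negSucc 0, Int.negSucc 0, Int.negSucc 0, Int.negSucc 0, Int.ofNat 1, Int.negSucc 0],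
  [Int.ofNat 2, Int.negSucc 1, Int.ofNat 0, Int.negSucc 1, Int.ofNat 0, Int.ofNat 0, Int.ofNat 0, Int.ofNat 2, Int.ofNat 0, Int.ofNat 2, Int.ofNat 0, Int.ofNat 0, Int.ofNat 0, Int.ofNat 0, Int.ofNat 0, Int.ofNat 0, Int.negSucc 1, Int.ofNat 0, Int.negSucc 1, Int.ofNat 0, Int.ofNat 0, Int.ofNat 0, Int.ofNat 0, Int.ofNat 2],
  [Int.negSucc 1, Int.ofNat 0, Int.ofNat 0, Int.ofNat 0, Int.ofNat 2, Int.ofNat 0, Int.ofNat 2, Int.ofNat 0, Int.ofNat 0, Int.ofNat 0, Int.ofNat 0, Int.ofNat 0, Int.ofNat 0, Int.negSucc 1, Int.ofNat 0, Int.negSucc 1, Int.ofNat 0, Int.ofNat 0, Int.ofNat 0, Int.ofNat 0, Int.ofNat 2, Int.negSucc 1, Int.ofNat 0, Int.ofNat 2],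
  [Int.ofNat 2, Int.ofNat 0, Int.ofNat 0, Int.ofNat 0, Int.ofNat 2, Int.ofNat 0, Int.ofNat 2, Int.ofNat 0, Int.ofNat 0, Int.ofNat 0, Int.ofNat 0, Int.ofNat 0, Int.ofNat 0, Int.negSucc 1, Int.ofNat 0, Int.negSucc 1, Int.ofNat 0, Int.ofNat 0, Int.ofNat 0, Int.ofNat 0, Int.ofNat 2, Int.negSucc 1, Int.ofNat 0, Int.negSucc 1],
  [Int.ofNat 2, Int.ofNat 2, Int.ofNat 2, Int.ofNat 0, Int.ofNat 0, Int.ofNat 0, Int.ofNat 0, Int.ofNat 0, Int.ofNat 0, Int.negSucc 1, Int.ofNat 2, Int.ofNat 0, Int.ofNat 0, Int.ofNat 0, Int.ofNat 0, Int.negSucc 1, Int.ofNat 0, Int.ofNat 0, Int.ofNat 0, Int.ofNat 0, Int.negSucc 1, Int.ofNat 0, Int.ofNat 0, Int.negSucc 1],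
  [Int.ofNat 0, Int.ofNat 0, Int.ofNat 0, Int.ofNat 0, Int.ofNat 0, Int.ofNat 0, Int.ofNat 0, Int.ofNat 0, Int.ofNat 0, Int.ofNat 0, Int.ofNat 4, Int.ofNat 0, Int.ofNat 0, Int.ofNat 0, Int.ofNat 0, Int.ofNat 0, Int.ofNat 0, Int.ofNat 0, Int.ofNat 0, Int.ofNat 0, Int.ofNat 0, Int.ofNat 0, Int.ofNat 0, Int.ofNat 4],
  [Int.ofNat 0, Int.ofNat 0, Int.ofNat 0, Int.ofNat 0, Int.ofNat 0, Int.ofNat 0, Int.ofNat 0, Int.ofNat 0, Int.ofNat 0, Int.ofNat 0, Int.negSucc 3, Int.ofNat 0, Int.ofNat 0, Int.ofNat 0, Int.ofNat 0, Int.ofNat 0, Int.ofNat 0, Int.ofNat 0, Int.ofNat 0, Int.ofNat 0, Int.ofNat 0, Int.ofNat 0, Int.ofNat 0, Int.ofNat 4],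
  [Int.negSucc 3, Int.ofNat 0, Int.ofNat 0, Int.ofNat 0, Int.ofNat 0, Int.ofNat 0, Int.ofNat 0, Int.ofNat 0, Int.ofNat 0, Int.ofNat 0, Int.ofNat 0, Int.ofNat 0, Int.ofNat 0, Int.ofNat 0, Int.ofNat 0, Int.ofNat 0, Int.ofNat 0, Int.ofNat 0, Int.ofNat 0, Int.ofNat 0, Int.ofNat 0, Int.ofNat 0, Int.ofNat 0, Int.ofNat 4],
  [Int.ofNat 4, Int.ofNat 0, Int.ofNat 0, Int.ofNat 0, Int.ofNat 0, Int.ofNat 0, Int.ofNat 0, Int.ofNat 0, Int.ofNat 0, Int.ofNat 0, Int.ofNat 0, Int.ofNat 0, Int.ofNat 0, Int.ofNat 0, Int.ofNat 0, Int.ofNat 0, Int.ofNat 0, Int.ofNat 0, Int.ofNat 0, Int.ofNat 0, Int.ofNat 0, Int.ofNat 0, Int.ofNat 0, Int.ofNat 4],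
  [Int.ofNat 4, Int.ofNat 0, Int.ofNat 0, Int.ofNat 0, Int.ofNat 0, Int.ofNat 0, Int.ofNat 0, Int.ofNat 0, Int.ofNat 0, Int.ofNat 0, Int.ofNat 0, Int.ofNat 0, Int.ofNat 0, Int.ofNat 0, Int.ofNat 0, Int.ofNat 0, Int.ofNat 0, Int.ofNat 0, Int.ofNat 0, Int.ofNat 0, Int.ofNat 0, Int.ofNat 0, Int.ofNat 0, Int.ofNat 4],
  [Int.negSucc 3, Int.ofNat 0, Int.ofNat 0, Int.ofNat 0, Int.ofNat 0, Int.ofNat 0, Int.ofNat 0, Int.ofNat 0, Int.ofNat 0, Int.ofNat 0, Int.ofNat 0, Int.ofNat 0, Int.ofNat 0, Int.ofNat 0, Int.ofNat 0, Int.ofNat 0, Int.ofNat 0, Int.ofNat 0, Int.ofNat 0, Int.ofNat 0, Int.ofNat 0, Int.ofNat 0, Int.ofNat 0, Int.ofNat 4],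
  [Int.ofNat 0, Int.negSucc 3, Int.ofNat 0, Int.ofNat 0, Int.ofNat 0, Int.ofNat 0, Int.ofNat 0, Int.ofNat 0, Int.ofNat 0, Int.ofNat 0, Int.ofNat 0, Int.ofNat 0, Int.ofNat 0, Int.ofNat 0, Int.ofNat 0, Int.ofNat 0, Int.ofNat 0, Int.ofNat 0, Int.ofNat 0, Int.ofNat 0, Int.ofNat 0, Int.ofNat 0, Int.ofNat 0, Int.ofNat 4],
  [Int.ofNat 0, Int.ofNat 4, Int.ofNat 0, Int.ofNat 0, Int.ofNat 0, Int.ofNat 0, Int.ofNat 0, Int.ofNat 0, Int.ofNat 0, Int.ofNat 0, Int.ofNat 0, Int.ofNat 0, Int.ofNat 0, Int.ofNat 0, Int.ofNat 0, Int.ofNat 0, Int.ofNat 0, Int.ofNat 0, Int.ofNat 0, Int.ofNat 0, Int.ofNat 0, Int.ofNat 0, Int.ofNat 0, Int.negSucc 3],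
  [Int.ofNat 0, Int.ofNat 0, Int.ofNat 0, Int.ofNat 0, Int.ofNat 0, Int.ofNat 0, Int.ofNat 0, Int.ofNat 0, Int.ofNat 0, Int.ofNat 0, Int.ofNat 0, Int.ofNat 0, Int.ofNat 0, Int.ofNat 0, Int.ofNat 0, Int.ofNat 0, Int.ofNat 0, Int.ofNat 0, Int.ofNat 0, Int.ofNat 0, Int.ofNat 0, Int.ofNat 4, Int.ofNat 0, Int.negSucc 3],
  [Int.negSucc 1, Int.negSucc 1, Int.negSucc 1, Int.ofNat 0, Int.ofNat 0, Int.ofNat 0, Int.negSucc 1, Int.negSucc 1, Int.ofNat 0, Int.ofNat 0, Int.ofNat 0, Int.ofNat 0, Int.ofNat 0, Int.ofNat 0, Int.ofNat 0, Int.ofNat 0, Int.ofNat 0, Int.ofNat 0, Int.ofNat 0, Int.negSucc 1, Int.ofNat 0, Int.ofNat 2, Int.ofNat 0, Int.ofNat 2],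
  [Int.negSucc 1, Int.negSucc 1, Int.ofNat 0, Int.ofNat 0, Int.ofNat 0, Int.negSucc 1, Int.negSucc 1, Int.ofNat 0, Int.ofNat 0, Int.ofNat 0, Int.ofNat 0, Int.ofNat 0, Int.ofNat 0, Int.ofNat 0, Int.ofNat 0, Int.ofNat 0, Int.ofNat 0, Int.ofNat 0, Int.negSucc 1, Int.ofNat 0, Int.ofNat 2, Int.ofNat 0, Int.negSucc 1, Int.ofNat 2],
  [Int.ofNat 1, Int.ofNat 1, Int.negSucc 0, Int.ofNat 1, Int.ofNat 1, Int.negSucc 0, Int.negSucc 0, Int.ofNat 1, Int.ofNat 1, Int.negSucc 0, Int.negSucc 0, Int.ofNat 1, Int.ofNat 1, Int.ofNat 1, Int.ofNat 1, Int.negSucc 0, Int.ofNat 1, Int.ofNat 1, Int.negSucc 0, Int.ofNat 1, Int.ofNat 1, Int.ofNat 1, Int.negSucc 0, Int.negSucc 2],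
  [Int.ofNat 1, Int.ofNat 1, Int.ofNat 1, Int.ofNat 1, Int.ofNat 1, Int.ofNat 1, Int.ofNat 1, Int.ofNat 1, Int.ofNat 1, Int.ofNat 1, Int.ofNat 1, Int.ofNat 1, Int.ofNat 1, Int.ofNat 1, Int.ofNat 1, Int.ofNat 1, Int.ofNat 1, Int.ofNat 1, Int.ofNat 1, Int.ofNat 1, Int.ofNat 1, Int.ofNat 1, Int.ofNat 1, Int.negSucc 2],
  [Int.ofNat 1, Int.ofNat 1, Int.ofNat 1, Int.ofNat 1, Int.ofNat 1, Int.ofNat 1, Int.ofNat 1, Int.ofNat 1, Int.ofNat 1, Int.ofNat 1, Int.ofNat 1, Int.ofNat 1, Int.ofNat 1, Int.ofNat 1, Int.ofNat 1, Int.ofNat 1, Int.ofNat 1, Int.ofNat 1, Int.ofNat 1, Int.ofNat 1, Int.ofNat 1, Int.ofNat 1, Int.ofNat 1, Int.negSucc 2],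
  [Int.negSucc 0, Int.negSucc 0, Int.negSucc 0, Int.negSucc 0, Int.negSucc 0, Int.ofNat 1, Int.negSucc 0, Int.ofNat 1, Int.negSucc 0, Int.negSucc 0, Int.ofNat 1, Int.ofNat 1, Int.negSucc 0, Int.negSucc 0, Int.ofNat 1, Int.ofNat 1, Int.negSucc 0, Int.ofNat 1, Int.negSucc 0, Int.ofNat 1, Int.ofNat 1, Int.ofNat 1, Int.ofNat 1, Int.negSucc 2],
  [Int.negSucc 0, Int.negSucc 0, Int.negSucc 0, Int.negSucc 0, Int.negSucc 0, Int.ofNat 1, Int.negSucc 0, Int.ofNat 1, Int.negSucc 0, Int.negSucc 0, Int.ofNat 1, Int.ofNat 1, Int.negSucc 0, Int.negSucc 0, Int.ofNat 1, Int.ofNat 1, Int.negSucc 0, Int.ofNat 1, Int.negSucc 0, Int.ofNat 1, Int.ofNat 1, Int.ofNat 1, Int.ofNat 1, Int.negSucc 2],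
  [Int.ofNat 1, Int.negSucc 0, Int.ofNat 1, Int.negSucc 0, Int.negSucc 0, Int.ofNat 1, Int.negSucc 0, Int.negSucc 0, Int.negSucc 0, Int.ofNat 1, Int.negSucc 0, Int.negSucc 0, Int.negSucc 0, Int.negSucc 0, Int.ofNat 1, Int.ofNat 1, Int.negSucc 0, Int.ofNat 1, Int.ofNat 1, Int.ofNat 1, Int.ofNat 1, Int.negSucc 0, Int.ofNat 1, Int.negSucc 2],
  [Int.ofNat 1, Int.ofNat 1, Int.negSucc 0, Int.ofNat 1, Int.negSucc 0, Int.negSucc 0, Int.ofNat 1, Int.negSucc 0, Int.negSucc 0, Int.negSucc 0, Int.ofNat 1, Int.negSucc 0, Int.negSucc 0, Int.negSucc 0, Int.negSucc 0, Int.ofNat 1, Int.ofNat 1, Int.negSucc 0, Int.ofNat 1, Int.ofNat 1, Int.ofNat 1, Int.ofNat 1, Int.negSucc 0, Int.negSucc 2],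
  [Int.negSucc 1, Int.negSucc 1, Int.ofNat 0, Int.ofNat 2, Int.ofNat 0, Int.ofNat 0, Int.ofNat 0, Int.negSucc 1, Int.ofNat 0, Int.negSucc 1, Int.ofNat 0, Int.ofNat 0, Int.ofNat 0, Int.ofNat 0, Int.ofNat 0, Int.ofNat 0, Int.ofNat 2, Int.ofNat 0, Int.ofNat 2, Int.ofNat 0, Int.ofNat 0, Int.ofNat 0, Int.ofNat 0, Int.ofNat 2],
  [Int.ofNat 2, Int.ofNat 0, Int.ofNat 0, Int.ofNat 0, Int.negSucc 1, Int.ofNat 0, Int.negSucc 1, Int.ofNat 0, Int.ofNat 0, Int.ofNat 0, Int.ofNat 0, Int.ofNat 0, Int.ofNat 0, Int.ofNat 2, Int.ofNat 0, Int.ofNat 2, Int.ofNat 0, Int.ofNat 0, Int.ofNat 0, Int.ofNat 0, Int.negSucc 1, Int.negSucc 1, Int.ofNat 0, Int.ofNat 2],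
  [Int.ofNat 0, Int.ofNat 2, Int.ofNat 2, Int.ofNat 0, Int.negSucc 1, Int.ofNat 0, Int.ofNat 0, Int.ofNat 2, Int.ofNat 0, Int.ofNat 0, Int.ofNat 0, Int.ofNat 0, Int.ofNat 0, Int.ofNat 2, Int.ofNat 0, Int.ofNat 2, Int.ofNat 0, Int.ofNat 0, Int.ofNat 0, Int.ofNat 2, Int.negSucc 1, Int.ofNat 0, Int.ofNat 0, Int.ofNat 0],
  [Int.ofNat 0, Int.ofNat 0, Int.negSucc 1, Int.ofNat 0, Int.ofNat 0, Int.ofNat 2, Int.ofNat 2, Int.ofNat 0, Int.ofNat 0, Int.ofNat 2, Int.negSucc 1, Int.ofNat 0, Int.ofNat 0, Int.ofNat 0, Int.ofNat 0, Int.ofNat 2, Int.ofNat 0, Int.ofNat 0, Int.ofNat 2, Int.ofNat 0, Int.ofNat 0, Int.ofNat 0, Int.ofNat 2, Int.ofNat 0],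
  [Int.negSucc 0, Int.negSucc 0, Int.ofNat 1, Int.negSucc 0, Int.negSucc 0, Int.ofNat 1, Int.ofNat 1, Int.negSucc 0, Int.negSucc 0, Int.ofNat 1, Int.negSucc 2, Int.negSucc 0, Int.negSucc 0, Int.negSucc 0, Int.negSucc 0, Int.ofNat 1, Int.negSucc 0, Int.negSucc 0, Int.ofNat 1, Int.negSucc 0, Int.negSucc 0, Int.negSucc 0, Int.ofNat 1, Int.negSucc 0],
  [Int.negSucc 0, Int.negSucc 0, Int.negSucc 0, Int.negSucc 0, Int.negSucc 0, Int.negSucc 0, Int.negSucc 0, Int.negSucc 0, Int.negSucc 0, Int.negSucc 0, Int.ofNat 3, Int.negSucc 0, Int.negSucc 0, Int.negSucc 0, Int.negSucc 0, Int.negSucc 0, Int.negSucc 0, Int.negSucc 0, Int.negSucc 0, Int.negSucc 0, Int.negSucc 0, Int.negSucc 0, Int.negSucc 0, Int.negSucc 0],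
  [Int.ofNat 3, Int.negSucc 0, Int.negSucc 0, Int.negSucc 0, Int.negSucc 0, Int.negSucc 0, Int.negSucc 0, Int.negSucc 0, Int.negSucc 0, Int.negSucc 0, Int.negSucc 0, Int.negSucc 0, Int.negSucc 0, Int.negSucc 0, Int.negSucc 0, Int.negSucc 0, Int.negSucc 0, Int.negSucc 0, Int.negSucc 0, Int.negSucc 0, Int.negSucc 0, Int.negSucc 0, Int.negSucc 0, Int.negSucc 0],
  [Int.negSucc 2, Int.ofNat 1, Int.ofNat 1, Int.ofNat 1, Int.ofNat 1, Int.negSucc 0, Int.ofNat 1, Int.negSucc 0, Int.ofNat 1, Int.ofNat 1, Int.negSucc 0, Int.negSucc 0, Int.ofNat 1, Int.ofNat 1, Int.negSucc 0, Int.negSucc 0, Int.ofNat 1, Int.negSucc 0, Int.ofNat 1, Int.negSucc 0, Int.negSucc 0, Int.negSucc 0, Int.negSucc 0, Int.negSucc 0],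
  [Int.negSucc 2, Int.ofNat 1, Int.ofNat 1, Int.ofNat 1, Int.ofNat 1, Int.negSucc 0, Int.ofNat 1, Int.negSucc 0, Int.ofNat 1, Int.ofNat 1, Int.negSucc 0, Int.negSucc 0, Int.ofNat 1, Int.ofNat 1, Int.negSucc 0, Int.negSucc 0, Int.ofNat 1, Int.negSucc 0, Int.ofNat 1, Int.negSucc 0, Int.negSucc 0, Int.negSucc 0, Int.negSucc 0, Int.negSucc 0],
  [Int.ofNat 3, Int.ofNat 1, Int.negSucc 0, Int.ofNat 1, Int.ofNat 1, Int.negSucc 0, Int.ofNat 1, Int.ofNat 1, Int.ofNat 1, Int.negSucc 0, Int.ofNat 1, Int.ofNat 1, Int.ofNat 1, Int.ofNat 1, Int.negSucc 0, Int.negSucc 0, Int.ofNat 1, Int.negSucc 0, Int.negSucc 0, Int.negSucc 0, Int.negSucc 0, Int.ofNat 1, Int.negSucc 0, Int.negSucc 0],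
  [Int.negSucc 0, Int.ofNat 3, Int.ofNat 1, Int.negSucc 0, Int.ofNat 1, Int.ofNat 1, Int.negSucc 0, Int.ofNat 1, Int.ofNat 1, Int.ofNat 1, Int.negSucc 0, Int.ofNat 1, Int.ofNat 1, Int.ofNat 1, Int.ofNat 1, Int.negSucc 0, Int.negSucc 0, Int.ofNat 1, Int.negSucc 0, Int.negSucc 0, Int.negSucc 0, Int.negSucc 0, Int.ofNat 1, Int.negSucc 0],
  [Int.ofNat 2, Int.negSucc 1, Int.ofNat 0, Int.negSucc 1, Int.ofNat 0, Int.ofNat 0, Int.ofNat 0, Int.ofNat 2, Int.ofNat 0, Int.ofNat 2, Int.ofNat 0, Int.ofNat 0, Int.ofNat 0, Int.ofNat 0, Int.ofNat 0, Int.ofNat 0, Int.negSucc 1, Int.ofNat 0, Int.negSucc 1, Int.ofNat 0, Int.ofNat 0, Int.ofNat 0, Int.ofNat 0, Int.ofNat 2],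
  [Int.negSucc 1, Int.ofNat 0, Int.ofNat 0, Int.ofNat 0, Int.ofNat 2, Int.ofNat 0, Int.ofNat 2, Int.ofNat 0, Int.ofNat 0, Int.ofNat 0, Int.ofNat 0, Int.ofNat 0, Int.ofNat 0, Int.negSucc 1, Int.ofNat 0, Int.negSucc 1, Int.ofNat 0, Int.ofNat 0, Int.ofNat 0, Int.ofNat 0, Int.ofNat 2, Int.negSucc 1, Int.ofNat 0, Int.ofNat 2],
  [Int.ofNat 2, Int.ofNat 0, Int.ofNat 0, Int.ofNat 0, Int.ofNat 2, Int.ofNat 0, Int.ofNat 2, Int.ofNat 0, Int.ofNat 0, Int.ofNat 0, Int.ofNat 0, Int.ofNat 0, Int.ofNat 0, Int.negSucc 1, Int.ofNat 0, Int.negSucc 1, Int.ofNat 0, Int.ofNat 0, Int.ofNat 0, Int.ofNat 0, Int.ofNat 2, Int.negSucc 1, Int.ofNat 0, Int.negSucc 1],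
  [Int.ofNat 2, Int.ofNat 2, Int.ofNat 2, Int.ofNat 0, Int.ofNat 0, Int.ofNat 0, Int.ofNat 0, Int.ofNat 0, Int.ofNat 0, Int.negSucc 1, Int.ofNat 2, Int.ofNat 0, Int.ofNat 0, Int.ofNat 0, Int.ofNat 0, Int.negSucc 1, Int.ofNat 0, Int.ofNat 0, Int.ofNat 0, Int.ofNat 0, Int.negSucc 1, Int.ofNat 0, Int.ofNat 0, Int.negSucc 1],
  [Int.ofNat 0, Int.ofNat 0, Int.ofNat 0, Int.ofNat 0, Int.ofNat 0, Int.ofNat 0, Int.ofNat 0, Int.ofNat 0, Int.ofNat 0, Int.ofNat 0, Int.ofNat 4, Int.ofNat 0, Int.ofNat 0, Int.ofNat 0, Int.ofNat 0, Int.ofNat 0, Int.ofNat 0, Int.ofNat 0, Int.ofNat 0, Int.ofNat 0, Int.ofNat 0, Int.ofNat 0, Int.ofNat 0, Int.ofNat 4],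
  [Int.ofNat 0, Int.ofNat 0, Int.ofNat 0, Int.ofNat 0, Int.ofNat 0, Int.ofNat 0, Int.ofNat 0, Int.ofNat 0, Int.ofNat 0, Int.ofNat 0, Int.negSucc 3, Int.ofNat 0, Int.ofNat 0, Int.ofNat 0, Int.ofNat 0, Int.ofNat 0, Int.ofNat 0, Int.ofNat 0, Int.ofNat 0, Int.ofNat 0, Int.ofNat 0, Int.ofNat 0, Int.ofNat 0, Int.ofNat 4],
  [Int.negSucc 3, Int.ofNat 0, Int.ofNat 0, Int.ofNat 0, Int.ofNat 0, Int.ofNat 0, Int.ofNat 0, Int.ofNat 0, Int.ofNat 0, Int.ofNat 0, Int.ofNat 0, Int.ofNat 0, Int.ofNat 0, Int.ofNat 0, Int.ofNat 0, Int.ofNat 0, Int.ofNat 0, Int.ofNat 0, Int.ofNat 0, Int.ofNat 0, Int.ofNat 0, Int.ofNat 0, Int.ofNat 0, Int.ofNat 4],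
  [Int.ofNat 4, Int.ofNat 0, Int.ofNat 0, Int.ofNat 0, Int.ofNat 0, Int.ofNat 0, Int.ofNat 0, Int.ofNat 0, Int.ofNat 0, Int.ofNat 0, Int.ofNat 0, Int.ofNat 0, Int.ofNat 0, Int.ofNat 0, Int.ofNat 0, Int.ofNat 0, Int.ofNat 0, Int.ofNat 0, Int.ofNat 0, Int.ofNat 0, Int.ofNat 0, Int.ofNat 0, Int.ofNat 0, Int.ofNat 4],
  [Int.ofNat 4, Int.ofNat 0, Int.ofNat 0, Int.ofNat 0, Int.ofNat 0, Int.ofNat 0, Int.ofNat 0, Int.ofNat 0, Int.ofNat 0, Int.ofNat 0, Int.ofNat 0, Int.ofNat 0, Int.ofNat 0, Int.ofNat 0, Int.ofNat 0, Int.ofNat 0, Int.ofNat 0, Int.ofNat 0, Int.ofNat 0, Int.ofNat 0, Int.ofNat 0, Int.ofNat 0, Int.ofNat 0, Int.ofNat 4],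
  [Int.negSucc 3, Int.ofNat 0, Int.ofNat 0, Int.ofNat 0, Int.ofNat 0, Int.ofNat 0, Int.ofNat 0, Int.ofNat 0, Int.ofNat 0, Int.ofNat 0, Int.ofNat 0, Int.ofNat 0, Int.ofNat 0, Int.ofNat 0, Int.ofNat 0, Int.ofNat 0, Int.ofNat 0, Int.ofNat 0, Int.ofNat 0, Int.ofNat 0, Int.ofNat 0, Int.ofNat 0, Int.ofNat 0, Int.ofNat 4],
  [Int.ofNat 0, Int.negSucc 3, Int.ofNat 0, Int.ofNat 0, Int.ofNat 0, Int.ofNat 0, Int.ofNat 0, Int.ofNat 0, Int.ofNat 0, Int.ofNat 0, Int.ofNat 0, Int.ofNat 0, Int.ofNat 0, Int.ofNat 0, Int.ofNat 0, Int.ofNat 0, Int.ofNat 0, Int.ofNat 0, Int.ofNat 0, Int.ofNat 0, Int.ofNat 0, Int.ofNat 0, Int.ofNat 0, Int.ofNat 4],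
  [Int.ofNat 0, Int.ofNat 4, Int.ofNat 0, Int.ofNat 0, Int.ofNat 0, Int.ofNat 0, Int.ofNat 0, Int.ofNat 0, Int.ofNat 0, Int.ofNat 0, Int.ofNat 0, Int.ofNat 0, Int.ofNat 0, Int.ofNat 0, Int.ofNat 0, Int.ofNat 0, Int.ofNat 0, Int.ofNat 0, Int.ofNat 0, Int.ofNat 0, Int.ofNat 0, Int.ofNat 0, Int.ofNat 0, Int.negSucc 3],
  [Int.ofNat 0, Int.ofNat 0, Int.ofNat 0, Int.ofNat 0, Int.ofNat 0, Int.ofNat 0, Int.ofNat 0, Int.ofNat 0, Int.ofNat 0, Int.ofNat 0, Int.ofNat 0, Int.ofNat 0, Int.ofNat 0, Int.ofNat 0, Int.ofNat 0, Int.ofNat 0, Int.ofNat 0, Int.ofNat 0, Int.ofNat 0, Int.ofNat 0, Int.ofNat 0, Int.ofNat 4, Int.ofNat 0, Int.negSucc 3],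
  [Int.negSucc 1, Int.negSucc 1, Int.negSucc 1, Int.ofNat 0, Int.ofNat 0, Int.ofNat 0, Int.negSucc 1, Int.negSucc 1, Int.ofNat 0, Int.ofNat 0, Int.ofNat 0, Int.ofNat 0, Int.ofNat 0, Int.ofNat 0, Int.ofNat 0, Int.ofNat 0, Int.ofNat 0, Int.ofNat 0, Int.ofNat 0, Int.negSucc 1, Int.ofNat 0, Int.ofNat 2, Int.ofNat 0, Int.ofNat 2],
  [Int.negSucc 1, Int.negSucc 1, Int.ofNat 0, Int.ofNat 0, Int.ofNat 0, Int.negSucc 1, Int.negSucc 1, Int.ofNat 0, Int.ofNat 0, Int.ofNat 0, Int.ofNat 0, Int.ofNat 0, Int.ofNat 0, Int.ofNat 0, Int.ofNat 0, Int.ofNat 0, Int.ofNat 0, Int.ofNat 0, Int.negSucc 1, Int.ofNat 0, Int.ofNat 2, Int.ofNat 0, Int.negSucc 1, Int.ofNat 2],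
  [Int.ofNat 1, Int.ofNat 1, Int.negSucc 0, Int.ofNat 1, Int.ofNat 1, Int.negSucc 0, Int.negSucc 0, Int.ofNat 1, Int.ofNat 1, Int.negSucc 0, Int.negSucc 0, Int.ofNat 1, Int.ofNat 1, Int.ofNat 1, Int.ofNat 1, Int.negSucc 0, Int.ofNat 1, Int.ofNat 1, Int.negSucc 0, Int.ofNat 1, Int.ofNat 1, Int.ofNat 1, Int.negSucc 0, Int.negSucc 2],
  [Int.ofNat 1, Int.ofNat 1, Int.ofNat 1, Int.ofNat 1, Int.ofNat 1, Int.ofNat 1, Int.ofNat 1, Int.ofNat 1, Int.ofNat 1, Int.ofNat 1, Int.ofNat 1, Int.ofNat 1, Int.ofNat 1, Int.ofNat 1, Int.ofNat 1, Int.ofNat 1, Int.ofNat 1, Int.ofNat 1, Int.ofNat 1, Int.ofNat 1, Int.ofNat 1, Int.ofNat 1, Int.ofNat 1, Int.negSucc 2],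
  [Int.ofNat 1, Int.ofNat 1, Int.ofNat 1, Int.ofNat 1, Int.ofNat 1, Int.ofNat 1, Int.ofNat 1, Int.ofNat 1, Int.ofNat 1, Int.ofNat 1, Int.ofNat 1, Int.ofNat 1, Int.ofNat 1, Int.ofNat 1, Int.ofNat 1, Int.ofNat 1, Int.ofNat 1, Int.ofNat 1, Int.ofNat 1, Int.ofNat 1, Int.ofNat 1, Int.ofNat 1, Int.ofNat 1, Int.negSucc 2],
  [Int.negSucc 0, Int.negSucc 0, Int.negSucc 0, Int.negSucc 0, Int.negSucc 0, Int.ofNat 1, Int.negSucc 0, Int.ofNat 1, Int.negSucc 0, Int.negSucc 0, Int.ofNat 1, Int.ofNat 1, Int.negSucc 0, Int.negSucc 0, Int.ofNat 1, Int.ofNat 1, Int.negSucc 0, Int.ofNat 1, Int.negSucc 0, Int.ofNat 1, Int.ofNat 1, Int.ofNat 1, Int.ofNat 1, Int.negSucc 2],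
  [Int.negSucc 0, Int.negSucc 0, Int.negSucc 0, Int.negSucc 0, Int.negSucc 0, Int.ofNat 1, Int.negSucc 0, Int.ofNat 1, Int.negSucc 0, Int.negSucc 0, Int.ofNat 1, Int.ofNat 1, Int.negSucc 0, Int.negSucc 0, Int.ofNat 1, Int.ofNat 1, Int.negSucc 0, Int.ofNat 1, Int.negSucc 0, Int.ofNat 1, Int.ofNat 1, Int.ofNat 1, Int.ofNat 1, Int.negSucc 2],
  [Int.ofNat 1, Int.negSucc 0, Int.ofNat 1, Int.negSucc 0, Int.negSucc 0, Int.ofNat 1, Int.negSucc 0, Int.negSucc 0, Int.negSucc 0, Int.ofNat 1, Int.negSucc 0, Int.negSucc 0, Int.negSucc 0, Int.negSucc 0, Int.ofNat 1, Int.ofNat 1, Int.negSucc 0, Int.ofNat 1, Int.ofNat 1, Int.ofNat 1, Int.ofNat 1, Int.negSucc 0, Int.ofNat 1, Int.negSucc 2],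
  [Int.ofNat 1, Int.ofNat 1, Int.negSucc 0, Int.ofNat 1, Int.negSucc 0, Int.negSucc 0, Int.ofNat 1, Int.negSucc 0, Int.negSucc 0, Int.negSucc 0, Int.ofNat 1, Int.negSucc 0, Int.negSucc 0, Int.negSucc 0, Int.negSucc 0, Int.ofNat 1, Int.ofNat 1, Int.negSucc 0, Int.ofNat 1, Int.ofNat 1, Int.ofNat 1, Int.ofNat 1, Int.negSucc 0, Int.negSucc 2],
  [Int.negSucc 1, Int.negSucc 1, Int.ofNat 0, Int.ofNat 2, Int.ofNat 0, Int.ofNat 0, Int.ofNat 0, Int.negSucc 1, Int.ofNat 0, Int.negSucc 1, Int.ofNat 0, Int.ofNat 0, Int.ofNat 0, Int.ofNat 0, Int.ofNat 0, Int.ofNat 0, Int.ofNat 2, Int.ofNat 0, Int.ofNat 2, Int.ofNat 0, Int.ofNat 0, Int.ofNat 0, Int.ofNat 0, Int.ofNat 2],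
  [Int.ofNat 2, Int.ofNat 0, Int.ofNat 0, Int.ofNat 0, Int.negSucc 1, Int.ofNat 0, Int.negSucc 1, Int.ofNat 0, Int.ofNat 0, Int.ofNat 0, Int.ofNat 0, Int.ofNat 0, Int.ofNat 0, Int.ofNat 2, Int.ofNat 0, Int.ofNat 2, Int.ofNat 0, Int.ofNat 0, Int.ofNat 0, Int.ofNat 0, Int.negSucc 1, Int.negSucc 1, Int.ofNat 0, Int.ofNat 2],
  [Int.ofNat 0, Int.ofNat 2, Int.ofNat 2, Int.ofNat 0, Int.negSucc 1, Int.ofNat 0, Int.ofNat 0, Int.ofNat 2, Int.ofNat 0, Int.ofNat 0, Int.ofNat 0, Int.ofNat 0, Int.ofNat 0, Int.ofNat 2, Int.ofNat 0, Int.ofNat 2, Int.ofNat 0, Int.ofNat 0, Int.ofNat 0, Int.ofNat 2, Int.negSucc 1, Int.ofNat 0, Int.ofNat 0, Int.ofNat 0],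
  [Int.ofNat 0, Int.ofNat 0, Int.negSucc 1, Int.ofNat 0, Int.ofNat 0, Int.ofNat 2, Int.ofNat 2, Int.ofNat 0, Int.ofNat 0, Int.ofNat 2, Int.negSucc 1, Int.ofNat 0, Int.ofNat 0, Int.ofNat 0, Int.ofNat 0, Int.ofNat 2, Int.ofNat 0, Int.ofNat 0, Int.ofNat 2, Int.ofNat 0, Int.ofNat 0, Int.ofNat 0, Int.ofNat 2, Int.ofNat 0],
  [Int.negSucc 0, Int.negSucc 0, Int.ofNat 1, Int.negSucc 0, Int.negSucc 0, Int.ofNat 1, Int.ofNat 1, Int.negSucc 0, Int.negSucc 0, Int.ofNat 1, Int.negSucc 2, Int.negSucc 0, Int.negSucc 0, Int.negSucc 0, Int.negSucc 0, Int.ofNat 1, Int.negSucc 0, Int.negSucc 0, Int.ofNat 1, Int.negSucc 0, Int.negSucc 0, Int.negSucc 0, Int.ofNat 1, Int.negSucc 0],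
  [Int.negSucc 0, Int.negSucc 0, Int.negSucc 0, Int.negSucc 0, Int.negSucc 0, Int.negSucc 0, Int.negSucc 0, Int.negSucc 0, Int.negSucc 0, Int.negSucc 0, Int.ofNat 3, Int.negSucc 0, Int.negSucc 0, Int.negSucc 0, Int.negSucc 0, Int.negSucc 0, Int.negSucc 0, Int.negSucc 0, Int.negSucc 0, Int.negSucc 0, Int.negSucc 0, Int.negSucc 0, Int.negSucc 0, Int.negSucc 0],
  [Int.ofNat 3, Int.negSucc 0, Int.negSucc 0, Int.negSucc 0, Int.negSucc 0, Int.negSucc 0, Int.negSucc 0, Int.negSucc 0, Int.negSucc 0, Int.negSucc 0, Int.negSucc 0, Int.negSucc 0, Int.negSucc 0, Int.negSucc 0, Int.negSucc 0, Int.negSucc 0, Int.negSucc 0, Int.negSucc 0, Int.negSucc 0, Int.negSucc 0, Int.negSucc 0, Int.negSucc 0, Int.negSucc 0, Int.negSucc 0],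
  [Int.negSucc 2, Int.ofNat 1, Int.ofNat 1, Int.ofNat 1, Int.ofNat 1, Int.negSucc 0, Int.ofNat 1, Int.negSucc 0, Int.ofNat 1, Int.ofNat 1, Int.negSucc 0, Int.negSucc 0, Int.ofNat 1, Int.ofNat 1, Int.negSucc 0, Int.negSucc 0, Int.ofNat 1, Int.negSucc 0, Int.ofNat 1, Int.negSucc 0, Int.negSucc 0, Int.negSucc 0, Int.negSucc 0, Int.negSucc 0],
  [Int.negSucc 2, Int.ofNat 1, Int.ofNat 1, Int.ofNat 1, Int.ofNat 1, Int.negSucc 0, Int.ofNat 1, Int.negSucc 0, Int.ofNat 1, Int.ofNat 1, Int.negSucc 0, Int.negSucc 0, Int.ofNat 1, Int.ofNat 1, Int.negSucc 0, Int.negSucc 0, Int.ofNat 1, Int.negSucc 0, Int.ofNat 1, Int.negSucc 0, Int.negSucc 0, Int.negSucc 0, Int.negSucc 0, Int.negSucc 0],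
  [Int.ofNat 3, Int.ofNat 1, Int.negSucc 0, Int.ofNat 1, Int.ofNat 1, Int.negSucc 0, Int.ofNat 1, Int.ofNat 1, Int.ofNat 1, Int.negSucc 0, Int.ofNat 1, Int.ofNat 1, Int.ofNat 1, Int.ofNat 1, Int.negSucc 0, Int.negSucc 0, Int.ofNat 1, Int.negSucc 0, Int.negSucc 0, Int.negSucc 0, Int.negSucc 0, Int.ofNat 1, Int.negSucc 0, Int.negSucc 0],
  [Int.negSucc 0, Int.ofNat 3, Int.ofNat 1, Int.negSucc 0, Int.ofNat 1, Int.ofNat 1, Int.negSucc 0, Int.ofNat 1, Int.ofNat 1, Int.ofNat 1, Int.negSucc 0, Int.ofNat 1, Int.ofNat 1, Int.ofNat 1, Int.ofNat 1, Int.negSucc 0, Int.negSucc 0, Int.ofNat 1, Int.negSucc 0, Int.negSucc 0, Int.negSucc 0, Int.negSucc 0, Int.ofNat 1, Int.negSucc 0],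
  [Int.ofNat 2, Int.negSucc 1, Int.ofNat 0, Int.negSucc 1, Int.ofNat 0, Int.ofNat 0, Int.ofNat 0, Int.ofNat 2, Int.ofNat 0, Int.ofNat 2, Int.ofNat 0, Int.ofNat 0, Int.ofNat 0, Int.ofNat 0, Int.ofNat 0, Int.ofNat 0, Int.negSucc 1, Int.ofNat 0, Int.negSucc 1, Int.ofNat 0, Int.ofNat 0, Int.ofNat 0, Int.ofNat 0, Int.ofNat 2],
  [Int.negSucc 1, Int.ofNat 0, Int.ofNat 0, Int.ofNat 0, Int.ofNat 2, Int.ofNat 0, Int.ofNat 2, Int.ofNat 0, Int.ofNat 0, Int.ofNat 0, Int.ofNat 0, Int.ofNat 0, Int.ofNat 0, Int.negSucc 1, Int.ofNat 0, Int.negSucc 1, Int.ofNat 0, Int.ofNat 0, Int.ofNat 0, Int.ofNat 0, Int.ofNat 2, Int.negSucc 1, Int.ofNat 0, Int.ofNat 2],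
  [Int.ofNat 2, Int.ofNat 0, Int.ofNat 0, Int.ofNat 0, Int.ofNat 2, Int.ofNat 0, Int.ofNat 2, Int.ofNat 0, Int.ofNat 0, Int.ofNat 0, Int.ofNat 0, Int.ofNat 0, Int.ofNat 0, Int.negSucc 1, Int.ofNat 0, Int.negSucc 1, Int.ofNat 0, Int.ofNat 0, Int.ofNat 0, Int.ofNat 0, Int.ofNat 2, Int.negSucc 1, Int.ofNat 0, Int.negSucc 1],
  [Int.ofNat 2, Int.ofNat 2, Int.ofNat 2, Int.ofNat 0, Int.ofNat 0, Int.ofNat 0, Int.ofNat 0, Int.ofNat 0, Int.ofNat 0, Int.negSucc 1, Int.ofNat 2, Int.ofNat 0, Int.ofNat 0, Int.ofNat 0, Int.ofNat 0, Int.negSucc 1, Int.ofNat 0, Int.ofNat 0, Int.ofNat 0, Int.ofNat 0, Int.negSucc 1, Int.ofNat 0, Int.ofNat 0, Int.negSucc 1],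
  [Int.ofNat 0, Int.ofNat 0, Int.ofNat 0, Int.ofNat 0, Int.ofNat 0, Int.ofNat 0, Int.ofNat 0, Int.ofNat 0, Int.ofNat 0, Int.ofNat 0, Int.ofNat 4, Int.ofNat 0, Int.ofNat 0, Int.ofNat 0, Int.ofNat 0, Int.ofNat 0, Int.ofNat 0, Int.ofNat 0, Int.ofNat 0, Int.ofNat 0, Int.ofNat 0, Int.ofNat 0, Int.ofNat 0, Int.ofNat 4],
  [Int.ofNat 0, Int.ofNat 0, Int.ofNat 0, Int.ofNat 0, Int.ofNat 0, Int.ofNat 0, Int.ofNat 0, Int.ofNat 0, Int.ofNat 0, Int.ofNat 0, Int.negSucc 3, Int.ofNat 0, Int.ofNat 0, Int.ofNat 0, Int.ofNat 0, Int.ofNat 0, Int.ofNat 0, Int.ofNat 0, Int.ofNat 0, Int.ofNat 0, Int.ofNat 0, Int.ofNat 0, Int.ofNat 0, Int.ofNat 4],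
  [Int.negSucc 3, Int.ofNat 0, Int.ofNat 0, Int.ofNat 0, Int.ofNat 0, Int.ofNat 0, Int.ofNat 0, Int.ofNat 0, Int.ofNat 0, Int.ofNat 0, Int.ofNat 0, Int.ofNat 0, Int.ofNat 0, Int.ofNat 0, Int.ofNat 0, Int.ofNat 0, Int.ofNat 0, Int.ofNat 0, Int.ofNat 0, Int.ofNat 0, Int.ofNat 0, Int.ofNat 0, Int.ofNat 0, Int.ofNat 4],
  [Int.ofNat 4, Int.ofNat 0, Int.ofNat 0, Int.ofNat 0, Int.ofNat 0, Int.ofNat 0, Int.ofNat 0, Int.ofNat 0, Int.ofNat 0, Int.ofNat 0, Int.ofNat 0, Int.ofNat 0, Int.ofNat 0, Int.ofNat 0, Int.ofNat 0, Int.ofNat 0, Int.ofNat 0, Int.ofNat 0, Int.ofNat 0, Int.ofNat 0, Int.ofNat 0, Int.ofNat 0, Int.ofNat 0, Int.ofNat 4],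
  [Int.ofNat 4, Int.ofNat 0, Int.ofNat 0, Int.ofNat 0, Int.ofNat 0, Int.ofNat 0, Int.ofNat 0, Int.ofNat 0, Int.ofNat 0, Int.ofNat 0, Int.ofNat 0, Int.ofNat 0, Int.ofNat 0, Int.ofNat 0, Int.ofNat 0, Int.ofNat 0, Int.ofNat 0, Int.ofNat 0, Int.ofNat 0, Int.ofNat 0, Int.ofNat 0, Int.ofNat 0, Int.ofNat 0, Int.ofNat 4],
  [Int.negSucc 3, Int.ofNat 0, Int.ofNat 0, Int.ofNat 0, Int.ofNat 0, Int.ofNat 0, Int.ofNat 0, Int.ofNat 0, Int.ofNat 0, Int.ofNat 0, Int.ofNat 0, Int.ofNat 0, Int.ofNat 0, Int.ofNat 0, Int.ofNat 0, Int.ofNat 0, Int.ofNat 0, Int.ofNat 0, Int.ofNat 0, Int.ofNat 0, Int.ofNat 0, Int.ofNat 0, Int.ofNat 0, Int.ofNat 4],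
  [Int.ofNat 0, Int.negSucc 3, Int.ofNat 0, Int.ofNat 0, Int.ofNat 0, Int.ofNat 0, Int.ofNat 0, Int.ofNat 0, Int.ofNat 0, Int.ofNat 0, Int.ofNat 0, Int.ofNat 0, Int.ofNat 0, Int.ofNat 0, Int.ofNat 0, Int.ofNat 0, Int.ofNat 0, Int.ofNat 0, Int.ofNat 0, Int.ofNat 0, Int.ofNat 0, Int.ofNat 0, Int.ofNat 0, Int.ofNat 4],
  [Int.ofNat 0, Int.ofNat 4, Int.ofNat 0, Int.ofNat 0, Int.ofNat 0, Int.ofNat 0, Int.ofNat 0, Int.ofNat 0, Int.ofNat 0, Int.ofNat 0, Int.ofNat 0, Int.ofNat 0, Int.ofNat 0, Int.ofNat 0, Int.ofNat 0, Int.ofNat 0, Int.ofNat 0, Int.ofNat 0, Int.ofNat 0, Int.ofNat 0, Int.ofNat 0, Int.ofNat 0, Int.ofNat 0, Int.negSucc 3],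
  [Int.ofNat 0, Int.ofNat 0, Int.ofNat 0, Int.ofNat 0, Int.ofNat 0, Int.ofNat 0, Int.ofNat 0, Int.ofNat 0, Int.ofNat 0, Int.ofNat 0, Int.ofNat 0, Int.ofNat 0, Int.ofNat 0, Int.ofNat 0, Int.ofNat 0, Int.ofNat 0, Int.ofNat 0, Int.ofNat 0, Int.ofNat 0, Int.ofNat 0, Int.ofNat 0, Int.ofNat 4, Int.ofNat 0, Int.negSucc 3],
  [Int.negSucc 1, Int.negSucc 1, Int.negSucc 1, Int.ofNat 0, Int.ofNat 0, Int.ofNat 0, Int.negSucc 1, Int.negSucc 1, Int.ofNat 0, Int.ofNat 0, Int.ofNat 0, Int.ofNat 0, Int.ofNat 0, Int.ofNat 0, Int.ofNat 0, Int.ofNat 0, Int.ofNat 0, Int.ofNat 0, Int.ofNat 0, Int.negSucc 1, Int.ofNat 0, Int.ofNat 2, Int.ofNat 0, Int.ofNat 2],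
  [Int.negSucc 1, Int.negSucc 1, Int.ofNat 0, Int.ofNat 0, Int.ofNat 0, Int.negSucc 1, Int.negSucc 1, Int.ofNat 0, Int.ofNat 0, Int.ofNat 0, Int.ofNat 0, Int.ofNat 0, Int.ofNat 0, Int.ofNat 0, Int.ofNat 0, Int.ofNat 0, Int.ofNat 0, Int.ofNat 0, Int.negSucc 1, Int.ofNat 0, Int.ofNat 2, Int.ofNat 0, Int.negSucc 1, Int.ofNat 2],
  [Int.ofNat 1, Int.ofNat 1, Int.negSucc 0, Int.ofNat 1, Int.ofNat 1, Int.negSucc 0, Int.negSucc 0, Int.ofNat 1, Int.ofNat 1, Int.negSucc 0, Int.negSucc 0, Int.ofNat 1, Int.ofNat 1, Int.ofNat 1, Int.ofNat 1, Int.negSucc 0, Int.ofNat 1, Int.ofNat 1, Int.negSucc 0, Int.ofNat 1, Int.ofNat 1, Int.ofNat 1, Int.negSucc 0, Int.negSucc 2],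
  [Int.ofNat 1, Int.ofNat 1, Int.ofNat 1, Int.ofNat 1, Int.ofNat 1, Int.ofNat 1, Int.ofNat 1, Int.ofNat 1, Int.ofNat 1, Int.ofNat 1, Int.ofNat 1, Int.ofNat 1, Int.ofNat 1, Int.ofNat 1, Int.ofNat 1, Int.ofNat 1, Int.ofNat 1, Int.ofNat 1, Int.ofNat 1, Int.ofNat 1, Int.ofNat 1, Int.ofNat 1, Int.ofNat 1, Int.negSucc 2],
  [Int.ofNat 1, Int.ofNat 1, Int.ofNat 1, Int.ofNat 1, Int.ofNat 1, Int.ofNat 1, Int.ofNat 1, Int.ofNat 1, Int.ofNat 1, Int.ofNat 1, Int.ofNat 1, Int.ofNat 1, Int.ofNat 1, Int.ofNat 1, Int.ofNat 1, Int.ofNat 1, Int.ofNat 1, Int.ofNat 1, Int.ofNat 1, Int.ofNat 1, Int.ofNat 1, Int.ofNat 1, Int.ofNat 1, Int.negSucc 2],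
  [Int.negSucc 0, Int.negSucc 0, Int.negSucc 0, Int.negSucc 0, Int.negSucc 0, Int.ofNat 1, Int.negSucc 0, Int.ofNat 1, Int.negSucc 0, Int.negSucc 0, Int.ofNat 1, Int.ofNat 1, Int.negSucc 0, Int.negSucc 0, Int.ofNat 1, Int.ofNat 1, Int.negSucc 0, Int.ofNat 1, Int.negSucc 0, Int.ofNat 1, Int.ofNat 1, Int.ofNat 1, Int.ofNat 1, Int.negSucc 2],
  [Int.negSucc 0, Int.negSucc 0, Int.negSucc 0, Int.negSucc 0, Int.negSucc 0, Int.ofNat 1, Int.negSucc 0, Int.ofNat 1, Int.negSucc 0, Int.negSucc 0, Int.ofNat 1, Int.ofNat 1, Int.negSucc 0, Int.negSucc 0, Int.ofNat 1, Int.ofNat 1, Int.negSucc 0, Int.ofNat 1, Int.negSucc 0, Int.ofNat 1, Int.ofNat 1, Int.ofNat 1, Int.ofNat 1, Int.negSucc 2],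
  [Int.ofNat 1, Int.negSucc 0, Int.ofNat 1, Int.negSucc 0, Int.negSucc 0, Int.ofNat 1, Int.negSucc 0, Int.negSucc 0, Int.negSucc 0, Int.ofNat 1, Int.negSucc 0, Int.negSucc 0, Int.negSucc 0, Int.negSucc 0, Int.ofNat 1, Int.ofNat 1, Int.negSucc 0, Int.ofNat 1, Int.ofNat 1, Int.ofNat 1, Int.ofNat 1, Int.negSucc 0, Int.ofNat 1, Int.negSucc 2],
  [Int.ofNat 1, Int.ofNat 1, Int.negSucc 0, Int.ofNat 1, Int.negSucc 0, Int.negSucc 0, Int.ofNat 1, Int.negSucc 0, Int.negSucc 0, Int.negSucc 0, Int.ofNat 1, Int.negSucc 0, Int.negSucc 0, Int.negSucc 0, Int.negSucc 0, Int.ofNat 1, Int.ofNat 1, Int.negSucc 0, Int.ofNat 1, Int.ofNat 1, Int.ofNat 1, Int.ofNat 1, Int.negSucc 0, Int.negSucc 2],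
  [Int.negSucc 1, Int.negSucc 1, Int.ofNat 0, Int.ofNat 2, Int.ofNat 0, Int.ofNat 0, Int.ofNat 0, Int.negSucc 1, Int.ofNat 0, Int.negSucc 1, Int.ofNat 0, Int.ofNat 0, Int.ofNat 0, Int.ofNat 0, Int.ofNat 0, Int.ofNat 0, Int.ofNat 2, Int.ofNat 0, Int.ofNat 2, Int.ofNat 0, Int.ofNat 0, Int.ofNat 0, Int.ofNat 0, Int.ofNat 2],
  [Int.ofNat 2, Int.ofNat 0, Int.ofNat 0, Int.ofNat 0, Int.negSucc 1, Int.ofNat 0, Int.negSucc 1, Int.ofNat 0, Int.ofNat 0, Int.ofNat 0, Int.ofNat 0, Int.ofNat 0, Int.ofNat 0, Int.ofNat 2, Int.ofNat 0, Int.ofNat 2, Int.ofNat 0, Int.ofNat 0, Int.ofNat 0, Int.ofNat 0, Int.negSucc 1, Int.negSucc 1, Int.ofNat 0, Int.ofNat 2],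
  [Int.ofNat 0, Int.ofNat 2, Int.ofNat 2, Int.ofNat 0, Int.negSucc 1, Int.ofNat 0, Int.ofNat 0, Int.ofNat 2, Int.ofNat 0, Int.ofNat 0, Int.ofNat 0, Int.ofNat 0, Int.ofNat 0, Int.ofNat 2, Int.ofNat 0, Int.ofNat 2, Int.ofNat 0, Int.ofNat 0, Int.ofNat 0, Int.ofNat 2, Int.negSucc 1, Int.ofNat 0, Int.ofNat 0, Int.ofNat 0],
  [Int.ofNat 0, Int.ofNat 0, Int.negSucc 1, Int.ofNat 0, Int.ofNat 0, Int.ofNat 2, Int.ofNat 2, Int.ofNat 0, Int.ofNat 0, Int.ofNat 2, Int.negSucc 1, Int.ofNat 0, Int.ofNat 0, Int.ofNat 0, Int.ofNat 0, Int.ofNat 2, Int.ofNat 0, Int.ofNat 0, Int.ofNat 2, Int.ofNat 0, Int.ofNat 0, Int.ofNat 0, Int.ofNat 2, Int.ofNat 0],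
  [Int.negSucc 0, Int.negSucc 0, Int.ofNat 1, Int.negSucc 0, Int.negSucc 0, Int.ofNat 1, Int.ofNat 1, Int.negSucc 0, Int.negSucc 0, Int.ofNat 1, Int.negSucc 2, Int.negSucc 0, Int.negSucc 0, Int.negSucc 0, Int.negSucc 0, Int.ofNat 1, Int.negSucc 0, Int.negSucc 0, Int.ofNat 1, Int.negSucc 0, Int.negSucc 0, Int.negSucc 0, Int.ofNat 1, Int.negSucc 0],
  [Int.negSucc 0, Int.negSucc 0, Int.negSucc 0, Int.negSucc 0, Int.negSucc 0, Int.negSucc 0, Int.negSucc 0, Int.negSucc 0, Int.negSucc 0, Int.negSucc 0, Int.ofNat 3, Int.negSucc 0, Int.negSucc 0, Int.negSucc 0, Int.negSucc 0, Int.negSucc 0, Int.negSucc 0, Int.negSucc 0, Int.negSucc 0, Int.negSucc 0, Int.negSucc 0, Int.negSucc 0, Int.negSucc 0, Int.negSucc 0],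
  [Int.ofNat 3, Int.negSucc 0, Int.negSucc 0, Int.negSucc 0, Int.negSucc 0, Int.negSucc 0, Int.negSucc 0, Int.negSucc 0, Int.negSucc 0, Int.negSucc 0, Int.negSucc 0, Int.negSucc 0, Int.negSucc 0, Int.negSucc 0, Int.negSucc 0, Int.negSucc 0, Int.negSucc 0, Int.negSucc 0, Int.negSucc 0, Int.negSucc 0, Int.negSucc 0, Int.negSucc 0, Int.negSucc 0, Int.negSucc 0],
  [Int.negSucc 2, Int.ofNat 1, Int.ofNat 1, Int.ofNat 1, Int.ofNat 1, Int.negSucc 0, Int.ofNat 1, Int.negSucc 0, Int.ofNat 1, Int.ofNat 1, Int.negSucc 0, Int.negSucc 0, Int.ofNat 1, Int.ofNat 1, Int.negSucc 0, Int.negSucc 0, Int.ofNat 1, Int.negSucc 0, Int.ofNat 1, Int.negSucc 0, Int.negSucc 0, Int.negSucc 0, Int.negSucc 0, Int.negSucc 0],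
  [Int.negSucc 2, Int.ofNat 1, Int.ofNat 1, Int.ofNat 1, Int.ofNat 1, Int.negSucc 0, Int.ofNat 1, Int.negSucc 0, Int.ofNat 1, Int.ofNat 1, Int.negSucc 0, Int.negSucc 0, Int.ofNat 1, Int.ofNat 1, Int.negSucc 0, Int.negSucc 0, Int.ofNat 1, Int.negSucc 0, Int.ofNat 1, Int.negSucc 0, Int.negSucc 0, Int.negSucc 0, Int.negSucc 0, Int.negSucc 0],
  [Int.ofNat 3, Int.ofNat 1, Int.negSucc 0, Int.ofNat 1, Int.ofNat 1, Int.negSucc 0, Int.ofNat 1, Int.ofNat 1, Int.ofNat 1, Int.negSucc 0, Int.ofNat 1, Int.ofNat 1, Int.ofNat 1, Int.ofNat 1, Int.negSucc 0, Int.negSucc 0, Int.ofNat 1, Int.negSucc 0, Int.negSucc 0, Int.negSucc 0, Int.negSucc 0, Int.ofNat 1, Int.negSucc 0, Int.negSucc 0],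
  [Int.negSucc 0, Int.ofNat 3, Int.ofNat 1, Int.negSucc 0, Int.ofNat 1, Int.ofNat 1, Int.negSucc 0, Int.ofNat 1, Int.ofNat 1, Int.ofNat 1, Int.negSucc 0, Int.ofNat 1, Int.ofNat 1, Int.ofNat 1, Int.ofNat 1, Int.negSucc 0, Int.negSucc 0, Int.ofNat 1, Int.negSucc 0, Int.negSucc 0, Int.negSucc 0, Int.negSucc 0, Int.ofNat 1, Int.negSucc 0],
  [Int.ofNat 2, Int.negSucc 1, Int.ofNat 0, Int.negSucc 1, Int.ofNat 0, Int.ofNat 0, Int.ofNat 0, Int.ofNat 2, Int.ofNat 0, Int.ofNat 2, Int.ofNat 0, Int.ofNat 0, Int.ofNat 0, Int.ofNat 0, Int.ofNat 0, Int.ofNat 0, Int.negSucc 1, Int.ofNat 0, Int.negSucc 1, Int.ofNat 0, Int.ofNat 0, Int.ofNat 0, Int.ofNat 0, Int.ofNat 2],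
  [Int.negSucc 1, Int.ofNat 0, Int.ofNat 0, Int.ofNat 0, Int.ofNat 2, Int.ofNat 0, Int.ofNat 2, Int.ofNat 0, Int.ofNat 0, Int.ofNat 0, Int.ofNat 0, Int.ofNat 0, Int.ofNat 0, Int.negSucc 1, Int.ofNat 0, Int.negSucc 1, Int.ofNat 0, Int.ofNat 0, Int.ofNat 0, Int.ofNat 0, Int.ofNat 2, Int.negSucc 1, Int.ofNat 0, Int.ofNat 2],
  [Int.ofNat 2, Int.ofNat 0, Int.ofNat 0, Int.ofNat 0, Int.ofNat 2, Int.ofNat 0, Int.ofNat 2, Int.ofNat 0, Int.ofNat 0, Int.ofNat 0, Int.ofNat 0, Int.ofNat 0, Int.ofNat 0, Int.negSucc 1, Int.ofNat 0, Int.negSucc 1, Int.ofNat 0, Int.ofNat 0, Int.ofNat 0, Int.ofNat 0, Int.ofNat 2, Int.negSucc 1, Int.ofNat 0, Int.negSucc 1],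
  [Int.ofNat 2, Int.ofNat 2, Int.ofNat 2, Int.ofNat 0, Int.ofNat 0, Int.ofNat 0, Int.ofNat 0, Int.ofNat 0, Int.ofNat 0, Int.negSucc 1, Int.ofNat 2, Int.ofNat 0, Int.ofNat 0, Int.ofNat 0, Int.ofNat 0, Int.negSucc 1, Int.ofNat 0, Int.ofNat 0, Int.ofNat 0, Int.ofNat 0, Int.negSucc 1, Int.ofNat 0, Int.ofNat 0, Int.negSucc 1],
  [Int.ofNat 0, Int.ofNat 0, Int.ofNat 0, Int.ofNat 0, Int.ofNat 0, Int.ofNat 0, Int.ofNat 0, Int.ofNat 0, Int.ofNat 0, Int.ofNat 0, Int.ofNat 4, Int.ofNat 0, Int.ofNat 0, Int.ofNat 0, Int.ofNat 0, Int.ofNat 0, Int.ofNat 0, Int.ofNat 0, Int.ofNat 0, Int.ofNat 0, Int.ofNat 0, Int.ofNat 0, Int.ofNat 0, Int.ofNat 4],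
  [Int.ofNat 0, Int.ofNat 0, Int.ofNat 0, Int.ofNat 0, Int.ofNat 0, Int.ofNat 0, Int.ofNat 0, Int.ofNat 0, Int.ofNat 0, Int.ofNat 0, Int.negSucc 3, Int.ofNat 0, Int.ofNat 0, Int.ofNat 0, Int.ofNat 0, Int.ofNat 0, Int.ofNat 0, Int.ofNat 0, Int.ofNat 0, Int.ofNat 0, Int.ofNat 0, Int.ofNat 0, Int.ofNat 0, Int.ofNat 4],
  [Int.negSucc 3, Int.ofNat 0, Int.ofNat 0, Int.ofNat 0, Int.ofNat 0, Int.ofNat 0, Int.ofNat 0, Int.ofNat 0, Int.ofNat 0, Int.ofNat 0, Int.ofNat 0, Int.ofNat 0, Int.ofNat 0, Int.ofNat 0, Int.ofNat 0, Int.ofNat 0, Int.ofNat 0, Int.ofNat 0, Int.ofNat 0, Int.ofNat 0, Int.ofNat 0, Int.ofNat 0, Int.ofNat 0, Int.ofNat 4],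
  [Int.ofNat 4, Int.ofNat 0, Int.ofNat 0, Int.ofNat 0, Int.ofNat 0, Int.ofNat 0, Int.ofNat 0, Int.ofNat 0, Int.ofNat 0, Int.ofNat 0, Int.ofNat 0, Int.ofNat 0, Int.ofNat 0, Int.ofNat 0, Int.ofNat 0, Int.ofNat 0, Int.ofNat 0, Int.ofNat 0, Int.ofNat 0, Int.ofNat 0, Int.ofNat 0, Int.ofNat 0, Int.ofNat 0, Int.ofNat 4],
  [Int.ofNat 4, Int.ofNat 0, Int.ofNat 0, Int.ofNat 0, Int.ofNat 0, Int.ofNat 0, Int.ofNat 0, Int.ofNat 0, Int.ofNat 0, Int.ofNat 0, Int.ofNat 0, Int.ofNat 0, Int.ofNat 0, Int.ofNat 0, Int.ofNat 0, Int.ofNat 0, Int.ofNat 0, Int.ofNat 0, Int.ofNat 0, Int.ofNat 0, Int.ofNat 0, Int.ofNat 0, Int.ofNat 0, Int.ofNat 4],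
  [Int.negSucc 3, Int.ofNat 0, Int.ofNat 0, Int.ofNat 0, Int.ofNat 0, Int.ofNat 0, Int.ofNat 0, Int.ofNat 0, Int.ofNat 0, Int.ofNat 0, Int.ofNat 0, Int.ofNat 0, Int.ofNat 0, Int.ofNat 0, Int.ofNat 0, Int.ofNat 0, Int.ofNat 0, Int.ofNat 0, Int.ofNat 0, Int.ofNat 0, Int.ofNat 0, Int.ofNat 0, Int.ofNat 0, Int.ofNat 4],
  [Int.ofNat 0, Int.negSucc 3, Int.ofNat 0, Int.ofNat 0, Int.ofNat 0, Int.ofNat 0, Int.ofNat 0, Int.ofNat 0, Int.ofNat 0, Int.ofNat 0, Int.ofNat 0, Int.ofNat 0, Int.ofNat 0, Int.ofNat 0, Int.ofNat 0, Int.ofNat 0, Int.ofNat 0, Int.ofNat 0, Int.ofNat 0, Int.ofNat 0, Int.ofNat 0, Int.ofNat 0, Int.ofNat 0, Int.ofNat 4],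
  [Int.ofNat 0, Int.ofNat 4, Int.ofNat 0, Int.ofNat 0, Int.ofNat 0, Int.ofNat 0, Int.ofNat 0, Int.ofNat 0, Int.ofNat 0, Int.ofNat 0, Int.ofNat 0, Int.ofNat 0, Int.ofNat 0, Int.ofNat 0, Int.ofNat 0, Int.ofNat 0, Int.ofNat 0, Int.ofNat 0, Int.ofNat 0, Int.ofNat 0, Int.ofNat 0, Int.ofNat 0, Int.ofNat 0, Int.negSucc 3],
  [Int.ofNat 0, Int.ofNat 0, Int.ofNat 0, Int.ofNat 0, Int.ofNat 0, Int.ofNat 0, Int.ofNat 0, Int.ofNat 0, Int.ofNat 0, Int.ofNat 0, Int.ofNat 0, Int.ofNat 0, Int.ofNat 0, Int.ofNat 0, Int.ofNat 0, Int.ofNat 0, Int.ofNat 0, Int.ofNat 0, Int.ofNat 0, Int.ofNat 0, Int.ofNat 0, Int.ofNat 4, Int.ofNat 0, Int.negSucc 3],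
  [Int.negSucc 1, Int.negSucc 1, Int.negSucc 1, Int.ofNat 0, Int.ofNat 0, Int.ofNat 0, Int.negSucc 1, Int.negSucc 1, Int.ofNat 0, Int.ofNat 0, Int.ofNat 0, Int.ofNat 0, Int.ofNat 0, Int.ofNat 0, Int.ofNat 0, Int.ofNat 0, Int.ofNat 0, Int.ofNat 0, Int.ofNat 0, Int.negSucc 1, Int.ofNat 0, Int.ofNat 2, Int.ofNat 0, Int.ofNat 2],
  [Int.negSucc 1, Int.negSucc 1, Int.ofNat 0, Int.ofNat 0, Int.ofNat 0, Int.negSucc 1, Int.negSucc 1, Int.ofNat 0, Int.ofNat 0, Int.ofNat 0, Int.ofNat 0, Int.ofNat 0, Int.ofNat 0, Int.ofNat 0, Int.ofNat 0, Int.ofNat 0, Int.ofNat 0, Int.ofNat 0, Int.negSucc 1, Int.ofNat 0, Int.ofNat 2, Int.ofNat 0, Int.negSucc 1, Int.ofNat 2],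
  [Int.ofNat 1, Int.ofNat 1, Int.negSucc 0, Int.ofNat 1, Int.ofNat 1, Int.negSucc 0, Int.negSucc 0, Int.ofNat 1, Int.ofNat 1, Int.negSucc 0, Int.negSucc 0, Int.ofNat 1, Int.ofNat 1, Int.ofNat 1, Int.ofNat 1, Int.negSucc 0, Int.ofNat 1, Int.ofNat 1, Int.negSucc 0, Int.ofNat 1, Int.ofNat 1, Int.ofNat 1, Int.negSucc 0, Int.negSucc 2],
  [Int.ofNat 1, Int.ofNat 1, Int.ofNat 1, Int.ofNat 1, Int.ofNat 1, Int.ofNat 1, Int.ofNat 1, Int.ofNat 1, Int.ofNat 1, Int.ofNat 1, Int.ofNat 1, Int.ofNat 1, Int.ofNat 1, Int.ofNat 1, Int.ofNat 1, Int.ofNat 1, Int.ofNat 1, Int.ofNat 1, Int.ofNat 1, Int.ofNat 1, Int.ofNat 1, Int.ofNat 1, Int.ofNat 1, Int.negSucc 2],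
  [Int.ofNat 1, Int.ofNat 1, Int.ofNat 1, Int.ofNat 1, Int.ofNat 1, Int.ofNat 1, Int.ofNat 1, Int.ofNat 1, Int.ofNat 1, Int.ofNat 1, Int.ofNat 1, Int.ofNat 1, Int.ofNat 1, Int.ofNat 1, Int.ofNat 1, Int.ofNat 1, Int.ofNat 1, Int.ofNat 1, Int.ofNat 1, Int.ofNat 1, Int.ofNat 1, Int.ofNat 1, Int.ofNat 1, Int.negSucc 2]]

set_option maxRecDepth 100000 in
theorem c3te_chk : pmChk (List.replicate 22 [26, 25]).flatten nxL c3teM 0 0 = true := by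
  decide +kernel

theorem c3te_ne : wE letE2 (List.replicate 22 [26, 25]).flatten ≠ 1 ∧ wE letE2 (List.replicate 22 [26, 25]).flatten ≠ negElt :=
  ne_pm_of_chk nxL_mem c3te_chk

set_option maxRecDepth 100000 in
def c3etM : List (List ℤ) :=
  [[Int.negSucc 3, Int.ofNat 0, Int.ofNat 0, Int.ofNat 0, Int.ofNat 0, Int.ofNat 0, Int.ofNat 0, Int.ofNat 0, Int.ofNat 0, Int.ofNat 0, Int.ofNat 0, Int.ofNat 0, Int.ofNat 0, Int.ofNat 0, Int.ofNat 0, Int.ofNat 0, Int.ofNat 0, Int.ofNat 0, Int.ofNat 0, Int.ofNat 0, Int.ofNat 0, Int.ofNat 0, Int.ofNat 0, Int.ofNat 4],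
  [Int.ofNat 4, Int.ofNat 0, Int.ofNat 0, Int.ofNat 0, Int.ofNat 0, Int.ofNat 0, Int.ofNat 0, Int.ofNat 0, Int.ofNat 0, Int.ofNat 0, Int.ofNat 0, Int.ofNat 0, Int.ofNat 0, Int.ofNat 0, Int.ofNat 0, Int.ofNat 0, Int.ofNat 0, Int.ofNat 0, Int.ofNat 0, Int.ofNat 0, Int.ofNat 0, Int.ofNat 0, Int.ofNat 0, Int.ofNat 4],
  [Int.ofNat 0, Int.ofNat 4, Int.ofNat 0, Int.ofNat 0, Int.ofNat 0, Int.ofNat 0, Int.ofNat 0, Int.ofNat 0, Int.ofNat 0, Int.ofNat 0, Int.ofNat 0, Int.ofNat 0, Int.ofNat 0, Int.ofNat 0, Int.ofNat 0, Int.ofNat 0, Int.ofNat 0, Int.ofNat 0, Int.ofNat 0, Int.ofNat 0, Int.ofNat 0, Int.ofNat 0, Int.ofNat 0, Int.ofNat 4],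
  [Int.ofNat 4, Int.ofNat 0, Int.ofNat 4, Int.ofNat 0, Int.ofNat 0, Int.ofNat 0, Int.ofNat 0, Int.ofNat 0, Int.ofNat 0, Int.ofNat 0, Int.ofNat 0, Int.ofNat 0, Int.ofNat 0, Int.ofNat 0, Int.ofNat 0, Int.ofNat 0, Int.ofNat 0, Int.ofNat 0, Int.ofNat 0, Int.ofNat 0, Int.ofNat 0, Int.ofNat 0, Int.ofNat 0, Int.ofNat 0],
  [Int.ofNat 0, Int.ofNat 0, Int.ofNat 0, Int.ofNat 0, Int.ofNat 0, Int.ofNat 0, Int.ofNat 0, Int.ofNat 0, Int.ofNat 0, Int.ofNat 0, Int.ofNat 0, Int.ofNat 0, Int.ofNat 0, Int.ofNat 0, Int.ofNat 0, Int.ofNat 0, Int.ofNat 0, Int.ofNat 0, Int.ofNat 0, Int.ofNat 0, Int.ofNat 4, Int.ofNat 0, Int.ofNat 4, Int.ofNat 0],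
  [Int.ofNat 0, Int.ofNat 0, Int.ofNat 0, Int.ofNat 0, Int.negSucc 1, Int.ofNat 0, Int.ofNat 0, Int.ofNat 0, Int.ofNat 0, Int.negSucc 1, Int.negSucc 1, Int.ofNat 0, Int.ofNat 0, Int.negSucc 1, Int.ofNat 0, Int.negSucc 1, Int.negSucc 1, Int.ofNat 0, Int.ofNat 0, Int.ofNat 0, Int.ofNat 2, Int.ofNat 0, Int.ofNat 2, Int.ofNat 0],
  [Int.ofNat 0, Int.ofNat 0, Int.negSucc 1, Int.ofNat 0, Int.ofNat 0, Int.ofNat 0, Int.ofNat 0, Int.negSucc 1, Int.ofNat 0, Int.negSucc 1, Int.ofNat 2, Int.ofNat 0, Int.negSucc 1, Int.negSucc 1, Int.ofNat 2, Int.negSucc 1, Int.ofNat 0, Int.ofNat 0, Int.ofNat 0, Int.ofNat 0, Int.ofNat 0, Int.ofNat 0, Int.ofNat 0, Int.ofNat 0],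
  [Int.negSucc 0, Int.negSucc 0, Int.ofNat 1, Int.negSucc 0, Int.ofNat 1, Int.negSucc 0, Int.ofNat 1, Int.negSucc 0, Int.ofNat 1, Int.negSucc 0, Int.ofNat 3, Int.ofNat 1, Int.negSucc 0, Int.negSucc 0, Int.ofNat 1, Int.negSucc 0, Int.ofNat 1, Int.negSucc 0, Int.ofNat 1, Int.ofNat 1, Int.ofNat 1, Int.ofNat 1, Int.ofNat 1, Int.negSucc 0],
  [Int.negSucc 0, Int.negSucc 0, Int.negSucc 0, Int.negSucc 0, Int.ofNat 1, Int.ofNat 1, Int.negSucc 0, Int.negSucc 0, Int.ofNat 1, Int.ofNat 1, Int.negSucc 2, Int.ofNat 1, Int.negSucc 0, Int.negSucc 0, Int.ofNat 1, Int.ofNat 1, Int.ofNat 1, Int.negSucc 0, Int.negSucc 0, Int.ofNat 1, Int.ofNat 1, Int.ofNat 1, Int.negSucc 0, Int.negSucc 0],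
  [Int.negSucc 2, Int.ofNat 1, Int.ofNat 1, Int.ofNat 1, Int.ofNat 1, Int.negSucc 0, Int.ofNat 1, Int.negSucc 0, Int.ofNat 1, Int.ofNat 1, Int.negSucc 0, Int.negSucc 0, Int.ofNat 1, Int.ofNat 1, Int.negSucc 0, Int.negSucc 0, Int.ofNat 1, Int.negSucc 0, Int.ofNat 1, Int.negSucc 0, Int.negSucc 0, Int.negSucc 0, Int.negSucc 0, Int.negSucc 0],
  [Int.ofNat 3, Int.negSucc 0, Int.negSucc 0, Int.negSucc 0, Int.negSucc 0, Int.negSucc 0, Int.negSucc 0, Int.negSucc 0, Int.negSucc 0, Int.negSucc 0, Int.negSucc 0, Int.negSucc 0, Int.negSucc 0, Int.negSucc 0, Int.negSucc 0, Int.negSucc 0, Int.negSucc 0, Int.negSucc 0, Int.negSucc 0, Int.negSucc 0, Int.negSucc 0, Int.negSucc 0, Int.negSucc 0, Int.negSucc 0],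
  [Int.ofNat 3, Int.negSucc 0, Int.negSucc 0, Int.negSucc 0, Int.negSucc 0, Int.negSucc 0, Int.negSucc 0, Int.negSucc 0, Int.negSucc 0, Int.negSucc 0, Int.negSucc 0, Int.negSucc 0, Int.negSucc 0, Int.negSucc 0, Int.negSucc 0, Int.negSucc 0, Int.negSucc 0, Int.negSucc 0, Int.negSucc 0, Int.negSucc 0, Int.negSucc 0, Int.negSucc 0, Int.negSucc 0, Int.negSucc 0],
  [Int.negSucc 2, Int.negSucc 0, Int.ofNat 1, Int.negSucc 0, Int.negSucc 0, Int.negSucc 0, Int.negSucc 0, Int.ofNat 1, Int.negSucc 0, Int.ofNat 1, Int.ofNat 1, Int.ofNat 1, Int.negSucc 0, Int.negSucc 0, Int.negSucc 0, Int.negSucc 0, Int.negSucc 0, Int.negSucc 0, Int.ofNat 1, Int.negSucc 0, Int.negSucc 0, Int.ofNat 1, Int.negSucc 0, Int.negSucc 0],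
  [Int.negSucc 0, Int.negSucc 2, Int.negSucc 0, Int.ofNat 1, Int.negSucc 0, Int.negSucc 0, Int.negSucc 0, Int.negSucc 0, Int.ofNat 1, Int.negSucc 0, Int.ofNat 1, Int.ofNat 1, Int.ofNat 1, Int.negSucc 0, Int.negSucc 0, Int.negSucc 0, Int.negSucc 0, Int.negSucc 0, Int.negSucc 0, Int.ofNat 1, Int.negSucc 0, Int.negSucc 0, Int.ofNat 1, Int.negSucc 0],
  [Int.negSucc 1, Int.ofNat 0, Int.negSucc 1, Int.ofNat 2, Int.ofNat 0, Int.ofNat 0, Int.ofNat 0, Int.ofNat 0, Int.ofNat 0, Int.ofNat 0, Int.ofNat 2, Int.ofNat 0, Int.ofNat 0, Int.ofNat 0, Int.ofNat 0, Int.ofNat 0, Int.ofNat 0, Int.ofNat 0, Int.negSucc 1, Int.ofNat 2, Int.ofNat 0, Int.ofNat 0, Int.ofNat 2, Int.negSucc 1],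
  [Int.ofNat 2, Int.ofNat 0, Int.ofNat 0, Int.ofNat 0, Int.ofNat 0, Int.ofNat 0, Int.ofNat 0, Int.ofNat 2, Int.ofNat 0, Int.ofNat 0, Int.ofNat 0, Int.ofNat 0, Int.ofNat 0, Int.ofNat 0, Int.ofNat 0, Int.negSucc 1, Int.ofNat 2, Int.ofNat 0, Int.ofNat 0, Int.ofNat 2, Int.negSucc 1, Int.ofNat 0, Int.negSucc 1, Int.negSucc 1],
  [Int.negSucc 1, Int.ofNat 0, Int.ofNat 0, Int.ofNat 0, Int.ofNat 0, Int.ofNat 0, Int.negSucc 1, Int.ofNat 0, Int.ofNat 0, Int.ofNat 2, Int.ofNat 2, Int.ofNat 0, Int.ofNat 0, Int.ofNat 0, Int.ofNat 0, Int.ofNat 0, Int.ofNat 2, Int.ofNat 0, Int.ofNat 0, Int.ofNat 0, Int.ofNat 0, Int.negSucc 1, Int.negSucc 1, Int.ofNat 2],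
  [Int.negSucc 1, Int.negSucc 1, Int.ofNat 0, Int.ofNat 0, Int.ofNat 0, Int.ofNat 0, Int.ofNat 0, Int.ofNat 2, Int.ofNat 0, Int.ofNat 0, Int.ofNat 0, Int.ofNat 0, Int.ofNat 2, Int.ofNat 2, Int.negSucc 1, Int.ofNat 0, Int.ofNat 0, Int.ofNat 0, Int.ofNat 0, Int.ofNat 0, Int.negSucc 1, Int.ofNat 0, Int.ofNat 0, Int.ofNat 2],
  [Int.ofNat 1, Int.ofNat 1, Int.negSucc 0, Int.ofNat 1, Int.negSucc 0, Int.ofNat 1, Int.negSucc 0, Int.ofNat 1, Int.negSucc 0, Int.ofNat 1, Int.ofNat 1, Int.negSucc 0, Int.ofNat 1, Int.ofNat 1, Int.negSucc 0, Int.ofNat 1, Int.negSucc 0, Int.ofNat 1, Int.negSucc 0, Int.negSucc 0, Int.negSucc 0, Int.negSucc 0, Int.negSucc 0, Int.negSucc 2],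
  [Int.ofNat 1, Int.ofNat 1, Int.ofNat 1, Int.ofNat 1, Int.negSucc 0, Int.negSucc 0, Int.ofNat 1, Int.ofNat 1, Int.negSucc 0, Int.negSucc 0, Int.negSucc 0, Int.negSucc 0, Int.ofNat 1, Int.ofNat 1, Int.negSucc 0, Int.negSucc 0, Int.negSucc 0, Int.ofNat 1, Int.ofNat 1, Int.negSucc 0, Int.negSucc 0, Int.negSucc 0, Int.ofNat 1, Int.negSucc 2],
  [Int.negSucc 0, Int.negSucc 0, Int.negSucc 0, Int.negSucc 0, Int.negSucc 0, Int.ofNat 1, Int.negSucc 0, Int.ofNat 1, Int.negSucc 0, Int.negSucc 0, Int.ofNat 1, Int.ofNat 1, Int.negSucc 0, Int.negSucc 0, Int.ofNat 1, Int.ofNat 1, Int.negSucc 0, Int.ofNat 1, Int.negSucc 0, Int.ofNat 1, Int.ofNat 1, Int.ofNat 1, Int.ofNat 1, Int.negSucc 2],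
  [Int.ofNat 1, Int.ofNat 1, Int.ofNat 1, Int.ofNat 1, Int.ofNat 1, Int.ofNat 1, Int.ofNat 1, Int.ofNat 1, Int.ofNat 1, Int.ofNat 1, Int.ofNat 1, Int.ofNat 1, Int.ofNat 1, Int.ofNat 1, Int.ofNat 1, Int.ofNat 1, Int.ofNat 1, Int.ofNat 1, Int.ofNat 1, Int.ofNat 1, Int.ofNat 1, Int.ofNat 1, Int.ofNat 1, Int.negSucc 2],
  [Int.ofNat 1, Int.ofNat 1, Int.ofNat 1, Int.ofNat 1, Int.ofNat 1, Int.ofNat 1, Int.ofNat 1, Int.ofNat 1, Int.ofNat 1, Int.ofNat 1, Int.ofNat 1, Int.ofNat 1, Int.ofNat 1, Int.ofNat 1, Int.ofNat 1, Int.ofNat 1, Int.ofNat 1, Int.ofNat 1, Int.ofNat 1, Int.ofNat 1, Int.ofNat 1, Int.ofNat 1, Int.ofNat 1, Int.negSucc 2],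
  [Int.negSucc 0, Int.ofNat 1, Int.negSucc 0, Int.ofNat 1, Int.ofNat 1, Int.ofNat 1, Int.ofNat 1, Int.negSucc 0, Int.ofNat 1, Int.negSucc 0, Int.negSucc 0, Int.negSucc 0, Int.ofNat 1, Int.ofNat 1, Int.ofNat 1, Int.ofNat 1, Int.ofNat 1, Int.ofNat 1, Int.negSucc 0, Int.ofNat 1, Int.ofNat 1, Int.negSucc 0, Int.ofNat 1, Int.negSucc 2],
  [Int.ofNat 1, Int.negSucc 0, Int.ofNat 1, Int.negSucc 0, Int.ofNat 1, Int.ofNat 1, Int.ofNat 1, Int.ofNat 1, Int.negSucc 0, Int.ofNat 1, Int.negSucc 0, Int.negSucc 0, Int.negSucc 0, Int.ofNat 1, Int.ofNat 1, Int.ofNat 1, Int.ofNat 1, Int.ofNat 1, Int.ofNat 1, Int.negSucc 0, Int.ofNat 1, Int.ofNat 1, Int.negSucc 0, Int.negSucc 2],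
  [Int.negSucc 1, Int.ofNat 0, Int.negSucc 1, Int.negSucc 1, Int.ofNat 0, Int.ofNat 0, Int.ofNat 0, Int.ofNat 0, Int.ofNat 0, Int.ofNat 0, Int.negSucc 1, Int.ofNat 0, Int.ofNat 0, Int.ofNat 0, Int.ofNat 0, Int.ofNat 0, Int.ofNat 0, Int.ofNat 0, Int.ofNat 2, Int.negSucc 1, Int.ofNat 0, Int.ofNat 0, Int.negSucc 1, Int.ofNat 2],
  [Int.negSucc 1, Int.ofNat 0, Int.ofNat 0, Int.ofNat 0, Int.ofNat 0, Int.ofNat 0, Int.ofNat 0, Int.negSucc 1, Int.ofNat 0, Int.ofNat 0, Int.ofNat 0, Int.ofNat 0, Int.ofNat 0, Int.ofNat 0, Int.ofNat 0, Int.ofNat 2, Int.negSucc 1, Int.ofNat 0, Int.ofNat 0, Int.negSucc 1, Int.negSucc 1, Int.ofNat 0, Int.negSucc 1, Int.ofNat 2],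
  [Int.ofNat 2, Int.ofNat 0, Int.ofNat 0, Int.ofNat 0, Int.ofNat 2, Int.ofNat 0, Int.ofNat 2, Int.ofNat 0, Int.ofNat 0, Int.ofNat 0, Int.ofNat 0, Int.ofNat 0, Int.ofNat 0, Int.ofNat 2, Int.ofNat 0, Int.ofNat 2, Int.ofNat 0, Int.ofNat 0, Int.ofNat 0, Int.ofNat 0, Int.negSucc 1, Int.ofNat 2, Int.ofNat 0, Int.negSucc 1],
  [Int.ofNat 2, Int.ofNat 2, Int.ofNat 2, Int.ofNat 0, Int.ofNat 0, Int.ofNat 0, Int.ofNat 0, Int.ofNat 0, Int.ofNat 0, Int.ofNat 2, Int.negSucc 1, Int.ofNat 0, Int.ofNat 0, Int.ofNat 0, Int.ofNat 0, Int.ofNat 2, Int.ofNat 0, Int.ofNat 0, Int.ofNat 0, Int.ofNat 0, Int.ofNat 2, Int.ofNat 0, Int.ofNat 0, Int.negSucc 1],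
  [Int.ofNat 0, Int.ofNat 0, Int.ofNat 0, Int.ofNat 0, Int.ofNat 0, Int.ofNat 0, Int.ofNat 0, Int.ofNat 0, Int.ofNat 0, Int.ofNat 0, Int.negSucc 3, Int.ofNat 0, Int.ofNat 0, Int.ofNat 0, Int.ofNat 0, Int.ofNat 0, Int.ofNat 0, Int.ofNat 0, Int.ofNat 0, Int.ofNat 0, Int.ofNat 0, Int.ofNat 0, Int.ofNat 0, Int.ofNat 4],
  [Int.ofNat 0, Int.ofNat 0, Int.ofNat 0, Int.ofNat 0, Int.ofNat 0, Int.ofNat 0, Int.ofNat 0, Int.ofNat 0, Int.ofNat 0, Int.ofNat 0, Int.ofNat 4, Int.ofNat 0, Int.ofNat 0, Int.ofNat 0, Int.ofNat 0, Int.ofNat 0, Int.ofNat 0, Int.ofNat 0, Int.ofNat 0, Int.ofNat 0, Int.ofNat 0, Int.ofNat 0, Int.ofNat 0, Int.ofNat 4],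
  [Int.ofNat 4, Int.ofNat 0, Int.ofNat 0, Int.ofNat 0, Int.ofNat 0, Int.ofNat 0, Int.ofNat 0, Int.ofNat 0, Int.ofNat 0, Int.ofNat 0, Int.ofNat 0, Int.ofNat 0, Int.ofNat 0, Int.ofNat 0, Int.ofNat 0, Int.ofNat 0, Int.ofNat 0, Int.ofNat 0, Int.ofNat 0, Int.ofNat 0, Int.ofNat 0, Int.ofNat 0, Int.ofNat 0, Int.ofNat 4],
  [Int.negSucc 3, Int.ofNat 0, Int.ofNat 0, Int.ofNat 0, Int.ofNat 0, Int.ofNat 0, Int.ofNat 0, Int.ofNat 0, Int.ofNat 0, Int.ofNat 0, Int.ofNat 0, Int.ofNat 0, Int.ofNat 0, Int.ofNat 0, Int.ofNat 0, Int.ofNat 0, Int.ofNat 0, Int.ofNat 0, Int.ofNat 0, Int.ofNat 0, Int.ofNat 0, Int.ofNat 0, Int.ofNat 0, Int.ofNat 4],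
  [Int.negSucc 3, Int.ofNat 0, Int.ofNat 0, Int.ofNat 0, Int.ofNat 0, Int.ofNat 0, Int.ofNat 0, Int.ofNat 0, Int.ofNat 0, Int.ofNat 0, Int.ofNat 0, Int.ofNat 0, Int.ofNat 0, Int.ofNat 0, Int.ofNat 0, Int.ofNat 0, Int.ofNat 0, Int.ofNat 0, Int.ofNat 0, Int.ofNat 0, Int.ofNat 0, Int.ofNat 0, Int.ofNat 0, Int.ofNat 4],
  [Int.ofNat 4, Int.ofNat 0, Int.ofNat 0, Int.ofNat 0, Int.ofNat 0, Int.ofNat 0, Int.ofNat 0, Int.ofNat 0, Int.ofNat 0, Int.ofNat 0, Int.ofNat 0, Int.ofNat 0, Int.ofNat 0, Int.ofNat 0, Int.ofNat 0, Int.ofNat 0, Int.ofNat 0, Int.ofNat 0, Int.ofNat 0, Int.ofNat 0, Int.ofNat 0, Int.ofNat 0, Int.ofNat 0, Int.ofNat 4],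
  [Int.ofNat 0, Int.ofNat 4, Int.ofNat 0, Int.ofNat 0, Int.ofNat 0, Int.ofNat 0, Int.ofNat 0, Int.ofNat 0, Int.ofNat 0, Int.ofNat 0, Int.ofNat 0, Int.ofNat 0, Int.ofNat 0, Int.ofNat 0, Int.ofNat 0, Int.ofNat 0, Int.ofNat 0, Int.ofNat 0, Int.ofNat 0, Int.ofNat 0, Int.ofNat 0, Int.ofNat 0, Int.ofNat 0, Int.ofNat 4],
  [Int.ofNat 4, Int.ofNat 0, Int.ofNat 4, Int.ofNat 0, Int.ofNat 0, Int.ofNat 0, Int.ofNat 0, Int.ofNat 0, Int.ofNat 0, Int.ofNat 0, Int.ofNat 0, Int.ofNat 0, Int.ofNat 0, Int.ofNat 0, Int.ofNat 0, Int.ofNat 0, Int.ofNat 0, Int.ofNat 0, Int.ofNat 0, Int.ofNat 0, Int.ofNat 0, Int.ofNat 0, Int.ofNat 0, Int.ofNat 0],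
  [Int.ofNat 0, Int.ofNat 0, Int.ofNat 0, Int.ofNat 0, Int.ofNat 0, Int.ofNat 0, Int.ofNat 0, Int.ofNat 0, Int.ofNat 0, Int.ofNat 0, Int.ofNat 0, Int.ofNat 0, Int.ofNat 0, Int.ofNat 0, Int.ofNat 0, Int.ofNat 0, Int.ofNat 0, Int.ofNat 0, Int.ofNat 0, Int.ofNat 0, Int.ofNat 4, Int.ofNat 0, Int.ofNat 4, Int.ofNat 0],
  [Int.ofNat 0, Int.ofNat 0, Int.ofNat 0, Int.ofNat 0, Int.negSucc 1, Int.ofNat 0, Int.ofNat 0, Int.ofNat 0, Int.ofNat 0, Int.negSucc 1, Int.negSucc 1, Int.ofNat 0, Int.ofNat 0, Int.negSucc 1, Int.ofNat 0, Int.negSucc 1, Int.negSucc 1, Int.ofNat 0, Int.ofNat 0, Int.ofNat 0, Int.ofNat 2, Int.ofNat 0, Int.ofNat 2, Int.ofNat 0],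
  [Int.ofNat 0, Int.ofNat 0, Int.negSucc 1, Int.ofNat 0, Int.ofNat 0, Int.ofNat 0, Int.ofNat 0, Int.negSucc 1, Int.ofNat 0, Int.negSucc 1, Int.ofNat 2, Int.ofNat 0, Int.negSucc 1, Int.negSucc 1, Int.ofNat 2, Int.negSucc 1, Int.ofNat 0, Int.ofNat 0, Int.ofNat 0, Int.ofNat 0, Int.ofNat 0, Int.ofNat 0, Int.ofNat 0, Int.ofNat 0],
  [Int.negSucc 0, Int.negSucc 0, Int.ofNat 1, Int.negSucc 0, Int.ofNat 1, Int.negSucc 0, Int.ofNat 1, Int.negSucc 0, Int.ofNat 1, Int.negSucc 0, Int.ofNat 3, Int.ofNat 1, Int.negSucc 0, Int.negSucc 0, Int.ofNat 1, Int.negSucc 0, Int.ofNat 1, Int.negSucc 0, Int.ofNat 1, Int.ofNat 1, Int.ofNat 1, Int.ofNat 1, Int.ofNat 1, Int.negSucc 0],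
  [Int.negSucc 0, Int.negSucc 0, Int.negSucc 0, Int.negSucc 0, Int.ofNat 1, Int.ofNat 1, Int.negSucc 0, Int.negSucc 0, Int.ofNat 1, Int.ofNat 1, Int.negSucc 2, Int.ofNat 1, Int.negSucc 0, Int.negSucc 0, Int.ofNat 1, Int.ofNat 1, Int.ofNat 1, Int.negSucc 0, Int.negSucc 0, Int.ofNat 1, Int.ofNat 1, Int.ofNat 1, Int.negSucc 0, Int.negSucc 0],
  [Int.negSucc 2, Int.ofNat 1, Int.ofNat 1, Int.ofNat 1, Int.ofNat 1, Int.negSucc 0, Int.ofNat 1, Int.negSucc 0, Int.ofNat 1, Int.ofNat 1, Int.negSucc 0, Int.negSucc 0, Int.ofNat 1, Int.ofNat 1, Int.negSucc 0, Int.negSucc 0, Int.ofNat 1, Int.negSucc 0, Int.ofNat 1, Int.negSucc 0, Int.negSucc 0, Int.negSucc 0, Int.negSucc 0, Int.negSucc 0],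
  [Int.ofNat 3, Int.negSucc 0, Int.negSucc 0, Int.negSucc 0, Int.negSucc 0, Int.negSucc 0, Int.negSucc 0, Int.negSucc 0, Int.negSucc 0, Int.negSucc 0, Int.negSucc 0, Int.negSucc 0, Int.negSucc 0, Int.negSucc 0, Int.negSucc 0, Int.negSucc 0, Int.negSucc 0, Int.negSucc 0, Int.negSucc 0, Int.negSucc 0, Int.negSucc 0, Int.negSucc 0, Int.negSucc 0, Int.negSucc 0],
  [Int.ofNat 3, Int.negSucc 0, Int.negSucc 0, Int.negSucc 0, Int.negSucc 0, Int.negSucc 0, Int.negSucc 0, Int.negSucc 0, Int.negSucc 0, Int.negSucc 0, Int.negSucc 0, Int.negSucc 0, Int.negSucc 0, Int.negSucc 0, Int.negSucc 0, Int.negSucc 0, Int.negSucc 0, Int.negSucc 0, Int.negSucc 0, Int.negSucc 0, Int.negSucc 0, Int.negSucc 0, Int.negSucc 0, Int.negSucc 0],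
  [Int.negSucc 2, Int.negSucc 0, Int.ofNat 1, Int.negSucc 0, Int.negSucc 0, Int.negSucc 0, Int.negSucc 0, Int.ofNat 1, Int.negSucc 0, Int.ofNat 1, Int.ofNat 1, Int.ofNat 1, Int.negSucc 0, Int.negSucc 0, Int.negSucc 0, Int.negSucc 0, Int.negSucc 0, Int.negSucc 0, Int.ofNat 1, Int.negSucc 0, Int.negSucc 0, Int.ofNat 1, Int.negSucc 0, Int.negSucc 0],
  [Int.negSucc 0, Int.negSucc 2, Int.negSucc 0, Int.ofNat 1, Int.negSucc 0, Int.negSucc 0, Int.negSucc 0, Int.negSucc 0, Int.ofNat 1, Int.negSucc 0, Int.ofNat 1, Int.ofNat 1, Int.ofNat 1, Int.negSucc 0, Int.negSucc 0, Int.negSucc 0, Int.negSucc 0, Int.negSucc 0, Int.negSucc 0, Int.ofNat 1, Int.negSucc 0, Int.negSucc 0, Int.ofNat 1, Int.negSucc 0],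
  [Int.negSucc 1, Int.ofNat 0, Int.negSucc 1, Int.ofNat 2, Int.ofNat 0, Int.ofNat 0, Int.ofNat 0, Int.ofNat 0, Int.ofNat 0, Int.ofNat 0, Int.ofNat 2, Int.ofNat 0, Int.ofNat 0, Int.ofNat 0, Int.ofNat 0, Int.ofNat 0, Int.ofNat 0, Int.ofNat 0, Int.negSucc 1, Int.ofNat 2, Int.ofNat 0, Int.ofNat 0, Int.ofNat 2, Int.negSucc 1],
  [Int.ofNat 2, Int.ofNat 0, Int.ofNat 0, Int.ofNat 0, Int.ofNat 0, Int.ofNat 0, Int.ofNat 0, Int.ofNat 2, Int.ofNat 0, Int.ofNat 0, Int.ofNat 0, Int.ofNat 0, Int.ofNat 0, Int.ofNat 0, Int.ofNat 0, Int.negSucc 1, Int.ofNat 2, Int.ofNat 0, Int.ofNat 0, Int.ofNat 2, Int.negSucc 1, Int.ofNat 0, Int.negSucc 1, Int.negSucc 1],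
  [Int.negSucc 1, Int.ofNat 0, Int.ofNat 0, Int.ofNat 0, Int.ofNat 0, Int.ofNat 0, Int.negSucc 1, Int.ofNat 0, Int.ofNat 0, Int.ofNat 2, Int.ofNat 2, Int.ofNat 0, Int.ofNat 0, Int.ofNat 0, Int.ofNat 0, Int.ofNat 0, Int.ofNat 2, Int.ofNat 0, Int.ofNat 0, Int.ofNat 0, Int.ofNat 0, Int.negSucc 1, Int.negSucc 1, Int.ofNat 2],
  [Int.negSucc 1, Int.negSucc 1, Int.ofNat 0, Int.ofNat 0, Int.ofNat 0, Int.ofNat 0, Int.ofNat 0, Int.ofNat 2, Int.ofNat 0, Int.ofNat 0, Int.ofNat 0, Int.ofNat 0, Int.ofNat 2, Int.ofNat 2, Int.negSucc 1, Int.ofNat 0, Int.ofNat 0, Int.ofNat 0, Int.ofNat 0, Int.ofNat 0, Int.negSucc 1, Int.ofNat 0, Int.ofNat 0, Int.ofNat 2],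
  [Int.ofNat 1, Int.ofNat 1, Int.negSucc 0, Int.ofNat 1, Int.negSucc 0, Int.ofNat 1, Int.negSucc 0, Int.ofNat 1, Int.negSucc 0, Int.ofNat 1, Int.ofNat 1, Int.negSucc 0, Int.ofNat 1, Int.ofNat 1, Int.negSucc 0, Int.ofNat 1, Int.negSucc 0, Int.ofNat 1, Int.negSucc 0, Int.negSucc 0, Int.negSucc 0, Int.negSucc 0, Int.negSucc 0, Int.negSucc 2],
  [Int.ofNat 1, Int.ofNat 1, Int.ofNat 1, Int.ofNat 1, Int.negSucc 0, Int.negSucc 0, Int.ofNat 1, Int.ofNat 1, Int.negSucc 0, Int.negSucc 0, Int.negSucc 0, Int.negSucc 0, Int.ofNat 1, Int.ofNat 1, Int.negSucc 0, Int.negSucc 0, Int.negSucc 0, Int.ofNat 1, Int.ofNat 1, Int.negSucc 0, Int.negSucc 0, Int.negSucc 0, Int.ofNat 1, Int.negSucc 2],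
  [Int.negSucc 0, Int.negSucc 0, Int.negSucc 0, Int.negSucc 0, Int.negSucc 0, Int.ofNat 1, Int.negSucc 0, Int.ofNat 1, Int.negSucc 0, Int.negSucc 0, Int.ofNat 1, Int.ofNat 1, Int.negSucc 0, Int.negSucc 0, Int.ofNat 1, Int.ofNat 1, Int.negSucc 0, Int.ofNat 1, Int.negSucc 0, Int.ofNat 1, Int.ofNat 1, Int.ofNat 1, Int.ofNat 1, Int.negSucc 2],
  [Int.ofNat 1, Int.ofNat 1, Int.ofNat 1, Int.ofNat 1, Int.ofNat 1, Int.ofNat 1, Int.ofNat 1, Int.ofNat 1, Int.ofNat 1, Int.ofNat 1, Int.ofNat 1, Int.ofNat 1, Int.ofNat 1, Int.ofNat 1, Int.ofNat 1, Int.ofNat 1, Int.ofNat 1, Int.ofNat 1, Int.ofNat 1, Int.ofNat 1, Int.ofNat 1, Int.ofNat 1, Int.ofNat 1, Int.negSucc 2],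
  [Int.ofNat 1, Int.ofNat 1, Int.ofNat 1, Int.ofNat 1, Int.ofNat 1, Int.ofNat 1, Int.ofNat 1, Int.ofNat 1, Int.ofNat 1, Int.ofNat 1, Int.ofNat 1, Int.ofNat 1, Int.ofNat 1, Int.ofNat 1, Int.ofNat 1, Int.ofNat 1, Int.ofNat 1, Int.ofNat 1, Int.ofNat 1, Int.ofNat 1, Int.ofNat 1, Int.ofNat 1, Int.ofNat 1, Int.negSucc 2],
  [Int.negSucc 0, Int.ofNat 1, Int.negSucc 0, Int.ofNat 1, Int.ofNat 1, Int.ofNat 1, Int.ofNat 1, Int.negSucc 0, Int.ofNat 1, Int.negSucc 0, Int.negSucc 0, Int.negSucc 0, Int.ofNat 1, Int.ofNat 1, Int.ofNat 1, Int.ofNat 1, Int.ofNat 1, Int.ofNat 1, Int.negSucc 0, Int.ofNat 1, Int.ofNat 1, Int.negSucc 0, Int.ofNat 1, Int.negSucc 2],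
  [Int.ofNat 1, Int.negSucc 0, Int.ofNat 1, Int.negSucc 0, Int.ofNat 1, Int.ofNat 1, Int.ofNat 1, Int.ofNat 1, Int.negSucc 0, Int.ofNat 1, Int.negSucc 0, Int.negSucc 0, Int.negSucc 0, Int.ofNat 1, Int.ofNat 1, Int.ofNat 1, Int.ofNat 1, Int.ofNat 1, Int.ofNat 1, Int.negSucc 0, Int.ofNat 1, Int.ofNat 1, Int.negSucc 0, Int.negSucc 2],
  [Int.negSucc 1, Int.ofNat 0, Int.negSucc 1, Int.negSucc 1, Int.ofNat 0, Int.ofNat 0, Int.ofNat 0, Int.ofNat 0, Int.ofNat 0, Int.ofNat 0, Int.negSucc 1, Int.ofNat 0, Int.ofNat 0, Int.ofNat 0, Int.ofNat 0, Int.ofNat 0, Int.ofNat 0, Int.ofNat 0, Int.ofNat 2, Int.negSucc 1, Int.ofNat 0, Int.ofNat 0, Int.negSucc 1, Int.ofNat 2],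
  [Int.negSucc 1, Int.ofNat 0, Int.ofNat 0, Int.ofNat 0, Int.ofNat 0, Int.ofNat 0, Int.ofNat 0, Int.negSucc 1, Int.ofNat 0, Int.ofNat 0, Int.ofNat 0, Int.ofNat 0, Int.ofNat 0, Int.ofNat 0, Int.ofNat 0, Int.ofNat 2, Int.negSucc 1, Int.ofNat 0, Int.ofNat 0, Int.negSucc 1, Int.negSucc 1, Int.ofNat 0, Int.negSucc 1, Int.ofNat 2],
  [Int.ofNat 2, Int.ofNat 0, Int.ofNat 0, Int.ofNat 0, Int.ofNat 2, Int.ofNat 0, Int.ofNat 2, Int.ofNat 0, Int.ofNat 0, Int.ofNat 0, Int.ofNat 0, Int.ofNat 0, Int.ofNat 0, Int.ofNat 2, Int.ofNat 0, Int.ofNat 2, Int.ofNat 0, Int.ofNat 0, Int.ofNat 0, Int.ofNat 0, Int.negSucc 1, Int.ofNat 2, Int.ofNat 0, Int.negSucc 1],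
  [Int.ofNat 2, Int.ofNat 2, Int.ofNat 2, Int.ofNat 0, Int.ofNat 0, Int.ofNat 0, Int.ofNat 0, Int.ofNat 0, Int.ofNat 0, Int.ofNat 2, Int.negSucc 1, Int.ofNat 0, Int.ofNat 0, Int.ofNat 0, Int.ofNat 0, Int.ofNat 2, Int.ofNat 0, Int.ofNat 0, Int.ofNat 0, Int.ofNat 0, Int.ofNat 2, Int.ofNat 0, Int.ofNat 0, Int.negSucc 1],
  [Int.ofNat 0, Int.ofNat 0, Int.ofNat 0, Int.ofNat 0, Int.ofNat 0, Int.ofNat 0, Int.ofNat 0, Int.ofNat 0, Int.ofNat 0, Int.ofNat 0, Int.negSucc 3, Int.ofNat 0, Int.ofNat 0, Int.ofNat 0, Int.ofNat 0, Int.ofNat 0, Int.ofNat 0, Int.ofNat 0, Int.ofNat 0, Int.ofNat 0, Int.ofNat 0, Int.ofNat 0, Int.ofNat 0, Int.ofNat 4],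
  [Int.ofNat 0, Int.ofNat 0, Int.ofNat 0, Int.ofNat 0, Int.ofNat 0, Int.ofNat 0, Int.ofNat 0, Int.ofNat 0, Int.ofNat 0, Int.ofNat 0, Int.ofNat 4, Int.ofNat 0, Int.ofNat 0, Int.ofNat 0, Int.ofNat 0, Int.ofNat 0, Int.ofNat 0, Int.ofNat 0, Int.ofNat 0, Int.ofNat 0, Int.ofNat 0, Int.ofNat 0, Int.ofNat 0, Int.ofNat 4],
  [Int.ofNat 4, Int.ofNat 0, Int.ofNat 0, Int.ofNat 0, Int.ofNat 0, Int.ofNat 0, Int.ofNat 0, Int.ofNat 0, Int.ofNat 0, Int.ofNat 0, Int.ofNat 0, Int.ofNat 0, Int.ofNat 0, Int.ofNat 0, Int.ofNat 0, Int.ofNat 0, Int.ofNat 0, Int.ofNat 0, Int.ofNat 0, Int.ofNat 0, Int.ofNat 0, Int.ofNat 0, Int.ofNat 0, Int.ofNat 4],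
  [Int.negSucc 3, Int.ofNat 0, Int.ofNat 0, Int.ofNat 0, Int.ofNat 0, Int.ofNat 0, Int.ofNat 0, Int.ofNat 0, Int.ofNat 0, Int.ofNat 0, Int.ofNat 0, Int.ofNat 0, Int.ofNat 0, Int.ofNat 0, Int.ofNat 0, Int.ofNat 0, Int.ofNat 0, Int.ofNat 0, Int.ofNat 0, Int.ofNat 0, Int.ofNat 0, Int.ofNat 0, Int.ofNat 0, Int.ofNat 4],
  [Int.negSucc 3, Int.ofNat 0, Int.ofNat 0, Int.ofNat 0, Int.ofNat 0, Int.ofNat 0, Int.ofNat 0, Int.ofNat 0, Int.ofNat 0, Int.ofNat 0, Int.ofNat 0, Int.ofNat 0, Int.ofNat 0, Int.ofNat 0, Int.ofNat 0, Int.ofNat 0, Int.ofNat 0, Int.ofNat 0, Int.ofNat 0, Int.ofNat 0, Int.ofNat 0, Int.ofNat 0, Int.ofNat 0, Int.ofNat 4],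
  [Int.ofNat 4, Int.ofNat 0, Int.ofNat 0, Int.ofNat 0, Int.ofNat 0, Int.ofNat 0, Int.ofNat 0, Int.ofNat 0, Int.ofNat 0, Int.ofNat 0, Int.ofNat 0, Int.ofNat 0, Int.ofNat 0, Int.ofNat 0, Int.ofNat 0, Int.ofNat 0, Int.ofNat 0, Int.ofNat 0, Int.ofNat 0, Int.ofNat 0, Int.ofNat 0, Int.ofNat 0, Int.ofNat 0, Int.ofNat 4],
  [Int.ofNat 0, Int.ofNat 4, Int.ofNat 0, Int.ofNat 0, Int.ofNat 0, Int.ofNat 0, Int.ofNat 0, Int.ofNat 0, Int.ofNat 0, Int.ofNat 0, Int.ofNat 0, Int.ofNat 0, Int.ofNat 0, Int.ofNat 0, Int.ofNat 0, Int.ofNat 0, Int.ofNat 0, Int.ofNat 0, Int.ofNat 0, Int.ofNat 0, Int.ofNat 0, Int.ofNat 0, Int.ofNat 0, Int.ofNat 4],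
  [Int.ofNat 4, Int.ofNat 0, Int.ofNat 4, Int.ofNat 0, Int.ofNat 0, Int.ofNat 0, Int.ofNat 0, Int.ofNat 0, Int.ofNat 0, Int.ofNat 0, Int.ofNat 0, Int.ofNat 0, Int.ofNat 0, Int.ofNat 0, Int.ofNat 0, Int.ofNat 0, Int.ofNat 0, Int.ofNat 0, Int.ofNat 0, Int.ofNat 0, Int.ofNat 0, Int.ofNat 0, Int.ofNat 0, Int.ofNat 0],
  [Int.ofNat 0, Int.ofNat 0, Int.ofNat 0, Int.ofNat 0, Int.ofNat 0, Int.ofNat 0, Int.ofNat 0, Int.ofNat 0, Int.ofNat 0, Int.ofNat 0, Int.ofNat 0, Int.ofNat 0, Int.ofNat 0, Int.ofNat 0, Int.ofNat 0, Int.ofNat 0, Int.ofNat 0, Int.ofNat 0, Int.ofNat 0, Int.ofNat 0, Int.ofNat 4, Int.ofNat 0, Int.ofNat 4, Int.ofNat 0],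
  [Int.ofNat 0, Int.ofNat 0, Int.ofNat 0, Int.ofNat 0, Int.negSucc 1, Int.ofNat 0, Int.ofNat 0, Int.ofNat 0, Int.ofNat 0, Int.negSucc 1, Int.negSucc 1, Int.ofNat 0, Int.ofNat 0, Int.negSucc 1, Int.ofNat 0, Int.negSucc 1, Int.negSucc 1, Int.ofNat 0, Int.ofNat 0, Int.ofNat 0, Int.ofNat 2, Int.ofNat 0, Int.ofNat 2, Int.ofNat 0],
  [Int.ofNat 0, Int.ofNat 0, Int.negSucc 1, Int.ofNat 0, Int.ofNat 0, Int.ofNat 0, Int.ofNat 0, Int.negSucc 1, Int.ofNat 0, Int.negSucc 1, Int.ofNat 2, Int.ofNat 0, Int.negSucc 1, Int.negSucc 1, Int.ofNat 2, Int.negSucc 1, Int.ofNat 0, Int.ofNat 0, Int.ofNat 0, Int.ofNat 0, Int.ofNat 0, Int.ofNat 0, Int.ofNat 0, Int.ofNat 0],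
  [Int.negSucc 0, Int.negSucc 0, Int.ofNat 1, Int.negSucc 0, Int.ofNat 1, Int.negSucc 0, Int.ofNat 1, Int.negSucc 0, Int.ofNat 1, Int.negSucc 0, Int.ofNat 3, Int.ofNat 1, Int.negSucc 0, Int.negSucc 0, Int.ofNat 1, Int.negSucc 0, Int.ofNat 1, Int.negSucc 0, Int.ofNat 1, Int.ofNat 1, Int.ofNat 1, Int.ofNat 1, Int.ofNat 1, Int.negSucc 0],
  [Int.negSucc 0, Int.negSucc 0, Int.negSucc 0, Int.negSucc 0, Int.ofNat 1, Int.ofNat 1, Int.negSucc 0, Int.negSucc 0, Int.ofNat 1, Int.ofNat 1, Int.negSucc 2, Int.ofNat 1, Int.negSucc 0, Int.negSucc 0, Int.ofNat 1, Int.ofNat 1, Int.ofNat 1, Int.negSucc 0, Int.negSucc 0, Int.ofNat 1, Int.ofNat 1, Int.ofNat 1, Int.negSucc 0, Int.negSucc 0],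
  [Int.negSucc 2, Int.ofNat 1, Int.ofNat 1, Int.ofNat 1, Int.ofNat 1, Int.negSucc 0, Int.ofNat 1, Int.negSucc 0, Int.ofNat 1, Int.ofNat 1, Int.negSucc 0, Int.negSucc 0, Int.ofNat 1, Int.ofNat 1, Int.negSucc 0, Int.negSucc 0, Int.ofNat 1, Int.negSucc 0, Int.ofNat 1, Int.negSucc 0, Int.negSucc 0, Int.negSucc 0, Int.negSucc 0, Int.negSucc 0],
  [Int.ofNat 3, Int.negSucc 0, Int.negSucc 0, Int.negSucc 0, Int.negSucc 0, Int.negSucc 0, Int.negSucc 0, Int.negSucc 0, Int.negSucc 0, Int.negSucc 0, Int.negSucc 0, Int.negSucc 0, Int.negSucc 0, Int.negSucc 0, Int.negSucc 0, Int.negSucc 0, Int.negSucc 0, Int.negSucc 0, Int.negSucc 0, Int.negSucc 0, Int.negSucc 0, Int.negSucc 0, Int.negSucc 0, Int.negSucc 0],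
  [Int.ofNat 3, Int.negSucc 0, Int.negSucc 0, Int.negSucc 0, Int.negSucc 0, Int.negSucc 0, Int.negSucc 0, Int.negSucc 0, Int.negSucc 0, Int.negSucc 0, Int.negSucc 0, Int.negSucc 0, Int.negSucc 0, Int.negSucc 0, Int.negSucc 0, Int.negSucc 0, Int.negSucc 0, Int.negSucc 0, Int.negSucc 0, Int.negSucc 0, Int.negSucc 0, Int.negSucc 0, Int.negSucc 0, Int.negSucc 0],
  [Int.negSucc 2, Int.negSucc 0, Int.ofNat 1, Int.negSucc 0, Int.negSucc 0, Int.negSucc 0, Int.negSucc 0, Int.ofNat 1, Int.negSucc 0, Int.ofNat 1, Int.ofNat 1, Int.ofNat 1, Int.negSucc 0, Int.negSucc 0, Int.negSucc 0, Int.negSucc 0, Int.negSucc 0, Int.negSucc 0, Int.ofNat 1, Int.negSucc 0, Int.negSucc 0, Int.ofNat 1, Int.negSucc 0, Int.negSucc 0],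
  [Int.negSucc 0, Int.negSucc 2, Int.negSucc 0, Int.ofNat 1, Int.negSucc 0, Int.negSucc 0, Int.negSucc 0, Int.negSucc 0, Int.ofNat 1, Int.negSucc 0, Int.ofNat 1, Int.ofNat 1, Int.ofNat 1, Int.negSucc 0, Int.negSucc 0, Int.negSucc 0, Int.negSucc 0, Int.negSucc 0, Int.negSucc 0, Int.ofNat 1, Int.negSucc 0, Int.negSucc 0, Int.ofNat 1, Int.negSucc 0],
  [Int.negSucc 1, Int.ofNat 0, Int.negSucc 1, Int.ofNat 2, Int.ofNat 0, Int.ofNat 0, Int.ofNat 0, Int.ofNat 0, Int.ofNat 0, Int.ofNat 0, Int.ofNat 2, Int.ofNat 0, Int.ofNat 0, Int.ofNat 0, Int.ofNat 0, Int.ofNat 0, Int.ofNat 0, Int.ofNat 0, Int.negSucc 1, Int.ofNat 2, Int.ofNat 0, Int.ofNat 0, Int.ofNat 2, Int.negSucc 1],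
  [Int.ofNat 2, Int.ofNat 0, Int.ofNat 0, Int.ofNat 0, Int.ofNat 0, Int.ofNat 0, Int.ofNat 0, Int.ofNat 2, Int.ofNat 0, Int.ofNat 0, Int.ofNat 0, Int.ofNat 0, Int.ofNat 0, Int.ofNat 0, Int.ofNat 0, Int.negSucc 1, Int.ofNat 2, Int.ofNat 0, Int.ofNat 0, Int.ofNat 2, Int.negSucc 1, Int.ofNat 0, Int.negSucc 1, Int.negSucc 1],
  [Int.negSucc 1, Int.ofNat 0, Int.ofNat 0, Int.ofNat 0, Int.ofNat 0, Int.ofNat 0, Int.negSucc 1, Int.ofNat 0, Int.ofNat 0, Int.ofNat 2, Int.ofNat 2, Int.ofNat 0, Int.ofNat 0, Int.ofNat 0, Int.ofNat 0, Int.ofNat 0, Int.ofNat 2, Int.ofNat 0, Int.ofNat 0, Int.ofNat 0, Int.ofNat 0, Int.negSucc 1, Int.negSucc 1, Int.ofNat 2],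
  [Int.negSucc 1, Int.negSucc 1, Int.ofNat 0, Int.ofNat 0, Int.ofNat 0, Int.ofNat 0, Int.ofNat 0, Int.ofNat 2, Int.ofNat 0, Int.ofNat 0, Int.ofNat 0, Int.ofNat 0, Int.ofNat 2, Int.ofNat 2, Int.negSucc 1, Int.ofNat 0, Int.ofNat 0, Int.ofNat 0, Int.ofNat 0, Int.ofNat 0, Int.negSucc 1, Int.ofNat 0, Int.ofNat 0, Int.ofNat 2],
  [Int.ofNat 1, Int.ofNat 1, Int.negSucc 0, Int.ofNat 1, Int.negSucc 0, Int.ofNat 1, Int.negSucc 0, Int.ofNat 1, Int.negSucc 0, Int.ofNat 1, Int.ofNat 1, Int.negSucc 0, Int.ofNat 1, Int.ofNat 1, Int.negSucc 0, Int.ofNat 1, Int.negSucc 0, Int.ofNat 1, Int.negSucc 0, Int.negSucc 0, Int.negSucc 0, Int.negSucc 0, Int.negSucc 0, Int.negSucc 2],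
  [Int.ofNat 1, Int.ofNat 1, Int.ofNat 1, Int.ofNat 1, Int.negSucc 0, Int.negSucc 0, Int.ofNat 1, Int.ofNat 1, Int.negSucc 0, Int.negSucc 0, Int.negSucc 0, Int.negSucc 0, Int.ofNat 1, Int.ofNat 1, Int.negSucc 0, Int.negSucc 0, Int.negSucc 0, Int.ofNat 1, Int.ofNat 1, Int.negSucc 0, Int.negSucc 0, Int.negSucc 0, Int.ofNat 1, Int.negSucc 2],
  [Int.negSucc 0, Int.negSucc 0, Int.negSucc 0, Int.negSucc 0, Int.negSucc 0, Int.ofNat 1, Int.negSucc 0, Int.ofNat 1, Int.negSucc 0, Int.negSucc 0, Int.ofNat 1, Int.ofNat 1, Int.negSucc 0, Int.negSucc 0, Int.ofNat 1, Int.ofNat 1, Int.negSucc 0, Int.ofNat 1, Int.negSucc 0, Int.ofNat 1, Int.ofNat 1, Int.ofNat 1, Int.ofNat 1, Int.negSucc 2],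
  [Int.ofNat 1, Int.ofNat 1, Int.ofNat 1, Int.ofNat 1, Int.ofNat 1, Int.ofNat 1, Int.ofNat 1, Int.ofNat 1, Int.ofNat 1, Int.ofNat 1, Int.ofNat 1, Int.ofNat 1, Int.ofNat 1, Int.ofNat 1, Int.ofNat 1, Int.ofNat 1, Int.ofNat 1, Int.ofNat 1, Int.ofNat 1, Int.ofNat 1, Int.ofNat 1, Int.ofNat 1, Int.ofNat 1, Int.negSucc 2],
  [Int.ofNat 1, Int.ofNat 1, Int.ofNat 1, Int.ofNat 1, Int.ofNat 1, Int.ofNat 1, Int.ofNat 1, Int.ofNat 1, Int.ofNat 1, Int.ofNat 1, Int.ofNat 1, Int.ofNat 1, Int.ofNat 1, Int.ofNat 1, Int.ofNat 1, Int.ofNat 1, Int.ofNat 1, Int.ofNat 1, Int.ofNat 1, Int.ofNat 1, Int.ofNat 1, Int.ofNat 1, Int.ofNat 1, Int.negSucc 2],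
  [Int.negSucc 0, Int.ofNat 1, Int.negSucc 0, Int.ofNat 1, Int.ofNat 1, Int.ofNat 1, Int.ofNat 1, Int.negSucc 0, Int.ofNat 1, Int.negSucc 0, Int.negSucc 0, Int.negSucc 0, Int.ofNat 1, Int.ofNat 1, Int.ofNat 1, Int.ofNat 1, Int.ofNat 1, Int.ofNat 1, Int.negSucc 0, Int.ofNat 1, Int.ofNat 1, Int.negSucc 0, Int.ofNat 1, Int.negSucc 2],
  [Int.ofNat 1, Int.negSucc 0, Int.ofNat 1, Int.negSucc 0, Int.ofNat 1, Int.ofNat 1, Int.ofNat 1, Int.ofNat 1, Int.negSucc 0, Int.ofNat 1, Int.negSucc 0, Int.negSucc 0, Int.negSucc 0, Int.ofNat 1, Int.ofNat 1, Int.ofNat 1, Int.ofNat 1, Int.ofNat 1, Int.ofNat 1, Int.negSucc 0, Int.ofNat 1, Int.ofNat 1, Int.negSucc 0, Int.negSucc 2],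
  [Int.negSucc 1, Int.ofNat 0, Int.negSucc 1, Int.negSucc 1, Int.ofNat 0, Int.ofNat 0, Int.ofNat 0, Int.ofNat 0, Int.ofNat 0, Int.ofNat 0, Int.negSucc 1, Int.ofNat 0, Int.ofNat 0, Int.ofNat 0, Int.ofNat 0, Int.ofNat 0, Int.ofNat 0, Int.ofNat 0, Int.ofNat 2, Int.negSucc 1, Int.ofNat 0, Int.ofNat 0, Int.negSucc 1, Int.ofNat 2],
  [Int.negSucc 1, Int.ofNat 0, Int.ofNat 0, Int.ofNat 0, Int.ofNat 0, Int.ofNat 0, Int.ofNat 0, Int.negSucc 1, Int.ofNat 0, Int.ofNat 0, Int.ofNat 0, Int.ofNat 0, Int.ofNat 0, Int.ofNat 0, Int.ofNat 0, Int.ofNat 2, Int.negSucc 1, Int.ofNat 0, Int.ofNat 0, Int.negSucc 1, Int.negSucc 1, Int.ofNat 0, Int.negSucc 1, Int.ofNat 2],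
  [Int.ofNat 2, Int.ofNat 0, Int.ofNat 0, Int.ofNat 0, Int.ofNat 2, Int.ofNat 0, Int.ofNat 2, Int.ofNat 0, Int.ofNat 0, Int.ofNat 0, Int.ofNat 0, Int.ofNat 0, Int.ofNat 0, Int.ofNat 2, Int.ofNat 0, Int.ofNat 2, Int.ofNat 0, Int.ofNat 0, Int.ofNat 0, Int.ofNat 0, Int.negSucc 1, Int.ofNat 2, Int.ofNat 0, Int.negSucc 1],
  [Int.ofNat 2, Int.ofNat 2, Int.ofNat 2, Int.ofNat 0, Int.ofNat 0, Int.ofNat 0, Int.ofNat 0, Int.ofNat 0, Int.ofNat 0, Int.ofNat 2, Int.negSucc 1, Int.ofNat 0, Int.ofNat 0, Int.ofNat 0, Int.ofNat 0, Int.ofNat 2, Int.ofNat 0, Int.ofNat 0, Int.ofNat 0, Int.ofNat 0, Int.ofNat 2, Int.ofNat 0, Int.ofNat 0, Int.negSucc 1],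
  [Int.ofNat 0, Int.ofNat 0, Int.ofNat 0, Int.ofNat 0, Int.ofNat 0, Int.ofNat 0, Int.ofNat 0, Int.ofNat 0, Int.ofNat 0, Int.ofNat 0, Int.negSucc 3, Int.ofNat 0, Int.ofNat 0, Int.ofNat 0, Int.ofNat 0, Int.ofNat 0, Int.ofNat 0, Int.ofNat 0, Int.ofNat 0, Int.ofNat 0, Int.ofNat 0, Int.ofNat 0, Int.ofNat 0, Int.ofNat 4],
  [Int.ofNat 0, Int.ofNat 0, Int.ofNat 0, Int.ofNat 0, Int.ofNat 0, Int.ofNat 0, Int.ofNat 0, Int.ofNat 0, Int.ofNat 0, Int.ofNat 0, Int.ofNat 4, Int.ofNat 0, Int.ofNat 0, Int.ofNat 0, Int.ofNat 0, Int.ofNat 0, Int.ofNat 0, Int.ofNat 0, Int.ofNat 0, Int.ofNat 0, Int.ofNat 0, Int.ofNat 0, Int.ofNat 0, Int.ofNat 4],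
  [Int.ofNat 4, Int.ofNat 0, Int.ofNat 0, Int.ofNat 0, Int.ofNat 0, Int.ofNat 0, Int.ofNat 0, Int.ofNat 0, Int.ofNat 0, Int.ofNat 0, Int.ofNat 0, Int.ofNat 0, Int.ofNat 0, Int.ofNat 0, Int.ofNat 0, Int.ofNat 0, Int.ofNat 0, Int.ofNat 0, Int.ofNat 0, Int.ofNat 0, Int.ofNat 0, Int.ofNat 0, Int.ofNat 0, Int.ofNat 4],
  [Int.negSucc 3, Int.ofNat 0, Int.ofNat 0, Int.ofNat 0, Int.ofNat 0, Int.ofNat 0, Int.ofNat 0, Int.ofNat 0, Int.ofNat 0, Int.ofNat 0, Int.ofNat 0, Int.ofNat 0, Int.ofNat 0, Int.ofNat 0, Int.ofNat 0, Int.ofNat 0, Int.ofNat 0, Int.ofNat 0, Int.ofNat 0, Int.ofNat 0, Int.ofNat 0, Int.ofNat 0, Int.ofNat 0, Int.ofNat 4],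
  [Int.negSucc 3, Int.ofNat 0, Int.ofNat 0, Int.ofNat 0, Int.ofNat 0, Int.ofNat 0, Int.ofNat 0, Int.ofNat 0, Int.ofNat 0, Int.ofNat 0, Int.ofNat 0, Int.ofNat 0, Int.ofNat 0, Int.ofNat 0, Int.ofNat 0, Int.ofNat 0, Int.ofNat 0, Int.ofNat 0, Int.ofNat 0, Int.ofNat 0, Int.ofNat 0, Int.ofNat 0, Int.ofNat 0, Int.ofNat 4],
  [Int.ofNat 4, Int.ofNat 0, Int.ofNat 0, Int.ofNat 0, Int.ofNat 0, Int.ofNat 0, Int.ofNat 0, Int.ofNat 0, Int.ofNat 0, Int.ofNat 0, Int.ofNat 0, Int.ofNat 0, Int.ofNat 0, Int.ofNat 0, Int.ofNat 0, Int.ofNat 0, Int.ofNat 0, Int.ofNat 0, Int.ofNat 0, Int.ofNat 0, Int.ofNat 0, Int.ofNat 0, Int.ofNat 0, Int.ofNat 4],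
  [Int.ofNat 0, Int.ofNat 4, Int.ofNat 0, Int.ofNat 0, Int.ofNat 0, Int.ofNat 0, Int.ofNat 0, Int.ofNat 0, Int.ofNat 0, Int.ofNat 0, Int.ofNat 0, Int.ofNat 0, Int.ofNat 0, Int.ofNat 0, Int.ofNat 0, Int.ofNat 0, Int.ofNat 0, Int.ofNat 0, Int.ofNat 0, Int.ofNat 0, Int.ofNat 0, Int.ofNat 0, Int.ofNat 0, Int.ofNat 4],
  [Int.ofNat 4, Int.ofNat 0, Int.ofNat 4, Int.ofNat 0, Int.ofNat 0, Int.ofNat 0, Int.ofNat 0, Int.ofNat 0, Int.ofNat 0, Int.ofNat 0, Int.ofNat 0, Int.ofNat 0, Int.ofNat 0, Int.ofNat 0, Int.ofNat 0, Int.ofNat 0, Int.ofNat 0, Int.ofNat 0, Int.ofNat 0, Int.ofNat 0, Int.ofNat 0, Int.ofNat 0, Int.ofNat 0, Int.ofNat 0],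
  [Int.ofNat 0, Int.ofNat 0, Int.ofNat 0, Int.ofNat 0, Int.ofNat 0, Int.ofNat 0, Int.ofNat 0, Int.ofNat 0, Int.ofNat 0, Int.ofNat 0, Int.ofNat 0, Int.ofNat 0, Int.ofNat 0, Int.ofNat 0, Int.ofNat 0, Int.ofNat 0, Int.ofNat 0, Int.ofNat 0, Int.ofNat 0, Int.ofNat 0, Int.ofNat 4, Int.ofNat 0, Int.ofNat 4, Int.ofNat 0],
  [Int.ofNat 0, Int.ofNat 0, Int.ofNat 0, Int.ofNat 0, Int.negSucc 1, Int.ofNat 0, Int.ofNat 0, Int.ofNat 0, Int.ofNat 0, Int.negSucc 1, Int.negSucc 1, Int.ofNat 0, Int.ofNat 0, Int.negSucc 1, Int.ofNat 0, Int.negSucc 1, Int.negSucc 1, Int.ofNat 0, Int.ofNat 0, Int.ofNat 0, Int.ofNat 2, Int.ofNat 0, Int.ofNat 2, Int.ofNat 0],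
  [Int.ofNat 0, Int.ofNat 0, Int.negSucc 1, Int.ofNat 0, Int.ofNat 0, Int.ofNat 0, Int.ofNat 0, Int.negSucc 1, Int.ofNat 0, Int.negSucc 1, Int.ofNat 2, Int.ofNat 0, Int.negSucc 1, Int.negSucc 1, Int.ofNat 2, Int.negSucc 1, Int.ofNat 0, Int.ofNat 0, Int.ofNat 0, Int.ofNat 0, Int.ofNat 0, Int.ofNat 0, Int.ofNat 0, Int.ofNat 0],
  [Int.negSucc 0, Int.negSucc 0, Int.ofNat 1, Int.negSucc 0, Int.ofNat 1, Int.negSucc 0, Int.ofNat 1, Int.negSucc 0, Int.ofNat 1, Int.negSucc 0, Int.ofNat 3, Int.ofNat 1, Int.negSucc 0, Int.negSucc 0, Int.ofNat 1, Int.negSucc 0, Int.ofNat 1, Int.negSucc 0, Int.ofNat 1, Int.ofNat 1, Int.ofNat 1, Int.ofNat 1, Int.ofNat 1, Int.negSucc 0],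
  [Int.negSucc 0, Int.negSucc 0, Int.negSucc 0, Int.negSucc 0, Int.ofNat 1, Int.ofNat 1, Int.negSucc 0, Int.negSucc 0, Int.ofNat 1, Int.ofNat 1, Int.negSucc 2, Int.ofNat 1, Int.negSucc 0, Int.negSucc 0, Int.ofNat 1, Int.ofNat 1, Int.ofNat 1, Int.negSucc 0, Int.negSucc 0, Int.ofNat 1, Int.ofNat 1, Int.ofNat 1, Int.negSucc 0, Int.negSucc 0],
  [Int.negSucc 2, Int.ofNat 1, Int.ofNat 1, Int.ofNat 1, Int.ofNat 1, Int.negSucc 0, Int.ofNat 1, Int.negSucc 0, Int.ofNat 1, Int.ofNat 1, Int.negSucc 0, Int.negSucc 0, Int.ofNat 1, Int.ofNat 1, Int.negSucc 0, Int.negSucc 0, Int.ofNat 1, Int.negSucc 0, Int.ofNat 1, Int.negSucc 0, Int.negSucc 0, Int.negSucc 0, Int.negSucc 0, Int.negSucc 0],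
  [Int.ofNat 3, Int.negSucc 0, Int.negSucc 0, Int.negSucc 0, Int.negSucc 0, Int.negSucc 0, Int.negSucc 0, Int.negSucc 0, Int.negSucc 0, Int.negSucc 0, Int.negSucc 0, Int.negSucc 0, Int.negSucc 0, Int.negSucc 0, Int.negSucc 0, Int.negSucc 0, Int.negSucc 0, Int.negSucc 0, Int.negSucc 0, Int.negSucc 0, Int.negSucc 0, Int.negSucc 0, Int.negSucc 0, Int.negSucc 0],
  [Int.ofNat 3, Int.negSucc 0, Int.negSucc 0, Int.negSucc 0, Int.negSucc 0, Int.negSucc 0, Int.negSucc 0, Int.negSucc 0, Int.negSucc 0, Int.negSucc 0, Int.negSucc 0, Int.negSucc 0, Int.negSucc 0, Int.negSucc 0, Int.negSucc 0, Int.negSucc 0, Int.negSucc 0, Int.negSucc 0, Int.negSucc 0, Int.negSucc 0, Int.negSucc 0, Int.negSucc 0, Int.negSucc 0, Int.negSucc 0],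
  [Int.negSucc 2, Int.negSucc 0, Int.ofNat 1, Int.negSucc 0, Int.negSucc 0, Int.negSucc 0, Int.negSucc 0, Int.ofNat 1, Int.negSucc 0, Int.ofNat 1, Int.ofNat 1, Int.ofNat 1, Int.negSucc 0, Int.negSucc 0, Int.negSucc 0, Int.negSucc 0, Int.negSucc 0, Int.negSucc 0, Int.ofNat 1, Int.negSucc 0, Int.negSucc 0, Int.ofNat 1, Int.negSucc 0, Int.negSucc 0],
  [Int.negSucc 0, Int.negSucc 2, Int.negSucc 0, Int.ofNat 1, Int.negSucc 0, Int.negSucc 0, Int.negSucc 0, Int.negSucc 0, Int.ofNat 1, Int.negSucc 0, Int.ofNat 1, Int.ofNat 1, Int.ofNat 1, Int.negSucc 0, Int.negSucc 0, Int.negSucc 0, Int.negSucc 0, Int.negSucc 0, Int.negSucc 0, Int.ofNat 1, Int.negSucc 0, Int.negSucc 0, Int.ofNat 1, Int.negSucc 0],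
  [Int.negSucc 1, Int.ofNat 0, Int.negSucc 1, Int.ofNat 2, Int.ofNat 0, Int.ofNat 0, Int.ofNat 0, Int.ofNat 0, Int.ofNat 0, Int.ofNat 0, Int.ofNat 2, Int.ofNat 0, Int.ofNat 0, Int.ofNat 0, Int.ofNat 0, Int.ofNat 0, Int.ofNat 0, Int.ofNat 0, Int.negSucc 1, Int.ofNat 2, Int.ofNat 0, Int.ofNat 0, Int.ofNat 2, Int.negSucc 1],
  [Int.ofNat 2, Int.ofNat 0, Int.ofNat 0, Int.ofNat 0, Int.ofNat 0, Int.ofNat 0, Int.ofNat 0, Int.ofNat 2, Int.ofNat 0, Int.ofNat 0, Int.ofNat 0, Int.ofNat 0, Int.ofNat 0, Int.ofNat 0, Int.ofNat 0, Int.negSucc 1, Int.ofNat 2, Int.ofNat 0, Int.ofNat 0, Int.ofNat 2, Int.negSucc 1, Int.ofNat 0, Int.negSucc 1, Int.negSucc 1],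
  [Int.negSucc 1, Int.ofNat 0, Int.ofNat 0, Int.ofNat 0, Int.ofNat 0, Int.ofNat 0, Int.negSucc 1, Int.ofNat 0, Int.ofNat 0, Int.ofNat 2, Int.ofNat 2, Int.ofNat 0, Int.ofNat 0, Int.ofNat 0, Int.ofNat 0, Int.ofNat 0, Int.ofNat 2, Int.ofNat 0, Int.ofNat 0, Int.ofNat 0, Int.ofNat 0, Int.negSucc 1, Int.negSucc 1, Int.ofNat 2],
  [Int.negSucc 1, Int.negSucc 1, Int.ofNat 0, Int.ofNat 0, Int.ofNat 0, Int.ofNat 0, Int.ofNat 0, Int.ofNat 2, Int.ofNat 0, Int.ofNat 0, Int.ofNat 0, Int.ofNat 0, Int.ofNat 2, Int.ofNat 2, Int.negSucc 1, Int.ofNat 0, Int.ofNat 0, Int.ofNat 0, Int.ofNat 0, Int.ofNat 0, Int.negSucc 1, Int.ofNat 0, Int.ofNat 0, Int.ofNat 2],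
  [Int.ofNat 1, Int.ofNat 1, Int.negSucc 0, Int.ofNat 1, Int.negSucc 0, Int.ofNat 1, Int.negSucc 0, Int.ofNat 1, Int.negSucc 0, Int.ofNat 1, Int.ofNat 1, Int.negSucc 0, Int.ofNat 1, Int.ofNat 1, Int.negSucc 0, Int.ofNat 1, Int.negSucc 0, Int.ofNat 1, Int.negSucc 0, Int.negSucc 0, Int.negSucc 0, Int.negSucc 0, Int.negSucc 0, Int.negSucc 2],
  [Int.ofNat 1, Int.ofNat 1, Int.ofNat 1, Int.ofNat 1, Int.negSucc 0, Int.negSucc 0, Int.ofNat 1, Int.ofNat 1, Int.negSucc 0, Int.negSucc 0, Int.negSucc 0, Int.negSucc 0, Int.ofNat 1, Int.ofNat 1, Int.negSucc 0, Int.negSucc 0, Int.negSucc 0, Int.ofNat 1, Int.ofNat 1, Int.negSucc 0, Int.negSucc 0, Int.negSucc 0, Int.ofNat 1, Int.negSucc 2],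
  [Int.negSucc 0, Int.negSucc 0, Int.negSucc 0, Int.negSucc 0, Int.negSucc 0, Int.ofNat 1, Int.negSucc 0, Int.ofNat 1, Int.negSucc 0, Int.negSucc 0, Int.ofNat 1, Int.ofNat 1, Int.negSucc 0, Int.negSucc 0, Int.ofNat 1, Int.ofNat 1, Int.negSucc 0, Int.ofNat 1, Int.negSucc 0, Int.ofNat 1, Int.ofNat 1, Int.ofNat 1, Int.ofNat 1, Int.negSucc 2],
  [Int.ofNat 1, Int.ofNat 1, Int.ofNat 1, Int.ofNat 1, Int.ofNat 1, Int.ofNat 1, Int.ofNat 1, Int.ofNat 1, Int.ofNat 1, Int.ofNat 1, Int.ofNat 1, Int.ofNat 1, Int.ofNat 1, Int.ofNat 1, Int.ofNat 1, Int.ofNat 1, Int.ofNat 1, Int.ofNat 1, Int.ofNat 1, Int.ofNat 1, Int.ofNat 1, Int.ofNat 1, Int.ofNat 1, Int.negSucc 2],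
  [Int.ofNat 1, Int.ofNat 1, Int.ofNat 1, Int.ofNat 1, Int.ofNat 1, Int.ofNat 1, Int.ofNat 1, Int.ofNat 1, Int.ofNat 1, Int.ofNat 1, Int.ofNat 1, Int.ofNat 1, Int.ofNat 1, Int.ofNat 1, Int.ofNat 1, Int.ofNat 1, Int.ofNat 1, Int.ofNat 1, Int.ofNat 1, Int.ofNat 1, Int.ofNat 1, Int.ofNat 1, Int.ofNat 1, Int.negSucc 2],
  [Int.negSucc 0, Int.ofNat 1, Int.negSucc 0, Int.ofNat 1, Int.ofNat 1, Int.ofNat 1, Int.ofNat 1, Int.negSucc 0, Int.ofNat 1, Int.negSucc 0, Int.negSucc 0, Int.negSucc 0, Int.ofNat 1, Int.ofNat 1, Int.ofNat 1, Int.ofNat 1, Int.ofNat 1, Int.ofNat 1, Int.negSucc 0, Int.ofNat 1, Int.ofNat 1, Int.negSucc 0, Int.ofNat 1, Int.negSucc 2],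
  [Int.ofNat 1, Int.negSucc 0, Int.ofNat 1, Int.negSucc 0, Int.ofNat 1, Int.ofNat 1, Int.ofNat 1, Int.ofNat 1, Int.negSucc 0, Int.ofNat 1, Int.negSucc 0, Int.negSucc 0, Int.negSucc 0, Int.ofNat 1, Int.ofNat 1, Int.ofNat 1, Int.ofNat 1, Int.ofNat 1, Int.ofNat 1, Int.negSucc 0, Int.ofNat 1, Int.ofNat 1, Int.negSucc 0, Int.negSucc 2],
  [Int.negSucc 1, Int.ofNat 0, Int.negSucc 1, Int.negSucc 1, Int.ofNat 0, Int.ofNat 0, Int.ofNat 0, Int.ofNat 0, Int.ofNat 0, Int.ofNat 0, Int.negSucc 1, Int.ofNat 0, Int.ofNat 0, Int.ofNat 0, Int.ofNat 0, Int.ofNat 0, Int.ofNat 0, Int.ofNat 0, Int.ofNat 2, Int.negSucc 1, Int.ofNat 0, Int.ofNat 0, Int.negSucc 1, Int.ofNat 2],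
  [Int.negSucc 1, Int.ofNat 0, Int.ofNat 0, Int.ofNat 0, Int.ofNat 0, Int.ofNat 0, Int.ofNat 0, Int.negSucc 1, Int.ofNat 0, Int.ofNat 0, Int.ofNat 0, Int.ofNat 0, Int.ofNat 0, Int.ofNat 0, Int.ofNat 0, Int.ofNat 2, Int.negSucc 1, Int.ofNat 0, Int.ofNat 0, Int.negSucc 1, Int.negSucc 1, Int.ofNat 0, Int.negSucc 1, Int.ofNat 2],
  [Int.ofNat 2, Int.ofNat 0, Int.ofNat 0, Int.ofNat 0, Int.ofNat 2, Int.ofNat 0, Int.ofNat 2, Int.ofNat 0, Int.ofNat 0, Int.ofNat 0, Int.ofNat 0, Int.ofNat 0, Int.ofNat 0, Int.ofNat 2, Int.ofNat 0, Int.ofNat 2, Int.ofNat 0, Int.ofNat 0, Int.ofNat 0, Int.ofNat 0, Int.negSucc 1, Int.ofNat 2, Int.ofNat 0, Int.negSucc 1],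
  [Int.ofNat 2, Int.ofNat 2, Int.ofNat 2, Int.ofNat 0, Int.ofNat 0, Int.ofNat 0, Int.ofNat 0, Int.ofNat 0, Int.ofNat 0, Int.ofNat 2, Int.negSucc 1, Int.ofNat 0, Int.ofNat 0, Int.ofNat 0, Int.ofNat 0, Int.ofNat 2, Int.ofNat 0, Int.ofNat 0, Int.ofNat 0, Int.ofNat 0, Int.ofNat 2, Int.ofNat 0, Int.ofNat 0, Int.negSucc 1],
  [Int.ofNat 0, Int.ofNat 0, Int.ofNat 0, Int.ofNat 0, Int.ofNat 0, Int.ofNat 0, Int.ofNat 0, Int.ofNat 0, Int.ofNat 0, Int.ofNat 0, Int.negSucc 3, Int.ofNat 0, Int.ofNat 0, Int.ofNat 0, Int.ofNat 0, Int.ofNat 0, Int.ofNat 0, Int.ofNat 0, Int.ofNat 0, Int.ofNat 0, Int.ofNat 0, Int.ofNat 0, Int.ofNat 0, Int.ofNat 4],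
  [Int.ofNat 0, Int.ofNat 0, Int.ofNat 0, Int.ofNat 0, Int.ofNat 0, Int.ofNat 0, Int.ofNat 0, Int.ofNat 0, Int.ofNat 0, Int.ofNat 0, Int.ofNat 4, Int.ofNat 0, Int.ofNat 0, Int.ofNat 0, Int.ofNat 0, Int.ofNat 0, Int.ofNat 0, Int.ofNat 0, Int.ofNat 0, Int.ofNat 0, Int.ofNat 0, Int.ofNat 0, Int.ofNat 0, Int.ofNat 4],
  [Int.ofNat 4, Int.ofNat 0, Int.ofNat 0, Int.ofNat 0, Int.ofNat 0, Int.ofNat 0, Int.ofNat 0, Int.ofNat 0, Int.ofNat 0, Int.ofNat 0, Int.ofNat 0, Int.ofNat 0, Int.ofNat 0, Int.ofNat 0, Int.ofNat 0, Int.ofNat 0, Int.ofNat 0, Int.ofNat 0, Int.ofNat 0, Int.ofNat 0, Int.ofNat 0, Int.ofNat 0, Int.ofNat 0, Int.ofNat 4],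
  [Int.negSucc 3, Int.ofNat 0, Int.ofNat 0, Int.ofNat 0, Int.ofNat 0, Int.ofNat 0, Int.ofNat 0, Int.ofNat 0, Int.ofNat 0, Int.ofNat 0, Int.ofNat 0, Int.ofNat 0, Int.ofNat 0, Int.ofNat 0, Int.ofNat 0, Int.ofNat 0, Int.ofNat 0, Int.ofNat 0, Int.ofNat 0, Int.ofNat 0, Int.ofNat 0, Int.ofNat 0, Int.ofNat 0, Int.ofNat 4],
  [Int.negSucc 3, Int.ofNat 0, Int.ofNat 0, Int.ofNat 0, Int.ofNat 0, Int.ofNat 0, Int.ofNat 0, Int.ofNat 0, Int.ofNat 0, Int.ofNat 0, Int.ofNat 0, Int.ofNat 0, Int.ofNat 0, Int.ofNat 0, Int.ofNat 0, Int.ofNat 0, Int.ofNat 0, Int.ofNat 0, Int.ofNat 0, Int.ofNat 0, Int.ofNat 0, Int.ofNat 0, Int.ofNat 0, Int.ofNat 4],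
  [Int.ofNat 4, Int.ofNat 0, Int.ofNat 0, Int.ofNat 0, Int.ofNat 0, Int.ofNat 0, Int.ofNat 0, Int.ofNat 0, Int.ofNat 0, Int.ofNat 0, Int.ofNat 0, Int.ofNat 0, Int.ofNat 0, Int.ofNat 0, Int.ofNat 0, Int.ofNat 0, Int.ofNat 0, Int.ofNat 0, Int.ofNat 0, Int.ofNat 0, Int.ofNat 0, Int.ofNat 0, Int.ofNat 0, Int.ofNat 4],
  [Int.ofNat 0, Int.ofNat 4, Int.ofNat 0, Int.ofNat 0, Int.ofNat 0, Int.ofNat 0, Int.ofNat 0, Int.ofNat 0, Int.ofNat 0, Int.ofNat 0, Int.ofNat 0, Int.ofNat 0, Int.ofNat 0, Int.ofNat 0, Int.ofNat 0, Int.ofNat 0, Int.ofNat 0, Int.ofNat 0, Int.ofNat 0, Int.ofNat 0, Int.ofNat 0, Int.ofNat 0, Int.ofNat 0, Int.ofNat 4],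
  [Int.ofNat 4, Int.ofNat 0, Int.ofNat 4, Int.ofNat 0, Int.ofNat 0, Int.ofNat 0, Int.ofNat 0, Int.ofNat 0, Int.ofNat 0, Int.ofNat 0, Int.ofNat 0, Int.ofNat 0, Int.ofNat 0, Int.ofNat 0, Int.ofNat 0, Int.ofNat 0, Int.ofNat 0, Int.ofNat 0, Int.ofNat 0, Int.ofNat 0, Int.ofNat 0, Int.ofNat 0, Int.ofNat 0, Int.ofNat 0],
  [Int.ofNat 0, Int.ofNat 0, Int.ofNat 0, Int.ofNat 0, Int.ofNat 0, Int.ofNat 0, Int.ofNat 0, Int.ofNat 0, Int.ofNat 0, Int.ofNat 0, Int.ofNat 0, Int.ofNat 0, Int.ofNat 0, Int.ofNat 0, Int.ofNat 0, Int.ofNat 0, Int.ofNat 0, Int.ofNat 0, Int.ofNat 0, Int.ofNat 0, Int.ofNat 4, Int.ofNat 0, Int.ofNat 4, Int.ofNat 0],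
  [Int.ofNat 0, Int.ofNat 0, Int.ofNat 0, Int.ofNat 0, Int.negSucc 1, Int.ofNat 0, Int.ofNat 0, Int.ofNat 0, Int.ofNat 0, Int.negSucc 1, Int.negSucc 1, Int.ofNat 0, Int.ofNat 0, Int.negSucc 1, Int.ofNat 0, Int.negSucc 1, Int.negSucc 1, Int.ofNat 0, Int.ofNat 0, Int.ofNat 0, Int.ofNat 2, Int.ofNat 0, Int.ofNat 2, Int.ofNat 0],
  [Int.ofNat 0, Int.ofNat 0, Int.negSucc 1, Int.ofNat 0, Int.ofNat 0, Int.ofNat 0, Int.ofNat 0, Int.negSucc 1, Int.ofNat 0, Int.negSucc 1, Int.ofNat 2, Int.ofNat 0, Int.negSucc 1, Int.negSucc 1, Int.ofNat 2, Int.negSucc 1, Int.ofNat 0, Int.ofNat 0, Int.ofNat 0, Int.ofNat 0, Int.ofNat 0, Int.ofNat 0, Int.ofNat 0, Int.ofNat 0],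
  [Int.negSucc 0, Int.negSucc 0, Int.ofNat 1, Int.negSucc 0, Int.ofNat 1, Int.negSucc 0, Int.ofNat 1, Int.negSucc 0, Int.ofNat 1, Int.negSucc 0, Int.ofNat 3, Int.ofNat 1, Int.negSucc 0, Int.negSucc 0, Int.ofNat 1, Int.negSucc 0, Int.ofNat 1, Int.negSucc 0, Int.ofNat 1, Int.ofNat 1, Int.ofNat 1, Int.ofNat 1, Int.ofNat 1, Int.negSucc 0],
  [Int.negSucc 0, Int.negSucc 0, Int.negSucc 0, Int.negSucc 0, Int.ofNat 1, Int.ofNat 1, Int.negSucc 0, Int.negSucc 0, Int.ofNat 1, Int.ofNat 1, Int.negSucc 2, Int.ofNat 1, Int.negSucc 0, Int.negSucc 0, Int.ofNat 1, Int.ofNat 1, Int.ofNat 1, Int.negSucc 0, Int.negSucc 0, Int.ofNat 1, Int.ofNat 1, Int.ofNat 1, Int.negSucc 0, Int.negSucc 0],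
  [Int.negSucc 2, Int.ofNat 1, Int.ofNat 1, Int.ofNat 1, Int.ofNat 1, Int.negSucc 0, Int.ofNat 1, Int.negSucc 0, Int.ofNat 1, Int.ofNat 1, Int.negSucc 0, Int.negSucc 0, Int.ofNat 1, Int.ofNat 1, Int.negSucc 0, Int.negSucc 0, Int.ofNat 1, Int.negSucc 0, Int.ofNat 1, Int.negSucc 0, Int.negSucc 0, Int.negSucc 0, Int.negSucc 0, Int.negSucc 0],
  [Int.ofNat 3, Int.negSucc 0, Int.negSucc 0, Int.negSucc 0, Int.negSucc 0, Int.negSucc 0, Int.negSucc 0, Int.negSucc 0, Int.negSucc 0, Int.negSucc 0, Int.negSucc 0, Int.negSucc 0, Int.negSucc 0, Int.negSucc 0, Int.negSucc 0, Int.negSucc 0, Int.negSucc 0, Int.negSucc 0, Int.negSucc 0, Int.negSucc 0, Int.negSucc 0, Int.negSucc 0, Int.negSucc 0, Int.negSucc 0],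
  [Int.ofNat 3, Int.negSucc 0, Int.negSucc 0, Int.negSucc 0, Int.negSucc 0, Int.negSucc 0, Int.negSucc 0, Int.negSucc 0, Int.negSucc 0, Int.negSucc 0, Int.negSucc 0, Int.negSucc 0, Int.negSucc 0, Int.negSucc 0, Int.negSucc 0, Int.negSucc 0, Int.negSucc 0, Int.negSucc 0, Int.negSucc 0, Int.negSucc 0, Int.negSucc 0, Int.negSucc 0, Int.negSucc 0, Int.negSucc 0],
  [Int.negSucc 2, Int.negSucc 0, Int.ofNat 1, Int.negSucc 0, Int.negSucc 0, Int.negSucc 0, Int.negSucc 0, Int.ofNat 1, Int.negSucc 0, Int.ofNat 1, Int.ofNat 1, Int.ofNat 1, Int.negSucc 0, Int.negSucc 0, Int.negSucc 0, Int.negSucc 0, Int.negSucc 0, Int.negSucc 0, Int.ofNat 1, Int.negSucc 0, Int.negSucc 0, Int.ofNat 1, Int.negSucc 0, Int.negSucc 0],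
  [Int.negSucc 0, Int.negSucc 2, Int.negSucc 0, Int.ofNat 1, Int.negSucc 0, Int.negSucc 0, Int.negSucc 0, Int.negSucc 0, Int.ofNat 1, Int.negSucc 0, Int.ofNat 1, Int.ofNat 1, Int.ofNat 1, Int.negSucc 0, Int.negSucc 0, Int.negSucc 0, Int.negSucc 0, Int.negSucc 0, Int.negSucc 0, Int.ofNat 1, Int.negSucc 0, Int.negSucc 0, Int.ofNat 1, Int.negSucc 0],
  [Int.negSucc 1, Int.ofNat 0, Int.negSucc 1, Int.ofNat 2, Int.ofNat 0, Int.ofNat 0, Int.ofNat 0, Int.ofNat 0, Int.ofNat 0, Int.ofNat 0, Int.ofNat 2, Int.ofNat 0, Int.ofNat 0, Int.ofNat 0, Int.ofNat 0, Int.ofNat 0, Int.ofNat 0, Int.ofNat 0, Int.negSucc 1, Int.ofNat 2, Int.ofNat 0, Int.ofNat 0, Int.ofNat 2, Int.negSucc 1],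
  [Int.ofNat 2, Int.ofNat 0, Int.ofNat 0, Int.ofNat 0, Int.ofNat 0, Int.ofNat 0, Int.ofNat 0, Int.ofNat 2, Int.ofNat 0, Int.ofNat 0, Int.ofNat 0, Int.ofNat 0, Int.ofNat 0, Int.ofNat 0, Int.ofNat 0, Int.negSucc 1, Int.ofNat 2, Int.ofNat 0, Int.ofNat 0, Int.ofNat 2, Int.negSucc 1, Int.ofNat 0, Int.negSucc 1, Int.negSucc 1],
  [Int.negSucc 1, Int.ofNat 0, Int.ofNat 0, Int.ofNat 0, Int.ofNat 0, Int.ofNat 0, Int.negSucc 1, Int.ofNat 0, Int.ofNat 0, Int.ofNat 2, Int.ofNat 2, Int.ofNat 0, Int.ofNat 0, Int.ofNat 0, Int.ofNat 0, Int.ofNat 0, Int.ofNat 2, Int.ofNat 0, Int.ofNat 0, Int.ofNat 0, Int.ofNat 0, Int.negSucc 1, Int.negSucc 1, Int.ofNat 2],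
  [Int.negSucc 1, Int.negSucc 1, Int.ofNat 0, Int.ofNat 0, Int.ofNat 0, Int.ofNat 0, Int.ofNat 0, Int.ofNat 2, Int.ofNat 0, Int.ofNat 0, Int.ofNat 0, Int.ofNat 0, Int.ofNat 2, Int.ofNat 2, Int.negSucc 1, Int.ofNat 0, Int.ofNat 0, Int.ofNat 0, Int.ofNat 0, Int.ofNat 0, Int.negSucc 1, Int.ofNat 0, Int.ofNat 0, Int.ofNat 2],
  [Int.ofNat 1, Int.ofNat 1, Int.negSucc 0, Int.ofNat 1, Int.negSucc 0, Int.ofNat 1, Int.negSucc 0, Int.ofNat 1, Int.negSucc 0, Int.ofNat 1, Int.ofNat 1, Int.negSucc 0, Int.ofNat 1, Int.ofNat 1, Int.negSucc 0, Int.ofNat 1, Int.negSucc 0, Int.ofNat 1, Int.negSucc 0, Int.negSucc 0, Int.negSucc 0, Int.negSucc 0, Int.negSucc 0, Int.negSucc 2],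
  [Int.ofNat 1, Int.ofNat 1, Int.ofNat 1, Int.ofNat 1, Int.negSucc 0, Int.negSucc 0, Int.ofNat 1, Int.ofNat 1, Int.negSucc 0, Int.negSucc 0, Int.negSucc 0, Int.negSucc 0, Int.ofNat 1, Int.ofNat 1, Int.negSucc 0, Int.negSucc 0, Int.negSucc 0, Int.ofNat 1, Int.ofNat 1, Int.negSucc 0, Int.negSucc 0, Int.negSucc 0, Int.ofNat 1, Int.negSucc 2],
  [Int.negSucc 0, Int.negSucc 0, Int.negSucc 0, Int.negSucc 0, Int.negSucc 0, Int.ofNat 1, Int.negSucc 0, Int.ofNat 1, Int.negSucc 0, Int.negSucc 0, Int.ofNat 1, Int.ofNat 1, Int.negSucc 0, Int.negSucc 0, Int.ofNat 1, Int.ofNat 1, Int.negSucc 0, Int.ofNat 1, Int.negSucc 0, Int.ofNat 1, Int.ofNat 1, Int.ofNat 1, Int.ofNat 1, Int.negSucc 2],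
  [Int.ofNat 1, Int.ofNat 1, Int.ofNat 1, Int.ofNat 1, Int.ofNat 1, Int.ofNat 1, Int.ofNat 1, Int.ofNat 1, Int.ofNat 1, Int.ofNat 1, Int.ofNat 1, Int.ofNat 1, Int.ofNat 1, Int.ofNat 1, Int.ofNat 1, Int.ofNat 1, Int.ofNat 1, Int.ofNat 1, Int.ofNat 1, Int.ofNat 1, Int.ofNat 1, Int.ofNat 1, Int.ofNat 1, Int.negSucc 2],
  [Int.ofNat 1, Int.ofNat 1, Int.ofNat 1, Int.ofNat 1, Int.ofNat 1, Int.ofNat 1, Int.ofNat 1, Int.ofNat 1, Int.ofNat 1, Int.ofNat 1, Int.ofNat 1, Int.ofNat 1, Int.ofNat 1, Int.ofNat 1, Int.ofNat 1, Int.ofNat 1, Int.ofNat 1, Int.ofNat 1, Int.ofNat 1, Int.ofNat 1, Int.ofNat 1, Int.ofNat 1, Int.ofNat 1, Int.negSucc 2],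
  [Int.negSucc 0, Int.ofNat 1, Int.negSucc 0, Int.ofNat 1, Int.ofNat 1, Int.ofNat 1, Int.ofNat 1, Int.negSucc 0, Int.ofNat 1, Int.negSucc 0, Int.negSucc 0, Int.negSucc 0, Int.ofNat 1, Int.ofNat 1, Int.ofNat 1, Int.ofNat 1, Int.ofNat 1, Int.ofNat 1, Int.negSucc 0, Int.ofNat 1, Int.ofNat 1, Int.negSucc 0, Int.ofNat 1, Int.negSucc 2],
  [Int.ofNat 1, Int.negSucc 0, Int.ofNat 1, Int.negSucc 0, Int.ofNat 1, Int.ofNat 1, Int.ofNat 1, Int.ofNat 1, Int.negSucc 0, Int.ofNat 1, Int.negSucc 0, Int.negSucc 0, Int.negSucc 0, Int.ofNat 1, Int.ofNat 1, Int.ofNat 1, Int.ofNat 1, Int.ofNat 1, Int.ofNat 1, Int.negSucc 0, Int.ofNat 1, Int.ofNat 1, Int.negSucc 0, Int.negSucc 2],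
  [Int.negSucc 1, Int.ofNat 0, Int.negSucc 1, Int.negSucc 1, Int.ofNat 0, Int.ofNat 0, Int.ofNat 0, Int.ofNat 0, Int.ofNat 0, Int.ofNat 0, Int.negSucc 1, Int.ofNat 0, Int.ofNat 0, Int.ofNat 0, Int.ofNat 0, Int.ofNat 0, Int.ofNat 0, Int.ofNat 0, Int.ofNat 2, Int.negSucc 1, Int.ofNat 0, Int.ofNat 0, Int.negSucc 1, Int.ofNat 2],
  [Int.negSucc 1, Int.ofNat 0, Int.ofNat 0, Int.ofNat 0, Int.ofNat 0, Int.ofNat 0, Int.ofNat 0, Int.negSucc 1, Int.ofNat 0, Int.ofNat 0, Int.ofNat 0, Int.ofNat 0, Int.ofNat 0, Int.ofNat 0, Int.ofNat 0, Int.ofNat 2, Int.negSucc 1, Int.ofNat 0, Int.ofNat 0, Int.negSucc 1, Int.negSucc 1, Int.ofNat 0, Int.negSucc 1, Int.ofNat 2],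
  [Int.ofNat 2, Int.ofNat 0, Int.ofNat 0, Int.ofNat 0, Int.ofNat 2, Int.ofNat 0, Int.ofNat 2, Int.ofNat 0, Int.ofNat 0, Int.ofNat 0, Int.ofNat 0, Int.ofNat 0, Int.ofNat 0, Int.ofNat 2, Int.ofNat 0, Int.ofNat 2, Int.ofNat 0, Int.ofNat 0, Int.ofNat 0, Int.ofNat 0, Int.negSucc 1, Int.ofNat 2, Int.ofNat 0, Int.negSucc 1],
  [Int.ofNat 2, Int.ofNat 2, Int.ofNat 2, Int.ofNat 0, Int.ofNat 0, Int.ofNat 0, Int.ofNat 0, Int.ofNat 0, Int.ofNat 0, Int.ofNat 2, Int.negSucc 1, Int.ofNat 0, Int.ofNat 0, Int.ofNat 0, Int.ofNat 0, Int.ofNat 2, Int.ofNat 0, Int.ofNat 0, Int.ofNat 0, Int.ofNat 0, Int.ofNat 2, Int.ofNat 0, Int.ofNat 0, Int.negSucc 1],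
  [Int.ofNat 0, Int.ofNat 0, Int.ofNat 0, Int.ofNat 0, Int.ofNat 0, Int.ofNat 0, Int.ofNat 0, Int.ofNat 0, Int.ofNat 0, Int.ofNat 0, Int.negSucc 3, Int.ofNat 0, Int.ofNat 0, Int.ofNat 0, Int.ofNat 0, Int.ofNat 0, Int.ofNat 0, Int.ofNat 0, Int.ofNat 0, Int.ofNat 0, Int.ofNat 0, Int.ofNat 0, Int.ofNat 0, Int.ofNat 4],
  [Int.ofNat 0, Int.ofNat 0, Int.ofNat 0, Int.ofNat 0, Int.ofNat 0, Int.ofNat 0, Int.ofNat 0, Int.ofNat 0, Int.ofNat 0, Int.ofNat 0, Int.ofNat 4, Int.ofNat 0, Int.ofNat 0, Int.ofNat 0, Int.ofNat 0, Int.ofNat 0, Int.ofNat 0, Int.ofNat 0, Int.ofNat 0, Int.ofNat 0, Int.ofNat 0, Int.ofNat 0, Int.ofNat 0, Int.ofNat 4],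
  [Int.ofNat 4, Int.ofNat 0, Int.ofNat 0, Int.ofNat 0, Int.ofNat 0, Int.ofNat 0, Int.ofNat 0, Int.ofNat 0, Int.ofNat 0, Int.ofNat 0, Int.ofNat 0, Int.ofNat 0, Int.ofNat 0, Int.ofNat 0, Int.ofNat 0, Int.ofNat 0, Int.ofNat 0, Int.ofNat 0, Int.ofNat 0, Int.ofNat 0, Int.ofNat 0, Int.ofNat 0, Int.ofNat 0, Int.ofNat 4],
  [Int.negSucc 3, Int.ofNat 0, Int.ofNat 0, Int.ofNat 0, Int.ofNat 0, Int.ofNat 0, Int.ofNat 0, Int.ofNat 0, Int.ofNat 0, Int.ofNat 0, Int.ofNat 0, Int.ofNat 0, Int.ofNat 0, Int.ofNat 0, Int.ofNat 0, Int.ofNat 0, Int.ofNat 0, Int.ofNat 0, Int.ofNat 0, Int.ofNat 0, Int.ofNat 0, Int.ofNat 0, Int.ofNat 0, Int.ofNat 4],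
  [Int.negSucc 3, Int.ofNat 0, Int.ofNat 0, Int.ofNat 0, Int.ofNat 0, Int.ofNat 0, Int.ofNat 0, Int.ofNat 0, Int.ofNat 0, Int.ofNat 0, Int.ofNat 0, Int.ofNat 0, Int.ofNat 0, Int.ofNat 0, Int.ofNat 0, Int.ofNat 0, Int.ofNat 0, Int.ofNat 0, Int.ofNat 0, Int.ofNat 0, Int.ofNat 0, Int.ofNat 0, Int.ofNat 0, Int.ofNat 4],
  [Int.ofNat 4, Int.ofNat 0, Int.ofNat 0, Int.ofNat 0, Int.ofNat 0, Int.ofNat 0, Int.ofNat 0, Int.ofNat 0, Int.ofNat 0, Int.ofNat 0, Int.ofNat 0, Int.ofNat 0, Int.ofNat 0, Int.ofNat 0, Int.ofNat 0, Int.ofNat 0, Int.ofNat 0, Int.ofNat 0, Int.ofNat 0, Int.ofNat 0, Int.ofNat 0, Int.ofNat 0, Int.ofNat 0, Int.ofNat 4],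
  [Int.ofNat 0, Int.ofNat 4, Int.ofNat 0, Int.ofNat 0, Int.ofNat 0, Int.ofNat 0, Int.ofNat 0, Int.ofNat 0, Int.ofNat 0, Int.ofNat 0, Int.ofNat 0, Int.ofNat 0, Int.ofNat 0, Int.ofNat 0, Int.ofNat 0, Int.ofNat 0, Int.ofNat 0, Int.ofNat 0, Int.ofNat 0, Int.ofNat 0, Int.ofNat 0, Int.ofNat 0, Int.ofNat 0, Int.ofNat 4],
  [Int.ofNat 4, Int.ofNat 0, Int.ofNat 4, Int.ofNat 0, Int.ofNat 0, Int.ofNat 0, Int.ofNat 0, Int.ofNat 0, Int.ofNat 0, Int.ofNat 0, Int.ofNat 0, Int.ofNat 0, Int.ofNat 0, Int.ofNat 0, Int.ofNat 0, Int.ofNat 0, Int.ofNat 0, Int.ofNat 0, Int.ofNat 0, Int.ofNat 0, Int.ofNat 0, Int.ofNat 0, Int.ofNat 0, Int.ofNat 0],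
  [Int.ofNat 0, Int.ofNat 0, Int.ofNat 0, Int.ofNat 0, Int.ofNat 0, Int.ofNat 0, Int.ofNat 0, Int.ofNat 0, Int.ofNat 0, Int.ofNat 0, Int.ofNat 0, Int.ofNat 0, Int.ofNat 0, Int.ofNat 0, Int.ofNat 0, Int.ofNat 0, Int.ofNat 0, Int.ofNat 0, Int.ofNat 0, Int.ofNat 0, Int.ofNat 4, Int.ofNat 0, Int.ofNat 4, Int.ofNat 0],
  [Int.ofNat 0, Int.ofNat 0, Int.ofNat 0, Int.ofNat 0, Int.negSucc 1, Int.ofNat 0, Int.ofNat 0, Int.ofNat 0, Int.ofNat 0, Int.negSucc 1, Int.negSucc 1, Int.ofNat 0, Int.ofNat 0, Int.negSucc 1, Int.ofNat 0, Int.negSucc 1, Int.negSucc 1, Int.ofNat 0, Int.ofNat 0, Int.ofNat 0, Int.ofNat 2, Int.ofNat 0, Int.ofNat 2, Int.ofNat 0],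
  [Int.ofNat 0, Int.ofNat 0, Int.negSucc 1, Int.ofNat 0, Int.ofNat 0, Int.ofNat 0, Int.ofNat 0, Int.negSucc 1, Int.ofNat 0, Int.negSucc 1, Int.ofNat 2, Int.ofNat 0, Int.negSucc 1, Int.negSucc 1, Int.ofNat 2, Int.negSucc 1, Int.ofNat 0, Int.ofNat 0, Int.ofNat 0, Int.ofNat 0, Int.ofNat 0, Int.ofNat 0, Int.ofNat 0, Int.ofNat 0],
  [Int.negSucc 0, Int.negSucc 0, Int.ofNat 1, Int.negSucc 0, Int.ofNat 1, Int.negSucc 0, Int.ofNat 1, Int.negSucc 0, Int.ofNat 1, Int.negSucc 0, Int.ofNat 3, Int.ofNat 1, Int.negSucc 0, Int.negSucc 0, Int.ofNat 1, Int.negSucc 0, Int.ofNat 1, Int.negSucc 0, Int.ofNat 1, Int.ofNat 1, Int.ofNat 1, Int.ofNat 1, Int.ofNat 1, Int.negSucc 0],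
  [Int.negSucc 0, Int.negSucc 0, Int.negSucc 0, Int.negSucc 0, Int.ofNat 1, Int.ofNat 1, Int.negSucc 0, Int.negSucc 0, Int.ofNat 1, Int.ofNat 1, Int.negSucc 2, Int.ofNat 1, Int.negSucc 0, Int.negSucc 0, Int.ofNat 1, Int.ofNat 1, Int.ofNat 1, Int.negSucc 0, Int.negSucc 0, Int.ofNat 1, Int.ofNat 1, Int.ofNat 1, Int.negSucc 0, Int.negSucc 0],
  [Int.negSucc 2, Int.ofNat 1, Int.ofNat 1, Int.ofNat 1, Int.ofNat 1, Int.negSucc 0, Int.ofNat 1, Int.negSucc 0, Int.ofNat 1, Int.ofNat 1, Int.negSucc 0, Int.negSucc 0, Int.ofNat 1, Int.ofNat 1, Int.negSucc 0, Int.negSucc 0, Int.ofNat 1, Int.negSucc 0, Int.ofNat 1, Int.negSucc 0, Int.negSucc 0, Int.negSucc 0, Int.negSucc 0, Int.negSucc 0],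
  [Int.ofNat 3, Int.negSucc 0, Int.negSucc 0, Int.negSucc 0, Int.negSucc 0, Int.negSucc 0, Int.negSucc 0, Int.negSucc 0, Int.negSucc 0, Int.negSucc 0, Int.negSucc 0, Int.negSucc 0, Int.negSucc 0, Int.negSucc 0, Int.negSucc 0, Int.negSucc 0, Int.negSucc 0, Int.negSucc 0, Int.negSucc 0, Int.negSucc 0, Int.negSucc 0, Int.negSucc 0, Int.negSucc 0, Int.negSucc 0],
  [Int.ofNat 3, Int.negSucc 0, Int.negSucc 0, Int.negSucc 0, Int.negSucc 0, Int.negSucc 0, Int.negSucc 0, Int.negSucc 0, Int.negSucc 0, Int.negSucc 0, Int.negSucc 0, Int.negSucc 0, Int.negSucc 0, Int.negSucc 0, Int.negSucc 0, Int.negSucc 0, Int.negSucc 0, Int.negSucc 0, Int.negSucc 0, Int.negSucc 0, Int.negSucc 0, Int.negSucc 0, Int.negSucc 0, Int.negSucc 0],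
  [Int.negSucc 2, Int.negSucc 0, Int.ofNat 1, Int.negSucc 0, Int.negSucc 0, Int.negSucc 0, Int.negSucc 0, Int.ofNat 1, Int.negSucc 0, Int.ofNat 1, Int.ofNat 1, Int.ofNat 1, Int.negSucc 0, Int.negSucc 0, Int.negSucc 0, Int.negSucc 0, Int.negSucc 0, Int.negSucc 0, Int.ofNat 1, Int.negSucc 0, Int.negSucc 0, Int.ofNat 1, Int.negSucc 0, Int.negSucc 0],
  [Int.negSucc 0, Int.negSucc 2, Int.negSucc 0, Int.ofNat 1, Int.negSucc 0, Int.negSucc 0, Int.negSucc 0, Int.negSucc 0, Int.ofNat 1, Int.negSucc 0, Int.ofNat 1, Int.ofNat 1, Int.ofNat 1, Int.negSucc 0, Int.negSucc 0, Int.negSucc 0, Int.negSucc 0, Int.negSucc 0, Int.negSucc 0, Int.ofNat 1, Int.negSucc 0, Int.negSucc 0, Int.ofNat 1, Int.negSucc 0],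
  [Int.negSucc 1, Int.ofNat 0, Int.negSucc 1, Int.ofNat 2, Int.ofNat 0, Int.ofNat 0, Int.ofNat 0, Int.ofNat 0, Int.ofNat 0, Int.ofNat 0, Int.ofNat 2, Int.ofNat 0, Int.ofNat 0, Int.ofNat 0, Int.ofNat 0, Int.ofNat 0, Int.ofNat 0, Int.ofNat 0, Int.negSucc 1, Int.ofNat 2, Int.ofNat 0, Int.ofNat 0, Int.ofNat 2, Int.negSucc 1],
  [Int.ofNat 2, Int.ofNat 0, Int.ofNat 0, Int.ofNat 0, Int.ofNat 0, Int.ofNat 0, Int.ofNat 0, Int.ofNat 2, Int.ofNat 0, Int.ofNat 0, Int.ofNat 0, Int.ofNat 0, Int.ofNat 0, Int.ofNat 0, Int.ofNat 0, Int.negSucc 1, Int.ofNat 2, Int.ofNat 0, Int.ofNat 0, Int.ofNat 2, Int.negSucc 1, Int.ofNat 0, Int.negSucc 1, Int.negSucc 1],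
  [Int.negSucc 1, Int.ofNat 0, Int.ofNat 0, Int.ofNat 0, Int.ofNat 0, Int.ofNat 0, Int.negSucc 1, Int.ofNat 0, Int.ofNat 0, Int.ofNat 2, Int.ofNat 2, Int.ofNat 0, Int.ofNat 0, Int.ofNat 0, Int.ofNat 0, Int.ofNat 0, Int.ofNat 2, Int.ofNat 0, Int.ofNat 0, Int.ofNat 0, Int.ofNat 0, Int.negSucc 1, Int.negSucc 1, Int.ofNat 2],
  [Int.negSucc 1, Int.negSucc 1, Int.ofNat 0, Int.ofNat 0, Int.ofNat 0, Int.ofNat 0, Int.ofNat 0, Int.ofNat 2, Int.ofNat 0, Int.ofNat 0, Int.ofNat 0, Int.ofNat 0, Int.ofNat 2, Int.ofNat 2, Int.negSucc 1, Int.ofNat 0, Int.ofNat 0, Int.ofNat 0, Int.ofNat 0, Int.ofNat 0, Int.negSucc 1, Int.ofNat 0, Int.ofNat 0, Int.ofNat 2],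
  [Int.ofNat 1, Int.ofNat 1, Int.negSucc 0, Int.ofNat 1, Int.negSucc 0, Int.ofNat 1, Int.negSucc 0, Int.ofNat 1, Int.negSucc 0, Int.ofNat 1, Int.ofNat 1, Int.negSucc 0, Int.ofNat 1, Int.ofNat 1, Int.negSucc 0, Int.ofNat 1, Int.negSucc 0, Int.ofNat 1, Int.negSucc 0, Int.negSucc 0, Int.negSucc 0, Int.negSucc 0, Int.negSucc 0, Int.negSucc 2],
  [Int.ofNat 1, Int.ofNat 1, Int.ofNat 1, Int.ofNat 1, Int.negSucc 0, Int.negSucc 0, Int.ofNat 1, Int.ofNat 1, Int.negSucc 0, Int.negSucc 0, Int.negSucc 0, Int.negSucc 0, Int.ofNat 1, Int.ofNat 1, Int.negSucc 0, Int.negSucc 0, Int.negSucc 0, Int.ofNat 1, Int.ofNat 1, Int.negSucc 0, Int.negSucc 0, Int.negSucc 0, Int.ofNat 1, Int.negSucc 2],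
  [Int.negSucc 0, Int.negSucc 0, Int.negSucc 0, Int.negSucc 0, Int.negSucc 0, Int.ofNat 1, Int.negSucc 0, Int.ofNat 1, Int.negSucc 0, Int.negSucc 0, Int.ofNat 1, Int.ofNat 1, Int.negSucc 0, Int.negSucc 0, Int.ofNat 1, Int.ofNat 1, Int.negSucc 0, Int.ofNat 1, Int.negSucc 0, Int.ofNat 1, Int.ofNat 1, Int.ofNat 1, Int.ofNat 1, Int.negSucc 2],
  [Int.ofNat 1, Int.ofNat 1, Int.ofNat 1, Int.ofNat 1, Int.ofNat 1, Int.ofNat 1, Int.ofNat 1, Int.ofNat 1, Int.ofNat 1, Int.ofNat 1, Int.ofNat 1, Int.ofNat 1, Int.ofNat 1, Int.ofNat 1, Int.ofNat 1, Int.ofNat 1, Int.ofNat 1, Int.ofNat 1, Int.ofNat 1, Int.ofNat 1, Int.ofNat 1, Int.ofNat 1, Int.ofNat 1, Int.negSucc 2],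
  [Int.ofNat 1, Int.ofNat 1, Int.ofNat 1, Int.ofNat 1, Int.ofNat 1, Int.ofNat 1, Int.ofNat 1, Int.ofNat 1, Int.ofNat 1, Int.ofNat 1, Int.ofNat 1, Int.ofNat 1, Int.ofNat 1, Int.ofNat 1, Int.ofNat 1, Int.ofNat 1, Int.ofNat 1, Int.ofNat 1, Int.ofNat 1, Int.ofNat 1, Int.ofNat 1, Int.ofNat 1, Int.ofNat 1, Int.negSucc 2],
  [Int.negSucc 0, Int.ofNat 1, Int.negSucc 0, Int.ofNat 1, Int.ofNat 1, Int.ofNat 1, Int.ofNat 1, Int.negSucc 0, Int.ofNat 1, Int.negSucc 0, Int.negSucc 0, Int.negSucc 0, Int.ofNat 1, Int.ofNat 1, Int.ofNat 1, Int.ofNat 1, Int.ofNat 1, Int.ofNat 1, Int.negSucc 0, Int.ofNat 1, Int.ofNat 1, Int.negSucc 0, Int.ofNat 1, Int.negSucc 2],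
  [Int.ofNat 1, Int.negSucc 0, Int.ofNat 1, Int.negSucc 0, Int.ofNat 1, Int.ofNat 1, Int.ofNat 1, Int.ofNat 1, Int.negSucc 0, Int.ofNat 1, Int.negSucc 0, Int.negSucc 0, Int.negSucc 0, Int.ofNat 1, Int.ofNat 1, Int.ofNat 1, Int.ofNat 1, Int.ofNat 1, Int.ofNat 1, Int.negSucc 0, Int.ofNat 1, Int.ofNat 1, Int.negSucc 0, Int.negSucc 2],
  [Int.negSucc 1, Int.ofNat 0, Int.negSucc 1, Int.negSucc 1, Int.ofNat 0, Int.ofNat 0, Int.ofNat 0, Int.ofNat 0, Int.ofNat 0, Int.ofNat 0, Int.negSucc 1, Int.ofNat 0, Int.ofNat 0, Int.ofNat 0, Int.ofNat 0, Int.ofNat 0, Int.ofNat 0, Int.ofNat 0, Int.ofNat 2, Int.negSucc 1, Int.ofNat 0, Int.ofNat 0, Int.negSucc 1, Int.ofNat 2],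
  [Int.negSucc 1, Int.ofNat 0, Int.ofNat 0, Int.ofNat 0, Int.ofNat 0, Int.ofNat 0, Int.ofNat 0, Int.negSucc 1, Int.ofNat 0, Int.ofNat 0, Int.ofNat 0, Int.ofNat 0, Int.ofNat 0, Int.ofNat 0, Int.ofNat 0, Int.ofNat 2, Int.negSucc 1, Int.ofNat 0, Int.ofNat 0, Int.negSucc 1, Int.negSucc 1, Int.ofNat 0, Int.negSucc 1, Int.ofNat 2],
  [Int.ofNat 2, Int.ofNat 0, Int.ofNat 0, Int.ofNat 0, Int.ofNat 2, Int.ofNat 0, Int.ofNat 2, Int.ofNat 0, Int.ofNat 0, Int.ofNat 0, Int.ofNat 0, Int.ofNat 0, Int.ofNat 0, Int.ofNat 2, Int.ofNat 0, Int.ofNat 2, Int.ofNat 0, Int.ofNat 0, Int.ofNat 0, Int.ofNat 0, Int.negSucc 1, Int.ofNat 2, Int.ofNat 0, Int.negSucc 1],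
  [Int.ofNat 2, Int.ofNat 2, Int.ofNat 2, Int.ofNat 0, Int.ofNat 0, Int.ofNat 0, Int.ofNat 0, Int.ofNat 0, Int.ofNat 0, Int.ofNat 2, Int.negSucc 1, Int.ofNat 0, Int.ofNat 0, Int.ofNat 0, Int.ofNat 0, Int.ofNat 2, Int.ofNat 0, Int.ofNat 0, Int.ofNat 0, Int.ofNat 0, Int.ofNat 2, Int.ofNat 0, Int.ofNat 0, Int.negSucc 1],
  [Int.ofNat 0, Int.ofNat 0, Int.ofNat 0, Int.ofNat 0, Int.ofNat 0, Int.ofNat 0, Int.ofNat 0, Int.ofNat 0, Int.ofNat 0, Int.ofNat 0, Int.negSucc 3, Int.ofNat 0, Int.ofNat 0, Int.ofNat 0, Int.ofNat 0, Int.ofNat 0, Int.ofNat 0, Int.ofNat 0, Int.ofNat 0, Int.ofNat 0, Int.ofNat 0, Int.ofNat 0, Int.ofNat 0, Int.ofNat 4],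
  [Int.ofNat 0, Int.ofNat 0, Int.ofNat 0, Int.ofNat 0, Int.ofNat 0, Int.ofNat 0, Int.ofNat 0, Int.ofNat 0, Int.ofNat 0, Int.ofNat 0, Int.ofNat 4, Int.ofNat 0, Int.ofNat 0, Int.ofNat 0, Int.ofNat 0, Int.ofNat 0, Int.ofNat 0, Int.ofNat 0, Int.ofNat 0, Int.ofNat 0, Int.ofNat 0, Int.ofNat 0, Int.ofNat 0, Int.ofNat 4],
  [Int.ofNat 4, Int.ofNat 0, Int.ofNat 0, Int.ofNat 0, Int.ofNat 0, Int.ofNat 0, Int.ofNat 0, Int.ofNat 0, Int.ofNat 0, Int.ofNat 0, Int.ofNat 0, Int.ofNat 0, Int.ofNat 0, Int.ofNat 0, Int.ofNat 0, Int.ofNat 0, Int.ofNat 0, Int.ofNat 0, Int.ofNat 0, Int.ofNat 0, Int.ofNat 0, Int.ofNat 0, Int.ofNat 0, Int.ofNat 4],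
  [Int.negSucc 3, Int.ofNat 0, Int.ofNat 0, Int.ofNat 0, Int.ofNat 0, Int.ofNat 0, Int.ofNat 0, Int.ofNat 0, Int.ofNat 0, Int.ofNat 0, Int.ofNat 0, Int.ofNat 0, Int.ofNat 0, Int.ofNat 0, Int.ofNat 0, Int.ofNat 0, Int.ofNat 0, Int.ofNat 0, Int.ofNat 0, Int.ofNat 0, Int.ofNat 0, Int.ofNat 0, Int.ofNat 0, Int.ofNat 4],
  [Int.negSucc 3, Int.ofNat 0, Int.ofNat 0, Int.ofNat 0, Int.ofNat 0, Int.ofNat 0, Int.ofNat 0, Int.ofNat 0, Int.ofNat 0, Int.ofNat 0, Int.ofNat 0, Int.ofNat 0, Int.ofNat 0, Int.ofNat 0, Int.ofNat 0, Int.ofNat 0, Int.ofNat 0, Int.ofNat 0, Int.ofNat 0, Int.ofNat 0, Int.ofNat 0, Int.ofNat 0, Int.ofNat 0, Int.ofNat 4],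
  [Int.ofNat 4, Int.ofNat 0, Int.ofNat 0, Int.ofNat 0, Int.ofNat 0, Int.ofNat 0, Int.ofNat 0, Int.ofNat 0, Int.ofNat 0, Int.ofNat 0, Int.ofNat 0, Int.ofNat 0, Int.ofNat 0, Int.ofNat 0, Int.ofNat 0, Int.ofNat 0, Int.ofNat 0, Int.ofNat 0, Int.ofNat 0, Int.ofNat 0, Int.ofNat 0, Int.ofNat 0, Int.ofNat 0, Int.ofNat 4],
  [Int.ofNat 0, Int.ofNat 4, Int.ofNat 0, Int.ofNat 0, Int.ofNat 0, Int.ofNat 0, Int.ofNat 0, Int.ofNat 0, Int.ofNat 0, Int.ofNat 0, Int.ofNat 0, Int.ofNat 0, Int.ofNat 0, Int.ofNat 0, Int.ofNat 0, Int.ofNat 0, Int.ofNat 0, Int.ofNat 0, Int.ofNat 0, Int.ofNat 0, Int.ofNat 0, Int.ofNat 0, Int.ofNat 0, Int.ofNat 4],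
  [Int.ofNat 4, Int.ofNat 0, Int.ofNat 4, Int.ofNat 0, Int.ofNat 0, Int.ofNat 0, Int.ofNat 0, Int.ofNat 0, Int.ofNat 0, Int.ofNat 0, Int.ofNat 0, Int.ofNat 0, Int.ofNat 0, Int.ofNat 0, Int.ofNat 0, Int.ofNat 0, Int.ofNat 0, Int.ofNat 0, Int.ofNat 0, Int.ofNat 0, Int.ofNat 0, Int.ofNat 0, Int.ofNat 0, Int.ofNat 0],
  [Int.ofNat 0, Int.ofNat 0, Int.ofNat 0, Int.ofNat 0, Int.ofNat 0, Int.ofNat 0, Int.ofNat 0, Int.ofNat 0, Int.ofNat 0, Int.ofNat 0, Int.ofNat 0, Int.ofNat 0, Int.ofNat 0, Int.ofNat 0, Int.ofNat 0, Int.ofNat 0, Int.ofNat 0, Int.ofNat 0, Int.ofNat 0, Int.ofNat 0, Int.ofNat 4, Int.ofNat 0, Int.ofNat 4, Int.ofNat 0],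
  [Int.ofNat 0, Int.ofNat 0, Int.ofNat 0, Int.ofNat 0, Int.negSucc 1, Int.ofNat 0, Int.ofNat 0, Int.ofNat 0, Int.ofNat 0, Int.negSucc 1, Int.negSucc 1, Int.ofNat 0, Int.ofNat 0, Int.negSucc 1, Int.ofNat 0, Int.negSucc 1, Int.negSucc 1, Int.ofNat 0, Int.ofNat 0, Int.ofNat 0, Int.ofNat 2, Int.ofNat 0, Int.ofNat 2, Int.ofNat 0],
  [Int.ofNat 0, Int.ofNat 0, Int.negSucc 1, Int.ofNat 0, Int.ofNat 0, Int.ofNat 0, Int.ofNat 0, Int.negSucc 1, Int.ofNat 0, Int.negSucc 1, Int.ofNat 2, Int.ofNat 0, Int.negSucc 1, Int.negSucc 1, Int.ofNat 2, Int.negSucc 1, Int.ofNat 0, Int.ofNat 0, Int.ofNat 0, Int.ofNat 0, Int.ofNat 0, Int.ofNat 0, Int.ofNat 0, Int.ofNat 0],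
  [Int.negSucc 0, Int.negSucc 0, Int.ofNat 1, Int.negSucc 0, Int.ofNat 1, Int.negSucc 0, Int.ofNat 1, Int.negSucc 0, Int.ofNat 1, Int.negSucc 0, Int.ofNat 3, Int.ofNat 1, Int.negSucc 0, Int.negSucc 0, Int.ofNat 1, Int.negSucc 0, Int.ofNat 1, Int.negSucc 0, Int.ofNat 1, Int.ofNat 1, Int.ofNat 1, Int.ofNat 1, Int.ofNat 1, Int.negSucc 0],
  [Int.negSucc 0, Int.negSucc 0, Int.negSucc 0, Int.negSucc 0, Int.ofNat 1, Int.ofNat 1, Int.negSucc 0, Int.negSucc 0, Int.ofNat 1, Int.ofNat 1, Int.negSucc 2, Int.ofNat 1, Int.negSucc 0, Int.negSucc 0, Int.ofNat 1, Int.ofNat 1, Int.ofNat 1, Int.negSucc 0, Int.negSucc 0, Int.ofNat 1, Int.ofNat 1, Int.ofNat 1, Int.negSucc 0, Int.negSucc 0],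
  [Int.negSucc 2, Int.ofNat 1, Int.ofNat 1, Int.ofNat 1, Int.ofNat 1, Int.negSucc 0, Int.ofNat 1, Int.negSucc 0, Int.ofNat 1, Int.ofNat 1, Int.negSucc 0, Int.negSucc 0, Int.ofNat 1, Int.ofNat 1, Int.negSucc 0, Int.negSucc 0, Int.ofNat 1, Int.negSucc 0, Int.ofNat 1, Int.negSucc 0, Int.negSucc 0, Int.negSucc 0, Int.negSucc 0, Int.negSucc 0],
  [Int.ofNat 3, Int.negSucc 0, Int.negSucc 0, Int.negSucc 0, Int.negSucc 0, Int.negSucc 0, Int.negSucc 0, Int.negSucc 0, Int.negSucc 0, Int.negSucc 0, Int.negSucc 0, Int.negSucc 0, Int.negSucc 0, Int.negSucc 0, Int.negSucc 0, Int.negSucc 0, Int.negSucc 0, Int.negSucc 0, Int.negSucc 0, Int.negSucc 0, Int.negSucc 0, Int.negSucc 0, Int.negSucc 0, Int.negSucc 0],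
  [Int.ofNat 3, Int.negSucc 0, Int.negSucc 0, Int.negSucc 0, Int.negSucc 0, Int.negSucc 0, Int.negSucc 0, Int.negSucc 0, Int.negSucc 0, Int.negSucc 0, Int.negSucc 0, Int.negSucc 0, Int.negSucc 0, Int.negSucc 0, Int.negSucc 0, Int.negSucc 0, Int.negSucc 0, Int.negSucc 0, Int.negSucc 0, Int.negSucc 0, Int.negSucc 0, Int.negSucc 0, Int.negSucc 0, Int.negSucc 0],
  [Int.negSucc 2, Int.negSucc 0, Int.ofNat 1, Int.negSucc 0, Int.negSucc 0, Int.negSucc 0, Int.negSucc 0, Int.ofNat 1, Int.negSucc 0, Int.ofNat 1, Int.ofNat 1, Int.ofNat 1, Int.negSucc 0, Int.negSucc 0, Int.negSucc 0, Int.negSucc 0, Int.negSucc 0, Int.negSucc 0, Int.ofNat 1, Int.negSucc 0, Int.negSucc 0, Int.ofNat 1, Int.negSucc 0, Int.negSucc 0],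
  [Int.negSucc 0, Int.negSucc 2, Int.negSucc 0, Int.ofNat 1, Int.negSucc 0, Int.negSucc 0, Int.negSucc 0, Int.negSucc 0, Int.ofNat 1, Int.negSucc 0, Int.ofNat 1, Int.ofNat 1, Int.ofNat 1, Int.negSucc 0, Int.negSucc 0, Int.negSucc 0, Int.negSucc 0, Int.negSucc 0, Int.negSucc 0, Int.ofNat 1, Int.negSucc 0, Int.negSucc 0, Int.ofNat 1, Int.negSucc 0],
  [Int.negSucc 1, Int.ofNat 0, Int.negSucc 1, Int.ofNat 2, Int.ofNat 0, Int.ofNat 0, Int.ofNat 0, Int.ofNat 0, Int.ofNat 0, Int.ofNat 0, Int.ofNat 2, Int.ofNat 0, Int.ofNat 0, Int.ofNat 0, Int.ofNat 0, Int.ofNat 0, Int.ofNat 0, Int.ofNat 0, Int.negSucc 1, Int.ofNat 2, Int.ofNat 0, Int.ofNat 0, Int.ofNat 2, Int.negSucc 1],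
  [Int.ofNat 2, Int.ofNat 0, Int.ofNat 0, Int.ofNat 0, Int.ofNat 0, Int.ofNat 0, Int.ofNat 0, Int.ofNat 2, Int.ofNat 0, Int.ofNat 0, Int.ofNat 0, Int.ofNat 0, Int.ofNat 0, Int.ofNat 0, Int.ofNat 0, Int.negSucc 1, Int.ofNat 2, Int.ofNat 0, Int.ofNat 0, Int.ofNat 2, Int.negSucc 1, Int.ofNat 0, Int.negSucc 1, Int.negSucc 1],
  [Int.negSucc 1, Int.ofNat 0, Int.ofNat 0, Int.ofNat 0, Int.ofNat 0, Int.ofNat 0, Int.negSucc 1, Int.ofNat 0, Int.ofNat 0, Int.ofNat 2, Int.ofNat 2, Int.ofNat 0, Int.ofNat 0, Int.ofNat 0, Int.ofNat 0, Int.ofNat 0, Int.ofNat 2, Int.ofNat 0, Int.ofNat 0, Int.ofNat 0, Int.ofNat 0, Int.negSucc 1, Int.negSucc 1, Int.ofNat 2],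
  [Int.negSucc 1, Int.negSucc 1, Int.ofNat 0, Int.ofNat 0, Int.ofNat 0, Int.ofNat 0, Int.ofNat 0, Int.ofNat 2, Int.ofNat 0, Int.ofNat 0, Int.ofNat 0, Int.ofNat 0, Int.ofNat 2, Int.ofNat 2, Int.negSucc 1, Int.ofNat 0, Int.ofNat 0, Int.ofNat 0, Int.ofNat 0, Int.ofNat 0, Int.negSucc 1, Int.ofNat 0, Int.ofNat 0, Int.ofNat 2],
  [Int.ofNat 1, Int.ofNat 1, Int.negSucc 0, Int.ofNat 1, Int.negSucc 0, Int.ofNat 1, Int.negSucc 0, Int.ofNat 1, Int.negSucc 0, Int.ofNat 1, Int.ofNat 1, Int.negSucc 0, Int.ofNat 1, Int.ofNat 1, Int.negSucc 0, Int.ofNat 1, Int.negSucc 0, Int.ofNat 1, Int.negSucc 0, Int.negSucc 0, Int.negSucc 0, Int.negSucc 0, Int.negSucc 0, Int.negSucc 2],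
  [Int.ofNat 1, Int.ofNat 1, Int.ofNat 1, Int.ofNat 1, Int.negSucc 0, Int.negSucc 0, Int.ofNat 1, Int.ofNat 1, Int.negSucc 0, Int.negSucc 0, Int.negSucc 0, Int.negSucc 0, Int.ofNat 1, Int.ofNat 1, Int.negSucc 0, Int.negSucc 0, Int.negSucc 0, Int.ofNat 1, Int.ofNat 1, Int.negSucc 0, Int.negSucc 0, Int.negSucc 0, Int.ofNat 1, Int.negSucc 2],
  [Int.negSucc 0, Int.negSucc 0, Int.negSucc 0, Int.negSucc 0, Int.negSucc 0, Int.ofNat 1, Int.negSucc 0, Int.ofNat 1, Int.negSucc 0, Int.negSucc 0, Int.ofNat 1, Int.ofNat 1, Int.negSucc 0, Int.negSucc 0, Int.ofNat 1, Int.ofNat 1, Int.negSucc 0, Int.ofNat 1, Int.negSucc 0, Int.ofNat 1, Int.ofNat 1, Int.ofNat 1, Int.ofNat 1, Int.negSucc 2],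
  [Int.ofNat 1, Int.ofNat 1, Int.ofNat 1, Int.ofNat 1, Int.ofNat 1, Int.ofNat 1, Int.ofNat 1, Int.ofNat 1, Int.ofNat 1, Int.ofNat 1, Int.ofNat 1, Int.ofNat 1, Int.ofNat 1, Int.ofNat 1, Int.ofNat 1, Int.ofNat 1, Int.ofNat 1, Int.ofNat 1, Int.ofNat 1, Int.ofNat 1, Int.ofNat 1, Int.ofNat 1, Int.ofNat 1, Int.negSucc 2],
  [Int.ofNat 1, Int.ofNat 1, Int.ofNat 1, Int.ofNat 1, Int.ofNat 1, Int.ofNat 1, Int.ofNat 1, Int.ofNat 1, Int.ofNat 1, Int.ofNat 1, Int.ofNat 1, Int.ofNat 1, Int.ofNat 1, Int.ofNat 1, Int.ofNat 1, Int.ofNat 1, Int.ofNat 1, Int.ofNat 1, Int.ofNat 1, Int.ofNat 1, Int.ofNat 1, Int.ofNat 1, Int.ofNat 1, Int.negSucc 2],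
  [Int.negSucc 0, Int.ofNat 1, Int.negSucc 0, Int.ofNat 1, Int.ofNat 1, Int.ofNat 1, Int.ofNat 1, Int.negSucc 0, Int.ofNat 1, Int.negSucc 0, Int.negSucc 0, Int.negSucc 0, Int.ofNat 1, Int.ofNat 1, Int.ofNat 1, Int.ofNat 1, Int.ofNat 1, Int.ofNat 1, Int.negSucc 0, Int.ofNat 1, Int.ofNat 1, Int.negSucc 0, Int.ofNat 1, Int.negSucc 2],
  [Int.ofNat 1, Int.negSucc 0, Int.ofNat 1, Int.negSucc 0, Int.ofNat 1, Int.ofNat 1, Int.ofNat 1, Int.ofNat 1, Int.negSucc 0, Int.ofNat 1, Int.negSucc 0, Int.negSucc 0, Int.negSucc 0, Int.ofNat 1, Int.ofNat 1, Int.ofNat 1, Int.ofNat 1, Int.ofNat 1, Int.ofNat 1, Int.negSucc 0, Int.ofNat 1, Int.ofNat 1, Int.negSucc 0, Int.negSucc 2],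
  [Int.negSucc 1, Int.ofNat 0, Int.negSucc 1, Int.negSucc 1, Int.ofNat 0, Int.ofNat 0, Int.ofNat 0, Int.ofNat 0, Int.ofNat 0, Int.ofNat 0, Int.negSucc 1, Int.ofNat 0, Int.ofNat 0, Int.ofNat 0, Int.ofNat 0, Int.ofNat 0, Int.ofNat 0, Int.ofNat 0, Int.ofNat 2, Int.negSucc 1, Int.ofNat 0, Int.ofNat 0, Int.negSucc 1, Int.ofNat 2],
  [Int.negSucc 1, Int.ofNat 0, Int.ofNat 0, Int.ofNat 0, Int.ofNat 0, Int.ofNat 0, Int.ofNat 0, Int.negSucc 1, Int.ofNat 0, Int.ofNat 0, Int.ofNat 0, Int.ofNat 0, Int.ofNat 0, Int.ofNat 0, Int.ofNat 0, Int.ofNat 2, Int.negSucc 1, Int.ofNat 0, Int.ofNat 0, Int.negSucc 1, Int.negSucc 1, Int.ofNat 0, Int.negSucc 1, Int.ofNat 2],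
  [Int.ofNat 2, Int.ofNat 0, Int.ofNat 0, Int.ofNat 0, Int.ofNat 2, Int.ofNat 0, Int.ofNat 2, Int.ofNat 0, Int.ofNat 0, Int.ofNat 0, Int.ofNat 0, Int.ofNat 0, Int.ofNat 0, Int.ofNat 2, Int.ofNat 0, Int.ofNat 2, Int.ofNat 0, Int.ofNat 0, Int.ofNat 0, Int.ofNat 0, Int.negSucc 1, Int.ofNat 2, Int.ofNat 0, Int.negSucc 1],
  [Int.ofNat 2, Int.ofNat 2, Int.ofNat 2, Int.ofNat 0, Int.ofNat 0, Int.ofNat 0, Int.ofNat 0, Int.ofNat 0, Int.ofNat 0, Int.ofNat 2, Int.negSucc 1, Int.ofNat 0, Int.ofNat 0, Int.ofNat 0, Int.ofNat 0, Int.ofNat 2, Int.ofNat 0, Int.ofNat 0, Int.ofNat 0, Int.ofNat 0, Int.ofNat 2, Int.ofNat 0, Int.ofNat 0, Int.negSucc 1],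
  [Int.ofNat 0, Int.ofNat 0, Int.ofNat 0, Int.ofNat 0, Int.ofNat 0, Int.ofNat 0, Int.ofNat 0, Int.ofNat 0, Int.ofNat 0, Int.ofNat 0, Int.negSucc 3, Int.ofNat 0, Int.ofNat 0, Int.ofNat 0, Int.ofNat 0, Int.ofNat 0, Int.ofNat 0, Int.ofNat 0, Int.ofNat 0, Int.ofNat 0, Int.ofNat 0, Int.ofNat 0, Int.ofNat 0, Int.ofNat 4],
  [Int.ofNat 0, Int.ofNat 0, Int.ofNat 0, Int.ofNat 0, Int.ofNat 0, Int.ofNat 0, Int.ofNat 0, Int.ofNat 0, Int.ofNat 0, Int.ofNat 0, Int.ofNat 4, Int.ofNat 0, Int.ofNat 0, Int.ofNat 0, Int.ofNat 0, Int.ofNat 0, Int.ofNat 0, Int.ofNat 0, Int.ofNat 0, Int.ofNat 0, Int.ofNat 0, Int.ofNat 0, Int.ofNat 0, Int.ofNat 4],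
  [Int.ofNat 4, Int.ofNat 0, Int.ofNat 0, Int.ofNat 0, Int.ofNat 0, Int.ofNat 0, Int.ofNat 0, Int.ofNat 0, Int.ofNat 0, Int.ofNat 0, Int.ofNat 0, Int.ofNat 0, Int.ofNat 0, Int.ofNat 0, Int.ofNat 0, Int.ofNat 0, Int.ofNat 0, Int.ofNat 0, Int.ofNat 0, Int.ofNat 0, Int.ofNat 0, Int.ofNat 0, Int.ofNat 0, Int.ofNat 4],
  [Int.negSucc 3, Int.ofNat 0, Int.ofNat 0, Int.ofNat 0, Int.ofNat 0, Int.ofNat 0, Int.ofNat 0, Int.ofNat 0, Int.ofNat 0, Int.ofNat 0, Int.ofNat 0, Int.ofNat 0, Int.ofNat 0, Int.ofNat 0, Int.ofNat 0, Int.ofNat 0, Int.ofNat 0, Int.ofNat 0, Int.ofNat 0, Int.ofNat 0, Int.ofNat 0, Int.ofNat 0, Int.ofNat 0, Int.ofNat 4],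
  [Int.negSucc 3, Int.ofNat 0, Int.ofNat 0, Int.ofNat 0, Int.ofNat 0, Int.ofNat 0, Int.ofNat 0, Int.ofNat 0, Int.ofNat 0, Int.ofNat 0, Int.ofNat 0, Int.ofNat 0, Int.ofNat 0, Int.ofNat 0, Int.ofNat 0, Int.ofNat 0, Int.ofNat 0, Int.ofNat 0, Int.ofNat 0, Int.ofNat 0, Int.ofNat 0, Int.ofNat 0, Int.ofNat 0, Int.ofNat 4],
  [Int.ofNat 4, Int.ofNat 0, Int.ofNat 0, Int.ofNat 0, Int.ofNat 0, Int.ofNat 0, Int.ofNat 0, Int.ofNat 0, Int.ofNat 0, Int.ofNat 0, Int.ofNat 0, Int.ofNat 0, Int.ofNat 0, Int.ofNat 0, Int.ofNat 0, Int.ofNat 0, Int.ofNat 0, Int.ofNat 0, Int.ofNat 0, Int.ofNat 0, Int.ofNat 0, Int.ofNat 0, Int.ofNat 0, Int.ofNat 4],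
  [Int.ofNat 0, Int.ofNat 4, Int.ofNat 0, Int.ofNat 0, Int.ofNat 0, Int.ofNat 0, Int.ofNat 0, Int.ofNat 0, Int.ofNat 0, Int.ofNat 0, Int.ofNat 0, Int.ofNat 0, Int.ofNat 0, Int.ofNat 0, Int.ofNat 0, Int.ofNat 0, Int.ofNat 0, Int.ofNat 0, Int.ofNat 0, Int.ofNat 0, Int.ofNat 0, Int.ofNat 0, Int.ofNat 0, Int.ofNat 4],
  [Int.ofNat 4, Int.ofNat 0, Int.ofNat 4, Int.ofNat 0, Int.ofNat 0, Int.ofNat 0, Int.ofNat 0, Int.ofNat 0, Int.ofNat 0, Int.ofNat 0, Int.ofNat 0, Int.ofNat 0, Int.ofNat 0, Int.ofNat 0, Int.ofNat 0, Int.ofNat 0, Int.ofNat 0, Int.ofNat 0, Int.ofNat 0, Int.ofNat 0, Int.ofNat 0, Int.ofNat 0, Int.ofNat 0, Int.ofNat 0],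
  [Int.ofNat 0, Int.ofNat 0, Int.ofNat 0, Int.ofNat 0, Int.ofNat 0, Int.ofNat 0, Int.ofNat 0, Int.ofNat 0, Int.ofNat 0, Int.ofNat 0, Int.ofNat 0, Int.ofNat 0, Int.ofNat 0, Int.ofNat 0, Int.ofNat 0, Int.ofNat 0, Int.ofNat 0, Int.ofNat 0, Int.ofNat 0, Int.ofNat 0, Int.ofNat 4, Int.ofNat 0, Int.ofNat 4, Int.ofNat 0],
  [Int.ofNat 0, Int.ofNat 0, Int.ofNat 0, Int.ofNat 0, Int.negSucc 1, Int.ofNat 0, Int.ofNat 0, Int.ofNat 0, Int.ofNat 0, Int.negSucc 1, Int.negSucc 1, Int.ofNat 0, Int.ofNat 0, Int.negSucc 1, Int.ofNat 0, Int.negSucc 1, Int.negSucc 1, Int.ofNat 0, Int.ofNat 0, Int.ofNat 0, Int.ofNat 2, Int.ofNat 0, Int.ofNat 2, Int.ofNat 0],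
  [Int.ofNat 0, Int.ofNat 0, Int.negSucc 1, Int.ofNat 0, Int.ofNat 0, Int.ofNat 0, Int.ofNat 0, Int.negSucc 1, Int.ofNat 0, Int.negSucc 1, Int.ofNat 2, Int.ofNat 0, Int.negSucc 1, Int.negSucc 1, Int.ofNat 2, Int.negSucc 1, Int.ofNat 0, Int.ofNat 0, Int.ofNat 0, Int.ofNat 0, Int.ofNat 0, Int.ofNat 0, Int.ofNat 0, Int.ofNat 0],
  [Int.negSucc 0, Int.negSucc 0, Int.ofNat 1, Int.negSucc 0, Int.ofNat 1, Int.negSucc 0, Int.ofNat 1, Int.negSucc 0, Int.ofNat 1, Int.negSucc 0, Int.ofNat 3, Int.ofNat 1, Int.negSucc 0, Int.negSucc 0, Int.ofNat 1, Int.negSucc 0, Int.ofNat 1, Int.negSucc 0, Int.ofNat 1, Int.ofNat 1, Int.ofNat 1, Int.ofNat 1, Int.ofNat 1, Int.negSucc 0],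
  [Int.negSucc 0, Int.negSucc 0, Int.negSucc 0, Int.negSucc 0, Int.ofNat 1, Int.ofNat 1, Int.negSucc 0, Int.negSucc 0, Int.ofNat 1, Int.ofNat 1, Int.negSucc 2, Int.ofNat 1, Int.negSucc 0, Int.negSucc 0, Int.ofNat 1, Int.ofNat 1, Int.ofNat 1, Int.negSucc 0, Int.negSucc 0, Int.ofNat 1, Int.ofNat 1, Int.ofNat 1, Int.negSucc 0, Int.negSucc 0],
  [Int.negSucc 2, Int.ofNat 1, Int.ofNat 1, Int.ofNat 1, Int.ofNat 1, Int.negSucc 0, Int.ofNat 1, Int.negSucc 0, Int.ofNat 1, Int.ofNat 1, Int.negSucc 0, Int.negSucc 0, Int.ofNat 1, Int.ofNat 1, Int.negSucc 0, Int.negSucc 0, Int.ofNat 1, Int.negSucc 0, Int.ofNat 1, Int.negSucc 0, Int.negSucc 0, Int.negSucc 0, Int.negSucc 0, Int.negSucc 0],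
  [Int.ofNat 3, Int.negSucc 0, Int.negSucc 0, Int.negSucc 0, Int.negSucc 0, Int.negSucc 0, Int.negSucc 0, Int.negSucc 0, Int.negSucc 0, Int.negSucc 0, Int.negSucc 0, Int.negSucc 0, Int.negSucc 0, Int.negSucc 0, Int.negSucc 0, Int.negSucc 0, Int.negSucc 0, Int.negSucc 0, Int.negSucc 0, Int.negSucc 0, Int.negSucc 0, Int.negSucc 0, Int.negSucc 0, Int.negSucc 0]]

set_option maxRecDepth 100000 in
theorem c3et_chk : pmChk (List.replicate 22 [25, 26]).flatten nxL c3etM 0 0 = true := by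
  decide +kernel

theorem c3et_ne : wE letE2 (List.replicate 22 [25, 26]).flatten ≠ 1 ∧ wE letE2 (List.replicate 22 [25, 26]).flatten ≠ negElt :=
  ne_pm_of_chk nxL_mem c3et_chk

set_option maxRecDepth 100000 in
def c4eM : List (List ℤ) :=
  [[Int.ofNat 4, Int.ofNat 0, Int.ofNat 0, Int.ofNat 0, Int.ofNat 0, Int.ofNat 0, Int.ofNat 0, Int.ofNat 0, Int.ofNat 0, Int.ofNat 0, Int.ofNat 0, Int.ofNat 0, Int.ofNat 0, Int.ofNat 0, Int.ofNat 0, Int.ofNat 0, Int.ofNat 0, Int.ofNat 0, Int.ofNat 0, Int.ofNat 0, Int.ofNat 0, Int.ofNat 0, Int.ofNat 0, Int.ofNat 4]]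

set_option maxRecDepth 100000 in
theorem c4e_chk : pmChk [25] nxL c4eM 0 23 = true := by
  decide +kernel

theorem c4e_ne : wE letE2 [25] ≠ 1 ∧ wE letE2 [25] ≠ negElt :=
  ne_pm_of_chk nxL_mem c4e_chk

end Cfsg.Agent.Lib.Helper92.OC1
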