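import Cfsg.Agent.Lib.Helper92.OutCo1A

set_option autoImplicit false

namespace Cfsg.Agent.Lib.Helper92.OC1

open Cfsg Cfsg.Spor Cfsg.Agent.Lib.Helper7 Cfsg.Agent.Lib.Helper92 Cfsg.Agent.Lib.Helper92.OC2

set_option maxRecDepth 100000 in
def c1te1M : List (List ℤ) :=
  [[Int.ofNat 4, Int.ofNat 0, Int.ofNat 0, Int.ofNat 0, Int.ofNat 0, Int.ofNat 0, Int.ofNat 0, Int.ofNat 0, Int.ofNat 0, Int.ofNat 0, Int.ofNat 0, Int.ofNat 0, Int.ofNat 0, Int.ofNat 0, Int.ofNat 0, Int.ofNat 0, Int.ofNat 0, Int.ofNat 0, Int.ofNat 0, Int.ofNat 0, Int.ofNat 0, Int.ofNat 0, Int.ofNat 0, Int.ofNat 4],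
  [Int.ofNat 4, Int.ofNat 0, Int.ofNat 0, Int.ofNat 0, Int.ofNat 0, Int.ofNat 0, Int.ofNat 0, Int.ofNat 0, Int.ofNat 0, Int.ofNat 0, Int.ofNat 0, Int.ofNat 0, Int.ofNat 0, Int.ofNat 0, Int.ofNat 0, Int.ofNat 0, Int.ofNat 0, Int.ofNat 0, Int.ofNat 0, Int.ofNat 0, Int.ofNat 0, Int.ofNat 0, Int.ofNat 0, Int.ofNat 4],
  [Int.negSucc 3, Int.ofNat 0, Int.ofNat 0, Int.ofNat 0, Int.ofNat 0, Int.ofNat 0, Int.ofNat 0, Int.ofNat 0, Int.ofNat 0, Int.ofNat 0, Int.ofNat 0, Int.ofNat 0, Int.ofNat 0, Int.ofNat 0, Int.ofNat 0, Int.ofNat 0, Int.ofNat 0, Int.ofNat 0, Int.ofNat 0, Int.ofNat 0, Int.ofNat 0, Int.ofNat 0, Int.ofNat 0, Int.ofNat 4],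
  [Int.ofNat 0, Int.negSucc 3, Int.ofNat 0, Int.ofNat 0, Int.ofNat 0, Int.ofNat 0, Int.ofNat 0, Int.ofNat 0, Int.ofNat 0, Int.ofNat 0, Int.ofNat 0, Int.ofNat 0, Int.ofNat 0, Int.ofNat 0, Int.ofNat 0, Int.ofNat 0, Int.ofNat 0, Int.ofNat 0, Int.ofNat 0, Int.ofNat 0, Int.ofNat 0, Int.ofNat 0, Int.ofNat 0, Int.ofNat 4],
  [Int.ofNat 0, Int.ofNat 4, Int.ofNat 0, Int.ofNat 0, Int.ofNat 0, Int.ofNat 0, Int.ofNat 0, Int.ofNat 0, Int.ofNat 0, Int.ofNat 0, Int.ofNat 0, Int.ofNat 0, Int.ofNat 0, Int.ofNat 0, Int.ofNat 0, Int.ofNat 0, Int.ofNat 0, Int.ofNat 0, Int.ofNat 0, Int.ofNat 0, Int.ofNat 0, Int.ofNat 0, Int.ofNat 0, Int.negSucc 3],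
  [Int.ofNat 0, Int.ofNat 0, Int.ofNat 0, Int.ofNat 0, Int.ofNat 0, Int.ofNat 0, Int.ofNat 0, Int.ofNat 0, Int.ofNat 0, Int.ofNat 0, Int.ofNat 0, Int.ofNat 0, Int.ofNat 0, Int.ofNat 0, Int.ofNat 0, Int.ofNat 0, Int.ofNat 0, Int.ofNat 0, Int.ofNat 0, Int.ofNat 0, Int.ofNat 0, Int.ofNat 4, Int.ofNat 0, Int.negSucc 3],
  [Int.negSucc 1, Int.negSucc 1, Int.negSucc 1, Int.ofNat 0, Int.ofNat 0, Int.ofNat 0, Int.negSucc 1, Int.negSucc 1, Int.ofNat 0, Int.ofNat 0, Int.ofNat 0, Int.ofNat 0, Int.ofNat 0, Int.ofNat 0, Int.ofNat 0, Int.ofNat 0, Int.ofNat 0, Int.ofNat 0, Int.ofNat 0, Int.negSucc 1, Int.ofNat 0, Int.ofNat 2, Int.ofNat 0, Int.ofNat 2],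
  [Int.negSucc 1, Int.negSucc 1, Int.ofNat 0, Int.ofNat 0, Int.ofNat 0, Int.negSucc 1, Int.negSucc 1, Int.ofNat 0, Int.ofNat 0, Int.ofNat 0, Int.ofNat 0, Int.ofNat 0, Int.ofNat 0, Int.ofNat 0, Int.ofNat 0, Int.ofNat 0, Int.ofNat 0, Int.ofNat 0, Int.negSucc 1, Int.ofNat 0, Int.ofNat 2, Int.ofNat 0, Int.negSucc 1, Int.ofNat 2],
  [Int.ofNat 1, Int.ofNat 1, Int.negSucc 0, Int.ofNat 1, Int.ofNat 1, Int.negSucc 0, Int.negSucc 0, Int.ofNat 1, Int.ofNat 1, Int.negSucc 0, Int.negSucc 0, Int.ofNat 1, Int.ofNat 1, Int.ofNat 1, Int.ofNat 1, Int.negSucc 0, Int.ofNat 1, Int.ofNat 1, Int.negSucc 0, Int.ofNat 1, Int.ofNat 1, Int.ofNat 1, Int.negSucc 0, Int.negSucc 2],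
  [Int.ofNat 1, Int.ofNat 1, Int.ofNat 1, Int.ofNat 1, Int.ofNat 1, Int.ofNat 1, Int.ofNat 1, Int.ofNat 1, Int.ofNat 1, Int.ofNat 1, Int.ofNat 1, Int.ofNat 1, Int.ofNat 1, Int.ofNat 1, Int.ofNat 1, Int.ofNat 1, Int.ofNat 1, Int.ofNat 1, Int.ofNat 1, Int.ofNat 1, Int.ofNat 1, Int.ofNat 1, Int.ofNat 1, Int.negSucc 2],
  [Int.ofNat 1, Int.ofNat 1, Int.ofNat 1, Int.ofNat 1, Int.ofNat 1, Int.ofNat 1, Int.ofNat 1, Int.ofNat 1, Int.ofNat 1, Int.ofNat 1, Int.ofNat 1, Int.ofNat 1, Int.ofNat 1, Int.ofNat 1, Int.ofNat 1, Int.ofNat 1, Int.ofNat 1, Int.ofNat 1, Int.ofNat 1, Int.ofNat 1, Int.ofNat 1, Int.ofNat 1, Int.ofNat 1, Int.negSucc 2],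
  [Int.negSucc 2, Int.ofNat 1, Int.ofNat 1, Int.ofNat 1, Int.ofNat 1, Int.ofNat 1, Int.ofNat 1, Int.ofNat 1, Int.ofNat 1, Int.ofNat 1, Int.ofNat 1, Int.ofNat 1, Int.ofNat 1, Int.ofNat 1, Int.ofNat 1, Int.ofNat 1, Int.ofNat 1, Int.ofNat 1, Int.ofNat 1, Int.ofNat 1, Int.ofNat 1, Int.ofNat 1, Int.ofNat 1, Int.ofNat 1],
  [Int.ofNat 3, Int.ofNat 1, Int.negSucc 0, Int.ofNat 1, Int.ofNat 1, Int.ofNat 1, Int.ofNat 1, Int.negSucc 0, Int.ofNat 1, Int.negSucc 0, Int.negSucc 0, Int.negSucc 0, Int.ofNat 1, Int.ofNat 1, Int.ofNat 1, Int.ofNat 1, Int.ofNat 1, Int.ofNat 1, Int.negSucc 0, Int.ofNat 1, Int.ofNat 1, Int.negSucc 0, Int.ofNat 1, Int.ofNat 1],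
  [Int.ofNat 1, Int.ofNat 3, Int.ofNat 1, Int.negSucc 0, Int.ofNat 1, Int.ofNat 1, Int.ofNat 1, Int.ofNat 1, Int.negSucc 0, Int.ofNat 1, Int.negSucc 0, Int.negSucc 0, Int.negSucc 0, Int.ofNat 1, Int.ofNat 1, Int.ofNat 1, Int.ofNat 1, Int.ofNat 1, Int.ofNat 1, Int.negSucc 0, Int.ofNat 1, Int.ofNat 1, Int.negSucc 0, Int.ofNat 1],
  [Int.ofNat 2, Int.ofNat 0, Int.ofNat 2, Int.negSucc 1, Int.ofNat 0, Int.ofNat 0, Int.ofNat 0, Int.ofNat 0, Int.ofNat 0, Int.ofNat 0, Int.negSucc 1, Int.ofNat 0, Int.ofNat 0, Int.ofNat 0, Int.ofNat 0, Int.ofNat 0, Int.ofNat 0, Int.ofNat 0, Int.ofNat 2, Int.negSucc 1, Int.ofNat 0, Int.ofNat 0, Int.negSucc 1, Int.ofNat 2],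
  [Int.negSucc 1, Int.ofNat 0, Int.ofNat 0, Int.ofNat 0, Int.ofNat 0, Int.ofNat 0, Int.ofNat 0, Int.negSucc 1, Int.ofNat 0, Int.ofNat 0, Int.ofNat 0, Int.ofNat 0, Int.ofNat 0, Int.ofNat 0, Int.ofNat 0, Int.ofNat 2, Int.negSucc 1, Int.ofNat 0, Int.ofNat 0, Int.negSucc 1, Int.ofNat 2, Int.ofNat 0, Int.ofNat 2, Int.ofNat 2],
  [Int.ofNat 2, Int.ofNat 0, Int.ofNat 0, Int.ofNat 0, Int.ofNat 0, Int.ofNat 0, Int.ofNat 2, Int.ofNat 0, Int.ofNat 0, Int.negSucc 1, Int.negSucc 1, Int.ofNat 0, Int.ofNat 0, Int.ofNat 0, Int.ofNat 0, Int.ofNat 0, Int.negSucc 1, Int.ofNat 0, Int.ofNat 0, Int.ofNat 0, Int.ofNat 0, Int.ofNat 2, Int.ofNat 2, Int.negSucc 1],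
  [Int.ofNat 2, Int.ofNat 2, Int.ofNat 0, Int.ofNat 0, Int.ofNat 0, Int.ofNat 0, Int.ofNat 0, Int.negSucc 1, Int.ofNat 0, Int.ofNat 0, Int.ofNat 0, Int.ofNat 0, Int.negSucc 1, Int.negSucc 1, Int.ofNat 2, Int.ofNat 0, Int.ofNat 0, Int.ofNat 0, Int.ofNat 0, Int.ofNat 0, Int.ofNat 2, Int.ofNat 0, Int.ofNat 0, Int.negSucc 1],
  [Int.negSucc 0, Int.negSucc 0, Int.ofNat 1, Int.negSucc 0, Int.ofNat 1, Int.negSucc 0, Int.ofNat 1, Int.negSucc 0, Int.ofNat 1, Int.negSucc 0, Int.negSucc 0, Int.ofNat 1, Int.negSucc 0, Int.negSucc 0, Int.ofNat 1, Int.negSucc 0, Int.ofNat 1, Int.negSucc 0, Int.ofNat 1, Int.ofNat 1, Int.ofNat 1, Int.ofNat 1, Int.ofNat 1, Int.ofNat 3],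
  [Int.negSucc 0, Int.negSucc 0, Int.negSucc 0, Int.negSucc 0, Int.ofNat 1, Int.ofNat 1, Int.negSucc 0, Int.negSucc 0, Int.ofNat 1, Int.ofNat 1, Int.ofNat 1, Int.ofNat 1, Int.negSucc 0, Int.negSucc 0, Int.ofNat 1, Int.ofNat 1, Int.ofNat 1, Int.negSucc 0, Int.negSucc 0, Int.ofNat 1, Int.ofNat 1, Int.ofNat 1, Int.negSucc 0, Int.ofNat 3],
  [Int.ofNat 1, Int.ofNat 1, Int.negSucc 0, Int.ofNat 1, Int.ofNat 1, Int.negSucc 0, Int.ofNat 1, Int.negSucc 0, Int.negSucc 0, Int.ofNat 1, Int.negSucc 0, Int.ofNat 1, Int.negSucc 0, Int.negSucc 0, Int.negSucc 0, Int.ofNat 1, Int.ofNat 1, Int.ofNat 1, Int.ofNat 1, Int.ofNat 1, Int.negSucc 0, Int.negSucc 0, Int.negSucc 0, Int.ofNat 3],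
  [Int.ofNat 1, Int.ofNat 1, Int.ofNat 1, Int.ofNat 1, Int.ofNat 1, Int.ofNat 1, Int.negSucc 0, Int.negSucc 0, Int.negSucc 0, Int.negSucc 0, Int.ofNat 1, Int.ofNat 1, Int.negSucc 0, Int.negSucc 0, Int.negSucc 0, Int.negSucc 0, Int.ofNat 1, Int.ofNat 1, Int.negSucc 0, Int.ofNat 1, Int.negSucc 0, Int.negSucc 0, Int.ofNat 1, Int.ofNat 3],
  [Int.ofNat 2, Int.ofNat 2, Int.ofNat 2, Int.ofNat 0, Int.ofNat 0, Int.ofNat 0, Int.ofNat 0, Int.ofNat 0, Int.ofNat 0, Int.ofNat 0, Int.ofNat 2, Int.ofNat 2, Int.ofNat 0, Int.negSucc 1, Int.negSucc 1, Int.ofNat 0, Int.ofNat 0, Int.ofNat 0, Int.ofNat 0, Int.ofNat 2, Int.ofNat 0, Int.ofNat 0, Int.ofNat 0, Int.ofNat 0],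
  [Int.ofNat 2, Int.ofNat 0, Int.ofNat 0, Int.ofNat 0, Int.ofNat 2, Int.ofNat 0, Int.ofNat 2, Int.ofNat 0, Int.ofNat 0, Int.ofNat 0, Int.ofNat 0, Int.ofNat 2, Int.ofNat 0, Int.ofNat 0, Int.ofNat 0, Int.ofNat 0, Int.negSucc 1, Int.ofNat 2, Int.ofNat 0, Int.ofNat 0, Int.ofNat 2, Int.ofNat 0, Int.negSucc 1, Int.ofNat 0],
  [Int.negSucc 0, Int.ofNat 1, Int.ofNat 1, Int.negSucc 0, Int.ofNat 3, Int.negSucc 0, Int.ofNat 1, Int.negSucc 0, Int.negSucc 0, Int.negSucc 0, Int.negSucc 0, Int.ofNat 1, Int.negSucc 0, Int.ofNat 1, Int.negSucc 0, Int.negSucc 0, Int.negSucc 0, Int.ofNat 1, Int.negSucc 0, Int.negSucc 0, Int.ofNat 1, Int.negSucc 0, Int.negSucc 0, Int.ofNat 1],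
  [Int.ofNat 1, Int.negSucc 0, Int.negSucc 0, Int.negSucc 0, Int.ofNat 1, Int.ofNat 1, Int.negSucc 0, Int.ofNat 3, Int.negSucc 0, Int.ofNat 1, Int.negSucc 0, Int.negSucc 0, Int.negSucc 0, Int.negSucc 0, Int.ofNat 1, Int.negSucc 0, Int.ofNat 1, Int.negSucc 0, Int.negSucc 0, Int.negSucc 0, Int.ofNat 1, Int.negSucc 0, Int.negSucc 0, Int.ofNat 1],
  [Int.negSucc 0, Int.ofNat 1, Int.ofNat 1, Int.negSucc 0, Int.ofNat 1, Int.ofNat 1, Int.negSucc 0, Int.ofNat 3, Int.ofNat 1, Int.ofNat 1, Int.negSucc 0, Int.ofNat 1, Int.ofNat 1, Int.negSucc 0, Int.ofNat 1, Int.negSucc 0, Int.ofNat 1, Int.negSucc 0, Int.ofNat 1, Int.negSucc 0, Int.ofNat 1, Int.negSucc 0, Int.negSucc 0, Int.negSucc 0],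
  [Int.ofNat 1, Int.ofNat 1, Int.negSucc 0, Int.ofNat 1, Int.ofNat 1, Int.negSucc 0, Int.ofNat 3, Int.ofNat 1, Int.ofNat 1, Int.negSucc 0, Int.ofNat 1, Int.ofNat 1, Int.negSucc 0, Int.ofNat 1, Int.negSucc 0, Int.ofNat 1, Int.negSucc 0, Int.ofNat 1, Int.negSucc 0, Int.ofNat 1, Int.negSucc 0, Int.negSucc 0, Int.negSucc 0, Int.negSucc 0],
  [Int.negSucc 0, Int.ofNat 1, Int.ofNat 1, Int.ofNat 1, Int.ofNat 1, Int.negSucc 0, Int.ofNat 3, Int.negSucc 0, Int.ofNat 1, Int.ofNat 1, Int.negSucc 0, Int.negSucc 0, Int.negSucc 0, Int.ofNat 1, Int.negSucc 0, Int.ofNat 1, Int.negSucc 0, Int.ofNat 1, Int.ofNat 1, Int.ofNat 1, Int.negSucc 0, Int.ofNat 1, Int.negSucc 0, Int.negSucc 0],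
  [Int.ofNat 1, Int.negSucc 0, Int.negSucc 0, Int.negSucc 0, Int.negSucc 0, Int.negSucc 0, Int.negSucc 2, Int.negSucc 0, Int.negSucc 0, Int.negSucc 0, Int.negSucc 0, Int.negSucc 0, Int.ofNat 1, Int.negSucc 0, Int.negSucc 0, Int.ofNat 1, Int.ofNat 1, Int.ofNat 1, Int.negSucc 0, Int.ofNat 1, Int.negSucc 0, Int.ofNat 1, Int.negSucc 0, Int.negSucc 0],
  [Int.ofNat 1, Int.negSucc 0, Int.negSucc 0, Int.negSucc 0, Int.negSucc 0, Int.negSucc 0, Int.negSucc 0, Int.negSucc 0, Int.negSucc 0, Int.ofNat 1, Int.ofNat 1, Int.negSucc 0, Int.negSucc 0, Int.negSucc 0, Int.ofNat 1, Int.ofNat 1, Int.ofNat 1, Int.negSucc 0, Int.negSucc 2, Int.ofNat 1, Int.negSucc 0, Int.negSucc 0, Int.negSucc 0, Int.negSucc 0],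
  [Int.negSucc 0, Int.negSucc 0, Int.ofNat 1, Int.negSucc 0, Int.negSucc 0, Int.negSucc 0, Int.negSucc 0, Int.ofNat 1, Int.negSucc 0, Int.negSucc 0, Int.negSucc 0, Int.ofNat 1, Int.negSucc 0, Int.negSucc 0, Int.ofNat 1, Int.ofNat 1, Int.ofNat 1, Int.negSucc 0, Int.ofNat 3, Int.ofNat 1, Int.negSucc 0, Int.ofNat 1, Int.negSucc 0, Int.negSucc 0],
  [Int.negSucc 0, Int.negSucc 0, Int.negSucc 0, Int.ofNat 1, Int.negSucc 0, Int.negSucc 0, Int.negSucc 0, Int.negSucc 0, Int.ofNat 1, Int.negSucc 0, Int.negSucc 0, Int.negSucc 0, Int.ofNat 1, Int.negSucc 0, Int.negSucc 0, Int.ofNat 1, Int.ofNat 1, Int.ofNat 1, Int.negSucc 0, Int.ofNat 3, Int.ofNat 1, Int.negSucc 0, Int.ofNat 1, Int.negSucc 0],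
  [Int.negSucc 0, Int.negSucc 0, Int.negSucc 0, Int.ofNat 1, Int.negSucc 0, Int.negSucc 0, Int.negSucc 0, Int.negSucc 0, Int.ofNat 1, Int.negSucc 0, Int.negSucc 0, Int.negSucc 0, Int.ofNat 1, Int.negSucc 0, Int.negSucc 0, Int.ofNat 1, Int.ofNat 1, Int.ofNat 1, Int.negSucc 0, Int.ofNat 3, Int.ofNat 1, Int.negSucc 0, Int.ofNat 1, Int.negSucc 0],
  [Int.ofNat 1, Int.negSucc 0, Int.negSucc 0, Int.negSucc 0, Int.negSucc 0, Int.ofNat 1, Int.negSucc 0, Int.negSucc 0, Int.negSucc 0, Int.ofNat 1, Int.negSucc 0, Int.negSucc 0, Int.ofNat 1, Int.ofNat 1, Int.ofNat 1, Int.negSucc 0, Int.ofNat 3, Int.ofNat 1, Int.negSucc 0, Int.ofNat 1, Int.negSucc 0, Int.negSucc 0, Int.negSucc 0, Int.negSucc 0],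
  [Int.negSucc 1, Int.ofNat 0, Int.ofNat 0, Int.negSucc 1, Int.negSucc 1, Int.ofNat 0, Int.ofNat 0, Int.ofNat 0, Int.ofNat 0, Int.ofNat 2, Int.ofNat 0, Int.ofNat 0, Int.ofNat 2, Int.ofNat 0, Int.ofNat 0, Int.ofNat 0, Int.ofNat 2, Int.ofNat 0, Int.ofNat 0, Int.ofNat 2, Int.ofNat 0, Int.ofNat 0, Int.negSucc 1, Int.ofNat 0],
  [Int.negSucc 1, Int.ofNat 0, Int.negSucc 1, Int.negSucc 1, Int.ofNat 0, Int.ofNat 0, Int.ofNat 0, Int.ofNat 0, Int.ofNat 2, Int.ofNat 0, Int.ofNat 0, Int.ofNat 0, Int.ofNat 2, Int.ofNat 2, Int.negSucc 1, Int.ofNat 0, Int.ofNat 0, Int.ofNat 0, Int.ofNat 0, Int.ofNat 0, Int.ofNat 0, Int.ofNat 0, Int.ofNat 2, Int.ofNat 0],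
  [Int.ofNat 0, Int.negSucc 1, Int.ofNat 0, Int.ofNat 0, Int.negSucc 1, Int.ofNat 2, Int.ofNat 0, Int.ofNat 0, Int.ofNat 0, Int.ofNat 0, Int.ofNat 0, Int.negSucc 1, Int.ofNat 0, Int.ofNat 0, Int.ofNat 0, Int.ofNat 0, Int.negSucc 1, Int.ofNat 2, Int.negSucc 1, Int.ofNat 0, Int.ofNat 0, Int.ofNat 0, Int.ofNat 0, Int.negSucc 1],
  [Int.ofNat 0, Int.negSucc 1, Int.ofNat 0, Int.ofNat 0, Int.negSucc 1, Int.negSucc 1, Int.ofNat 0, Int.ofNat 0, Int.ofNat 0, Int.ofNat 0, Int.ofNat 0, Int.negSucc 1, Int.ofNat 0, Int.ofNat 0, Int.ofNat 0, Int.ofNat 0, Int.negSucc 1, Int.ofNat 2, Int.ofNat 2, Int.ofNat 0, Int.ofNat 0, Int.ofNat 0, Int.ofNat 0, Int.negSucc 1],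
  [Int.ofNat 0, Int.negSucc 1, Int.negSucc 1, Int.ofNat 0, Int.ofNat 0, Int.ofNat 0, Int.ofNat 0, Int.ofNat 0, Int.negSucc 1, Int.ofNat 0, Int.ofNat 0, Int.ofNat 0, Int.ofNat 0, Int.negSucc 1, Int.ofNat 2, Int.ofNat 2, Int.ofNat 0, Int.ofNat 0, Int.ofNat 0, Int.ofNat 0, Int.ofNat 0, Int.negSucc 1, Int.ofNat 0, Int.negSucc 1],
  [Int.negSucc 1, Int.ofNat 0, Int.ofNat 0, Int.ofNat 2, Int.ofNat 0, Int.ofNat 0, Int.ofNat 0, Int.negSucc 1, Int.ofNat 0, Int.ofNat 0, Int.ofNat 0, Int.negSucc 1, Int.negSucc 1, Int.ofNat 0, Int.ofNat 0, Int.ofNat 0, Int.ofNat 0, Int.ofNat 0, Int.ofNat 2, Int.ofNat 0, Int.negSucc 1, Int.ofNat 0, Int.negSucc 1, Int.ofNat 0],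
  [Int.ofNat 2, Int.ofNat 0, Int.ofNat 0, Int.ofNat 2, Int.ofNat 0, Int.ofNat 0, Int.ofNat 0, Int.ofNat 2, Int.ofNat 0, Int.ofNat 0, Int.ofNat 0, Int.ofNat 2, Int.negSucc 1, Int.ofNat 0, Int.ofNat 0, Int.ofNat 0, Int.ofNat 0, Int.ofNat 0, Int.negSucc 1, Int.ofNat 0, Int.negSucc 1, Int.ofNat 0, Int.negSucc 1, Int.ofNat 0],
  [Int.negSucc 1, Int.ofNat 2, Int.ofNat 0, Int.ofNat 0, Int.ofNat 2, Int.ofNat 0, Int.ofNat 0, Int.ofNat 0, Int.ofNat 2, Int.ofNat 0, Int.ofNat 0, Int.ofNat 0, Int.ofNat 2, Int.negSucc 1, Int.ofNat 0, Int.ofNat 0, Int.ofNat 0, Int.ofNat 0, Int.ofNat 0, Int.negSucc 1, Int.ofNat 0, Int.negSucc 1, Int.ofNat 0, Int.ofNat 0],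
  [Int.ofNat 2, Int.negSucc 1, Int.ofNat 0, Int.ofNat 0, Int.ofNat 2, Int.ofNat 0, Int.ofNat 2, Int.ofNat 2, Int.ofNat 0, Int.ofNat 0, Int.ofNat 0, Int.negSucc 1, Int.ofNat 0, Int.negSucc 1, Int.ofNat 0, Int.ofNat 0, Int.ofNat 0, Int.ofNat 0, Int.negSucc 1, Int.ofNat 0, Int.ofNat 0, Int.ofNat 0, Int.ofNat 0, Int.ofNat 0],
  [Int.ofNat 0, Int.ofNat 2, Int.ofNat 0, Int.ofNat 2, Int.ofNat 2, Int.ofNat 0, Int.ofNat 0, Int.ofNat 0, Int.negSucc 1, Int.ofNat 0, Int.negSucc 1, Int.ofNat 0, Int.ofNat 0, Int.ofNat 0, Int.ofNat 0, Int.negSucc 1, Int.ofNat 0, Int.ofNat 0, Int.ofNat 0, Int.ofNat 0, Int.ofNat 2, Int.negSucc 1, Int.ofNat 0, Int.ofNat 0],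
  [Int.ofNat 1, Int.negSucc 0, Int.ofNat 1, Int.ofNat 1, Int.ofNat 1, Int.negSucc 0, Int.ofNat 1, Int.ofNat 1, Int.negSucc 0, Int.ofNat 1, Int.negSucc 0, Int.ofNat 1, Int.ofNat 1, Int.negSucc 0, Int.negSucc 0, Int.negSucc 0, Int.negSucc 0, Int.negSucc 0, Int.ofNat 1, Int.ofNat 1, Int.ofNat 3, Int.negSucc 0, Int.negSucc 0, Int.ofNat 1],
  [Int.ofNat 1, Int.ofNat 1, Int.ofNat 1, Int.ofNat 1, Int.ofNat 1, Int.ofNat 1, Int.ofNat 1, Int.negSucc 0, Int.ofNat 1, Int.negSucc 0, Int.ofNat 3, Int.negSucc 0, Int.ofNat 1, Int.negSucc 0, Int.negSucc 0, Int.negSucc 0, Int.negSucc 0, Int.negSucc 0, Int.negSucc 0, Int.ofNat 1, Int.negSucc 0, Int.negSucc 0, Int.ofNat 1, Int.ofNat 1],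
  [Int.ofNat 1, Int.ofNat 1, Int.ofNat 1, Int.ofNat 1, Int.ofNat 1, Int.ofNat 1, Int.ofNat 1, Int.negSucc 0, Int.ofNat 1, Int.negSucc 0, Int.ofNat 3, Int.negSucc 0, Int.ofNat 1, Int.negSucc 0, Int.negSucc 0, Int.negSucc 0, Int.negSucc 0, Int.negSucc 0, Int.negSucc 0, Int.ofNat 1, Int.negSucc 0, Int.negSucc 0, Int.ofNat 1, Int.ofNat 1],
  [Int.ofNat 1, Int.ofNat 1, Int.negSucc 0, Int.ofNat 1, Int.ofNat 1, Int.negSucc 0, Int.negSucc 0, Int.negSucc 0, Int.ofNat 1, Int.ofNat 1, Int.negSucc 2, Int.negSucc 0, Int.ofNat 1, Int.negSucc 0, Int.negSucc 0, Int.ofNat 1, Int.negSucc 0, Int.negSucc 0, Int.ofNat 1, Int.ofNat 1, Int.negSucc 0, Int.negSucc 0, Int.negSucc 0, Int.ofNat 1],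
  [Int.negSucc 0, Int.negSucc 0, Int.ofNat 1, Int.ofNat 1, Int.negSucc 0, Int.negSucc 0, Int.ofNat 1, Int.negSucc 0, Int.negSucc 0, Int.negSucc 0, Int.negSucc 0, Int.ofNat 1, Int.negSucc 0, Int.ofNat 1, Int.ofNat 1, Int.negSucc 2, Int.ofNat 1, Int.negSucc 0, Int.ofNat 1, Int.negSucc 0, Int.ofNat 1, Int.ofNat 1, Int.negSucc 0, Int.ofNat 1],
  [Int.negSucc 0, Int.negSucc 0, Int.negSucc 0, Int.ofNat 1, Int.negSucc 0, Int.ofNat 1, Int.negSucc 0, Int.negSucc 0, Int.negSucc 0, Int.ofNat 1, Int.ofNat 1, Int.ofNat 1, Int.negSucc 0, Int.ofNat 1, Int.ofNat 1, Int.ofNat 3, Int.ofNat 1, Int.negSucc 0, Int.negSucc 0, Int.negSucc 0, Int.ofNat 1, Int.ofNat 1, Int.ofNat 1, Int.ofNat 1],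
  [Int.ofNat 0, Int.ofNat 0, Int.ofNat 0, Int.ofNat 0, Int.negSucc 1, Int.ofNat 0, Int.ofNat 0, Int.ofNat 0, Int.ofNat 0, Int.negSucc 1, Int.negSucc 1, Int.ofNat 2, Int.ofNat 0, Int.ofNat 0, Int.ofNat 0, Int.ofNat 0, Int.ofNat 0, Int.negSucc 1, Int.ofNat 0, Int.ofNat 0, Int.negSucc 1, Int.ofNat 2, Int.ofNat 0, Int.negSucc 1],
  [Int.ofNat 0, Int.ofNat 0, Int.ofNat 0, Int.ofNat 0, Int.ofNat 0, Int.ofNat 2, Int.ofNat 0, Int.ofNat 0, Int.ofNat 0, Int.ofNat 0, Int.ofNat 0, Int.ofNat 0, Int.ofNat 0, Int.negSucc 1, Int.negSucc 1, Int.ofNat 0, Int.ofNat 0, Int.ofNat 2, Int.negSucc 1, Int.ofNat 0, Int.negSucc 1, Int.negSucc 1, Int.ofNat 0, Int.negSucc 1],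
  [Int.negSucc 0, Int.negSucc 0, Int.negSucc 0, Int.negSucc 0, Int.ofNat 1, Int.ofNat 1, Int.ofNat 1, Int.ofNat 1, Int.ofNat 1, Int.ofNat 1, Int.ofNat 1, Int.ofNat 1, Int.ofNat 1, Int.negSucc 0, Int.negSucc 2, Int.ofNat 1, Int.ofNat 1, Int.ofNat 1, Int.negSucc 0, Int.ofNat 1, Int.negSucc 0, Int.negSucc 0, Int.ofNat 1, Int.ofNat 1],
  [Int.negSucc 0, Int.negSucc 0, Int.ofNat 1, Int.negSucc 0, Int.negSucc 0, Int.negSucc 0, Int.negSucc 0, Int.ofNat 1, Int.ofNat 1, Int.ofNat 1, Int.ofNat 1, Int.ofNat 1, Int.ofNat 1, Int.ofNat 1, Int.ofNat 1, Int.ofNat 1, Int.negSucc 0, Int.negSucc 2, Int.ofNat 1, Int.ofNat 1, Int.ofNat 1, Int.negSucc 0, Int.ofNat 1, Int.ofNat 1],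
  [Int.ofNat 1, Int.ofNat 1, Int.negSucc 0, Int.ofNat 1, Int.negSucc 0, Int.ofNat 1, Int.negSucc 0, Int.ofNat 1, Int.negSucc 0, Int.negSucc 0, Int.negSucc 0, Int.negSucc 0, Int.negSucc 0, Int.ofNat 1, Int.ofNat 3, Int.negSucc 0, Int.negSucc 0, Int.negSucc 0, Int.negSucc 0, Int.ofNat 1, Int.negSucc 0, Int.negSucc 0, Int.ofNat 1, Int.negSucc 0],
  [Int.ofNat 1, Int.negSucc 0, Int.ofNat 1, Int.negSucc 0, Int.ofNat 1, Int.negSucc 0, Int.ofNat 1, Int.negSucc 0, Int.negSucc 0, Int.negSucc 0, Int.negSucc 0, Int.negSucc 0, Int.ofNat 1, Int.ofNat 3, Int.negSucc 0, Int.negSucc 0, Int.negSucc 0, Int.negSucc 0, Int.ofNat 1, Int.negSucc 0, Int.negSucc 0, Int.ofNat 1, Int.ofNat 1, Int.negSucc 0],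
  [Int.negSucc 0, Int.negSucc 0, Int.negSucc 0, Int.negSucc 0, Int.ofNat 1, Int.negSucc 0, Int.ofNat 1, Int.ofNat 1, Int.negSucc 0, Int.ofNat 1, Int.ofNat 1, Int.ofNat 1, Int.ofNat 1, Int.ofNat 3, Int.negSucc 0, Int.negSucc 0, Int.negSucc 0, Int.negSucc 0, Int.negSucc 0, Int.negSucc 0, Int.negSucc 0, Int.negSucc 0, Int.ofNat 1, Int.negSucc 0],
  [Int.ofNat 1, Int.ofNat 1, Int.ofNat 1, Int.ofNat 1, Int.negSucc 0, Int.negSucc 0, Int.negSucc 0, Int.ofNat 1, Int.ofNat 1, Int.negSucc 0, Int.ofNat 1, Int.ofNat 1, Int.negSucc 0, Int.negSucc 2, Int.negSucc 0, Int.negSucc 0, Int.ofNat 1, Int.negSucc 0, Int.ofNat 1, Int.negSucc 0, Int.negSucc 0, Int.negSucc 0, Int.ofNat 1, Int.negSucc 0],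
  [Int.ofNat 1, Int.ofNat 1, Int.ofNat 1, Int.ofNat 1, Int.ofNat 1, Int.ofNat 1, Int.negSucc 0, Int.negSucc 0, Int.negSucc 0, Int.ofNat 1, Int.negSucc 0, Int.negSucc 0, Int.negSucc 2, Int.ofNat 1, Int.negSucc 0, Int.negSucc 0, Int.negSucc 0, Int.ofNat 1, Int.negSucc 0, Int.negSucc 0, Int.negSucc 0, Int.ofNat 1, Int.ofNat 1, Int.negSucc 0],
  [Int.negSucc 0, Int.ofNat 1, Int.negSucc 0, Int.ofNat 1, Int.ofNat 1, Int.ofNat 1, Int.negSucc 0, Int.ofNat 1, Int.negSucc 0, Int.negSucc 0, Int.ofNat 1, Int.ofNat 1, Int.negSucc 2, Int.ofNat 1, Int.negSucc 0, Int.negSucc 0, Int.negSucc 0, Int.ofNat 1, Int.ofNat 1, Int.negSucc 0, Int.negSucc 0, Int.negSucc 0, Int.ofNat 1, Int.negSucc 0],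
  [Int.ofNat 1, Int.negSucc 0, Int.ofNat 1, Int.negSucc 0, Int.ofNat 1, Int.ofNat 1, Int.ofNat 1, Int.negSucc 0, Int.ofNat 1, Int.negSucc 0, Int.negSucc 0, Int.ofNat 1, Int.ofNat 1, Int.negSucc 2, Int.ofNat 1, Int.negSucc 0, Int.negSucc 0, Int.negSucc 0, Int.ofNat 1, Int.ofNat 1, Int.negSucc 0, Int.negSucc 0, Int.negSucc 0, Int.negSucc 0],
  [Int.negSucc 0, Int.ofNat 1, Int.negSucc 0, Int.negSucc 0, Int.ofNat 3, Int.ofNat 1, Int.ofNat 1, Int.negSucc 0, Int.negSucc 0, Int.ofNat 1, Int.ofNat 1, Int.negSucc 0, Int.negSucc 0, Int.negSucc 0, Int.ofNat 1, Int.ofNat 1, Int.ofNat 1, Int.negSucc 0, Int.negSucc 0, Int.ofNat 1, Int.ofNat 1, Int.negSucc 0, Int.ofNat 1, Int.ofNat 1],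
  [Int.negSucc 0, Int.ofNat 3, Int.ofNat 1, Int.ofNat 1, Int.negSucc 0, Int.negSucc 0, Int.ofNat 1, Int.ofNat 1, Int.negSucc 0, Int.negSucc 0, Int.negSucc 0, Int.ofNat 1, Int.ofNat 1, Int.ofNat 1, Int.negSucc 0, Int.negSucc 0, Int.ofNat 1, Int.ofNat 1, Int.negSucc 0, Int.ofNat 1, Int.negSucc 0, Int.ofNat 1, Int.negSucc 0, Int.ofNat 1],
  [Int.ofNat 3, Int.negSucc 0, Int.ofNat 1, Int.ofNat 1, Int.negSucc 0, Int.negSucc 0, Int.negSucc 0, Int.negSucc 0, Int.negSucc 0, Int.ofNat 1, Int.ofNat 1, Int.ofNat 1, Int.ofNat 1, Int.ofNat 1, Int.negSucc 0, Int.ofNat 1, Int.ofNat 1, Int.ofNat 1, Int.negSucc 0, Int.negSucc 0, Int.ofNat 1, Int.negSucc 0, Int.negSucc 0, Int.ofNat 1],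
  [Int.ofNat 3, Int.negSucc 0, Int.negSucc 0, Int.ofNat 1, Int.negSucc 0, Int.negSucc 0, Int.ofNat 1, Int.ofNat 1, Int.ofNat 1, Int.ofNat 1, Int.ofNat 1, Int.ofNat 1, Int.ofNat 1, Int.ofNat 1, Int.negSucc 0, Int.ofNat 1, Int.negSucc 0, Int.negSucc 0, Int.negSucc 0, Int.ofNat 1, Int.negSucc 0, Int.negSucc 0, Int.negSucc 0, Int.ofNat 1],
  [Int.negSucc 1, Int.ofNat 2, Int.ofNat 2, Int.ofNat 2, Int.ofNat 0, Int.ofNat 0, Int.ofNat 0, Int.ofNat 0, Int.ofNat 0, Int.ofNat 0, Int.ofNat 0, Int.ofNat 0, Int.ofNat 0, Int.ofNat 2, Int.ofNat 0, Int.ofNat 0, Int.ofNat 0, Int.ofNat 0, Int.negSucc 1, Int.ofNat 0, Int.negSucc 1, Int.negSucc 1, Int.ofNat 0, Int.ofNat 0],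
  [Int.negSucc 1, Int.ofNat 2, Int.negSucc 1, Int.ofNat 2, Int.ofNat 0, Int.ofNat 0, Int.ofNat 0, Int.ofNat 0, Int.ofNat 0, Int.ofNat 0, Int.ofNat 0, Int.ofNat 0, Int.ofNat 0, Int.ofNat 2, Int.ofNat 0, Int.ofNat 0, Int.ofNat 0, Int.ofNat 0, Int.ofNat 2, Int.ofNat 0, Int.negSucc 1, Int.negSucc 1, Int.ofNat 0, Int.ofNat 0],
  [Int.ofNat 0, Int.ofNat 0, Int.ofNat 0, Int.ofNat 0, Int.ofNat 0, Int.ofNat 0, Int.negSucc 1, Int.ofNat 2, Int.ofNat 0, Int.negSucc 1, Int.ofNat 2, Int.ofNat 0, Int.ofNat 0, Int.ofNat 0, Int.ofNat 0, Int.ofNat 2, Int.ofNat 0, Int.ofNat 0, Int.ofNat 0, Int.negSucc 1, Int.negSucc 1, Int.ofNat 2, Int.ofNat 0, Int.ofNat 0],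
  [Int.ofNat 0, Int.ofNat 0, Int.ofNat 0, Int.ofNat 2, Int.ofNat 0, Int.negSucc 1, Int.negSucc 1, Int.ofNat 0, Int.negSucc 1, Int.ofNat 0, Int.ofNat 0, Int.ofNat 0, Int.ofNat 2, Int.ofNat 2, Int.ofNat 0, Int.ofNat 0, Int.ofNat 2, Int.ofNat 0, Int.ofNat 0, Int.negSucc 1, Int.ofNat 0, Int.ofNat 0, Int.ofNat 0, Int.ofNat 0],
  [Int.ofNat 0, Int.ofNat 0, Int.ofNat 0, Int.ofNat 2, Int.ofNat 0, Int.negSucc 1, Int.negSucc 1, Int.ofNat 0, Int.negSucc 1, Int.ofNat 0, Int.ofNat 0, Int.ofNat 0, Int.ofNat 2, Int.ofNat 2, Int.ofNat 0, Int.ofNat 0, Int.ofNat 2, Int.ofNat 0, Int.ofNat 0, Int.negSucc 1, Int.ofNat 0, Int.ofNat 0, Int.ofNat 0, Int.ofNat 0],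
  [Int.ofNat 0, Int.ofNat 0, Int.ofNat 0, Int.ofNat 0, Int.ofNat 2, Int.ofNat 0, Int.negSucc 1, Int.negSucc 1, Int.ofNat 0, Int.negSucc 1, Int.ofNat 0, Int.ofNat 0, Int.ofNat 0, Int.ofNat 2, Int.ofNat 2, Int.ofNat 0, Int.ofNat 0, Int.ofNat 2, Int.ofNat 0, Int.ofNat 0, Int.negSucc 1, Int.ofNat 0, Int.ofNat 0, Int.ofNat 0],
  [Int.ofNat 0, Int.ofNat 0, Int.ofNat 0, Int.negSucc 1, Int.ofNat 0, Int.negSucc 1, Int.ofNat 0, Int.ofNat 0, Int.ofNat 0, Int.ofNat 0, Int.ofNat 2, Int.ofNat 0, Int.ofNat 0, Int.ofNat 0, Int.ofNat 0, Int.ofNat 2, Int.negSucc 1, Int.ofNat 0, Int.ofNat 0, Int.ofNat 2, Int.ofNat 0, Int.ofNat 2, Int.negSucc 1, Int.ofNat 0],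
  [Int.negSucc 1, Int.ofNat 0, Int.negSucc 1, Int.ofNat 0, Int.ofNat 0, Int.ofNat 0, Int.ofNat 0, Int.ofNat 2, Int.ofNat 0, Int.ofNat 0, Int.ofNat 0, Int.ofNat 0, Int.ofNat 2, Int.negSucc 1, Int.ofNat 0, Int.ofNat 0, Int.ofNat 2, Int.ofNat 0, Int.ofNat 2, Int.negSucc 1, Int.ofNat 0, Int.ofNat 0, Int.ofNat 0, Int.ofNat 0],
  [Int.ofNat 0, Int.negSucc 1, Int.ofNat 0, Int.ofNat 0, Int.ofNat 0, Int.ofNat 0, Int.ofNat 0, Int.ofNat 2, Int.negSucc 1, Int.ofNat 0, Int.ofNat 0, Int.negSucc 1, Int.ofNat 0, Int.negSucc 1, Int.ofNat 0, Int.ofNat 0, Int.ofNat 2, Int.ofNat 0, Int.ofNat 0, Int.negSucc 1, Int.ofNat 0, Int.ofNat 0, Int.ofNat 0, Int.negSucc 1],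
  [Int.ofNat 0, Int.ofNat 0, Int.ofNat 0, Int.ofNat 0, Int.ofNat 0, Int.ofNat 2, Int.ofNat 0, Int.ofNat 0, Int.ofNat 0, Int.negSucc 1, Int.ofNat 0, Int.ofNat 0, Int.ofNat 0, Int.ofNat 2, Int.ofNat 0, Int.ofNat 0, Int.negSucc 1, Int.ofNat 0, Int.negSucc 1, Int.negSucc 1, Int.ofNat 0, Int.ofNat 0, Int.negSucc 1, Int.negSucc 1],
  [Int.negSucc 0, Int.negSucc 0, Int.negSucc 0, Int.negSucc 0, Int.ofNat 1, Int.ofNat 1, Int.ofNat 1, Int.ofNat 1, Int.ofNat 1, Int.negSucc 0, Int.ofNat 1, Int.ofNat 1, Int.ofNat 1, Int.ofNat 3, Int.negSucc 0, Int.ofNat 1, Int.negSucc 0, Int.negSucc 0, Int.negSucc 0, Int.negSucc 0, Int.ofNat 1, Int.ofNat 1, Int.negSucc 0, Int.ofNat 1],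
  [Int.negSucc 0, Int.negSucc 0, Int.ofNat 1, Int.negSucc 0, Int.ofNat 1, Int.negSucc 0, Int.negSucc 0, Int.ofNat 1, Int.ofNat 1, Int.ofNat 1, Int.negSucc 0, Int.ofNat 1, Int.ofNat 1, Int.ofNat 3, Int.negSucc 0, Int.negSucc 0, Int.negSucc 0, Int.negSucc 0, Int.ofNat 1, Int.negSucc 0, Int.ofNat 1, Int.ofNat 1, Int.ofNat 1, Int.ofNat 1],
  [Int.negSucc 0, Int.ofNat 1, Int.negSucc 0, Int.ofNat 1, Int.negSucc 0, Int.ofNat 1, Int.negSucc 0, Int.ofNat 1, Int.negSucc 0, Int.ofNat 1, Int.ofNat 1, Int.ofNat 1, Int.negSucc 0, Int.negSucc 0, Int.ofNat 1, Int.negSucc 0, Int.negSucc 0, Int.ofNat 1, Int.ofNat 1, Int.negSucc 0, Int.negSucc 0, Int.ofNat 1, Int.ofNat 3, Int.ofNat 1],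
  [Int.negSucc 0, Int.ofNat 1, Int.ofNat 1, Int.ofNat 1, Int.negSucc 0, Int.negSucc 0, Int.ofNat 1, Int.ofNat 1, Int.negSucc 0, Int.negSucc 0, Int.negSucc 0, Int.ofNat 1, Int.negSucc 0, Int.negSucc 0, Int.ofNat 1, Int.ofNat 1, Int.negSucc 0, Int.ofNat 1, Int.negSucc 0, Int.negSucc 0, Int.negSucc 0, Int.ofNat 1, Int.negSucc 2, Int.ofNat 1],
  [Int.ofNat 2, Int.ofNat 0, Int.ofNat 0, Int.ofNat 0, Int.ofNat 2, Int.negSucc 1, Int.ofNat 0, Int.ofNat 0, Int.ofNat 0, Int.ofNat 0, Int.ofNat 0, Int.ofNat 2, Int.ofNat 0, Int.ofNat 2, Int.ofNat 0, Int.ofNat 2, Int.ofNat 2, Int.ofNat 0, Int.ofNat 0, Int.negSucc 1, Int.ofNat 0, Int.ofNat 0, Int.ofNat 0, Int.ofNat 0],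
  [Int.ofNat 2, Int.ofNat 0, Int.ofNat 0, Int.ofNat 0, Int.ofNat 0, Int.ofNat 0, Int.ofNat 0, Int.negSucc 1, Int.ofNat 2, Int.ofNat 0, Int.ofNat 0, Int.negSucc 1, Int.ofNat 0, Int.ofNat 0, Int.ofNat 0, Int.ofNat 2, Int.ofNat 2, Int.ofNat 2, Int.ofNat 2, Int.ofNat 0, Int.ofNat 0, Int.ofNat 0, Int.ofNat 0, Int.ofNat 0],
  [Int.negSucc 0, Int.ofNat 1, Int.ofNat 1, Int.negSucc 0, Int.negSucc 0, Int.negSucc 0, Int.ofNat 1, Int.negSucc 0, Int.ofNat 1, Int.negSucc 0, Int.negSucc 0, Int.negSucc 2, Int.negSucc 0, Int.negSucc 0, Int.negSucc 0, Int.ofNat 1, Int.ofNat 1, Int.ofNat 1, Int.ofNat 1, Int.ofNat 1, Int.negSucc 0, Int.ofNat 1, Int.negSucc 0, Int.ofNat 1],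
  [Int.negSucc 0, Int.ofNat 1, Int.negSucc 0, Int.negSucc 0, Int.ofNat 1, Int.ofNat 1, Int.negSucc 0, Int.negSucc 0, Int.negSucc 0, Int.ofNat 1, Int.negSucc 0, Int.ofNat 1, Int.negSucc 0, Int.negSucc 0, Int.negSucc 2, Int.negSucc 0, Int.negSucc 0, Int.negSucc 0, Int.ofNat 1, Int.ofNat 1, Int.ofNat 1, Int.ofNat 1, Int.ofNat 1, Int.ofNat 1],
  [Int.ofNat 1, Int.negSucc 0, Int.ofNat 1, Int.ofNat 1, Int.ofNat 1, Int.ofNat 3, Int.negSucc 0, Int.negSucc 0, Int.negSucc 0, Int.ofNat 1, Int.negSucc 0, Int.ofNat 1, Int.negSucc 0, Int.negSucc 0, Int.negSucc 0, Int.negSucc 0, Int.negSucc 0, Int.ofNat 1, Int.ofNat 1, Int.ofNat 1, Int.ofNat 1, Int.ofNat 1, Int.ofNat 1, Int.negSucc 0],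
  [Int.negSucc 0, Int.ofNat 1, Int.ofNat 1, Int.ofNat 1, Int.ofNat 3, Int.negSucc 0, Int.negSucc 0, Int.negSucc 0, Int.ofNat 1, Int.negSucc 0, Int.ofNat 1, Int.negSucc 0, Int.negSucc 0, Int.negSucc 0, Int.negSucc 0, Int.negSucc 0, Int.ofNat 1, Int.ofNat 1, Int.ofNat 1, Int.ofNat 1, Int.ofNat 1, Int.ofNat 1, Int.ofNat 1, Int.negSucc 0],
  [Int.ofNat 1, Int.ofNat 1, Int.negSucc 0, Int.ofNat 1, Int.ofNat 3, Int.negSucc 0, Int.negSucc 0, Int.ofNat 1, Int.ofNat 1, Int.ofNat 1, Int.negSucc 0, Int.ofNat 1, Int.negSucc 0, Int.negSucc 0, Int.negSucc 0, Int.negSucc 0, Int.ofNat 1, Int.ofNat 1, Int.negSucc 0, Int.ofNat 1, Int.ofNat 1, Int.negSucc 0, Int.ofNat 1, Int.negSucc 0],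
  [Int.negSucc 0, Int.negSucc 0, Int.ofNat 1, Int.negSucc 0, Int.negSucc 2, Int.negSucc 0, Int.ofNat 1, Int.ofNat 1, Int.negSucc 0, Int.negSucc 0, Int.negSucc 0, Int.ofNat 1, Int.ofNat 1, Int.ofNat 1, Int.negSucc 0, Int.negSucc 0, Int.negSucc 0, Int.ofNat 1, Int.ofNat 1, Int.ofNat 1, Int.ofNat 1, Int.negSucc 0, Int.ofNat 1, Int.negSucc 0],
  [Int.negSucc 0, Int.ofNat 1, Int.ofNat 1, Int.negSucc 0, Int.negSucc 0, Int.negSucc 0, Int.negSucc 2, Int.ofNat 1, Int.negSucc 0, Int.negSucc 0, Int.negSucc 0, Int.negSucc 0, Int.ofNat 1, Int.negSucc 0, Int.ofNat 1, Int.negSucc 0, Int.ofNat 1, Int.ofNat 1, Int.ofNat 1, Int.ofNat 1, Int.negSucc 0, Int.ofNat 1, Int.ofNat 1, Int.negSucc 0],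
  [Int.ofNat 1, Int.ofNat 1, Int.negSucc 0, Int.negSucc 0, Int.negSucc 0, Int.negSucc 0, Int.negSucc 2, Int.negSucc 0, Int.negSucc 0, Int.ofNat 1, Int.ofNat 1, Int.ofNat 1, Int.ofNat 1, Int.negSucc 0, Int.ofNat 1, Int.negSucc 0, Int.ofNat 1, Int.ofNat 1, Int.negSucc 0, Int.ofNat 1, Int.negSucc 0, Int.negSucc 0, Int.ofNat 1, Int.negSucc 0],
  [Int.ofNat 1, Int.ofNat 1, Int.ofNat 1, Int.negSucc 0, Int.negSucc 0, Int.negSucc 0, Int.negSucc 0, Int.negSucc 2, Int.negSucc 0, Int.negSucc 0, Int.ofNat 1, Int.ofNat 1, Int.ofNat 1, Int.ofNat 1, Int.negSucc 0, Int.ofNat 1, Int.negSucc 0, Int.ofNat 1, Int.ofNat 1, Int.negSucc 0, Int.ofNat 1, Int.negSucc 0, Int.negSucc 0, Int.negSucc 0],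
  [Int.ofNat 0, Int.ofNat 0, Int.ofNat 0, Int.ofNat 0, Int.ofNat 0, Int.ofNat 0, Int.ofNat 2, Int.ofNat 0, Int.negSucc 1, Int.negSucc 1, Int.ofNat 0, Int.ofNat 0, Int.ofNat 0, Int.ofNat 2, Int.ofNat 0, Int.ofNat 0, Int.ofNat 0, Int.ofNat 2, Int.ofNat 0, Int.ofNat 2, Int.ofNat 0, Int.ofNat 2, Int.ofNat 0, Int.ofNat 2],
  [Int.ofNat 0, Int.ofNat 0, Int.ofNat 0, Int.ofNat 2, Int.ofNat 0, Int.negSucc 1, Int.negSucc 1, Int.ofNat 0, Int.ofNat 0, Int.ofNat 0, Int.ofNat 2, Int.ofNat 0, Int.ofNat 0, Int.ofNat 0, Int.ofNat 2, Int.ofNat 0, Int.ofNat 2, Int.ofNat 0, Int.ofNat 2, Int.ofNat 0, Int.ofNat 0, Int.ofNat 0, Int.ofNat 0, Int.ofNat 2],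
  [Int.ofNat 1, Int.ofNat 1, Int.ofNat 1, Int.ofNat 1, Int.negSucc 0, Int.negSucc 2, Int.negSucc 0, Int.ofNat 1, Int.negSucc 0, Int.negSucc 0, Int.ofNat 1, Int.negSucc 0, Int.negSucc 0, Int.negSucc 0, Int.ofNat 1, Int.negSucc 0, Int.ofNat 1, Int.negSucc 0, Int.ofNat 1, Int.ofNat 1, Int.negSucc 0, Int.ofNat 1, Int.negSucc 0, Int.negSucc 0],
  [Int.ofNat 1, Int.negSucc 0, Int.negSucc 0, Int.ofNat 1, Int.ofNat 1, Int.ofNat 1, Int.ofNat 1, Int.ofNat 1, Int.negSucc 0, Int.negSucc 0, Int.negSucc 0, Int.negSucc 0, Int.negSucc 0, Int.ofNat 1, Int.negSucc 0, Int.negSucc 0, Int.negSucc 0, Int.ofNat 1, Int.ofNat 1, Int.negSucc 0, Int.ofNat 1, Int.negSucc 2, Int.ofNat 1, Int.negSucc 0],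
  [Int.negSucc 1, Int.ofNat 0, Int.ofNat 0, Int.ofNat 0, Int.ofNat 0, Int.ofNat 0, Int.ofNat 2, Int.ofNat 2, Int.ofNat 0, Int.ofNat 0, Int.ofNat 0, Int.ofNat 0, Int.ofNat 0, Int.ofNat 0, Int.negSucc 1, Int.ofNat 0, Int.negSucc 1, Int.ofNat 0, Int.ofNat 2, Int.ofNat 0, Int.ofNat 2, Int.negSucc 1, Int.ofNat 0, Int.ofNat 0],
  [Int.negSucc 1, Int.ofNat 0, Int.ofNat 0, Int.ofNat 0, Int.ofNat 0, Int.ofNat 0, Int.negSucc 1, Int.ofNat 2, Int.ofNat 0, Int.ofNat 0, Int.ofNat 0, Int.ofNat 0, Int.ofNat 0, Int.ofNat 0, Int.negSucc 1, Int.ofNat 0, Int.negSucc 1, Int.ofNat 0, Int.negSucc 1, Int.ofNat 0, Int.ofNat 2, Int.negSucc 1, Int.ofNat 0, Int.ofNat 0],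
  [Int.ofNat 0, Int.negSucc 1, Int.ofNat 0, Int.ofNat 0, Int.negSucc 1, Int.negSucc 1, Int.negSucc 1, Int.ofNat 0, Int.ofNat 0, Int.ofNat 2, Int.ofNat 0, Int.ofNat 2, Int.ofNat 0, Int.ofNat 0, Int.ofNat 0, Int.negSucc 1, Int.ofNat 0, Int.ofNat 0, Int.ofNat 0, Int.ofNat 0, Int.negSucc 1, Int.ofNat 0, Int.ofNat 0, Int.ofNat 0],
  [Int.ofNat 0, Int.ofNat 0, Int.ofNat 2, Int.negSucc 1, Int.ofNat 0, Int.ofNat 2, Int.ofNat 0, Int.ofNat 0, Int.negSucc 1, Int.negSucc 1, Int.ofNat 0, Int.ofNat 0, Int.ofNat 0, Int.ofNat 0, Int.ofNat 0, Int.ofNat 0, Int.ofNat 0, Int.negSucc 1, Int.ofNat 0, Int.negSucc 1, Int.ofNat 0, Int.ofNat 0, Int.negSucc 1, Int.ofNat 0],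
  [Int.ofNat 0, Int.ofNat 0, Int.negSucc 1, Int.negSucc 1, Int.ofNat 0, Int.ofNat 2, Int.ofNat 0, Int.ofNat 0, Int.negSucc 1, Int.ofNat 2, Int.ofNat 0, Int.ofNat 0, Int.ofNat 0, Int.ofNat 0, Int.ofNat 0, Int.ofNat 0, Int.ofNat 0, Int.negSucc 1, Int.ofNat 0, Int.negSucc 1, Int.ofNat 0, Int.ofNat 0, Int.negSucc 1, Int.ofNat 0],
  [Int.negSucc 1, Int.ofNat 0, Int.ofNat 0, Int.negSucc 1, Int.negSucc 1, Int.ofNat 0, Int.ofNat 2, Int.ofNat 0, Int.ofNat 0, Int.negSucc 1, Int.ofNat 2, Int.ofNat 0, Int.ofNat 0, Int.ofNat 0, Int.ofNat 0, Int.ofNat 0, Int.ofNat 0, Int.ofNat 0, Int.negSucc 1, Int.ofNat 0, Int.negSucc 1, Int.ofNat 0, Int.ofNat 0, Int.ofNat 0],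
  [Int.ofNat 1, Int.negSucc 0, Int.negSucc 0, Int.negSucc 0, Int.negSucc 0, Int.ofNat 1, Int.ofNat 1, Int.negSucc 0, Int.ofNat 1, Int.negSucc 0, Int.ofNat 3, Int.ofNat 1, Int.ofNat 1, Int.ofNat 1, Int.ofNat 1, Int.ofNat 1, Int.ofNat 1, Int.ofNat 1, Int.negSucc 0, Int.negSucc 0, Int.negSucc 0, Int.negSucc 0, Int.ofNat 1, Int.negSucc 0],
  [Int.negSucc 0, Int.negSucc 0, Int.ofNat 1, Int.ofNat 1, Int.negSucc 0, Int.ofNat 1, Int.negSucc 0, Int.ofNat 3, Int.ofNat 1, Int.ofNat 1, Int.ofNat 1, Int.ofNat 1, Int.ofNat 1, Int.ofNat 1, Int.ofNat 1, Int.negSucc 0, Int.negSucc 0, Int.negSucc 0, Int.negSucc 0, Int.ofNat 1, Int.ofNat 1, Int.negSucc 0, Int.negSucc 0, Int.negSucc 0],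
  [Int.ofNat 0, Int.ofNat 0, Int.negSucc 1, Int.ofNat 0, Int.ofNat 0, Int.ofNat 0, Int.negSucc 1, Int.ofNat 2, Int.ofNat 0, Int.ofNat 0, Int.ofNat 0, Int.ofNat 0, Int.ofNat 0, Int.ofNat 2, Int.ofNat 0, Int.negSucc 1, Int.ofNat 0, Int.negSucc 1, Int.negSucc 1, Int.ofNat 0, Int.ofNat 0, Int.negSucc 1, Int.ofNat 0, Int.ofNat 0],
  [Int.ofNat 0, Int.negSucc 1, Int.ofNat 0, Int.ofNat 0, Int.negSucc 1, Int.ofNat 2, Int.negSucc 1, Int.ofNat 0, Int.ofNat 0, Int.ofNat 2, Int.ofNat 0, Int.negSucc 1, Int.ofNat 0, Int.ofNat 0, Int.ofNat 0, Int.negSucc 1, Int.ofNat 0, Int.ofNat 0, Int.ofNat 0, Int.ofNat 0, Int.negSucc 1, Int.ofNat 0, Int.ofNat 0, Int.ofNat 0],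
  [Int.negSucc 0, Int.ofNat 1, Int.negSucc 0, Int.negSucc 0, Int.negSucc 0, Int.ofNat 1, Int.negSucc 0, Int.ofNat 1, Int.ofNat 1, Int.ofNat 3, Int.ofNat 1, Int.negSucc 0, Int.ofNat 1, Int.ofNat 1, Int.negSucc 0, Int.negSucc 0, Int.ofNat 1, Int.negSucc 0, Int.ofNat 1, Int.ofNat 1, Int.negSucc 0, Int.ofNat 1, Int.ofNat 1, Int.negSucc 0],
  [Int.negSucc 0, Int.ofNat 1, Int.ofNat 1, Int.negSucc 0, Int.negSucc 0, Int.negSucc 0, Int.ofNat 1, Int.ofNat 1, Int.ofNat 1, Int.negSucc 2, Int.negSucc 0, Int.negSucc 0, Int.ofNat 1, Int.ofNat 1, Int.negSucc 0, Int.ofNat 1, Int.ofNat 1, Int.negSucc 0, Int.negSucc 0, Int.ofNat 1, Int.negSucc 0, Int.ofNat 1, Int.negSucc 0, Int.negSucc 0],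
  [Int.negSucc 0, Int.negSucc 0, Int.negSucc 0, Int.negSucc 2, Int.ofNat 1, Int.ofNat 1, Int.ofNat 1, Int.negSucc 0, Int.negSucc 0, Int.ofNat 1, Int.ofNat 1, Int.negSucc 0, Int.ofNat 1, Int.ofNat 1, Int.negSucc 0, Int.negSucc 0, Int.ofNat 1, Int.negSucc 0, Int.ofNat 1, Int.negSucc 0, Int.negSucc 0, Int.ofNat 1, Int.ofNat 1, Int.negSucc 0],
  [Int.negSucc 0, Int.negSucc 0, Int.ofNat 1, Int.negSucc 2, Int.ofNat 1, Int.negSucc 0, Int.negSucc 0, Int.negSucc 0, Int.negSucc 0, Int.negSucc 0, Int.negSucc 0, Int.negSucc 0, Int.ofNat 1, Int.ofNat 1, Int.negSucc 0, Int.ofNat 1, Int.ofNat 1, Int.negSucc 0, Int.negSucc 0, Int.negSucc 0, Int.negSucc 0, Int.ofNat 1, Int.negSucc 0, Int.negSucc 0],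
  [Int.ofNat 0, Int.ofNat 0, Int.negSucc 1, Int.ofNat 0, Int.ofNat 0, Int.ofNat 2, Int.ofNat 0, Int.ofNat 0, Int.ofNat 0, Int.ofNat 0, Int.ofNat 0, Int.ofNat 0, Int.ofNat 2, Int.ofNat 0, Int.ofNat 2, Int.ofNat 2, Int.ofNat 0, Int.ofNat 2, Int.ofNat 0, Int.ofNat 0, Int.ofNat 0, Int.ofNat 2, Int.negSucc 1, Int.ofNat 0],
  [Int.ofNat 0, Int.ofNat 0, Int.ofNat 0, Int.ofNat 0, Int.negSucc 1, Int.ofNat 2, Int.ofNat 0, Int.ofNat 2, Int.ofNat 0, Int.ofNat 2, Int.ofNat 0, Int.ofNat 0, Int.ofNat 0, Int.ofNat 0, Int.ofNat 2, Int.ofNat 2, Int.ofNat 0, Int.ofNat 0, Int.ofNat 0, Int.negSucc 1, Int.ofNat 0, Int.ofNat 0, Int.ofNat 2, Int.ofNat 0],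
  [Int.ofNat 0, Int.ofNat 0, Int.ofNat 0, Int.negSucc 1, Int.negSucc 1, Int.ofNat 0, Int.ofNat 0, Int.ofNat 2, Int.ofNat 0, Int.ofNat 0, Int.negSucc 1, Int.ofNat 0, Int.ofNat 0, Int.ofNat 0, Int.ofNat 0, Int.ofNat 0, Int.ofNat 0, Int.negSucc 1, Int.ofNat 0, Int.negSucc 1, Int.negSucc 1, Int.ofNat 0, Int.ofNat 2, Int.ofNat 0],
  [Int.negSucc 1, Int.ofNat 0, Int.ofNat 2, Int.ofNat 0, Int.ofNat 0, Int.ofNat 0, Int.negSucc 1, Int.negSucc 1, Int.ofNat 0, Int.ofNat 0, Int.ofNat 2, Int.ofNat 0, Int.ofNat 0, Int.negSucc 1, Int.ofNat 0, Int.ofNat 0, Int.ofNat 0, Int.ofNat 0, Int.ofNat 0, Int.ofNat 0, Int.negSucc 1, Int.ofNat 0, Int.negSucc 1, Int.ofNat 0],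
  [Int.ofNat 2, Int.ofNat 0, Int.negSucc 1, Int.ofNat 0, Int.ofNat 2, Int.ofNat 0, Int.ofNat 0, Int.ofNat 0, Int.ofNat 0, Int.ofNat 0, Int.ofNat 2, Int.ofNat 0, Int.ofNat 0, Int.ofNat 0, Int.ofNat 0, Int.ofNat 0, Int.ofNat 2, Int.ofNat 0, Int.ofNat 0, Int.ofNat 2, Int.negSucc 1, Int.ofNat 2, Int.ofNat 0, Int.ofNat 0],
  [Int.ofNat 0, Int.negSucc 1, Int.ofNat 0, Int.ofNat 2, Int.ofNat 0, Int.ofNat 0, Int.ofNat 0, Int.ofNat 0, Int.ofNat 0, Int.ofNat 2, Int.ofNat 0, Int.ofNat 0, Int.ofNat 0, Int.ofNat 0, Int.ofNat 0, Int.ofNat 2, Int.ofNat 0, Int.ofNat 0, Int.ofNat 2, Int.negSucc 1, Int.ofNat 2, Int.ofNat 0, Int.ofNat 2, Int.ofNat 0],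
  [Int.ofNat 0, Int.negSucc 1, Int.ofNat 0, Int.ofNat 2, Int.ofNat 0, Int.ofNat 0, Int.ofNat 0, Int.ofNat 0, Int.ofNat 0, Int.negSucc 1, Int.ofNat 0, Int.ofNat 0, Int.ofNat 0, Int.ofNat 0, Int.ofNat 0, Int.ofNat 2, Int.ofNat 0, Int.ofNat 0, Int.negSucc 1, Int.negSucc 1, Int.ofNat 2, Int.ofNat 0, Int.ofNat 2, Int.ofNat 0],
  [Int.ofNat 0, Int.ofNat 2, Int.ofNat 0, Int.negSucc 1, Int.ofNat 0, Int.ofNat 0, Int.ofNat 0, Int.ofNat 0, Int.ofNat 0, Int.ofNat 2, Int.ofNat 0, Int.ofNat 0, Int.ofNat 0, Int.ofNat 0, Int.ofNat 0, Int.ofNat 2, Int.ofNat 0, Int.ofNat 0, Int.ofNat 2, Int.negSucc 1, Int.ofNat 2, Int.ofNat 0, Int.ofNat 2, Int.ofNat 0],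
  [Int.ofNat 0, Int.ofNat 0, Int.ofNat 2, Int.negSucc 1, Int.ofNat 2, Int.ofNat 0, Int.ofNat 0, Int.ofNat 2, Int.ofNat 2, Int.ofNat 0, Int.ofNat 0, Int.ofNat 0, Int.ofNat 0, Int.ofNat 0, Int.negSucc 1, Int.ofNat 2, Int.ofNat 0, Int.ofNat 2, Int.ofNat 0, Int.ofNat 0, Int.ofNat 0, Int.ofNat 0, Int.ofNat 0, Int.ofNat 0],
  [Int.ofNat 0, Int.ofNat 0, Int.negSucc 1, Int.negSucc 1, Int.ofNat 2, Int.ofNat 0, Int.ofNat 0, Int.negSucc 1, Int.ofNat 2, Int.ofNat 0, Int.ofNat 0, Int.ofNat 0, Int.ofNat 0, Int.ofNat 0, Int.negSucc 1, Int.ofNat 2, Int.ofNat 0, Int.ofNat 2, Int.ofNat 0, Int.ofNat 0, Int.ofNat 0, Int.ofNat 0, Int.ofNat 0, Int.ofNat 0],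
  [Int.ofNat 0, Int.ofNat 0, Int.ofNat 0, Int.negSucc 1, Int.negSucc 1, Int.ofNat 2, Int.ofNat 0, Int.ofNat 0, Int.negSucc 1, Int.ofNat 2, Int.ofNat 0, Int.ofNat 0, Int.ofNat 0, Int.ofNat 0, Int.ofNat 0, Int.negSucc 1, Int.ofNat 2, Int.ofNat 0, Int.ofNat 2, Int.ofNat 0, Int.ofNat 0, Int.ofNat 0, Int.ofNat 0, Int.ofNat 0],
  [Int.ofNat 0, Int.ofNat 0, Int.ofNat 0, Int.negSucc 1, Int.negSucc 1, Int.ofNat 2, Int.ofNat 0, Int.ofNat 0, Int.negSucc 1, Int.ofNat 2, Int.ofNat 0, Int.ofNat 0, Int.ofNat 0, Int.ofNat 0, Int.ofNat 0, Int.negSucc 1, Int.ofNat 2, Int.ofNat 0, Int.ofNat 2, Int.ofNat 0, Int.ofNat 0, Int.ofNat 0, Int.ofNat 0, Int.ofNat 0],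
  [Int.negSucc 1, Int.negSucc 1, Int.ofNat 2, Int.ofNat 0, Int.ofNat 0, Int.negSucc 1, Int.ofNat 2, Int.ofNat 0, Int.ofNat 0, Int.ofNat 0, Int.ofNat 0, Int.ofNat 0, Int.negSucc 1, Int.ofNat 2, Int.ofNat 0, Int.ofNat 2, Int.ofNat 0, Int.ofNat 0, Int.ofNat 0, Int.ofNat 0, Int.ofNat 0, Int.ofNat 0, Int.ofNat 0, Int.ofNat 0],
  [Int.ofNat 1, Int.ofNat 1, Int.negSucc 2, Int.ofNat 1, Int.negSucc 0, Int.negSucc 0, Int.ofNat 1, Int.negSucc 0, Int.ofNat 1, Int.negSucc 0, Int.negSucc 0, Int.ofNat 1, Int.negSucc 0, Int.ofNat 1, Int.ofNat 1, Int.ofNat 1, Int.negSucc 0, Int.ofNat 1, Int.ofNat 1, Int.negSucc 0, Int.negSucc 0, Int.negSucc 0, Int.negSucc 0, Int.negSucc 0],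
  [Int.ofNat 1, Int.ofNat 1, Int.negSucc 0, Int.ofNat 1, Int.ofNat 1, Int.negSucc 0, Int.negSucc 2, Int.negSucc 0, Int.negSucc 0, Int.ofNat 1, Int.negSucc 0, Int.ofNat 1, Int.negSucc 0, Int.negSucc 0, Int.negSucc 0, Int.ofNat 1, Int.ofNat 1, Int.ofNat 1, Int.ofNat 1, Int.ofNat 1, Int.negSucc 0, Int.negSucc 0, Int.negSucc 0, Int.negSucc 0],
  [Int.negSucc 0, Int.negSucc 0, Int.ofNat 1, Int.ofNat 1, Int.ofNat 1, Int.negSucc 0, Int.negSucc 0, Int.ofNat 1, Int.negSucc 0, Int.ofNat 1, Int.negSucc 0, Int.ofNat 1, Int.negSucc 0, Int.negSucc 0, Int.negSucc 0, Int.ofNat 1, Int.ofNat 1, Int.ofNat 1, Int.ofNat 1, Int.ofNat 3, Int.negSucc 0, Int.ofNat 1, Int.negSucc 0, Int.ofNat 1],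
  [Int.negSucc 0, Int.negSucc 0, Int.negSucc 0, Int.ofNat 1, Int.ofNat 1, Int.ofNat 1, Int.ofNat 1, Int.ofNat 1, Int.negSucc 0, Int.negSucc 0, Int.ofNat 1, Int.ofNat 1, Int.negSucc 0, Int.negSucc 0, Int.negSucc 0, Int.negSucc 0, Int.ofNat 1, Int.ofNat 1, Int.negSucc 0, Int.ofNat 3, Int.negSucc 0, Int.ofNat 1, Int.ofNat 1, Int.ofNat 1],
  [Int.ofNat 1, Int.ofNat 1, Int.ofNat 1, Int.negSucc 0, Int.negSucc 0, Int.ofNat 1, Int.ofNat 1, Int.ofNat 1, Int.ofNat 1, Int.negSucc 0, Int.negSucc 0, Int.ofNat 1, Int.negSucc 0, Int.ofNat 1, Int.ofNat 1, Int.negSucc 0, Int.ofNat 3, Int.negSucc 0, Int.negSucc 0, Int.negSucc 0, Int.negSucc 0, Int.negSucc 0, Int.ofNat 1, Int.ofNat 1],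
  [Int.ofNat 1, Int.ofNat 1, Int.ofNat 1, Int.negSucc 0, Int.negSucc 0, Int.negSucc 0, Int.negSucc 0, Int.ofNat 1, Int.negSucc 0, Int.ofNat 1, Int.ofNat 3, Int.ofNat 1, Int.negSucc 0, Int.ofNat 1, Int.negSucc 0, Int.negSucc 0, Int.negSucc 0, Int.negSucc 0, Int.ofNat 1, Int.ofNat 1, Int.ofNat 1, Int.negSucc 0, Int.ofNat 1, Int.ofNat 1],
  [Int.negSucc 0, Int.ofNat 1, Int.negSucc 0, Int.negSucc 0, Int.negSucc 0, Int.negSucc 0, Int.negSucc 0, Int.negSucc 0, Int.negSucc 0, Int.negSucc 0, Int.negSucc 2, Int.negSucc 0, Int.negSucc 0, Int.ofNat 1, Int.negSucc 0, Int.negSucc 0, Int.negSucc 0, Int.negSucc 0, Int.negSucc 0, Int.ofNat 1, Int.ofNat 1, Int.ofNat 1, Int.ofNat 1, Int.ofNat 1],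
  [Int.ofNat 1, Int.negSucc 0, Int.ofNat 1, Int.negSucc 0, Int.negSucc 0, Int.negSucc 0, Int.negSucc 0, Int.negSucc 0, Int.negSucc 0, Int.negSucc 0, Int.negSucc 0, Int.negSucc 2, Int.negSucc 0, Int.negSucc 0, Int.ofNat 1, Int.negSucc 0, Int.negSucc 0, Int.negSucc 0, Int.negSucc 0, Int.negSucc 0, Int.ofNat 1, Int.ofNat 1, Int.ofNat 1, Int.ofNat 1],
  [Int.ofNat 0, Int.ofNat 2, Int.ofNat 0, Int.ofNat 0, Int.ofNat 0, Int.ofNat 0, Int.ofNat 0, Int.ofNat 0, Int.ofNat 2, Int.ofNat 0, Int.ofNat 0, Int.ofNat 0, Int.ofNat 2, Int.ofNat 0, Int.ofNat 2, Int.ofNat 0, Int.ofNat 0, Int.ofNat 0, Int.ofNat 2, Int.ofNat 0, Int.ofNat 2, Int.ofNat 2, Int.ofNat 2, Int.ofNat 0],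
  [Int.ofNat 0, Int.ofNat 0, Int.ofNat 0, Int.ofNat 0, Int.ofNat 0, Int.ofNat 2, Int.ofNat 0, Int.ofNat 0, Int.ofNat 0, Int.ofNat 2, Int.ofNat 0, Int.ofNat 2, Int.ofNat 0, Int.ofNat 0, Int.ofNat 0, Int.ofNat 2, Int.ofNat 0, Int.ofNat 2, Int.ofNat 2, Int.ofNat 2, Int.ofNat 0, Int.ofNat 2, Int.ofNat 0, Int.ofNat 0],
  [Int.ofNat 0, Int.ofNat 0, Int.ofNat 0, Int.negSucc 1, Int.ofNat 0, Int.ofNat 0, Int.negSucc 1, Int.negSucc 1, Int.negSucc 1, Int.ofNat 0, Int.negSucc 1, Int.ofNat 0, Int.negSucc 1, Int.ofNat 0, Int.negSucc 1, Int.ofNat 0, Int.ofNat 0, Int.ofNat 0, Int.ofNat 0, Int.ofNat 0, Int.negSucc 1, Int.ofNat 0, Int.ofNat 0, Int.ofNat 0],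
  [Int.ofNat 0, Int.negSucc 1, Int.ofNat 0, Int.negSucc 1, Int.ofNat 0, Int.negSucc 1, Int.ofNat 0, Int.negSucc 1, Int.negSucc 1, Int.ofNat 0, Int.negSucc 1, Int.ofNat 0, Int.ofNat 0, Int.ofNat 0, Int.ofNat 0, Int.ofNat 0, Int.negSucc 1, Int.negSucc 1, Int.ofNat 0, Int.ofNat 0, Int.ofNat 0, Int.ofNat 0, Int.ofNat 0, Int.ofNat 0],
  [Int.negSucc 0, Int.ofNat 1, Int.negSucc 0, Int.ofNat 1, Int.ofNat 1, Int.ofNat 1, Int.ofNat 1, Int.negSucc 0, Int.negSucc 0, Int.ofNat 1, Int.negSucc 0, Int.ofNat 1, Int.ofNat 1, Int.ofNat 1, Int.ofNat 3, Int.ofNat 1, Int.negSucc 0, Int.ofNat 1, Int.ofNat 1, Int.ofNat 1, Int.ofNat 1, Int.ofNat 1, Int.ofNat 1, Int.negSucc 0],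
  [Int.negSucc 0, Int.ofNat 1, Int.ofNat 1, Int.ofNat 1, Int.ofNat 1, Int.negSucc 0, Int.negSucc 0, Int.negSucc 0, Int.negSucc 0, Int.negSucc 0, Int.ofNat 1, Int.ofNat 1, Int.ofNat 1, Int.ofNat 1, Int.ofNat 3, Int.negSucc 0, Int.negSucc 0, Int.ofNat 1, Int.negSucc 0, Int.ofNat 1, Int.ofNat 1, Int.ofNat 1, Int.negSucc 0, Int.negSucc 0],
  [Int.negSucc 0, Int.ofNat 1, Int.ofNat 1, Int.negSucc 0, Int.negSucc 0, Int.ofNat 1, Int.ofNat 1, Int.negSucc 0, Int.ofNat 1, Int.ofNat 1, Int.negSucc 0, Int.ofNat 1, Int.negSucc 0, Int.ofNat 1, Int.negSucc 0, Int.ofNat 1, Int.negSucc 0, Int.ofNat 1, Int.negSucc 0, Int.ofNat 3, Int.negSucc 0, Int.ofNat 1, Int.ofNat 1, Int.negSucc 0],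
  [Int.negSucc 0, Int.ofNat 1, Int.negSucc 0, Int.negSucc 0, Int.negSucc 0, Int.negSucc 0, Int.negSucc 0, Int.negSucc 0, Int.ofNat 1, Int.negSucc 0, Int.ofNat 1, Int.ofNat 1, Int.negSucc 0, Int.ofNat 1, Int.negSucc 0, Int.negSucc 0, Int.negSucc 0, Int.ofNat 1, Int.ofNat 1, Int.ofNat 3, Int.negSucc 0, Int.ofNat 1, Int.negSucc 0, Int.negSucc 0],
  [Int.ofNat 0, Int.negSucc 1, Int.ofNat 0, Int.ofNat 0, Int.ofNat 0, Int.ofNat 0, Int.negSucc 1, Int.negSucc 1, Int.ofNat 0, Int.ofNat 0, Int.ofNat 2, Int.ofNat 0, Int.negSucc 1, Int.ofNat 2, Int.ofNat 0, Int.ofNat 0, Int.ofNat 0, Int.ofNat 2, Int.ofNat 0, Int.ofNat 2, Int.ofNat 0, Int.ofNat 0, Int.ofNat 0, Int.ofNat 0],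
  [Int.ofNat 0, Int.ofNat 0, Int.negSucc 1, Int.ofNat 0, Int.ofNat 0, Int.ofNat 0, Int.negSucc 1, Int.ofNat 0, Int.ofNat 0, Int.negSucc 1, Int.negSucc 1, Int.ofNat 2, Int.ofNat 0, Int.ofNat 0, Int.ofNat 2, Int.ofNat 0, Int.ofNat 2, Int.ofNat 0, Int.ofNat 0, Int.ofNat 0, Int.ofNat 2, Int.ofNat 0, Int.ofNat 0, Int.ofNat 0],
  [Int.negSucc 0, Int.negSucc 0, Int.ofNat 1, Int.negSucc 0, Int.negSucc 0, Int.negSucc 0, Int.negSucc 0, Int.ofNat 1, Int.negSucc 0, Int.negSucc 0, Int.negSucc 0, Int.ofNat 1, Int.negSucc 0, Int.negSucc 0, Int.ofNat 1, Int.ofNat 1, Int.ofNat 1, Int.negSucc 0, Int.negSucc 0, Int.ofNat 1, Int.ofNat 3, Int.ofNat 1, Int.negSucc 0, Int.negSucc 0],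
  [Int.ofNat 3, Int.ofNat 1, Int.negSucc 0, Int.negSucc 0, Int.negSucc 0, Int.ofNat 1, Int.negSucc 0, Int.negSucc 0, Int.negSucc 0, Int.negSucc 0, Int.ofNat 1, Int.negSucc 0, Int.negSucc 0, Int.negSucc 0, Int.ofNat 1, Int.negSucc 0, Int.negSucc 0, Int.ofNat 1, Int.ofNat 1, Int.ofNat 1, Int.negSucc 0, Int.negSucc 0, Int.ofNat 1, Int.negSucc 0],
  [Int.negSucc 1, Int.ofNat 0, Int.ofNat 2, Int.negSucc 1, Int.ofNat 0, Int.ofNat 0, Int.ofNat 0, Int.ofNat 0, Int.ofNat 0, Int.ofNat 0, Int.ofNat 2, Int.ofNat 0, Int.ofNat 0, Int.ofNat 0, Int.ofNat 0, Int.ofNat 0, Int.ofNat 0, Int.ofNat 0, Int.ofNat 2, Int.ofNat 2, Int.ofNat 0, Int.ofNat 0, Int.ofNat 2, Int.ofNat 2],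
  [Int.ofNat 0, Int.ofNat 2, Int.negSucc 1, Int.ofNat 0, Int.ofNat 0, Int.ofNat 0, Int.ofNat 0, Int.ofNat 0, Int.ofNat 0, Int.ofNat 2, Int.ofNat 0, Int.ofNat 0, Int.ofNat 0, Int.ofNat 0, Int.ofNat 0, Int.ofNat 0, Int.ofNat 0, Int.ofNat 2, Int.ofNat 2, Int.ofNat 0, Int.ofNat 0, Int.ofNat 2, Int.negSucc 1, Int.ofNat 2],
  [Int.ofNat 0, Int.ofNat 2, Int.ofNat 2, Int.ofNat 0, Int.ofNat 0, Int.ofNat 0, Int.ofNat 0, Int.ofNat 0, Int.ofNat 0, Int.negSucc 1, Int.ofNat 0, Int.ofNat 0, Int.ofNat 0, Int.ofNat 0, Int.ofNat 0, Int.ofNat 0, Int.ofNat 0, Int.ofNat 2, Int.negSucc 1, Int.ofNat 0, Int.ofNat 0, Int.negSucc 1, Int.negSucc 1, Int.ofNat 2],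
  [Int.ofNat 0, Int.negSucc 1, Int.negSucc 1, Int.ofNat 0, Int.ofNat 0, Int.ofNat 0, Int.ofNat 0, Int.ofNat 0, Int.ofNat 0, Int.ofNat 2, Int.ofNat 0, Int.ofNat 0, Int.ofNat 0, Int.ofNat 0, Int.ofNat 0, Int.ofNat 0, Int.ofNat 0, Int.ofNat 2, Int.ofNat 2, Int.ofNat 0, Int.ofNat 0, Int.negSucc 1, Int.negSucc 1, Int.ofNat 2],
  [Int.ofNat 0, Int.negSucc 1, Int.ofNat 2, Int.ofNat 0, Int.negSucc 1, Int.ofNat 0, Int.ofNat 0, Int.ofNat 0, Int.ofNat 2, Int.ofNat 0, Int.negSucc 1, Int.ofNat 0, Int.ofNat 0, Int.ofNat 0, Int.ofNat 0, Int.ofNat 0, Int.ofNat 0, Int.negSucc 1, Int.ofNat 0, Int.ofNat 2, Int.ofNat 0, Int.ofNat 0, Int.ofNat 0, Int.ofNat 2],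
  [Int.ofNat 0, Int.negSucc 1, Int.negSucc 1, Int.ofNat 0, Int.negSucc 1, Int.ofNat 0, Int.ofNat 0, Int.ofNat 0, Int.ofNat 2, Int.ofNat 0, Int.ofNat 2, Int.ofNat 0, Int.ofNat 0, Int.ofNat 0, Int.ofNat 0, Int.ofNat 0, Int.ofNat 0, Int.negSucc 1, Int.ofNat 0, Int.ofNat 2, Int.ofNat 0, Int.ofNat 0, Int.ofNat 0, Int.ofNat 2],
  [Int.ofNat 0, Int.ofNat 0, Int.negSucc 1, Int.negSucc 1, Int.ofNat 0, Int.negSucc 1, Int.ofNat 0, Int.ofNat 0, Int.ofNat 0, Int.ofNat 2, Int.ofNat 0, Int.ofNat 2, Int.ofNat 0, Int.ofNat 0, Int.ofNat 0, Int.ofNat 0, Int.ofNat 0, Int.ofNat 0, Int.negSucc 1, Int.ofNat 0, Int.ofNat 2, Int.ofNat 0, Int.ofNat 0, Int.ofNat 2],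
  [Int.ofNat 0, Int.ofNat 0, Int.ofNat 2, Int.ofNat 0, Int.ofNat 0, Int.ofNat 0, Int.ofNat 0, Int.ofNat 0, Int.ofNat 0, Int.ofNat 0, Int.negSucc 1, Int.ofNat 2, Int.ofNat 0, Int.ofNat 0, Int.ofNat 2, Int.negSucc 1, Int.ofNat 0, Int.ofNat 2, Int.negSucc 1, Int.ofNat 0, Int.ofNat 0, Int.ofNat 0, Int.ofNat 0, Int.negSucc 1],
  [Int.ofNat 0, Int.ofNat 0, Int.ofNat 0, Int.ofNat 0, Int.ofNat 0, Int.ofNat 0, Int.ofNat 0, Int.negSucc 1, Int.ofNat 2, Int.ofNat 0, Int.ofNat 0, Int.ofNat 2, Int.negSucc 1, Int.ofNat 0, Int.ofNat 2, Int.negSucc 1, Int.ofNat 0, Int.ofNat 0, Int.ofNat 0, Int.ofNat 0, Int.ofNat 0, Int.ofNat 0, Int.ofNat 2, Int.negSucc 1],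
  [Int.negSucc 0, Int.negSucc 0, Int.negSucc 0, Int.negSucc 0, Int.negSucc 0, Int.negSucc 0, Int.ofNat 1, Int.negSucc 0, Int.ofNat 1, Int.ofNat 1, Int.ofNat 1, Int.ofNat 1, Int.negSucc 2, Int.negSucc 0, Int.ofNat 1, Int.negSucc 0, Int.negSucc 0, Int.negSucc 0, Int.negSucc 0, Int.ofNat 1, Int.ofNat 1, Int.ofNat 1, Int.ofNat 1, Int.ofNat 1],
  [Int.negSucc 0, Int.ofNat 1, Int.negSucc 0, Int.negSucc 0, Int.negSucc 0, Int.negSucc 0, Int.negSucc 0, Int.ofNat 1, Int.negSucc 2, Int.negSucc 0, Int.ofNat 1, Int.negSucc 0, Int.ofNat 1, Int.negSucc 0, Int.ofNat 1, Int.negSucc 0, Int.ofNat 1, Int.ofNat 1, Int.negSucc 0, Int.ofNat 1, Int.ofNat 1, Int.negSucc 0, Int.ofNat 1, Int.ofNat 1],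
  [Int.ofNat 1, Int.negSucc 0, Int.ofNat 1, Int.negSucc 0, Int.negSucc 0, Int.negSucc 0, Int.negSucc 0, Int.ofNat 1, Int.negSucc 0, Int.negSucc 0, Int.ofNat 1, Int.ofNat 1, Int.ofNat 3, Int.negSucc 0, Int.ofNat 1, Int.negSucc 0, Int.ofNat 1, Int.ofNat 1, Int.ofNat 1, Int.ofNat 1, Int.ofNat 1, Int.negSucc 0, Int.ofNat 1, Int.negSucc 0],
  [Int.ofNat 1, Int.negSucc 0, Int.negSucc 0, Int.negSucc 0, Int.negSucc 0, Int.ofNat 1, Int.ofNat 1, Int.ofNat 1, Int.negSucc 0, Int.ofNat 1, Int.negSucc 0, Int.ofNat 1, Int.ofNat 3, Int.negSucc 0, Int.ofNat 1, Int.ofNat 1, Int.ofNat 1, Int.ofNat 1, Int.negSucc 0, Int.ofNat 1, Int.ofNat 1, Int.negSucc 0, Int.negSucc 0, Int.negSucc 0],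
  [Int.negSucc 0, Int.ofNat 1, Int.ofNat 1, Int.negSucc 0, Int.ofNat 1, Int.ofNat 1, Int.negSucc 0, Int.negSucc 0, Int.ofNat 1, Int.ofNat 1, Int.negSucc 0, Int.ofNat 1, Int.ofNat 1, Int.negSucc 0, Int.ofNat 1, Int.negSucc 0, Int.ofNat 1, Int.ofNat 3, Int.ofNat 1, Int.negSucc 0, Int.ofNat 1, Int.negSucc 0, Int.negSucc 0, Int.negSucc 0],
  [Int.negSucc 0, Int.negSucc 0, Int.ofNat 1, Int.negSucc 0, Int.ofNat 3, Int.ofNat 1, Int.negSucc 0, Int.negSucc 0, Int.ofNat 1, Int.ofNat 1, Int.ofNat 1, Int.ofNat 1, Int.negSucc 0, Int.negSucc 0, Int.ofNat 1, Int.negSucc 0, Int.negSucc 0, Int.ofNat 1, Int.ofNat 1, Int.negSucc 0, Int.ofNat 1, Int.ofNat 1, Int.ofNat 1, Int.negSucc 0],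
  [Int.ofNat 1, Int.negSucc 0, Int.negSucc 0, Int.negSucc 0, Int.ofNat 3, Int.ofNat 1, Int.negSucc 0, Int.ofNat 1, Int.ofNat 1, Int.negSucc 0, Int.negSucc 0, Int.negSucc 0, Int.negSucc 0, Int.negSucc 0, Int.ofNat 1, Int.negSucc 0, Int.negSucc 0, Int.ofNat 1, Int.negSucc 0, Int.negSucc 0, Int.ofNat 1, Int.negSucc 0, Int.ofNat 1, Int.negSucc 0],
  [Int.ofNat 1, Int.ofNat 1, Int.negSucc 0, Int.negSucc 0, Int.negSucc 0, Int.ofNat 3, Int.ofNat 1, Int.negSucc 0, Int.ofNat 1, Int.ofNat 1, Int.negSucc 0, Int.negSucc 0, Int.negSucc 0, Int.negSucc 0, Int.negSucc 0, Int.ofNat 1, Int.negSucc 0, Int.negSucc 0, Int.ofNat 1, Int.negSucc 0, Int.negSucc 0, Int.ofNat 1, Int.negSucc 0, Int.negSucc 0],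
  [Int.negSucc 0, Int.negSucc 0, Int.ofNat 1, Int.negSucc 0, Int.ofNat 1, Int.ofNat 3, Int.ofNat 1, Int.negSucc 0, Int.ofNat 1, Int.ofNat 1, Int.negSucc 0, Int.negSucc 0, Int.negSucc 0, Int.ofNat 1, Int.negSucc 0, Int.ofNat 1, Int.ofNat 1, Int.negSucc 0, Int.ofNat 1, Int.negSucc 0, Int.negSucc 0, Int.ofNat 1, Int.ofNat 1, Int.ofNat 1],
  [Int.negSucc 0, Int.ofNat 1, Int.ofNat 3, Int.ofNat 1, Int.negSucc 0, Int.ofNat 1, Int.ofNat 1, Int.negSucc 0, Int.negSucc 0, Int.negSucc 0, Int.ofNat 1, Int.negSucc 0, Int.ofNat 1, Int.ofNat 1, Int.negSucc 0, Int.ofNat 1, Int.negSucc 0, Int.negSucc 0, Int.ofNat 1, Int.ofNat 1, Int.negSucc 0, Int.negSucc 0, Int.ofNat 1, Int.ofNat 1],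
  [Int.ofNat 3, Int.ofNat 1, Int.negSucc 0, Int.ofNat 1, Int.negSucc 0, Int.ofNat 1, Int.ofNat 1, Int.negSucc 0, Int.negSucc 0, Int.negSucc 0, Int.ofNat 1, Int.negSucc 0, Int.ofNat 1, Int.ofNat 1, Int.negSucc 0, Int.ofNat 1, Int.negSucc 0, Int.negSucc 0, Int.ofNat 1, Int.ofNat 1, Int.negSucc 0, Int.negSucc 0, Int.ofNat 1, Int.ofNat 1],
  [Int.ofNat 3, Int.ofNat 1, Int.negSucc 0, Int.ofNat 1, Int.ofNat 1, Int.negSucc 0, Int.negSucc 0, Int.ofNat 1, Int.ofNat 1, Int.ofNat 1, Int.negSucc 0, Int.negSucc 0, Int.negSucc 0, Int.negSucc 0, Int.ofNat 1, Int.ofNat 1, Int.negSucc 0, Int.negSucc 0, Int.ofNat 1, Int.negSucc 0, Int.negSucc 0, Int.ofNat 1, Int.ofNat 1, Int.ofNat 1],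
  [Int.negSucc 0, Int.ofNat 1, Int.ofNat 3, Int.ofNat 1, Int.ofNat 1, Int.negSucc 0, Int.negSucc 0, Int.ofNat 1, Int.ofNat 1, Int.ofNat 1, Int.negSucc 0, Int.negSucc 0, Int.negSucc 0, Int.negSucc 0, Int.ofNat 1, Int.ofNat 1, Int.negSucc 0, Int.negSucc 0, Int.ofNat 1, Int.negSucc 0, Int.negSucc 0, Int.ofNat 1, Int.ofNat 1, Int.ofNat 1],
  [Int.negSucc 0, Int.ofNat 1, Int.negSucc 2, Int.ofNat 1, Int.ofNat 1, Int.ofNat 1, Int.ofNat 1, Int.ofNat 1, Int.ofNat 1, Int.negSucc 0, Int.ofNat 1, Int.negSucc 0, Int.negSucc 0, Int.negSucc 0, Int.ofNat 1, Int.negSucc 0, Int.negSucc 0, Int.negSucc 0, Int.negSucc 0, Int.negSucc 0, Int.negSucc 0, Int.ofNat 1, Int.negSucc 0, Int.ofNat 1],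
  [Int.ofNat 1, Int.negSucc 0, Int.ofNat 1, Int.negSucc 0, Int.negSucc 0, Int.negSucc 2, Int.negSucc 0, Int.negSucc 0, Int.negSucc 0, Int.ofNat 1, Int.ofNat 1, Int.ofNat 1, Int.ofNat 1, Int.ofNat 1, Int.negSucc 0, Int.ofNat 1, Int.negSucc 0, Int.negSucc 0, Int.ofNat 1, Int.ofNat 1, Int.negSucc 0, Int.negSucc 0, Int.negSucc 0, Int.ofNat 1],
  [Int.ofNat 1, Int.negSucc 0, Int.negSucc 0, Int.negSucc 0, Int.negSucc 0, Int.ofNat 3, Int.ofNat 1, Int.negSucc 0, Int.negSucc 0, Int.negSucc 0, Int.negSucc 0, Int.ofNat 1, Int.ofNat 1, Int.ofNat 1, Int.negSucc 0, Int.negSucc 0, Int.negSucc 0, Int.negSucc 0, Int.negSucc 0, Int.ofNat 1, Int.negSucc 0, Int.negSucc 0, Int.ofNat 1, Int.ofNat 1],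
  [Int.negSucc 0, Int.ofNat 1, Int.ofNat 1, Int.negSucc 0, Int.negSucc 0, Int.ofNat 3, Int.ofNat 1, Int.negSucc 0, Int.negSucc 0, Int.ofNat 1, Int.ofNat 1, Int.ofNat 1, Int.ofNat 1, Int.ofNat 1, Int.negSucc 0, Int.ofNat 1, Int.negSucc 0, Int.negSucc 0, Int.negSucc 0, Int.ofNat 1, Int.ofNat 1, Int.negSucc 0, Int.ofNat 1, Int.negSucc 0],
  [Int.negSucc 0, Int.negSucc 0, Int.ofNat 1, Int.negSucc 0, Int.ofNat 1, Int.negSucc 0, Int.ofNat 1, Int.ofNat 3, Int.negSucc 0, Int.ofNat 1, Int.negSucc 0, Int.ofNat 1, Int.negSucc 0, Int.ofNat 1, Int.negSucc 0, Int.ofNat 1, Int.ofNat 1, Int.ofNat 1, Int.negSucc 0, Int.ofNat 1, Int.ofNat 1, Int.ofNat 1, Int.negSucc 0, Int.negSucc 0],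
  [Int.ofNat 0, Int.ofNat 0, Int.negSucc 1, Int.ofNat 0, Int.ofNat 0, Int.ofNat 0, Int.negSucc 1, Int.ofNat 0, Int.ofNat 0, Int.ofNat 0, Int.negSucc 1, Int.ofNat 2, Int.ofNat 0, Int.ofNat 0, Int.ofNat 0, Int.ofNat 0, Int.ofNat 0, Int.ofNat 2, Int.ofNat 0, Int.negSucc 1, Int.ofNat 0, Int.negSucc 1, Int.negSucc 1, Int.ofNat 0],
  [Int.ofNat 0, Int.negSucc 1, Int.negSucc 1, Int.ofNat 0, Int.ofNat 0, Int.negSucc 1, Int.ofNat 0, Int.ofNat 0, Int.ofNat 0, Int.negSucc 1, Int.ofNat 0, Int.ofNat 0, Int.ofNat 0, Int.negSucc 1, Int.ofNat 2, Int.ofNat 0, Int.ofNat 0, Int.ofNat 0, Int.ofNat 0, Int.ofNat 0, Int.ofNat 2, Int.ofNat 0, Int.negSucc 1, Int.ofNat 0],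
  [Int.negSucc 1, Int.ofNat 0, Int.ofNat 0, Int.ofNat 0, Int.ofNat 2, Int.negSucc 1, Int.ofNat 0, Int.ofNat 0, Int.ofNat 0, Int.negSucc 1, Int.ofNat 0, Int.ofNat 0, Int.ofNat 0, Int.ofNat 0, Int.ofNat 2, Int.ofNat 0, Int.ofNat 2, Int.ofNat 0, Int.ofNat 0, Int.ofNat 0, Int.ofNat 2, Int.ofNat 0, Int.ofNat 0, Int.negSucc 1],
  [Int.ofNat 0, Int.ofNat 0, Int.ofNat 0, Int.ofNat 2, Int.negSucc 1, Int.ofNat 0, Int.ofNat 0, Int.ofNat 0, Int.negSucc 1, Int.ofNat 0, Int.ofNat 0, Int.ofNat 0, Int.ofNat 0, Int.ofNat 2, Int.ofNat 0, Int.ofNat 2, Int.ofNat 0, Int.ofNat 0, Int.ofNat 0, Int.ofNat 2, Int.ofNat 0, Int.ofNat 0, Int.negSucc 1, Int.negSucc 1],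
  [Int.ofNat 0, Int.ofNat 0, Int.ofNat 0, Int.ofNat 2, Int.negSucc 1, Int.ofNat 0, Int.ofNat 0, Int.ofNat 0, Int.negSucc 1, Int.ofNat 0, Int.ofNat 0, Int.ofNat 0, Int.ofNat 0, Int.ofNat 2, Int.ofNat 0, Int.ofNat 2, Int.ofNat 0, Int.ofNat 0, Int.ofNat 0, Int.ofNat 2, Int.ofNat 0, Int.ofNat 0, Int.negSucc 1, Int.negSucc 1],
  [Int.ofNat 0, Int.ofNat 0, Int.ofNat 0, Int.negSucc 1, Int.ofNat 2, Int.ofNat 0, Int.ofNat 0, Int.ofNat 0, Int.ofNat 2, Int.ofNat 0, Int.ofNat 0, Int.ofNat 0, Int.ofNat 0, Int.negSucc 1, Int.ofNat 0, Int.ofNat 2, Int.ofNat 0, Int.ofNat 0, Int.ofNat 0, Int.ofNat 2, Int.ofNat 0, Int.ofNat 0, Int.negSucc 1, Int.negSucc 1],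
  [Int.ofNat 0, Int.ofNat 0, Int.ofNat 0, Int.negSucc 1, Int.ofNat 0, Int.ofNat 0, Int.ofNat 2, Int.ofNat 0, Int.ofNat 0, Int.ofNat 0, Int.ofNat 0, Int.ofNat 0, Int.negSucc 1, Int.ofNat 2, Int.ofNat 2, Int.ofNat 2, Int.ofNat 0, Int.negSucc 1, Int.ofNat 0, Int.ofNat 0, Int.ofNat 0, Int.ofNat 0, Int.ofNat 0, Int.negSucc 1],
  [Int.ofNat 0, Int.ofNat 0, Int.ofNat 0, Int.negSucc 1, Int.ofNat 0, Int.ofNat 0, Int.ofNat 2, Int.ofNat 0, Int.ofNat 0, Int.ofNat 0, Int.ofNat 0, Int.ofNat 0, Int.negSucc 1, Int.ofNat 2, Int.ofNat 2, Int.ofNat 2, Int.ofNat 0, Int.negSucc 1, Int.ofNat 0, Int.ofNat 0, Int.ofNat 0, Int.ofNat 0, Int.ofNat 0, Int.negSucc 1],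
  [Int.ofNat 0, Int.ofNat 0, Int.ofNat 0, Int.ofNat 0, Int.negSucc 1, Int.ofNat 0, Int.ofNat 0, Int.ofNat 2, Int.ofNat 0, Int.ofNat 0, Int.ofNat 0, Int.ofNat 0, Int.ofNat 0, Int.negSucc 1, Int.ofNat 2, Int.ofNat 2, Int.ofNat 2, Int.ofNat 0, Int.negSucc 1, Int.ofNat 0, Int.ofNat 0, Int.ofNat 0, Int.ofNat 0, Int.negSucc 1],
  [Int.negSucc 0, Int.negSucc 0, Int.negSucc 0, Int.negSucc 0, Int.negSucc 0, Int.negSucc 0, Int.negSucc 0, Int.ofNat 1, Int.ofNat 1, Int.negSucc 0, Int.negSucc 0, Int.ofNat 1, Int.ofNat 1, Int.negSucc 0, Int.ofNat 1, Int.ofNat 1, Int.ofNat 3, Int.negSucc 0, Int.negSucc 0, Int.negSucc 0, Int.negSucc 0, Int.negSucc 0, Int.ofNat 1, Int.ofNat 1],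
  [Int.negSucc 0, Int.negSucc 0, Int.negSucc 0, Int.negSucc 0, Int.ofNat 1, Int.ofNat 1, Int.negSucc 0, Int.negSucc 0, Int.ofNat 1, Int.ofNat 1, Int.negSucc 0, Int.ofNat 1, Int.ofNat 1, Int.ofNat 3, Int.negSucc 0, Int.negSucc 0, Int.negSucc 0, Int.negSucc 0, Int.negSucc 0, Int.ofNat 1, Int.negSucc 0, Int.negSucc 0, Int.negSucc 0, Int.ofNat 1],
  [Int.ofNat 0, Int.ofNat 0, Int.ofNat 0, Int.ofNat 0, Int.ofNat 0, Int.ofNat 2, Int.ofNat 0, Int.ofNat 0, Int.ofNat 0, Int.ofNat 2, Int.ofNat 0, Int.ofNat 0, Int.ofNat 0, Int.ofNat 2, Int.ofNat 0, Int.ofNat 0, Int.negSucc 1, Int.ofNat 0, Int.negSucc 1, Int.ofNat 2, Int.ofNat 0, Int.ofNat 0, Int.negSucc 1, Int.negSucc 1],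
  [Int.ofNat 0, Int.ofNat 0, Int.ofNat 0, Int.ofNat 0, Int.negSucc 1, Int.ofNat 0, Int.ofNat 0, Int.ofNat 0, Int.ofNat 0, Int.ofNat 2, Int.ofNat 0, Int.ofNat 0, Int.ofNat 2, Int.negSucc 1, Int.negSucc 1, Int.ofNat 0, Int.ofNat 0, Int.ofNat 0, Int.ofNat 0, Int.ofNat 0, Int.ofNat 0, Int.ofNat 2, Int.ofNat 2, Int.negSucc 1],
  [Int.negSucc 0, Int.negSucc 0, Int.negSucc 0, Int.ofNat 1, Int.negSucc 0, Int.ofNat 1, Int.negSucc 0, Int.negSucc 0, Int.negSucc 0, Int.ofNat 1, Int.negSucc 0, Int.negSucc 0, Int.ofNat 1, Int.negSucc 0, Int.negSucc 0, Int.negSucc 0, Int.ofNat 1, Int.ofNat 1, Int.negSucc 0, Int.negSucc 0, Int.negSucc 0, Int.ofNat 1, Int.ofNat 3, Int.ofNat 1],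
  [Int.negSucc 0, Int.negSucc 0, Int.ofNat 1, Int.ofNat 1, Int.negSucc 0, Int.negSucc 0, Int.ofNat 1, Int.negSucc 0, Int.negSucc 0, Int.negSucc 0, Int.ofNat 1, Int.negSucc 0, Int.ofNat 1, Int.negSucc 0, Int.negSucc 0, Int.ofNat 1, Int.ofNat 1, Int.ofNat 1, Int.ofNat 1, Int.negSucc 0, Int.negSucc 0, Int.ofNat 1, Int.negSucc 2, Int.ofNat 1],
  [Int.ofNat 1, Int.ofNat 1, Int.negSucc 0, Int.negSucc 0, Int.negSucc 0, Int.ofNat 1, Int.ofNat 1, Int.ofNat 1, Int.negSucc 0, Int.negSucc 0, Int.negSucc 0, Int.negSucc 0, Int.ofNat 1, Int.negSucc 0, Int.ofNat 1, Int.ofNat 1, Int.negSucc 0, Int.ofNat 1, Int.negSucc 0, Int.ofNat 1, Int.negSucc 0, Int.negSucc 0, Int.negSucc 2, Int.ofNat 1],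
  [Int.ofNat 1, Int.negSucc 2, Int.negSucc 0, Int.ofNat 1, Int.ofNat 1, Int.negSucc 0, Int.ofNat 1, Int.negSucc 0, Int.negSucc 0, Int.ofNat 1, Int.negSucc 0, Int.negSucc 0, Int.negSucc 0, Int.ofNat 1, Int.negSucc 0, Int.negSucc 0, Int.negSucc 0, Int.negSucc 0, Int.ofNat 1, Int.ofNat 1, Int.negSucc 0, Int.ofNat 1, Int.ofNat 1, Int.ofNat 1],
  [Int.negSucc 0, Int.negSucc 2, Int.ofNat 1, Int.ofNat 1, Int.ofNat 1, Int.negSucc 0, Int.ofNat 1, Int.ofNat 1, Int.negSucc 0, Int.negSucc 0, Int.ofNat 1, Int.ofNat 1, Int.negSucc 0, Int.ofNat 1, Int.negSucc 0, Int.negSucc 0, Int.negSucc 0, Int.negSucc 0, Int.negSucc 0, Int.ofNat 1, Int.negSucc 0, Int.negSucc 0, Int.ofNat 1, Int.ofNat 1],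
  [Int.ofNat 1, Int.negSucc 0, Int.negSucc 2, Int.ofNat 1, Int.ofNat 1, Int.ofNat 1, Int.negSucc 0, Int.ofNat 1, Int.ofNat 1, Int.negSucc 0, Int.negSucc 0, Int.ofNat 1, Int.ofNat 1, Int.negSucc 0, Int.ofNat 1, Int.negSucc 0, Int.negSucc 0, Int.negSucc 0, Int.negSucc 0, Int.negSucc 0, Int.ofNat 1, Int.negSucc 0, Int.negSucc 0, Int.ofNat 1],
  [Int.negSucc 1, Int.ofNat 0, Int.ofNat 2, Int.ofNat 0, Int.ofNat 2, Int.ofNat 0, Int.ofNat 0, Int.ofNat 2, Int.ofNat 0, Int.ofNat 0, Int.ofNat 0, Int.ofNat 0, Int.ofNat 0, Int.ofNat 0, Int.ofNat 0, Int.ofNat 0, Int.ofNat 0, Int.negSucc 1, Int.negSucc 1, Int.ofNat 0, Int.ofNat 2, Int.ofNat 0, Int.ofNat 0, Int.negSucc 1],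
  [Int.ofNat 0, Int.ofNat 2, Int.ofNat 0, Int.ofNat 0, Int.ofNat 2, Int.ofNat 0, Int.ofNat 0, Int.ofNat 0, Int.ofNat 0, Int.ofNat 0, Int.ofNat 0, Int.ofNat 0, Int.ofNat 0, Int.ofNat 0, Int.negSucc 1, Int.negSucc 1, Int.ofNat 0, Int.ofNat 2, Int.ofNat 0, Int.ofNat 0, Int.negSucc 1, Int.ofNat 0, Int.ofNat 2, Int.negSucc 1],
  [Int.ofNat 0, Int.negSucc 1, Int.ofNat 0, Int.ofNat 0, Int.ofNat 0, Int.ofNat 0, Int.ofNat 0, Int.ofNat 0, Int.ofNat 0, Int.ofNat 2, Int.ofNat 2, Int.ofNat 0, Int.ofNat 0, Int.negSucc 1, Int.negSucc 1, Int.ofNat 0, Int.negSucc 1, Int.ofNat 2, Int.ofNat 0, Int.ofNat 0, Int.ofNat 0, Int.ofNat 0, Int.ofNat 0, Int.ofNat 2],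
  [Int.ofNat 0, Int.ofNat 0, Int.ofNat 0, Int.ofNat 0, Int.ofNat 0, Int.ofNat 0, Int.ofNat 0, Int.ofNat 2, Int.ofNat 0, Int.negSucc 1, Int.ofNat 0, Int.ofNat 2, Int.ofNat 2, Int.negSucc 1, Int.ofNat 0, Int.ofNat 0, Int.ofNat 0, Int.negSucc 1, Int.negSucc 1, Int.ofNat 0, Int.ofNat 0, Int.ofNat 0, Int.ofNat 0, Int.ofNat 2],
  [Int.ofNat 1, Int.ofNat 1, Int.ofNat 1, Int.ofNat 1, Int.ofNat 1, Int.ofNat 1, Int.negSucc 0, Int.ofNat 1, Int.negSucc 0, Int.negSucc 0, Int.ofNat 1, Int.ofNat 1, Int.ofNat 1, Int.negSucc 0, Int.ofNat 1, Int.ofNat 1, Int.ofNat 1, Int.negSucc 0, Int.negSucc 2, Int.negSucc 0, Int.ofNat 1, Int.negSucc 0, Int.ofNat 1, Int.negSucc 0],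
  [Int.ofNat 1, Int.ofNat 1, Int.negSucc 0, Int.ofNat 1, Int.ofNat 1, Int.negSucc 0, Int.ofNat 1, Int.ofNat 1, Int.negSucc 0, Int.ofNat 1, Int.negSucc 0, Int.ofNat 1, Int.ofNat 1, Int.negSucc 0, Int.ofNat 1, Int.negSucc 0, Int.ofNat 1, Int.negSucc 0, Int.ofNat 3, Int.negSucc 0, Int.ofNat 1, Int.negSucc 0, Int.negSucc 0, Int.negSucc 0],
  [Int.negSucc 0, Int.ofNat 1, Int.ofNat 1, Int.ofNat 1, Int.ofNat 1, Int.negSucc 0, Int.negSucc 0, Int.negSucc 0, Int.negSucc 0, Int.negSucc 0, Int.ofNat 1, Int.ofNat 1, Int.ofNat 1, Int.ofNat 1, Int.ofNat 3, Int.negSucc 0, Int.negSucc 0, Int.ofNat 1, Int.negSucc 0, Int.ofNat 1, Int.ofNat 1, Int.ofNat 1, Int.negSucc 0, Int.negSucc 0],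
  [Int.negSucc 0, Int.ofNat 1, Int.negSucc 0, Int.ofNat 1, Int.ofNat 1, Int.ofNat 1, Int.ofNat 1, Int.negSucc 0, Int.negSucc 0, Int.ofNat 1, Int.negSucc 0, Int.ofNat 1, Int.ofNat 1, Int.ofNat 1, Int.ofNat 3, Int.ofNat 1, Int.negSucc 0, Int.ofNat 1, Int.ofNat 1, Int.ofNat 1, Int.ofNat 1, Int.ofNat 1, Int.ofNat 1, Int.negSucc 0],
  [Int.ofNat 0, Int.negSucc 1, Int.ofNat 0, Int.negSucc 1, Int.ofNat 0, Int.negSucc 1, Int.ofNat 0, Int.negSucc 1, Int.negSucc 1, Int.ofNat 0, Int.negSucc 1, Int.ofNat 0, Int.ofNat 0, Int.ofNat 0, Int.ofNat 0, Int.ofNat 0, Int.negSucc 1, Int.negSucc 1, Int.ofNat 0, Int.ofNat 0, Int.ofNat 0, Int.ofNat 0, Int.ofNat 0, Int.ofNat 0],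
  [Int.ofNat 0, Int.ofNat 0, Int.ofNat 0, Int.negSucc 1, Int.ofNat 0, Int.ofNat 0, Int.negSucc 1, Int.negSucc 1, Int.negSucc 1, Int.ofNat 0, Int.negSucc 1, Int.ofNat 0, Int.negSucc 1, Int.ofNat 0, Int.negSucc 1, Int.ofNat 0, Int.ofNat 0, Int.ofNat 0, Int.ofNat 0, Int.ofNat 0, Int.negSucc 1, Int.ofNat 0, Int.ofNat 0, Int.ofNat 0],
  [Int.ofNat 0, Int.ofNat 0, Int.ofNat 0, Int.ofNat 0, Int.ofNat 0, Int.ofNat 2, Int.ofNat 0, Int.ofNat 0, Int.ofNat 0, Int.ofNat 2, Int.ofNat 0, Int.ofNat 2, Int.ofNat 0, Int.ofNat 0, Int.ofNat 0, Int.ofNat 2, Int.ofNat 0, Int.ofNat 2, Int.ofNat 2, Int.ofNat 2, Int.ofNat 0, Int.ofNat 2, Int.ofNat 0, Int.ofNat 0],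
  [Int.ofNat 0, Int.ofNat 2, Int.ofNat 0, Int.ofNat 0, Int.ofNat 0, Int.ofNat 0, Int.ofNat 0, Int.ofNat 0, Int.ofNat 2, Int.ofNat 0, Int.ofNat 0, Int.ofNat 0, Int.ofNat 2, Int.ofNat 0, Int.ofNat 2, Int.ofNat 0, Int.ofNat 0, Int.ofNat 0, Int.ofNat 2, Int.ofNat 0, Int.ofNat 2, Int.ofNat 2, Int.ofNat 2, Int.ofNat 0],
  [Int.ofNat 1, Int.negSucc 0, Int.ofNat 1, Int.negSucc 0, Int.negSucc 0, Int.negSucc 0, Int.negSucc 0, Int.negSucc 0, Int.negSucc 0, Int.negSucc 0, Int.negSucc 0, Int.negSucc 2, Int.negSucc 0, Int.negSucc 0, Int.ofNat 1, Int.negSucc 0, Int.negSucc 0, Int.negSucc 0, Int.negSucc 0, Int.negSucc 0, Int.ofNat 1, Int.ofNat 1, Int.ofNat 1, Int.ofNat 1],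
  [Int.negSucc 0, Int.ofNat 1, Int.negSucc 0, Int.negSucc 0, Int.negSucc 0, Int.negSucc 0, Int.negSucc 0, Int.negSucc 0, Int.negSucc 0, Int.negSucc 0, Int.negSucc 2, Int.negSucc 0, Int.negSucc 0, Int.ofNat 1, Int.negSucc 0, Int.negSucc 0, Int.negSucc 0, Int.negSucc 0, Int.negSucc 0, Int.ofNat 1, Int.ofNat 1, Int.ofNat 1, Int.ofNat 1, Int.ofNat 1],
  [Int.ofNat 1, Int.ofNat 1, Int.ofNat 1, Int.negSucc 0, Int.negSucc 0, Int.negSucc 0, Int.negSucc 0, Int.ofNat 1, Int.negSucc 0, Int.ofNat 1, Int.ofNat 3, Int.ofNat 1, Int.negSucc 0, Int.ofNat 1, Int.negSucc 0, Int.negSucc 0, Int.negSucc 0, Int.negSucc 0, Int.ofNat 1, Int.ofNat 1, Int.ofNat 1, Int.negSucc 0, Int.ofNat 1, Int.ofNat 1],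
  [Int.negSucc 0, Int.negSucc 0, Int.negSucc 0, Int.ofNat 1, Int.ofNat 1, Int.negSucc 0, Int.ofNat 1, Int.ofNat 1, Int.ofNat 1, Int.negSucc 0, Int.ofNat 3, Int.ofNat 1, Int.ofNat 1, Int.negSucc 0, Int.negSucc 0, Int.negSucc 0, Int.ofNat 1, Int.negSucc 0, Int.negSucc 0, Int.ofNat 1, Int.ofNat 1, Int.negSucc 0, Int.ofNat 1, Int.ofNat 1],
  [Int.negSucc 0, Int.negSucc 0, Int.negSucc 0, Int.ofNat 1, Int.negSucc 0, Int.ofNat 3, Int.ofNat 1, Int.ofNat 1, Int.negSucc 0, Int.ofNat 1, Int.negSucc 0, Int.negSucc 0, Int.negSucc 0, Int.ofNat 1, Int.ofNat 1, Int.negSucc 0, Int.ofNat 1, Int.ofNat 1, Int.ofNat 1, Int.negSucc 0, Int.negSucc 0, Int.ofNat 1, Int.ofNat 1, Int.ofNat 1],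
  [Int.ofNat 1, Int.negSucc 0, Int.ofNat 1, Int.ofNat 1, Int.negSucc 0, Int.ofNat 3, Int.ofNat 1, Int.negSucc 0, Int.negSucc 0, Int.negSucc 0, Int.ofNat 1, Int.ofNat 1, Int.negSucc 0, Int.ofNat 1, Int.ofNat 1, Int.negSucc 0, Int.ofNat 1, Int.ofNat 1, Int.negSucc 0, Int.negSucc 0, Int.negSucc 0, Int.negSucc 0, Int.ofNat 1, Int.ofNat 1],
  [Int.ofNat 1, Int.ofNat 1, Int.negSucc 0, Int.ofNat 1, Int.ofNat 1, Int.negSucc 0, Int.ofNat 3, Int.ofNat 1, Int.negSucc 0, Int.negSucc 0, Int.negSucc 0, Int.ofNat 1, Int.ofNat 1, Int.negSucc 0, Int.ofNat 1, Int.ofNat 1, Int.negSucc 0, Int.ofNat 1, Int.ofNat 1, Int.negSucc 0, Int.negSucc 0, Int.negSucc 0, Int.negSucc 0, Int.ofNat 1],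
  [Int.ofNat 0, Int.ofNat 0, Int.ofNat 2, Int.ofNat 0, Int.ofNat 2, Int.negSucc 1, Int.ofNat 2, Int.ofNat 0, Int.negSucc 1, Int.ofNat 0, Int.ofNat 0, Int.ofNat 0, Int.ofNat 0, Int.ofNat 0, Int.ofNat 0, Int.ofNat 2, Int.ofNat 0, Int.ofNat 0, Int.ofNat 0, Int.negSucc 1, Int.ofNat 0, Int.negSucc 1, Int.ofNat 0, Int.ofNat 0],
  [Int.ofNat 0, Int.ofNat 2, Int.negSucc 1, Int.ofNat 2, Int.ofNat 0, Int.negSucc 1, Int.ofNat 0, Int.ofNat 0, Int.ofNat 0, Int.ofNat 0, Int.ofNat 0, Int.ofNat 0, Int.ofNat 2, Int.ofNat 0, Int.ofNat 0, Int.ofNat 0, Int.negSucc 1, Int.ofNat 0, Int.negSucc 1, Int.ofNat 0, Int.ofNat 0, Int.ofNat 0, Int.ofNat 2, Int.ofNat 0],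
  [Int.ofNat 0, Int.negSucc 1, Int.ofNat 2, Int.ofNat 2, Int.ofNat 0, Int.negSucc 1, Int.ofNat 0, Int.ofNat 0, Int.ofNat 0, Int.ofNat 0, Int.ofNat 0, Int.ofNat 0, Int.ofNat 2, Int.ofNat 0, Int.ofNat 0, Int.ofNat 0, Int.negSucc 1, Int.ofNat 0, Int.negSucc 1, Int.ofNat 0, Int.ofNat 0, Int.ofNat 0, Int.ofNat 2, Int.ofNat 0],
  [Int.ofNat 0, Int.ofNat 0, Int.ofNat 0, Int.ofNat 2, Int.negSucc 1, Int.ofNat 0, Int.ofNat 2, Int.ofNat 0, Int.ofNat 2, Int.ofNat 0, Int.ofNat 0, Int.ofNat 0, Int.ofNat 0, Int.negSucc 1, Int.ofNat 2, Int.ofNat 0, Int.ofNat 0, Int.ofNat 0, Int.negSucc 1, Int.ofNat 0, Int.ofNat 0, Int.negSucc 1, Int.ofNat 0, Int.ofNat 0],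
  [Int.ofNat 0, Int.ofNat 0, Int.ofNat 0, Int.ofNat 0, Int.ofNat 0, Int.negSucc 1, Int.ofNat 2, Int.ofNat 0, Int.ofNat 2, Int.ofNat 0, Int.ofNat 0, Int.ofNat 0, Int.ofNat 0, Int.ofNat 0, Int.ofNat 0, Int.ofNat 0, Int.ofNat 2, Int.negSucc 1, Int.negSucc 1, Int.ofNat 0, Int.ofNat 0, Int.negSucc 1, Int.ofNat 2, Int.ofNat 0],
  [Int.ofNat 0, Int.ofNat 0, Int.ofNat 0, Int.ofNat 0, Int.ofNat 0, Int.ofNat 2, Int.negSucc 1, Int.ofNat 0, Int.ofNat 2, Int.ofNat 0, Int.ofNat 0, Int.ofNat 0, Int.ofNat 0, Int.ofNat 0, Int.ofNat 0, Int.ofNat 0, Int.ofNat 2, Int.negSucc 1, Int.ofNat 2, Int.ofNat 0, Int.ofNat 0, Int.negSucc 1, Int.negSucc 1, Int.ofNat 0],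
  [Int.ofNat 0, Int.ofNat 2, Int.ofNat 0, Int.ofNat 2, Int.ofNat 0, Int.negSucc 1, Int.negSucc 1, Int.ofNat 0, Int.ofNat 2, Int.ofNat 0, Int.ofNat 0, Int.ofNat 0, Int.ofNat 0, Int.ofNat 0, Int.negSucc 1, Int.ofNat 2, Int.ofNat 0, Int.ofNat 0, Int.ofNat 0, Int.ofNat 0, Int.ofNat 0, Int.ofNat 0, Int.negSucc 1, Int.ofNat 0],
  [Int.ofNat 0, Int.negSucc 1, Int.ofNat 0, Int.ofNat 2, Int.ofNat 0, Int.ofNat 0, Int.ofNat 0, Int.ofNat 0, Int.ofNat 0, Int.negSucc 1, Int.ofNat 0, Int.ofNat 0, Int.ofNat 0, Int.ofNat 0, Int.ofNat 0, Int.ofNat 2, Int.ofNat 0, Int.ofNat 0, Int.negSucc 1, Int.negSucc 1, Int.ofNat 2, Int.ofNat 0, Int.ofNat 2, Int.ofNat 0],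
  [Int.ofNat 0, Int.negSucc 1, Int.ofNat 0, Int.ofNat 2, Int.ofNat 0, Int.ofNat 0, Int.ofNat 0, Int.ofNat 0, Int.ofNat 0, Int.ofNat 2, Int.ofNat 0, Int.ofNat 0, Int.ofNat 0, Int.ofNat 0, Int.ofNat 0, Int.ofNat 2, Int.ofNat 0, Int.ofNat 0, Int.ofNat 2, Int.negSucc 1, Int.ofNat 2, Int.ofNat 0, Int.ofNat 2, Int.ofNat 0],
  [Int.ofNat 2, Int.ofNat 0, Int.negSucc 1, Int.ofNat 0, Int.ofNat 2, Int.ofNat 0, Int.ofNat 0, Int.ofNat 0, Int.ofNat 0, Int.ofNat 0, Int.ofNat 2, Int.ofNat 0, Int.ofNat 0, Int.ofNat 0, Int.ofNat 0, Int.ofNat 0, Int.ofNat 2, Int.ofNat 0, Int.ofNat 0, Int.ofNat 2, Int.negSucc 1, Int.ofNat 2, Int.ofNat 0, Int.ofNat 0],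
  [Int.negSucc 1, Int.ofNat 0, Int.ofNat 2, Int.ofNat 0, Int.ofNat 0, Int.ofNat 0, Int.negSucc 1, Int.negSucc 1, Int.ofNat 0, Int.ofNat 0, Int.ofNat 2, Int.ofNat 0, Int.ofNat 0, Int.negSucc 1, Int.ofNat 0, Int.ofNat 0, Int.ofNat 0, Int.ofNat 0, Int.ofNat 0, Int.ofNat 0, Int.negSucc 1, Int.ofNat 0, Int.negSucc 1, Int.ofNat 0],
  [Int.ofNat 0, Int.ofNat 0, Int.ofNat 0, Int.negSucc 1, Int.negSucc 1, Int.ofNat 0, Int.ofNat 0, Int.ofNat 2, Int.ofNat 0, Int.ofNat 0, Int.negSucc 1, Int.ofNat 0, Int.ofNat 0, Int.ofNat 0, Int.ofNat 0, Int.ofNat 0, Int.ofNat 0, Int.negSucc 1, Int.ofNat 0, Int.negSucc 1, Int.negSucc 1, Int.ofNat 0, Int.ofNat 2, Int.ofNat 0],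
  [Int.ofNat 0, Int.ofNat 0, Int.ofNat 0, Int.ofNat 0, Int.negSucc 1, Int.ofNat 2, Int.ofNat 0, Int.ofNat 2, Int.ofNat 0, Int.ofNat 2, Int.ofNat 0, Int.ofNat 0, Int.ofNat 0, Int.ofNat 0, Int.ofNat 2, Int.ofNat 2, Int.ofNat 0, Int.ofNat 0, Int.ofNat 0, Int.negSucc 1, Int.ofNat 0, Int.ofNat 0, Int.ofNat 2, Int.ofNat 0],
  [Int.ofNat 0, Int.ofNat 0, Int.negSucc 1, Int.ofNat 0, Int.ofNat 0, Int.ofNat 2, Int.ofNat 0, Int.ofNat 0, Int.ofNat 0, Int.ofNat 0, Int.ofNat 0, Int.ofNat 0, Int.ofNat 2, Int.ofNat 0, Int.ofNat 2, Int.ofNat 2, Int.ofNat 0, Int.ofNat 2, Int.ofNat 0, Int.ofNat 0, Int.ofNat 0, Int.ofNat 2, Int.negSucc 1, Int.ofNat 0],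
  [Int.negSucc 0, Int.negSucc 0, Int.ofNat 1, Int.negSucc 2, Int.ofNat 1, Int.negSucc 0, Int.negSucc 0, Int.negSucc 0, Int.negSucc 0, Int.negSucc 0, Int.negSucc 0, Int.negSucc 0, Int.ofNat 1, Int.ofNat 1, Int.negSucc 0, Int.ofNat 1, Int.ofNat 1, Int.negSucc 0, Int.negSucc 0, Int.negSucc 0, Int.negSucc 0, Int.ofNat 1, Int.negSucc 0, Int.negSucc 0],
  [Int.negSucc 0, Int.negSucc 0, Int.negSucc 0, Int.negSucc 2, Int.ofNat 1, Int.ofNat 1, Int.ofNat 1, Int.negSucc 0, Int.negSucc 0, Int.ofNat 1, Int.ofNat 1, Int.negSucc 0, Int.ofNat 1, Int.ofNat 1, Int.negSucc 0, Int.negSucc 0, Int.ofNat 1, Int.negSucc 0, Int.ofNat 1, Int.negSucc 0, Int.negSucc 0, Int.ofNat 1, Int.ofNat 1, Int.negSucc 0],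
  [Int.ofNat 1, Int.negSucc 0, Int.negSucc 2, Int.ofNat 1, Int.ofNat 1, Int.negSucc 0, Int.negSucc 0, Int.ofNat 1, Int.negSucc 0, Int.ofNat 1, Int.negSucc 0, Int.ofNat 1, Int.ofNat 1, Int.negSucc 0, Int.ofNat 1, Int.ofNat 1, Int.negSucc 0, Int.negSucc 0, Int.negSucc 0, Int.negSucc 0, Int.negSucc 0, Int.ofNat 1, Int.ofNat 1, Int.negSucc 0],
  [Int.ofNat 1, Int.negSucc 0, Int.ofNat 3, Int.ofNat 1, Int.ofNat 1, Int.ofNat 1, Int.ofNat 1, Int.ofNat 1, Int.negSucc 0, Int.negSucc 0, Int.ofNat 1, Int.ofNat 1, Int.ofNat 1, Int.negSucc 0, Int.ofNat 1, Int.negSucc 0, Int.negSucc 0, Int.negSucc 0, Int.ofNat 1, Int.negSucc 0, Int.negSucc 0, Int.ofNat 1, Int.negSucc 0, Int.negSucc 0],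
  [Int.ofNat 0, Int.ofNat 2, Int.negSucc 1, Int.ofNat 0, Int.ofNat 2, Int.ofNat 0, Int.ofNat 0, Int.ofNat 0, Int.negSucc 1, Int.ofNat 0, Int.ofNat 2, Int.ofNat 0, Int.ofNat 0, Int.ofNat 0, Int.ofNat 0, Int.ofNat 0, Int.ofNat 0, Int.negSucc 1, Int.ofNat 0, Int.negSucc 1, Int.ofNat 0, Int.ofNat 0, Int.ofNat 0, Int.ofNat 2],
  [Int.ofNat 0, Int.ofNat 0, Int.ofNat 0, Int.ofNat 0, Int.negSucc 1, Int.ofNat 0, Int.ofNat 2, Int.ofNat 0, Int.ofNat 0, Int.ofNat 0, Int.ofNat 0, Int.negSucc 1, Int.negSucc 1, Int.ofNat 0, Int.negSucc 1, Int.ofNat 0, Int.ofNat 0, Int.ofNat 0, Int.ofNat 2, Int.ofNat 0, Int.ofNat 2, Int.ofNat 0, Int.ofNat 0, Int.ofNat 2],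
  [Int.ofNat 1, Int.ofNat 1, Int.ofNat 1, Int.ofNat 1, Int.negSucc 0, Int.ofNat 1, Int.ofNat 1, Int.negSucc 0, Int.ofNat 1, Int.negSucc 0, Int.negSucc 0, Int.negSucc 0, Int.negSucc 0, Int.ofNat 1, Int.negSucc 0, Int.negSucc 0, Int.ofNat 1, Int.ofNat 1, Int.ofNat 3, Int.negSucc 0, Int.ofNat 1, Int.negSucc 0, Int.ofNat 1, Int.negSucc 0],
  [Int.ofNat 1, Int.negSucc 0, Int.ofNat 1, Int.ofNat 1, Int.ofNat 1, Int.ofNat 1, Int.ofNat 1, Int.negSucc 0, Int.ofNat 1, Int.ofNat 1, Int.negSucc 0, Int.ofNat 1, Int.negSucc 0, Int.negSucc 0, Int.negSucc 0, Int.negSucc 0, Int.ofNat 1, Int.negSucc 0, Int.negSucc 0, Int.ofNat 1, Int.ofNat 1, Int.ofNat 3, Int.negSucc 0, Int.negSucc 0],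
  [Int.negSucc 0, Int.ofNat 1, Int.negSucc 0, Int.ofNat 1, Int.ofNat 1, Int.ofNat 1, Int.negSucc 0, Int.negSucc 2, Int.ofNat 1, Int.ofNat 1, Int.negSucc 0, Int.ofNat 1, Int.negSucc 0, Int.negSucc 0, Int.negSucc 0, Int.negSucc 0, Int.ofNat 1, Int.negSucc 0, Int.negSucc 0, Int.negSucc 0, Int.ofNat 1, Int.ofNat 1, Int.negSucc 0, Int.ofNat 1],
  [Int.ofNat 1, Int.negSucc 0, Int.ofNat 1, Int.ofNat 1, Int.ofNat 1, Int.negSucc 0, Int.negSucc 2, Int.ofNat 1, Int.ofNat 1, Int.negSucc 0, Int.ofNat 1, Int.negSucc 0, Int.negSucc 0, Int.negSucc 0, Int.negSucc 0, Int.ofNat 1, Int.negSucc 0, Int.negSucc 0, Int.negSucc 0, Int.ofNat 1, Int.ofNat 1, Int.negSucc 0, Int.negSucc 0, Int.ofNat 1],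
  [Int.negSucc 0, Int.negSucc 0, Int.negSucc 0, Int.ofNat 1, Int.ofNat 1, Int.negSucc 0, Int.negSucc 2, Int.negSucc 0, Int.ofNat 1, Int.ofNat 1, Int.negSucc 0, Int.ofNat 1, Int.negSucc 0, Int.negSucc 0, Int.negSucc 0, Int.ofNat 1, Int.negSucc 0, Int.negSucc 0, Int.ofNat 1, Int.ofNat 1, Int.ofNat 1, Int.ofNat 1, Int.negSucc 0, Int.ofNat 1],
  [Int.ofNat 1, Int.ofNat 1, Int.ofNat 1, Int.negSucc 0, Int.negSucc 0, Int.negSucc 0, Int.ofNat 3, Int.negSucc 0, Int.negSucc 0, Int.negSucc 0, Int.negSucc 0, Int.ofNat 1, Int.ofNat 1, Int.ofNat 1, Int.negSucc 0, Int.ofNat 1, Int.ofNat 1, Int.negSucc 0, Int.negSucc 0, Int.ofNat 1, Int.ofNat 1, Int.ofNat 1, Int.negSucc 0, Int.ofNat 1],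
  [Int.ofNat 1, Int.ofNat 1, Int.negSucc 0, Int.negSucc 0, Int.ofNat 1, Int.negSucc 0, Int.negSucc 0, Int.ofNat 1, Int.negSucc 0, Int.ofNat 1, Int.ofNat 1, Int.negSucc 0, Int.ofNat 1, Int.negSucc 0, Int.ofNat 1, Int.ofNat 1, Int.ofNat 1, Int.negSucc 0, Int.ofNat 3, Int.negSucc 0, Int.negSucc 0, Int.negSucc 0, Int.ofNat 1, Int.ofNat 1],
  [Int.negSucc 0, Int.ofNat 1, Int.ofNat 1, Int.negSucc 0, Int.ofNat 1, Int.negSucc 0, Int.negSucc 0, Int.negSucc 0, Int.negSucc 0, Int.negSucc 0, Int.negSucc 0, Int.ofNat 1, Int.ofNat 1, Int.negSucc 0, Int.ofNat 1, Int.ofNat 1, Int.ofNat 1, Int.negSucc 0, Int.negSucc 2, Int.negSucc 0, Int.negSucc 0, Int.ofNat 1, Int.ofNat 1, Int.ofNat 1],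
  [Int.ofNat 1, Int.negSucc 0, Int.ofNat 1, Int.ofNat 1, Int.negSucc 0, Int.ofNat 1, Int.negSucc 0, Int.negSucc 0, Int.negSucc 0, Int.negSucc 0, Int.negSucc 0, Int.negSucc 0, Int.ofNat 1, Int.ofNat 1, Int.negSucc 0, Int.ofNat 1, Int.ofNat 1, Int.ofNat 1, Int.negSucc 0, Int.negSucc 2, Int.negSucc 0, Int.negSucc 0, Int.ofNat 1, Int.ofNat 1],
  [Int.ofNat 0, Int.ofNat 2, Int.ofNat 0, Int.ofNat 0, Int.negSucc 1, Int.ofNat 0, Int.ofNat 2, Int.ofNat 2, Int.ofNat 0, Int.ofNat 0, Int.ofNat 0, Int.ofNat 0, Int.ofNat 2, Int.ofNat 0, Int.negSucc 1, Int.ofNat 2, Int.ofNat 0, Int.ofNat 0, Int.ofNat 0, Int.ofNat 0, Int.ofNat 0, Int.ofNat 2, Int.ofNat 0, Int.ofNat 0],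
  [Int.ofNat 0, Int.negSucc 1, Int.ofNat 0, Int.ofNat 2, Int.ofNat 2, Int.ofNat 0, Int.ofNat 0, Int.ofNat 0, Int.ofNat 0, Int.ofNat 2, Int.ofNat 0, Int.negSucc 1, Int.ofNat 2, Int.ofNat 0, Int.ofNat 0, Int.ofNat 0, Int.ofNat 0, Int.ofNat 0, Int.ofNat 2, Int.ofNat 0, Int.ofNat 0, Int.ofNat 2, Int.ofNat 0, Int.ofNat 0],
  [Int.negSucc 0, Int.ofNat 1, Int.negSucc 0, Int.ofNat 1, Int.ofNat 1, Int.negSucc 0, Int.negSucc 0, Int.negSucc 0, Int.negSucc 0, Int.ofNat 1, Int.negSucc 0, Int.negSucc 2, Int.ofNat 1, Int.negSucc 0, Int.negSucc 0, Int.negSucc 0, Int.negSucc 0, Int.negSucc 0, Int.ofNat 1, Int.negSucc 0, Int.negSucc 0, Int.ofNat 1, Int.negSucc 0, Int.negSucc 0],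
  [Int.negSucc 0, Int.negSucc 0, Int.ofNat 1, Int.ofNat 1, Int.ofNat 1, Int.negSucc 0, Int.negSucc 0, Int.negSucc 0, Int.ofNat 1, Int.negSucc 0, Int.negSucc 0, Int.negSucc 0, Int.ofNat 1, Int.negSucc 0, Int.negSucc 0, Int.negSucc 0, Int.negSucc 0, Int.negSucc 0, Int.ofNat 1, Int.negSucc 2, Int.ofNat 1, Int.negSucc 0, Int.negSucc 0, Int.negSucc 0],
  [Int.ofNat 0, Int.ofNat 0, Int.negSucc 1, Int.ofNat 2, Int.ofNat 2, Int.ofNat 0, Int.ofNat 2, Int.ofNat 2, Int.ofNat 0, Int.ofNat 0, Int.ofNat 0, Int.negSucc 1, Int.ofNat 0, Int.ofNat 0, Int.ofNat 0, Int.ofNat 0, Int.ofNat 0, Int.ofNat 0, Int.ofNat 0, Int.ofNat 0, Int.ofNat 2, Int.ofNat 2, Int.ofNat 0, Int.ofNat 0],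
  [Int.ofNat 0, Int.ofNat 0, Int.ofNat 2, Int.ofNat 2, Int.ofNat 2, Int.ofNat 0, Int.negSucc 1, Int.ofNat 2, Int.ofNat 0, Int.ofNat 0, Int.ofNat 0, Int.negSucc 1, Int.ofNat 0, Int.ofNat 0, Int.ofNat 0, Int.ofNat 0, Int.ofNat 0, Int.ofNat 0, Int.ofNat 0, Int.ofNat 0, Int.ofNat 2, Int.ofNat 2, Int.ofNat 0, Int.ofNat 0],
  [Int.ofNat 0, Int.ofNat 0, Int.negSucc 1, Int.ofNat 0, Int.ofNat 0, Int.negSucc 1, Int.ofNat 2, Int.ofNat 2, Int.ofNat 0, Int.ofNat 2, Int.ofNat 0, Int.ofNat 2, Int.ofNat 0, Int.ofNat 2, Int.ofNat 0, Int.ofNat 0, Int.ofNat 0, Int.ofNat 0, Int.ofNat 0, Int.ofNat 2, Int.ofNat 0, Int.ofNat 0, Int.ofNat 0, Int.ofNat 0],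
  [Int.ofNat 0, Int.ofNat 0, Int.ofNat 2, Int.ofNat 0, Int.ofNat 0, Int.ofNat 2, Int.ofNat 2, Int.ofNat 2, Int.ofNat 0, Int.negSucc 1, Int.ofNat 0, Int.negSucc 1, Int.ofNat 0, Int.ofNat 2, Int.ofNat 0, Int.ofNat 0, Int.ofNat 0, Int.ofNat 0, Int.ofNat 0, Int.ofNat 2, Int.ofNat 0, Int.ofNat 0, Int.ofNat 0, Int.ofNat 0],
  [Int.ofNat 0, Int.ofNat 0, Int.negSucc 1, Int.ofNat 0, Int.ofNat 0, Int.ofNat 2, Int.ofNat 2, Int.negSucc 1, Int.ofNat 0, Int.ofNat 2, Int.ofNat 0, Int.ofNat 2, Int.ofNat 0, Int.ofNat 2, Int.ofNat 0, Int.ofNat 0, Int.ofNat 0, Int.ofNat 0, Int.ofNat 0, Int.ofNat 2, Int.ofNat 0, Int.ofNat 0, Int.ofNat 0, Int.ofNat 0],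
  [Int.ofNat 0, Int.ofNat 0, Int.ofNat 0, Int.negSucc 1, Int.ofNat 0, Int.ofNat 0, Int.ofNat 2, Int.ofNat 2, Int.negSucc 1, Int.ofNat 0, Int.ofNat 2, Int.ofNat 0, Int.ofNat 2, Int.ofNat 0, Int.ofNat 2, Int.ofNat 0, Int.ofNat 0, Int.ofNat 0, Int.ofNat 0, Int.ofNat 0, Int.ofNat 2, Int.ofNat 0, Int.ofNat 0, Int.ofNat 0],
  [Int.ofNat 0, Int.ofNat 0, Int.ofNat 0, Int.negSucc 1, Int.ofNat 0, Int.ofNat 0, Int.ofNat 0, Int.ofNat 0, Int.negSucc 1, Int.negSucc 1, Int.ofNat 0, Int.ofNat 0, Int.ofNat 2, Int.ofNat 0, Int.ofNat 2, Int.negSucc 1, Int.ofNat 0, Int.ofNat 0, Int.ofNat 0, Int.negSucc 1, Int.ofNat 0, Int.negSucc 1, Int.ofNat 0, Int.ofNat 0],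
  [Int.negSucc 1, Int.ofNat 0, Int.ofNat 0, Int.ofNat 0, Int.ofNat 0, Int.negSucc 1, Int.negSucc 1, Int.ofNat 0, Int.ofNat 0, Int.ofNat 2, Int.ofNat 0, Int.ofNat 2, Int.negSucc 1, Int.ofNat 0, Int.ofNat 0, Int.ofNat 0, Int.negSucc 1, Int.ofNat 0, Int.negSucc 1, Int.ofNat 0, Int.ofNat 0, Int.ofNat 0, Int.ofNat 0, Int.ofNat 0],
  [Int.ofNat 1, Int.negSucc 0, Int.negSucc 0, Int.ofNat 1, Int.ofNat 1, Int.negSucc 0, Int.negSucc 0, Int.ofNat 1, Int.ofNat 1, Int.ofNat 1, Int.negSucc 0, Int.ofNat 3, Int.negSucc 0, Int.ofNat 1, Int.ofNat 1, Int.negSucc 0, Int.negSucc 0, Int.ofNat 1, Int.negSucc 0, Int.ofNat 1, Int.negSucc 0, Int.ofNat 1, Int.ofNat 1, Int.negSucc 0],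
  [Int.ofNat 1, Int.negSucc 0, Int.ofNat 1, Int.ofNat 1, Int.negSucc 0, Int.ofNat 1, Int.negSucc 0, Int.negSucc 0, Int.negSucc 0, Int.ofNat 1, Int.negSucc 0, Int.ofNat 1, Int.ofNat 1, Int.negSucc 0, Int.ofNat 1, Int.negSucc 0, Int.ofNat 1, Int.ofNat 1, Int.negSucc 0, Int.ofNat 3, Int.ofNat 1, Int.negSucc 0, Int.ofNat 1, Int.negSucc 0],
  [Int.negSucc 0, Int.ofNat 1, Int.negSucc 0, Int.negSucc 0, Int.negSucc 0, Int.negSucc 0, Int.negSucc 0, Int.negSucc 0, Int.negSucc 0, Int.ofNat 1, Int.negSucc 0, Int.ofNat 1, Int.ofNat 1, Int.negSucc 0, Int.negSucc 0, Int.negSucc 0, Int.ofNat 1, Int.negSucc 0, Int.negSucc 0, Int.ofNat 3, Int.ofNat 1, Int.negSucc 0, Int.ofNat 1, Int.ofNat 1],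
  [Int.negSucc 0, Int.ofNat 1, Int.ofNat 1, Int.negSucc 0, Int.negSucc 0, Int.ofNat 1, Int.ofNat 1, Int.negSucc 0, Int.negSucc 0, Int.negSucc 0, Int.ofNat 1, Int.ofNat 1, Int.ofNat 1, Int.negSucc 0, Int.negSucc 0, Int.ofNat 1, Int.ofNat 1, Int.negSucc 0, Int.ofNat 1, Int.ofNat 3, Int.ofNat 1, Int.negSucc 0, Int.negSucc 0, Int.ofNat 1],
  [Int.ofNat 1, Int.ofNat 1, Int.negSucc 0, Int.negSucc 0, Int.ofNat 1, Int.ofNat 1, Int.ofNat 3, Int.negSucc 0, Int.negSucc 0, Int.negSucc 0, Int.negSucc 0, Int.negSucc 0, Int.ofNat 1, Int.ofNat 1, Int.ofNat 1, Int.ofNat 1, Int.ofNat 1, Int.ofNat 1, Int.negSucc 0, Int.negSucc 0, Int.negSucc 0, Int.ofNat 1, Int.negSucc 0, Int.ofNat 1],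
  [Int.ofNat 1, Int.ofNat 1, Int.ofNat 1, Int.negSucc 0, Int.ofNat 1, Int.negSucc 0, Int.negSucc 2, Int.negSucc 0, Int.negSucc 0, Int.ofNat 1, Int.ofNat 1, Int.negSucc 0, Int.ofNat 1, Int.ofNat 1, Int.ofNat 1, Int.negSucc 0, Int.ofNat 1, Int.ofNat 1, Int.ofNat 1, Int.negSucc 0, Int.negSucc 0, Int.ofNat 1, Int.ofNat 1, Int.ofNat 1],
  [Int.ofNat 1, Int.ofNat 1, Int.ofNat 1, Int.negSucc 0, Int.negSucc 0, Int.negSucc 0, Int.negSucc 0, Int.ofNat 1, Int.negSucc 0, Int.ofNat 1, Int.ofNat 1, Int.negSucc 0, Int.ofNat 1, Int.negSucc 0, Int.ofNat 1, Int.negSucc 0, Int.negSucc 0, Int.ofNat 1, Int.ofNat 1, Int.ofNat 1, Int.negSucc 0, Int.ofNat 3, Int.negSucc 0, Int.ofNat 1],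
  [Int.ofNat 1, Int.ofNat 1, Int.negSucc 0, Int.negSucc 0, Int.ofNat 1, Int.ofNat 3, Int.ofNat 1, Int.negSucc 0, Int.negSucc 0, Int.ofNat 1, Int.ofNat 1, Int.ofNat 1, Int.negSucc 0, Int.ofNat 1, Int.ofNat 1, Int.negSucc 0, Int.negSucc 0, Int.negSucc 0, Int.negSucc 0, Int.negSucc 0, Int.ofNat 1, Int.negSucc 0, Int.ofNat 1, Int.ofNat 1],
  [Int.ofNat 0, Int.ofNat 0, Int.ofNat 2, Int.negSucc 1, Int.ofNat 0, Int.ofNat 2, Int.ofNat 2, Int.ofNat 0, Int.ofNat 0, Int.ofNat 0, Int.ofNat 0, Int.ofNat 2, Int.ofNat 0, Int.ofNat 0, Int.ofNat 0, Int.negSucc 1, Int.negSucc 1, Int.negSucc 1, Int.ofNat 0, Int.ofNat 0, Int.ofNat 0, Int.ofNat 0, Int.ofNat 0, Int.ofNat 0],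
  [Int.ofNat 0, Int.ofNat 0, Int.ofNat 0, Int.ofNat 0, Int.ofNat 0, Int.ofNat 2, Int.negSucc 1, Int.ofNat 0, Int.ofNat 2, Int.ofNat 2, Int.ofNat 0, Int.ofNat 0, Int.ofNat 0, Int.ofNat 0, Int.ofNat 2, Int.ofNat 0, Int.ofNat 0, Int.ofNat 0, Int.negSucc 1, Int.negSucc 1, Int.negSucc 1, Int.ofNat 0, Int.ofNat 0, Int.ofNat 0],
  [Int.ofNat 0, Int.ofNat 0, Int.ofNat 0, Int.negSucc 1, Int.ofNat 0, Int.ofNat 0, Int.ofNat 0, Int.ofNat 2, Int.ofNat 2, Int.ofNat 2, Int.ofNat 0, Int.ofNat 0, Int.ofNat 0, Int.ofNat 0, Int.ofNat 0, Int.ofNat 0, Int.ofNat 0, Int.negSucc 1, Int.negSucc 1, Int.ofNat 0, Int.negSucc 1, Int.ofNat 2, Int.ofNat 0, Int.ofNat 0],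
  [Int.ofNat 0, Int.ofNat 0, Int.negSucc 1, Int.ofNat 0, Int.ofNat 0, Int.ofNat 0, Int.ofNat 2, Int.ofNat 2, Int.ofNat 2, Int.ofNat 0, Int.ofNat 0, Int.ofNat 0, Int.ofNat 0, Int.ofNat 0, Int.ofNat 0, Int.ofNat 0, Int.negSucc 1, Int.negSucc 1, Int.ofNat 0, Int.negSucc 1, Int.ofNat 2, Int.ofNat 0, Int.ofNat 0, Int.ofNat 0],
  [Int.ofNat 0, Int.ofNat 0, Int.ofNat 2, Int.ofNat 0, Int.ofNat 0, Int.ofNat 0, Int.ofNat 2, Int.negSucc 1, Int.ofNat 2, Int.ofNat 0, Int.ofNat 0, Int.ofNat 0, Int.ofNat 0, Int.ofNat 0, Int.ofNat 0, Int.ofNat 0, Int.negSucc 1, Int.negSucc 1, Int.ofNat 0, Int.negSucc 1, Int.ofNat 2, Int.ofNat 0, Int.ofNat 0, Int.ofNat 0],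
  [Int.ofNat 0, Int.ofNat 0, Int.negSucc 1, Int.ofNat 0, Int.ofNat 0, Int.ofNat 0, Int.negSucc 1, Int.negSucc 1, Int.negSucc 1, Int.ofNat 0, Int.ofNat 0, Int.ofNat 0, Int.ofNat 0, Int.ofNat 0, Int.ofNat 0, Int.ofNat 0, Int.ofNat 2, Int.negSucc 1, Int.ofNat 0, Int.negSucc 1, Int.ofNat 2, Int.ofNat 0, Int.ofNat 0, Int.ofNat 0],
  [Int.ofNat 0, Int.negSucc 1, Int.ofNat 0, Int.ofNat 0, Int.ofNat 0, Int.ofNat 0, Int.ofNat 0, Int.ofNat 2, Int.ofNat 0, Int.ofNat 2, Int.ofNat 0, Int.ofNat 0, Int.ofNat 0, Int.negSucc 1, Int.negSucc 1, Int.ofNat 0, Int.ofNat 0, Int.ofNat 0, Int.negSucc 1, Int.negSucc 1, Int.ofNat 0, Int.negSucc 1, Int.ofNat 0, Int.ofNat 0],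
  [Int.ofNat 0, Int.negSucc 1, Int.ofNat 0, Int.ofNat 0, Int.ofNat 0, Int.ofNat 0, Int.ofNat 0, Int.negSucc 1, Int.ofNat 0, Int.negSucc 1, Int.ofNat 0, Int.ofNat 0, Int.ofNat 0, Int.negSucc 1, Int.negSucc 1, Int.ofNat 0, Int.ofNat 0, Int.ofNat 0, Int.ofNat 2, Int.negSucc 1, Int.ofNat 0, Int.ofNat 2, Int.ofNat 0, Int.ofNat 0],
  [Int.ofNat 0, Int.ofNat 0, Int.negSucc 1, Int.ofNat 0, Int.ofNat 0, Int.ofNat 0, Int.ofNat 0, Int.ofNat 0, Int.negSucc 1, Int.ofNat 0, Int.negSucc 1, Int.ofNat 0, Int.ofNat 0, Int.ofNat 0, Int.negSucc 1, Int.negSucc 1, Int.ofNat 0, Int.ofNat 0, Int.ofNat 0, Int.ofNat 2, Int.negSucc 1, Int.ofNat 0, Int.ofNat 2, Int.ofNat 0],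
  [Int.negSucc 0, Int.negSucc 0, Int.ofNat 1, Int.ofNat 1, Int.negSucc 0, Int.ofNat 1, Int.negSucc 0, Int.negSucc 0, Int.negSucc 0, Int.ofNat 3, Int.ofNat 1, Int.ofNat 1, Int.ofNat 1, Int.negSucc 0, Int.negSucc 0, Int.ofNat 1, Int.negSucc 0, Int.ofNat 1, Int.ofNat 1, Int.ofNat 1, Int.ofNat 1, Int.negSucc 0, Int.ofNat 1, Int.negSucc 0],
  [Int.ofNat 1, Int.negSucc 0, Int.ofNat 1, Int.negSucc 0, Int.negSucc 0, Int.negSucc 0, Int.ofNat 3, Int.ofNat 1, Int.ofNat 1, Int.ofNat 1, Int.negSucc 0, Int.negSucc 0, Int.ofNat 1, Int.negSucc 0, Int.ofNat 1, Int.ofNat 1, Int.ofNat 1, Int.ofNat 1, Int.negSucc 0, Int.ofNat 1, Int.negSucc 0, Int.negSucc 0, Int.ofNat 1, Int.negSucc 0],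
  [Int.negSucc 0, Int.ofNat 1, Int.negSucc 0, Int.negSucc 0, Int.negSucc 0, Int.negSucc 0, Int.ofNat 1, Int.negSucc 0, Int.ofNat 1, Int.ofNat 1, Int.negSucc 0, Int.negSucc 0, Int.ofNat 1, Int.negSucc 0, Int.ofNat 1, Int.ofNat 1, Int.ofNat 1, Int.ofNat 1, Int.negSucc 0, Int.negSucc 0, Int.negSucc 0, Int.negSucc 2, Int.ofNat 1, Int.ofNat 1],
  [Int.negSucc 0, Int.ofNat 1, Int.negSucc 0, Int.negSucc 0, Int.negSucc 0, Int.negSucc 0, Int.negSucc 0, Int.negSucc 0, Int.ofNat 1, Int.negSucc 0, Int.negSucc 0, Int.ofNat 1, Int.ofNat 1, Int.ofNat 1, Int.ofNat 1, Int.ofNat 1, Int.ofNat 1, Int.ofNat 1, Int.ofNat 1, Int.negSucc 0, Int.negSucc 2, Int.negSucc 0, Int.negSucc 0, Int.ofNat 1],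
  [Int.ofNat 1, Int.negSucc 0, Int.ofNat 1, Int.negSucc 0, Int.negSucc 0, Int.negSucc 0, Int.ofNat 1, Int.ofNat 1, Int.negSucc 0, Int.ofNat 1, Int.ofNat 1, Int.negSucc 0, Int.negSucc 0, Int.ofNat 1, Int.ofNat 1, Int.ofNat 3, Int.ofNat 1, Int.ofNat 1, Int.negSucc 0, Int.ofNat 1, Int.negSucc 0, Int.ofNat 1, Int.negSucc 0, Int.negSucc 0],
  [Int.ofNat 1, Int.negSucc 0, Int.negSucc 0, Int.negSucc 0, Int.negSucc 0, Int.ofNat 1, Int.negSucc 0, Int.ofNat 1, Int.negSucc 0, Int.negSucc 0, Int.negSucc 0, Int.negSucc 0, Int.negSucc 0, Int.ofNat 1, Int.ofNat 1, Int.negSucc 2, Int.ofNat 1, Int.ofNat 1, Int.ofNat 1, Int.ofNat 1, Int.negSucc 0, Int.ofNat 1, Int.ofNat 1, Int.negSucc 0],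
  [Int.negSucc 0, Int.ofNat 1, Int.negSucc 0, Int.negSucc 0, Int.ofNat 1, Int.negSucc 0, Int.ofNat 1, Int.negSucc 0, Int.ofNat 1, Int.negSucc 0, Int.ofNat 1, Int.ofNat 1, Int.negSucc 2, Int.negSucc 0, Int.ofNat 1, Int.ofNat 1, Int.ofNat 1, Int.negSucc 0, Int.negSucc 0, Int.negSucc 0, Int.ofNat 1, Int.negSucc 0, Int.ofNat 1, Int.negSucc 0],
  [Int.negSucc 0, Int.ofNat 1, Int.ofNat 1, Int.ofNat 1, Int.negSucc 0, Int.negSucc 0, Int.negSucc 0, Int.negSucc 0, Int.ofNat 1, Int.negSucc 0, Int.ofNat 1, Int.negSucc 0, Int.negSucc 0, Int.negSucc 0, Int.negSucc 0, Int.negSucc 0, Int.ofNat 1, Int.ofNat 1, Int.ofNat 1, Int.ofNat 1, Int.ofNat 1, Int.negSucc 2, Int.ofNat 1, Int.negSucc 0],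
  [Int.ofNat 1, Int.ofNat 1, Int.negSucc 0, Int.ofNat 1, Int.negSucc 0, Int.negSucc 0, Int.negSucc 0, Int.ofNat 1, Int.ofNat 1, Int.ofNat 1, Int.negSucc 0, Int.ofNat 1, Int.negSucc 0, Int.negSucc 0, Int.negSucc 0, Int.negSucc 0, Int.ofNat 1, Int.ofNat 1, Int.negSucc 0, Int.ofNat 1, Int.ofNat 1, Int.ofNat 3, Int.ofNat 1, Int.negSucc 0],
  [Int.ofNat 1, Int.ofNat 1, Int.ofNat 1, Int.negSucc 0, Int.ofNat 1, Int.negSucc 0, Int.negSucc 0, Int.negSucc 0, Int.ofNat 1, Int.ofNat 1, Int.ofNat 1, Int.negSucc 0, Int.ofNat 1, Int.negSucc 0, Int.negSucc 0, Int.negSucc 0, Int.negSucc 0, Int.ofNat 1, Int.ofNat 1, Int.negSucc 0, Int.ofNat 1, Int.ofNat 1, Int.ofNat 3, Int.negSucc 0],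
  [Int.ofNat 0, Int.ofNat 0, Int.ofNat 0, Int.ofNat 0, Int.ofNat 0, Int.ofNat 0, Int.ofNat 0, Int.ofNat 0, Int.ofNat 0, Int.ofNat 0, Int.ofNat 0, Int.negSucc 1, Int.ofNat 0, Int.negSucc 1, Int.ofNat 0, Int.negSucc 1, Int.negSucc 1, Int.ofNat 2, Int.ofNat 0, Int.ofNat 0, Int.ofNat 0, Int.ofNat 2, Int.ofNat 2, Int.ofNat 2],
  [Int.ofNat 0, Int.ofNat 0, Int.ofNat 0, Int.ofNat 0, Int.ofNat 0, Int.ofNat 0, Int.ofNat 0, Int.ofNat 0, Int.negSucc 1, Int.ofNat 0, Int.negSucc 1, Int.ofNat 0, Int.negSucc 1, Int.negSucc 1, Int.ofNat 2, Int.ofNat 0, Int.ofNat 0, Int.ofNat 0, Int.ofNat 2, Int.ofNat 2, Int.ofNat 0, Int.ofNat 0, Int.ofNat 0, Int.ofNat 2],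
  [Int.ofNat 1, Int.ofNat 1, Int.ofNat 1, Int.negSucc 0, Int.ofNat 1, Int.negSucc 0, Int.negSucc 0, Int.negSucc 0, Int.negSucc 0, Int.ofNat 1, Int.negSucc 0, Int.ofNat 1, Int.negSucc 0, Int.negSucc 0, Int.ofNat 1, Int.ofNat 1, Int.ofNat 1, Int.negSucc 0, Int.ofNat 3, Int.ofNat 1, Int.ofNat 1, Int.negSucc 0, Int.ofNat 1, Int.negSucc 0],
  [Int.ofNat 1, Int.negSucc 0, Int.ofNat 1, Int.negSucc 0, Int.ofNat 3, Int.negSucc 0, Int.ofNat 1, Int.negSucc 0, Int.negSucc 0, Int.negSucc 0, Int.ofNat 1, Int.negSucc 0, Int.ofNat 1, Int.ofNat 1, Int.ofNat 1, Int.ofNat 1, Int.negSucc 0, Int.ofNat 1, Int.ofNat 1, Int.ofNat 1, Int.negSucc 0, Int.negSucc 0, Int.ofNat 1, Int.negSucc 0],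
  [Int.negSucc 0, Int.ofNat 1, Int.negSucc 0, Int.negSucc 0, Int.ofNat 1, Int.negSucc 0, Int.ofNat 1, Int.negSucc 0, Int.negSucc 0, Int.negSucc 0, Int.ofNat 1, Int.negSucc 0, Int.ofNat 1, Int.negSucc 0, Int.ofNat 1, Int.ofNat 1, Int.negSucc 2, Int.ofNat 1, Int.ofNat 1, Int.ofNat 1, Int.negSucc 0, Int.negSucc 0, Int.negSucc 0, Int.ofNat 1],
  [Int.negSucc 0, Int.ofNat 1, Int.ofNat 1, Int.negSucc 0, Int.ofNat 1, Int.ofNat 1, Int.negSucc 0, Int.negSucc 0, Int.negSucc 0, Int.ofNat 1, Int.negSucc 0, Int.negSucc 0, Int.ofNat 1, Int.negSucc 0, Int.ofNat 1, Int.negSucc 0, Int.negSucc 2, Int.ofNat 1, Int.negSucc 0, Int.ofNat 1, Int.negSucc 0, Int.negSucc 0, Int.ofNat 1, Int.ofNat 1],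
  [Int.ofNat 1, Int.negSucc 0, Int.negSucc 0, Int.ofNat 1, Int.negSucc 2, Int.ofNat 1, Int.ofNat 1, Int.ofNat 1, Int.ofNat 1, Int.negSucc 0, Int.negSucc 0, Int.ofNat 1, Int.negSucc 0, Int.ofNat 1, Int.negSucc 0, Int.negSucc 0, Int.negSucc 0, Int.negSucc 0, Int.negSucc 0, Int.ofNat 1, Int.negSucc 0, Int.ofNat 1, Int.negSucc 0, Int.ofNat 1],
  [Int.ofNat 1, Int.negSucc 0, Int.ofNat 1, Int.ofNat 1, Int.negSucc 2, Int.negSucc 0, Int.negSucc 0, Int.ofNat 1, Int.ofNat 1, Int.ofNat 1, Int.ofNat 1, Int.ofNat 1, Int.negSucc 0, Int.ofNat 1, Int.negSucc 0, Int.ofNat 1, Int.negSucc 0, Int.negSucc 0, Int.ofNat 1, Int.ofNat 1, Int.negSucc 0, Int.ofNat 1, Int.ofNat 1, Int.ofNat 1],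
  [Int.ofNat 0, Int.ofNat 2, Int.ofNat 0, Int.ofNat 2, Int.negSucc 1, Int.ofNat 0, Int.negSucc 1, Int.ofNat 0, Int.ofNat 0, Int.ofNat 0, Int.ofNat 0, Int.ofNat 0, Int.negSucc 1, Int.ofNat 2, Int.ofNat 0, Int.ofNat 0, Int.ofNat 0, Int.ofNat 0, Int.ofNat 0, Int.ofNat 0, Int.negSucc 1, Int.ofNat 0, Int.ofNat 2, Int.ofNat 0],
  [Int.ofNat 0, Int.ofNat 0, Int.negSucc 1, Int.ofNat 2, Int.ofNat 0, Int.ofNat 0, Int.ofNat 2, Int.ofNat 0, Int.ofNat 0, Int.negSucc 1, Int.ofNat 0, Int.ofNat 0, Int.ofNat 0, Int.ofNat 0, Int.ofNat 0, Int.ofNat 0, Int.ofNat 2, Int.ofNat 0, Int.negSucc 1, Int.ofNat 2, Int.ofNat 0, Int.negSucc 1, Int.ofNat 0, Int.ofNat 0],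
  [Int.negSucc 0, Int.negSucc 0, Int.ofNat 1, Int.ofNat 1, Int.negSucc 0, Int.negSucc 0, Int.ofNat 1, Int.negSucc 0, Int.ofNat 1, Int.negSucc 0, Int.ofNat 1, Int.ofNat 1, Int.ofNat 1, Int.negSucc 0, Int.negSucc 0, Int.ofNat 1, Int.ofNat 1, Int.negSucc 0, Int.negSucc 0, Int.ofNat 1, Int.ofNat 1, Int.negSucc 2, Int.negSucc 0, Int.negSucc 0],
  [Int.ofNat 1, Int.negSucc 2, Int.negSucc 0, Int.negSucc 0, Int.negSucc 0, Int.ofNat 1, Int.ofNat 1, Int.negSucc 0, Int.negSucc 0, Int.ofNat 1, Int.negSucc 0, Int.ofNat 1, Int.negSucc 0, Int.ofNat 1, Int.ofNat 1, Int.ofNat 1, Int.negSucc 0, Int.negSucc 0, Int.ofNat 1, Int.ofNat 1, Int.negSucc 0, Int.negSucc 0, Int.ofNat 1, Int.negSucc 0],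
  [Int.negSucc 2, Int.ofNat 1, Int.negSucc 0, Int.negSucc 0, Int.negSucc 0, Int.ofNat 1, Int.ofNat 1, Int.negSucc 0, Int.negSucc 0, Int.ofNat 1, Int.negSucc 0, Int.ofNat 1, Int.negSucc 0, Int.ofNat 1, Int.ofNat 1, Int.ofNat 1, Int.negSucc 0, Int.negSucc 0, Int.ofNat 1, Int.ofNat 1, Int.negSucc 0, Int.negSucc 0, Int.ofNat 1, Int.negSucc 0],
  [Int.ofNat 1, Int.negSucc 0, Int.negSucc 0, Int.negSucc 0, Int.ofNat 1, Int.ofNat 1, Int.negSucc 0, Int.negSucc 0, Int.ofNat 1, Int.negSucc 0, Int.ofNat 1, Int.negSucc 0, Int.ofNat 1, Int.ofNat 1, Int.ofNat 1, Int.negSucc 0, Int.negSucc 0, Int.ofNat 1, Int.ofNat 1, Int.negSucc 0, Int.negSucc 0, Int.ofNat 1, Int.negSucc 2, Int.negSucc 0],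
  [Int.negSucc 0, Int.negSucc 0, Int.ofNat 1, Int.negSucc 0, Int.ofNat 1, Int.ofNat 1, Int.negSucc 0, Int.ofNat 1, Int.ofNat 1, Int.ofNat 1, Int.negSucc 0, Int.ofNat 1, Int.ofNat 1, Int.ofNat 1, Int.ofNat 1, Int.negSucc 0, Int.negSucc 0, Int.ofNat 1, Int.negSucc 0, Int.negSucc 0, Int.negSucc 0, Int.negSucc 0, Int.negSucc 2, Int.negSucc 0],
  [Int.ofNat 1, Int.ofNat 1, Int.negSucc 0, Int.ofNat 1, Int.negSucc 0, Int.ofNat 1, Int.ofNat 1, Int.ofNat 1, Int.negSucc 0, Int.negSucc 0, Int.negSucc 0, Int.ofNat 1, Int.negSucc 0, Int.negSucc 0, Int.ofNat 1, Int.negSucc 0, Int.ofNat 1, Int.ofNat 1, Int.ofNat 1, Int.negSucc 0, Int.negSucc 0, Int.negSucc 0, Int.negSucc 2, Int.negSucc 0],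
  [Int.ofNat 1, Int.negSucc 0, Int.ofNat 1, Int.ofNat 1, Int.ofNat 1, Int.negSucc 0, Int.negSucc 0, Int.negSucc 0, Int.negSucc 0, Int.ofNat 1, Int.negSucc 0, Int.ofNat 1, Int.negSucc 0, Int.negSucc 0, Int.negSucc 0, Int.negSucc 0, Int.negSucc 0, Int.negSucc 2, Int.ofNat 1, Int.ofNat 1, Int.ofNat 1, Int.ofNat 1, Int.ofNat 1, Int.negSucc 0],
  [Int.negSucc 0, Int.negSucc 0, Int.negSucc 0, Int.ofNat 1, Int.ofNat 1, Int.negSucc 0, Int.negSucc 0, Int.ofNat 1, Int.negSucc 0, Int.negSucc 0, Int.ofNat 1, Int.negSucc 0, Int.negSucc 0, Int.negSucc 0, Int.negSucc 0, Int.negSucc 0, Int.negSucc 0, Int.negSucc 2, Int.negSucc 0, Int.ofNat 1, Int.ofNat 1, Int.negSucc 0, Int.ofNat 1, Int.negSucc 0],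
  [Int.ofNat 1, Int.negSucc 0, Int.negSucc 0, Int.negSucc 0, Int.ofNat 1, Int.ofNat 1, Int.negSucc 0, Int.negSucc 0, Int.ofNat 1, Int.negSucc 0, Int.negSucc 0, Int.ofNat 1, Int.negSucc 0, Int.negSucc 0, Int.negSucc 0, Int.negSucc 0, Int.negSucc 0, Int.negSucc 0, Int.negSucc 2, Int.negSucc 0, Int.ofNat 1, Int.ofNat 1, Int.negSucc 0, Int.negSucc 0],
  [Int.negSucc 1, Int.ofNat 0, Int.ofNat 0, Int.ofNat 0, Int.ofNat 2, Int.ofNat 2, Int.ofNat 0, Int.ofNat 0, Int.ofNat 2, Int.ofNat 0, Int.ofNat 0, Int.ofNat 2, Int.ofNat 0, Int.ofNat 0, Int.ofNat 0, Int.ofNat 0, Int.ofNat 0, Int.ofNat 0, Int.negSucc 1, Int.ofNat 0, Int.ofNat 2, Int.ofNat 2, Int.ofNat 0, Int.ofNat 0],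
  [Int.ofNat 0, Int.ofNat 2, Int.ofNat 2, Int.ofNat 0, Int.ofNat 0, Int.ofNat 2, Int.ofNat 0, Int.ofNat 0, Int.ofNat 2, Int.ofNat 0, Int.ofNat 0, Int.ofNat 0, Int.ofNat 0, Int.ofNat 0, Int.ofNat 0, Int.negSucc 1, Int.ofNat 0, Int.ofNat 2, Int.ofNat 2, Int.ofNat 0, Int.negSucc 1, Int.ofNat 0, Int.ofNat 0, Int.ofNat 0],
  [Int.ofNat 2, Int.ofNat 0, Int.ofNat 0, Int.negSucc 1, Int.ofNat 0, Int.ofNat 0, Int.ofNat 0, Int.ofNat 0, Int.ofNat 0, Int.ofNat 2, Int.ofNat 2, Int.negSucc 1, Int.negSucc 1, Int.ofNat 0, Int.negSucc 1, Int.ofNat 0, Int.ofNat 0, Int.ofNat 0, Int.ofNat 0, Int.ofNat 0, Int.ofNat 0, Int.ofNat 0, Int.ofNat 0, Int.ofNat 2],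
  [Int.ofNat 2, Int.ofNat 0, Int.ofNat 0, Int.negSucc 1, Int.ofNat 0, Int.ofNat 0, Int.ofNat 0, Int.ofNat 2, Int.negSucc 1, Int.ofNat 0, Int.ofNat 0, Int.ofNat 0, Int.ofNat 2, Int.ofNat 0, Int.ofNat 0, Int.ofNat 0, Int.ofNat 0, Int.negSucc 1, Int.ofNat 0, Int.negSucc 1, Int.ofNat 0, Int.ofNat 0, Int.ofNat 0, Int.ofNat 2],
  [Int.ofNat 0, Int.ofNat 2, Int.ofNat 2, Int.ofNat 0, Int.ofNat 0, Int.ofNat 2, Int.ofNat 0, Int.ofNat 2, Int.negSucc 1, Int.ofNat 0, Int.ofNat 0, Int.ofNat 0, Int.ofNat 2, Int.ofNat 0, Int.ofNat 2, Int.ofNat 0, Int.ofNat 0, Int.ofNat 0, Int.ofNat 0, Int.negSucc 1, Int.ofNat 0, Int.ofNat 0, Int.ofNat 0, Int.ofNat 0],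
  [Int.ofNat 0, Int.ofNat 2, Int.negSucc 1, Int.ofNat 0, Int.ofNat 0, Int.negSucc 1, Int.ofNat 0, Int.ofNat 2, Int.negSucc 1, Int.ofNat 0, Int.ofNat 0, Int.ofNat 0, Int.ofNat 2, Int.ofNat 0, Int.ofNat 2, Int.ofNat 0, Int.ofNat 0, Int.ofNat 0, Int.ofNat 0, Int.negSucc 1, Int.ofNat 0, Int.ofNat 0, Int.ofNat 0, Int.ofNat 0],
  [Int.ofNat 0, Int.ofNat 0, Int.ofNat 0, Int.negSucc 1, Int.ofNat 2, Int.ofNat 0, Int.ofNat 0, Int.ofNat 0, Int.negSucc 1, Int.ofNat 0, Int.ofNat 0, Int.ofNat 2, Int.ofNat 0, Int.ofNat 0, Int.ofNat 0, Int.ofNat 0, Int.negSucc 1, Int.ofNat 2, Int.ofNat 0, Int.negSucc 1, Int.ofNat 0, Int.ofNat 2, Int.ofNat 0, Int.ofNat 0],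
  [Int.ofNat 0, Int.ofNat 0, Int.ofNat 2, Int.ofNat 0, Int.ofNat 2, Int.ofNat 0, Int.negSucc 1, Int.ofNat 0, Int.ofNat 0, Int.ofNat 0, Int.negSucc 1, Int.ofNat 0, Int.ofNat 2, Int.ofNat 0, Int.ofNat 0, Int.negSucc 1, Int.ofNat 0, Int.ofNat 2, Int.ofNat 0, Int.ofNat 0, Int.negSucc 1, Int.ofNat 0, Int.ofNat 0, Int.ofNat 0],
  [Int.ofNat 0, Int.ofNat 0, Int.negSucc 1, Int.ofNat 0, Int.ofNat 2, Int.ofNat 0, Int.negSucc 1, Int.ofNat 0, Int.ofNat 0, Int.ofNat 0, Int.ofNat 2, Int.ofNat 0, Int.ofNat 2, Int.ofNat 0, Int.ofNat 0, Int.negSucc 1, Int.ofNat 0, Int.ofNat 2, Int.ofNat 0, Int.ofNat 0, Int.negSucc 1, Int.ofNat 0, Int.ofNat 0, Int.ofNat 0],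
  [Int.ofNat 0, Int.ofNat 0, Int.ofNat 0, Int.negSucc 1, Int.ofNat 0, Int.ofNat 2, Int.ofNat 0, Int.negSucc 1, Int.ofNat 0, Int.ofNat 0, Int.ofNat 0, Int.ofNat 2, Int.ofNat 0, Int.ofNat 2, Int.ofNat 0, Int.ofNat 0, Int.negSucc 1, Int.ofNat 0, Int.ofNat 2, Int.ofNat 0, Int.ofNat 0, Int.negSucc 1, Int.ofNat 0, Int.ofNat 0],
  [Int.ofNat 0, Int.ofNat 0, Int.ofNat 0, Int.negSucc 1, Int.ofNat 0, Int.ofNat 2, Int.ofNat 2, Int.ofNat 0, Int.negSucc 1, Int.ofNat 0, Int.ofNat 0, Int.ofNat 0, Int.negSucc 1, Int.ofNat 2, Int.ofNat 0, Int.ofNat 0, Int.negSucc 1, Int.ofNat 0, Int.ofNat 0, Int.ofNat 2, Int.ofNat 0, Int.ofNat 0, Int.ofNat 0, Int.ofNat 0],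
  [Int.negSucc 1, Int.ofNat 0, Int.ofNat 2, Int.ofNat 2, Int.ofNat 0, Int.negSucc 1, Int.ofNat 0, Int.ofNat 0, Int.ofNat 0, Int.negSucc 1, Int.ofNat 2, Int.ofNat 0, Int.ofNat 0, Int.negSucc 1, Int.ofNat 0, Int.ofNat 0, Int.ofNat 2, Int.ofNat 0, Int.ofNat 0, Int.ofNat 0, Int.ofNat 0, Int.ofNat 0, Int.ofNat 0, Int.ofNat 0],
  [Int.ofNat 2, Int.ofNat 0, Int.negSucc 1, Int.ofNat 2, Int.ofNat 0, Int.negSucc 1, Int.ofNat 0, Int.ofNat 0, Int.ofNat 0, Int.negSucc 1, Int.ofNat 2, Int.ofNat 0, Int.ofNat 0, Int.negSucc 1, Int.ofNat 0, Int.ofNat 0, Int.ofNat 2, Int.ofNat 0, Int.ofNat 0, Int.ofNat 0, Int.ofNat 0, Int.ofNat 0, Int.ofNat 0, Int.ofNat 0],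
  [Int.ofNat 2, Int.ofNat 0, Int.ofNat 0, Int.ofNat 2, Int.ofNat 0, Int.ofNat 0, Int.negSucc 1, Int.ofNat 2, Int.ofNat 0, Int.negSucc 1, Int.ofNat 0, Int.ofNat 0, Int.negSucc 1, Int.ofNat 2, Int.ofNat 0, Int.ofNat 0, Int.ofNat 0, Int.ofNat 0, Int.ofNat 0, Int.ofNat 0, Int.ofNat 0, Int.negSucc 1, Int.ofNat 0, Int.ofNat 0],
  [Int.negSucc 0, Int.ofNat 1, Int.ofNat 1, Int.ofNat 1, Int.negSucc 0, Int.negSucc 0, Int.negSucc 0, Int.ofNat 3, Int.ofNat 1, Int.negSucc 0, Int.ofNat 1, Int.ofNat 1, Int.negSucc 0, Int.ofNat 1, Int.negSucc 0, Int.ofNat 1, Int.negSucc 0, Int.negSucc 0, Int.ofNat 1, Int.ofNat 1, Int.ofNat 1, Int.negSucc 0, Int.negSucc 0, Int.ofNat 1],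
  [Int.negSucc 0, Int.ofNat 1, Int.negSucc 0, Int.ofNat 1, Int.negSucc 0, Int.ofNat 1, Int.ofNat 1, Int.ofNat 3, Int.ofNat 1, Int.ofNat 1, Int.negSucc 0, Int.ofNat 1, Int.negSucc 0, Int.ofNat 1, Int.negSucc 0, Int.negSucc 0, Int.negSucc 0, Int.negSucc 0, Int.negSucc 0, Int.ofNat 1, Int.ofNat 1, Int.negSucc 0, Int.ofNat 1, Int.ofNat 1],
  [Int.ofNat 1, Int.ofNat 1, Int.ofNat 1, Int.ofNat 1, Int.negSucc 0, Int.negSucc 0, Int.ofNat 1, Int.ofNat 1, Int.negSucc 0, Int.negSucc 0, Int.ofNat 3, Int.negSucc 0, Int.ofNat 1, Int.ofNat 1, Int.negSucc 0, Int.negSucc 0, Int.negSucc 0, Int.ofNat 1, Int.ofNat 1, Int.negSucc 0, Int.negSucc 0, Int.negSucc 0, Int.ofNat 1, Int.ofNat 1],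
  [Int.ofNat 1, Int.ofNat 1, Int.negSucc 0, Int.ofNat 1, Int.negSucc 0, Int.ofNat 1, Int.negSucc 0, Int.ofNat 1, Int.negSucc 0, Int.ofNat 1, Int.negSucc 2, Int.negSucc 0, Int.ofNat 1, Int.ofNat 1, Int.negSucc 0, Int.ofNat 1, Int.negSucc 0, Int.ofNat 1, Int.negSucc 0, Int.negSucc 0, Int.negSucc 0, Int.negSucc 0, Int.negSucc 0, Int.ofNat 1],
  [Int.ofNat 0, Int.ofNat 0, Int.ofNat 2, Int.ofNat 0, Int.ofNat 0, Int.ofNat 0, Int.ofNat 0, Int.ofNat 2, Int.ofNat 0, Int.ofNat 2, Int.negSucc 1, Int.ofNat 0, Int.ofNat 2, Int.ofNat 2, Int.negSucc 1, Int.ofNat 2, Int.ofNat 0, Int.ofNat 0, Int.ofNat 0, Int.ofNat 0, Int.ofNat 0, Int.ofNat 0, Int.ofNat 0, Int.ofNat 0],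
  [Int.ofNat 0, Int.ofNat 0, Int.ofNat 0, Int.ofNat 0, Int.ofNat 2, Int.ofNat 0, Int.ofNat 0, Int.ofNat 0, Int.ofNat 0, Int.ofNat 2, Int.ofNat 2, Int.ofNat 0, Int.ofNat 0, Int.ofNat 2, Int.ofNat 0, Int.ofNat 2, Int.ofNat 2, Int.ofNat 0, Int.ofNat 0, Int.ofNat 0, Int.negSucc 1, Int.ofNat 0, Int.negSucc 1, Int.ofNat 0],
  [Int.ofNat 0, Int.ofNat 0, Int.ofNat 0, Int.ofNat 0, Int.ofNat 0, Int.ofNat 0, Int.ofNat 0, Int.ofNat 0, Int.ofNat 0, Int.ofNat 0, Int.ofNat 0, Int.ofNat 0, Int.ofNat 0, Int.ofNat 0, Int.ofNat 0, Int.ofNat 0, Int.ofNat 0, Int.ofNat 0, Int.ofNat 0, Int.ofNat 0, Int.negSucc 3, Int.ofNat 0, Int.negSucc 3, Int.ofNat 0],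
  [Int.negSucc 3, Int.ofNat 0, Int.negSucc 3, Int.ofNat 0, Int.ofNat 0, Int.ofNat 0, Int.ofNat 0, Int.ofNat 0, Int.ofNat 0, Int.ofNat 0, Int.ofNat 0, Int.ofNat 0, Int.ofNat 0, Int.ofNat 0, Int.ofNat 0, Int.ofNat 0, Int.ofNat 0, Int.ofNat 0, Int.ofNat 0, Int.ofNat 0, Int.ofNat 0, Int.ofNat 0, Int.ofNat 0, Int.ofNat 0],
  [Int.ofNat 0, Int.negSucc 3, Int.ofNat 0, Int.ofNat 0, Int.ofNat 0, Int.ofNat 0, Int.ofNat 0, Int.ofNat 0, Int.ofNat 0, Int.ofNat 0, Int.ofNat 0, Int.ofNat 0, Int.ofNat 0, Int.ofNat 0, Int.ofNat 0, Int.ofNat 0, Int.ofNat 0, Int.ofNat 0, Int.ofNat 0, Int.ofNat 0, Int.ofNat 0, Int.ofNat 0, Int.ofNat 0, Int.negSucc 3],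
  [Int.negSucc 3, Int.ofNat 0, Int.ofNat 0, Int.ofNat 0, Int.ofNat 0, Int.ofNat 0, Int.ofNat 0, Int.ofNat 0, Int.ofNat 0, Int.ofNat 0, Int.ofNat 0, Int.ofNat 0, Int.ofNat 0, Int.ofNat 0, Int.ofNat 0, Int.ofNat 0, Int.ofNat 0, Int.ofNat 0, Int.ofNat 0, Int.ofNat 0, Int.ofNat 0, Int.ofNat 0, Int.ofNat 0, Int.negSucc 3],
  [Int.ofNat 4, Int.ofNat 0, Int.ofNat 0, Int.ofNat 0, Int.ofNat 0, Int.ofNat 0, Int.ofNat 0, Int.ofNat 0, Int.ofNat 0, Int.ofNat 0, Int.ofNat 0, Int.ofNat 0, Int.ofNat 0, Int.ofNat 0, Int.ofNat 0, Int.ofNat 0, Int.ofNat 0, Int.ofNat 0, Int.ofNat 0, Int.ofNat 0, Int.ofNat 0, Int.ofNat 0, Int.ofNat 0, Int.negSucc 3],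
  [Int.negSucc 3, Int.ofNat 0, Int.ofNat 0, Int.ofNat 0, Int.ofNat 0, Int.ofNat 0, Int.ofNat 0, Int.ofNat 0, Int.ofNat 0, Int.ofNat 0, Int.ofNat 0, Int.ofNat 0, Int.ofNat 0, Int.ofNat 0, Int.ofNat 0, Int.ofNat 0, Int.ofNat 0, Int.ofNat 0, Int.ofNat 0, Int.ofNat 0, Int.ofNat 0, Int.ofNat 0, Int.ofNat 0, Int.negSucc 3],
  [Int.negSucc 3, Int.ofNat 0, Int.ofNat 0, Int.ofNat 0, Int.ofNat 0, Int.ofNat 0, Int.ofNat 0, Int.ofNat 0, Int.ofNat 0, Int.ofNat 0, Int.ofNat 0, Int.ofNat 0, Int.ofNat 0, Int.ofNat 0, Int.ofNat 0, Int.ofNat 0, Int.ofNat 0, Int.ofNat 0, Int.ofNat 0, Int.ofNat 0, Int.ofNat 0, Int.ofNat 0, Int.ofNat 0, Int.negSucc 3],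
  [Int.ofNat 4, Int.ofNat 0, Int.ofNat 0, Int.ofNat 0, Int.ofNat 0, Int.ofNat 0, Int.ofNat 0, Int.ofNat 0, Int.ofNat 0, Int.ofNat 0, Int.ofNat 0, Int.ofNat 0, Int.ofNat 0, Int.ofNat 0, Int.ofNat 0, Int.ofNat 0, Int.ofNat 0, Int.ofNat 0, Int.ofNat 0, Int.ofNat 0, Int.ofNat 0, Int.ofNat 0, Int.ofNat 0, Int.negSucc 3],
  [Int.ofNat 0, Int.ofNat 4, Int.ofNat 0, Int.ofNat 0, Int.ofNat 0, Int.ofNat 0, Int.ofNat 0, Int.ofNat 0, Int.ofNat 0, Int.ofNat 0, Int.ofNat 0, Int.ofNat 0, Int.ofNat 0, Int.ofNat 0, Int.ofNat 0, Int.ofNat 0, Int.ofNat 0, Int.ofNat 0, Int.ofNat 0, Int.ofNat 0, Int.ofNat 0, Int.ofNat 0, Int.ofNat 0, Int.negSucc 3],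
  [Int.ofNat 0, Int.negSucc 3, Int.ofNat 0, Int.ofNat 0, Int.ofNat 0, Int.ofNat 0, Int.ofNat 0, Int.ofNat 0, Int.ofNat 0, Int.ofNat 0, Int.ofNat 0, Int.ofNat 0, Int.ofNat 0, Int.ofNat 0, Int.ofNat 0, Int.ofNat 0, Int.ofNat 0, Int.ofNat 0, Int.ofNat 0, Int.ofNat 0, Int.ofNat 0, Int.ofNat 0, Int.ofNat 0, Int.ofNat 4],
  [Int.ofNat 0, Int.ofNat 0, Int.ofNat 0, Int.ofNat 0, Int.ofNat 0, Int.ofNat 0, Int.ofNat 0, Int.ofNat 0, Int.ofNat 0, Int.ofNat 0, Int.ofNat 0, Int.ofNat 0, Int.ofNat 0, Int.ofNat 0, Int.ofNat 0, Int.ofNat 0, Int.ofNat 0, Int.ofNat 0, Int.ofNat 0, Int.ofNat 0, Int.ofNat 0, Int.negSucc 3, Int.ofNat 0, Int.ofNat 4],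
  [Int.ofNat 2, Int.ofNat 2, Int.ofNat 2, Int.ofNat 0, Int.ofNat 0, Int.ofNat 0, Int.ofNat 2, Int.ofNat 2, Int.ofNat 0, Int.ofNat 0, Int.ofNat 0, Int.ofNat 0, Int.ofNat 0, Int.ofNat 0, Int.ofNat 0, Int.ofNat 0, Int.ofNat 0, Int.ofNat 0, Int.ofNat 0, Int.ofNat 2, Int.ofNat 0, Int.negSucc 1, Int.ofNat 0, Int.negSucc 1],
  [Int.ofNat 2, Int.ofNat 2, Int.ofNat 0, Int.ofNat 0, Int.ofNat 0, Int.ofNat 2, Int.ofNat 2, Int.ofNat 0, Int.ofNat 0, Int.ofNat 0, Int.ofNat 0, Int.ofNat 0, Int.ofNat 0, Int.ofNat 0, Int.ofNat 0, Int.ofNat 0, Int.ofNat 0, Int.ofNat 0, Int.ofNat 2, Int.ofNat 0, Int.negSucc 1, Int.ofNat 0, Int.ofNat 2, Int.negSucc 1],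
  [Int.negSucc 0, Int.negSucc 0, Int.ofNat 1, Int.negSucc 0, Int.negSucc 0, Int.ofNat 1, Int.ofNat 1, Int.negSucc 0, Int.negSucc 0, Int.ofNat 1, Int.ofNat 1, Int.negSucc 0, Int.negSucc 0, Int.negSucc 0, Int.negSucc 0, Int.ofNat 1, Int.negSucc 0, Int.negSucc 0, Int.ofNat 1, Int.negSucc 0, Int.negSucc 0, Int.negSucc 0, Int.ofNat 1, Int.ofNat 3],
  [Int.negSucc 0, Int.negSucc 0, Int.negSucc 0, Int.negSucc 0, Int.negSucc 0, Int.negSucc 0, Int.negSucc 0, Int.negSucc 0, Int.negSucc 0, Int.negSucc 0, Int.negSucc 0, Int.negSucc 0, Int.negSucc 0, Int.negSucc 0, Int.negSucc 0, Int.negSucc 0, Int.negSucc 0, Int.negSucc 0, Int.negSucc 0, Int.negSucc 0, Int.negSucc 0, Int.negSucc 0, Int.negSucc 0, Int.ofNat 3],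
  [Int.negSucc 0, Int.negSucc 0, Int.negSucc 0, Int.negSucc 0, Int.negSucc 0, Int.negSucc 0, Int.negSucc 0, Int.negSucc 0, Int.negSucc 0, Int.negSucc 0, Int.negSucc 0, Int.negSucc 0, Int.negSucc 0, Int.negSucc 0, Int.negSucc 0, Int.negSucc 0, Int.negSucc 0, Int.negSucc 0, Int.negSucc 0, Int.negSucc 0, Int.negSucc 0, Int.negSucc 0, Int.negSucc 0, Int.ofNat 3],
  [Int.ofNat 3, Int.negSucc 0, Int.negSucc 0, Int.negSucc 0, Int.negSucc 0, Int.negSucc 0, Int.negSucc 0, Int.negSucc 0, Int.negSucc 0, Int.negSucc 0, Int.negSucc 0, Int.negSucc 0, Int.negSucc 0, Int.negSucc 0, Int.negSucc 0, Int.negSucc 0, Int.negSucc 0, Int.negSucc 0, Int.negSucc 0, Int.negSucc 0, Int.negSucc 0, Int.negSucc 0, Int.negSucc 0, Int.negSucc 0],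
  [Int.negSucc 2, Int.negSucc 0, Int.ofNat 1, Int.negSucc 0, Int.negSucc 0, Int.negSucc 0, Int.negSucc 0, Int.ofNat 1, Int.negSucc 0, Int.ofNat 1, Int.ofNat 1, Int.ofNat 1, Int.negSucc 0, Int.negSucc 0, Int.negSucc 0, Int.negSucc 0, Int.negSucc 0, Int.negSucc 0, Int.ofNat 1, Int.negSucc 0, Int.negSucc 0, Int.ofNat 1, Int.negSucc 0, Int.negSucc 0],
  [Int.negSucc 0, Int.negSucc 2, Int.negSucc 0, Int.ofNat 1, Int.negSucc 0, Int.negSucc 0, Int.negSucc 0, Int.negSucc 0, Int.ofNat 1, Int.negSucc 0, Int.ofNat 1, Int.ofNat 1, Int.ofNat 1, Int.negSucc 0, Int.negSucc 0, Int.negSucc 0, Int.negSucc 0, Int.negSucc 0, Int.negSucc 0, Int.ofNat 1, Int.negSucc 0, Int.negSucc 0, Int.ofNat 1, Int.negSucc 0],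
  [Int.negSucc 1, Int.ofNat 0, Int.negSucc 1, Int.ofNat 2, Int.ofNat 0, Int.ofNat 0, Int.ofNat 0, Int.ofNat 0, Int.ofNat 0, Int.ofNat 0, Int.ofNat 2, Int.ofNat 0, Int.ofNat 0, Int.ofNat 0, Int.ofNat 0, Int.ofNat 0, Int.ofNat 0, Int.ofNat 0, Int.negSucc 1, Int.ofNat 2, Int.ofNat 0, Int.ofNat 0, Int.ofNat 2, Int.negSucc 1],
  [Int.ofNat 2, Int.ofNat 0, Int.ofNat 0, Int.ofNat 0, Int.ofNat 0, Int.ofNat 0, Int.ofNat 0, Int.ofNat 2, Int.ofNat 0, Int.ofNat 0, Int.ofNat 0, Int.ofNat 0, Int.ofNat 0, Int.ofNat 0, Int.ofNat 0, Int.negSucc 1, Int.ofNat 2, Int.ofNat 0, Int.ofNat 0, Int.ofNat 2, Int.negSucc 1, Int.ofNat 0, Int.negSucc 1, Int.negSucc 1],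
  [Int.negSucc 1, Int.ofNat 0, Int.ofNat 0, Int.ofNat 0, Int.ofNat 0, Int.ofNat 0, Int.negSucc 1, Int.ofNat 0, Int.ofNat 0, Int.ofNat 2, Int.ofNat 2, Int.ofNat 0, Int.ofNat 0, Int.ofNat 0, Int.ofNat 0, Int.ofNat 0, Int.ofNat 2, Int.ofNat 0, Int.ofNat 0, Int.ofNat 0, Int.ofNat 0, Int.negSucc 1, Int.negSucc 1, Int.ofNat 2],
  [Int.negSucc 1, Int.negSucc 1, Int.ofNat 0, Int.ofNat 0, Int.ofNat 0, Int.ofNat 0, Int.ofNat 0, Int.ofNat 2, Int.ofNat 0, Int.ofNat 0, Int.ofNat 0, Int.ofNat 0, Int.ofNat 2, Int.ofNat 2, Int.negSucc 1, Int.ofNat 0, Int.ofNat 0, Int.ofNat 0, Int.ofNat 0, Int.ofNat 0, Int.negSucc 1, Int.ofNat 0, Int.ofNat 0, Int.ofNat 2],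
  [Int.ofNat 1, Int.ofNat 1, Int.negSucc 0, Int.ofNat 1, Int.negSucc 0, Int.ofNat 1, Int.negSucc 0, Int.ofNat 1, Int.negSucc 0, Int.ofNat 1, Int.ofNat 1, Int.negSucc 0, Int.ofNat 1, Int.ofNat 1, Int.negSucc 0, Int.ofNat 1, Int.negSucc 0, Int.ofNat 1, Int.negSucc 0, Int.negSucc 0, Int.negSucc 0, Int.negSucc 0, Int.negSucc 0, Int.negSucc 2],
  [Int.ofNat 1, Int.ofNat 1, Int.ofNat 1, Int.ofNat 1, Int.negSucc 0, Int.negSucc 0, Int.ofNat 1, Int.ofNat 1, Int.negSucc 0, Int.negSucc 0, Int.negSucc 0, Int.negSucc 0, Int.ofNat 1, Int.ofNat 1, Int.negSucc 0, Int.negSucc 0, Int.negSucc 0, Int.ofNat 1, Int.ofNat 1, Int.negSucc 0, Int.negSucc 0, Int.negSucc 0, Int.ofNat 1, Int.negSucc 2],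
  [Int.negSucc 0, Int.negSucc 0, Int.ofNat 1, Int.negSucc 0, Int.negSucc 0, Int.ofNat 1, Int.negSucc 0, Int.ofNat 1, Int.ofNat 1, Int.negSucc 0, Int.ofNat 1, Int.negSucc 0, Int.ofNat 1, Int.ofNat 1, Int.ofNat 1, Int.negSucc 0, Int.negSucc 0, Int.negSucc 0, Int.negSucc 0, Int.negSucc 0, Int.ofNat 1, Int.ofNat 1, Int.ofNat 1, Int.negSucc 2],
  [Int.negSucc 0, Int.negSucc 0, Int.negSucc 0, Int.negSucc 0, Int.negSucc 0, Int.negSucc 0, Int.ofNat 1, Int.ofNat 1, Int.ofNat 1, Int.ofNat 1, Int.negSucc 0, Int.negSucc 0, Int.ofNat 1, Int.ofNat 1, Int.ofNat 1, Int.ofNat 1, Int.negSucc 0, Int.negSucc 0, Int.ofNat 1, Int.negSucc 0, Int.ofNat 1, Int.ofNat 1, Int.negSucc 0, Int.negSucc 2],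
  [Int.negSucc 1, Int.negSucc 1, Int.negSucc 1, Int.ofNat 0, Int.ofNat 0, Int.ofNat 0, Int.ofNat 0, Int.ofNat 0, Int.ofNat 0, Int.ofNat 0, Int.negSucc 1, Int.negSucc 1, Int.ofNat 0, Int.ofNat 2, Int.ofNat 2, Int.ofNat 0, Int.ofNat 0, Int.ofNat 0, Int.ofNat 0, Int.negSucc 1, Int.ofNat 0, Int.ofNat 0, Int.ofNat 0, Int.ofNat 0],
  [Int.negSucc 1, Int.ofNat 0, Int.ofNat 0, Int.ofNat 0, Int.negSucc 1, Int.ofNat 0, Int.negSucc 1, Int.ofNat 0, Int.ofNat 0, Int.ofNat 0, Int.ofNat 0, Int.negSucc 1, Int.ofNat 0, Int.ofNat 0, Int.ofNat 0, Int.ofNat 0, Int.ofNat 2, Int.negSucc 1, Int.ofNat 0, Int.ofNat 0, Int.negSucc 1, Int.ofNat 0, Int.ofNat 2, Int.ofNat 0],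
  [Int.ofNat 1, Int.negSucc 0, Int.negSucc 0, Int.ofNat 1, Int.negSucc 2, Int.ofNat 1, Int.negSucc 0, Int.ofNat 1, Int.ofNat 1, Int.ofNat 1, Int.ofNat 1, Int.negSucc 0, Int.ofNat 1, Int.negSucc 0, Int.ofNat 1, Int.ofNat 1, Int.ofNat 1, Int.negSucc 0, Int.ofNat 1, Int.ofNat 1, Int.negSucc 0, Int.ofNat 1, Int.ofNat 1, Int.negSucc 0],
  [Int.negSucc 0, Int.ofNat 1, Int.ofNat 1, Int.ofNat 1, Int.negSucc 0, Int.negSucc 0, Int.ofNat 1, Int.negSucc 2, Int.ofNat 1, Int.negSucc 0, Int.ofNat 1, Int.ofNat 1, Int.ofNat 1, Int.ofNat 1, Int.negSucc 0, Int.ofNat 1, Int.negSucc 0, Int.ofNat 1, Int.ofNat 1, Int.ofNat 1, Int.negSucc 0, Int.ofNat 1, Int.ofNat 1, Int.negSucc 0],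
  [Int.ofNat 1, Int.negSucc 0, Int.negSucc 0, Int.ofNat 1, Int.negSucc 0, Int.negSucc 0, Int.ofNat 1, Int.negSucc 2, Int.negSucc 0, Int.negSucc 0, Int.ofNat 1, Int.negSucc 0, Int.negSucc 0, Int.ofNat 1, Int.negSucc 0, Int.ofNat 1, Int.negSucc 0, Int.ofNat 1, Int.negSucc 0, Int.ofNat 1, Int.negSucc 0, Int.ofNat 1, Int.ofNat 1, Int.ofNat 1],
  [Int.negSucc 0, Int.negSucc 0, Int.ofNat 1, Int.negSucc 0, Int.negSucc 0, Int.ofNat 1, Int.negSucc 2, Int.negSucc 0, Int.negSucc 0, Int.ofNat 1, Int.negSucc 0, Int.negSucc 0, Int.ofNat 1, Int.negSucc 0, Int.ofNat 1, Int.negSucc 0, Int.ofNat 1, Int.negSucc 0, Int.ofNat 1, Int.negSucc 0, Int.ofNat 1, Int.ofNat 1, Int.ofNat 1, Int.ofNat 1],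
  [Int.ofNat 1, Int.negSucc 0, Int.negSucc 0, Int.negSucc 0, Int.negSucc 0, Int.ofNat 1, Int.negSucc 2, Int.ofNat 1, Int.negSucc 0, Int.negSucc 0, Int.ofNat 1, Int.ofNat 1, Int.ofNat 1, Int.negSucc 0, Int.ofNat 1, Int.negSucc 0, Int.ofNat 1, Int.negSucc 0, Int.negSucc 0, Int.negSucc 0, Int.ofNat 1, Int.negSucc 0, Int.ofNat 1, Int.ofNat 1],
  [Int.negSucc 0, Int.ofNat 1, Int.ofNat 1, Int.ofNat 1, Int.ofNat 1, Int.ofNat 1, Int.ofNat 3, Int.ofNat 1, Int.ofNat 1, Int.ofNat 1, Int.ofNat 1, Int.ofNat 1, Int.negSucc 0, Int.ofNat 1, Int.ofNat 1, Int.negSucc 0, Int.negSucc 0, Int.negSucc 0, Int.ofNat 1, Int.negSucc 0, Int.ofNat 1, Int.negSucc 0, Int.ofNat 1, Int.ofNat 1],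
  [Int.negSucc 0, Int.ofNat 1, Int.ofNat 1, Int.ofNat 1, Int.ofNat 1, Int.ofNat 1, Int.ofNat 1, Int.ofNat 1, Int.ofNat 1, Int.negSucc 0, Int.negSucc 0, Int.ofNat 1, Int.ofNat 1, Int.ofNat 1, Int.negSucc 0, Int.negSucc 0, Int.negSucc 0, Int.ofNat 1, Int.ofNat 3, Int.negSucc 0, Int.ofNat 1, Int.ofNat 1, Int.ofNat 1, Int.ofNat 1],
  [Int.ofNat 1, Int.ofNat 1, Int.negSucc 0, Int.ofNat 1, Int.ofNat 1, Int.ofNat 1, Int.ofNat 1, Int.negSucc 0, Int.ofNat 1, Int.ofNat 1, Int.ofNat 1, Int.negSucc 0, Int.ofNat 1, Int.ofNat 1, Int.negSucc 0, Int.negSucc 0, Int.negSucc 0, Int.ofNat 1, Int.negSucc 2, Int.negSucc 0, Int.ofNat 1, Int.negSucc 0, Int.ofNat 1, Int.ofNat 1],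
  [Int.ofNat 1, Int.ofNat 1, Int.ofNat 1, Int.negSucc 0, Int.ofNat 1, Int.ofNat 1, Int.ofNat 1, Int.ofNat 1, Int.negSucc 0, Int.ofNat 1, Int.ofNat 1, Int.ofNat 1, Int.negSucc 0, Int.ofNat 1, Int.ofNat 1, Int.negSucc 0, Int.negSucc 0, Int.negSucc 0, Int.ofNat 1, Int.negSucc 2, Int.negSucc 0, Int.ofNat 1, Int.negSucc 0, Int.ofNat 1],
  [Int.ofNat 1, Int.ofNat 1, Int.ofNat 1, Int.negSucc 0, Int.ofNat 1, Int.ofNat 1, Int.ofNat 1, Int.ofNat 1, Int.negSucc 0, Int.ofNat 1, Int.ofNat 1, Int.ofNat 1, Int.negSucc 0, Int.ofNat 1, Int.ofNat 1, Int.negSucc 0, Int.negSucc 0, Int.negSucc 0, Int.ofNat 1, Int.negSucc 2, Int.negSucc 0, Int.ofNat 1, Int.negSucc 0, Int.ofNat 1],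
  [Int.negSucc 0, Int.ofNat 1, Int.ofNat 1, Int.ofNat 1, Int.ofNat 1, Int.negSucc 0, Int.ofNat 1, Int.ofNat 1, Int.ofNat 1, Int.negSucc 0, Int.ofNat 1, Int.ofNat 1, Int.negSucc 0, Int.negSucc 0, Int.negSucc 0, Int.ofNat 1, Int.negSucc 2, Int.negSucc 0, Int.ofNat 1, Int.negSucc 0, Int.ofNat 1, Int.ofNat 1, Int.ofNat 1, Int.ofNat 1],
  [Int.ofNat 2, Int.ofNat 0, Int.ofNat 0, Int.ofNat 2, Int.ofNat 2, Int.ofNat 0, Int.ofNat 0, Int.ofNat 0, Int.ofNat 0, Int.negSucc 1, Int.ofNat 0, Int.ofNat 0, Int.negSucc 1, Int.ofNat 0, Int.ofNat 0, Int.ofNat 0, Int.negSucc 1, Int.ofNat 0, Int.ofNat 0, Int.negSucc 1, Int.ofNat 0, Int.ofNat 0, Int.ofNat 2, Int.ofNat 0],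
  [Int.ofNat 2, Int.ofNat 0, Int.ofNat 2, Int.ofNat 2, Int.ofNat 0, Int.ofNat 0, Int.ofNat 0, Int.ofNat 0, Int.negSucc 1, Int.ofNat 0, Int.ofNat 0, Int.ofNat 0, Int.negSucc 1, Int.negSucc 1, Int.ofNat 2, Int.ofNat 0, Int.ofNat 0, Int.ofNat 0, Int.ofNat 0, Int.ofNat 0, Int.ofNat 0, Int.ofNat 0, Int.negSucc 1, Int.ofNat 0],
  [Int.ofNat 0, Int.ofNat 2, Int.ofNat 0, Int.ofNat 0, Int.ofNat 2, Int.negSucc 1, Int.ofNat 0, Int.ofNat 0, Int.ofNat 0, Int.ofNat 0, Int.ofNat 0, Int.ofNat 2, Int.ofNat 0, Int.ofNat 0, Int.ofNat 0, Int.ofNat 0, Int.ofNat 2, Int.negSucc 1, Int.ofNat 2, Int.ofNat 0, Int.ofNat 0, Int.ofNat 0, Int.ofNat 0, Int.ofNat 2],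
  [Int.ofNat 0, Int.ofNat 2, Int.ofNat 0, Int.ofNat 0, Int.ofNat 2, Int.ofNat 2, Int.ofNat 0, Int.ofNat 0, Int.ofNat 0, Int.ofNat 0, Int.ofNat 0, Int.ofNat 2, Int.ofNat 0, Int.ofNat 0, Int.ofNat 0, Int.ofNat 0, Int.ofNat 2, Int.negSucc 1, Int.negSucc 1, Int.ofNat 0, Int.ofNat 0, Int.ofNat 0, Int.ofNat 0, Int.ofNat 2],
  [Int.ofNat 0, Int.ofNat 2, Int.ofNat 2, Int.ofNat 0, Int.ofNat 0, Int.ofNat 0, Int.ofNat 0, Int.ofNat 0, Int.ofNat 2, Int.ofNat 0, Int.ofNat 0, Int.ofNat 0, Int.ofNat 0, Int.ofNat 2, Int.negSucc 1, Int.negSucc 1, Int.ofNat 0, Int.ofNat 0, Int.ofNat 0, Int.ofNat 0, Int.ofNat 0, Int.ofNat 2, Int.ofNat 0, Int.ofNat 2],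
  [Int.ofNat 2, Int.ofNat 0, Int.ofNat 0, Int.negSucc 1, Int.ofNat 0, Int.ofNat 0, Int.ofNat 0, Int.ofNat 2, Int.ofNat 0, Int.ofNat 0, Int.ofNat 0, Int.ofNat 2, Int.ofNat 2, Int.ofNat 0, Int.ofNat 0, Int.ofNat 0, Int.ofNat 0, Int.ofNat 0, Int.negSucc 1, Int.ofNat 0, Int.ofNat 2, Int.ofNat 0, Int.ofNat 2, Int.ofNat 0],
  [Int.negSucc 1, Int.ofNat 0, Int.ofNat 0, Int.negSucc 1, Int.ofNat 0, Int.ofNat 0, Int.ofNat 0, Int.negSucc 1, Int.ofNat 0, Int.ofNat 0, Int.ofNat 0, Int.negSucc 1, Int.ofNat 2, Int.ofNat 0, Int.ofNat 0, Int.ofNat 0, Int.ofNat 0, Int.ofNat 0, Int.ofNat 2, Int.ofNat 0, Int.ofNat 2, Int.ofNat 0, Int.ofNat 2, Int.ofNat 0],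
  [Int.ofNat 2, Int.negSucc 1, Int.ofNat 0, Int.ofNat 0, Int.negSucc 1, Int.ofNat 0, Int.ofNat 0, Int.ofNat 0, Int.negSucc 1, Int.ofNat 0, Int.ofNat 0, Int.ofNat 0, Int.negSucc 1, Int.ofNat 2, Int.ofNat 0, Int.ofNat 0, Int.ofNat 0, Int.ofNat 0, Int.ofNat 0, Int.ofNat 2, Int.ofNat 0, Int.ofNat 2, Int.ofNat 0, Int.ofNat 0],
  [Int.negSucc 1, Int.ofNat 2, Int.ofNat 0, Int.ofNat 0, Int.negSucc 1, Int.ofNat 0, Int.negSucc 1, Int.negSucc 1, Int.ofNat 0, Int.ofNat 0, Int.ofNat 0, Int.ofNat 2, Int.ofNat 0, Int.ofNat 2, Int.ofNat 0, Int.ofNat 0, Int.ofNat 0, Int.ofNat 0, Int.ofNat 2, Int.ofNat 0, Int.ofNat 0, Int.ofNat 0, Int.ofNat 0, Int.ofNat 0],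
  [Int.ofNat 0, Int.negSucc 1, Int.ofNat 0, Int.negSucc 1, Int.negSucc 1, Int.ofNat 0, Int.ofNat 0, Int.ofNat 0, Int.ofNat 2, Int.ofNat 0, Int.ofNat 2, Int.ofNat 0, Int.ofNat 0, Int.ofNat 0, Int.ofNat 0, Int.ofNat 2, Int.ofNat 0, Int.ofNat 0, Int.ofNat 0, Int.ofNat 0, Int.negSucc 1, Int.ofNat 2, Int.ofNat 0, Int.ofNat 0],
  [Int.negSucc 0, Int.ofNat 1, Int.negSucc 0, Int.negSucc 0, Int.negSucc 0, Int.ofNat 1, Int.negSucc 0, Int.negSucc 0, Int.ofNat 1, Int.negSucc 0, Int.ofNat 1, Int.negSucc 0, Int.negSucc 0, Int.ofNat 1, Int.ofNat 1, Int.ofNat 1, Int.ofNat 1, Int.ofNat 1, Int.negSucc 0, Int.negSucc 0, Int.negSucc 2, Int.ofNat 1, Int.ofNat 1, Int.negSucc 0],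
  [Int.negSucc 0, Int.negSucc 0, Int.negSucc 0, Int.negSucc 0, Int.negSucc 0, Int.negSucc 0, Int.negSucc 0, Int.ofNat 1, Int.negSucc 0, Int.ofNat 1, Int.negSucc 2, Int.ofNat 1, Int.negSucc 0, Int.ofNat 1, Int.ofNat 1, Int.ofNat 1, Int.ofNat 1, Int.ofNat 1, Int.ofNat 1, Int.negSucc 0, Int.ofNat 1, Int.ofNat 1, Int.negSucc 0, Int.negSucc 0],
  [Int.negSucc 0, Int.negSucc 0, Int.negSucc 0, Int.negSucc 0, Int.negSucc 0, Int.negSucc 0, Int.negSucc 0, Int.ofNat 1, Int.negSucc 0, Int.ofNat 1, Int.negSucc 2, Int.ofNat 1, Int.negSucc 0, Int.ofNat 1, Int.ofNat 1, Int.ofNat 1, Int.ofNat 1, Int.ofNat 1, Int.ofNat 1, Int.negSucc 0, Int.ofNat 1, Int.ofNat 1, Int.negSucc 0, Int.negSucc 0],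
  [Int.negSucc 0, Int.negSucc 0, Int.ofNat 1, Int.negSucc 0, Int.negSucc 0, Int.ofNat 1, Int.ofNat 1, Int.ofNat 1, Int.negSucc 0, Int.negSucc 0, Int.ofNat 3, Int.ofNat 1, Int.negSucc 0, Int.ofNat 1, Int.ofNat 1, Int.negSucc 0, Int.ofNat 1, Int.ofNat 1, Int.negSucc 0, Int.negSucc 0, Int.ofNat 1, Int.ofNat 1, Int.ofNat 1, Int.negSucc 0],
  [Int.ofNat 1, Int.ofNat 1, Int.negSucc 0, Int.negSucc 0, Int.ofNat 1, Int.ofNat 1, Int.negSucc 0, Int.ofNat 1, Int.ofNat 1, Int.ofNat 1, Int.ofNat 1, Int.negSucc 0, Int.ofNat 1, Int.negSucc 0, Int.negSucc 0, Int.ofNat 3, Int.negSucc 0, Int.ofNat 1, Int.negSucc 0, Int.ofNat 1, Int.negSucc 0, Int.negSucc 0, Int.ofNat 1, Int.negSucc 0],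
  [Int.ofNat 1, Int.ofNat 1, Int.ofNat 1, Int.negSucc 0, Int.ofNat 1, Int.negSucc 0, Int.ofNat 1, Int.ofNat 1, Int.ofNat 1, Int.negSucc 0, Int.negSucc 0, Int.negSucc 0, Int.ofNat 1, Int.negSucc 0, Int.negSucc 0, Int.negSucc 2, Int.negSucc 0, Int.ofNat 1, Int.ofNat 1, Int.ofNat 1, Int.negSucc 0, Int.negSucc 0, Int.negSucc 0, Int.negSucc 0],
  [Int.ofNat 0, Int.ofNat 0, Int.ofNat 0, Int.ofNat 0, Int.ofNat 2, Int.ofNat 0, Int.ofNat 0, Int.ofNat 0, Int.ofNat 0, Int.ofNat 2, Int.ofNat 2, Int.negSucc 1, Int.ofNat 0, Int.ofNat 0, Int.ofNat 0, Int.ofNat 0, Int.ofNat 0, Int.ofNat 2, Int.ofNat 0, Int.ofNat 0, Int.ofNat 2, Int.negSucc 1, Int.ofNat 0, Int.ofNat 2],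
  [Int.ofNat 0, Int.ofNat 0, Int.ofNat 0, Int.ofNat 0, Int.ofNat 0, Int.negSucc 1, Int.ofNat 0, Int.ofNat 0, Int.ofNat 0, Int.ofNat 0, Int.ofNat 0, Int.ofNat 0, Int.ofNat 0, Int.ofNat 2, Int.ofNat 2, Int.ofNat 0, Int.ofNat 0, Int.negSucc 1, Int.ofNat 2, Int.ofNat 0, Int.ofNat 2, Int.ofNat 2, Int.ofNat 0, Int.ofNat 2],
  [Int.ofNat 1, Int.ofNat 1, Int.ofNat 1, Int.ofNat 1, Int.negSucc 0, Int.negSucc 0, Int.negSucc 0, Int.negSucc 0, Int.negSucc 0, Int.negSucc 0, Int.negSucc 0, Int.negSucc 0, Int.negSucc 0, Int.ofNat 1, Int.ofNat 3, Int.negSucc 0, Int.negSucc 0, Int.negSucc 0, Int.ofNat 1, Int.negSucc 0, Int.ofNat 1, Int.ofNat 1, Int.negSucc 0, Int.negSucc 0],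
  [Int.ofNat 1, Int.ofNat 1, Int.negSucc 0, Int.ofNat 1, Int.ofNat 1, Int.ofNat 1, Int.ofNat 1, Int.negSucc 0, Int.negSucc 0, Int.negSucc 0, Int.negSucc 0, Int.negSucc 0, Int.negSucc 0, Int.negSucc 0, Int.negSucc 0, Int.negSucc 0, Int.ofNat 1, Int.ofNat 3, Int.negSucc 0, Int.negSucc 0, Int.negSucc 0, Int.ofNat 1, Int.negSucc 0, Int.negSucc 0],
  [Int.negSucc 0, Int.negSucc 0, Int.ofNat 1, Int.negSucc 0, Int.ofNat 1, Int.negSucc 0, Int.ofNat 1, Int.negSucc 0, Int.ofNat 1, Int.ofNat 1, Int.ofNat 1, Int.ofNat 1, Int.ofNat 1, Int.negSucc 0, Int.negSucc 2, Int.ofNat 1, Int.ofNat 1, Int.ofNat 1, Int.ofNat 1, Int.negSucc 0, Int.ofNat 1, Int.ofNat 1, Int.negSucc 0, Int.ofNat 1],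
  [Int.negSucc 0, Int.ofNat 1, Int.negSucc 0, Int.ofNat 1, Int.negSucc 0, Int.ofNat 1, Int.negSucc 0, Int.ofNat 1, Int.ofNat 1, Int.ofNat 1, Int.ofNat 1, Int.ofNat 1, Int.negSucc 0, Int.negSucc 2, Int.ofNat 1, Int.ofNat 1, Int.ofNat 1, Int.ofNat 1, Int.negSucc 0, Int.ofNat 1, Int.ofNat 1, Int.negSucc 0, Int.negSucc 0, Int.ofNat 1],
  [Int.ofNat 1, Int.ofNat 1, Int.ofNat 1, Int.ofNat 1, Int.negSucc 0, Int.ofNat 1, Int.negSucc 0, Int.negSucc 0, Int.ofNat 1, Int.negSucc 0, Int.negSucc 0, Int.negSucc 0, Int.negSucc 0, Int.negSucc 2, Int.ofNat 1, Int.ofNat 1, Int.ofNat 1, Int.ofNat 1, Int.ofNat 1, Int.ofNat 1, Int.ofNat 1, Int.ofNat 1, Int.negSucc 0, Int.ofNat 1],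
  [Int.negSucc 0, Int.negSucc 0, Int.negSucc 0, Int.negSucc 0, Int.ofNat 1, Int.ofNat 1, Int.ofNat 1, Int.negSucc 0, Int.negSucc 0, Int.ofNat 1, Int.negSucc 0, Int.negSucc 0, Int.ofNat 1, Int.ofNat 3, Int.ofNat 1, Int.ofNat 1, Int.negSucc 0, Int.ofNat 1, Int.negSucc 0, Int.ofNat 1, Int.ofNat 1, Int.ofNat 1, Int.negSucc 0, Int.ofNat 1],
  [Int.negSucc 0, Int.negSucc 0, Int.negSucc 0, Int.negSucc 0, Int.negSucc 0, Int.negSucc 0, Int.ofNat 1, Int.ofNat 1, Int.ofNat 1, Int.negSucc 0, Int.ofNat 1, Int.ofNat 1, Int.ofNat 3, Int.negSucc 0, Int.ofNat 1, Int.ofNat 1, Int.ofNat 1, Int.negSucc 0, Int.ofNat 1, Int.ofNat 1, Int.ofNat 1, Int.negSucc 0, Int.negSucc 0, Int.ofNat 1],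
  [Int.ofNat 1, Int.negSucc 0, Int.ofNat 1, Int.negSucc 0, Int.negSucc 0, Int.negSucc 0, Int.ofNat 1, Int.negSucc 0, Int.ofNat 1, Int.ofNat 1, Int.negSucc 0, Int.negSucc 0, Int.ofNat 3, Int.negSucc 0, Int.ofNat 1, Int.ofNat 1, Int.ofNat 1, Int.negSucc 0, Int.negSucc 0, Int.ofNat 1, Int.ofNat 1, Int.ofNat 1, Int.negSucc 0, Int.ofNat 1],
  [Int.negSucc 0, Int.ofNat 1, Int.negSucc 0, Int.ofNat 1, Int.negSucc 0, Int.negSucc 0, Int.negSucc 0, Int.ofNat 1, Int.negSucc 0, Int.ofNat 1, Int.ofNat 1, Int.negSucc 0, Int.negSucc 0, Int.ofNat 3, Int.negSucc 0, Int.ofNat 1, Int.ofNat 1, Int.ofNat 1, Int.negSucc 0, Int.negSucc 0, Int.ofNat 1, Int.ofNat 1, Int.ofNat 1, Int.ofNat 1],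
  [Int.ofNat 1, Int.negSucc 0, Int.ofNat 1, Int.ofNat 1, Int.negSucc 2, Int.negSucc 0, Int.negSucc 0, Int.ofNat 1, Int.ofNat 1, Int.negSucc 0, Int.negSucc 0, Int.ofNat 1, Int.ofNat 1, Int.ofNat 1, Int.negSucc 0, Int.negSucc 0, Int.negSucc 0, Int.ofNat 1, Int.ofNat 1, Int.negSucc 0, Int.negSucc 0, Int.ofNat 1, Int.negSucc 0, Int.negSucc 0],
  [Int.ofNat 1, Int.negSucc 2, Int.negSucc 0, Int.negSucc 0, Int.ofNat 1, Int.ofNat 1, Int.negSucc 0, Int.negSucc 0, Int.ofNat 1, Int.ofNat 1, Int.ofNat 1, Int.negSucc 0, Int.negSucc 0, Int.negSucc 0, Int.ofNat 1, Int.ofNat 1, Int.negSucc 0, Int.negSucc 0, Int.ofNat 1, Int.negSucc 0, Int.ofNat 1, Int.negSucc 0, Int.ofNat 1, Int.negSucc 0],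
  [Int.negSucc 2, Int.ofNat 1, Int.negSucc 0, Int.negSucc 0, Int.ofNat 1, Int.ofNat 1, Int.ofNat 1, Int.ofNat 1, Int.ofNat 1, Int.negSucc 0, Int.negSucc 0, Int.negSucc 0, Int.negSucc 0, Int.negSucc 0, Int.ofNat 1, Int.negSucc 0, Int.negSucc 0, Int.negSucc 0, Int.ofNat 1, Int.ofNat 1, Int.negSucc 0, Int.ofNat 1, Int.ofNat 1, Int.negSucc 0],
  [Int.negSucc 2, Int.ofNat 1, Int.ofNat 1, Int.negSucc 0, Int.ofNat 1, Int.ofNat 1, Int.negSucc 0, Int.negSucc 0, Int.negSucc 0, Int.negSucc 0, Int.negSucc 0, Int.negSucc 0, Int.negSucc 0, Int.negSucc 0, Int.ofNat 1, Int.negSucc 0, Int.ofNat 1, Int.ofNat 1, Int.ofNat 1, Int.negSucc 0, Int.ofNat 1, Int.ofNat 1, Int.ofNat 1, Int.negSucc 0],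
  [Int.ofNat 2, Int.negSucc 1, Int.negSucc 1, Int.negSucc 1, Int.ofNat 0, Int.ofNat 0, Int.ofNat 0, Int.ofNat 0, Int.ofNat 0, Int.ofNat 0, Int.ofNat 0, Int.ofNat 0, Int.ofNat 0, Int.negSucc 1, Int.ofNat 0, Int.ofNat 0, Int.ofNat 0, Int.ofNat 0, Int.ofNat 2, Int.ofNat 0, Int.ofNat 2, Int.ofNat 2, Int.ofNat 0, Int.ofNat 0],
  [Int.ofNat 2, Int.negSucc 1, Int.ofNat 2, Int.negSucc 1, Int.ofNat 0, Int.ofNat 0, Int.ofNat 0, Int.ofNat 0, Int.ofNat 0, Int.ofNat 0, Int.ofNat 0, Int.ofNat 0, Int.ofNat 0, Int.negSucc 1, Int.ofNat 0, Int.ofNat 0, Int.ofNat 0, Int.ofNat 0, Int.negSucc 1, Int.ofNat 0, Int.ofNat 2, Int.ofNat 2, Int.ofNat 0, Int.ofNat 0],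
  [Int.ofNat 0, Int.ofNat 0, Int.ofNat 0, Int.ofNat 0, Int.ofNat 0, Int.ofNat 0, Int.ofNat 2, Int.negSucc 1, Int.ofNat 0, Int.ofNat 2, Int.negSucc 1, Int.ofNat 0, Int.ofNat 0, Int.ofNat 0, Int.ofNat 0, Int.negSucc 1, Int.ofNat 0, Int.ofNat 0, Int.ofNat 0, Int.ofNat 2, Int.ofNat 2, Int.negSucc 1, Int.ofNat 0, Int.ofNat 0],
  [Int.ofNat 0, Int.ofNat 0, Int.ofNat 0, Int.negSucc 1, Int.ofNat 0, Int.ofNat 2, Int.ofNat 2, Int.ofNat 0, Int.ofNat 2, Int.ofNat 0, Int.ofNat 0, Int.ofNat 0, Int.negSucc 1, Int.negSucc 1, Int.ofNat 0, Int.ofNat 0, Int.negSucc 1, Int.ofNat 0, Int.ofNat 0, Int.ofNat 2, Int.ofNat 0, Int.ofNat 0, Int.ofNat 0, Int.ofNat 0],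
  [Int.ofNat 0, Int.ofNat 0, Int.ofNat 0, Int.negSucc 1, Int.ofNat 0, Int.ofNat 2, Int.ofNat 2, Int.ofNat 0, Int.ofNat 2, Int.ofNat 0, Int.ofNat 0, Int.ofNat 0, Int.negSucc 1, Int.negSucc 1, Int.ofNat 0, Int.ofNat 0, Int.negSucc 1, Int.ofNat 0, Int.ofNat 0, Int.ofNat 2, Int.ofNat 0, Int.ofNat 0, Int.ofNat 0, Int.ofNat 0],
  [Int.ofNat 0, Int.ofNat 0, Int.ofNat 0, Int.ofNat 0, Int.negSucc 1, Int.ofNat 0, Int.ofNat 2, Int.ofNat 2, Int.ofNat 0, Int.ofNat 2, Int.ofNat 0, Int.ofNat 0, Int.ofNat 0, Int.negSucc 1, Int.negSucc 1, Int.ofNat 0, Int.ofNat 0, Int.negSucc 1, Int.ofNat 0, Int.ofNat 0, Int.ofNat 2, Int.ofNat 0, Int.ofNat 0, Int.ofNat 0],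
  [Int.ofNat 0, Int.ofNat 0, Int.ofNat 0, Int.ofNat 2, Int.ofNat 0, Int.ofNat 2, Int.ofNat 0, Int.ofNat 0, Int.ofNat 0, Int.ofNat 0, Int.negSucc 1, Int.ofNat 0, Int.ofNat 0, Int.ofNat 0, Int.ofNat 0, Int.negSucc 1, Int.ofNat 2, Int.ofNat 0, Int.ofNat 0, Int.negSucc 1, Int.ofNat 0, Int.negSucc 1, Int.ofNat 2, Int.ofNat 0],
  [Int.ofNat 2, Int.ofNat 0, Int.ofNat 2, Int.ofNat 0, Int.ofNat 0, Int.ofNat 0, Int.ofNat 0, Int.negSucc 1, Int.ofNat 0, Int.ofNat 0, Int.ofNat 0, Int.ofNat 0, Int.negSucc 1, Int.ofNat 2, Int.ofNat 0, Int.ofNat 0, Int.negSucc 1, Int.ofNat 0, Int.negSucc 1, Int.ofNat 2, Int.ofNat 0, Int.ofNat 0, Int.ofNat 0, Int.ofNat 0],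
  [Int.ofNat 0, Int.ofNat 2, Int.ofNat 0, Int.ofNat 0, Int.ofNat 0, Int.ofNat 0, Int.ofNat 0, Int.negSucc 1, Int.ofNat 2, Int.ofNat 0, Int.ofNat 0, Int.ofNat 2, Int.ofNat 0, Int.ofNat 2, Int.ofNat 0, Int.ofNat 0, Int.negSucc 1, Int.ofNat 0, Int.ofNat 0, Int.ofNat 2, Int.ofNat 0, Int.ofNat 0, Int.ofNat 0, Int.ofNat 2],
  [Int.ofNat 0, Int.ofNat 0, Int.ofNat 0, Int.ofNat 0, Int.ofNat 0, Int.negSucc 1, Int.ofNat 0, Int.ofNat 0, Int.ofNat 0, Int.ofNat 2, Int.ofNat 0, Int.ofNat 0, Int.ofNat 0, Int.negSucc 1, Int.ofNat 0, Int.ofNat 0, Int.ofNat 2, Int.ofNat 0, Int.ofNat 2, Int.ofNat 2, Int.ofNat 0, Int.ofNat 0, Int.ofNat 2, Int.ofNat 2],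
  [Int.ofNat 1, Int.ofNat 1, Int.ofNat 1, Int.ofNat 1, Int.negSucc 0, Int.negSucc 0, Int.negSucc 0, Int.negSucc 0, Int.negSucc 0, Int.ofNat 1, Int.negSucc 0, Int.negSucc 0, Int.negSucc 0, Int.negSucc 2, Int.ofNat 1, Int.negSucc 0, Int.ofNat 1, Int.ofNat 1, Int.ofNat 1, Int.ofNat 1, Int.negSucc 0, Int.negSucc 0, Int.ofNat 1, Int.negSucc 0],
  [Int.ofNat 1, Int.ofNat 1, Int.negSucc 0, Int.ofNat 1, Int.negSucc 0, Int.ofNat 1, Int.ofNat 1, Int.negSucc 0, Int.negSucc 0, Int.negSucc 0, Int.ofNat 1, Int.negSucc 0, Int.negSucc 0, Int.negSucc 2, Int.ofNat 1, Int.ofNat 1, Int.ofNat 1, Int.ofNat 1, Int.negSucc 0, Int.ofNat 1, Int.negSucc 0, Int.negSucc 0, Int.negSucc 0, Int.negSucc 0],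
  [Int.ofNat 1, Int.negSucc 0, Int.ofNat 1, Int.negSucc 0, Int.ofNat 1, Int.negSucc 0, Int.ofNat 1, Int.negSucc 0, Int.ofNat 1, Int.negSucc 0, Int.negSucc 0, Int.negSucc 0, Int.ofNat 1, Int.ofNat 1, Int.negSucc 0, Int.ofNat 1, Int.ofNat 1, Int.negSucc 0, Int.negSucc 0, Int.ofNat 1, Int.ofNat 1, Int.negSucc 0, Int.negSucc 2, Int.negSucc 0],
  [Int.ofNat 1, Int.negSucc 0, Int.negSucc 0, Int.negSucc 0, Int.ofNat 1, Int.ofNat 1, Int.negSucc 0, Int.negSucc 0, Int.ofNat 1, Int.ofNat 1, Int.ofNat 1, Int.negSucc 0, Int.ofNat 1, Int.ofNat 1, Int.negSucc 0, Int.negSucc 0, Int.ofNat 1, Int.negSucc 0, Int.ofNat 1, Int.ofNat 1, Int.ofNat 1, Int.negSucc 0, Int.ofNat 3, Int.negSucc 0],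
  [Int.negSucc 1, Int.ofNat 0, Int.ofNat 0, Int.ofNat 0, Int.negSucc 1, Int.ofNat 2, Int.ofNat 0, Int.ofNat 0, Int.ofNat 0, Int.ofNat 0, Int.ofNat 0, Int.negSucc 1, Int.ofNat 0, Int.negSucc 1, Int.ofNat 0, Int.negSucc 1, Int.negSucc 1, Int.ofNat 0, Int.ofNat 0, Int.ofNat 2, Int.ofNat 0, Int.ofNat 0, Int.ofNat 0, Int.ofNat 0],
  [Int.negSucc 1, Int.ofNat 0, Int.ofNat 0, Int.ofNat 0, Int.ofNat 0, Int.ofNat 0, Int.ofNat 0, Int.ofNat 2, Int.negSucc 1, Int.ofNat 0, Int.ofNat 0, Int.ofNat 2, Int.ofNat 0, Int.ofNat 0, Int.ofNat 0, Int.negSucc 1, Int.negSucc 1, Int.negSucc 1, Int.negSucc 1, Int.ofNat 0, Int.ofNat 0, Int.ofNat 0, Int.ofNat 0, Int.ofNat 0],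
  [Int.ofNat 1, Int.negSucc 0, Int.negSucc 0, Int.ofNat 1, Int.ofNat 1, Int.ofNat 1, Int.negSucc 0, Int.ofNat 1, Int.negSucc 0, Int.ofNat 1, Int.ofNat 1, Int.ofNat 3, Int.ofNat 1, Int.ofNat 1, Int.ofNat 1, Int.negSucc 0, Int.negSucc 0, Int.negSucc 0, Int.negSucc 0, Int.negSucc 0, Int.ofNat 1, Int.negSucc 0, Int.ofNat 1, Int.negSucc 0],
  [Int.ofNat 1, Int.negSucc 0, Int.ofNat 1, Int.ofNat 1, Int.negSucc 0, Int.negSucc 0, Int.ofNat 1, Int.ofNat 1, Int.ofNat 1, Int.negSucc 0, Int.ofNat 1, Int.negSucc 0, Int.ofNat 1, Int.ofNat 1, Int.ofNat 3, Int.ofNat 1, Int.ofNat 1, Int.ofNat 1, Int.negSucc 0, Int.negSucc 0, Int.negSucc 0, Int.negSucc 0, Int.negSucc 0, Int.negSucc 0],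
  [Int.negSucc 0, Int.ofNat 1, Int.negSucc 0, Int.negSucc 0, Int.negSucc 0, Int.negSucc 2, Int.ofNat 1, Int.ofNat 1, Int.ofNat 1, Int.negSucc 0, Int.ofNat 1, Int.negSucc 0, Int.ofNat 1, Int.ofNat 1, Int.ofNat 1, Int.ofNat 1, Int.ofNat 1, Int.negSucc 0, Int.negSucc 0, Int.negSucc 0, Int.negSucc 0, Int.negSucc 0, Int.negSucc 0, Int.ofNat 1],
  [Int.ofNat 1, Int.negSucc 0, Int.negSucc 0, Int.negSucc 0, Int.negSucc 2, Int.ofNat 1, Int.ofNat 1, Int.ofNat 1, Int.negSucc 0, Int.ofNat 1, Int.negSucc 0, Int.ofNat 1, Int.ofNat 1, Int.ofNat 1, Int.ofNat 1, Int.ofNat 1, Int.negSucc 0, Int.negSucc 0, Int.negSucc 0, Int.negSucc 0, Int.negSucc 0, Int.negSucc 0, Int.negSucc 0, Int.ofNat 1],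
  [Int.negSucc 0, Int.negSucc 0, Int.ofNat 1, Int.negSucc 0, Int.negSucc 2, Int.ofNat 1, Int.ofNat 1, Int.negSucc 0, Int.negSucc 0, Int.negSucc 0, Int.ofNat 1, Int.negSucc 0, Int.ofNat 1, Int.ofNat 1, Int.ofNat 1, Int.ofNat 1, Int.negSucc 0, Int.negSucc 0, Int.ofNat 1, Int.negSucc 0, Int.negSucc 0, Int.ofNat 1, Int.negSucc 0, Int.ofNat 1]]

set_option maxRecDepth 100000 in
theorem c1te1_chk : pmChk (List.replicate 14 [1, 0, 26, 25]).flatten nxL c1te1M 0 0 = true := by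
  decide +kernel

theorem c1te1_ne : wE letE2 (List.replicate 14 [1, 0, 26, 25]).flatten ≠ 1 ∧ wE letE2 (List.replicate 14 [1, 0, 26, 25]).flatten ≠ negElt :=
  ne_pm_of_chk nxL_mem c1te1_chk

set_option maxRecDepth 100000 in
def c1te2M : List (List ℤ) :=
  [[Int.ofNat 4, Int.ofNat 0, Int.ofNat 0, Int.ofNat 0, Int.ofNat 0, Int.ofNat 0, Int.ofNat 0, Int.ofNat 0, Int.ofNat 0, Int.ofNat 0, Int.ofNat 0, Int.ofNat 0, Int.ofNat 0, Int.ofNat 0, Int.ofNat 0, Int.ofNat 0, Int.ofNat 0, Int.ofNat 0, Int.ofNat 0, Int.ofNat 0, Int.ofNat 0, Int.ofNat 0, Int.ofNat 0, Int.ofNat 4],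
  [Int.ofNat 4, Int.ofNat 0, Int.ofNat 0, Int.ofNat 0, Int.ofNat 0, Int.ofNat 0, Int.ofNat 0, Int.ofNat 0, Int.ofNat 0, Int.ofNat 0, Int.ofNat 0, Int.ofNat 0, Int.ofNat 0, Int.ofNat 0, Int.ofNat 0, Int.ofNat 0, Int.ofNat 0, Int.ofNat 0, Int.ofNat 0, Int.ofNat 0, Int.ofNat 0, Int.ofNat 0, Int.ofNat 0, Int.ofNat 4],
  [Int.negSucc 3, Int.ofNat 0, Int.ofNat 0, Int.ofNat 0, Int.ofNat 0, Int.ofNat 0, Int.ofNat 0, Int.ofNat 0, Int.ofNat 0, Int.ofNat 0, Int.ofNat 0, Int.ofNat 0, Int.ofNat 0, Int.ofNat 0, Int.ofNat 0, Int.ofNat 0, Int.ofNat 0, Int.ofNat 0, Int.ofNat 0, Int.ofNat 0, Int.ofNat 0, Int.ofNat 0, Int.ofNat 0, Int.ofNat 4],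
  [Int.ofNat 0, Int.negSucc 3, Int.ofNat 0, Int.ofNat 0, Int.ofNat 0, Int.ofNat 0, Int.ofNat 0, Int.ofNat 0, Int.ofNat 0, Int.ofNat 0, Int.ofNat 0, Int.ofNat 0, Int.ofNat 0, Int.ofNat 0, Int.ofNat 0, Int.ofNat 0, Int.ofNat 0, Int.ofNat 0, Int.ofNat 0, Int.ofNat 0, Int.ofNat 0, Int.ofNat 0, Int.ofNat 0, Int.ofNat 4],
  [Int.ofNat 0, Int.ofNat 4, Int.ofNat 0, Int.ofNat 0, Int.ofNat 0, Int.ofNat 0, Int.ofNat 0, Int.ofNat 0, Int.ofNat 0, Int.ofNat 0, Int.ofNat 0, Int.ofNat 0, Int.ofNat 0, Int.ofNat 0, Int.ofNat 0, Int.ofNat 0, Int.ofNat 0, Int.ofNat 0, Int.ofNat 0, Int.ofNat 0, Int.ofNat 0, Int.ofNat 0, Int.ofNat 0, Int.negSucc 3],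
  [Int.ofNat 0, Int.ofNat 0, Int.ofNat 0, Int.ofNat 0, Int.ofNat 0, Int.ofNat 0, Int.ofNat 0, Int.ofNat 0, Int.ofNat 0, Int.ofNat 0, Int.ofNat 0, Int.ofNat 0, Int.ofNat 0, Int.ofNat 0, Int.ofNat 0, Int.ofNat 0, Int.ofNat 0, Int.ofNat 0, Int.ofNat 0, Int.ofNat 0, Int.ofNat 0, Int.ofNat 4, Int.ofNat 0, Int.negSucc 3],
  [Int.negSucc 1, Int.negSucc 1, Int.negSucc 1, Int.ofNat 0, Int.ofNat 0, Int.ofNat 0, Int.negSucc 1, Int.negSucc 1, Int.ofNat 0, Int.ofNat 0, Int.ofNat 0, Int.ofNat 0, Int.ofNat 0, Int.ofNat 0, Int.ofNat 0, Int.ofNat 0, Int.ofNat 0, Int.ofNat 0, Int.ofNat 0, Int.negSucc 1, Int.ofNat 0, Int.ofNat 2, Int.ofNat 0, Int.ofNat 2],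
  [Int.negSucc 1, Int.negSucc 1, Int.ofNat 0, Int.ofNat 0, Int.ofNat 0, Int.negSucc 1, Int.negSucc 1, Int.ofNat 0, Int.ofNat 0, Int.ofNat 0, Int.ofNat 0, Int.ofNat 0, Int.ofNat 0, Int.ofNat 0, Int.ofNat 0, Int.ofNat 0, Int.ofNat 0, Int.ofNat 0, Int.negSucc 1, Int.ofNat 0, Int.ofNat 2, Int.ofNat 0, Int.negSucc 1, Int.ofNat 2],
  [Int.ofNat 1, Int.ofNat 1, Int.negSucc 0, Int.ofNat 1, Int.ofNat 1, Int.negSucc 0, Int.negSucc 0, Int.ofNat 1, Int.ofNat 1, Int.negSucc 0, Int.negSucc 0, Int.ofNat 1, Int.ofNat 1, Int.ofNat 1, Int.ofNat 1, Int.negSucc 0, Int.ofNat 1, Int.ofNat 1, Int.negSucc 0, Int.ofNat 1, Int.ofNat 1, Int.ofNat 1, Int.negSucc 0, Int.negSucc 2],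
  [Int.ofNat 1, Int.ofNat 1, Int.ofNat 1, Int.ofNat 1, Int.ofNat 1, Int.ofNat 1, Int.ofNat 1, Int.ofNat 1, Int.ofNat 1, Int.ofNat 1, Int.ofNat 1, Int.ofNat 1, Int.ofNat 1, Int.ofNat 1, Int.ofNat 1, Int.ofNat 1, Int.ofNat 1, Int.ofNat 1, Int.ofNat 1, Int.ofNat 1, Int.ofNat 1, Int.ofNat 1, Int.ofNat 1, Int.negSucc 2],
  [Int.ofNat 1, Int.ofNat 1, Int.ofNat 1, Int.ofNat 1, Int.ofNat 1, Int.ofNat 1, Int.ofNat 1, Int.ofNat 1, Int.ofNat 1, Int.ofNat 1, Int.ofNat 1, Int.ofNat 1, Int.ofNat 1, Int.ofNat 1, Int.ofNat 1, Int.ofNat 1, Int.ofNat 1, Int.ofNat 1, Int.ofNat 1, Int.ofNat 1, Int.ofNat 1, Int.ofNat 1, Int.ofNat 1, Int.negSucc 2],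
  [Int.negSucc 2, Int.ofNat 1, Int.ofNat 1, Int.ofNat 1, Int.ofNat 1, Int.ofNat 1, Int.ofNat 1, Int.ofNat 1, Int.ofNat 1, Int.ofNat 1, Int.ofNat 1, Int.ofNat 1, Int.ofNat 1, Int.ofNat 1, Int.ofNat 1, Int.ofNat 1, Int.ofNat 1, Int.ofNat 1, Int.ofNat 1, Int.ofNat 1, Int.ofNat 1, Int.ofNat 1, Int.ofNat 1, Int.ofNat 1],
  [Int.ofNat 3, Int.ofNat 1, Int.negSucc 0, Int.ofNat 1, Int.ofNat 1, Int.ofNat 1, Int.ofNat 1, Int.negSucc 0, Int.ofNat 1, Int.negSucc 0, Int.negSucc 0, Int.negSucc 0, Int.ofNat 1, Int.ofNat 1, Int.ofNat 1, Int.ofNat 1, Int.ofNat 1, Int.ofNat 1, Int.negSucc 0, Int.ofNat 1, Int.ofNat 1, Int.negSucc 0, Int.ofNat 1, Int.ofNat 1],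
  [Int.ofNat 1, Int.ofNat 3, Int.ofNat 1, Int.negSucc 0, Int.ofNat 1, Int.ofNat 1, Int.ofNat 1, Int.ofNat 1, Int.negSucc 0, Int.ofNat 1, Int.negSucc 0, Int.negSucc 0, Int.negSucc 0, Int.ofNat 1, Int.ofNat 1, Int.ofNat 1, Int.ofNat 1, Int.ofNat 1, Int.ofNat 1, Int.negSucc 0, Int.ofNat 1, Int.ofNat 1, Int.negSucc 0, Int.ofNat 1],
  [Int.ofNat 2, Int.ofNat 0, Int.ofNat 2, Int.negSucc 1, Int.ofNat 0, Int.ofNat 0, Int.ofNat 0, Int.ofNat 0, Int.ofNat 0, Int.ofNat 0, Int.negSucc 1, Int.ofNat 0, Int.ofNat 0, Int.ofNat 0, Int.ofNat 0, Int.ofNat 0, Int.ofNat 0, Int.ofNat 0, Int.ofNat 2, Int.negSucc 1, Int.ofNat 0, Int.ofNat 0, Int.negSucc 1, Int.ofNat 2],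
  [Int.negSucc 1, Int.ofNat 0, Int.ofNat 0, Int.ofNat 0, Int.ofNat 0, Int.ofNat 0, Int.ofNat 0, Int.negSucc 1, Int.ofNat 0, Int.ofNat 0, Int.ofNat 0, Int.ofNat 0, Int.ofNat 0, Int.ofNat 0, Int.ofNat 0, Int.ofNat 2, Int.negSucc 1, Int.ofNat 0, Int.ofNat 0, Int.negSucc 1, Int.ofNat 2, Int.ofNat 0, Int.ofNat 2, Int.ofNat 2],
  [Int.ofNat 2, Int.ofNat 0, Int.ofNat 0, Int.ofNat 0, Int.ofNat 0, Int.ofNat 0, Int.ofNat 2, Int.ofNat 0, Int.ofNat 0, Int.negSucc 1, Int.negSucc 1, Int.ofNat 0, Int.ofNat 0, Int.ofNat 0, Int.ofNat 0, Int.ofNat 0, Int.negSucc 1, Int.ofNat 0, Int.ofNat 0, Int.ofNat 0, Int.ofNat 0, Int.ofNat 2, Int.ofNat 2, Int.negSucc 1],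
  [Int.ofNat 2, Int.ofNat 2, Int.ofNat 0, Int.ofNat 0, Int.ofNat 0, Int.ofNat 0, Int.ofNat 0, Int.negSucc 1, Int.ofNat 0, Int.ofNat 0, Int.ofNat 0, Int.ofNat 0, Int.negSucc 1, Int.negSucc 1, Int.ofNat 2, Int.ofNat 0, Int.ofNat 0, Int.ofNat 0, Int.ofNat 0, Int.ofNat 0, Int.ofNat 2, Int.ofNat 0, Int.ofNat 0, Int.negSucc 1],
  [Int.negSucc 0, Int.negSucc 0, Int.ofNat 1, Int.negSucc 0, Int.ofNat 1, Int.negSucc 0, Int.ofNat 1, Int.negSucc 0, Int.ofNat 1, Int.negSucc 0, Int.negSucc 0, Int.ofNat 1, Int.negSucc 0, Int.negSucc 0, Int.ofNat 1, Int.negSucc 0, Int.ofNat 1, Int.negSucc 0, Int.ofNat 1, Int.ofNat 1, Int.ofNat 1, Int.ofNat 1, Int.ofNat 1, Int.ofNat 3],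
  [Int.negSucc 0, Int.negSucc 0, Int.negSucc 0, Int.negSucc 0, Int.ofNat 1, Int.ofNat 1, Int.negSucc 0, Int.negSucc 0, Int.ofNat 1, Int.ofNat 1, Int.ofNat 1, Int.ofNat 1, Int.negSucc 0, Int.negSucc 0, Int.ofNat 1, Int.ofNat 1, Int.ofNat 1, Int.negSucc 0, Int.negSucc 0, Int.ofNat 1, Int.ofNat 1, Int.ofNat 1, Int.negSucc 0, Int.ofNat 3],
  [Int.negSucc 0, Int.negSucc 0, Int.ofNat 1, Int.ofNat 1, Int.ofNat 1, Int.negSucc 0, Int.ofNat 1, Int.negSucc 0, Int.ofNat 1, Int.negSucc 0, Int.negSucc 0, Int.ofNat 1, Int.ofNat 1, Int.ofNat 1, Int.ofNat 1, Int.negSucc 0, Int.ofNat 1, Int.ofNat 1, Int.negSucc 0, Int.negSucc 0, Int.ofNat 1, Int.negSucc 0, Int.negSucc 0, Int.ofNat 3],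
  [Int.negSucc 0, Int.negSucc 0, Int.negSucc 0, Int.ofNat 1, Int.ofNat 1, Int.ofNat 1, Int.negSucc 0, Int.negSucc 0, Int.ofNat 1, Int.ofNat 1, Int.ofNat 1, Int.ofNat 1, Int.ofNat 1, Int.ofNat 1, Int.ofNat 1, Int.ofNat 1, Int.ofNat 1, Int.ofNat 1, Int.ofNat 1, Int.negSucc 0, Int.ofNat 1, Int.negSucc 0, Int.ofNat 1, Int.ofNat 3],
  [Int.ofNat 1, Int.ofNat 1, Int.ofNat 1, Int.negSucc 0, Int.negSucc 0, Int.negSucc 0, Int.ofNat 1, Int.ofNat 1, Int.negSucc 0, Int.negSucc 0, Int.negSucc 0, Int.negSucc 0, Int.negSucc 0, Int.negSucc 0, Int.negSucc 0, Int.negSucc 0, Int.negSucc 0, Int.negSucc 0, Int.negSucc 0, Int.ofNat 1, Int.negSucc 0, Int.ofNat 1, Int.negSucc 0, Int.negSucc 2],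
  [Int.ofNat 1, Int.negSucc 0, Int.ofNat 1, Int.negSucc 0, Int.ofNat 1, Int.ofNat 1, Int.ofNat 1, Int.negSucc 0, Int.negSucc 0, Int.negSucc 0, Int.ofNat 1, Int.ofNat 1, Int.negSucc 0, Int.negSucc 0, Int.negSucc 0, Int.negSucc 0, Int.negSucc 0, Int.negSucc 0, Int.negSucc 0, Int.negSucc 0, Int.negSucc 0, Int.negSucc 0, Int.negSucc 0, Int.negSucc 2],
  [Int.negSucc 1, Int.ofNat 0, Int.negSucc 1, Int.ofNat 0, Int.ofNat 2, Int.ofNat 2, Int.ofNat 2, Int.ofNat 0, Int.ofNat 0, Int.ofNat 0, Int.ofNat 2, Int.ofNat 2, Int.ofNat 0, Int.ofNat 0, Int.ofNat 0, Int.ofNat 0, Int.ofNat 0, Int.ofNat 0, Int.ofNat 0, Int.ofNat 0, Int.ofNat 0, Int.ofNat 0, Int.ofNat 0, Int.ofNat 2],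
  [Int.ofNat 0, Int.ofNat 0, Int.ofNat 0, Int.negSucc 1, Int.ofNat 0, Int.negSucc 1, Int.ofNat 0, Int.ofNat 2, Int.ofNat 2, Int.ofNat 2, Int.ofNat 0, Int.ofNat 0, Int.ofNat 0, Int.ofNat 2, Int.ofNat 2, Int.ofNat 0, Int.ofNat 0, Int.ofNat 0, Int.ofNat 0, Int.ofNat 0, Int.ofNat 0, Int.ofNat 0, Int.ofNat 0, Int.ofNat 2],
  [Int.ofNat 1, Int.ofNat 1, Int.ofNat 1, Int.negSucc 0, Int.negSucc 0, Int.negSucc 0, Int.negSucc 0, Int.ofNat 1, Int.ofNat 1, Int.ofNat 1, Int.negSucc 0, Int.negSucc 0, Int.negSucc 0, Int.ofNat 1, Int.ofNat 3, Int.negSucc 0, Int.negSucc 0, Int.ofNat 1, Int.negSucc 0, Int.negSucc 0, Int.negSucc 0, Int.negSucc 0, Int.negSucc 0, Int.negSucc 0],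
  [Int.ofNat 1, Int.ofNat 1, Int.negSucc 0, Int.negSucc 0, Int.negSucc 0, Int.negSucc 0, Int.ofNat 1, Int.ofNat 1, Int.ofNat 1, Int.negSucc 0, Int.negSucc 0, Int.negSucc 0, Int.ofNat 1, Int.ofNat 3, Int.negSucc 0, Int.negSucc 0, Int.ofNat 1, Int.negSucc 0, Int.negSucc 0, Int.negSucc 0, Int.negSucc 0, Int.negSucc 0, Int.ofNat 1, Int.negSucc 0],
  [Int.negSucc 0, Int.ofNat 1, Int.ofNat 1, Int.negSucc 0, Int.negSucc 0, Int.negSucc 0, Int.ofNat 1, Int.negSucc 0, Int.ofNat 1, Int.ofNat 1, Int.ofNat 1, Int.ofNat 1, Int.ofNat 1, Int.ofNat 3, Int.negSucc 0, Int.negSucc 0, Int.ofNat 1, Int.negSucc 0, Int.ofNat 1, Int.negSucc 0, Int.negSucc 0, Int.ofNat 1, Int.ofNat 1, Int.negSucc 0],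
  [Int.ofNat 1, Int.negSucc 0, Int.negSucc 0, Int.ofNat 1, Int.ofNat 1, Int.negSucc 0, Int.negSucc 0, Int.negSucc 0, Int.negSucc 0, Int.negSucc 0, Int.ofNat 1, Int.ofNat 1, Int.negSucc 0, Int.negSucc 2, Int.negSucc 0, Int.negSucc 0, Int.negSucc 0, Int.negSucc 0, Int.negSucc 0, Int.negSucc 0, Int.negSucc 0, Int.ofNat 1, Int.ofNat 1, Int.negSucc 0],
  [Int.ofNat 1, Int.negSucc 0, Int.negSucc 0, Int.ofNat 1, Int.negSucc 0, Int.ofNat 1, Int.ofNat 1, Int.negSucc 0, Int.negSucc 0, Int.negSucc 0, Int.ofNat 1, Int.negSucc 0, Int.negSucc 2, Int.negSucc 0, Int.negSucc 0, Int.negSucc 0, Int.negSucc 0, Int.ofNat 1, Int.negSucc 0, Int.negSucc 0, Int.negSucc 0, Int.negSucc 0, Int.ofNat 1, Int.negSucc 0],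
  [Int.negSucc 0, Int.negSucc 0, Int.ofNat 1, Int.ofNat 1, Int.negSucc 0, Int.ofNat 1, Int.ofNat 1, Int.ofNat 1, Int.negSucc 0, Int.ofNat 1, Int.negSucc 0, Int.ofNat 1, Int.negSucc 2, Int.negSucc 0, Int.negSucc 0, Int.negSucc 0, Int.negSucc 0, Int.ofNat 1, Int.ofNat 1, Int.negSucc 0, Int.negSucc 0, Int.ofNat 1, Int.ofNat 1, Int.negSucc 0],
  [Int.ofNat 1, Int.negSucc 0, Int.negSucc 0, Int.ofNat 1, Int.ofNat 1, Int.negSucc 0, Int.ofNat 1, Int.ofNat 1, Int.ofNat 1, Int.negSucc 0, Int.ofNat 1, Int.negSucc 0, Int.ofNat 1, Int.negSucc 2, Int.negSucc 0, Int.negSucc 0, Int.negSucc 0, Int.negSucc 0, Int.ofNat 1, Int.ofNat 1, Int.negSucc 0, Int.negSucc 0, Int.ofNat 1, Int.negSucc 0],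
  [Int.negSucc 1, Int.ofNat 0, Int.ofNat 0, Int.ofNat 2, Int.ofNat 2, Int.ofNat 0, Int.ofNat 0, Int.ofNat 0, Int.ofNat 0, Int.ofNat 0, Int.ofNat 2, Int.negSucc 1, Int.ofNat 0, Int.negSucc 1, Int.ofNat 0, Int.ofNat 0, Int.ofNat 0, Int.ofNat 0, Int.ofNat 0, Int.ofNat 0, Int.ofNat 0, Int.negSucc 1, Int.ofNat 2, Int.ofNat 0],
  [Int.ofNat 2, Int.ofNat 2, Int.ofNat 0, Int.ofNat 0, Int.ofNat 0, Int.ofNat 0, Int.ofNat 0, Int.ofNat 2, Int.negSucc 1, Int.ofNat 0, Int.negSucc 1, Int.ofNat 0, Int.ofNat 0, Int.ofNat 0, Int.ofNat 0, Int.ofNat 0, Int.ofNat 0, Int.ofNat 0, Int.negSucc 1, Int.ofNat 2, Int.negSucc 1, Int.ofNat 0, Int.ofNat 0, Int.ofNat 0],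
  [Int.ofNat 0, Int.ofNat 0, Int.ofNat 2, Int.ofNat 0, Int.ofNat 0, Int.ofNat 0, Int.negSucc 1, Int.ofNat 0, Int.ofNat 0, Int.ofNat 2, Int.ofNat 0, Int.ofNat 2, Int.ofNat 2, Int.ofNat 0, Int.ofNat 0, Int.ofNat 2, Int.ofNat 0, Int.ofNat 0, Int.ofNat 0, Int.ofNat 0, Int.ofNat 0, Int.negSucc 1, Int.ofNat 0, Int.ofNat 2],
  [Int.ofNat 0, Int.negSucc 1, Int.ofNat 0, Int.ofNat 0, Int.ofNat 0, Int.ofNat 0, Int.ofNat 2, Int.ofNat 0, Int.ofNat 2, Int.ofNat 0, Int.ofNat 0, Int.ofNat 0, Int.ofNat 2, Int.ofNat 0, Int.ofNat 0, Int.ofNat 2, Int.ofNat 0, Int.ofNat 0, Int.ofNat 0, Int.ofNat 2, Int.negSucc 1, Int.ofNat 0, Int.ofNat 0, Int.ofNat 2],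
  [Int.ofNat 0, Int.ofNat 2, Int.ofNat 0, Int.ofNat 0, Int.ofNat 0, Int.ofNat 0, Int.ofNat 0, Int.negSucc 1, Int.ofNat 0, Int.ofNat 0, Int.ofNat 0, Int.negSucc 1, Int.ofNat 0, Int.ofNat 0, Int.ofNat 0, Int.ofNat 2, Int.ofNat 0, Int.ofNat 0, Int.negSucc 1, Int.ofNat 0, Int.negSucc 1, Int.negSucc 1, Int.ofNat 0, Int.negSucc 1],
  [Int.ofNat 0, Int.ofNat 2, Int.ofNat 0, Int.ofNat 0, Int.ofNat 0, Int.ofNat 0, Int.ofNat 0, Int.negSucc 1, Int.ofNat 0, Int.ofNat 0, Int.ofNat 0, Int.negSucc 1, Int.ofNat 0, Int.ofNat 0, Int.ofNat 0, Int.negSucc 1, Int.ofNat 0, Int.ofNat 0, Int.ofNat 2, Int.ofNat 0, Int.negSucc 1, Int.negSucc 1, Int.ofNat 0, Int.negSucc 1],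
  [Int.ofNat 0, Int.ofNat 0, Int.negSucc 1, Int.ofNat 0, Int.ofNat 0, Int.ofNat 0, Int.negSucc 1, Int.ofNat 0, Int.ofNat 0, Int.negSucc 1, Int.ofNat 0, Int.negSucc 1, Int.negSucc 1, Int.ofNat 0, Int.ofNat 0, Int.ofNat 2, Int.ofNat 0, Int.ofNat 0, Int.ofNat 0, Int.ofNat 0, Int.ofNat 0, Int.ofNat 2, Int.ofNat 0, Int.negSucc 1],
  [Int.negSucc 1, Int.ofNat 0, Int.negSucc 1, Int.ofNat 2, Int.ofNat 0, Int.negSucc 1, Int.ofNat 0, Int.ofNat 0, Int.ofNat 0, Int.ofNat 0, Int.ofNat 0, Int.negSucc 1, Int.ofNat 2, Int.ofNat 0, Int.ofNat 0, Int.ofNat 0, Int.ofNat 0, Int.ofNat 0, Int.ofNat 0, Int.negSucc 1, Int.ofNat 0, Int.negSucc 1, Int.ofNat 0, Int.ofNat 0],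
  [Int.ofNat 2, Int.ofNat 0, Int.ofNat 2, Int.ofNat 2, Int.ofNat 0, Int.negSucc 1, Int.ofNat 0, Int.ofNat 0, Int.ofNat 0, Int.ofNat 0, Int.ofNat 0, Int.ofNat 2, Int.ofNat 2, Int.ofNat 0, Int.ofNat 0, Int.ofNat 0, Int.ofNat 0, Int.ofNat 0, Int.ofNat 0, Int.negSucc 1, Int.ofNat 0, Int.ofNat 2, Int.ofNat 0, Int.ofNat 0],
  [Int.ofNat 0, Int.ofNat 2, Int.ofNat 0, Int.ofNat 2, Int.ofNat 2, Int.ofNat 0, Int.negSucc 1, Int.ofNat 0, Int.ofNat 0, Int.ofNat 0, Int.ofNat 0, Int.ofNat 0, Int.ofNat 2, Int.ofNat 2, Int.ofNat 0, Int.ofNat 0, Int.ofNat 0, Int.ofNat 0, Int.ofNat 0, Int.ofNat 0, Int.negSucc 1, Int.ofNat 0, Int.ofNat 2, Int.ofNat 0],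
  [Int.ofNat 1, Int.negSucc 0, Int.ofNat 1, Int.ofNat 1, Int.negSucc 0, Int.negSucc 0, Int.negSucc 0, Int.ofNat 1, Int.negSucc 0, Int.ofNat 1, Int.ofNat 1, Int.negSucc 0, Int.ofNat 1, Int.negSucc 0, Int.negSucc 0, Int.ofNat 1, Int.negSucc 2, Int.negSucc 0, Int.negSucc 0, Int.ofNat 1, Int.negSucc 0, Int.ofNat 1, Int.negSucc 0, Int.ofNat 1],
  [Int.ofNat 1, Int.negSucc 0, Int.negSucc 0, Int.negSucc 0, Int.ofNat 1, Int.negSucc 0, Int.ofNat 1, Int.ofNat 1, Int.negSucc 0, Int.ofNat 1, Int.negSucc 0, Int.negSucc 0, Int.ofNat 1, Int.negSucc 2, Int.negSucc 0, Int.negSucc 0, Int.ofNat 1, Int.negSucc 0, Int.ofNat 1, Int.negSucc 0, Int.ofNat 1, Int.negSucc 0, Int.ofNat 1, Int.ofNat 1],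
  [Int.negSucc 0, Int.ofNat 1, Int.ofNat 1, Int.ofNat 1, Int.ofNat 1, Int.ofNat 1, Int.ofNat 1, Int.ofNat 1, Int.negSucc 0, Int.ofNat 1, Int.negSucc 0, Int.negSucc 0, Int.ofNat 1, Int.negSucc 2, Int.ofNat 1, Int.negSucc 0, Int.ofNat 1, Int.ofNat 1, Int.ofNat 1, Int.negSucc 0, Int.ofNat 1, Int.negSucc 0, Int.ofNat 1, Int.negSucc 0],
  [Int.negSucc 0, Int.ofNat 1, Int.ofNat 1, Int.ofNat 1, Int.ofNat 1, Int.ofNat 1, Int.ofNat 1, Int.negSucc 0, Int.ofNat 1, Int.negSucc 2, Int.ofNat 1, Int.ofNat 1, Int.ofNat 1, Int.ofNat 1, Int.ofNat 1, Int.negSucc 0, Int.negSucc 0, Int.ofNat 1, Int.ofNat 1, Int.negSucc 0, Int.negSucc 0, Int.ofNat 1, Int.negSucc 0, Int.negSucc 0],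
  [Int.ofNat 1, Int.negSucc 0, Int.negSucc 0, Int.negSucc 0, Int.ofNat 1, Int.negSucc 0, Int.ofNat 1, Int.negSucc 0, Int.negSucc 0, Int.negSucc 0, Int.ofNat 3, Int.negSucc 0, Int.negSucc 0, Int.ofNat 1, Int.negSucc 0, Int.ofNat 1, Int.negSucc 0, Int.negSucc 0, Int.negSucc 0, Int.negSucc 0, Int.ofNat 1, Int.ofNat 1, Int.negSucc 0, Int.ofNat 1],
  [Int.ofNat 1, Int.negSucc 0, Int.ofNat 1, Int.negSucc 0, Int.ofNat 1, Int.ofNat 1, Int.negSucc 0, Int.negSucc 0, Int.negSucc 0, Int.ofNat 1, Int.negSucc 2, Int.negSucc 0, Int.negSucc 0, Int.ofNat 1, Int.negSucc 0, Int.negSucc 0, Int.negSucc 0, Int.negSucc 0, Int.ofNat 1, Int.negSucc 0, Int.ofNat 1, Int.ofNat 1, Int.ofNat 1, Int.ofNat 1],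
  [Int.ofNat 1, Int.ofNat 1, Int.ofNat 1, Int.ofNat 1, Int.negSucc 0, Int.negSucc 0, Int.negSucc 0, Int.ofNat 1, Int.negSucc 0, Int.negSucc 0, Int.ofNat 1, Int.negSucc 0, Int.negSucc 0, Int.ofNat 1, Int.negSucc 0, Int.negSucc 0, Int.negSucc 2, Int.ofNat 1, Int.negSucc 0, Int.ofNat 1, Int.ofNat 1, Int.negSucc 0, Int.negSucc 0, Int.ofNat 1],
  [Int.ofNat 1, Int.ofNat 1, Int.negSucc 0, Int.ofNat 1, Int.negSucc 0, Int.ofNat 1, Int.ofNat 1, Int.ofNat 1, Int.negSucc 0, Int.ofNat 1, Int.negSucc 0, Int.negSucc 0, Int.negSucc 0, Int.ofNat 1, Int.negSucc 0, Int.ofNat 1, Int.negSucc 2, Int.ofNat 1, Int.ofNat 1, Int.ofNat 1, Int.ofNat 1, Int.negSucc 0, Int.ofNat 1, Int.ofNat 1],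
  [Int.ofNat 0, Int.ofNat 0, Int.ofNat 2, Int.ofNat 0, Int.ofNat 0, Int.ofNat 0, Int.ofNat 0, Int.ofNat 0, Int.ofNat 0, Int.ofNat 0, Int.negSucc 1, Int.ofNat 0, Int.ofNat 0, Int.ofNat 2, Int.negSucc 1, Int.ofNat 0, Int.negSucc 1, Int.ofNat 0, Int.ofNat 2, Int.ofNat 0, Int.ofNat 0, Int.negSucc 1, Int.ofNat 2, Int.ofNat 0],
  [Int.ofNat 0, Int.ofNat 2, Int.ofNat 0, Int.ofNat 0, Int.ofNat 2, Int.negSucc 1, Int.ofNat 0, Int.ofNat 0, Int.negSucc 1, Int.ofNat 0, Int.ofNat 0, Int.ofNat 0, Int.ofNat 0, Int.ofNat 0, Int.ofNat 0, Int.ofNat 0, Int.ofNat 2, Int.ofNat 0, Int.ofNat 0, Int.ofNat 2, Int.negSucc 1, Int.ofNat 0, Int.negSucc 1, Int.ofNat 0],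
  [Int.ofNat 1, Int.negSucc 0, Int.ofNat 1, Int.ofNat 1, Int.ofNat 1, Int.negSucc 0, Int.negSucc 0, Int.negSucc 0, Int.negSucc 0, Int.ofNat 1, Int.ofNat 1, Int.ofNat 1, Int.ofNat 1, Int.negSucc 0, Int.ofNat 1, Int.ofNat 1, Int.ofNat 1, Int.ofNat 1, Int.ofNat 1, Int.ofNat 1, Int.negSucc 0, Int.negSucc 0, Int.negSucc 2, Int.ofNat 1],
  [Int.negSucc 0, Int.negSucc 0, Int.negSucc 2, Int.ofNat 1, Int.negSucc 0, Int.ofNat 1, Int.ofNat 1, Int.ofNat 1, Int.negSucc 0, Int.negSucc 0, Int.negSucc 0, Int.negSucc 0, Int.ofNat 1, Int.ofNat 1, Int.ofNat 1, Int.ofNat 1, Int.negSucc 0, Int.ofNat 1, Int.ofNat 1, Int.ofNat 1, Int.ofNat 1, Int.ofNat 1, Int.ofNat 1, Int.ofNat 1],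
  [Int.negSucc 0, Int.negSucc 0, Int.ofNat 1, Int.negSucc 0, Int.negSucc 0, Int.negSucc 0, Int.negSucc 0, Int.negSucc 0, Int.negSucc 0, Int.negSucc 0, Int.negSucc 0, Int.negSucc 0, Int.ofNat 1, Int.ofNat 1, Int.negSucc 0, Int.ofNat 1, Int.negSucc 0, Int.negSucc 0, Int.ofNat 1, Int.negSucc 0, Int.ofNat 1, Int.negSucc 0, Int.ofNat 1, Int.negSucc 2],
  [Int.negSucc 0, Int.ofNat 1, Int.negSucc 0, Int.negSucc 0, Int.negSucc 0, Int.negSucc 0, Int.negSucc 0, Int.negSucc 0, Int.negSucc 0, Int.negSucc 0, Int.negSucc 0, Int.ofNat 1, Int.ofNat 1, Int.negSucc 0, Int.ofNat 1, Int.negSucc 0, Int.negSucc 0, Int.ofNat 1, Int.negSucc 0, Int.ofNat 1, Int.negSucc 0, Int.ofNat 1, Int.negSucc 0, Int.negSucc 2],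
  [Int.ofNat 1, Int.ofNat 1, Int.ofNat 1, Int.negSucc 0, Int.negSucc 0, Int.negSucc 0, Int.negSucc 0, Int.ofNat 1, Int.negSucc 0, Int.ofNat 1, Int.ofNat 1, Int.negSucc 0, Int.ofNat 1, Int.negSucc 0, Int.ofNat 1, Int.negSucc 0, Int.negSucc 0, Int.ofNat 1, Int.ofNat 1, Int.ofNat 1, Int.negSucc 0, Int.negSucc 0, Int.negSucc 0, Int.negSucc 2],
  [Int.negSucc 0, Int.negSucc 0, Int.negSucc 0, Int.ofNat 1, Int.ofNat 1, Int.negSucc 0, Int.ofNat 1, Int.ofNat 1, Int.ofNat 1, Int.negSucc 0, Int.ofNat 1, Int.negSucc 0, Int.negSucc 0, Int.ofNat 1, Int.ofNat 1, Int.negSucc 0, Int.ofNat 1, Int.ofNat 1, Int.negSucc 0, Int.ofNat 1, Int.negSucc 0, Int.negSucc 0, Int.negSucc 0, Int.negSucc 2],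
  [Int.negSucc 0, Int.negSucc 0, Int.negSucc 0, Int.ofNat 1, Int.negSucc 0, Int.ofNat 1, Int.ofNat 1, Int.negSucc 0, Int.negSucc 0, Int.ofNat 1, Int.negSucc 0, Int.ofNat 1, Int.ofNat 1, Int.ofNat 1, Int.ofNat 1, Int.negSucc 0, Int.negSucc 0, Int.negSucc 0, Int.ofNat 1, Int.ofNat 1, Int.negSucc 0, Int.ofNat 1, Int.negSucc 0, Int.negSucc 2],
  [Int.ofNat 1, Int.negSucc 0, Int.ofNat 1, Int.ofNat 1, Int.negSucc 0, Int.ofNat 1, Int.ofNat 1, Int.ofNat 1, Int.negSucc 0, Int.negSucc 0, Int.ofNat 1, Int.negSucc 0, Int.ofNat 1, Int.ofNat 1, Int.ofNat 1, Int.negSucc 0, Int.negSucc 0, Int.negSucc 0, Int.negSucc 0, Int.ofNat 1, Int.negSucc 0, Int.negSucc 0, Int.negSucc 0, Int.negSucc 2],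
  [Int.negSucc 0, Int.ofNat 1, Int.negSucc 0, Int.ofNat 1, Int.ofNat 1, Int.negSucc 0, Int.ofNat 1, Int.ofNat 1, Int.ofNat 1, Int.negSucc 0, Int.negSucc 0, Int.ofNat 1, Int.negSucc 0, Int.ofNat 1, Int.ofNat 1, Int.ofNat 1, Int.negSucc 0, Int.negSucc 0, Int.negSucc 0, Int.negSucc 0, Int.ofNat 1, Int.negSucc 0, Int.negSucc 0, Int.negSucc 2],
  [Int.negSucc 0, Int.negSucc 2, Int.negSucc 0, Int.ofNat 1, Int.ofNat 1, Int.negSucc 0, Int.ofNat 1, Int.ofNat 1, Int.ofNat 1, Int.negSucc 0, Int.negSucc 0, Int.ofNat 1, Int.negSucc 0, Int.ofNat 1, Int.ofNat 1, Int.ofNat 1, Int.negSucc 0, Int.negSucc 0, Int.negSucc 0, Int.negSucc 0, Int.ofNat 1, Int.negSucc 0, Int.negSucc 0, Int.ofNat 1],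
  [Int.ofNat 1, Int.ofNat 1, Int.negSucc 0, Int.ofNat 1, Int.ofNat 1, Int.ofNat 1, Int.negSucc 0, Int.negSucc 0, Int.ofNat 1, Int.negSucc 0, Int.ofNat 1, Int.ofNat 1, Int.ofNat 1, Int.negSucc 0, Int.negSucc 0, Int.negSucc 0, Int.negSucc 0, Int.ofNat 1, Int.negSucc 0, Int.negSucc 0, Int.negSucc 0, Int.negSucc 2, Int.negSucc 0, Int.ofNat 1],
  [Int.ofNat 0, Int.ofNat 0, Int.ofNat 2, Int.ofNat 0, Int.ofNat 2, Int.ofNat 0, Int.ofNat 2, Int.ofNat 2, Int.ofNat 0, Int.ofNat 0, Int.ofNat 2, Int.ofNat 0, Int.ofNat 0, Int.ofNat 0, Int.negSucc 1, Int.ofNat 0, Int.ofNat 0, Int.ofNat 0, Int.negSucc 1, Int.ofNat 2, Int.ofNat 0, Int.ofNat 0, Int.ofNat 0, Int.ofNat 0],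
  [Int.ofNat 0, Int.ofNat 2, Int.ofNat 2, Int.ofNat 0, Int.negSucc 1, Int.ofNat 2, Int.ofNat 2, Int.ofNat 2, Int.ofNat 0, Int.ofNat 0, Int.ofNat 0, Int.ofNat 0, Int.ofNat 0, Int.ofNat 0, Int.ofNat 0, Int.ofNat 0, Int.ofNat 0, Int.negSucc 1, Int.ofNat 0, Int.ofNat 0, Int.ofNat 0, Int.ofNat 0, Int.ofNat 2, Int.ofNat 0],
  [Int.ofNat 2, Int.ofNat 0, Int.ofNat 0, Int.ofNat 0, Int.negSucc 1, Int.ofNat 2, Int.ofNat 0, Int.ofNat 0, Int.ofNat 0, Int.ofNat 0, Int.ofNat 0, Int.ofNat 0, Int.ofNat 0, Int.ofNat 0, Int.ofNat 0, Int.ofNat 0, Int.ofNat 0, Int.negSucc 1, Int.ofNat 0, Int.negSucc 1, Int.ofNat 0, Int.negSucc 1, Int.ofNat 2, Int.ofNat 2],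
  [Int.ofNat 2, Int.ofNat 0, Int.ofNat 0, Int.ofNat 0, Int.negSucc 1, Int.negSucc 1, Int.ofNat 0, Int.ofNat 0, Int.ofNat 0, Int.ofNat 0, Int.ofNat 0, Int.ofNat 0, Int.ofNat 0, Int.ofNat 0, Int.ofNat 0, Int.ofNat 0, Int.ofNat 0, Int.negSucc 1, Int.ofNat 0, Int.negSucc 1, Int.ofNat 0, Int.negSucc 1, Int.negSucc 1, Int.ofNat 2],
  [Int.ofNat 0, Int.ofNat 0, Int.ofNat 0, Int.ofNat 0, Int.ofNat 0, Int.ofNat 0, Int.negSucc 1, Int.ofNat 0, Int.negSucc 1, Int.ofNat 0, Int.ofNat 0, Int.ofNat 0, Int.ofNat 0, Int.negSucc 1, Int.negSucc 1, Int.ofNat 0, Int.negSucc 1, Int.ofNat 0, Int.ofNat 0, Int.ofNat 0, Int.ofNat 2, Int.ofNat 0, Int.negSucc 1, Int.ofNat 2],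
  [Int.ofNat 2, Int.negSucc 1, Int.ofNat 0, Int.ofNat 0, Int.ofNat 0, Int.ofNat 0, Int.ofNat 0, Int.negSucc 1, Int.ofNat 2, Int.ofNat 0, Int.negSucc 1, Int.ofNat 0, Int.ofNat 0, Int.ofNat 0, Int.ofNat 0, Int.ofNat 0, Int.ofNat 0, Int.ofNat 0, Int.negSucc 1, Int.negSucc 1, Int.negSucc 1, Int.ofNat 0, Int.ofNat 0, Int.ofNat 0],
  [Int.negSucc 1, Int.negSucc 1, Int.ofNat 0, Int.ofNat 0, Int.ofNat 0, Int.ofNat 0, Int.ofNat 0, Int.ofNat 2, Int.ofNat 2, Int.ofNat 0, Int.ofNat 2, Int.ofNat 0, Int.ofNat 0, Int.ofNat 0, Int.ofNat 0, Int.ofNat 0, Int.ofNat 0, Int.ofNat 0, Int.ofNat 2, Int.negSucc 1, Int.negSucc 1, Int.ofNat 0, Int.ofNat 0, Int.ofNat 0],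
  [Int.ofNat 0, Int.negSucc 1, Int.negSucc 1, Int.ofNat 0, Int.ofNat 0, Int.ofNat 0, Int.ofNat 0, Int.ofNat 0, Int.ofNat 2, Int.ofNat 2, Int.ofNat 0, Int.ofNat 2, Int.ofNat 0, Int.ofNat 0, Int.ofNat 0, Int.ofNat 0, Int.ofNat 0, Int.ofNat 0, Int.ofNat 0, Int.ofNat 2, Int.negSucc 1, Int.negSucc 1, Int.ofNat 0, Int.ofNat 0],
  [Int.negSucc 1, Int.ofNat 0, Int.ofNat 0, Int.ofNat 0, Int.ofNat 0, Int.ofNat 0, Int.ofNat 0, Int.ofNat 0, Int.ofNat 0, Int.ofNat 2, Int.ofNat 0, Int.ofNat 0, Int.negSucc 1, Int.ofNat 0, Int.ofNat 0, Int.ofNat 0, Int.ofNat 0, Int.ofNat 0, Int.negSucc 1, Int.ofNat 2, Int.negSucc 1, Int.negSucc 1, Int.ofNat 0, Int.negSucc 1],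
  [Int.ofNat 0, Int.ofNat 0, Int.ofNat 0, Int.ofNat 0, Int.ofNat 0, Int.ofNat 0, Int.ofNat 2, Int.ofNat 0, Int.ofNat 0, Int.negSucc 1, Int.ofNat 0, Int.ofNat 0, Int.ofNat 0, Int.ofNat 0, Int.ofNat 0, Int.negSucc 1, Int.ofNat 2, Int.negSucc 1, Int.negSucc 1, Int.ofNat 0, Int.negSucc 1, Int.ofNat 0, Int.ofNat 0, Int.negSucc 1],
  [Int.negSucc 0, Int.negSucc 0, Int.negSucc 0, Int.ofNat 1, Int.negSucc 0, Int.ofNat 1, Int.ofNat 1, Int.negSucc 0, Int.ofNat 1, Int.ofNat 1, Int.ofNat 3, Int.ofNat 1, Int.ofNat 1, Int.negSucc 0, Int.ofNat 1, Int.ofNat 1, Int.ofNat 1, Int.negSucc 0, Int.negSucc 0, Int.negSucc 0, Int.ofNat 1, Int.negSucc 0, Int.negSucc 0, Int.ofNat 1],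
  [Int.negSucc 0, Int.ofNat 1, Int.negSucc 0, Int.ofNat 1, Int.negSucc 0, Int.negSucc 0, Int.negSucc 0, Int.ofNat 3, Int.ofNat 1, Int.negSucc 0, Int.ofNat 1, Int.negSucc 0, Int.ofNat 1, Int.ofNat 1, Int.negSucc 0, Int.ofNat 1, Int.ofNat 1, Int.ofNat 1, Int.negSucc 0, Int.ofNat 1, Int.negSucc 0, Int.ofNat 1, Int.negSucc 0, Int.ofNat 1],
  [Int.ofNat 1, Int.negSucc 0, Int.ofNat 1, Int.ofNat 1, Int.negSucc 0, Int.negSucc 0, Int.negSucc 2, Int.ofNat 1, Int.ofNat 1, Int.negSucc 0, Int.ofNat 1, Int.negSucc 0, Int.ofNat 1, Int.ofNat 1, Int.negSucc 0, Int.ofNat 1, Int.ofNat 1, Int.ofNat 1, Int.negSucc 0, Int.negSucc 0, Int.negSucc 0, Int.negSucc 0, Int.negSucc 0, Int.negSucc 0],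
  [Int.ofNat 1, Int.negSucc 0, Int.negSucc 0, Int.ofNat 1, Int.negSucc 0, Int.ofNat 1, Int.ofNat 3, Int.ofNat 1, Int.ofNat 1, Int.ofNat 1, Int.negSucc 0, Int.negSucc 0, Int.ofNat 1, Int.ofNat 1, Int.negSucc 0, Int.negSucc 0, Int.ofNat 1, Int.ofNat 1, Int.ofNat 1, Int.negSucc 0, Int.negSucc 0, Int.negSucc 0, Int.ofNat 1, Int.negSucc 0],
  [Int.negSucc 0, Int.ofNat 1, Int.ofNat 1, Int.negSucc 0, Int.negSucc 0, Int.ofNat 1, Int.negSucc 0, Int.ofNat 1, Int.negSucc 0, Int.ofNat 1, Int.ofNat 1, Int.ofNat 1, Int.negSucc 0, Int.negSucc 0, Int.ofNat 1, Int.ofNat 1, Int.negSucc 0, Int.negSucc 0, Int.ofNat 1, Int.ofNat 1, Int.ofNat 1, Int.ofNat 3, Int.negSucc 0, Int.negSucc 0],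
  [Int.negSucc 0, Int.ofNat 1, Int.negSucc 0, Int.negSucc 0, Int.negSucc 0, Int.negSucc 0, Int.ofNat 1, Int.ofNat 1, Int.negSucc 0, Int.negSucc 0, Int.negSucc 0, Int.ofNat 1, Int.negSucc 0, Int.negSucc 0, Int.ofNat 1, Int.negSucc 0, Int.negSucc 0, Int.negSucc 0, Int.negSucc 0, Int.ofNat 1, Int.ofNat 1, Int.ofNat 3, Int.ofNat 1, Int.negSucc 0],
  [Int.ofNat 0, Int.negSucc 1, Int.ofNat 0, Int.ofNat 0, Int.ofNat 0, Int.ofNat 0, Int.negSucc 1, Int.negSucc 1, Int.ofNat 0, Int.ofNat 0, Int.ofNat 0, Int.ofNat 2, Int.ofNat 0, Int.ofNat 0, Int.ofNat 2, Int.ofNat 0, Int.ofNat 0, Int.ofNat 0, Int.ofNat 0, Int.negSucc 1, Int.ofNat 2, Int.ofNat 0, Int.ofNat 2, Int.ofNat 0],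
  [Int.ofNat 0, Int.ofNat 0, Int.negSucc 1, Int.ofNat 0, Int.ofNat 0, Int.ofNat 0, Int.negSucc 1, Int.ofNat 0, Int.ofNat 0, Int.ofNat 0, Int.negSucc 1, Int.negSucc 1, Int.ofNat 0, Int.ofNat 0, Int.ofNat 0, Int.ofNat 0, Int.ofNat 0, Int.ofNat 2, Int.ofNat 0, Int.ofNat 2, Int.ofNat 0, Int.ofNat 2, Int.ofNat 2, Int.ofNat 0],
  [Int.negSucc 0, Int.negSucc 0, Int.ofNat 1, Int.negSucc 0, Int.negSucc 0, Int.negSucc 0, Int.negSucc 2, Int.negSucc 0, Int.ofNat 1, Int.ofNat 1, Int.negSucc 0, Int.negSucc 0, Int.ofNat 1, Int.negSucc 0, Int.negSucc 0, Int.ofNat 1, Int.negSucc 0, Int.ofNat 1, Int.ofNat 1, Int.ofNat 1, Int.ofNat 1, Int.ofNat 1, Int.ofNat 1, Int.negSucc 0],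
  [Int.ofNat 1, Int.ofNat 1, Int.ofNat 1, Int.negSucc 0, Int.negSucc 0, Int.ofNat 1, Int.negSucc 0, Int.negSucc 0, Int.negSucc 0, Int.negSucc 2, Int.negSucc 0, Int.ofNat 1, Int.ofNat 1, Int.negSucc 0, Int.negSucc 0, Int.ofNat 1, Int.negSucc 0, Int.negSucc 0, Int.ofNat 1, Int.negSucc 0, Int.ofNat 1, Int.ofNat 1, Int.ofNat 1, Int.negSucc 0],
  [Int.ofNat 0, Int.ofNat 0, Int.ofNat 0, Int.ofNat 0, Int.ofNat 0, Int.ofNat 2, Int.ofNat 0, Int.ofNat 0, Int.negSucc 1, Int.negSucc 1, Int.ofNat 0, Int.ofNat 0, Int.ofNat 0, Int.ofNat 0, Int.ofNat 0, Int.ofNat 2, Int.ofNat 0, Int.ofNat 0, Int.ofNat 0, Int.ofNat 0, Int.ofNat 2, Int.ofNat 2, Int.ofNat 2, Int.ofNat 2],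
  [Int.ofNat 0, Int.ofNat 0, Int.ofNat 0, Int.ofNat 0, Int.ofNat 2, Int.ofNat 0, Int.ofNat 0, Int.negSucc 1, Int.negSucc 1, Int.ofNat 0, Int.ofNat 0, Int.ofNat 0, Int.ofNat 0, Int.ofNat 0, Int.ofNat 2, Int.ofNat 0, Int.ofNat 0, Int.ofNat 0, Int.ofNat 0, Int.ofNat 2, Int.ofNat 2, Int.ofNat 2, Int.ofNat 0, Int.ofNat 2],
  [Int.ofNat 0, Int.ofNat 0, Int.ofNat 0, Int.ofNat 0, Int.ofNat 2, Int.ofNat 0, Int.ofNat 0, Int.ofNat 2, Int.negSucc 1, Int.ofNat 0, Int.ofNat 0, Int.ofNat 0, Int.ofNat 0, Int.ofNat 0, Int.ofNat 2, Int.ofNat 0, Int.ofNat 0, Int.ofNat 0, Int.ofNat 0, Int.ofNat 2, Int.ofNat 2, Int.negSucc 1, Int.ofNat 0, Int.ofNat 2],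
  [Int.ofNat 0, Int.ofNat 0, Int.ofNat 0, Int.ofNat 0, Int.negSucc 1, Int.ofNat 0, Int.ofNat 0, Int.ofNat 2, Int.ofNat 2, Int.ofNat 0, Int.ofNat 0, Int.ofNat 0, Int.ofNat 0, Int.ofNat 0, Int.ofNat 2, Int.ofNat 0, Int.ofNat 0, Int.ofNat 0, Int.ofNat 0, Int.ofNat 2, Int.ofNat 2, Int.negSucc 1, Int.ofNat 0, Int.ofNat 2],
  [Int.ofNat 0, Int.ofNat 0, Int.ofNat 0, Int.ofNat 0, Int.ofNat 0, Int.ofNat 0, Int.negSucc 1, Int.ofNat 2, Int.ofNat 0, Int.ofNat 0, Int.negSucc 1, Int.ofNat 2, Int.ofNat 0, Int.ofNat 2, Int.ofNat 2, Int.ofNat 0, Int.ofNat 0, Int.ofNat 0, Int.ofNat 0, Int.ofNat 0, Int.ofNat 0, Int.ofNat 2, Int.ofNat 0, Int.ofNat 2],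
  [Int.ofNat 0, Int.ofNat 0, Int.ofNat 0, Int.ofNat 0, Int.ofNat 0, Int.ofNat 0, Int.negSucc 1, Int.negSucc 1, Int.ofNat 0, Int.ofNat 0, Int.ofNat 2, Int.negSucc 1, Int.ofNat 0, Int.ofNat 2, Int.ofNat 2, Int.ofNat 0, Int.ofNat 0, Int.ofNat 0, Int.ofNat 0, Int.ofNat 0, Int.ofNat 0, Int.negSucc 1, Int.ofNat 0, Int.ofNat 2],
  [Int.ofNat 0, Int.ofNat 0, Int.ofNat 0, Int.ofNat 0, Int.ofNat 0, Int.ofNat 0, Int.ofNat 0, Int.negSucc 1, Int.negSucc 1, Int.ofNat 0, Int.ofNat 0, Int.ofNat 2, Int.negSucc 1, Int.ofNat 0, Int.ofNat 2, Int.ofNat 2, Int.ofNat 0, Int.ofNat 0, Int.ofNat 0, Int.ofNat 0, Int.ofNat 0, Int.ofNat 0, Int.negSucc 1, Int.ofNat 2],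
  [Int.ofNat 1, Int.ofNat 1, Int.ofNat 1, Int.negSucc 0, Int.ofNat 1, Int.negSucc 0, Int.ofNat 1, Int.negSucc 0, Int.negSucc 0, Int.negSucc 0, Int.negSucc 0, Int.ofNat 3, Int.negSucc 0, Int.ofNat 1, Int.ofNat 1, Int.ofNat 1, Int.ofNat 1, Int.negSucc 0, Int.ofNat 1, Int.ofNat 1, Int.negSucc 0, Int.ofNat 1, Int.negSucc 0, Int.negSucc 0],
  [Int.negSucc 0, Int.ofNat 1, Int.negSucc 0, Int.ofNat 1, Int.negSucc 0, Int.negSucc 0, Int.negSucc 0, Int.negSucc 0, Int.ofNat 3, Int.negSucc 0, Int.ofNat 1, Int.ofNat 1, Int.ofNat 1, Int.ofNat 1, Int.negSucc 0, Int.ofNat 1, Int.ofNat 1, Int.negSucc 0, Int.ofNat 1, Int.negSucc 0, Int.ofNat 1, Int.ofNat 1, Int.ofNat 1, Int.negSucc 0],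
  [Int.ofNat 0, Int.negSucc 1, Int.ofNat 0, Int.ofNat 2, Int.negSucc 1, Int.ofNat 0, Int.ofNat 0, Int.ofNat 0, Int.ofNat 0, Int.negSucc 1, Int.ofNat 0, Int.negSucc 1, Int.negSucc 1, Int.ofNat 0, Int.ofNat 0, Int.ofNat 0, Int.ofNat 0, Int.ofNat 0, Int.negSucc 1, Int.ofNat 0, Int.ofNat 0, Int.ofNat 2, Int.ofNat 0, Int.ofNat 0],
  [Int.ofNat 0, Int.ofNat 0, Int.negSucc 1, Int.ofNat 2, Int.negSucc 1, Int.ofNat 0, Int.ofNat 0, Int.ofNat 0, Int.negSucc 1, Int.ofNat 0, Int.ofNat 0, Int.ofNat 0, Int.negSucc 1, Int.ofNat 0, Int.ofNat 0, Int.ofNat 0, Int.ofNat 0, Int.ofNat 0, Int.negSucc 1, Int.negSucc 1, Int.ofNat 2, Int.ofNat 0, Int.ofNat 0, Int.ofNat 0],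
  [Int.negSucc 0, Int.negSucc 0, Int.ofNat 1, Int.ofNat 1, Int.negSucc 0, Int.negSucc 0, Int.ofNat 1, Int.ofNat 1, Int.ofNat 1, Int.negSucc 0, Int.negSucc 0, Int.ofNat 3, Int.ofNat 1, Int.ofNat 1, Int.negSucc 0, Int.negSucc 0, Int.ofNat 1, Int.negSucc 0, Int.ofNat 1, Int.negSucc 0, Int.ofNat 1, Int.ofNat 1, Int.ofNat 1, Int.negSucc 0],
  [Int.negSucc 0, Int.negSucc 0, Int.negSucc 0, Int.ofNat 1, Int.negSucc 0, Int.ofNat 1, Int.negSucc 0, Int.ofNat 1, Int.ofNat 1, Int.ofNat 1, Int.ofNat 1, Int.ofNat 3, Int.ofNat 1, Int.ofNat 1, Int.negSucc 0, Int.ofNat 1, Int.ofNat 1, Int.negSucc 0, Int.negSucc 0, Int.negSucc 0, Int.ofNat 1, Int.ofNat 1, Int.negSucc 0, Int.negSucc 0],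
  [Int.ofNat 1, Int.ofNat 1, Int.ofNat 3, Int.ofNat 1, Int.negSucc 0, Int.negSucc 0, Int.ofNat 1, Int.ofNat 1, Int.ofNat 1, Int.ofNat 1, Int.ofNat 1, Int.ofNat 1, Int.ofNat 1, Int.negSucc 0, Int.negSucc 0, Int.negSucc 0, Int.negSucc 0, Int.ofNat 1, Int.ofNat 1, Int.negSucc 0, Int.negSucc 0, Int.negSucc 0, Int.negSucc 0, Int.negSucc 0],
  [Int.negSucc 0, Int.negSucc 0, Int.ofNat 1, Int.negSucc 0, Int.ofNat 1, Int.ofNat 1, Int.negSucc 0, Int.negSucc 0, Int.negSucc 0, Int.negSucc 0, Int.negSucc 0, Int.ofNat 3, Int.negSucc 0, Int.ofNat 1, Int.ofNat 1, Int.ofNat 1, Int.ofNat 1, Int.negSucc 0, Int.negSucc 0, Int.ofNat 1, Int.ofNat 1, Int.ofNat 1, Int.ofNat 1, Int.ofNat 1],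
  [Int.ofNat 1, Int.negSucc 0, Int.negSucc 0, Int.negSucc 0, Int.ofNat 1, Int.ofNat 1, Int.negSucc 0, Int.ofNat 1, Int.negSucc 0, Int.ofNat 1, Int.ofNat 1, Int.negSucc 2, Int.negSucc 0, Int.ofNat 1, Int.ofNat 1, Int.ofNat 1, Int.ofNat 1, Int.negSucc 0, Int.ofNat 1, Int.ofNat 1, Int.ofNat 1, Int.negSucc 0, Int.ofNat 1, Int.ofNat 1],
  [Int.ofNat 1, Int.ofNat 1, Int.negSucc 0, Int.negSucc 0, Int.negSucc 0, Int.ofNat 1, Int.ofNat 1, Int.negSucc 0, Int.ofNat 1, Int.negSucc 0, Int.ofNat 1, Int.ofNat 1, Int.negSucc 2, Int.negSucc 0, Int.ofNat 1, Int.ofNat 1, Int.ofNat 1, Int.ofNat 1, Int.negSucc 0, Int.ofNat 1, Int.ofNat 1, Int.ofNat 1, Int.negSucc 0, Int.ofNat 1],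
  [Int.ofNat 0, Int.ofNat 0, Int.ofNat 2, Int.negSucc 1, Int.ofNat 0, Int.ofNat 0, Int.ofNat 0, Int.negSucc 1, Int.ofNat 2, Int.negSucc 1, Int.ofNat 0, Int.ofNat 2, Int.negSucc 1, Int.ofNat 0, Int.ofNat 0, Int.ofNat 0, Int.ofNat 2, Int.ofNat 0, Int.ofNat 0, Int.ofNat 0, Int.ofNat 0, Int.ofNat 0, Int.ofNat 0, Int.ofNat 0],
  [Int.negSucc 1, Int.ofNat 0, Int.ofNat 0, Int.ofNat 0, Int.negSucc 1, Int.ofNat 2, Int.negSucc 1, Int.ofNat 0, Int.ofNat 2, Int.negSucc 1, Int.ofNat 0, Int.ofNat 0, Int.ofNat 0, Int.ofNat 2, Int.ofNat 0, Int.ofNat 0, Int.ofNat 0, Int.ofNat 0, Int.ofNat 0, Int.ofNat 0, Int.ofNat 0, Int.ofNat 0, Int.ofNat 2, Int.ofNat 0],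
  [Int.ofNat 1, Int.negSucc 0, Int.negSucc 0, Int.negSucc 0, Int.negSucc 2, Int.ofNat 1, Int.negSucc 0, Int.ofNat 1, Int.ofNat 1, Int.negSucc 0, Int.ofNat 1, Int.negSucc 0, Int.negSucc 0, Int.ofNat 1, Int.negSucc 0, Int.ofNat 1, Int.negSucc 0, Int.negSucc 0, Int.negSucc 0, Int.ofNat 1, Int.ofNat 1, Int.ofNat 1, Int.ofNat 1, Int.negSucc 0],
  [Int.ofNat 1, Int.negSucc 0, Int.negSucc 2, Int.negSucc 0, Int.negSucc 0, Int.ofNat 1, Int.negSucc 0, Int.ofNat 1, Int.negSucc 0, Int.ofNat 1, Int.ofNat 1, Int.negSucc 0, Int.negSucc 0, Int.negSucc 0, Int.ofNat 1, Int.ofNat 1, Int.ofNat 1, Int.negSucc 0, Int.negSucc 0, Int.negSucc 0, Int.ofNat 1, Int.ofNat 1, Int.ofNat 1, Int.negSucc 0],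
  [Int.negSucc 2, Int.negSucc 0, Int.ofNat 1, Int.negSucc 0, Int.negSucc 0, Int.ofNat 1, Int.negSucc 0, Int.ofNat 1, Int.ofNat 1, Int.negSucc 0, Int.negSucc 0, Int.ofNat 1, Int.ofNat 1, Int.negSucc 0, Int.ofNat 1, Int.negSucc 0, Int.ofNat 1, Int.negSucc 0, Int.ofNat 1, Int.negSucc 0, Int.negSucc 0, Int.ofNat 1, Int.ofNat 1, Int.negSucc 0],
  [Int.negSucc 2, Int.negSucc 0, Int.negSucc 0, Int.negSucc 0, Int.negSucc 0, Int.negSucc 0, Int.ofNat 1, Int.ofNat 1, Int.ofNat 1, Int.ofNat 1, Int.ofNat 1, Int.ofNat 1, Int.ofNat 1, Int.negSucc 0, Int.ofNat 1, Int.ofNat 1, Int.ofNat 1, Int.negSucc 0, Int.negSucc 0, Int.negSucc 0, Int.negSucc 0, Int.ofNat 1, Int.negSucc 0, Int.negSucc 0],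
  [Int.negSucc 0, Int.negSucc 2, Int.ofNat 1, Int.ofNat 1, Int.ofNat 1, Int.negSucc 0, Int.ofNat 1, Int.negSucc 0, Int.ofNat 1, Int.ofNat 1, Int.negSucc 0, Int.ofNat 1, Int.negSucc 0, Int.negSucc 0, Int.ofNat 1, Int.ofNat 1, Int.ofNat 1, Int.negSucc 0, Int.negSucc 0, Int.negSucc 0, Int.negSucc 0, Int.ofNat 1, Int.negSucc 0, Int.negSucc 0],
  [Int.negSucc 0, Int.negSucc 2, Int.negSucc 0, Int.ofNat 1, Int.ofNat 1, Int.ofNat 1, Int.negSucc 0, Int.negSucc 0, Int.ofNat 1, Int.negSucc 0, Int.ofNat 1, Int.ofNat 1, Int.negSucc 0, Int.negSucc 0, Int.ofNat 1, Int.negSucc 0, Int.ofNat 1, Int.negSucc 0, Int.ofNat 1, Int.negSucc 0, Int.negSucc 0, Int.ofNat 1, Int.ofNat 1, Int.negSucc 0],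
  [Int.negSucc 1, Int.ofNat 0, Int.negSucc 1, Int.ofNat 0, Int.ofNat 0, Int.ofNat 0, Int.ofNat 0, Int.ofNat 0, Int.ofNat 0, Int.ofNat 0, Int.ofNat 2, Int.ofNat 0, Int.negSucc 1, Int.negSucc 1, Int.ofNat 0, Int.ofNat 0, Int.ofNat 0, Int.negSucc 1, Int.ofNat 0, Int.ofNat 0, Int.ofNat 0, Int.ofNat 2, Int.ofNat 0, Int.negSucc 1],
  [Int.negSucc 1, Int.ofNat 0, Int.ofNat 0, Int.ofNat 0, Int.negSucc 1, Int.ofNat 2, Int.ofNat 0, Int.ofNat 0, Int.ofNat 0, Int.negSucc 1, Int.ofNat 0, Int.ofNat 0, Int.ofNat 0, Int.ofNat 0, Int.negSucc 1, Int.ofNat 0, Int.negSucc 1, Int.ofNat 0, Int.ofNat 0, Int.ofNat 0, Int.ofNat 2, Int.ofNat 0, Int.ofNat 0, Int.negSucc 1],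
  [Int.ofNat 0, Int.negSucc 1, Int.negSucc 1, Int.ofNat 0, Int.ofNat 0, Int.ofNat 2, Int.ofNat 0, Int.ofNat 0, Int.ofNat 0, Int.negSucc 1, Int.ofNat 0, Int.ofNat 0, Int.ofNat 0, Int.ofNat 2, Int.negSucc 1, Int.ofNat 0, Int.ofNat 0, Int.ofNat 0, Int.ofNat 0, Int.ofNat 0, Int.ofNat 2, Int.ofNat 0, Int.ofNat 2, Int.ofNat 0],
  [Int.ofNat 2, Int.ofNat 0, Int.ofNat 2, Int.ofNat 0, Int.negSucc 1, Int.negSucc 1, Int.ofNat 0, Int.ofNat 0, Int.ofNat 2, Int.ofNat 0, Int.ofNat 0, Int.ofNat 0, Int.negSucc 1, Int.ofNat 0, Int.ofNat 0, Int.ofNat 0, Int.ofNat 2, Int.negSucc 1, Int.ofNat 0, Int.ofNat 0, Int.ofNat 0, Int.ofNat 0, Int.ofNat 0, Int.ofNat 0],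
  [Int.ofNat 0, Int.ofNat 2, Int.ofNat 0, Int.ofNat 2, Int.negSucc 1, Int.ofNat 0, Int.ofNat 0, Int.ofNat 0, Int.ofNat 2, Int.ofNat 0, Int.ofNat 0, Int.ofNat 0, Int.negSucc 1, Int.ofNat 0, Int.ofNat 2, Int.ofNat 0, Int.ofNat 2, Int.ofNat 0, Int.ofNat 0, Int.ofNat 0, Int.ofNat 0, Int.ofNat 0, Int.ofNat 0, Int.ofNat 2],
  [Int.ofNat 2, Int.ofNat 0, Int.ofNat 2, Int.negSucc 1, Int.ofNat 0, Int.ofNat 0, Int.ofNat 0, Int.ofNat 2, Int.ofNat 0, Int.ofNat 0, Int.ofNat 0, Int.negSucc 1, Int.ofNat 0, Int.ofNat 2, Int.ofNat 0, Int.ofNat 2, Int.ofNat 0, Int.ofNat 0, Int.ofNat 0, Int.ofNat 0, Int.ofNat 0, Int.ofNat 0, Int.ofNat 0, Int.ofNat 2],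
  [Int.negSucc 1, Int.ofNat 0, Int.negSucc 1, Int.negSucc 1, Int.ofNat 0, Int.ofNat 0, Int.ofNat 0, Int.negSucc 1, Int.ofNat 0, Int.ofNat 0, Int.ofNat 0, Int.ofNat 2, Int.ofNat 0, Int.ofNat 2, Int.ofNat 0, Int.ofNat 2, Int.ofNat 0, Int.ofNat 0, Int.ofNat 0, Int.ofNat 0, Int.ofNat 0, Int.ofNat 0, Int.ofNat 0, Int.ofNat 2],
  [Int.ofNat 2, Int.ofNat 0, Int.ofNat 2, Int.ofNat 2, Int.ofNat 0, Int.ofNat 0, Int.ofNat 0, Int.negSucc 1, Int.ofNat 0, Int.ofNat 0, Int.ofNat 0, Int.ofNat 2, Int.ofNat 0, Int.negSucc 1, Int.ofNat 0, Int.ofNat 2, Int.ofNat 0, Int.ofNat 0, Int.ofNat 0, Int.ofNat 0, Int.ofNat 0, Int.ofNat 0, Int.ofNat 0, Int.ofNat 2],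
  [Int.ofNat 2, Int.ofNat 2, Int.ofNat 0, Int.ofNat 2, Int.ofNat 0, Int.ofNat 0, Int.ofNat 0, Int.ofNat 0, Int.ofNat 0, Int.ofNat 0, Int.ofNat 0, Int.ofNat 0, Int.negSucc 1, Int.ofNat 0, Int.ofNat 0, Int.ofNat 2, Int.ofNat 0, Int.ofNat 0, Int.ofNat 0, Int.ofNat 0, Int.ofNat 0, Int.negSucc 1, Int.ofNat 2, Int.ofNat 2],
  [Int.negSucc 1, Int.ofNat 2, Int.ofNat 0, Int.ofNat 2, Int.ofNat 0, Int.ofNat 0, Int.ofNat 0, Int.ofNat 0, Int.ofNat 0, Int.ofNat 0, Int.ofNat 0, Int.ofNat 0, Int.negSucc 1, Int.ofNat 0, Int.ofNat 0, Int.ofNat 2, Int.ofNat 0, Int.ofNat 0, Int.ofNat 0, Int.ofNat 0, Int.ofNat 0, Int.ofNat 2, Int.ofNat 2, Int.ofNat 2],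
  [Int.ofNat 2, Int.negSucc 1, Int.ofNat 2, Int.ofNat 0, Int.ofNat 2, Int.ofNat 0, Int.ofNat 0, Int.ofNat 0, Int.ofNat 0, Int.ofNat 0, Int.ofNat 0, Int.ofNat 0, Int.ofNat 0, Int.negSucc 1, Int.ofNat 0, Int.ofNat 0, Int.ofNat 2, Int.ofNat 0, Int.ofNat 0, Int.ofNat 0, Int.ofNat 0, Int.ofNat 0, Int.ofNat 2, Int.ofNat 2],
  [Int.ofNat 0, Int.ofNat 4, Int.ofNat 0, Int.ofNat 0, Int.ofNat 0, Int.ofNat 0, Int.ofNat 0, Int.ofNat 0, Int.ofNat 0, Int.ofNat 0, Int.ofNat 0, Int.ofNat 0, Int.ofNat 0, Int.negSucc 3, Int.ofNat 0, Int.ofNat 0, Int.ofNat 0, Int.ofNat 0, Int.ofNat 0, Int.ofNat 0, Int.ofNat 0, Int.ofNat 0, Int.ofNat 0, Int.ofNat 0],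
  [Int.ofNat 0, Int.ofNat 0, Int.ofNat 0, Int.ofNat 0, Int.ofNat 0, Int.ofNat 0, Int.ofNat 0, Int.ofNat 0, Int.ofNat 0, Int.ofNat 0, Int.negSucc 3, Int.ofNat 0, Int.ofNat 0, Int.ofNat 0, Int.ofNat 0, Int.ofNat 0, Int.ofNat 0, Int.ofNat 0, Int.ofNat 0, Int.ofNat 0, Int.ofNat 0, Int.ofNat 4, Int.ofNat 0, Int.ofNat 0],
  [Int.ofNat 0, Int.ofNat 0, Int.ofNat 0, Int.ofNat 0, Int.ofNat 0, Int.ofNat 0, Int.negSucc 1, Int.negSucc 1, Int.ofNat 0, Int.ofNat 2, Int.negSucc 1, Int.ofNat 0, Int.ofNat 0, Int.ofNat 0, Int.ofNat 0, Int.ofNat 2, Int.ofNat 0, Int.ofNat 0, Int.ofNat 0, Int.negSucc 1, Int.ofNat 2, Int.ofNat 2, Int.ofNat 0, Int.ofNat 0],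
  [Int.ofNat 0, Int.negSucc 1, Int.ofNat 0, Int.ofNat 0, Int.ofNat 0, Int.negSucc 1, Int.ofNat 0, Int.negSucc 1, Int.ofNat 0, Int.ofNat 0, Int.ofNat 2, Int.ofNat 0, Int.ofNat 2, Int.ofNat 0, Int.ofNat 0, Int.ofNat 2, Int.ofNat 0, Int.ofNat 0, Int.ofNat 0, Int.ofNat 0, Int.ofNat 2, Int.ofNat 0, Int.negSucc 1, Int.ofNat 0],
  [Int.negSucc 0, Int.ofNat 1, Int.negSucc 0, Int.ofNat 1, Int.ofNat 1, Int.negSucc 0, Int.ofNat 1, Int.negSucc 0, Int.negSucc 0, Int.negSucc 2, Int.negSucc 0, Int.negSucc 0, Int.ofNat 1, Int.ofNat 1, Int.ofNat 1, Int.negSucc 0, Int.ofNat 1, Int.ofNat 1, Int.negSucc 0, Int.ofNat 1, Int.negSucc 0, Int.ofNat 1, Int.negSucc 0, Int.negSucc 0],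
  [Int.negSucc 0, Int.ofNat 1, Int.ofNat 1, Int.ofNat 1, Int.ofNat 1, Int.ofNat 1, Int.negSucc 0, Int.negSucc 0, Int.negSucc 0, Int.ofNat 3, Int.ofNat 1, Int.negSucc 0, Int.ofNat 1, Int.ofNat 1, Int.ofNat 1, Int.ofNat 1, Int.ofNat 1, Int.ofNat 1, Int.ofNat 1, Int.ofNat 1, Int.negSucc 0, Int.ofNat 1, Int.ofNat 1, Int.negSucc 0],
  [Int.ofNat 1, Int.ofNat 1, Int.negSucc 0, Int.negSucc 0, Int.ofNat 1, Int.negSucc 0, Int.ofNat 1, Int.ofNat 1, Int.ofNat 1, Int.negSucc 0, Int.ofNat 1, Int.negSucc 0, Int.ofNat 1, Int.ofNat 1, Int.ofNat 1, Int.ofNat 1, Int.ofNat 1, Int.ofNat 1, Int.ofNat 3, Int.ofNat 1, Int.negSucc 0, Int.ofNat 1, Int.ofNat 1, Int.negSucc 0],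
  [Int.negSucc 0, Int.ofNat 1, Int.negSucc 0, Int.ofNat 1, Int.ofNat 1, Int.negSucc 0, Int.ofNat 1, Int.ofNat 1, Int.negSucc 0, Int.negSucc 0, Int.ofNat 1, Int.negSucc 0, Int.ofNat 1, Int.ofNat 1, Int.ofNat 3, Int.negSucc 0, Int.ofNat 1, Int.ofNat 1, Int.ofNat 1, Int.ofNat 1, Int.ofNat 1, Int.ofNat 1, Int.ofNat 1, Int.ofNat 1],
  [Int.ofNat 1, Int.ofNat 1, Int.ofNat 1, Int.ofNat 1, Int.ofNat 1, Int.negSucc 0, Int.ofNat 1, Int.negSucc 0, Int.negSucc 0, Int.ofNat 1, Int.negSucc 0, Int.ofNat 1, Int.ofNat 1, Int.ofNat 1, Int.ofNat 3, Int.negSucc 0, Int.ofNat 1, Int.ofNat 1, Int.negSucc 0, Int.ofNat 1, Int.ofNat 1, Int.negSucc 0, Int.ofNat 1, Int.ofNat 1],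
  [Int.ofNat 1, Int.ofNat 1, Int.ofNat 1, Int.ofNat 1, Int.ofNat 1, Int.ofNat 1, Int.negSucc 0, Int.ofNat 1, Int.negSucc 0, Int.negSucc 0, Int.ofNat 1, Int.negSucc 0, Int.ofNat 1, Int.ofNat 1, Int.ofNat 1, Int.ofNat 3, Int.negSucc 0, Int.ofNat 1, Int.ofNat 1, Int.negSucc 0, Int.ofNat 1, Int.ofNat 1, Int.negSucc 0, Int.ofNat 1],
  [Int.ofNat 1, Int.ofNat 1, Int.ofNat 1, Int.negSucc 0, Int.ofNat 1, Int.negSucc 0, Int.negSucc 0, Int.ofNat 1, Int.negSucc 0, Int.negSucc 2, Int.negSucc 0, Int.negSucc 0, Int.ofNat 1, Int.ofNat 1, Int.negSucc 0, Int.ofNat 1, Int.negSucc 0, Int.negSucc 0, Int.ofNat 1, Int.negSucc 0, Int.negSucc 0, Int.ofNat 1, Int.negSucc 0, Int.ofNat 1],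
  [Int.negSucc 0, Int.ofNat 1, Int.negSucc 0, Int.negSucc 0, Int.ofNat 1, Int.negSucc 0, Int.negSucc 2, Int.negSucc 0, Int.negSucc 0, Int.ofNat 1, Int.ofNat 1, Int.negSucc 0, Int.ofNat 1, Int.negSucc 0, Int.negSucc 0, Int.ofNat 1, Int.negSucc 0, Int.negSucc 0, Int.ofNat 1, Int.negSucc 0, Int.ofNat 1, Int.ofNat 1, Int.ofNat 1, Int.ofNat 1],
  [Int.ofNat 1, Int.negSucc 0, Int.ofNat 1, Int.ofNat 1, Int.ofNat 1, Int.ofNat 1, Int.negSucc 0, Int.ofNat 1, Int.negSucc 0, Int.negSucc 0, Int.negSucc 0, Int.negSucc 0, Int.ofNat 1, Int.negSucc 0, Int.ofNat 1, Int.negSucc 0, Int.negSucc 0, Int.ofNat 1, Int.ofNat 1, Int.ofNat 1, Int.negSucc 0, Int.ofNat 3, Int.ofNat 1, Int.negSucc 0],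
  [Int.ofNat 1, Int.negSucc 0, Int.ofNat 1, Int.ofNat 1, Int.ofNat 1, Int.ofNat 1, Int.ofNat 1, Int.negSucc 0, Int.ofNat 1, Int.negSucc 0, Int.negSucc 0, Int.ofNat 1, Int.negSucc 0, Int.negSucc 0, Int.ofNat 1, Int.negSucc 0, Int.negSucc 0, Int.ofNat 1, Int.negSucc 0, Int.negSucc 0, Int.ofNat 3, Int.ofNat 1, Int.ofNat 1, Int.negSucc 0],
  [Int.negSucc 0, Int.ofNat 1, Int.negSucc 0, Int.negSucc 0, Int.ofNat 1, Int.negSucc 0, Int.ofNat 1, Int.negSucc 0, Int.ofNat 1, Int.negSucc 0, Int.negSucc 0, Int.ofNat 1, Int.negSucc 0, Int.negSucc 0, Int.negSucc 0, Int.negSucc 0, Int.negSucc 0, Int.negSucc 0, Int.negSucc 0, Int.negSucc 0, Int.ofNat 3, Int.ofNat 1, Int.ofNat 1, Int.ofNat 1],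
  [Int.negSucc 0, Int.ofNat 1, Int.ofNat 1, Int.negSucc 0, Int.ofNat 1, Int.ofNat 1, Int.negSucc 0, Int.negSucc 0, Int.ofNat 1, Int.ofNat 1, Int.ofNat 1, Int.ofNat 1, Int.negSucc 0, Int.negSucc 0, Int.negSucc 0, Int.ofNat 1, Int.negSucc 0, Int.negSucc 0, Int.ofNat 1, Int.negSucc 0, Int.ofNat 3, Int.ofNat 1, Int.negSucc 0, Int.ofNat 1],
  [Int.ofNat 1, Int.negSucc 0, Int.ofNat 1, Int.ofNat 1, Int.ofNat 1, Int.negSucc 0, Int.negSucc 0, Int.negSucc 0, Int.ofNat 1, Int.negSucc 0, Int.negSucc 0, Int.negSucc 0, Int.negSucc 0, Int.ofNat 3, Int.ofNat 1, Int.negSucc 0, Int.ofNat 1, Int.ofNat 1, Int.negSucc 0, Int.ofNat 1, Int.ofNat 1, Int.negSucc 0, Int.ofNat 1, Int.ofNat 1],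
  [Int.ofNat 1, Int.negSucc 0, Int.negSucc 0, Int.ofNat 1, Int.ofNat 1, Int.ofNat 1, Int.ofNat 1, Int.negSucc 0, Int.ofNat 1, Int.ofNat 1, Int.ofNat 1, Int.negSucc 0, Int.negSucc 0, Int.ofNat 3, Int.ofNat 1, Int.ofNat 1, Int.ofNat 1, Int.ofNat 1, Int.ofNat 1, Int.ofNat 1, Int.ofNat 1, Int.negSucc 0, Int.negSucc 0, Int.ofNat 1],
  [Int.negSucc 0, Int.ofNat 1, Int.ofNat 1, Int.negSucc 0, Int.negSucc 0, Int.negSucc 0, Int.ofNat 1, Int.negSucc 0, Int.ofNat 1, Int.negSucc 0, Int.negSucc 0, Int.negSucc 0, Int.negSucc 0, Int.ofNat 1, Int.negSucc 0, Int.negSucc 0, Int.negSucc 0, Int.negSucc 0, Int.ofNat 1, Int.ofNat 1, Int.negSucc 0, Int.negSucc 0, Int.negSucc 2, Int.negSucc 0],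
  [Int.negSucc 0, Int.ofNat 1, Int.ofNat 1, Int.negSucc 0, Int.ofNat 1, Int.negSucc 0, Int.ofNat 1, Int.negSucc 0, Int.negSucc 0, Int.negSucc 0, Int.negSucc 0, Int.ofNat 1, Int.ofNat 1, Int.negSucc 0, Int.negSucc 0, Int.negSucc 0, Int.ofNat 1, Int.negSucc 0, Int.negSucc 0, Int.negSucc 2, Int.negSucc 0, Int.negSucc 0, Int.negSucc 0, Int.negSucc 0],
  [Int.ofNat 1, Int.negSucc 0, Int.negSucc 0, Int.ofNat 1, Int.ofNat 1, Int.ofNat 1, Int.ofNat 3, Int.ofNat 1, Int.negSucc 0, Int.ofNat 1, Int.ofNat 1, Int.ofNat 1, Int.ofNat 1, Int.negSucc 0, Int.ofNat 1, Int.ofNat 1, Int.ofNat 1, Int.ofNat 1, Int.negSucc 0, Int.negSucc 0, Int.ofNat 1, Int.ofNat 1, Int.negSucc 0, Int.ofNat 1],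
  [Int.ofNat 1, Int.ofNat 1, Int.negSucc 0, Int.ofNat 1, Int.negSucc 0, Int.negSucc 0, Int.ofNat 1, Int.ofNat 1, Int.ofNat 1, Int.ofNat 3, Int.ofNat 1, Int.negSucc 0, Int.ofNat 1, Int.ofNat 1, Int.ofNat 1, Int.ofNat 1, Int.negSucc 0, Int.ofNat 1, Int.ofNat 1, Int.ofNat 1, Int.ofNat 1, Int.negSucc 0, Int.negSucc 0, Int.ofNat 1],
  [Int.ofNat 0, Int.ofNat 0, Int.ofNat 2, Int.ofNat 0, Int.ofNat 0, Int.negSucc 1, Int.ofNat 0, Int.ofNat 0, Int.ofNat 0, Int.ofNat 0, Int.negSucc 1, Int.negSucc 1, Int.ofNat 0, Int.ofNat 2, Int.ofNat 0, Int.negSucc 1, Int.ofNat 0, Int.ofNat 0, Int.ofNat 0, Int.ofNat 0, Int.negSucc 1, Int.negSucc 1, Int.ofNat 0, Int.ofNat 0],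
  [Int.ofNat 0, Int.ofNat 2, Int.ofNat 0, Int.ofNat 0, Int.negSucc 1, Int.ofNat 0, Int.ofNat 0, Int.ofNat 0, Int.ofNat 0, Int.negSucc 1, Int.negSucc 1, Int.ofNat 0, Int.ofNat 2, Int.ofNat 0, Int.negSucc 1, Int.ofNat 0, Int.ofNat 0, Int.ofNat 0, Int.ofNat 0, Int.negSucc 1, Int.negSucc 1, Int.ofNat 0, Int.ofNat 0, Int.ofNat 0],
  [Int.ofNat 0, Int.ofNat 2, Int.ofNat 0, Int.ofNat 0, Int.negSucc 1, Int.ofNat 0, Int.ofNat 0, Int.ofNat 0, Int.ofNat 0, Int.ofNat 2, Int.ofNat 2, Int.ofNat 0, Int.ofNat 2, Int.ofNat 0, Int.negSucc 1, Int.ofNat 0, Int.ofNat 0, Int.ofNat 0, Int.ofNat 0, Int.negSucc 1, Int.negSucc 1, Int.ofNat 0, Int.ofNat 0, Int.ofNat 0],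
  [Int.ofNat 0, Int.negSucc 1, Int.ofNat 0, Int.ofNat 0, Int.ofNat 2, Int.ofNat 0, Int.ofNat 0, Int.ofNat 0, Int.ofNat 0, Int.negSucc 1, Int.ofNat 2, Int.ofNat 0, Int.negSucc 1, Int.ofNat 0, Int.negSucc 1, Int.ofNat 0, Int.ofNat 0, Int.ofNat 0, Int.ofNat 0, Int.negSucc 1, Int.negSucc 1, Int.ofNat 0, Int.ofNat 0, Int.ofNat 0],
  [Int.ofNat 0, Int.ofNat 0, Int.ofNat 0, Int.ofNat 0, Int.negSucc 1, Int.ofNat 2, Int.ofNat 2, Int.negSucc 1, Int.negSucc 1, Int.ofNat 0, Int.ofNat 0, Int.negSucc 1, Int.ofNat 0, Int.ofNat 0, Int.negSucc 1, Int.ofNat 0, Int.negSucc 1, Int.ofNat 0, Int.ofNat 0, Int.ofNat 0, Int.ofNat 0, Int.ofNat 0, Int.ofNat 0, Int.ofNat 0],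
  [Int.ofNat 0, Int.ofNat 0, Int.ofNat 0, Int.ofNat 0, Int.negSucc 1, Int.ofNat 2, Int.ofNat 2, Int.ofNat 2, Int.negSucc 1, Int.ofNat 0, Int.ofNat 0, Int.ofNat 2, Int.ofNat 0, Int.ofNat 0, Int.negSucc 1, Int.ofNat 0, Int.negSucc 1, Int.ofNat 0, Int.ofNat 0, Int.ofNat 0, Int.ofNat 0, Int.ofNat 0, Int.ofNat 0, Int.ofNat 0],
  [Int.ofNat 0, Int.ofNat 0, Int.ofNat 0, Int.ofNat 0, Int.ofNat 0, Int.negSucc 1, Int.ofNat 2, Int.ofNat 2, Int.ofNat 2, Int.negSucc 1, Int.ofNat 0, Int.ofNat 0, Int.ofNat 2, Int.ofNat 0, Int.ofNat 0, Int.negSucc 1, Int.ofNat 0, Int.negSucc 1, Int.ofNat 0, Int.ofNat 0, Int.ofNat 0, Int.ofNat 0, Int.ofNat 0, Int.ofNat 0],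
  [Int.ofNat 0, Int.ofNat 0, Int.ofNat 0, Int.ofNat 2, Int.ofNat 0, Int.ofNat 0, Int.ofNat 0, Int.ofNat 0, Int.ofNat 0, Int.ofNat 0, Int.ofNat 2, Int.negSucc 1, Int.ofNat 0, Int.ofNat 0, Int.ofNat 2, Int.ofNat 0, Int.ofNat 0, Int.ofNat 0, Int.negSucc 1, Int.negSucc 1, Int.ofNat 2, Int.negSucc 1, Int.ofNat 0, Int.ofNat 0],
  [Int.ofNat 2, Int.ofNat 0, Int.ofNat 0, Int.ofNat 0, Int.ofNat 0, Int.ofNat 0, Int.ofNat 0, Int.ofNat 2, Int.negSucc 1, Int.ofNat 0, Int.ofNat 0, Int.ofNat 2, Int.ofNat 0, Int.ofNat 0, Int.ofNat 0, Int.negSucc 1, Int.negSucc 1, Int.ofNat 2, Int.negSucc 1, Int.ofNat 0, Int.ofNat 0, Int.ofNat 0, Int.ofNat 0, Int.ofNat 0],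
  [Int.negSucc 0, Int.ofNat 1, Int.ofNat 1, Int.negSucc 0, Int.ofNat 1, Int.negSucc 0, Int.negSucc 0, Int.ofNat 1, Int.negSucc 0, Int.ofNat 1, Int.ofNat 1, Int.ofNat 3, Int.ofNat 1, Int.ofNat 1, Int.negSucc 0, Int.negSucc 0, Int.negSucc 0, Int.ofNat 1, Int.negSucc 0, Int.negSucc 0, Int.ofNat 1, Int.negSucc 0, Int.ofNat 1, Int.ofNat 1],
  [Int.negSucc 0, Int.negSucc 0, Int.ofNat 1, Int.negSucc 0, Int.negSucc 0, Int.ofNat 1, Int.ofNat 1, Int.ofNat 1, Int.ofNat 1, Int.ofNat 1, Int.ofNat 1, Int.ofNat 1, Int.ofNat 1, Int.negSucc 0, Int.ofNat 1, Int.negSucc 0, Int.negSucc 0, Int.negSucc 0, Int.ofNat 1, Int.ofNat 3, Int.negSucc 0, Int.negSucc 0, Int.negSucc 0, Int.ofNat 1],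
  [Int.ofNat 1, Int.ofNat 1, Int.negSucc 0, Int.negSucc 0, Int.ofNat 1, Int.ofNat 1, Int.negSucc 0, Int.negSucc 0, Int.negSucc 0, Int.ofNat 1, Int.ofNat 1, Int.negSucc 0, Int.negSucc 0, Int.ofNat 1, Int.ofNat 1, Int.negSucc 0, Int.ofNat 1, Int.negSucc 0, Int.negSucc 0, Int.ofNat 1, Int.negSucc 0, Int.negSucc 2, Int.ofNat 1, Int.negSucc 0],
  [Int.ofNat 1, Int.ofNat 1, Int.ofNat 1, Int.negSucc 0, Int.ofNat 1, Int.negSucc 0, Int.ofNat 1, Int.negSucc 0, Int.negSucc 0, Int.negSucc 0, Int.negSucc 0, Int.negSucc 0, Int.negSucc 0, Int.ofNat 1, Int.ofNat 1, Int.ofNat 1, Int.ofNat 1, Int.negSucc 0, Int.ofNat 1, Int.ofNat 1, Int.negSucc 0, Int.negSucc 2, Int.negSucc 0, Int.negSucc 0],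
  [Int.negSucc 0, Int.ofNat 1, Int.negSucc 0, Int.negSucc 0, Int.ofNat 1, Int.ofNat 1, Int.negSucc 2, Int.negSucc 0, Int.negSucc 0, Int.negSucc 0, Int.ofNat 1, Int.negSucc 0, Int.ofNat 1, Int.ofNat 1, Int.negSucc 0, Int.ofNat 1, Int.ofNat 1, Int.negSucc 0, Int.negSucc 0, Int.ofNat 1, Int.ofNat 1, Int.ofNat 1, Int.negSucc 0, Int.negSucc 0],
  [Int.negSucc 0, Int.negSucc 0, Int.negSucc 0, Int.ofNat 1, Int.negSucc 0, Int.negSucc 0, Int.ofNat 1, Int.ofNat 1, Int.ofNat 1, Int.ofNat 1, Int.ofNat 1, Int.negSucc 0, Int.ofNat 1, Int.negSucc 0, Int.negSucc 0, Int.negSucc 0, Int.ofNat 1, Int.ofNat 1, Int.negSucc 0, Int.negSucc 2, Int.negSucc 0, Int.ofNat 1, Int.ofNat 1, Int.negSucc 0],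
  [Int.ofNat 1, Int.negSucc 0, Int.ofNat 1, Int.ofNat 1, Int.negSucc 0, Int.negSucc 0, Int.ofNat 1, Int.negSucc 0, Int.ofNat 1, Int.negSucc 0, Int.negSucc 0, Int.ofNat 1, Int.ofNat 1, Int.negSucc 0, Int.negSucc 0, Int.negSucc 0, Int.ofNat 1, Int.ofNat 1, Int.ofNat 1, Int.negSucc 2, Int.negSucc 0, Int.negSucc 0, Int.ofNat 1, Int.negSucc 0],
  [Int.ofNat 1, Int.ofNat 1, Int.negSucc 0, Int.ofNat 1, Int.ofNat 1, Int.negSucc 0, Int.negSucc 0, Int.ofNat 1, Int.negSucc 0, Int.ofNat 1, Int.negSucc 0, Int.negSucc 0, Int.ofNat 1, Int.ofNat 1, Int.negSucc 0, Int.negSucc 0, Int.negSucc 0, Int.ofNat 1, Int.ofNat 1, Int.ofNat 1, Int.negSucc 2, Int.negSucc 0, Int.negSucc 0, Int.negSucc 0],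
  [Int.negSucc 0, Int.negSucc 0, Int.ofNat 1, Int.ofNat 1, Int.ofNat 1, Int.negSucc 0, Int.negSucc 0, Int.ofNat 1, Int.negSucc 0, Int.ofNat 3, Int.ofNat 1, Int.negSucc 0, Int.ofNat 1, Int.ofNat 1, Int.negSucc 0, Int.ofNat 1, Int.negSucc 0, Int.ofNat 1, Int.ofNat 1, Int.ofNat 1, Int.negSucc 0, Int.negSucc 0, Int.negSucc 0, Int.ofNat 1],
  [Int.ofNat 1, Int.ofNat 1, Int.negSucc 0, Int.negSucc 0, Int.ofNat 1, Int.negSucc 0, Int.ofNat 3, Int.ofNat 1, Int.negSucc 0, Int.ofNat 1, Int.ofNat 1, Int.negSucc 0, Int.ofNat 1, Int.negSucc 0, Int.ofNat 1, Int.ofNat 1, Int.ofNat 1, Int.negSucc 0, Int.negSucc 0, Int.negSucc 0, Int.negSucc 0, Int.negSucc 0, Int.ofNat 1, Int.ofNat 1],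
  [Int.ofNat 0, Int.ofNat 0, Int.ofNat 2, Int.ofNat 0, Int.ofNat 0, Int.ofNat 0, Int.ofNat 2, Int.ofNat 0, Int.ofNat 0, Int.ofNat 0, Int.ofNat 0, Int.ofNat 0, Int.ofNat 2, Int.negSucc 1, Int.ofNat 2, Int.ofNat 0, Int.ofNat 0, Int.ofNat 0, Int.ofNat 0, Int.negSucc 1, Int.negSucc 1, Int.negSucc 1, Int.ofNat 0, Int.ofNat 0],
  [Int.ofNat 0, Int.ofNat 2, Int.ofNat 0, Int.ofNat 0, Int.ofNat 0, Int.ofNat 0, Int.ofNat 2, Int.ofNat 0, Int.ofNat 2, Int.negSucc 1, Int.negSucc 1, Int.ofNat 0, Int.ofNat 0, Int.ofNat 0, Int.ofNat 0, Int.ofNat 0, Int.ofNat 0, Int.ofNat 2, Int.ofNat 0, Int.ofNat 0, Int.negSucc 1, Int.ofNat 0, Int.negSucc 1, Int.ofNat 0],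
  [Int.ofNat 1, Int.negSucc 0, Int.ofNat 1, Int.negSucc 0, Int.ofNat 1, Int.negSucc 0, Int.ofNat 1, Int.negSucc 0, Int.ofNat 1, Int.ofNat 1, Int.ofNat 1, Int.negSucc 0, Int.negSucc 0, Int.ofNat 1, Int.negSucc 0, Int.ofNat 3, Int.ofNat 1, Int.ofNat 1, Int.negSucc 0, Int.negSucc 0, Int.ofNat 1, Int.negSucc 0, Int.negSucc 0, Int.ofNat 1],
  [Int.ofNat 1, Int.negSucc 0, Int.negSucc 0, Int.negSucc 0, Int.ofNat 1, Int.ofNat 1, Int.negSucc 0, Int.negSucc 0, Int.ofNat 1, Int.negSucc 0, Int.negSucc 0, Int.negSucc 0, Int.negSucc 0, Int.ofNat 1, Int.negSucc 0, Int.negSucc 2, Int.ofNat 1, Int.ofNat 1, Int.ofNat 1, Int.negSucc 0, Int.ofNat 1, Int.negSucc 0, Int.ofNat 1, Int.ofNat 1],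
  [Int.negSucc 0, Int.ofNat 1, Int.negSucc 0, Int.negSucc 0, Int.negSucc 2, Int.negSucc 0, Int.negSucc 0, Int.ofNat 1, Int.negSucc 0, Int.negSucc 0, Int.ofNat 1, Int.ofNat 1, Int.negSucc 0, Int.ofNat 1, Int.ofNat 1, Int.negSucc 0, Int.negSucc 0, Int.ofNat 1, Int.ofNat 1, Int.ofNat 1, Int.ofNat 1, Int.negSucc 0, Int.negSucc 0, Int.ofNat 1],
  [Int.negSucc 0, Int.ofNat 1, Int.ofNat 1, Int.negSucc 0, Int.negSucc 2, Int.ofNat 1, Int.ofNat 1, Int.ofNat 1, Int.negSucc 0, Int.ofNat 1, Int.negSucc 0, Int.ofNat 1, Int.negSucc 0, Int.ofNat 1, Int.ofNat 1, Int.ofNat 1, Int.negSucc 0, Int.ofNat 1, Int.negSucc 0, Int.ofNat 1, Int.ofNat 1, Int.negSucc 0, Int.ofNat 1, Int.ofNat 1],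
  [Int.ofNat 2, Int.ofNat 0, Int.ofNat 0, Int.negSucc 1, Int.negSucc 1, Int.ofNat 0, Int.ofNat 0, Int.ofNat 0, Int.ofNat 0, Int.ofNat 0, Int.negSucc 1, Int.ofNat 2, Int.ofNat 0, Int.ofNat 2, Int.ofNat 0, Int.ofNat 0, Int.ofNat 0, Int.ofNat 0, Int.ofNat 0, Int.ofNat 0, Int.ofNat 0, Int.negSucc 1, Int.ofNat 2, Int.ofNat 0],
  [Int.ofNat 2, Int.ofNat 0, Int.ofNat 0, Int.negSucc 1, Int.ofNat 0, Int.negSucc 1, Int.ofNat 0, Int.ofNat 0, Int.ofNat 0, Int.ofNat 0, Int.ofNat 0, Int.ofNat 0, Int.ofNat 0, Int.ofNat 0, Int.ofNat 0, Int.ofNat 0, Int.ofNat 2, Int.ofNat 2, Int.negSucc 1, Int.ofNat 2, Int.negSucc 1, Int.ofNat 0, Int.ofNat 0, Int.ofNat 0],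
  [Int.negSucc 0, Int.ofNat 1, Int.ofNat 1, Int.negSucc 0, Int.negSucc 0, Int.negSucc 0, Int.negSucc 0, Int.negSucc 0, Int.ofNat 1, Int.ofNat 1, Int.ofNat 1, Int.ofNat 1, Int.ofNat 1, Int.negSucc 0, Int.ofNat 1, Int.ofNat 1, Int.ofNat 1, Int.ofNat 3, Int.negSucc 0, Int.ofNat 1, Int.negSucc 0, Int.negSucc 0, Int.negSucc 0, Int.ofNat 1],
  [Int.negSucc 0, Int.negSucc 0, Int.negSucc 0, Int.negSucc 0, Int.ofNat 1, Int.ofNat 1, Int.negSucc 0, Int.negSucc 0, Int.negSucc 0, Int.negSucc 0, Int.negSucc 0, Int.ofNat 1, Int.ofNat 1, Int.ofNat 1, Int.ofNat 1, Int.ofNat 1, Int.negSucc 0, Int.ofNat 1, Int.ofNat 1, Int.ofNat 1, Int.ofNat 3, Int.negSucc 0, Int.ofNat 1, Int.ofNat 1],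
  [Int.ofNat 0, Int.ofNat 0, Int.ofNat 0, Int.negSucc 1, Int.ofNat 0, Int.ofNat 0, Int.ofNat 0, Int.ofNat 0, Int.negSucc 1, Int.negSucc 1, Int.negSucc 1, Int.ofNat 0, Int.ofNat 0, Int.ofNat 0, Int.ofNat 0, Int.ofNat 0, Int.negSucc 1, Int.ofNat 0, Int.ofNat 0, Int.ofNat 2, Int.ofNat 2, Int.ofNat 0, Int.ofNat 0, Int.negSucc 1],
  [Int.ofNat 0, Int.ofNat 0, Int.negSucc 1, Int.ofNat 0, Int.ofNat 0, Int.ofNat 0, Int.ofNat 0, Int.negSucc 1, Int.negSucc 1, Int.negSucc 1, Int.ofNat 0, Int.ofNat 0, Int.ofNat 0, Int.ofNat 0, Int.ofNat 0, Int.negSucc 1, Int.ofNat 0, Int.ofNat 0, Int.ofNat 2, Int.ofNat 2, Int.ofNat 0, Int.ofNat 0, Int.ofNat 0, Int.negSucc 1],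
  [Int.ofNat 0, Int.ofNat 0, Int.ofNat 2, Int.ofNat 0, Int.ofNat 0, Int.ofNat 0, Int.ofNat 0, Int.ofNat 2, Int.negSucc 1, Int.ofNat 2, Int.ofNat 0, Int.ofNat 0, Int.ofNat 0, Int.ofNat 0, Int.ofNat 0, Int.negSucc 1, Int.ofNat 0, Int.ofNat 0, Int.negSucc 1, Int.ofNat 2, Int.ofNat 0, Int.ofNat 0, Int.ofNat 0, Int.negSucc 1],
  [Int.ofNat 0, Int.ofNat 0, Int.negSucc 1, Int.ofNat 0, Int.ofNat 0, Int.ofNat 0, Int.ofNat 0, Int.ofNat 2, Int.ofNat 2, Int.negSucc 1, Int.ofNat 0, Int.ofNat 0, Int.ofNat 0, Int.ofNat 0, Int.ofNat 0, Int.negSucc 1, Int.ofNat 0, Int.ofNat 0, Int.ofNat 2, Int.ofNat 2, Int.ofNat 0, Int.ofNat 0, Int.ofNat 0, Int.negSucc 1],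
  [Int.ofNat 0, Int.negSucc 1, Int.ofNat 2, Int.ofNat 0, Int.ofNat 0, Int.ofNat 0, Int.ofNat 0, Int.ofNat 0, Int.negSucc 1, Int.ofNat 0, Int.ofNat 0, Int.ofNat 0, Int.ofNat 0, Int.ofNat 2, Int.ofNat 2, Int.negSucc 1, Int.ofNat 0, Int.ofNat 0, Int.ofNat 0, Int.ofNat 0, Int.ofNat 0, Int.ofNat 2, Int.ofNat 0, Int.negSucc 1],
  [Int.ofNat 0, Int.negSucc 1, Int.negSucc 1, Int.ofNat 0, Int.ofNat 0, Int.ofNat 0, Int.ofNat 0, Int.ofNat 0, Int.negSucc 1, Int.ofNat 0, Int.ofNat 0, Int.ofNat 0, Int.ofNat 0, Int.ofNat 2, Int.ofNat 2, Int.negSucc 1, Int.ofNat 0, Int.ofNat 0, Int.ofNat 0, Int.ofNat 0, Int.ofNat 0, Int.negSucc 1, Int.ofNat 0, Int.negSucc 1],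
  [Int.ofNat 0, Int.ofNat 0, Int.negSucc 1, Int.negSucc 1, Int.ofNat 0, Int.ofNat 0, Int.ofNat 0, Int.ofNat 0, Int.ofNat 0, Int.negSucc 1, Int.ofNat 0, Int.ofNat 0, Int.ofNat 0, Int.ofNat 0, Int.ofNat 2, Int.ofNat 2, Int.negSucc 1, Int.ofNat 0, Int.ofNat 0, Int.ofNat 0, Int.ofNat 0, Int.ofNat 0, Int.negSucc 1, Int.negSucc 1],
  [Int.negSucc 1, Int.negSucc 1, Int.ofNat 0, Int.negSucc 1, Int.ofNat 2, Int.ofNat 0, Int.ofNat 0, Int.ofNat 0, Int.ofNat 0, Int.negSucc 1, Int.ofNat 0, Int.ofNat 0, Int.ofNat 0, Int.ofNat 2, Int.ofNat 2, Int.ofNat 2, Int.ofNat 0, Int.ofNat 0, Int.ofNat 0, Int.ofNat 0, Int.ofNat 0, Int.ofNat 0, Int.ofNat 0, Int.ofNat 0],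
  [Int.negSucc 1, Int.ofNat 2, Int.ofNat 0, Int.ofNat 0, Int.ofNat 0, Int.ofNat 0, Int.negSucc 1, Int.ofNat 0, Int.ofNat 0, Int.ofNat 0, Int.ofNat 2, Int.ofNat 2, Int.ofNat 2, Int.ofNat 0, Int.ofNat 0, Int.ofNat 0, Int.ofNat 0, Int.ofNat 0, Int.ofNat 0, Int.ofNat 0, Int.negSucc 1, Int.negSucc 1, Int.ofNat 0, Int.ofNat 0],
  [Int.ofNat 2, Int.negSucc 1, Int.ofNat 0, Int.ofNat 0, Int.ofNat 0, Int.ofNat 0, Int.ofNat 0, Int.ofNat 2, Int.negSucc 1, Int.ofNat 0, Int.ofNat 2, Int.ofNat 0, Int.ofNat 0, Int.ofNat 0, Int.ofNat 0, Int.ofNat 0, Int.ofNat 0, Int.ofNat 0, Int.negSucc 1, Int.ofNat 2, Int.negSucc 1, Int.ofNat 0, Int.ofNat 0, Int.ofNat 0],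
  [Int.ofNat 2, Int.ofNat 0, Int.ofNat 0, Int.ofNat 0, Int.negSucc 1, Int.ofNat 2, Int.ofNat 0, Int.ofNat 2, Int.ofNat 0, Int.ofNat 0, Int.negSucc 1, Int.ofNat 0, Int.ofNat 0, Int.ofNat 0, Int.ofNat 0, Int.ofNat 0, Int.negSucc 1, Int.ofNat 0, Int.negSucc 1, Int.ofNat 0, Int.ofNat 0, Int.ofNat 0, Int.ofNat 2, Int.ofNat 0],
  [Int.negSucc 0, Int.ofNat 1, Int.ofNat 1, Int.negSucc 0, Int.negSucc 0, Int.ofNat 1, Int.negSucc 0, Int.ofNat 1, Int.ofNat 1, Int.ofNat 1, Int.negSucc 0, Int.ofNat 1, Int.ofNat 1, Int.ofNat 1, Int.negSucc 0, Int.ofNat 1, Int.negSucc 0, Int.negSucc 0, Int.negSucc 0, Int.negSucc 0, Int.ofNat 1, Int.negSucc 0, Int.ofNat 3, Int.ofNat 1],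
  [Int.negSucc 0, Int.ofNat 1, Int.negSucc 0, Int.negSucc 0, Int.negSucc 0, Int.negSucc 0, Int.ofNat 1, Int.ofNat 1, Int.ofNat 1, Int.negSucc 0, Int.ofNat 1, Int.ofNat 1, Int.ofNat 1, Int.ofNat 1, Int.negSucc 0, Int.negSucc 0, Int.negSucc 0, Int.negSucc 0, Int.ofNat 1, Int.negSucc 0, Int.ofNat 1, Int.negSucc 0, Int.negSucc 2, Int.ofNat 1],
  [Int.ofNat 1, Int.negSucc 0, Int.ofNat 1, Int.ofNat 1, Int.negSucc 0, Int.ofNat 1, Int.negSucc 0, Int.negSucc 0, Int.negSucc 0, Int.ofNat 1, Int.ofNat 1, Int.ofNat 1, Int.negSucc 0, Int.negSucc 0, Int.negSucc 0, Int.ofNat 1, Int.negSucc 0, Int.ofNat 1, Int.negSucc 0, Int.negSucc 0, Int.negSucc 0, Int.ofNat 1, Int.negSucc 2, Int.ofNat 1],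
  [Int.ofNat 1, Int.negSucc 2, Int.ofNat 1, Int.ofNat 1, Int.ofNat 1, Int.ofNat 1, Int.negSucc 0, Int.negSucc 0, Int.negSucc 0, Int.ofNat 1, Int.negSucc 0, Int.ofNat 1, Int.ofNat 1, Int.negSucc 0, Int.negSucc 0, Int.ofNat 1, Int.ofNat 1, Int.negSucc 0, Int.negSucc 0, Int.negSucc 0, Int.negSucc 0, Int.negSucc 0, Int.negSucc 0, Int.ofNat 1],
  [Int.negSucc 0, Int.negSucc 2, Int.negSucc 0, Int.ofNat 1, Int.ofNat 1, Int.ofNat 1, Int.negSucc 0, Int.ofNat 1, Int.negSucc 0, Int.negSucc 0, Int.ofNat 1, Int.negSucc 0, Int.ofNat 1, Int.negSucc 0, Int.negSucc 0, Int.ofNat 1, Int.ofNat 1, Int.negSucc 0, Int.ofNat 1, Int.negSucc 0, Int.negSucc 0, Int.ofNat 1, Int.negSucc 0, Int.ofNat 1],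
  [Int.negSucc 0, Int.negSucc 0, Int.negSucc 2, Int.negSucc 0, Int.ofNat 1, Int.ofNat 1, Int.ofNat 1, Int.negSucc 0, Int.ofNat 1, Int.negSucc 0, Int.negSucc 0, Int.ofNat 1, Int.negSucc 0, Int.ofNat 1, Int.negSucc 0, Int.negSucc 0, Int.ofNat 1, Int.ofNat 1, Int.negSucc 0, Int.ofNat 1, Int.negSucc 0, Int.negSucc 0, Int.ofNat 1, Int.ofNat 1],
  [Int.negSucc 0, Int.negSucc 0, Int.ofNat 1, Int.negSucc 0, Int.negSucc 0, Int.ofNat 1, Int.ofNat 1, Int.negSucc 0, Int.ofNat 1, Int.ofNat 1, Int.ofNat 1, Int.ofNat 1, Int.negSucc 0, Int.negSucc 0, Int.negSucc 0, Int.ofNat 1, Int.negSucc 0, Int.ofNat 1, Int.negSucc 0, Int.ofNat 1, Int.ofNat 1, Int.negSucc 0, Int.negSucc 0, Int.negSucc 2],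
  [Int.negSucc 0, Int.negSucc 0, Int.ofNat 1, Int.ofNat 1, Int.negSucc 0, Int.ofNat 1, Int.ofNat 1, Int.ofNat 1, Int.ofNat 1, Int.negSucc 0, Int.negSucc 0, Int.negSucc 0, Int.ofNat 1, Int.negSucc 0, Int.ofNat 1, Int.negSucc 0, Int.ofNat 1, Int.ofNat 1, Int.negSucc 0, Int.negSucc 0, Int.negSucc 0, Int.negSucc 0, Int.ofNat 1, Int.negSucc 2],
  [Int.negSucc 0, Int.negSucc 0, Int.negSucc 2, Int.negSucc 0, Int.negSucc 0, Int.negSucc 0, Int.ofNat 1, Int.ofNat 1, Int.ofNat 1, Int.ofNat 1, Int.ofNat 1, Int.negSucc 0, Int.ofNat 1, Int.negSucc 0, Int.negSucc 0, Int.ofNat 1, Int.ofNat 1, Int.negSucc 0, Int.negSucc 0, Int.negSucc 0, Int.ofNat 1, Int.negSucc 0, Int.ofNat 1, Int.ofNat 1],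
  [Int.negSucc 0, Int.ofNat 1, Int.negSucc 0, Int.negSucc 0, Int.negSucc 0, Int.ofNat 1, Int.negSucc 2, Int.ofNat 1, Int.ofNat 1, Int.negSucc 0, Int.ofNat 1, Int.negSucc 0, Int.ofNat 1, Int.ofNat 1, Int.ofNat 1, Int.ofNat 1, Int.ofNat 1, Int.negSucc 0, Int.negSucc 0, Int.negSucc 0, Int.negSucc 0, Int.negSucc 0, Int.negSucc 0, Int.ofNat 1],
  [Int.ofNat 1, Int.negSucc 0, Int.ofNat 1, Int.negSucc 0, Int.negSucc 0, Int.ofNat 1, Int.negSucc 0, Int.ofNat 3, Int.ofNat 1, Int.negSucc 0, Int.ofNat 1, Int.negSucc 0, Int.ofNat 1, Int.ofNat 1, Int.ofNat 1, Int.ofNat 1, Int.ofNat 1, Int.negSucc 0, Int.negSucc 0, Int.ofNat 1, Int.negSucc 0, Int.ofNat 1, Int.negSucc 0, Int.negSucc 0],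
  [Int.ofNat 1, Int.negSucc 0, Int.negSucc 0, Int.negSucc 0, Int.negSucc 0, Int.negSucc 0, Int.ofNat 1, Int.ofNat 3, Int.ofNat 1, Int.ofNat 1, Int.negSucc 0, Int.negSucc 0, Int.ofNat 1, Int.ofNat 1, Int.ofNat 1, Int.negSucc 0, Int.ofNat 1, Int.negSucc 0, Int.ofNat 1, Int.ofNat 1, Int.negSucc 0, Int.ofNat 1, Int.ofNat 1, Int.negSucc 0],
  [Int.negSucc 0, Int.ofNat 1, Int.ofNat 1, Int.ofNat 1, Int.negSucc 0, Int.negSucc 0, Int.ofNat 1, Int.ofNat 1, Int.negSucc 0, Int.ofNat 1, Int.ofNat 1, Int.ofNat 1, Int.ofNat 1, Int.negSucc 0, Int.ofNat 1, Int.ofNat 3, Int.negSucc 0, Int.negSucc 0, Int.negSucc 0, Int.ofNat 1, Int.negSucc 0, Int.ofNat 1, Int.negSucc 0, Int.negSucc 0],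
  [Int.negSucc 0, Int.ofNat 1, Int.negSucc 0, Int.ofNat 1, Int.negSucc 0, Int.ofNat 1, Int.negSucc 0, Int.ofNat 1, Int.negSucc 0, Int.negSucc 0, Int.negSucc 0, Int.ofNat 1, Int.ofNat 1, Int.negSucc 0, Int.ofNat 1, Int.negSucc 2, Int.negSucc 0, Int.negSucc 0, Int.ofNat 1, Int.ofNat 1, Int.negSucc 0, Int.ofNat 1, Int.ofNat 1, Int.negSucc 0],
  [Int.ofNat 0, Int.negSucc 1, Int.ofNat 0, Int.ofNat 0, Int.ofNat 0, Int.ofNat 0, Int.negSucc 1, Int.ofNat 0, Int.negSucc 1, Int.ofNat 2, Int.ofNat 2, Int.ofNat 0, Int.ofNat 0, Int.ofNat 0, Int.ofNat 0, Int.ofNat 0, Int.ofNat 0, Int.negSucc 1, Int.ofNat 0, Int.ofNat 0, Int.ofNat 2, Int.ofNat 0, Int.ofNat 2, Int.ofNat 0],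
  [Int.ofNat 0, Int.ofNat 0, Int.negSucc 1, Int.ofNat 0, Int.ofNat 0, Int.ofNat 0, Int.negSucc 1, Int.ofNat 0, Int.ofNat 0, Int.ofNat 0, Int.ofNat 0, Int.ofNat 0, Int.negSucc 1, Int.ofNat 2, Int.negSucc 1, Int.ofNat 0, Int.ofNat 0, Int.ofNat 0, Int.ofNat 0, Int.ofNat 2, Int.ofNat 2, Int.ofNat 2, Int.ofNat 0, Int.ofNat 0],
  [Int.negSucc 0, Int.negSucc 0, Int.ofNat 1, Int.ofNat 1, Int.negSucc 0, Int.ofNat 1, Int.negSucc 2, Int.negSucc 0, Int.ofNat 1, Int.negSucc 0, Int.negSucc 0, Int.ofNat 1, Int.negSucc 0, Int.ofNat 1, Int.negSucc 0, Int.negSucc 0, Int.negSucc 0, Int.ofNat 1, Int.ofNat 1, Int.ofNat 1, Int.ofNat 1, Int.ofNat 1, Int.negSucc 0, Int.negSucc 0],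
  [Int.ofNat 1, Int.ofNat 1, Int.negSucc 0, Int.negSucc 0, Int.negSucc 0, Int.ofNat 1, Int.ofNat 1, Int.negSucc 0, Int.ofNat 1, Int.negSucc 2, Int.negSucc 0, Int.ofNat 1, Int.negSucc 0, Int.negSucc 0, Int.ofNat 1, Int.negSucc 0, Int.ofNat 1, Int.negSucc 0, Int.negSucc 0, Int.negSucc 0, Int.ofNat 1, Int.ofNat 1, Int.ofNat 1, Int.negSucc 0],
  [Int.negSucc 0, Int.negSucc 0, Int.ofNat 1, Int.negSucc 0, Int.negSucc 0, Int.ofNat 1, Int.ofNat 1, Int.negSucc 0, Int.ofNat 1, Int.negSucc 0, Int.ofNat 1, Int.ofNat 1, Int.negSucc 0, Int.negSucc 0, Int.ofNat 1, Int.ofNat 1, Int.ofNat 1, Int.negSucc 0, Int.negSucc 0, Int.negSucc 0, Int.ofNat 3, Int.ofNat 1, Int.ofNat 1, Int.ofNat 1],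
  [Int.negSucc 0, Int.ofNat 1, Int.negSucc 0, Int.negSucc 0, Int.ofNat 1, Int.ofNat 1, Int.negSucc 0, Int.ofNat 1, Int.negSucc 0, Int.ofNat 1, Int.ofNat 1, Int.negSucc 0, Int.negSucc 0, Int.ofNat 1, Int.ofNat 1, Int.ofNat 1, Int.negSucc 0, Int.negSucc 0, Int.negSucc 0, Int.ofNat 3, Int.ofNat 1, Int.ofNat 1, Int.negSucc 0, Int.ofNat 1],
  [Int.ofNat 1, Int.ofNat 1, Int.ofNat 1, Int.negSucc 0, Int.ofNat 1, Int.ofNat 1, Int.negSucc 0, Int.negSucc 0, Int.negSucc 0, Int.negSucc 0, Int.negSucc 0, Int.ofNat 1, Int.negSucc 0, Int.ofNat 1, Int.ofNat 1, Int.ofNat 1, Int.negSucc 0, Int.negSucc 0, Int.ofNat 1, Int.ofNat 3, Int.ofNat 1, Int.negSucc 0, Int.negSucc 0, Int.ofNat 1],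
  [Int.negSucc 0, Int.negSucc 0, Int.negSucc 0, Int.ofNat 1, Int.negSucc 0, Int.ofNat 1, Int.ofNat 1, Int.negSucc 0, Int.ofNat 1, Int.ofNat 1, Int.negSucc 0, Int.ofNat 1, Int.ofNat 1, Int.negSucc 0, Int.ofNat 1, Int.ofNat 1, Int.ofNat 1, Int.negSucc 0, Int.negSucc 0, Int.ofNat 3, Int.ofNat 1, Int.negSucc 0, Int.negSucc 0, Int.ofNat 1],
  [Int.negSucc 0, Int.negSucc 0, Int.negSucc 0, Int.ofNat 1, Int.negSucc 0, Int.negSucc 0, Int.negSucc 0, Int.ofNat 1, Int.ofNat 1, Int.ofNat 1, Int.negSucc 0, Int.ofNat 1, Int.negSucc 0, Int.ofNat 1, Int.ofNat 3, Int.ofNat 1, Int.ofNat 1, Int.negSucc 0, Int.ofNat 1, Int.negSucc 0, Int.ofNat 1, Int.negSucc 0, Int.ofNat 1, Int.ofNat 1],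
  [Int.ofNat 1, Int.negSucc 0, Int.ofNat 1, Int.ofNat 1, Int.negSucc 0, Int.negSucc 0, Int.negSucc 0, Int.negSucc 0, Int.ofNat 1, Int.negSucc 0, Int.ofNat 1, Int.negSucc 0, Int.negSucc 0, Int.ofNat 1, Int.ofNat 3, Int.ofNat 1, Int.ofNat 1, Int.negSucc 0, Int.negSucc 0, Int.negSucc 0, Int.ofNat 1, Int.ofNat 1, Int.ofNat 1, Int.ofNat 1],
  [Int.ofNat 1, Int.ofNat 1, Int.negSucc 0, Int.ofNat 1, Int.ofNat 1, Int.negSucc 0, Int.negSucc 0, Int.negSucc 0, Int.negSucc 0, Int.ofNat 1, Int.negSucc 0, Int.ofNat 1, Int.negSucc 0, Int.negSucc 0, Int.ofNat 1, Int.ofNat 3, Int.ofNat 1, Int.ofNat 1, Int.negSucc 0, Int.negSucc 0, Int.negSucc 0, Int.ofNat 1, Int.ofNat 1, Int.ofNat 1],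
  [Int.ofNat 0, Int.ofNat 0, Int.ofNat 2, Int.ofNat 0, Int.ofNat 0, Int.negSucc 1, Int.ofNat 0, Int.ofNat 0, Int.ofNat 0, Int.ofNat 0, Int.negSucc 1, Int.ofNat 2, Int.ofNat 0, Int.negSucc 1, Int.ofNat 0, Int.ofNat 2, Int.ofNat 0, Int.ofNat 0, Int.ofNat 0, Int.ofNat 0, Int.negSucc 1, Int.ofNat 2, Int.ofNat 0, Int.ofNat 0],
  [Int.ofNat 0, Int.ofNat 0, Int.negSucc 1, Int.ofNat 0, Int.ofNat 0, Int.ofNat 0, Int.ofNat 0, Int.negSucc 1, Int.ofNat 2, Int.ofNat 0, Int.negSucc 1, Int.ofNat 0, Int.ofNat 2, Int.ofNat 0, Int.ofNat 0, Int.ofNat 0, Int.ofNat 0, Int.negSucc 1, Int.ofNat 2, Int.ofNat 0, Int.ofNat 0, Int.ofNat 0, Int.ofNat 2, Int.ofNat 0],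
  [Int.negSucc 0, Int.negSucc 0, Int.ofNat 1, Int.ofNat 1, Int.negSucc 0, Int.ofNat 1, Int.ofNat 1, Int.negSucc 0, Int.negSucc 0, Int.ofNat 1, Int.negSucc 0, Int.negSucc 2, Int.negSucc 0, Int.negSucc 0, Int.ofNat 1, Int.ofNat 1, Int.negSucc 0, Int.negSucc 0, Int.negSucc 0, Int.ofNat 1, Int.ofNat 1, Int.ofNat 1, Int.ofNat 1, Int.negSucc 0],
  [Int.negSucc 0, Int.ofNat 1, Int.negSucc 0, Int.ofNat 1, Int.negSucc 0, Int.negSucc 0, Int.ofNat 1, Int.negSucc 0, Int.negSucc 0, Int.negSucc 0, Int.ofNat 1, Int.negSucc 0, Int.ofNat 1, Int.negSucc 0, Int.ofNat 1, Int.ofNat 1, Int.negSucc 0, Int.ofNat 1, Int.negSucc 0, Int.negSucc 2, Int.ofNat 1, Int.ofNat 1, Int.ofNat 1, Int.negSucc 0],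
  [Int.ofNat 0, Int.negSucc 1, Int.ofNat 0, Int.ofNat 0, Int.ofNat 0, Int.negSucc 1, Int.ofNat 2, Int.ofNat 0, Int.ofNat 0, Int.negSucc 1, Int.ofNat 0, Int.ofNat 0, Int.ofNat 2, Int.ofNat 0, Int.ofNat 0, Int.ofNat 0, Int.ofNat 0, Int.ofNat 0, Int.ofNat 0, Int.negSucc 1, Int.ofNat 0, Int.ofNat 2, Int.ofNat 2, Int.ofNat 0],
  [Int.ofNat 0, Int.negSucc 1, Int.ofNat 0, Int.ofNat 0, Int.ofNat 0, Int.ofNat 2, Int.negSucc 1, Int.ofNat 0, Int.ofNat 0, Int.ofNat 2, Int.ofNat 0, Int.ofNat 0, Int.ofNat 2, Int.ofNat 0, Int.ofNat 0, Int.ofNat 0, Int.ofNat 0, Int.ofNat 0, Int.ofNat 0, Int.negSucc 1, Int.ofNat 0, Int.ofNat 2, Int.negSucc 1, Int.ofNat 0],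
  [Int.ofNat 0, Int.ofNat 0, Int.ofNat 0, Int.ofNat 0, Int.ofNat 0, Int.negSucc 1, Int.ofNat 2, Int.ofNat 0, Int.ofNat 2, Int.ofNat 0, Int.ofNat 0, Int.ofNat 0, Int.ofNat 0, Int.ofNat 0, Int.ofNat 0, Int.ofNat 0, Int.negSucc 1, Int.ofNat 2, Int.ofNat 2, Int.ofNat 0, Int.ofNat 0, Int.negSucc 1, Int.negSucc 1, Int.ofNat 0],
  [Int.ofNat 0, Int.negSucc 1, Int.ofNat 0, Int.ofNat 0, Int.ofNat 2, Int.ofNat 0, Int.ofNat 0, Int.ofNat 0, Int.ofNat 0, Int.negSucc 1, Int.negSucc 1, Int.ofNat 0, Int.negSucc 1, Int.ofNat 0, Int.ofNat 2, Int.ofNat 0, Int.ofNat 0, Int.ofNat 0, Int.ofNat 0, Int.ofNat 2, Int.ofNat 2, Int.ofNat 0, Int.ofNat 0, Int.ofNat 0],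
  [Int.ofNat 0, Int.negSucc 1, Int.ofNat 0, Int.ofNat 0, Int.ofNat 2, Int.ofNat 0, Int.ofNat 0, Int.ofNat 0, Int.ofNat 0, Int.ofNat 2, Int.ofNat 2, Int.ofNat 0, Int.negSucc 1, Int.ofNat 0, Int.ofNat 2, Int.ofNat 0, Int.ofNat 0, Int.ofNat 0, Int.ofNat 0, Int.ofNat 2, Int.ofNat 2, Int.ofNat 0, Int.ofNat 0, Int.ofNat 0],
  [Int.ofNat 0, Int.ofNat 0, Int.negSucc 1, Int.ofNat 0, Int.ofNat 0, Int.ofNat 2, Int.ofNat 0, Int.ofNat 0, Int.ofNat 0, Int.ofNat 0, Int.ofNat 2, Int.ofNat 2, Int.ofNat 0, Int.negSucc 1, Int.ofNat 0, Int.ofNat 2, Int.ofNat 0, Int.ofNat 0, Int.ofNat 0, Int.ofNat 0, Int.ofNat 2, Int.ofNat 2, Int.ofNat 0, Int.ofNat 0],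
  [Int.negSucc 0, Int.negSucc 0, Int.ofNat 1, Int.negSucc 0, Int.ofNat 1, Int.ofNat 1, Int.negSucc 0, Int.negSucc 0, Int.negSucc 0, Int.negSucc 2, Int.negSucc 0, Int.ofNat 1, Int.negSucc 0, Int.negSucc 0, Int.negSucc 0, Int.negSucc 0, Int.ofNat 1, Int.negSucc 0, Int.negSucc 0, Int.negSucc 0, Int.negSucc 0, Int.ofNat 1, Int.ofNat 1, Int.negSucc 0],
  [Int.negSucc 0, Int.ofNat 1, Int.ofNat 1, Int.negSucc 0, Int.negSucc 0, Int.negSucc 0, Int.negSucc 2, Int.negSucc 0, Int.ofNat 1, Int.negSucc 0, Int.negSucc 0, Int.negSucc 0, Int.negSucc 0, Int.ofNat 1, Int.negSucc 0, Int.negSucc 0, Int.negSucc 0, Int.negSucc 0, Int.ofNat 1, Int.ofNat 1, Int.negSucc 0, Int.negSucc 0, Int.ofNat 1, Int.negSucc 0],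
  [Int.ofNat 1, Int.negSucc 0, Int.negSucc 0, Int.ofNat 1, Int.negSucc 0, Int.ofNat 1, Int.negSucc 0, Int.ofNat 1, Int.ofNat 1, Int.ofNat 1, Int.ofNat 1, Int.negSucc 0, Int.negSucc 0, Int.ofNat 1, Int.ofNat 1, Int.ofNat 1, Int.negSucc 0, Int.ofNat 1, Int.ofNat 1, Int.ofNat 3, Int.ofNat 1, Int.ofNat 1, Int.ofNat 1, Int.ofNat 1],
  [Int.ofNat 1, Int.negSucc 0, Int.negSucc 0, Int.ofNat 1, Int.ofNat 1, Int.ofNat 1, Int.negSucc 0, Int.ofNat 1, Int.negSucc 0, Int.ofNat 1, Int.ofNat 1, Int.ofNat 1, Int.ofNat 1, Int.negSucc 0, Int.ofNat 1, Int.ofNat 1, Int.ofNat 1, Int.ofNat 1, Int.negSucc 0, Int.negSucc 0, Int.ofNat 1, Int.ofNat 1, Int.ofNat 3, Int.ofNat 1],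
  [Int.negSucc 0, Int.ofNat 1, Int.ofNat 1, Int.negSucc 0, Int.negSucc 0, Int.negSucc 0, Int.negSucc 0, Int.ofNat 1, Int.negSucc 0, Int.negSucc 0, Int.negSucc 0, Int.ofNat 1, Int.ofNat 1, Int.negSucc 2, Int.negSucc 0, Int.negSucc 0, Int.negSucc 0, Int.negSucc 0, Int.negSucc 0, Int.negSucc 0, Int.negSucc 0, Int.ofNat 1, Int.ofNat 1, Int.negSucc 0],
  [Int.negSucc 0, Int.ofNat 1, Int.negSucc 0, Int.negSucc 0, Int.negSucc 0, Int.ofNat 1, Int.ofNat 1, Int.ofNat 1, Int.negSucc 0, Int.ofNat 1, Int.ofNat 1, Int.ofNat 1, Int.ofNat 1, Int.negSucc 2, Int.negSucc 0, Int.ofNat 1, Int.negSucc 0, Int.negSucc 0, Int.ofNat 1, Int.negSucc 0, Int.negSucc 0, Int.ofNat 1, Int.negSucc 0, Int.negSucc 0],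
  [Int.negSucc 0, Int.negSucc 0, Int.ofNat 1, Int.ofNat 1, Int.ofNat 1, Int.negSucc 0, Int.negSucc 0, Int.negSucc 2, Int.ofNat 1, Int.ofNat 1, Int.negSucc 0, Int.negSucc 0, Int.negSucc 0, Int.negSucc 0, Int.negSucc 0, Int.ofNat 1, Int.ofNat 1, Int.negSucc 0, Int.negSucc 0, Int.ofNat 1, Int.ofNat 1, Int.ofNat 1, Int.ofNat 1, Int.negSucc 0],
  [Int.negSucc 0, Int.negSucc 0, Int.negSucc 0, Int.ofNat 1, Int.ofNat 1, Int.ofNat 1, Int.ofNat 1, Int.negSucc 2, Int.ofNat 1, Int.negSucc 0, Int.ofNat 1, Int.negSucc 0, Int.negSucc 0, Int.negSucc 0, Int.negSucc 0, Int.negSucc 0, Int.ofNat 1, Int.negSucc 0, Int.ofNat 1, Int.ofNat 1, Int.ofNat 1, Int.ofNat 1, Int.negSucc 0, Int.negSucc 0],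
  [Int.negSucc 0, Int.negSucc 0, Int.negSucc 0, Int.ofNat 1, Int.ofNat 1, Int.ofNat 1, Int.ofNat 1, Int.negSucc 2, Int.ofNat 1, Int.negSucc 0, Int.ofNat 1, Int.negSucc 0, Int.negSucc 0, Int.negSucc 0, Int.negSucc 0, Int.negSucc 0, Int.ofNat 1, Int.negSucc 0, Int.ofNat 1, Int.ofNat 1, Int.ofNat 1, Int.ofNat 1, Int.negSucc 0, Int.negSucc 0],
  [Int.negSucc 0, Int.ofNat 1, Int.ofNat 1, Int.ofNat 1, Int.negSucc 0, Int.ofNat 1, Int.negSucc 0, Int.ofNat 1, Int.ofNat 1, Int.negSucc 0, Int.negSucc 2, Int.ofNat 1, Int.ofNat 1, Int.negSucc 0, Int.negSucc 0, Int.negSucc 0, Int.negSucc 0, Int.negSucc 0, Int.ofNat 1, Int.negSucc 0, Int.ofNat 1, Int.ofNat 1, Int.negSucc 0, Int.negSucc 0],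
  [Int.ofNat 1, Int.negSucc 0, Int.negSucc 0, Int.ofNat 1, Int.ofNat 1, Int.ofNat 1, Int.negSucc 0, Int.ofNat 1, Int.negSucc 0, Int.ofNat 1, Int.negSucc 0, Int.negSucc 0, Int.negSucc 0, Int.ofNat 1, Int.negSucc 0, Int.ofNat 1, Int.ofNat 1, Int.negSucc 0, Int.negSucc 0, Int.negSucc 0, Int.ofNat 3, Int.ofNat 1, Int.ofNat 1, Int.ofNat 1],
  [Int.ofNat 3, Int.ofNat 1, Int.ofNat 1, Int.ofNat 1, Int.negSucc 0, Int.negSucc 0, Int.ofNat 1, Int.ofNat 1, Int.ofNat 1, Int.negSucc 0, Int.ofNat 1, Int.negSucc 0, Int.ofNat 1, Int.negSucc 0, Int.negSucc 0, Int.negSucc 0, Int.ofNat 1, Int.negSucc 0, Int.ofNat 1, Int.ofNat 1, Int.negSucc 0, Int.negSucc 0, Int.negSucc 0, Int.ofNat 1],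
  [Int.ofNat 0, Int.ofNat 2, Int.ofNat 2, Int.ofNat 2, Int.ofNat 0, Int.ofNat 0, Int.ofNat 0, Int.ofNat 0, Int.ofNat 0, Int.ofNat 0, Int.ofNat 2, Int.negSucc 1, Int.ofNat 0, Int.ofNat 0, Int.ofNat 0, Int.ofNat 0, Int.ofNat 2, Int.ofNat 0, Int.ofNat 0, Int.ofNat 0, Int.ofNat 0, Int.negSucc 1, Int.ofNat 0, Int.ofNat 2],
  [Int.ofNat 2, Int.ofNat 2, Int.ofNat 2, Int.ofNat 0, Int.ofNat 0, Int.ofNat 0, Int.ofNat 0, Int.ofNat 0, Int.ofNat 0, Int.ofNat 2, Int.negSucc 1, Int.ofNat 0, Int.ofNat 0, Int.ofNat 0, Int.ofNat 0, Int.ofNat 2, Int.ofNat 0, Int.ofNat 0, Int.ofNat 0, Int.ofNat 0, Int.negSucc 1, Int.ofNat 0, Int.ofNat 0, Int.ofNat 2],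
  [Int.negSucc 1, Int.ofNat 2, Int.negSucc 1, Int.ofNat 0, Int.ofNat 0, Int.ofNat 0, Int.ofNat 0, Int.ofNat 0, Int.ofNat 0, Int.negSucc 1, Int.ofNat 2, Int.ofNat 0, Int.ofNat 0, Int.ofNat 0, Int.ofNat 0, Int.ofNat 2, Int.ofNat 0, Int.ofNat 0, Int.ofNat 0, Int.ofNat 0, Int.negSucc 1, Int.ofNat 0, Int.ofNat 0, Int.ofNat 2],
  [Int.ofNat 2, Int.negSucc 1, Int.ofNat 2, Int.ofNat 0, Int.ofNat 0, Int.ofNat 0, Int.ofNat 0, Int.ofNat 0, Int.ofNat 0, Int.ofNat 2, Int.ofNat 2, Int.ofNat 0, Int.ofNat 0, Int.ofNat 0, Int.ofNat 0, Int.ofNat 2, Int.ofNat 0, Int.ofNat 0, Int.ofNat 0, Int.ofNat 0, Int.negSucc 1, Int.ofNat 0, Int.ofNat 0, Int.ofNat 2],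
  [Int.ofNat 2, Int.ofNat 2, Int.ofNat 0, Int.ofNat 0, Int.negSucc 1, Int.ofNat 2, Int.ofNat 0, Int.negSucc 1, Int.ofNat 2, Int.ofNat 0, Int.ofNat 0, Int.ofNat 0, Int.ofNat 0, Int.ofNat 0, Int.ofNat 0, Int.ofNat 2, Int.ofNat 0, Int.ofNat 0, Int.ofNat 0, Int.ofNat 0, Int.ofNat 0, Int.ofNat 0, Int.ofNat 0, Int.ofNat 2],
  [Int.negSucc 1, Int.ofNat 2, Int.ofNat 0, Int.ofNat 0, Int.negSucc 1, Int.ofNat 2, Int.ofNat 0, Int.ofNat 2, Int.ofNat 2, Int.ofNat 0, Int.ofNat 0, Int.ofNat 0, Int.ofNat 0, Int.ofNat 0, Int.ofNat 0, Int.ofNat 2, Int.ofNat 0, Int.ofNat 0, Int.ofNat 0, Int.ofNat 0, Int.ofNat 0, Int.ofNat 0, Int.ofNat 0, Int.ofNat 2],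
  [Int.ofNat 0, Int.negSucc 1, Int.ofNat 2, Int.ofNat 0, Int.ofNat 0, Int.negSucc 1, Int.ofNat 2, Int.ofNat 0, Int.ofNat 2, Int.ofNat 2, Int.ofNat 0, Int.ofNat 0, Int.ofNat 0, Int.ofNat 0, Int.ofNat 0, Int.ofNat 0, Int.ofNat 2, Int.ofNat 0, Int.ofNat 0, Int.ofNat 0, Int.ofNat 0, Int.ofNat 0, Int.ofNat 0, Int.ofNat 2],
  [Int.ofNat 1, Int.ofNat 3, Int.negSucc 0, Int.ofNat 1, Int.negSucc 0, Int.negSucc 0, Int.ofNat 1, Int.negSucc 0, Int.ofNat 1, Int.ofNat 1, Int.negSucc 0, Int.negSucc 0, Int.negSucc 0, Int.negSucc 0, Int.ofNat 1, Int.negSucc 0, Int.ofNat 1, Int.ofNat 1, Int.negSucc 0, Int.negSucc 0, Int.negSucc 0, Int.negSucc 0, Int.negSucc 0, Int.negSucc 0],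
  [Int.ofNat 1, Int.negSucc 0, Int.negSucc 0, Int.ofNat 1, Int.negSucc 0, Int.ofNat 1, Int.ofNat 1, Int.negSucc 0, Int.negSucc 0, Int.negSucc 0, Int.negSucc 0, Int.ofNat 1, Int.negSucc 0, Int.ofNat 1, Int.ofNat 1, Int.negSucc 0, Int.negSucc 0, Int.negSucc 0, Int.negSucc 0, Int.negSucc 0, Int.ofNat 1, Int.ofNat 3, Int.negSucc 0, Int.negSucc 0],
  [Int.negSucc 1, Int.ofNat 0, Int.ofNat 0, Int.ofNat 0, Int.ofNat 0, Int.ofNat 0, Int.ofNat 0, Int.negSucc 1, Int.ofNat 0, Int.ofNat 0, Int.ofNat 0, Int.ofNat 2, Int.ofNat 0, Int.ofNat 2, Int.ofNat 0, Int.ofNat 0, Int.ofNat 0, Int.negSucc 1, Int.ofNat 0, Int.negSucc 1, Int.ofNat 2, Int.ofNat 2, Int.ofNat 0, Int.ofNat 0],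
  [Int.negSucc 1, Int.ofNat 0, Int.ofNat 0, Int.ofNat 0, Int.ofNat 0, Int.negSucc 1, Int.ofNat 0, Int.ofNat 0, Int.ofNat 0, Int.ofNat 2, Int.ofNat 2, Int.negSucc 1, Int.ofNat 0, Int.ofNat 0, Int.ofNat 0, Int.ofNat 0, Int.ofNat 0, Int.ofNat 0, Int.ofNat 0, Int.ofNat 2, Int.ofNat 2, Int.ofNat 0, Int.negSucc 1, Int.ofNat 0],
  [Int.ofNat 1, Int.negSucc 0, Int.negSucc 0, Int.ofNat 1, Int.ofNat 1, Int.negSucc 0, Int.negSucc 0, Int.negSucc 0, Int.ofNat 1, Int.negSucc 0, Int.negSucc 0, Int.negSucc 0, Int.ofNat 1, Int.ofNat 1, Int.ofNat 1, Int.negSucc 2, Int.ofNat 1, Int.ofNat 1, Int.ofNat 1, Int.ofNat 1, Int.negSucc 0, Int.negSucc 0, Int.negSucc 0, Int.negSucc 0],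
  [Int.ofNat 1, Int.negSucc 0, Int.ofNat 1, Int.ofNat 1, Int.ofNat 1, Int.ofNat 1, Int.ofNat 1, Int.negSucc 0, Int.ofNat 1, Int.ofNat 1, Int.ofNat 1, Int.negSucc 0, Int.ofNat 1, Int.ofNat 1, Int.ofNat 1, Int.ofNat 3, Int.ofNat 1, Int.ofNat 1, Int.negSucc 0, Int.ofNat 1, Int.negSucc 0, Int.negSucc 0, Int.ofNat 1, Int.negSucc 0],
  [Int.ofNat 1, Int.ofNat 1, Int.negSucc 0, Int.ofNat 1, Int.ofNat 1, Int.ofNat 1, Int.negSucc 0, Int.ofNat 1, Int.ofNat 1, Int.negSucc 0, Int.ofNat 1, Int.negSucc 0, Int.ofNat 3, Int.ofNat 1, Int.ofNat 1, Int.negSucc 0, Int.ofNat 1, Int.ofNat 1, Int.ofNat 1, Int.ofNat 1, Int.ofNat 1, Int.negSucc 0, Int.ofNat 1, Int.negSucc 0],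
  [Int.negSucc 0, Int.ofNat 1, Int.negSucc 0, Int.negSucc 0, Int.ofNat 1, Int.negSucc 0, Int.ofNat 1, Int.ofNat 1, Int.ofNat 1, Int.ofNat 1, Int.ofNat 1, Int.negSucc 0, Int.negSucc 0, Int.ofNat 1, Int.ofNat 1, Int.ofNat 1, Int.ofNat 1, Int.ofNat 1, Int.ofNat 1, Int.negSucc 0, Int.ofNat 1, Int.ofNat 3, Int.ofNat 1, Int.ofNat 1],
  [Int.ofNat 1, Int.ofNat 1, Int.ofNat 1, Int.negSucc 0, Int.ofNat 1, Int.negSucc 0, Int.ofNat 1, Int.negSucc 0, Int.ofNat 1, Int.negSucc 0, Int.negSucc 0, Int.ofNat 1, Int.negSucc 0, Int.ofNat 1, Int.ofNat 1, Int.ofNat 1, Int.ofNat 1, Int.ofNat 1, Int.negSucc 0, Int.negSucc 0, Int.ofNat 1, Int.negSucc 2, Int.ofNat 1, Int.ofNat 1],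
  [Int.ofNat 1, Int.ofNat 1, Int.ofNat 1, Int.ofNat 1, Int.negSucc 0, Int.ofNat 1, Int.negSucc 0, Int.ofNat 1, Int.negSucc 0, Int.ofNat 1, Int.negSucc 0, Int.negSucc 0, Int.ofNat 1, Int.negSucc 0, Int.ofNat 1, Int.ofNat 1, Int.ofNat 1, Int.ofNat 1, Int.ofNat 1, Int.negSucc 0, Int.negSucc 0, Int.ofNat 1, Int.negSucc 2, Int.ofNat 1],
  [Int.ofNat 1, Int.ofNat 1, Int.ofNat 1, Int.negSucc 0, Int.ofNat 1, Int.negSucc 0, Int.negSucc 0, Int.ofNat 1, Int.negSucc 0, Int.ofNat 1, Int.negSucc 0, Int.negSucc 0, Int.ofNat 1, Int.ofNat 1, Int.negSucc 0, Int.ofNat 1, Int.ofNat 3, Int.negSucc 0, Int.ofNat 1, Int.negSucc 0, Int.negSucc 0, Int.ofNat 1, Int.negSucc 0, Int.ofNat 1],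
  [Int.negSucc 0, Int.ofNat 1, Int.negSucc 0, Int.negSucc 0, Int.ofNat 1, Int.negSucc 0, Int.ofNat 1, Int.negSucc 0, Int.negSucc 0, Int.ofNat 1, Int.ofNat 1, Int.negSucc 0, Int.ofNat 1, Int.ofNat 3, Int.negSucc 0, Int.ofNat 1, Int.negSucc 0, Int.negSucc 0, Int.ofNat 1, Int.negSucc 0, Int.ofNat 1, Int.ofNat 1, Int.ofNat 1, Int.ofNat 1],
  [Int.ofNat 1, Int.negSucc 0, Int.ofNat 1, Int.ofNat 1, Int.negSucc 0, Int.ofNat 1, Int.ofNat 1, Int.negSucc 0, Int.negSucc 0, Int.negSucc 0, Int.negSucc 0, Int.negSucc 0, Int.ofNat 1, Int.ofNat 1, Int.ofNat 1, Int.negSucc 0, Int.negSucc 2, Int.ofNat 1, Int.ofNat 1, Int.negSucc 0, Int.negSucc 0, Int.ofNat 1, Int.negSucc 0, Int.negSucc 0],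
  [Int.ofNat 1, Int.ofNat 1, Int.negSucc 0, Int.ofNat 1, Int.ofNat 1, Int.negSucc 0, Int.ofNat 1, Int.negSucc 0, Int.ofNat 1, Int.ofNat 1, Int.negSucc 0, Int.ofNat 1, Int.negSucc 0, Int.negSucc 2, Int.negSucc 0, Int.negSucc 0, Int.negSucc 0, Int.ofNat 1, Int.negSucc 0, Int.negSucc 0, Int.ofNat 1, Int.ofNat 1, Int.negSucc 0, Int.negSucc 0],
  [Int.negSucc 0, Int.negSucc 0, Int.ofNat 1, Int.ofNat 1, Int.ofNat 3, Int.negSucc 0, Int.ofNat 1, Int.negSucc 0, Int.ofNat 1, Int.ofNat 1, Int.negSucc 0, Int.ofNat 1, Int.negSucc 0, Int.negSucc 0, Int.negSucc 0, Int.negSucc 0, Int.ofNat 1, Int.ofNat 1, Int.negSucc 0, Int.negSucc 0, Int.ofNat 1, Int.ofNat 1, Int.ofNat 1, Int.ofNat 1],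
  [Int.negSucc 0, Int.negSucc 0, Int.negSucc 0, Int.ofNat 1, Int.ofNat 3, Int.ofNat 1, Int.negSucc 0, Int.negSucc 0, Int.ofNat 1, Int.negSucc 0, Int.ofNat 1, Int.ofNat 1, Int.negSucc 0, Int.negSucc 0, Int.negSucc 0, Int.ofNat 1, Int.ofNat 1, Int.ofNat 1, Int.ofNat 1, Int.negSucc 0, Int.ofNat 1, Int.ofNat 1, Int.negSucc 0, Int.ofNat 1],
  [Int.negSucc 0, Int.negSucc 0, Int.negSucc 0, Int.ofNat 1, Int.ofNat 1, Int.ofNat 1, Int.negSucc 0, Int.negSucc 0, Int.ofNat 1, Int.negSucc 0, Int.negSucc 0, Int.ofNat 1, Int.negSucc 0, Int.ofNat 1, Int.ofNat 1, Int.negSucc 0, Int.ofNat 1, Int.ofNat 3, Int.ofNat 1, Int.ofNat 1, Int.ofNat 1, Int.negSucc 0, Int.negSucc 0, Int.ofNat 1],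
  [Int.negSucc 0, Int.negSucc 0, Int.ofNat 1, Int.ofNat 1, Int.ofNat 1, Int.negSucc 0, Int.ofNat 1, Int.negSucc 0, Int.ofNat 1, Int.ofNat 1, Int.ofNat 1, Int.ofNat 1, Int.negSucc 0, Int.ofNat 1, Int.ofNat 1, Int.ofNat 1, Int.ofNat 1, Int.ofNat 3, Int.negSucc 0, Int.ofNat 1, Int.ofNat 1, Int.negSucc 0, Int.ofNat 1, Int.ofNat 1],
  [Int.ofNat 1, Int.ofNat 1, Int.negSucc 0, Int.negSucc 0, Int.negSucc 0, Int.negSucc 2, Int.ofNat 1, Int.negSucc 0, Int.ofNat 1, Int.negSucc 0, Int.negSucc 0, Int.ofNat 1, Int.negSucc 0, Int.negSucc 0, Int.negSucc 0, Int.negSucc 0, Int.negSucc 0, Int.ofNat 1, Int.negSucc 0, Int.ofNat 1, Int.negSucc 0, Int.negSucc 0, Int.negSucc 0, Int.negSucc 0],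
  [Int.ofNat 1, Int.negSucc 0, Int.ofNat 1, Int.negSucc 0, Int.negSucc 0, Int.negSucc 0, Int.ofNat 1, Int.negSucc 2, Int.negSucc 0, Int.negSucc 0, Int.negSucc 0, Int.ofNat 1, Int.ofNat 1, Int.negSucc 0, Int.ofNat 1, Int.negSucc 0, Int.negSucc 0, Int.ofNat 1, Int.negSucc 0, Int.negSucc 0, Int.negSucc 0, Int.negSucc 0, Int.negSucc 0, Int.negSucc 0],
  [Int.negSucc 0, Int.ofNat 1, Int.negSucc 0, Int.negSucc 0, Int.ofNat 1, Int.negSucc 0, Int.ofNat 3, Int.negSucc 0, Int.negSucc 0, Int.ofNat 1, Int.ofNat 1, Int.ofNat 1, Int.ofNat 1, Int.ofNat 1, Int.ofNat 1, Int.ofNat 1, Int.ofNat 1, Int.ofNat 1, Int.negSucc 0, Int.ofNat 1, Int.ofNat 1, Int.ofNat 1, Int.ofNat 1, Int.ofNat 1],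
  [Int.ofNat 1, Int.ofNat 1, Int.ofNat 1, Int.negSucc 0, Int.ofNat 1, Int.negSucc 0, Int.negSucc 0, Int.ofNat 1, Int.negSucc 0, Int.ofNat 3, Int.negSucc 0, Int.negSucc 0, Int.ofNat 1, Int.ofNat 1, Int.ofNat 1, Int.ofNat 1, Int.ofNat 1, Int.ofNat 1, Int.ofNat 1, Int.ofNat 1, Int.ofNat 1, Int.negSucc 0, Int.ofNat 1, Int.ofNat 1],
  [Int.ofNat 1, Int.ofNat 1, Int.ofNat 1, Int.negSucc 0, Int.negSucc 0, Int.negSucc 0, Int.negSucc 0, Int.ofNat 1, Int.negSucc 0, Int.ofNat 1, Int.negSucc 2, Int.negSucc 0, Int.ofNat 1, Int.negSucc 0, Int.ofNat 1, Int.negSucc 0, Int.negSucc 0, Int.ofNat 1, Int.ofNat 1, Int.ofNat 1, Int.negSucc 0, Int.negSucc 0, Int.negSucc 0, Int.ofNat 1],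
  [Int.ofNat 1, Int.ofNat 1, Int.negSucc 0, Int.negSucc 0, Int.negSucc 0, Int.negSucc 0, Int.ofNat 1, Int.negSucc 0, Int.ofNat 1, Int.negSucc 2, Int.negSucc 0, Int.ofNat 1, Int.negSucc 0, Int.ofNat 1, Int.negSucc 0, Int.negSucc 0, Int.ofNat 1, Int.ofNat 1, Int.ofNat 1, Int.negSucc 0, Int.negSucc 0, Int.negSucc 0, Int.ofNat 1, Int.ofNat 1],
  [Int.negSucc 0, Int.ofNat 1, Int.ofNat 1, Int.negSucc 0, Int.negSucc 0, Int.negSucc 0, Int.ofNat 1, Int.ofNat 1, Int.ofNat 1, Int.ofNat 3, Int.ofNat 1, Int.negSucc 0, Int.negSucc 0, Int.ofNat 1, Int.negSucc 0, Int.negSucc 0, Int.ofNat 1, Int.ofNat 1, Int.negSucc 0, Int.negSucc 0, Int.negSucc 0, Int.ofNat 1, Int.ofNat 1, Int.ofNat 1],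
  [Int.ofNat 1, Int.negSucc 0, Int.negSucc 0, Int.ofNat 1, Int.ofNat 1, Int.negSucc 0, Int.negSucc 0, Int.ofNat 1, Int.negSucc 0, Int.negSucc 2, Int.ofNat 1, Int.negSucc 0, Int.ofNat 1, Int.negSucc 0, Int.negSucc 0, Int.negSucc 0, Int.negSucc 0, Int.ofNat 1, Int.ofNat 1, Int.negSucc 0, Int.negSucc 0, Int.ofNat 1, Int.ofNat 1, Int.ofNat 1],
  [Int.ofNat 1, Int.negSucc 0, Int.ofNat 1, Int.ofNat 1, Int.negSucc 0, Int.ofNat 1, Int.ofNat 1, Int.negSucc 0, Int.negSucc 2, Int.negSucc 0, Int.ofNat 1, Int.negSucc 0, Int.negSucc 0, Int.negSucc 0, Int.negSucc 0, Int.negSucc 0, Int.ofNat 1, Int.ofNat 1, Int.negSucc 0, Int.ofNat 1, Int.negSucc 0, Int.ofNat 1, Int.negSucc 0, Int.ofNat 1],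
  [Int.negSucc 0, Int.negSucc 0, Int.negSucc 0, Int.ofNat 1, Int.negSucc 0, Int.ofNat 1, Int.ofNat 1, Int.ofNat 1, Int.negSucc 2, Int.ofNat 1, Int.negSucc 0, Int.ofNat 1, Int.negSucc 0, Int.negSucc 0, Int.negSucc 0, Int.negSucc 0, Int.ofNat 1, Int.ofNat 1, Int.ofNat 1, Int.ofNat 1, Int.negSucc 0, Int.negSucc 0, Int.negSucc 0, Int.ofNat 1],
  [Int.negSucc 0, Int.negSucc 0, Int.negSucc 0, Int.negSucc 0, Int.ofNat 1, Int.negSucc 0, Int.ofNat 1, Int.ofNat 1, Int.ofNat 1, Int.negSucc 2, Int.ofNat 1, Int.negSucc 0, Int.ofNat 1, Int.negSucc 0, Int.negSucc 0, Int.negSucc 0, Int.negSucc 0, Int.ofNat 1, Int.ofNat 1, Int.ofNat 1, Int.ofNat 1, Int.negSucc 0, Int.negSucc 0, Int.ofNat 1],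
  [Int.ofNat 0, Int.ofNat 0, Int.ofNat 0, Int.ofNat 0, Int.ofNat 2, Int.ofNat 0, Int.ofNat 0, Int.ofNat 0, Int.ofNat 0, Int.negSucc 1, Int.ofNat 2, Int.negSucc 1, Int.ofNat 0, Int.ofNat 0, Int.ofNat 0, Int.ofNat 0, Int.ofNat 0, Int.ofNat 2, Int.ofNat 0, Int.ofNat 0, Int.ofNat 2, Int.negSucc 1, Int.ofNat 0, Int.negSucc 1],
  [Int.ofNat 0, Int.ofNat 2, Int.ofNat 0, Int.ofNat 0, Int.ofNat 0, Int.ofNat 0, Int.negSucc 1, Int.ofNat 2, Int.negSucc 1, Int.ofNat 0, Int.ofNat 0, Int.ofNat 0, Int.ofNat 0, Int.ofNat 0, Int.ofNat 2, Int.ofNat 0, Int.ofNat 0, Int.ofNat 2, Int.negSucc 1, Int.ofNat 0, Int.ofNat 0, Int.ofNat 0, Int.ofNat 0, Int.negSucc 1],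
  [Int.ofNat 0, Int.negSucc 1, Int.ofNat 0, Int.negSucc 1, Int.ofNat 0, Int.negSucc 1, Int.negSucc 1, Int.ofNat 2, Int.ofNat 0, Int.ofNat 0, Int.ofNat 0, Int.ofNat 2, Int.ofNat 2, Int.ofNat 0, Int.ofNat 0, Int.ofNat 0, Int.ofNat 0, Int.ofNat 0, Int.ofNat 0, Int.ofNat 0, Int.ofNat 0, Int.ofNat 0, Int.ofNat 0, Int.ofNat 2],
  [Int.ofNat 0, Int.negSucc 1, Int.ofNat 0, Int.negSucc 1, Int.ofNat 0, Int.ofNat 2, Int.ofNat 0, Int.ofNat 0, Int.ofNat 2, Int.ofNat 0, Int.ofNat 0, Int.ofNat 0, Int.ofNat 0, Int.ofNat 0, Int.ofNat 0, Int.ofNat 0, Int.ofNat 0, Int.ofNat 0, Int.negSucc 1, Int.ofNat 2, Int.ofNat 0, Int.negSucc 1, Int.ofNat 0, Int.ofNat 2],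
  [Int.ofNat 0, Int.ofNat 2, Int.ofNat 0, Int.negSucc 1, Int.ofNat 0, Int.ofNat 2, Int.ofNat 0, Int.ofNat 0, Int.ofNat 2, Int.ofNat 0, Int.ofNat 0, Int.ofNat 0, Int.ofNat 0, Int.ofNat 0, Int.ofNat 0, Int.ofNat 0, Int.ofNat 0, Int.ofNat 0, Int.negSucc 1, Int.ofNat 2, Int.ofNat 0, Int.negSucc 1, Int.ofNat 0, Int.negSucc 1],
  [Int.ofNat 0, Int.ofNat 2, Int.ofNat 0, Int.negSucc 1, Int.ofNat 0, Int.negSucc 1, Int.ofNat 0, Int.ofNat 0, Int.ofNat 2, Int.ofNat 0, Int.ofNat 0, Int.ofNat 0, Int.ofNat 0, Int.ofNat 0, Int.ofNat 0, Int.ofNat 0, Int.ofNat 0, Int.ofNat 0, Int.ofNat 2, Int.ofNat 2, Int.ofNat 0, Int.negSucc 1, Int.ofNat 0, Int.negSucc 1],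
  [Int.ofNat 0, Int.ofNat 0, Int.ofNat 0, Int.ofNat 2, Int.ofNat 0, Int.ofNat 0, Int.negSucc 1, Int.negSucc 1, Int.negSucc 1, Int.ofNat 0, Int.ofNat 0, Int.ofNat 0, Int.ofNat 0, Int.ofNat 0, Int.ofNat 0, Int.ofNat 2, Int.ofNat 2, Int.ofNat 0, Int.ofNat 0, Int.ofNat 0, Int.ofNat 0, Int.ofNat 2, Int.ofNat 0, Int.negSucc 1],
  [Int.negSucc 1, Int.ofNat 0, Int.ofNat 0, Int.ofNat 2, Int.ofNat 0, Int.ofNat 0, Int.ofNat 0, Int.ofNat 0, Int.ofNat 0, Int.ofNat 0, Int.ofNat 2, Int.ofNat 0, Int.ofNat 2, Int.negSucc 1, Int.ofNat 0, Int.ofNat 2, Int.ofNat 0, Int.ofNat 0, Int.ofNat 0, Int.negSucc 1, Int.negSucc 1, Int.ofNat 0, Int.ofNat 0, Int.ofNat 0],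
  [Int.ofNat 2, Int.ofNat 0, Int.ofNat 0, Int.ofNat 2, Int.ofNat 0, Int.ofNat 0, Int.ofNat 0, Int.ofNat 0, Int.ofNat 0, Int.ofNat 0, Int.negSucc 1, Int.ofNat 0, Int.ofNat 2, Int.negSucc 1, Int.ofNat 0, Int.ofNat 2, Int.ofNat 0, Int.ofNat 0, Int.ofNat 0, Int.negSucc 1, Int.negSucc 1, Int.ofNat 0, Int.ofNat 0, Int.ofNat 0],
  [Int.ofNat 0, Int.ofNat 2, Int.ofNat 0, Int.ofNat 0, Int.ofNat 2, Int.ofNat 0, Int.ofNat 0, Int.ofNat 0, Int.ofNat 0, Int.ofNat 0, Int.ofNat 0, Int.negSucc 1, Int.ofNat 0, Int.ofNat 2, Int.negSucc 1, Int.ofNat 0, Int.ofNat 2, Int.ofNat 0, Int.ofNat 0, Int.ofNat 0, Int.negSucc 1, Int.negSucc 1, Int.ofNat 0, Int.ofNat 0],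
  [Int.ofNat 1, Int.negSucc 0, Int.ofNat 1, Int.ofNat 1, Int.negSucc 0, Int.ofNat 1, Int.ofNat 1, Int.ofNat 1, Int.ofNat 1, Int.ofNat 1, Int.ofNat 1, Int.negSucc 0, Int.ofNat 1, Int.negSucc 0, Int.negSucc 0, Int.ofNat 1, Int.negSucc 0, Int.ofNat 1, Int.ofNat 1, Int.ofNat 1, Int.negSucc 0, Int.negSucc 0, Int.negSucc 2, Int.ofNat 1],
  [Int.ofNat 1, Int.negSucc 0, Int.ofNat 1, Int.ofNat 1, Int.ofNat 1, Int.ofNat 1, Int.ofNat 1, Int.ofNat 1, Int.negSucc 0, Int.ofNat 1, Int.negSucc 0, Int.negSucc 0, Int.ofNat 1, Int.negSucc 0, Int.ofNat 1, Int.ofNat 1, Int.ofNat 1, Int.negSucc 0, Int.negSucc 0, Int.negSucc 2, Int.ofNat 1, Int.negSucc 0, Int.ofNat 1, Int.ofNat 1],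
  [Int.ofNat 0, Int.ofNat 2, Int.ofNat 0, Int.ofNat 0, Int.ofNat 0, Int.ofNat 0, Int.ofNat 2, Int.ofNat 2, Int.ofNat 0, Int.ofNat 0, Int.negSucc 1, Int.ofNat 0, Int.ofNat 2, Int.negSucc 1, Int.ofNat 0, Int.ofNat 0, Int.ofNat 0, Int.negSucc 1, Int.ofNat 0, Int.negSucc 1, Int.ofNat 0, Int.ofNat 0, Int.ofNat 0, Int.ofNat 0],
  [Int.ofNat 0, Int.ofNat 2, Int.ofNat 0, Int.ofNat 0, Int.ofNat 0, Int.ofNat 2, Int.ofNat 0, Int.negSucc 1, Int.ofNat 2, Int.negSucc 1, Int.ofNat 0, Int.negSucc 1, Int.ofNat 0, Int.ofNat 0, Int.ofNat 0, Int.ofNat 0, Int.ofNat 0, Int.ofNat 0, Int.ofNat 2, Int.ofNat 0, Int.ofNat 0, Int.ofNat 0, Int.negSucc 1, Int.ofNat 0],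
  [Int.ofNat 1, Int.negSucc 0, Int.ofNat 1, Int.negSucc 0, Int.ofNat 1, Int.ofNat 1, Int.ofNat 1, Int.negSucc 0, Int.ofNat 1, Int.negSucc 0, Int.ofNat 1, Int.negSucc 2, Int.negSucc 0, Int.ofNat 1, Int.negSucc 0, Int.ofNat 1, Int.ofNat 1, Int.negSucc 0, Int.ofNat 1, Int.ofNat 1, Int.ofNat 1, Int.ofNat 1, Int.negSucc 0, Int.ofNat 1],
  [Int.ofNat 1, Int.negSucc 0, Int.negSucc 0, Int.negSucc 0, Int.ofNat 1, Int.negSucc 0, Int.negSucc 0, Int.negSucc 0, Int.ofNat 1, Int.ofNat 1, Int.negSucc 0, Int.negSucc 2, Int.negSucc 0, Int.ofNat 1, Int.negSucc 0, Int.negSucc 0, Int.ofNat 1, Int.negSucc 0, Int.negSucc 0, Int.ofNat 1, Int.ofNat 1, Int.ofNat 1, Int.ofNat 1, Int.ofNat 1],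
  [Int.negSucc 0, Int.ofNat 1, Int.ofNat 1, Int.ofNat 1, Int.negSucc 0, Int.negSucc 0, Int.negSucc 0, Int.ofNat 1, Int.negSucc 2, Int.negSucc 0, Int.ofNat 1, Int.ofNat 1, Int.ofNat 1, Int.ofNat 1, Int.ofNat 1, Int.negSucc 0, Int.negSucc 0, Int.ofNat 1, Int.negSucc 0, Int.negSucc 0, Int.negSucc 0, Int.negSucc 0, Int.negSucc 0, Int.ofNat 1],
  [Int.negSucc 0, Int.ofNat 1, Int.negSucc 0, Int.ofNat 1, Int.negSucc 0, Int.ofNat 1, Int.ofNat 1, Int.ofNat 1, Int.negSucc 2, Int.ofNat 1, Int.negSucc 0, Int.ofNat 1, Int.ofNat 1, Int.ofNat 1, Int.ofNat 1, Int.ofNat 1, Int.negSucc 0, Int.ofNat 1, Int.ofNat 1, Int.negSucc 0, Int.negSucc 0, Int.negSucc 0, Int.ofNat 1, Int.ofNat 1],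
  [Int.ofNat 1, Int.negSucc 0, Int.ofNat 1, Int.negSucc 0, Int.negSucc 0, Int.negSucc 0, Int.ofNat 1, Int.ofNat 1, Int.negSucc 2, Int.ofNat 1, Int.negSucc 0, Int.ofNat 1, Int.ofNat 1, Int.ofNat 1, Int.negSucc 0, Int.ofNat 1, Int.negSucc 0, Int.negSucc 0, Int.ofNat 1, Int.negSucc 0, Int.negSucc 0, Int.negSucc 0, Int.ofNat 1, Int.negSucc 0],
  [Int.ofNat 1, Int.ofNat 1, Int.ofNat 1, Int.negSucc 0, Int.ofNat 1, Int.negSucc 0, Int.negSucc 0, Int.negSucc 0, Int.negSucc 0, Int.ofNat 1, Int.ofNat 1, Int.negSucc 0, Int.negSucc 2, Int.ofNat 1, Int.negSucc 0, Int.ofNat 1, Int.ofNat 1, Int.ofNat 1, Int.negSucc 0, Int.ofNat 1, Int.negSucc 0, Int.negSucc 0, Int.negSucc 0, Int.negSucc 0],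
  [Int.ofNat 0, Int.ofNat 0, Int.ofNat 0, Int.ofNat 0, Int.ofNat 0, Int.ofNat 0, Int.ofNat 0, Int.ofNat 0, Int.ofNat 2, Int.ofNat 0, Int.ofNat 0, Int.ofNat 2, Int.ofNat 0, Int.ofNat 0, Int.ofNat 0, Int.ofNat 0, Int.ofNat 0, Int.ofNat 2, Int.ofNat 2, Int.ofNat 2, Int.negSucc 1, Int.ofNat 0, Int.negSucc 1, Int.ofNat 2],
  [Int.negSucc 1, Int.ofNat 0, Int.negSucc 1, Int.ofNat 0, Int.ofNat 0, Int.ofNat 0, Int.ofNat 0, Int.ofNat 0, Int.ofNat 0, Int.ofNat 0, Int.ofNat 0, Int.ofNat 2, Int.ofNat 0, Int.ofNat 0, Int.ofNat 2, Int.ofNat 0, Int.ofNat 0, Int.ofNat 0, Int.ofNat 0, Int.ofNat 0, Int.ofNat 2, Int.ofNat 2, Int.ofNat 2, Int.ofNat 2],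
  [Int.ofNat 1, Int.negSucc 0, Int.ofNat 1, Int.negSucc 0, Int.negSucc 0, Int.negSucc 0, Int.negSucc 0, Int.negSucc 0, Int.negSucc 0, Int.negSucc 0, Int.negSucc 0, Int.ofNat 1, Int.negSucc 0, Int.negSucc 0, Int.ofNat 1, Int.negSucc 0, Int.negSucc 0, Int.negSucc 0, Int.negSucc 0, Int.negSucc 0, Int.ofNat 1, Int.ofNat 1, Int.ofNat 1, Int.negSucc 2],
  [Int.negSucc 0, Int.ofNat 1, Int.negSucc 0, Int.negSucc 0, Int.negSucc 0, Int.negSucc 0, Int.negSucc 0, Int.negSucc 0, Int.negSucc 0, Int.negSucc 0, Int.ofNat 1, Int.negSucc 0, Int.negSucc 0, Int.ofNat 1, Int.negSucc 0, Int.negSucc 0, Int.negSucc 0, Int.negSucc 0, Int.negSucc 0, Int.ofNat 1, Int.ofNat 1, Int.ofNat 1, Int.ofNat 1, Int.negSucc 2],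
  [Int.ofNat 1, Int.ofNat 1, Int.ofNat 1, Int.negSucc 0, Int.negSucc 0, Int.negSucc 0, Int.negSucc 0, Int.ofNat 1, Int.negSucc 0, Int.ofNat 1, Int.negSucc 0, Int.ofNat 1, Int.negSucc 0, Int.ofNat 1, Int.negSucc 0, Int.negSucc 0, Int.negSucc 0, Int.negSucc 0, Int.ofNat 1, Int.ofNat 1, Int.ofNat 1, Int.negSucc 0, Int.ofNat 1, Int.negSucc 2],
  [Int.negSucc 0, Int.negSucc 0, Int.negSucc 0, Int.ofNat 1, Int.ofNat 1, Int.negSucc 0, Int.ofNat 1, Int.ofNat 1, Int.ofNat 1, Int.negSucc 0, Int.negSucc 0, Int.ofNat 1, Int.ofNat 1, Int.negSucc 0, Int.negSucc 0, Int.negSucc 0, Int.ofNat 1, Int.negSucc 0, Int.negSucc 0, Int.ofNat 1, Int.ofNat 1, Int.negSucc 0, Int.ofNat 1, Int.negSucc 2],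
  [Int.negSucc 0, Int.negSucc 0, Int.negSucc 0, Int.ofNat 1, Int.negSucc 0, Int.negSucc 0, Int.ofNat 1, Int.ofNat 1, Int.negSucc 0, Int.ofNat 1, Int.negSucc 0, Int.negSucc 0, Int.negSucc 0, Int.ofNat 1, Int.ofNat 1, Int.negSucc 0, Int.ofNat 1, Int.ofNat 1, Int.ofNat 1, Int.negSucc 0, Int.negSucc 0, Int.ofNat 1, Int.ofNat 1, Int.negSucc 2],
  [Int.ofNat 1, Int.negSucc 0, Int.ofNat 1, Int.ofNat 1, Int.negSucc 0, Int.negSucc 0, Int.ofNat 1, Int.negSucc 0, Int.negSucc 0, Int.negSucc 0, Int.ofNat 1, Int.ofNat 1, Int.negSucc 0, Int.ofNat 1, Int.ofNat 1, Int.negSucc 0, Int.ofNat 1, Int.ofNat 1, Int.negSucc 0, Int.negSucc 0, Int.negSucc 0, Int.negSucc 0, Int.ofNat 1, Int.negSucc 2],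
  [Int.ofNat 1, Int.ofNat 1, Int.negSucc 0, Int.ofNat 1, Int.ofNat 1, Int.negSucc 0, Int.negSucc 0, Int.ofNat 1, Int.negSucc 0, Int.negSucc 0, Int.negSucc 0, Int.ofNat 1, Int.ofNat 1, Int.negSucc 0, Int.ofNat 1, Int.ofNat 1, Int.negSucc 0, Int.ofNat 1, Int.ofNat 1, Int.negSucc 0, Int.negSucc 0, Int.negSucc 0, Int.negSucc 0, Int.negSucc 2],
  [Int.negSucc 1, Int.negSucc 1, Int.ofNat 0, Int.ofNat 0, Int.ofNat 2, Int.negSucc 1, Int.ofNat 0, Int.ofNat 2, Int.negSucc 1, Int.ofNat 0, Int.ofNat 0, Int.ofNat 0, Int.ofNat 0, Int.ofNat 0, Int.ofNat 0, Int.ofNat 2, Int.ofNat 0, Int.ofNat 0, Int.ofNat 0, Int.ofNat 0, Int.ofNat 0, Int.ofNat 0, Int.ofNat 0, Int.ofNat 2],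
  [Int.ofNat 0, Int.ofNat 2, Int.negSucc 1, Int.ofNat 0, Int.ofNat 2, Int.negSucc 1, Int.ofNat 0, Int.ofNat 0, Int.ofNat 0, Int.ofNat 0, Int.ofNat 0, Int.ofNat 0, Int.ofNat 2, Int.ofNat 0, Int.ofNat 0, Int.ofNat 0, Int.ofNat 0, Int.ofNat 0, Int.ofNat 0, Int.ofNat 0, Int.negSucc 1, Int.negSucc 1, Int.ofNat 0, Int.ofNat 2],
  [Int.ofNat 1, Int.negSucc 0, Int.ofNat 3, Int.ofNat 1, Int.ofNat 1, Int.negSucc 0, Int.ofNat 1, Int.ofNat 1, Int.negSucc 0, Int.ofNat 1, Int.ofNat 1, Int.negSucc 0, Int.ofNat 1, Int.negSucc 0, Int.ofNat 1, Int.ofNat 1, Int.negSucc 0, Int.ofNat 1, Int.negSucc 0, Int.ofNat 1, Int.negSucc 0, Int.negSucc 0, Int.negSucc 0, Int.negSucc 0],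
  [Int.ofNat 1, Int.ofNat 1, Int.ofNat 1, Int.ofNat 1, Int.negSucc 0, Int.ofNat 1, Int.ofNat 3, Int.ofNat 1, Int.ofNat 1, Int.negSucc 0, Int.negSucc 0, Int.ofNat 1, Int.ofNat 1, Int.negSucc 0, Int.negSucc 0, Int.ofNat 1, Int.negSucc 0, Int.ofNat 1, Int.negSucc 0, Int.negSucc 0, Int.negSucc 0, Int.negSucc 0, Int.ofNat 1, Int.negSucc 0],
  [Int.ofNat 0, Int.ofNat 0, Int.ofNat 0, Int.ofNat 0, Int.ofNat 0, Int.ofNat 0, Int.ofNat 2, Int.ofNat 0, Int.ofNat 0, Int.ofNat 0, Int.ofNat 0, Int.ofNat 0, Int.ofNat 0, Int.ofNat 0, Int.negSucc 1, Int.ofNat 2, Int.ofNat 0, Int.ofNat 0, Int.negSucc 1, Int.negSucc 1, Int.ofNat 0, Int.negSucc 1, Int.ofNat 2, Int.ofNat 2],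
  [Int.ofNat 0, Int.ofNat 0, Int.ofNat 0, Int.ofNat 0, Int.ofNat 0, Int.ofNat 0, Int.negSucc 1, Int.ofNat 0, Int.ofNat 0, Int.ofNat 0, Int.ofNat 0, Int.ofNat 0, Int.ofNat 0, Int.ofNat 0, Int.negSucc 1, Int.negSucc 1, Int.ofNat 0, Int.ofNat 0, Int.ofNat 2, Int.negSucc 1, Int.ofNat 0, Int.negSucc 1, Int.negSucc 1, Int.ofNat 2],
  [Int.ofNat 0, Int.ofNat 0, Int.ofNat 0, Int.ofNat 0, Int.negSucc 1, Int.negSucc 1, Int.negSucc 1, Int.ofNat 0, Int.ofNat 0, Int.ofNat 0, Int.ofNat 0, Int.ofNat 0, Int.negSucc 1, Int.ofNat 0, Int.ofNat 0, Int.ofNat 2, Int.negSucc 1, Int.ofNat 0, Int.ofNat 0, Int.ofNat 0, Int.ofNat 0, Int.ofNat 0, Int.negSucc 1, Int.ofNat 2],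
  [Int.ofNat 2, Int.negSucc 1, Int.ofNat 0, Int.ofNat 2, Int.ofNat 0, Int.ofNat 0, Int.ofNat 0, Int.ofNat 0, Int.ofNat 0, Int.negSucc 1, Int.negSucc 1, Int.ofNat 0, Int.ofNat 0, Int.ofNat 0, Int.ofNat 0, Int.ofNat 0, Int.ofNat 0, Int.negSucc 1, Int.ofNat 0, Int.negSucc 1, Int.ofNat 0, Int.negSucc 1, Int.ofNat 0, Int.ofNat 0],
  [Int.negSucc 1, Int.negSucc 1, Int.ofNat 0, Int.ofNat 2, Int.ofNat 0, Int.ofNat 0, Int.ofNat 0, Int.ofNat 0, Int.ofNat 0, Int.ofNat 2, Int.ofNat 2, Int.ofNat 0, Int.ofNat 0, Int.ofNat 0, Int.ofNat 0, Int.ofNat 0, Int.ofNat 0, Int.negSucc 1, Int.ofNat 0, Int.negSucc 1, Int.ofNat 0, Int.ofNat 2, Int.ofNat 0, Int.ofNat 0],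
  [Int.ofNat 0, Int.negSucc 1, Int.negSucc 1, Int.ofNat 0, Int.ofNat 2, Int.ofNat 0, Int.ofNat 0, Int.ofNat 0, Int.ofNat 0, Int.ofNat 0, Int.ofNat 2, Int.ofNat 2, Int.ofNat 0, Int.ofNat 0, Int.ofNat 0, Int.ofNat 0, Int.ofNat 0, Int.ofNat 0, Int.negSucc 1, Int.ofNat 0, Int.negSucc 1, Int.ofNat 0, Int.ofNat 2, Int.ofNat 0],
  [Int.negSucc 1, Int.ofNat 0, Int.ofNat 0, Int.ofNat 0, Int.ofNat 0, Int.ofNat 0, Int.ofNat 0, Int.ofNat 0, Int.ofNat 0, Int.ofNat 0, Int.ofNat 2, Int.ofNat 2, Int.ofNat 0, Int.negSucc 1, Int.ofNat 0, Int.ofNat 0, Int.negSucc 1, Int.ofNat 0, Int.negSucc 1, Int.ofNat 0, Int.negSucc 1, Int.ofNat 0, Int.ofNat 0, Int.negSucc 1],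
  [Int.ofNat 0, Int.ofNat 0, Int.ofNat 0, Int.ofNat 0, Int.ofNat 0, Int.ofNat 0, Int.ofNat 0, Int.ofNat 2, Int.ofNat 2, Int.ofNat 0, Int.negSucc 1, Int.ofNat 0, Int.ofNat 0, Int.negSucc 1, Int.ofNat 0, Int.negSucc 1, Int.ofNat 0, Int.negSucc 1, Int.ofNat 0, Int.ofNat 0, Int.negSucc 1, Int.ofNat 0, Int.ofNat 0, Int.negSucc 1],
  [Int.negSucc 0, Int.negSucc 0, Int.negSucc 0, Int.ofNat 1, Int.ofNat 1, Int.ofNat 1, Int.negSucc 0, Int.ofNat 1, Int.ofNat 1, Int.ofNat 3, Int.ofNat 1, Int.negSucc 0, Int.negSucc 0, Int.negSucc 0, Int.ofNat 1, Int.ofNat 1, Int.ofNat 1, Int.negSucc 0, Int.negSucc 0, Int.negSucc 0, Int.ofNat 1, Int.negSucc 0, Int.ofNat 1, Int.ofNat 1],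
  [Int.negSucc 0, Int.negSucc 0, Int.ofNat 1, Int.ofNat 1, Int.negSucc 0, Int.ofNat 1, Int.negSucc 0, Int.ofNat 1, Int.negSucc 0, Int.negSucc 0, Int.ofNat 1, Int.negSucc 0, Int.ofNat 3, Int.ofNat 1, Int.ofNat 1, Int.ofNat 1, Int.ofNat 1, Int.ofNat 1, Int.negSucc 0, Int.negSucc 0, Int.negSucc 0, Int.ofNat 1, Int.negSucc 0, Int.ofNat 1],
  [Int.ofNat 1, Int.ofNat 1, Int.negSucc 0, Int.negSucc 0, Int.negSucc 0, Int.negSucc 0, Int.negSucc 0, Int.ofNat 1, Int.negSucc 0, Int.negSucc 0, Int.ofNat 1, Int.negSucc 0, Int.ofNat 3, Int.ofNat 1, Int.negSucc 0, Int.ofNat 1, Int.ofNat 1, Int.negSucc 0, Int.negSucc 0, Int.negSucc 0, Int.negSucc 0, Int.ofNat 1, Int.negSucc 0, Int.negSucc 0],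
  [Int.ofNat 1, Int.ofNat 1, Int.ofNat 1, Int.negSucc 0, Int.negSucc 0, Int.ofNat 1, Int.ofNat 1, Int.ofNat 1, Int.negSucc 0, Int.ofNat 1, Int.negSucc 0, Int.negSucc 0, Int.ofNat 3, Int.ofNat 1, Int.negSucc 0, Int.negSucc 0, Int.ofNat 1, Int.negSucc 0, Int.ofNat 1, Int.negSucc 0, Int.negSucc 0, Int.ofNat 1, Int.ofNat 1, Int.negSucc 0],
  [Int.ofNat 1, Int.ofNat 1, Int.ofNat 1, Int.ofNat 1, Int.negSucc 0, Int.negSucc 0, Int.negSucc 0, Int.ofNat 1, Int.negSucc 0, Int.ofNat 3, Int.ofNat 1, Int.ofNat 1, Int.negSucc 0, Int.negSucc 0, Int.negSucc 0, Int.ofNat 1, Int.negSucc 0, Int.negSucc 0, Int.negSucc 0, Int.ofNat 1, Int.ofNat 1, Int.ofNat 1, Int.ofNat 1, Int.negSucc 0],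
  [Int.ofNat 1, Int.ofNat 1, Int.negSucc 0, Int.ofNat 1, Int.negSucc 0, Int.ofNat 1, Int.ofNat 1, Int.ofNat 1, Int.negSucc 0, Int.negSucc 2, Int.negSucc 0, Int.ofNat 1, Int.negSucc 0, Int.negSucc 0, Int.negSucc 0, Int.negSucc 0, Int.negSucc 0, Int.negSucc 0, Int.ofNat 1, Int.ofNat 1, Int.ofNat 1, Int.ofNat 1, Int.negSucc 0, Int.negSucc 0],
  [Int.negSucc 0, Int.negSucc 0, Int.ofNat 1, Int.ofNat 1, Int.ofNat 1, Int.ofNat 1, Int.negSucc 0, Int.negSucc 0, Int.negSucc 0, Int.negSucc 0, Int.ofNat 1, Int.ofNat 1, Int.negSucc 0, Int.ofNat 1, Int.negSucc 0, Int.ofNat 1, Int.ofNat 1, Int.negSucc 0, Int.ofNat 1, Int.negSucc 0, Int.ofNat 3, Int.negSucc 0, Int.ofNat 1, Int.ofNat 1],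
  [Int.negSucc 0, Int.ofNat 1, Int.negSucc 0, Int.ofNat 1, Int.ofNat 1, Int.negSucc 0, Int.negSucc 0, Int.ofNat 1, Int.ofNat 1, Int.negSucc 0, Int.negSucc 0, Int.negSucc 0, Int.negSucc 0, Int.negSucc 0, Int.negSucc 0, Int.ofNat 1, Int.ofNat 1, Int.ofNat 1, Int.ofNat 1, Int.ofNat 1, Int.ofNat 1, Int.ofNat 3, Int.negSucc 0, Int.ofNat 1],
  [Int.ofNat 1, Int.negSucc 0, Int.ofNat 1, Int.ofNat 1, Int.ofNat 1, Int.negSucc 0, Int.negSucc 2, Int.negSucc 0, Int.ofNat 1, Int.negSucc 0, Int.negSucc 0, Int.negSucc 0, Int.negSucc 0, Int.negSucc 0, Int.negSucc 0, Int.ofNat 1, Int.ofNat 1, Int.ofNat 1, Int.ofNat 1, Int.negSucc 0, Int.ofNat 1, Int.ofNat 1, Int.negSucc 0, Int.negSucc 0],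
  [Int.ofNat 1, Int.ofNat 1, Int.negSucc 0, Int.ofNat 1, Int.negSucc 0, Int.ofNat 1, Int.ofNat 1, Int.ofNat 1, Int.negSucc 0, Int.negSucc 2, Int.negSucc 0, Int.ofNat 1, Int.negSucc 0, Int.negSucc 0, Int.negSucc 0, Int.negSucc 0, Int.negSucc 0, Int.negSucc 0, Int.ofNat 1, Int.ofNat 1, Int.ofNat 1, Int.ofNat 1, Int.negSucc 0, Int.negSucc 0],
  [Int.negSucc 0, Int.negSucc 0, Int.ofNat 1, Int.ofNat 1, Int.ofNat 1, Int.ofNat 1, Int.negSucc 0, Int.negSucc 0, Int.negSucc 0, Int.negSucc 0, Int.ofNat 1, Int.ofNat 1, Int.negSucc 0, Int.ofNat 1, Int.negSucc 0, Int.ofNat 1, Int.ofNat 1, Int.negSucc 0, Int.ofNat 1, Int.negSucc 0, Int.ofNat 3, Int.negSucc 0, Int.ofNat 1, Int.ofNat 1],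
  [Int.negSucc 0, Int.ofNat 1, Int.ofNat 1, Int.ofNat 1, Int.ofNat 1, Int.negSucc 0, Int.negSucc 0, Int.negSucc 0, Int.negSucc 0, Int.ofNat 1, Int.ofNat 1, Int.negSucc 0, Int.ofNat 1, Int.negSucc 0, Int.ofNat 1, Int.ofNat 1, Int.negSucc 0, Int.ofNat 1, Int.negSucc 0, Int.ofNat 3, Int.negSucc 0, Int.ofNat 1, Int.negSucc 0, Int.ofNat 1],
  [Int.ofNat 1, Int.ofNat 1, Int.negSucc 0, Int.ofNat 1, Int.ofNat 1, Int.negSucc 0, Int.negSucc 0, Int.ofNat 1, Int.negSucc 0, Int.negSucc 0, Int.negSucc 0, Int.ofNat 1, Int.ofNat 1, Int.negSucc 0, Int.ofNat 1, Int.ofNat 1, Int.negSucc 0, Int.ofNat 1, Int.ofNat 1, Int.ofNat 3, Int.negSucc 0, Int.negSucc 0, Int.negSucc 0, Int.ofNat 1],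
  [Int.negSucc 0, Int.negSucc 0, Int.ofNat 1, Int.negSucc 0, Int.negSucc 0, Int.negSucc 0, Int.ofNat 1, Int.ofNat 1, Int.ofNat 1, Int.ofNat 1, Int.negSucc 0, Int.ofNat 1, Int.negSucc 0, Int.ofNat 1, Int.ofNat 1, Int.ofNat 1, Int.ofNat 1, Int.ofNat 1, Int.negSucc 0, Int.ofNat 3, Int.negSucc 0, Int.negSucc 0, Int.negSucc 0, Int.ofNat 1],
  [Int.negSucc 0, Int.ofNat 1, Int.negSucc 0, Int.negSucc 0, Int.negSucc 0, Int.negSucc 0, Int.negSucc 0, Int.negSucc 0, Int.ofNat 1, Int.ofNat 1, Int.negSucc 0, Int.ofNat 1, Int.ofNat 1, Int.ofNat 1, Int.ofNat 3, Int.ofNat 1, Int.negSucc 0, Int.negSucc 0, Int.ofNat 1, Int.ofNat 1, Int.negSucc 0, Int.ofNat 1, Int.ofNat 1, Int.ofNat 1],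
  [Int.ofNat 1, Int.ofNat 1, Int.ofNat 1, Int.negSucc 0, Int.negSucc 0, Int.negSucc 0, Int.negSucc 0, Int.ofNat 1, Int.ofNat 1, Int.negSucc 0, Int.ofNat 1, Int.negSucc 0, Int.ofNat 1, Int.ofNat 1, Int.ofNat 3, Int.ofNat 1, Int.negSucc 0, Int.negSucc 0, Int.negSucc 0, Int.ofNat 1, Int.negSucc 0, Int.negSucc 0, Int.ofNat 1, Int.ofNat 1],
  [Int.ofNat 1, Int.ofNat 1, Int.ofNat 1, Int.ofNat 1, Int.negSucc 0, Int.negSucc 0, Int.negSucc 0, Int.negSucc 0, Int.ofNat 1, Int.ofNat 1, Int.negSucc 0, Int.ofNat 1, Int.negSucc 0, Int.ofNat 1, Int.ofNat 1, Int.ofNat 3, Int.ofNat 1, Int.negSucc 0, Int.negSucc 0, Int.negSucc 0, Int.ofNat 1, Int.negSucc 0, Int.negSucc 0, Int.ofNat 1],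
  [Int.ofNat 1, Int.ofNat 1, Int.ofNat 1, Int.ofNat 1, Int.negSucc 0, Int.negSucc 0, Int.ofNat 1, Int.ofNat 1, Int.ofNat 1, Int.negSucc 0, Int.negSucc 2, Int.ofNat 1, Int.negSucc 0, Int.ofNat 1, Int.ofNat 1, Int.ofNat 1, Int.ofNat 1, Int.negSucc 0, Int.negSucc 0, Int.ofNat 1, Int.negSucc 0, Int.ofNat 1, Int.negSucc 0, Int.ofNat 1],
  [Int.ofNat 1, Int.negSucc 0, Int.negSucc 0, Int.ofNat 1, Int.ofNat 1, Int.ofNat 1, Int.negSucc 0, Int.negSucc 2, Int.ofNat 1, Int.negSucc 0, Int.ofNat 1, Int.ofNat 1, Int.ofNat 1, Int.ofNat 1, Int.negSucc 0, Int.negSucc 0, Int.ofNat 1, Int.negSucc 0, Int.ofNat 1, Int.negSucc 0, Int.ofNat 1, Int.ofNat 1, Int.ofNat 1, Int.ofNat 1],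
  [Int.negSucc 0, Int.ofNat 1, Int.ofNat 1, Int.ofNat 1, Int.negSucc 0, Int.ofNat 1, Int.ofNat 1, Int.negSucc 0, Int.negSucc 0, Int.negSucc 0, Int.ofNat 1, Int.negSucc 0, Int.negSucc 0, Int.negSucc 0, Int.negSucc 0, Int.negSucc 0, Int.negSucc 0, Int.negSucc 0, Int.negSucc 0, Int.ofNat 1, Int.ofNat 1, Int.ofNat 3, Int.negSucc 0, Int.negSucc 0],
  [Int.negSucc 0, Int.ofNat 1, Int.negSucc 0, Int.ofNat 1, Int.negSucc 0, Int.negSucc 0, Int.ofNat 1, Int.ofNat 1, Int.negSucc 0, Int.negSucc 0, Int.ofNat 1, Int.negSucc 0, Int.negSucc 0, Int.negSucc 0, Int.negSucc 0, Int.negSucc 0, Int.negSucc 0, Int.negSucc 0, Int.ofNat 1, Int.negSucc 0, Int.ofNat 3, Int.ofNat 1, Int.ofNat 1, Int.negSucc 0],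
  [Int.ofNat 0, Int.negSucc 1, Int.ofNat 0, Int.ofNat 2, Int.ofNat 0, Int.ofNat 0, Int.ofNat 0, Int.ofNat 0, Int.ofNat 0, Int.negSucc 1, Int.ofNat 0, Int.ofNat 0, Int.ofNat 0, Int.ofNat 0, Int.ofNat 0, Int.negSucc 1, Int.ofNat 0, Int.ofNat 0, Int.ofNat 2, Int.negSucc 1, Int.ofNat 2, Int.ofNat 0, Int.ofNat 2, Int.ofNat 0],
  [Int.ofNat 0, Int.negSucc 1, Int.ofNat 0, Int.ofNat 2, Int.ofNat 0, Int.ofNat 0, Int.ofNat 0, Int.ofNat 0, Int.ofNat 0, Int.ofNat 2, Int.ofNat 0, Int.ofNat 0, Int.ofNat 0, Int.ofNat 0, Int.ofNat 0, Int.ofNat 2, Int.ofNat 0, Int.ofNat 0, Int.negSucc 1, Int.negSucc 1, Int.ofNat 2, Int.ofNat 0, Int.negSucc 1, Int.ofNat 0],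
  [Int.ofNat 0, Int.ofNat 0, Int.ofNat 0, Int.ofNat 0, Int.ofNat 0, Int.ofNat 0, Int.ofNat 0, Int.ofNat 2, Int.ofNat 0, Int.ofNat 2, Int.ofNat 0, Int.ofNat 0, Int.ofNat 2, Int.ofNat 0, Int.ofNat 0, Int.negSucc 1, Int.negSucc 1, Int.ofNat 0, Int.ofNat 2, Int.ofNat 0, Int.ofNat 0, Int.negSucc 1, Int.negSucc 1, Int.ofNat 0],
  [Int.ofNat 0, Int.negSucc 1, Int.ofNat 0, Int.negSucc 1, Int.ofNat 0, Int.ofNat 2, Int.ofNat 0, Int.ofNat 0, Int.ofNat 0, Int.ofNat 0, Int.negSucc 1, Int.ofNat 0, Int.negSucc 1, Int.ofNat 2, Int.ofNat 2, Int.ofNat 0, Int.ofNat 0, Int.ofNat 0, Int.ofNat 0, Int.ofNat 0, Int.ofNat 0, Int.ofNat 2, Int.ofNat 0, Int.ofNat 0],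
  [Int.ofNat 0, Int.negSucc 1, Int.ofNat 0, Int.negSucc 1, Int.ofNat 0, Int.ofNat 2, Int.ofNat 0, Int.ofNat 0, Int.ofNat 0, Int.ofNat 0, Int.ofNat 2, Int.ofNat 0, Int.negSucc 1, Int.ofNat 2, Int.ofNat 2, Int.ofNat 0, Int.ofNat 0, Int.ofNat 0, Int.ofNat 0, Int.ofNat 0, Int.ofNat 0, Int.negSucc 1, Int.ofNat 0, Int.ofNat 0],
  [Int.ofNat 0, Int.ofNat 0, Int.negSucc 1, Int.ofNat 0, Int.negSucc 1, Int.ofNat 0, Int.ofNat 2, Int.ofNat 0, Int.ofNat 0, Int.ofNat 0, Int.ofNat 0, Int.ofNat 2, Int.ofNat 0, Int.negSucc 1, Int.ofNat 2, Int.ofNat 2, Int.ofNat 0, Int.ofNat 0, Int.ofNat 0, Int.ofNat 0, Int.ofNat 0, Int.ofNat 0, Int.negSucc 1, Int.ofNat 0],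
  [Int.negSucc 0, Int.negSucc 0, Int.ofNat 1, Int.negSucc 0, Int.ofNat 1, Int.negSucc 0, Int.ofNat 1, Int.negSucc 0, Int.negSucc 0, Int.negSucc 0, Int.negSucc 0, Int.ofNat 1, Int.negSucc 0, Int.ofNat 1, Int.ofNat 1, Int.ofNat 1, Int.ofNat 3, Int.negSucc 0, Int.negSucc 0, Int.negSucc 0, Int.negSucc 0, Int.negSucc 0, Int.ofNat 1, Int.negSucc 0],
  [Int.negSucc 0, Int.ofNat 1, Int.negSucc 0, Int.ofNat 1, Int.negSucc 0, Int.negSucc 0, Int.negSucc 0, Int.negSucc 0, Int.ofNat 1, Int.negSucc 0, Int.ofNat 1, Int.ofNat 1, Int.ofNat 1, Int.ofNat 3, Int.negSucc 0, Int.negSucc 0, Int.negSucc 0, Int.negSucc 0, Int.negSucc 0, Int.ofNat 1, Int.negSucc 0, Int.negSucc 0, Int.ofNat 1, Int.negSucc 0],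
  [Int.ofNat 0, Int.negSucc 1, Int.ofNat 0, Int.ofNat 2, Int.negSucc 1, Int.ofNat 0, Int.ofNat 0, Int.ofNat 0, Int.ofNat 0, Int.ofNat 0, Int.ofNat 2, Int.ofNat 0, Int.ofNat 0, Int.ofNat 2, Int.ofNat 0, Int.ofNat 0, Int.negSucc 1, Int.ofNat 0, Int.negSucc 1, Int.ofNat 2, Int.ofNat 0, Int.ofNat 0, Int.ofNat 0, Int.ofNat 0],
  [Int.ofNat 0, Int.ofNat 0, Int.negSucc 1, Int.ofNat 2, Int.negSucc 1, Int.ofNat 0, Int.ofNat 0, Int.ofNat 2, Int.ofNat 0, Int.ofNat 2, Int.ofNat 0, Int.ofNat 0, Int.ofNat 0, Int.negSucc 1, Int.ofNat 0, Int.ofNat 0, Int.ofNat 0, Int.ofNat 0, Int.negSucc 1, Int.ofNat 0, Int.ofNat 0, Int.ofNat 0, Int.ofNat 2, Int.ofNat 0],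
  [Int.negSucc 0, Int.negSucc 0, Int.ofNat 1, Int.ofNat 1, Int.negSucc 0, Int.negSucc 0, Int.negSucc 0, Int.ofNat 1, Int.ofNat 1, Int.ofNat 1, Int.negSucc 0, Int.ofNat 1, Int.ofNat 1, Int.negSucc 0, Int.negSucc 0, Int.negSucc 0, Int.ofNat 1, Int.negSucc 0, Int.negSucc 0, Int.negSucc 0, Int.negSucc 0, Int.negSucc 0, Int.ofNat 3, Int.negSucc 0],
  [Int.negSucc 0, Int.negSucc 0, Int.negSucc 0, Int.ofNat 1, Int.negSucc 0, Int.ofNat 1, Int.ofNat 1, Int.ofNat 1, Int.ofNat 1, Int.negSucc 0, Int.ofNat 1, Int.ofNat 1, Int.ofNat 1, Int.negSucc 0, Int.negSucc 0, Int.ofNat 1, Int.ofNat 1, Int.negSucc 0, Int.ofNat 1, Int.negSucc 0, Int.negSucc 0, Int.negSucc 0, Int.negSucc 2, Int.negSucc 0],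
  [Int.negSucc 0, Int.negSucc 0, Int.negSucc 0, Int.negSucc 0, Int.ofNat 1, Int.ofNat 1, Int.negSucc 0, Int.negSucc 0, Int.ofNat 1, Int.ofNat 1, Int.negSucc 2, Int.ofNat 1, Int.negSucc 0, Int.negSucc 0, Int.ofNat 1, Int.ofNat 1, Int.ofNat 1, Int.negSucc 0, Int.negSucc 0, Int.ofNat 1, Int.ofNat 1, Int.ofNat 1, Int.negSucc 0, Int.negSucc 0],
  [Int.negSucc 0, Int.negSucc 0, Int.ofNat 1, Int.negSucc 0, Int.ofNat 1, Int.negSucc 0, Int.ofNat 1, Int.negSucc 0, Int.ofNat 1, Int.negSucc 0, Int.ofNat 3, Int.ofNat 1, Int.negSucc 0, Int.negSucc 0, Int.ofNat 1, Int.negSucc 0, Int.ofNat 1, Int.negSucc 0, Int.ofNat 1, Int.ofNat 1, Int.ofNat 1, Int.ofNat 1, Int.ofNat 1, Int.negSucc 0],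
  [Int.ofNat 0, Int.ofNat 0, Int.negSucc 1, Int.ofNat 0, Int.ofNat 0, Int.ofNat 0, Int.ofNat 0, Int.negSucc 1, Int.ofNat 0, Int.negSucc 1, Int.ofNat 2, Int.ofNat 0, Int.negSucc 1, Int.negSucc 1, Int.ofNat 2, Int.negSucc 1, Int.ofNat 0, Int.ofNat 0, Int.ofNat 0, Int.ofNat 0, Int.ofNat 0, Int.ofNat 0, Int.ofNat 0, Int.ofNat 0],
  [Int.ofNat 0, Int.ofNat 0, Int.ofNat 0, Int.ofNat 0, Int.negSucc 1, Int.ofNat 0, Int.ofNat 0, Int.ofNat 0, Int.ofNat 0, Int.negSucc 1, Int.negSucc 1, Int.ofNat 0, Int.ofNat 0, Int.negSucc 1, Int.ofNat 0, Int.negSucc 1, Int.negSucc 1, Int.ofNat 0, Int.ofNat 0, Int.ofNat 0, Int.ofNat 2, Int.ofNat 0, Int.ofNat 2, Int.ofNat 0],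
  [Int.ofNat 0, Int.ofNat 0, Int.ofNat 0, Int.ofNat 0, Int.ofNat 0, Int.ofNat 0, Int.ofNat 0, Int.ofNat 0, Int.ofNat 0, Int.ofNat 0, Int.ofNat 0, Int.ofNat 0, Int.ofNat 0, Int.ofNat 0, Int.ofNat 0, Int.ofNat 0, Int.ofNat 0, Int.ofNat 0, Int.ofNat 0, Int.ofNat 0, Int.ofNat 4, Int.ofNat 0, Int.ofNat 4, Int.ofNat 0],
  [Int.ofNat 4, Int.ofNat 0, Int.ofNat 4, Int.ofNat 0, Int.ofNat 0, Int.ofNat 0, Int.ofNat 0, Int.ofNat 0, Int.ofNat 0, Int.ofNat 0, Int.ofNat 0, Int.ofNat 0, Int.ofNat 0, Int.ofNat 0, Int.ofNat 0, Int.ofNat 0, Int.ofNat 0, Int.ofNat 0, Int.ofNat 0, Int.ofNat 0, Int.ofNat 0, Int.ofNat 0, Int.ofNat 0, Int.ofNat 0],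
  [Int.ofNat 0, Int.ofNat 4, Int.ofNat 0, Int.ofNat 0, Int.ofNat 0, Int.ofNat 0, Int.ofNat 0, Int.ofNat 0, Int.ofNat 0, Int.ofNat 0, Int.ofNat 0, Int.ofNat 0, Int.ofNat 0, Int.ofNat 0, Int.ofNat 0, Int.ofNat 0, Int.ofNat 0, Int.ofNat 0, Int.ofNat 0, Int.ofNat 0, Int.ofNat 0, Int.ofNat 0, Int.ofNat 0, Int.ofNat 4],
  [Int.ofNat 4, Int.ofNat 0, Int.ofNat 0, Int.ofNat 0, Int.ofNat 0, Int.ofNat 0, Int.ofNat 0, Int.ofNat 0, Int.ofNat 0, Int.ofNat 0, Int.ofNat 0, Int.ofNat 0, Int.ofNat 0, Int.ofNat 0, Int.ofNat 0, Int.ofNat 0, Int.ofNat 0, Int.ofNat 0, Int.ofNat 0, Int.ofNat 0, Int.ofNat 0, Int.ofNat 0, Int.ofNat 0, Int.ofNat 4],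
  [Int.negSucc 3, Int.ofNat 0, Int.ofNat 0, Int.ofNat 0, Int.ofNat 0, Int.ofNat 0, Int.ofNat 0, Int.ofNat 0, Int.ofNat 0, Int.ofNat 0, Int.ofNat 0, Int.ofNat 0, Int.ofNat 0, Int.ofNat 0, Int.ofNat 0, Int.ofNat 0, Int.ofNat 0, Int.ofNat 0, Int.ofNat 0, Int.ofNat 0, Int.ofNat 0, Int.ofNat 0, Int.ofNat 0, Int.ofNat 4],
  [Int.ofNat 4, Int.ofNat 0, Int.ofNat 0, Int.ofNat 0, Int.ofNat 0, Int.ofNat 0, Int.ofNat 0, Int.ofNat 0, Int.ofNat 0, Int.ofNat 0, Int.ofNat 0, Int.ofNat 0, Int.ofNat 0, Int.ofNat 0, Int.ofNat 0, Int.ofNat 0, Int.ofNat 0, Int.ofNat 0, Int.ofNat 0, Int.ofNat 0, Int.ofNat 0, Int.ofNat 0, Int.ofNat 0, Int.ofNat 4],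
  [Int.ofNat 4, Int.ofNat 0, Int.ofNat 0, Int.ofNat 0, Int.ofNat 0, Int.ofNat 0, Int.ofNat 0, Int.ofNat 0, Int.ofNat 0, Int.ofNat 0, Int.ofNat 0, Int.ofNat 0, Int.ofNat 0, Int.ofNat 0, Int.ofNat 0, Int.ofNat 0, Int.ofNat 0, Int.ofNat 0, Int.ofNat 0, Int.ofNat 0, Int.ofNat 0, Int.ofNat 0, Int.ofNat 0, Int.ofNat 4],
  [Int.negSucc 3, Int.ofNat 0, Int.ofNat 0, Int.ofNat 0, Int.ofNat 0, Int.ofNat 0, Int.ofNat 0, Int.ofNat 0, Int.ofNat 0, Int.ofNat 0, Int.ofNat 0, Int.ofNat 0, Int.ofNat 0, Int.ofNat 0, Int.ofNat 0, Int.ofNat 0, Int.ofNat 0, Int.ofNat 0, Int.ofNat 0, Int.ofNat 0, Int.ofNat 0, Int.ofNat 0, Int.ofNat 0, Int.ofNat 4],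
  [Int.ofNat 0, Int.negSucc 3, Int.ofNat 0, Int.ofNat 0, Int.ofNat 0, Int.ofNat 0, Int.ofNat 0, Int.ofNat 0, Int.ofNat 0, Int.ofNat 0, Int.ofNat 0, Int.ofNat 0, Int.ofNat 0, Int.ofNat 0, Int.ofNat 0, Int.ofNat 0, Int.ofNat 0, Int.ofNat 0, Int.ofNat 0, Int.ofNat 0, Int.ofNat 0, Int.ofNat 0, Int.ofNat 0, Int.ofNat 4],
  [Int.ofNat 0, Int.ofNat 4, Int.ofNat 0, Int.ofNat 0, Int.ofNat 0, Int.ofNat 0, Int.ofNat 0, Int.ofNat 0, Int.ofNat 0, Int.ofNat 0, Int.ofNat 0, Int.ofNat 0, Int.ofNat 0, Int.ofNat 0, Int.ofNat 0, Int.ofNat 0, Int.ofNat 0, Int.ofNat 0, Int.ofNat 0, Int.ofNat 0, Int.ofNat 0, Int.ofNat 0, Int.ofNat 0, Int.negSucc 3],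
  [Int.ofNat 0, Int.ofNat 0, Int.ofNat 0, Int.ofNat 0, Int.ofNat 0, Int.ofNat 0, Int.ofNat 0, Int.ofNat 0, Int.ofNat 0, Int.ofNat 0, Int.ofNat 0, Int.ofNat 0, Int.ofNat 0, Int.ofNat 0, Int.ofNat 0, Int.ofNat 0, Int.ofNat 0, Int.ofNat 0, Int.ofNat 0, Int.ofNat 0, Int.ofNat 0, Int.ofNat 4, Int.ofNat 0, Int.negSucc 3],
  [Int.negSucc 1, Int.negSucc 1, Int.negSucc 1, Int.ofNat 0, Int.ofNat 0, Int.ofNat 0, Int.negSucc 1, Int.negSucc 1, Int.ofNat 0, Int.ofNat 0, Int.ofNat 0, Int.ofNat 0, Int.ofNat 0, Int.ofNat 0, Int.ofNat 0, Int.ofNat 0, Int.ofNat 0, Int.ofNat 0, Int.ofNat 0, Int.negSucc 1, Int.ofNat 0, Int.ofNat 2, Int.ofNat 0, Int.ofNat 2],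
  [Int.negSucc 1, Int.negSucc 1, Int.ofNat 0, Int.ofNat 0, Int.ofNat 0, Int.negSucc 1, Int.negSucc 1, Int.ofNat 0, Int.ofNat 0, Int.ofNat 0, Int.ofNat 0, Int.ofNat 0, Int.ofNat 0, Int.ofNat 0, Int.ofNat 0, Int.ofNat 0, Int.ofNat 0, Int.ofNat 0, Int.negSucc 1, Int.ofNat 0, Int.ofNat 2, Int.ofNat 0, Int.negSucc 1, Int.ofNat 2],
  [Int.ofNat 1, Int.ofNat 1, Int.negSucc 0, Int.ofNat 1, Int.ofNat 1, Int.negSucc 0, Int.negSucc 0, Int.ofNat 1, Int.ofNat 1, Int.negSucc 0, Int.negSucc 0, Int.ofNat 1, Int.ofNat 1, Int.ofNat 1, Int.ofNat 1, Int.negSucc 0, Int.ofNat 1, Int.ofNat 1, Int.negSucc 0, Int.ofNat 1, Int.ofNat 1, Int.ofNat 1, Int.negSucc 0, Int.negSucc 2],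
  [Int.ofNat 1, Int.ofNat 1, Int.ofNat 1, Int.ofNat 1, Int.ofNat 1, Int.ofNat 1, Int.ofNat 1, Int.ofNat 1, Int.ofNat 1, Int.ofNat 1, Int.ofNat 1, Int.ofNat 1, Int.ofNat 1, Int.ofNat 1, Int.ofNat 1, Int.ofNat 1, Int.ofNat 1, Int.ofNat 1, Int.ofNat 1, Int.ofNat 1, Int.ofNat 1, Int.ofNat 1, Int.ofNat 1, Int.negSucc 2],
  [Int.ofNat 1, Int.ofNat 1, Int.ofNat 1, Int.ofNat 1, Int.ofNat 1, Int.ofNat 1, Int.ofNat 1, Int.ofNat 1, Int.ofNat 1, Int.ofNat 1, Int.ofNat 1, Int.ofNat 1, Int.ofNat 1, Int.ofNat 1, Int.ofNat 1, Int.ofNat 1, Int.ofNat 1, Int.ofNat 1, Int.ofNat 1, Int.ofNat 1, Int.ofNat 1, Int.ofNat 1, Int.ofNat 1, Int.negSucc 2],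
  [Int.negSucc 2, Int.ofNat 1, Int.ofNat 1, Int.ofNat 1, Int.ofNat 1, Int.ofNat 1, Int.ofNat 1, Int.ofNat 1, Int.ofNat 1, Int.ofNat 1, Int.ofNat 1, Int.ofNat 1, Int.ofNat 1, Int.ofNat 1, Int.ofNat 1, Int.ofNat 1, Int.ofNat 1, Int.ofNat 1, Int.ofNat 1, Int.ofNat 1, Int.ofNat 1, Int.ofNat 1, Int.ofNat 1, Int.ofNat 1],
  [Int.ofNat 3, Int.ofNat 1, Int.negSucc 0, Int.ofNat 1, Int.ofNat 1, Int.ofNat 1, Int.ofNat 1, Int.negSucc 0, Int.ofNat 1, Int.negSucc 0, Int.negSucc 0, Int.negSucc 0, Int.ofNat 1, Int.ofNat 1, Int.ofNat 1, Int.ofNat 1, Int.ofNat 1, Int.ofNat 1, Int.negSucc 0, Int.ofNat 1, Int.ofNat 1, Int.negSucc 0, Int.ofNat 1, Int.ofNat 1],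
  [Int.ofNat 1, Int.ofNat 3, Int.ofNat 1, Int.negSucc 0, Int.ofNat 1, Int.ofNat 1, Int.ofNat 1, Int.ofNat 1, Int.negSucc 0, Int.ofNat 1, Int.negSucc 0, Int.negSucc 0, Int.negSucc 0, Int.ofNat 1, Int.ofNat 1, Int.ofNat 1, Int.ofNat 1, Int.ofNat 1, Int.ofNat 1, Int.negSucc 0, Int.ofNat 1, Int.ofNat 1, Int.negSucc 0, Int.ofNat 1],
  [Int.ofNat 2, Int.ofNat 0, Int.ofNat 2, Int.negSucc 1, Int.ofNat 0, Int.ofNat 0, Int.ofNat 0, Int.ofNat 0, Int.ofNat 0, Int.ofNat 0, Int.negSucc 1, Int.ofNat 0, Int.ofNat 0, Int.ofNat 0, Int.ofNat 0, Int.ofNat 0, Int.ofNat 0, Int.ofNat 0, Int.ofNat 2, Int.negSucc 1, Int.ofNat 0, Int.ofNat 0, Int.negSucc 1, Int.ofNat 2],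
  [Int.negSucc 1, Int.ofNat 0, Int.ofNat 0, Int.ofNat 0, Int.ofNat 0, Int.ofNat 0, Int.ofNat 0, Int.negSucc 1, Int.ofNat 0, Int.ofNat 0, Int.ofNat 0, Int.ofNat 0, Int.ofNat 0, Int.ofNat 0, Int.ofNat 0, Int.ofNat 2, Int.negSucc 1, Int.ofNat 0, Int.ofNat 0, Int.negSucc 1, Int.ofNat 2, Int.ofNat 0, Int.ofNat 2, Int.ofNat 2],
  [Int.ofNat 2, Int.ofNat 0, Int.ofNat 0, Int.ofNat 0, Int.ofNat 0, Int.ofNat 0, Int.ofNat 2, Int.ofNat 0, Int.ofNat 0, Int.negSucc 1, Int.negSucc 1, Int.ofNat 0, Int.ofNat 0, Int.ofNat 0, Int.ofNat 0, Int.ofNat 0, Int.negSucc 1, Int.ofNat 0, Int.ofNat 0, Int.ofNat 0, Int.ofNat 0, Int.ofNat 2, Int.ofNat 2, Int.negSucc 1],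
  [Int.ofNat 2, Int.ofNat 2, Int.ofNat 0, Int.ofNat 0, Int.ofNat 0, Int.ofNat 0, Int.ofNat 0, Int.negSucc 1, Int.ofNat 0, Int.ofNat 0, Int.ofNat 0, Int.ofNat 0, Int.negSucc 1, Int.negSucc 1, Int.ofNat 2, Int.ofNat 0, Int.ofNat 0, Int.ofNat 0, Int.ofNat 0, Int.ofNat 0, Int.ofNat 2, Int.ofNat 0, Int.ofNat 0, Int.negSucc 1],
  [Int.negSucc 0, Int.negSucc 0, Int.ofNat 1, Int.negSucc 0, Int.ofNat 1, Int.negSucc 0, Int.ofNat 1, Int.negSucc 0, Int.ofNat 1, Int.negSucc 0, Int.negSucc 0, Int.ofNat 1, Int.negSucc 0, Int.negSucc 0, Int.ofNat 1, Int.negSucc 0, Int.ofNat 1, Int.negSucc 0, Int.ofNat 1, Int.ofNat 1, Int.ofNat 1, Int.ofNat 1, Int.ofNat 1, Int.ofNat 3],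
  [Int.negSucc 0, Int.negSucc 0, Int.negSucc 0, Int.negSucc 0, Int.ofNat 1, Int.ofNat 1, Int.negSucc 0, Int.negSucc 0, Int.ofNat 1, Int.ofNat 1, Int.ofNat 1, Int.ofNat 1, Int.negSucc 0, Int.negSucc 0, Int.ofNat 1, Int.ofNat 1, Int.ofNat 1, Int.negSucc 0, Int.negSucc 0, Int.ofNat 1, Int.ofNat 1, Int.ofNat 1, Int.negSucc 0, Int.ofNat 3],
  [Int.negSucc 0, Int.negSucc 0, Int.ofNat 1, Int.ofNat 1, Int.ofNat 1, Int.negSucc 0, Int.ofNat 1, Int.negSucc 0, Int.ofNat 1, Int.negSucc 0, Int.negSucc 0, Int.ofNat 1, Int.ofNat 1, Int.ofNat 1, Int.ofNat 1, Int.negSucc 0, Int.ofNat 1, Int.ofNat 1, Int.negSucc 0, Int.negSucc 0, Int.ofNat 1, Int.negSucc 0, Int.negSucc 0, Int.ofNat 3],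
  [Int.negSucc 0, Int.negSucc 0, Int.negSucc 0, Int.ofNat 1, Int.ofNat 1, Int.ofNat 1, Int.negSucc 0, Int.negSucc 0, Int.ofNat 1, Int.ofNat 1, Int.ofNat 1, Int.ofNat 1, Int.ofNat 1, Int.ofNat 1, Int.ofNat 1, Int.ofNat 1, Int.ofNat 1, Int.ofNat 1, Int.ofNat 1, Int.negSucc 0, Int.ofNat 1, Int.negSucc 0, Int.ofNat 1, Int.ofNat 3],
  [Int.ofNat 1, Int.ofNat 1, Int.ofNat 1, Int.negSucc 0, Int.negSucc 0, Int.negSucc 0, Int.ofNat 1, Int.ofNat 1, Int.negSucc 0, Int.negSucc 0, Int.negSucc 0, Int.negSucc 0, Int.negSucc 0, Int.negSucc 0, Int.negSucc 0, Int.negSucc 0, Int.negSucc 0, Int.negSucc 0, Int.negSucc 0, Int.ofNat 1, Int.negSucc 0, Int.ofNat 1, Int.negSucc 0, Int.negSucc 2],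
  [Int.ofNat 1, Int.negSucc 0, Int.ofNat 1, Int.negSucc 0, Int.ofNat 1, Int.ofNat 1, Int.ofNat 1, Int.negSucc 0, Int.negSucc 0, Int.negSucc 0, Int.ofNat 1, Int.ofNat 1, Int.negSucc 0, Int.negSucc 0, Int.negSucc 0, Int.negSucc 0, Int.negSucc 0, Int.negSucc 0, Int.negSucc 0, Int.negSucc 0, Int.negSucc 0, Int.negSucc 0, Int.negSucc 0, Int.negSucc 2],
  [Int.negSucc 1, Int.ofNat 0, Int.negSucc 1, Int.ofNat 0, Int.ofNat 2, Int.ofNat 2, Int.ofNat 2, Int.ofNat 0, Int.ofNat 0, Int.ofNat 0, Int.ofNat 2, Int.ofNat 2, Int.ofNat 0, Int.ofNat 0, Int.ofNat 0, Int.ofNat 0, Int.ofNat 0, Int.ofNat 0, Int.ofNat 0, Int.ofNat 0, Int.ofNat 0, Int.ofNat 0, Int.ofNat 0, Int.ofNat 2],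
  [Int.ofNat 0, Int.ofNat 0, Int.ofNat 0, Int.negSucc 1, Int.ofNat 0, Int.negSucc 1, Int.ofNat 0, Int.ofNat 2, Int.ofNat 2, Int.ofNat 2, Int.ofNat 0, Int.ofNat 0, Int.ofNat 0, Int.ofNat 2, Int.ofNat 2, Int.ofNat 0, Int.ofNat 0, Int.ofNat 0, Int.ofNat 0, Int.ofNat 0, Int.ofNat 0, Int.ofNat 0, Int.ofNat 0, Int.ofNat 2],
  [Int.ofNat 1, Int.ofNat 1, Int.ofNat 1, Int.negSucc 0, Int.negSucc 0, Int.negSucc 0, Int.negSucc 0, Int.ofNat 1, Int.ofNat 1, Int.ofNat 1, Int.negSucc 0, Int.negSucc 0, Int.negSucc 0, Int.ofNat 1, Int.ofNat 3, Int.negSucc 0, Int.negSucc 0, Int.ofNat 1, Int.negSucc 0, Int.negSucc 0, Int.negSucc 0, Int.negSucc 0, Int.negSucc 0, Int.negSucc 0],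
  [Int.ofNat 1, Int.ofNat 1, Int.negSucc 0, Int.negSucc 0, Int.negSucc 0, Int.negSucc 0, Int.ofNat 1, Int.ofNat 1, Int.ofNat 1, Int.negSucc 0, Int.negSucc 0, Int.negSucc 0, Int.ofNat 1, Int.ofNat 3, Int.negSucc 0, Int.negSucc 0, Int.ofNat 1, Int.negSucc 0, Int.negSucc 0, Int.negSucc 0, Int.negSucc 0, Int.negSucc 0, Int.ofNat 1, Int.negSucc 0],
  [Int.negSucc 0, Int.ofNat 1, Int.ofNat 1, Int.negSucc 0, Int.negSucc 0, Int.negSucc 0, Int.ofNat 1, Int.negSucc 0, Int.ofNat 1, Int.ofNat 1, Int.ofNat 1, Int.ofNat 1, Int.ofNat 1, Int.ofNat 3, Int.negSucc 0, Int.negSucc 0, Int.ofNat 1, Int.negSucc 0, Int.ofNat 1, Int.negSucc 0, Int.negSucc 0, Int.ofNat 1, Int.ofNat 1, Int.negSucc 0],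
  [Int.ofNat 1, Int.negSucc 0, Int.negSucc 0, Int.ofNat 1, Int.ofNat 1, Int.negSucc 0, Int.negSucc 0, Int.negSucc 0, Int.negSucc 0, Int.negSucc 0, Int.ofNat 1, Int.ofNat 1, Int.negSucc 0, Int.negSucc 2, Int.negSucc 0, Int.negSucc 0, Int.negSucc 0, Int.negSucc 0, Int.negSucc 0, Int.negSucc 0, Int.negSucc 0, Int.ofNat 1, Int.ofNat 1, Int.negSucc 0],
  [Int.ofNat 1, Int.negSucc 0, Int.negSucc 0, Int.ofNat 1, Int.negSucc 0, Int.ofNat 1, Int.ofNat 1, Int.negSucc 0, Int.negSucc 0, Int.negSucc 0, Int.ofNat 1, Int.negSucc 0, Int.negSucc 2, Int.negSucc 0, Int.negSucc 0, Int.negSucc 0, Int.negSucc 0, Int.ofNat 1, Int.negSucc 0, Int.negSucc 0, Int.negSucc 0, Int.negSucc 0, Int.ofNat 1, Int.negSucc 0],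
  [Int.negSucc 0, Int.negSucc 0, Int.ofNat 1, Int.ofNat 1, Int.negSucc 0, Int.ofNat 1, Int.ofNat 1, Int.ofNat 1, Int.negSucc 0, Int.ofNat 1, Int.negSucc 0, Int.ofNat 1, Int.negSucc 2, Int.negSucc 0, Int.negSucc 0, Int.negSucc 0, Int.negSucc 0, Int.ofNat 1, Int.ofNat 1, Int.negSucc 0, Int.negSucc 0, Int.ofNat 1, Int.ofNat 1, Int.negSucc 0],
  [Int.ofNat 1, Int.negSucc 0, Int.negSucc 0, Int.ofNat 1, Int.ofNat 1, Int.negSucc 0, Int.ofNat 1, Int.ofNat 1, Int.ofNat 1, Int.negSucc 0, Int.ofNat 1, Int.negSucc 0, Int.ofNat 1, Int.negSucc 2, Int.negSucc 0, Int.negSucc 0, Int.negSucc 0, Int.negSucc 0, Int.ofNat 1, Int.ofNat 1, Int.negSucc 0, Int.negSucc 0, Int.ofNat 1, Int.negSucc 0],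
  [Int.negSucc 1, Int.ofNat 0, Int.ofNat 0, Int.ofNat 2, Int.ofNat 2, Int.ofNat 0, Int.ofNat 0, Int.ofNat 0, Int.ofNat 0, Int.ofNat 0, Int.ofNat 2, Int.negSucc 1, Int.ofNat 0, Int.negSucc 1, Int.ofNat 0, Int.ofNat 0, Int.ofNat 0, Int.ofNat 0, Int.ofNat 0, Int.ofNat 0, Int.ofNat 0, Int.negSucc 1, Int.ofNat 2, Int.ofNat 0],
  [Int.ofNat 2, Int.ofNat 2, Int.ofNat 0, Int.ofNat 0, Int.ofNat 0, Int.ofNat 0, Int.ofNat 0, Int.ofNat 2, Int.negSucc 1, Int.ofNat 0, Int.negSucc 1, Int.ofNat 0, Int.ofNat 0, Int.ofNat 0, Int.ofNat 0, Int.ofNat 0, Int.ofNat 0, Int.ofNat 0, Int.negSucc 1, Int.ofNat 2, Int.negSucc 1, Int.ofNat 0, Int.ofNat 0, Int.ofNat 0],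
  [Int.ofNat 0, Int.ofNat 0, Int.ofNat 2, Int.ofNat 0, Int.ofNat 0, Int.ofNat 0, Int.negSucc 1, Int.ofNat 0, Int.ofNat 0, Int.ofNat 2, Int.ofNat 0, Int.ofNat 2, Int.ofNat 2, Int.ofNat 0, Int.ofNat 0, Int.ofNat 2, Int.ofNat 0, Int.ofNat 0, Int.ofNat 0, Int.ofNat 0, Int.ofNat 0, Int.negSucc 1, Int.ofNat 0, Int.ofNat 2],
  [Int.ofNat 0, Int.negSucc 1, Int.ofNat 0, Int.ofNat 0, Int.ofNat 0, Int.ofNat 0, Int.ofNat 2, Int.ofNat 0, Int.ofNat 2, Int.ofNat 0, Int.ofNat 0, Int.ofNat 0, Int.ofNat 2, Int.ofNat 0, Int.ofNat 0, Int.ofNat 2, Int.ofNat 0, Int.ofNat 0, Int.ofNat 0, Int.ofNat 2, Int.negSucc 1, Int.ofNat 0, Int.ofNat 0, Int.ofNat 2],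
  [Int.ofNat 0, Int.ofNat 2, Int.ofNat 0, Int.ofNat 0, Int.ofNat 0, Int.ofNat 0, Int.ofNat 0, Int.negSucc 1, Int.ofNat 0, Int.ofNat 0, Int.ofNat 0, Int.negSucc 1, Int.ofNat 0, Int.ofNat 0, Int.ofNat 0, Int.ofNat 2, Int.ofNat 0, Int.ofNat 0, Int.negSucc 1, Int.ofNat 0, Int.negSucc 1, Int.negSucc 1, Int.ofNat 0, Int.negSucc 1],
  [Int.ofNat 0, Int.ofNat 2, Int.ofNat 0, Int.ofNat 0, Int.ofNat 0, Int.ofNat 0, Int.ofNat 0, Int.negSucc 1, Int.ofNat 0, Int.ofNat 0, Int.ofNat 0, Int.negSucc 1, Int.ofNat 0, Int.ofNat 0, Int.ofNat 0, Int.negSucc 1, Int.ofNat 0, Int.ofNat 0, Int.ofNat 2, Int.ofNat 0, Int.negSucc 1, Int.negSucc 1, Int.ofNat 0, Int.negSucc 1],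
  [Int.ofNat 0, Int.ofNat 0, Int.negSucc 1, Int.ofNat 0, Int.ofNat 0, Int.ofNat 0, Int.negSucc 1, Int.ofNat 0, Int.ofNat 0, Int.negSucc 1, Int.ofNat 0, Int.negSucc 1, Int.negSucc 1, Int.ofNat 0, Int.ofNat 0, Int.ofNat 2, Int.ofNat 0, Int.ofNat 0, Int.ofNat 0, Int.ofNat 0, Int.ofNat 0, Int.ofNat 2, Int.ofNat 0, Int.negSucc 1],
  [Int.negSucc 1, Int.ofNat 0, Int.negSucc 1, Int.ofNat 2, Int.ofNat 0, Int.negSucc 1, Int.ofNat 0, Int.ofNat 0, Int.ofNat 0, Int.ofNat 0, Int.ofNat 0, Int.negSucc 1, Int.ofNat 2, Int.ofNat 0, Int.ofNat 0, Int.ofNat 0, Int.ofNat 0, Int.ofNat 0, Int.ofNat 0, Int.negSucc 1, Int.ofNat 0, Int.negSucc 1, Int.ofNat 0, Int.ofNat 0],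
  [Int.ofNat 2, Int.ofNat 0, Int.ofNat 2, Int.ofNat 2, Int.ofNat 0, Int.negSucc 1, Int.ofNat 0, Int.ofNat 0, Int.ofNat 0, Int.ofNat 0, Int.ofNat 0, Int.ofNat 2, Int.ofNat 2, Int.ofNat 0, Int.ofNat 0, Int.ofNat 0, Int.ofNat 0, Int.ofNat 0, Int.ofNat 0, Int.negSucc 1, Int.ofNat 0, Int.ofNat 2, Int.ofNat 0, Int.ofNat 0],
  [Int.ofNat 0, Int.ofNat 2, Int.ofNat 0, Int.ofNat 2, Int.ofNat 2, Int.ofNat 0, Int.negSucc 1, Int.ofNat 0, Int.ofNat 0, Int.ofNat 0, Int.ofNat 0, Int.ofNat 0, Int.ofNat 2, Int.ofNat 2, Int.ofNat 0, Int.ofNat 0, Int.ofNat 0, Int.ofNat 0, Int.ofNat 0, Int.ofNat 0, Int.negSucc 1, Int.ofNat 0, Int.ofNat 2, Int.ofNat 0],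
  [Int.ofNat 1, Int.negSucc 0, Int.ofNat 1, Int.ofNat 1, Int.negSucc 0, Int.negSucc 0, Int.negSucc 0, Int.ofNat 1, Int.negSucc 0, Int.ofNat 1, Int.ofNat 1, Int.negSucc 0, Int.ofNat 1, Int.negSucc 0, Int.negSucc 0, Int.ofNat 1, Int.negSucc 2, Int.negSucc 0, Int.negSucc 0, Int.ofNat 1, Int.negSucc 0, Int.ofNat 1, Int.negSucc 0, Int.ofNat 1],
  [Int.ofNat 1, Int.negSucc 0, Int.negSucc 0, Int.negSucc 0, Int.ofNat 1, Int.negSucc 0, Int.ofNat 1, Int.ofNat 1, Int.negSucc 0, Int.ofNat 1, Int.negSucc 0, Int.negSucc 0, Int.ofNat 1, Int.negSucc 2, Int.negSucc 0, Int.negSucc 0, Int.ofNat 1, Int.negSucc 0, Int.ofNat 1, Int.negSucc 0, Int.ofNat 1, Int.negSucc 0, Int.ofNat 1, Int.ofNat 1],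
  [Int.negSucc 0, Int.ofNat 1, Int.ofNat 1, Int.ofNat 1, Int.ofNat 1, Int.ofNat 1, Int.ofNat 1, Int.ofNat 1, Int.negSucc 0, Int.ofNat 1, Int.negSucc 0, Int.negSucc 0, Int.ofNat 1, Int.negSucc 2, Int.ofNat 1, Int.negSucc 0, Int.ofNat 1, Int.ofNat 1, Int.ofNat 1, Int.negSucc 0, Int.ofNat 1, Int.negSucc 0, Int.ofNat 1, Int.negSucc 0],
  [Int.negSucc 0, Int.ofNat 1, Int.ofNat 1, Int.ofNat 1, Int.ofNat 1, Int.ofNat 1, Int.ofNat 1, Int.negSucc 0, Int.ofNat 1, Int.negSucc 2, Int.ofNat 1, Int.ofNat 1, Int.ofNat 1, Int.ofNat 1, Int.ofNat 1, Int.negSucc 0, Int.negSucc 0, Int.ofNat 1, Int.ofNat 1, Int.negSucc 0, Int.negSucc 0, Int.ofNat 1, Int.negSucc 0, Int.negSucc 0],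
  [Int.ofNat 1, Int.negSucc 0, Int.negSucc 0, Int.negSucc 0, Int.ofNat 1, Int.negSucc 0, Int.ofNat 1, Int.negSucc 0, Int.negSucc 0, Int.negSucc 0, Int.ofNat 3, Int.negSucc 0, Int.negSucc 0, Int.ofNat 1, Int.negSucc 0, Int.ofNat 1, Int.negSucc 0, Int.negSucc 0, Int.negSucc 0, Int.negSucc 0, Int.ofNat 1, Int.ofNat 1, Int.negSucc 0, Int.ofNat 1],
  [Int.ofNat 1, Int.negSucc 0, Int.ofNat 1, Int.negSucc 0, Int.ofNat 1, Int.ofNat 1, Int.negSucc 0, Int.negSucc 0, Int.negSucc 0, Int.ofNat 1, Int.negSucc 2, Int.negSucc 0, Int.negSucc 0, Int.ofNat 1, Int.negSucc 0, Int.negSucc 0, Int.negSucc 0, Int.negSucc 0, Int.ofNat 1, Int.negSucc 0, Int.ofNat 1, Int.ofNat 1, Int.ofNat 1, Int.ofNat 1],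
  [Int.ofNat 1, Int.ofNat 1, Int.ofNat 1, Int.ofNat 1, Int.negSucc 0, Int.negSucc 0, Int.negSucc 0, Int.ofNat 1, Int.negSucc 0, Int.negSucc 0, Int.ofNat 1, Int.negSucc 0, Int.negSucc 0, Int.ofNat 1, Int.negSucc 0, Int.negSucc 0, Int.negSucc 2, Int.ofNat 1, Int.negSucc 0, Int.ofNat 1, Int.ofNat 1, Int.negSucc 0, Int.negSucc 0, Int.ofNat 1],
  [Int.ofNat 1, Int.ofNat 1, Int.negSucc 0, Int.ofNat 1, Int.negSucc 0, Int.ofNat 1, Int.ofNat 1, Int.ofNat 1, Int.negSucc 0, Int.ofNat 1, Int.negSucc 0, Int.negSucc 0, Int.negSucc 0, Int.ofNat 1, Int.negSucc 0, Int.ofNat 1, Int.negSucc 2, Int.ofNat 1, Int.ofNat 1, Int.ofNat 1, Int.ofNat 1, Int.negSucc 0, Int.ofNat 1, Int.ofNat 1],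
  [Int.ofNat 0, Int.ofNat 0, Int.ofNat 2, Int.ofNat 0, Int.ofNat 0, Int.ofNat 0, Int.ofNat 0, Int.ofNat 0, Int.ofNat 0, Int.ofNat 0, Int.negSucc 1, Int.ofNat 0, Int.ofNat 0, Int.ofNat 2, Int.negSucc 1, Int.ofNat 0, Int.negSucc 1, Int.ofNat 0, Int.ofNat 2, Int.ofNat 0, Int.ofNat 0, Int.negSucc 1, Int.ofNat 2, Int.ofNat 0],
  [Int.ofNat 0, Int.ofNat 2, Int.ofNat 0, Int.ofNat 0, Int.ofNat 2, Int.negSucc 1, Int.ofNat 0, Int.ofNat 0, Int.negSucc 1, Int.ofNat 0, Int.ofNat 0, Int.ofNat 0, Int.ofNat 0, Int.ofNat 0, Int.ofNat 0, Int.ofNat 0, Int.ofNat 2, Int.ofNat 0, Int.ofNat 0, Int.ofNat 2, Int.negSucc 1, Int.ofNat 0, Int.negSucc 1, Int.ofNat 0],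
  [Int.ofNat 1, Int.negSucc 0, Int.ofNat 1, Int.ofNat 1, Int.ofNat 1, Int.negSucc 0, Int.negSucc 0, Int.negSucc 0, Int.negSucc 0, Int.ofNat 1, Int.ofNat 1, Int.ofNat 1, Int.ofNat 1, Int.negSucc 0, Int.ofNat 1, Int.ofNat 1, Int.ofNat 1, Int.ofNat 1, Int.ofNat 1, Int.ofNat 1, Int.negSucc 0, Int.negSucc 0, Int.negSucc 2, Int.ofNat 1],
  [Int.negSucc 0, Int.negSucc 0, Int.negSucc 2, Int.ofNat 1, Int.negSucc 0, Int.ofNat 1, Int.ofNat 1, Int.ofNat 1, Int.negSucc 0, Int.negSucc 0, Int.negSucc 0, Int.negSucc 0, Int.ofNat 1, Int.ofNat 1, Int.ofNat 1, Int.ofNat 1, Int.negSucc 0, Int.ofNat 1, Int.ofNat 1, Int.ofNat 1, Int.ofNat 1, Int.ofNat 1, Int.ofNat 1, Int.ofNat 1],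
  [Int.negSucc 0, Int.negSucc 0, Int.ofNat 1, Int.negSucc 0, Int.negSucc 0, Int.negSucc 0, Int.negSucc 0, Int.negSucc 0, Int.negSucc 0, Int.negSucc 0, Int.negSucc 0, Int.negSucc 0, Int.ofNat 1, Int.ofNat 1, Int.negSucc 0, Int.ofNat 1, Int.negSucc 0, Int.negSucc 0, Int.ofNat 1, Int.negSucc 0, Int.ofNat 1, Int.negSucc 0, Int.ofNat 1, Int.negSucc 2],
  [Int.negSucc 0, Int.ofNat 1, Int.negSucc 0, Int.negSucc 0, Int.negSucc 0, Int.negSucc 0, Int.negSucc 0, Int.negSucc 0, Int.negSucc 0, Int.negSucc 0, Int.negSucc 0, Int.ofNat 1, Int.ofNat 1, Int.negSucc 0, Int.ofNat 1, Int.negSucc 0, Int.negSucc 0, Int.ofNat 1, Int.negSucc 0, Int.ofNat 1, Int.negSucc 0, Int.ofNat 1, Int.negSucc 0, Int.negSucc 2],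
  [Int.ofNat 1, Int.ofNat 1, Int.ofNat 1, Int.negSucc 0, Int.negSucc 0, Int.negSucc 0, Int.negSucc 0, Int.ofNat 1, Int.negSucc 0, Int.ofNat 1, Int.ofNat 1, Int.negSucc 0, Int.ofNat 1, Int.negSucc 0, Int.ofNat 1, Int.negSucc 0, Int.negSucc 0, Int.ofNat 1, Int.ofNat 1, Int.ofNat 1, Int.negSucc 0, Int.negSucc 0, Int.negSucc 0, Int.negSucc 2]]

set_option maxRecDepth 100000 in
theorem c1te2_chk : pmChk (List.replicate 14 [2, 0, 26, 25]).flatten nxL c1te2M 0 0 = true := by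
  decide +kernel

theorem c1te2_ne : wE letE2 (List.replicate 14 [2, 0, 26, 25]).flatten ≠ 1 ∧ wE letE2 (List.replicate 14 [2, 0, 26, 25]).flatten ≠ negElt :=
  ne_pm_of_chk nxL_mem c1te2_chk

set_option maxRecDepth 100000 in
def c1te3M : List (List ℤ) :=
  [[Int.ofNat 4, Int.ofNat 0, Int.ofNat 0, Int.ofNat 0, Int.ofNat 0, Int.ofNat 0, Int.ofNat 0, Int.ofNat 0, Int.ofNat 0, Int.ofNat 0, Int.ofNat 0, Int.ofNat 0, Int.ofNat 0, Int.ofNat 0, Int.ofNat 0, Int.ofNat 0, Int.ofNat 0, Int.ofNat 0, Int.ofNat 0, Int.ofNat 0, Int.ofNat 0, Int.ofNat 0, Int.ofNat 0, Int.ofNat 4],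
  [Int.ofNat 4, Int.ofNat 0, Int.ofNat 0, Int.ofNat 0, Int.ofNat 0, Int.ofNat 0, Int.ofNat 0, Int.ofNat 0, Int.ofNat 0, Int.ofNat 0, Int.ofNat 0, Int.ofNat 0, Int.ofNat 0, Int.ofNat 0, Int.ofNat 0, Int.ofNat 0, Int.ofNat 0, Int.ofNat 0, Int.ofNat 0, Int.ofNat 0, Int.ofNat 0, Int.ofNat 0, Int.ofNat 0, Int.ofNat 4],
  [Int.negSucc 3, Int.ofNat 0, Int.ofNat 0, Int.ofNat 0, Int.ofNat 0, Int.ofNat 0, Int.ofNat 0, Int.ofNat 0, Int.ofNat 0, Int.ofNat 0, Int.ofNat 0, Int.ofNat 0, Int.ofNat 0, Int.ofNat 0, Int.ofNat 0, Int.ofNat 0, Int.ofNat 0, Int.ofNat 0, Int.ofNat 0, Int.ofNat 0, Int.ofNat 0, Int.ofNat 0, Int.ofNat 0, Int.ofNat 4],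
  [Int.ofNat 0, Int.negSucc 3, Int.ofNat 0, Int.ofNat 0, Int.ofNat 0, Int.ofNat 0, Int.ofNat 0, Int.ofNat 0, Int.ofNat 0, Int.ofNat 0, Int.ofNat 0, Int.ofNat 0, Int.ofNat 0, Int.ofNat 0, Int.ofNat 0, Int.ofNat 0, Int.ofNat 0, Int.ofNat 0, Int.ofNat 0, Int.ofNat 0, Int.ofNat 0, Int.ofNat 0, Int.ofNat 0, Int.ofNat 4],
  [Int.ofNat 0, Int.ofNat 4, Int.ofNat 0, Int.ofNat 0, Int.ofNat 0, Int.ofNat 0, Int.ofNat 0, Int.ofNat 0, Int.ofNat 0, Int.ofNat 0, Int.ofNat 0, Int.ofNat 0, Int.ofNat 0, Int.ofNat 0, Int.ofNat 0, Int.ofNat 0, Int.ofNat 0, Int.ofNat 0, Int.ofNat 0, Int.ofNat 0, Int.ofNat 0, Int.ofNat 0, Int.ofNat 0, Int.negSucc 3],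
  [Int.ofNat 0, Int.ofNat 0, Int.ofNat 0, Int.ofNat 0, Int.ofNat 0, Int.ofNat 0, Int.ofNat 0, Int.ofNat 0, Int.ofNat 0, Int.ofNat 0, Int.ofNat 0, Int.ofNat 0, Int.ofNat 0, Int.ofNat 0, Int.ofNat 0, Int.ofNat 0, Int.ofNat 0, Int.ofNat 0, Int.ofNat 0, Int.ofNat 0, Int.ofNat 0, Int.ofNat 4, Int.ofNat 0, Int.negSucc 3],
  [Int.negSucc 1, Int.negSucc 1, Int.negSucc 1, Int.ofNat 0, Int.ofNat 0, Int.ofNat 0, Int.negSucc 1, Int.negSucc 1, Int.ofNat 0, Int.ofNat 0, Int.ofNat 0, Int.ofNat 0, Int.ofNat 0, Int.ofNat 0, Int.ofNat 0, Int.ofNat 0, Int.ofNat 0, Int.ofNat 0, Int.ofNat 0, Int.negSucc 1, Int.ofNat 0, Int.ofNat 2, Int.ofNat 0, Int.ofNat 2],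
  [Int.negSucc 1, Int.negSucc 1, Int.ofNat 0, Int.ofNat 0, Int.ofNat 0, Int.negSucc 1, Int.negSucc 1, Int.ofNat 0, Int.ofNat 0, Int.ofNat 0, Int.ofNat 0, Int.ofNat 0, Int.ofNat 0, Int.ofNat 0, Int.ofNat 0, Int.ofNat 0, Int.ofNat 0, Int.ofNat 0, Int.negSucc 1, Int.ofNat 0, Int.ofNat 2, Int.ofNat 0, Int.negSucc 1, Int.ofNat 2],
  [Int.ofNat 1, Int.ofNat 1, Int.negSucc 0, Int.ofNat 1, Int.ofNat 1, Int.negSucc 0, Int.negSucc 0, Int.ofNat 1, Int.ofNat 1, Int.negSucc 0, Int.negSucc 0, Int.ofNat 1, Int.ofNat 1, Int.ofNat 1, Int.ofNat 1, Int.negSucc 0, Int.ofNat 1, Int.ofNat 1, Int.negSucc 0, Int.ofNat 1, Int.ofNat 1, Int.ofNat 1, Int.negSucc 0, Int.negSucc 2],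
  [Int.ofNat 1, Int.ofNat 1, Int.ofNat 1, Int.ofNat 1, Int.ofNat 1, Int.ofNat 1, Int.ofNat 1, Int.ofNat 1, Int.ofNat 1, Int.ofNat 1, Int.ofNat 1, Int.ofNat 1, Int.ofNat 1, Int.ofNat 1, Int.ofNat 1, Int.ofNat 1, Int.ofNat 1, Int.ofNat 1, Int.ofNat 1, Int.ofNat 1, Int.ofNat 1, Int.ofNat 1, Int.ofNat 1, Int.negSucc 2],
  [Int.ofNat 1, Int.ofNat 1, Int.ofNat 1, Int.ofNat 1, Int.ofNat 1, Int.ofNat 1, Int.ofNat 1, Int.ofNat 1, Int.ofNat 1, Int.ofNat 1, Int.ofNat 1, Int.ofNat 1, Int.ofNat 1, Int.ofNat 1, Int.ofNat 1, Int.ofNat 1, Int.ofNat 1, Int.ofNat 1, Int.ofNat 1, Int.ofNat 1, Int.ofNat 1, Int.ofNat 1, Int.ofNat 1, Int.negSucc 2],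
  [Int.negSucc 2, Int.ofNat 1, Int.ofNat 1, Int.ofNat 1, Int.ofNat 1, Int.ofNat 1, Int.ofNat 1, Int.ofNat 1, Int.ofNat 1, Int.ofNat 1, Int.ofNat 1, Int.ofNat 1, Int.ofNat 1, Int.ofNat 1, Int.ofNat 1, Int.ofNat 1, Int.ofNat 1, Int.ofNat 1, Int.ofNat 1, Int.ofNat 1, Int.ofNat 1, Int.ofNat 1, Int.ofNat 1, Int.ofNat 1],
  [Int.ofNat 3, Int.ofNat 1, Int.negSucc 0, Int.ofNat 1, Int.ofNat 1, Int.ofNat 1, Int.ofNat 1, Int.negSucc 0, Int.ofNat 1, Int.negSucc 0, Int.negSucc 0, Int.negSucc 0, Int.ofNat 1, Int.ofNat 1, Int.ofNat 1, Int.ofNat 1, Int.ofNat 1, Int.ofNat 1, Int.negSucc 0, Int.ofNat 1, Int.ofNat 1, Int.negSucc 0, Int.ofNat 1, Int.ofNat 1],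
  [Int.ofNat 1, Int.ofNat 3, Int.ofNat 1, Int.negSucc 0, Int.ofNat 1, Int.ofNat 1, Int.ofNat 1, Int.ofNat 1, Int.negSucc 0, Int.ofNat 1, Int.negSucc 0, Int.negSucc 0, Int.negSucc 0, Int.ofNat 1, Int.ofNat 1, Int.ofNat 1, Int.ofNat 1, Int.ofNat 1, Int.ofNat 1, Int.negSucc 0, Int.ofNat 1, Int.ofNat 1, Int.negSucc 0, Int.ofNat 1],
  [Int.ofNat 2, Int.ofNat 0, Int.ofNat 2, Int.negSucc 1, Int.ofNat 0, Int.ofNat 0, Int.ofNat 0, Int.ofNat 0, Int.ofNat 0, Int.ofNat 0, Int.negSucc 1, Int.ofNat 0, Int.ofNat 0, Int.ofNat 0, Int.ofNat 0, Int.ofNat 0, Int.ofNat 0, Int.ofNat 0, Int.ofNat 2, Int.negSucc 1, Int.ofNat 0, Int.ofNat 0, Int.negSucc 1, Int.ofNat 2],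
  [Int.negSucc 1, Int.ofNat 0, Int.ofNat 0, Int.ofNat 0, Int.ofNat 0, Int.ofNat 0, Int.ofNat 0, Int.negSucc 1, Int.ofNat 0, Int.ofNat 0, Int.ofNat 0, Int.ofNat 0, Int.ofNat 0, Int.ofNat 0, Int.ofNat 0, Int.ofNat 2, Int.negSucc 1, Int.ofNat 0, Int.ofNat 0, Int.negSucc 1, Int.ofNat 2, Int.ofNat 0, Int.ofNat 2, Int.ofNat 2],
  [Int.ofNat 2, Int.ofNat 0, Int.ofNat 0, Int.ofNat 0, Int.ofNat 0, Int.ofNat 0, Int.ofNat 2, Int.ofNat 0, Int.ofNat 0, Int.negSucc 1, Int.negSucc 1, Int.ofNat 0, Int.ofNat 0, Int.ofNat 0, Int.ofNat 0, Int.ofNat 0, Int.negSucc 1, Int.ofNat 0, Int.ofNat 0, Int.ofNat 0, Int.ofNat 0, Int.ofNat 2, Int.ofNat 2, Int.negSucc 1],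
  [Int.ofNat 2, Int.ofNat 2, Int.ofNat 0, Int.ofNat 0, Int.ofNat 0, Int.ofNat 0, Int.ofNat 0, Int.negSucc 1, Int.ofNat 0, Int.ofNat 0, Int.ofNat 0, Int.ofNat 0, Int.negSucc 1, Int.negSucc 1, Int.ofNat 2, Int.ofNat 0, Int.ofNat 0, Int.ofNat 0, Int.ofNat 0, Int.ofNat 0, Int.ofNat 2, Int.ofNat 0, Int.ofNat 0, Int.negSucc 1],
  [Int.negSucc 0, Int.negSucc 0, Int.ofNat 1, Int.negSucc 0, Int.ofNat 1, Int.negSucc 0, Int.ofNat 1, Int.negSucc 0, Int.ofNat 1, Int.negSucc 0, Int.negSucc 0, Int.ofNat 1, Int.negSucc 0, Int.negSucc 0, Int.ofNat 1, Int.negSucc 0, Int.ofNat 1, Int.negSucc 0, Int.ofNat 1, Int.ofNat 1, Int.ofNat 1, Int.ofNat 1, Int.ofNat 1, Int.ofNat 3],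
  [Int.negSucc 0, Int.negSucc 0, Int.negSucc 0, Int.negSucc 0, Int.ofNat 1, Int.ofNat 1, Int.negSucc 0, Int.negSucc 0, Int.ofNat 1, Int.ofNat 1, Int.ofNat 1, Int.ofNat 1, Int.negSucc 0, Int.negSucc 0, Int.ofNat 1, Int.ofNat 1, Int.ofNat 1, Int.negSucc 0, Int.negSucc 0, Int.ofNat 1, Int.ofNat 1, Int.ofNat 1, Int.negSucc 0, Int.ofNat 3],
  [Int.negSucc 0, Int.ofNat 1, Int.ofNat 1, Int.negSucc 0, Int.ofNat 1, Int.ofNat 1, Int.negSucc 0, Int.negSucc 0, Int.ofNat 1, Int.negSucc 0, Int.negSucc 0, Int.ofNat 1, Int.ofNat 1, Int.negSucc 0, Int.negSucc 0, Int.negSucc 0, Int.negSucc 0, Int.ofNat 1, Int.ofNat 1, Int.ofNat 1, Int.negSucc 0, Int.ofNat 1, Int.ofNat 1, Int.ofNat 3],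
  [Int.negSucc 0, Int.ofNat 1, Int.negSucc 0, Int.negSucc 0, Int.ofNat 1, Int.negSucc 0, Int.ofNat 1, Int.negSucc 0, Int.ofNat 1, Int.ofNat 1, Int.ofNat 1, Int.ofNat 1, Int.ofNat 1, Int.negSucc 0, Int.negSucc 0, Int.ofNat 1, Int.negSucc 0, Int.ofNat 1, Int.negSucc 0, Int.ofNat 1, Int.negSucc 0, Int.ofNat 1, Int.negSucc 0, Int.ofNat 3],
  [Int.ofNat 2, Int.ofNat 0, Int.ofNat 2, Int.ofNat 0, Int.ofNat 2, Int.ofNat 0, Int.ofNat 0, Int.negSucc 1, Int.ofNat 0, Int.ofNat 0, Int.ofNat 0, Int.ofNat 0, Int.ofNat 0, Int.ofNat 0, Int.ofNat 0, Int.ofNat 0, Int.ofNat 0, Int.ofNat 2, Int.negSucc 1, Int.ofNat 0, Int.negSucc 1, Int.ofNat 0, Int.ofNat 0, Int.negSucc 1],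
  [Int.ofNat 2, Int.negSucc 1, Int.ofNat 0, Int.ofNat 0, Int.ofNat 2, Int.ofNat 0, Int.ofNat 0, Int.ofNat 0, Int.ofNat 0, Int.ofNat 0, Int.negSucc 1, Int.ofNat 0, Int.ofNat 0, Int.ofNat 0, Int.ofNat 2, Int.ofNat 0, Int.ofNat 0, Int.ofNat 0, Int.ofNat 2, Int.ofNat 0, Int.ofNat 0, Int.negSucc 1, Int.ofNat 0, Int.negSucc 1],
  [Int.negSucc 2, Int.ofNat 1, Int.negSucc 0, Int.negSucc 0, Int.ofNat 1, Int.negSucc 0, Int.ofNat 1, Int.ofNat 1, Int.negSucc 0, Int.ofNat 1, Int.negSucc 0, Int.negSucc 0, Int.negSucc 0, Int.negSucc 0, Int.ofNat 1, Int.ofNat 1, Int.negSucc 0, Int.negSucc 0, Int.ofNat 1, Int.ofNat 1, Int.ofNat 1, Int.negSucc 0, Int.negSucc 0, Int.ofNat 1],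
  [Int.ofNat 1, Int.negSucc 0, Int.negSucc 0, Int.negSucc 2, Int.ofNat 1, Int.negSucc 0, Int.negSucc 0, Int.ofNat 1, Int.negSucc 0, Int.ofNat 1, Int.ofNat 1, Int.negSucc 0, Int.ofNat 1, Int.negSucc 0, Int.negSucc 0, Int.negSucc 0, Int.negSucc 0, Int.ofNat 1, Int.ofNat 1, Int.negSucc 0, Int.negSucc 0, Int.ofNat 1, Int.ofNat 1, Int.ofNat 1],
  [Int.negSucc 0, Int.ofNat 1, Int.ofNat 1, Int.negSucc 0, Int.ofNat 1, Int.ofNat 1, Int.negSucc 0, Int.ofNat 1, Int.negSucc 0, Int.ofNat 1, Int.ofNat 1, Int.negSucc 0, Int.ofNat 1, Int.negSucc 0, Int.ofNat 1, Int.negSucc 0, Int.negSucc 0, Int.ofNat 3, Int.ofNat 1, Int.negSucc 0, Int.negSucc 0, Int.ofNat 1, Int.ofNat 1, Int.negSucc 0],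
  [Int.ofNat 1, Int.ofNat 1, Int.negSucc 0, Int.ofNat 1, Int.ofNat 1, Int.negSucc 0, Int.ofNat 1, Int.negSucc 0, Int.ofNat 1, Int.ofNat 1, Int.negSucc 0, Int.ofNat 1, Int.negSucc 0, Int.ofNat 1, Int.negSucc 0, Int.negSucc 0, Int.ofNat 3, Int.ofNat 1, Int.negSucc 0, Int.negSucc 0, Int.ofNat 1, Int.ofNat 1, Int.negSucc 0, Int.negSucc 0],
  [Int.negSucc 0, Int.ofNat 1, Int.ofNat 1, Int.ofNat 1, Int.ofNat 1, Int.negSucc 0, Int.ofNat 1, Int.ofNat 1, Int.ofNat 1, Int.negSucc 0, Int.ofNat 1, Int.negSucc 0, Int.negSucc 0, Int.ofNat 1, Int.negSucc 0, Int.negSucc 0, Int.ofNat 3, Int.ofNat 1, Int.ofNat 1, Int.negSucc 0, Int.ofNat 1, Int.negSucc 0, Int.negSucc 0, Int.negSucc 0],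
  [Int.ofNat 1, Int.negSucc 0, Int.negSucc 0, Int.negSucc 0, Int.negSucc 0, Int.negSucc 0, Int.negSucc 0, Int.ofNat 1, Int.negSucc 0, Int.ofNat 1, Int.ofNat 1, Int.negSucc 0, Int.ofNat 1, Int.negSucc 0, Int.negSucc 0, Int.negSucc 0, Int.negSucc 2, Int.ofNat 1, Int.negSucc 0, Int.negSucc 0, Int.ofNat 1, Int.negSucc 0, Int.negSucc 0, Int.negSucc 0],
  [Int.ofNat 1, Int.negSucc 0, Int.negSucc 0, Int.negSucc 0, Int.negSucc 0, Int.ofNat 1, Int.negSucc 0, Int.ofNat 1, Int.ofNat 1, Int.negSucc 2, Int.negSucc 0, Int.negSucc 0, Int.negSucc 0, Int.negSucc 0, Int.negSucc 0, Int.negSucc 0, Int.ofNat 1, Int.negSucc 0, Int.negSucc 0, Int.ofNat 1, Int.negSucc 0, Int.ofNat 1, Int.negSucc 0, Int.negSucc 0],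
  [Int.negSucc 0, Int.negSucc 0, Int.ofNat 1, Int.negSucc 0, Int.negSucc 0, Int.ofNat 1, Int.negSucc 0, Int.negSucc 0, Int.ofNat 1, Int.ofNat 3, Int.ofNat 1, Int.ofNat 1, Int.negSucc 0, Int.negSucc 0, Int.negSucc 0, Int.negSucc 0, Int.ofNat 1, Int.negSucc 0, Int.ofNat 1, Int.ofNat 1, Int.negSucc 0, Int.negSucc 0, Int.negSucc 0, Int.negSucc 0],
  [Int.negSucc 0, Int.negSucc 0, Int.negSucc 0, Int.ofNat 1, Int.negSucc 0, Int.negSucc 0, Int.ofNat 1, Int.negSucc 0, Int.negSucc 0, Int.ofNat 1, Int.ofNat 3, Int.ofNat 1, Int.ofNat 1, Int.negSucc 0, Int.negSucc 0, Int.negSucc 0, Int.negSucc 0, Int.ofNat 1, Int.negSucc 0, Int.ofNat 1, Int.ofNat 1, Int.negSucc 0, Int.negSucc 0, Int.negSucc 0],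
  [Int.negSucc 0, Int.negSucc 0, Int.negSucc 0, Int.ofNat 1, Int.ofNat 1, Int.negSucc 0, Int.ofNat 1, Int.negSucc 0, Int.negSucc 0, Int.negSucc 0, Int.ofNat 1, Int.ofNat 1, Int.ofNat 1, Int.ofNat 1, Int.negSucc 0, Int.negSucc 2, Int.ofNat 1, Int.ofNat 1, Int.negSucc 0, Int.ofNat 1, Int.negSucc 0, Int.negSucc 0, Int.ofNat 1, Int.negSucc 0],
  [Int.ofNat 1, Int.ofNat 1, Int.negSucc 0, Int.ofNat 1, Int.negSucc 0, Int.negSucc 0, Int.negSucc 0, Int.ofNat 1, Int.ofNat 1, Int.ofNat 1, Int.ofNat 1, Int.negSucc 0, Int.negSucc 2, Int.ofNat 1, Int.ofNat 1, Int.negSucc 0, Int.ofNat 1, Int.negSucc 0, Int.negSucc 0, Int.ofNat 1, Int.negSucc 0, Int.negSucc 0, Int.negSucc 0, Int.negSucc 0],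
  [Int.negSucc 0, Int.negSucc 0, Int.ofNat 1, Int.ofNat 1, Int.negSucc 0, Int.negSucc 0, Int.negSucc 0, Int.ofNat 1, Int.ofNat 3, Int.ofNat 1, Int.ofNat 1, Int.ofNat 1, Int.negSucc 0, Int.ofNat 1, Int.ofNat 1, Int.negSucc 0, Int.ofNat 1, Int.negSucc 0, Int.ofNat 1, Int.ofNat 1, Int.negSucc 0, Int.negSucc 0, Int.negSucc 0, Int.ofNat 1],
  [Int.negSucc 0, Int.negSucc 0, Int.negSucc 0, Int.ofNat 1, Int.ofNat 1, Int.ofNat 1, Int.ofNat 1, Int.ofNat 1, Int.negSucc 0, Int.ofNat 1, Int.negSucc 0, Int.negSucc 0, Int.ofNat 1, Int.ofNat 1, Int.negSucc 0, Int.negSucc 0, Int.ofNat 3, Int.ofNat 1, Int.negSucc 0, Int.ofNat 1, Int.negSucc 0, Int.negSucc 0, Int.ofNat 1, Int.ofNat 1],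
  [Int.ofNat 0, Int.ofNat 0, Int.ofNat 0, Int.ofNat 0, Int.negSucc 1, Int.ofNat 0, Int.ofNat 0, Int.ofNat 0, Int.ofNat 0, Int.ofNat 2, Int.ofNat 0, Int.ofNat 0, Int.ofNat 2, Int.negSucc 1, Int.negSucc 1, Int.ofNat 0, Int.ofNat 0, Int.ofNat 0, Int.ofNat 0, Int.ofNat 0, Int.ofNat 0, Int.negSucc 1, Int.negSucc 1, Int.negSucc 1],
  [Int.ofNat 0, Int.ofNat 0, Int.ofNat 0, Int.ofNat 0, Int.negSucc 1, Int.ofNat 0, Int.ofNat 0, Int.ofNat 0, Int.ofNat 0, Int.negSucc 1, Int.ofNat 0, Int.ofNat 0, Int.ofNat 2, Int.negSucc 1, Int.negSucc 1, Int.ofNat 0, Int.ofNat 0, Int.ofNat 0, Int.ofNat 0, Int.ofNat 0, Int.ofNat 0, Int.negSucc 1, Int.ofNat 2, Int.negSucc 1],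
  [Int.ofNat 0, Int.ofNat 0, Int.ofNat 0, Int.ofNat 0, Int.negSucc 1, Int.ofNat 0, Int.negSucc 1, Int.ofNat 0, Int.ofNat 0, Int.ofNat 0, Int.negSucc 1, Int.ofNat 0, Int.ofNat 0, Int.negSucc 1, Int.ofNat 0, Int.ofNat 0, Int.ofNat 0, Int.ofNat 2, Int.negSucc 1, Int.ofNat 0, Int.ofNat 0, Int.ofNat 0, Int.ofNat 2, Int.negSucc 1],
  [Int.negSucc 1, Int.ofNat 2, Int.ofNat 0, Int.ofNat 0, Int.ofNat 2, Int.ofNat 0, Int.ofNat 0, Int.negSucc 1, Int.ofNat 0, Int.ofNat 0, Int.ofNat 0, Int.ofNat 0, Int.ofNat 0, Int.ofNat 0, Int.negSucc 1, Int.ofNat 0, Int.negSucc 1, Int.negSucc 1, Int.ofNat 0, Int.negSucc 1, Int.ofNat 0, Int.ofNat 0, Int.ofNat 0, Int.ofNat 0],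
  [Int.ofNat 2, Int.ofNat 2, Int.ofNat 0, Int.ofNat 0, Int.ofNat 2, Int.ofNat 0, Int.ofNat 0, Int.ofNat 2, Int.ofNat 0, Int.ofNat 0, Int.ofNat 0, Int.ofNat 0, Int.ofNat 0, Int.ofNat 0, Int.negSucc 1, Int.ofNat 0, Int.negSucc 1, Int.negSucc 1, Int.ofNat 0, Int.negSucc 1, Int.ofNat 0, Int.ofNat 0, Int.ofNat 0, Int.ofNat 0],
  [Int.ofNat 0, Int.ofNat 2, Int.ofNat 2, Int.ofNat 0, Int.ofNat 0, Int.ofNat 2, Int.ofNat 0, Int.ofNat 0, Int.ofNat 2, Int.ofNat 0, Int.ofNat 0, Int.ofNat 0, Int.ofNat 0, Int.ofNat 0, Int.ofNat 0, Int.negSucc 1, Int.ofNat 0, Int.negSucc 1, Int.negSucc 1, Int.ofNat 0, Int.negSucc 1, Int.ofNat 0, Int.ofNat 0, Int.ofNat 0],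
  [Int.ofNat 2, Int.ofNat 0, Int.ofNat 0, Int.ofNat 0, Int.ofNat 0, Int.ofNat 2, Int.ofNat 0, Int.ofNat 0, Int.ofNat 2, Int.ofNat 2, Int.ofNat 2, Int.ofNat 0, Int.ofNat 0, Int.ofNat 0, Int.ofNat 0, Int.ofNat 0, Int.ofNat 0, Int.negSucc 1, Int.negSucc 1, Int.ofNat 0, Int.ofNat 0, Int.ofNat 0, Int.ofNat 0, Int.ofNat 2],
  [Int.ofNat 0, Int.ofNat 0, Int.ofNat 2, Int.ofNat 0, Int.ofNat 0, Int.ofNat 2, Int.ofNat 2, Int.ofNat 2, Int.ofNat 0, Int.ofNat 0, Int.ofNat 0, Int.ofNat 0, Int.ofNat 0, Int.ofNat 0, Int.negSucc 1, Int.negSucc 1, Int.ofNat 0, Int.ofNat 0, Int.ofNat 0, Int.ofNat 0, Int.ofNat 2, Int.ofNat 0, Int.ofNat 0, Int.ofNat 2],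
  [Int.ofNat 2, Int.ofNat 2, Int.ofNat 0, Int.ofNat 0, Int.ofNat 0, Int.ofNat 2, Int.ofNat 0, Int.ofNat 0, Int.ofNat 0, Int.ofNat 0, Int.ofNat 0, Int.ofNat 0, Int.ofNat 0, Int.ofNat 0, Int.negSucc 1, Int.negSucc 1, Int.ofNat 0, Int.ofNat 0, Int.ofNat 0, Int.negSucc 1, Int.ofNat 2, Int.negSucc 1, Int.ofNat 0, Int.ofNat 0],
  [Int.ofNat 2, Int.ofNat 0, Int.ofNat 0, Int.ofNat 0, Int.ofNat 0, Int.ofNat 0, Int.ofNat 0, Int.ofNat 0, Int.ofNat 0, Int.ofNat 0, Int.ofNat 2, Int.ofNat 0, Int.ofNat 0, Int.ofNat 0, Int.ofNat 0, Int.negSucc 1, Int.ofNat 0, Int.negSucc 1, Int.ofNat 2, Int.ofNat 0, Int.negSucc 1, Int.ofNat 2, Int.negSucc 1, Int.ofNat 0],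
  [Int.negSucc 0, Int.ofNat 1, Int.ofNat 1, Int.ofNat 1, Int.ofNat 1, Int.ofNat 1, Int.negSucc 0, Int.negSucc 0, Int.negSucc 0, Int.ofNat 1, Int.ofNat 3, Int.negSucc 0, Int.negSucc 0, Int.ofNat 1, Int.ofNat 1, Int.negSucc 0, Int.ofNat 1, Int.negSucc 0, Int.ofNat 1, Int.negSucc 0, Int.negSucc 0, Int.ofNat 1, Int.negSucc 0, Int.ofNat 1],
  [Int.negSucc 0, Int.ofNat 1, Int.negSucc 0, Int.ofNat 1, Int.ofNat 1, Int.negSucc 0, Int.ofNat 1, Int.negSucc 0, Int.negSucc 0, Int.negSucc 0, Int.negSucc 2, Int.negSucc 0, Int.negSucc 0, Int.ofNat 1, Int.ofNat 1, Int.ofNat 1, Int.ofNat 1, Int.negSucc 0, Int.negSucc 0, Int.negSucc 0, Int.negSucc 0, Int.ofNat 1, Int.ofNat 1, Int.ofNat 1],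
  [Int.ofNat 1, Int.negSucc 0, Int.ofNat 1, Int.negSucc 0, Int.negSucc 2, Int.negSucc 0, Int.negSucc 0, Int.ofNat 1, Int.ofNat 1, Int.ofNat 1, Int.ofNat 1, Int.ofNat 1, Int.ofNat 1, Int.negSucc 0, Int.negSucc 0, Int.ofNat 1, Int.negSucc 0, Int.ofNat 1, Int.negSucc 0, Int.negSucc 0, Int.negSucc 0, Int.negSucc 0, Int.negSucc 0, Int.ofNat 1],
  [Int.ofNat 1, Int.negSucc 0, Int.negSucc 0, Int.negSucc 0, Int.negSucc 2, Int.ofNat 1, Int.ofNat 1, Int.ofNat 1, Int.ofNat 1, Int.negSucc 0, Int.negSucc 0, Int.ofNat 1, Int.ofNat 1, Int.negSucc 0, Int.negSucc 0, Int.negSucc 0, Int.negSucc 0, Int.ofNat 1, Int.ofNat 1, Int.negSucc 0, Int.negSucc 0, Int.negSucc 0, Int.ofNat 1, Int.ofNat 1],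
  [Int.negSucc 0, Int.ofNat 1, Int.ofNat 1, Int.negSucc 0, Int.negSucc 0, Int.ofNat 1, Int.ofNat 1, Int.ofNat 1, Int.negSucc 0, Int.ofNat 1, Int.ofNat 1, Int.negSucc 0, Int.negSucc 0, Int.ofNat 1, Int.negSucc 0, Int.ofNat 1, Int.ofNat 1, Int.ofNat 1, Int.negSucc 0, Int.negSucc 0, Int.ofNat 1, Int.negSucc 0, Int.ofNat 3, Int.negSucc 0],
  [Int.negSucc 0, Int.negSucc 0, Int.ofNat 1, Int.negSucc 0, Int.ofNat 1, Int.negSucc 0, Int.ofNat 1, Int.ofNat 1, Int.ofNat 1, Int.negSucc 0, Int.ofNat 1, Int.negSucc 0, Int.negSucc 0, Int.ofNat 1, Int.ofNat 1, Int.ofNat 1, Int.ofNat 1, Int.negSucc 0, Int.negSucc 0, Int.ofNat 3, Int.ofNat 1, Int.ofNat 1, Int.negSucc 0, Int.negSucc 0],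
  [Int.ofNat 0, Int.ofNat 0, Int.negSucc 1, Int.ofNat 0, Int.ofNat 0, Int.ofNat 0, Int.negSucc 1, Int.negSucc 1, Int.ofNat 2, Int.negSucc 1, Int.ofNat 0, Int.ofNat 0, Int.ofNat 0, Int.ofNat 0, Int.ofNat 2, Int.ofNat 0, Int.ofNat 0, Int.ofNat 0, Int.ofNat 0, Int.ofNat 0, Int.ofNat 0, Int.negSucc 1, Int.negSucc 1, Int.ofNat 0],
  [Int.ofNat 0, Int.negSucc 1, Int.negSucc 1, Int.ofNat 0, Int.ofNat 0, Int.negSucc 1, Int.ofNat 0, Int.ofNat 0, Int.ofNat 0, Int.negSucc 1, Int.negSucc 1, Int.ofNat 2, Int.negSucc 1, Int.ofNat 0, Int.ofNat 0, Int.ofNat 0, Int.ofNat 0, Int.ofNat 2, Int.ofNat 0, Int.ofNat 0, Int.ofNat 0, Int.ofNat 0, Int.ofNat 0, Int.ofNat 0],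
  [Int.negSucc 1, Int.ofNat 0, Int.ofNat 0, Int.ofNat 0, Int.ofNat 0, Int.negSucc 1, Int.ofNat 0, Int.ofNat 0, Int.ofNat 0, Int.ofNat 0, Int.ofNat 0, Int.ofNat 2, Int.negSucc 1, Int.ofNat 0, Int.ofNat 0, Int.ofNat 2, Int.ofNat 0, Int.ofNat 2, Int.ofNat 0, Int.ofNat 0, Int.ofNat 2, Int.ofNat 0, Int.ofNat 0, Int.negSucc 1],
  [Int.ofNat 0, Int.ofNat 0, Int.ofNat 0, Int.ofNat 0, Int.negSucc 1, Int.ofNat 0, Int.ofNat 0, Int.ofNat 0, Int.ofNat 0, Int.ofNat 0, Int.ofNat 2, Int.negSucc 1, Int.ofNat 0, Int.ofNat 0, Int.ofNat 2, Int.ofNat 0, Int.ofNat 2, Int.ofNat 0, Int.ofNat 0, Int.ofNat 2, Int.ofNat 0, Int.ofNat 0, Int.negSucc 1, Int.negSucc 1],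
  [Int.ofNat 0, Int.ofNat 0, Int.ofNat 0, Int.ofNat 0, Int.negSucc 1, Int.ofNat 0, Int.ofNat 0, Int.ofNat 0, Int.ofNat 0, Int.ofNat 0, Int.negSucc 1, Int.ofNat 2, Int.ofNat 0, Int.ofNat 0, Int.ofNat 2, Int.ofNat 0, Int.ofNat 2, Int.ofNat 0, Int.ofNat 0, Int.ofNat 2, Int.ofNat 0, Int.ofNat 0, Int.negSucc 1, Int.negSucc 1],
  [Int.ofNat 0, Int.ofNat 0, Int.ofNat 0, Int.ofNat 0, Int.ofNat 2, Int.ofNat 0, Int.ofNat 0, Int.ofNat 0, Int.ofNat 0, Int.ofNat 0, Int.negSucc 1, Int.ofNat 2, Int.ofNat 0, Int.ofNat 0, Int.ofNat 2, Int.ofNat 0, Int.negSucc 1, Int.ofNat 0, Int.ofNat 0, Int.ofNat 2, Int.ofNat 0, Int.ofNat 0, Int.negSucc 1, Int.negSucc 1],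
  [Int.ofNat 0, Int.ofNat 0, Int.ofNat 0, Int.ofNat 0, Int.ofNat 0, Int.negSucc 1, Int.ofNat 2, Int.ofNat 0, Int.ofNat 0, Int.negSucc 1, Int.ofNat 0, Int.ofNat 2, Int.ofNat 0, Int.ofNat 0, Int.ofNat 2, Int.ofNat 0, Int.ofNat 0, Int.negSucc 1, Int.ofNat 0, Int.ofNat 0, Int.ofNat 0, Int.ofNat 0, Int.ofNat 2, Int.negSucc 1],
  [Int.ofNat 0, Int.ofNat 0, Int.ofNat 0, Int.ofNat 0, Int.ofNat 0, Int.negSucc 1, Int.ofNat 2, Int.ofNat 0, Int.ofNat 0, Int.ofNat 2, Int.ofNat 0, Int.negSucc 1, Int.ofNat 0, Int.ofNat 0, Int.ofNat 2, Int.ofNat 0, Int.ofNat 0, Int.negSucc 1, Int.ofNat 0, Int.ofNat 0, Int.ofNat 0, Int.ofNat 0, Int.ofNat 2, Int.negSucc 1],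
  [Int.ofNat 2, Int.ofNat 0, Int.ofNat 0, Int.ofNat 0, Int.ofNat 0, Int.ofNat 0, Int.negSucc 1, Int.ofNat 2, Int.ofNat 0, Int.ofNat 0, Int.ofNat 2, Int.ofNat 0, Int.negSucc 1, Int.ofNat 0, Int.ofNat 0, Int.ofNat 2, Int.ofNat 0, Int.ofNat 0, Int.negSucc 1, Int.ofNat 0, Int.ofNat 0, Int.ofNat 0, Int.ofNat 0, Int.negSucc 1],
  [Int.negSucc 1, Int.ofNat 0, Int.ofNat 0, Int.ofNat 0, Int.ofNat 0, Int.ofNat 0, Int.negSucc 1, Int.ofNat 2, Int.ofNat 2, Int.negSucc 1, Int.ofNat 0, Int.ofNat 2, Int.ofNat 0, Int.ofNat 0, Int.ofNat 0, Int.ofNat 0, Int.ofNat 0, Int.ofNat 0, Int.ofNat 0, Int.ofNat 0, Int.negSucc 1, Int.ofNat 0, Int.ofNat 0, Int.ofNat 2],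
  [Int.ofNat 0, Int.ofNat 0, Int.ofNat 0, Int.negSucc 1, Int.ofNat 2, Int.ofNat 2, Int.negSucc 1, Int.ofNat 0, Int.ofNat 2, Int.ofNat 0, Int.ofNat 0, Int.ofNat 0, Int.ofNat 0, Int.ofNat 0, Int.ofNat 0, Int.ofNat 0, Int.ofNat 0, Int.negSucc 1, Int.ofNat 0, Int.ofNat 0, Int.negSucc 1, Int.ofNat 0, Int.ofNat 0, Int.ofNat 2],
  [Int.ofNat 1, Int.ofNat 1, Int.ofNat 1, Int.negSucc 0, Int.ofNat 1, Int.ofNat 3, Int.negSucc 0, Int.ofNat 1, Int.ofNat 1, Int.ofNat 1, Int.ofNat 1, Int.negSucc 0, Int.negSucc 0, Int.negSucc 0, Int.ofNat 1, Int.ofNat 1, Int.negSucc 0, Int.negSucc 0, Int.negSucc 0, Int.ofNat 1, Int.negSucc 0, Int.ofNat 1, Int.negSucc 0, Int.negSucc 0],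
  [Int.ofNat 1, Int.negSucc 0, Int.ofNat 1, Int.negSucc 0, Int.negSucc 0, Int.ofNat 1, Int.ofNat 1, Int.ofNat 1, Int.negSucc 0, Int.negSucc 0, Int.negSucc 0, Int.negSucc 0, Int.ofNat 1, Int.negSucc 0, Int.negSucc 0, Int.ofNat 1, Int.ofNat 1, Int.ofNat 1, Int.ofNat 1, Int.negSucc 0, Int.ofNat 1, Int.ofNat 3, Int.ofNat 1, Int.negSucc 0],
  [Int.negSucc 0, Int.ofNat 1, Int.negSucc 0, Int.negSucc 0, Int.negSucc 0, Int.ofNat 1, Int.negSucc 0, Int.negSucc 0, Int.negSucc 0, Int.negSucc 0, Int.negSucc 0, Int.negSucc 0, Int.ofNat 1, Int.negSucc 0, Int.negSucc 0, Int.ofNat 1, Int.ofNat 1, Int.ofNat 1, Int.ofNat 1, Int.negSucc 2, Int.ofNat 1, Int.ofNat 1, Int.ofNat 1, Int.ofNat 1],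
  [Int.negSucc 0, Int.ofNat 1, Int.ofNat 1, Int.negSucc 0, Int.negSucc 0, Int.negSucc 0, Int.ofNat 1, Int.negSucc 0, Int.negSucc 0, Int.ofNat 1, Int.ofNat 1, Int.negSucc 0, Int.ofNat 1, Int.negSucc 0, Int.negSucc 0, Int.negSucc 0, Int.ofNat 1, Int.ofNat 1, Int.negSucc 0, Int.negSucc 2, Int.ofNat 1, Int.ofNat 1, Int.negSucc 0, Int.ofNat 1],
  [Int.ofNat 1, Int.ofNat 1, Int.negSucc 0, Int.negSucc 0, Int.negSucc 0, Int.ofNat 1, Int.ofNat 1, Int.negSucc 0, Int.negSucc 0, Int.ofNat 1, Int.negSucc 0, Int.negSucc 0, Int.negSucc 0, Int.negSucc 0, Int.ofNat 1, Int.negSucc 0, Int.negSucc 2, Int.ofNat 1, Int.ofNat 1, Int.ofNat 1, Int.negSucc 0, Int.ofNat 1, Int.negSucc 0, Int.ofNat 1],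
  [Int.ofNat 1, Int.negSucc 0, Int.negSucc 0, Int.negSucc 0, Int.ofNat 1, Int.ofNat 1, Int.ofNat 1, Int.negSucc 0, Int.negSucc 0, Int.ofNat 1, Int.negSucc 2, Int.negSucc 0, Int.ofNat 1, Int.negSucc 0, Int.ofNat 1, Int.negSucc 0, Int.negSucc 0, Int.negSucc 0, Int.ofNat 1, Int.ofNat 1, Int.negSucc 0, Int.negSucc 0, Int.ofNat 1, Int.ofNat 1],
  [Int.negSucc 0, Int.negSucc 0, Int.ofNat 1, Int.negSucc 0, Int.ofNat 1, Int.ofNat 1, Int.ofNat 1, Int.ofNat 1, Int.negSucc 0, Int.negSucc 0, Int.ofNat 3, Int.ofNat 1, Int.ofNat 1, Int.negSucc 0, Int.ofNat 1, Int.negSucc 0, Int.negSucc 0, Int.negSucc 0, Int.negSucc 0, Int.ofNat 1, Int.negSucc 0, Int.ofNat 1, Int.ofNat 1, Int.ofNat 1],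
  [Int.ofNat 1, Int.negSucc 0, Int.negSucc 0, Int.ofNat 1, Int.negSucc 0, Int.ofNat 1, Int.ofNat 1, Int.ofNat 1, Int.ofNat 1, Int.negSucc 0, Int.negSucc 0, Int.ofNat 3, Int.ofNat 1, Int.ofNat 1, Int.negSucc 0, Int.ofNat 1, Int.negSucc 0, Int.negSucc 0, Int.negSucc 0, Int.negSucc 0, Int.ofNat 1, Int.negSucc 0, Int.ofNat 1, Int.ofNat 1],
  [Int.negSucc 0, Int.ofNat 1, Int.ofNat 1, Int.ofNat 1, Int.negSucc 0, Int.ofNat 1, Int.ofNat 1, Int.ofNat 1, Int.negSucc 0, Int.negSucc 0, Int.negSucc 0, Int.ofNat 1, Int.negSucc 0, Int.ofNat 1, Int.negSucc 0, Int.ofNat 1, Int.negSucc 0, Int.negSucc 0, Int.negSucc 2, Int.negSucc 0, Int.ofNat 1, Int.negSucc 0, Int.ofNat 1, Int.negSucc 0],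
  [Int.ofNat 1, Int.negSucc 0, Int.ofNat 1, Int.ofNat 1, Int.ofNat 1, Int.negSucc 0, Int.negSucc 0, Int.negSucc 0, Int.ofNat 1, Int.negSucc 0, Int.ofNat 1, Int.negSucc 0, Int.ofNat 1, Int.negSucc 0, Int.negSucc 0, Int.negSucc 2, Int.negSucc 0, Int.ofNat 1, Int.negSucc 0, Int.ofNat 1, Int.negSucc 0, Int.ofNat 1, Int.ofNat 1, Int.negSucc 0],
  [Int.negSucc 0, Int.ofNat 1, Int.negSucc 0, Int.ofNat 1, Int.ofNat 1, Int.negSucc 0, Int.negSucc 0, Int.negSucc 0, Int.ofNat 1, Int.ofNat 1, Int.ofNat 3, Int.negSucc 0, Int.ofNat 1, Int.negSucc 0, Int.negSucc 0, Int.negSucc 0, Int.negSucc 0, Int.ofNat 1, Int.negSucc 0, Int.ofNat 1, Int.ofNat 1, Int.ofNat 1, Int.ofNat 1, Int.ofNat 1],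
  [Int.negSucc 0, Int.negSucc 0, Int.ofNat 1, Int.ofNat 1, Int.negSucc 0, Int.negSucc 0, Int.negSucc 0, Int.ofNat 3, Int.ofNat 1, Int.negSucc 0, Int.ofNat 1, Int.ofNat 1, Int.ofNat 1, Int.negSucc 0, Int.ofNat 1, Int.negSucc 0, Int.ofNat 1, Int.negSucc 0, Int.ofNat 1, Int.negSucc 0, Int.ofNat 1, Int.negSucc 0, Int.ofNat 1, Int.ofNat 1],
  [Int.ofNat 1, Int.ofNat 1, Int.negSucc 0, Int.ofNat 1, Int.negSucc 0, Int.negSucc 0, Int.negSucc 0, Int.ofNat 3, Int.negSucc 0, Int.negSucc 0, Int.ofNat 1, Int.negSucc 0, Int.negSucc 0, Int.negSucc 0, Int.ofNat 1, Int.negSucc 0, Int.ofNat 1, Int.negSucc 0, Int.negSucc 0, Int.negSucc 0, Int.ofNat 1, Int.negSucc 0, Int.ofNat 1, Int.negSucc 0],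
  [Int.ofNat 1, Int.ofNat 1, Int.ofNat 1, Int.ofNat 1, Int.negSucc 0, Int.ofNat 1, Int.ofNat 1, Int.ofNat 3, Int.negSucc 0, Int.ofNat 1, Int.negSucc 0, Int.negSucc 0, Int.negSucc 0, Int.negSucc 0, Int.ofNat 1, Int.ofNat 1, Int.ofNat 1, Int.negSucc 0, Int.ofNat 1, Int.negSucc 0, Int.ofNat 1, Int.negSucc 0, Int.negSucc 0, Int.negSucc 0],
  [Int.ofNat 1, Int.ofNat 1, Int.negSucc 0, Int.negSucc 0, Int.negSucc 0, Int.ofNat 1, Int.ofNat 1, Int.ofNat 1, Int.negSucc 0, Int.ofNat 1, Int.negSucc 0, Int.ofNat 1, Int.ofNat 1, Int.ofNat 1, Int.negSucc 0, Int.negSucc 0, Int.ofNat 3, Int.ofNat 1, Int.negSucc 0, Int.negSucc 0, Int.ofNat 1, Int.negSucc 0, Int.ofNat 1, Int.negSucc 0],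
  [Int.ofNat 1, Int.ofNat 1, Int.ofNat 1, Int.negSucc 0, Int.negSucc 0, Int.negSucc 0, Int.negSucc 0, Int.ofNat 1, Int.negSucc 0, Int.negSucc 0, Int.ofNat 1, Int.ofNat 1, Int.ofNat 1, Int.ofNat 1, Int.negSucc 0, Int.ofNat 1, Int.ofNat 3, Int.ofNat 1, Int.ofNat 1, Int.negSucc 0, Int.ofNat 1, Int.negSucc 0, Int.negSucc 0, Int.negSucc 0],
  [Int.ofNat 0, Int.ofNat 0, Int.ofNat 0, Int.ofNat 0, Int.negSucc 1, Int.ofNat 0, Int.ofNat 0, Int.ofNat 2, Int.negSucc 1, Int.negSucc 1, Int.ofNat 0, Int.ofNat 0, Int.ofNat 0, Int.ofNat 0, Int.ofNat 0, Int.ofNat 0, Int.ofNat 2, Int.ofNat 2, Int.ofNat 0, Int.ofNat 0, Int.ofNat 0, Int.ofNat 0, Int.negSucc 1, Int.ofNat 2],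
  [Int.ofNat 0, Int.ofNat 0, Int.ofNat 0, Int.ofNat 0, Int.ofNat 0, Int.ofNat 0, Int.ofNat 0, Int.ofNat 0, Int.ofNat 2, Int.ofNat 0, Int.ofNat 2, Int.ofNat 0, Int.negSucc 1, Int.negSucc 1, Int.ofNat 2, Int.ofNat 0, Int.ofNat 0, Int.ofNat 0, Int.negSucc 1, Int.negSucc 1, Int.ofNat 0, Int.ofNat 0, Int.ofNat 0, Int.ofNat 2],
  [Int.ofNat 1, Int.ofNat 1, Int.ofNat 1, Int.negSucc 0, Int.ofNat 1, Int.negSucc 0, Int.ofNat 1, Int.ofNat 1, Int.ofNat 3, Int.negSucc 0, Int.ofNat 1, Int.ofNat 1, Int.negSucc 0, Int.negSucc 0, Int.ofNat 1, Int.negSucc 0, Int.ofNat 1, Int.negSucc 0, Int.negSucc 0, Int.negSucc 0, Int.negSucc 0, Int.ofNat 1, Int.ofNat 1, Int.negSucc 0],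
  [Int.negSucc 0, Int.ofNat 1, Int.ofNat 1, Int.ofNat 1, Int.ofNat 1, Int.ofNat 1, Int.negSucc 0, Int.ofNat 1, Int.negSucc 0, Int.ofNat 1, Int.ofNat 1, Int.ofNat 3, Int.negSucc 0, Int.ofNat 1, Int.ofNat 1, Int.negSucc 0, Int.negSucc 0, Int.ofNat 1, Int.negSucc 0, Int.ofNat 1, Int.negSucc 0, Int.negSucc 0, Int.negSucc 0, Int.negSucc 0],
  [Int.ofNat 1, Int.negSucc 0, Int.negSucc 0, Int.negSucc 0, Int.ofNat 1, Int.negSucc 0, Int.negSucc 0, Int.ofNat 1, Int.negSucc 0, Int.ofNat 1, Int.ofNat 1, Int.ofNat 3, Int.negSucc 0, Int.ofNat 1, Int.negSucc 0, Int.negSucc 0, Int.negSucc 0, Int.negSucc 0, Int.negSucc 0, Int.ofNat 1, Int.negSucc 0, Int.negSucc 0, Int.negSucc 0, Int.ofNat 1],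
  [Int.negSucc 0, Int.negSucc 0, Int.negSucc 0, Int.ofNat 1, Int.negSucc 0, Int.negSucc 0, Int.ofNat 1, Int.negSucc 0, Int.ofNat 1, Int.ofNat 1, Int.ofNat 3, Int.negSucc 0, Int.ofNat 1, Int.negSucc 0, Int.negSucc 0, Int.negSucc 0, Int.negSucc 0, Int.negSucc 0, Int.ofNat 1, Int.negSucc 0, Int.negSucc 0, Int.negSucc 0, Int.ofNat 1, Int.ofNat 1],
  [Int.ofNat 1, Int.negSucc 0, Int.ofNat 1, Int.ofNat 1, Int.negSucc 0, Int.negSucc 0, Int.ofNat 1, Int.ofNat 1, Int.ofNat 1, Int.negSucc 0, Int.negSucc 2, Int.ofNat 1, Int.ofNat 1, Int.negSucc 0, Int.negSucc 0, Int.negSucc 0, Int.negSucc 0, Int.negSucc 0, Int.negSucc 0, Int.negSucc 0, Int.negSucc 0, Int.ofNat 1, Int.ofNat 1, Int.ofNat 1],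
  [Int.negSucc 0, Int.ofNat 1, Int.negSucc 0, Int.negSucc 0, Int.ofNat 1, Int.negSucc 0, Int.negSucc 0, Int.ofNat 1, Int.negSucc 0, Int.ofNat 1, Int.negSucc 2, Int.ofNat 1, Int.negSucc 0, Int.ofNat 1, Int.negSucc 0, Int.negSucc 0, Int.ofNat 1, Int.negSucc 0, Int.ofNat 1, Int.negSucc 0, Int.negSucc 0, Int.ofNat 1, Int.ofNat 1, Int.ofNat 1],
  [Int.negSucc 0, Int.negSucc 0, Int.ofNat 1, Int.negSucc 0, Int.ofNat 1, Int.negSucc 2, Int.ofNat 1, Int.negSucc 0, Int.ofNat 1, Int.ofNat 1, Int.ofNat 1, Int.negSucc 0, Int.ofNat 1, Int.negSucc 0, Int.negSucc 0, Int.negSucc 0, Int.negSucc 0, Int.ofNat 1, Int.negSucc 0, Int.negSucc 0, Int.negSucc 0, Int.ofNat 1, Int.ofNat 1, Int.ofNat 1],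
  [Int.ofNat 1, Int.negSucc 0, Int.negSucc 0, Int.negSucc 0, Int.ofNat 1, Int.negSucc 2, Int.ofNat 1, Int.ofNat 1, Int.ofNat 1, Int.negSucc 0, Int.negSucc 0, Int.ofNat 1, Int.ofNat 1, Int.negSucc 0, Int.negSucc 0, Int.negSucc 0, Int.negSucc 0, Int.ofNat 1, Int.ofNat 1, Int.negSucc 0, Int.negSucc 0, Int.negSucc 0, Int.ofNat 1, Int.ofNat 1],
  [Int.ofNat 1, Int.ofNat 1, Int.negSucc 0, Int.negSucc 0, Int.negSucc 0, Int.ofNat 1, Int.negSucc 2, Int.ofNat 1, Int.ofNat 1, Int.ofNat 1, Int.negSucc 0, Int.negSucc 0, Int.ofNat 1, Int.ofNat 1, Int.negSucc 0, Int.negSucc 0, Int.negSucc 0, Int.negSucc 0, Int.ofNat 1, Int.ofNat 1, Int.negSucc 0, Int.negSucc 0, Int.negSucc 0, Int.ofNat 1],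
  [Int.ofNat 0, Int.ofNat 0, Int.ofNat 2, Int.ofNat 0, Int.ofNat 0, Int.ofNat 2, Int.negSucc 1, Int.ofNat 2, Int.ofNat 0, Int.ofNat 2, Int.ofNat 0, Int.negSucc 1, Int.ofNat 0, Int.ofNat 2, Int.ofNat 0, Int.ofNat 0, Int.ofNat 0, Int.ofNat 0, Int.ofNat 0, Int.ofNat 2, Int.ofNat 0, Int.ofNat 0, Int.ofNat 0, Int.ofNat 0],
  [Int.ofNat 0, Int.ofNat 0, Int.ofNat 2, Int.negSucc 1, Int.ofNat 2, Int.ofNat 0, Int.ofNat 2, Int.ofNat 0, Int.negSucc 1, Int.ofNat 0, Int.ofNat 2, Int.ofNat 0, Int.ofNat 0, Int.ofNat 0, Int.ofNat 0, Int.ofNat 0, Int.ofNat 2, Int.ofNat 0, Int.ofNat 0, Int.ofNat 0, Int.ofNat 0, Int.ofNat 0, Int.ofNat 2, Int.ofNat 0],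
  [Int.ofNat 1, Int.ofNat 1, Int.negSucc 0, Int.negSucc 0, Int.negSucc 0, Int.ofNat 1, Int.ofNat 1, Int.negSucc 0, Int.negSucc 0, Int.negSucc 0, Int.ofNat 1, Int.ofNat 1, Int.ofNat 1, Int.negSucc 2, Int.ofNat 1, Int.negSucc 0, Int.negSucc 0, Int.ofNat 1, Int.ofNat 1, Int.negSucc 0, Int.negSucc 0, Int.negSucc 0, Int.negSucc 0, Int.ofNat 1],
  [Int.ofNat 1, Int.ofNat 1, Int.negSucc 0, Int.negSucc 0, Int.ofNat 1, Int.negSucc 0, Int.negSucc 0, Int.ofNat 1, Int.ofNat 1, Int.negSucc 2, Int.negSucc 0, Int.ofNat 1, Int.negSucc 0, Int.negSucc 0, Int.negSucc 0, Int.negSucc 0, Int.negSucc 0, Int.ofNat 1, Int.ofNat 1, Int.ofNat 1, Int.negSucc 0, Int.ofNat 1, Int.negSucc 0, Int.ofNat 1],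
  [Int.ofNat 0, Int.ofNat 0, Int.ofNat 2, Int.ofNat 0, Int.ofNat 2, Int.ofNat 0, Int.negSucc 1, Int.ofNat 0, Int.ofNat 0, Int.ofNat 0, Int.ofNat 2, Int.ofNat 0, Int.negSucc 1, Int.ofNat 0, Int.ofNat 0, Int.ofNat 2, Int.ofNat 0, Int.ofNat 2, Int.ofNat 0, Int.ofNat 0, Int.ofNat 2, Int.ofNat 0, Int.ofNat 0, Int.ofNat 0],
  [Int.ofNat 0, Int.ofNat 0, Int.negSucc 1, Int.ofNat 0, Int.ofNat 2, Int.ofNat 0, Int.ofNat 2, Int.ofNat 0, Int.ofNat 0, Int.ofNat 0, Int.negSucc 1, Int.ofNat 0, Int.negSucc 1, Int.ofNat 0, Int.ofNat 0, Int.negSucc 1, Int.ofNat 0, Int.ofNat 2, Int.ofNat 0, Int.ofNat 0, Int.ofNat 2, Int.ofNat 0, Int.ofNat 0, Int.ofNat 0],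
  [Int.negSucc 1, Int.ofNat 0, Int.ofNat 0, Int.ofNat 0, Int.ofNat 0, Int.ofNat 2, Int.ofNat 0, Int.ofNat 0, Int.ofNat 0, Int.ofNat 2, Int.ofNat 0, Int.ofNat 0, Int.negSucc 1, Int.ofNat 2, Int.ofNat 2, Int.ofNat 0, Int.ofNat 0, Int.negSucc 1, Int.ofNat 0, Int.negSucc 1, Int.ofNat 0, Int.ofNat 0, Int.ofNat 0, Int.ofNat 0],
  [Int.ofNat 0, Int.ofNat 0, Int.ofNat 0, Int.ofNat 0, Int.negSucc 1, Int.ofNat 2, Int.negSucc 1, Int.ofNat 2, Int.ofNat 0, Int.ofNat 2, Int.ofNat 0, Int.ofNat 0, Int.ofNat 0, Int.ofNat 0, Int.ofNat 0, Int.ofNat 0, Int.ofNat 0, Int.ofNat 0, Int.ofNat 2, Int.ofNat 0, Int.ofNat 0, Int.negSucc 1, Int.ofNat 0, Int.negSucc 1],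
  [Int.ofNat 0, Int.ofNat 0, Int.ofNat 0, Int.ofNat 0, Int.negSucc 1, Int.ofNat 2, Int.negSucc 1, Int.negSucc 1, Int.ofNat 0, Int.negSucc 1, Int.ofNat 0, Int.ofNat 0, Int.ofNat 0, Int.ofNat 0, Int.ofNat 0, Int.ofNat 0, Int.ofNat 0, Int.ofNat 0, Int.negSucc 1, Int.ofNat 0, Int.ofNat 0, Int.ofNat 2, Int.ofNat 0, Int.negSucc 1],
  [Int.ofNat 0, Int.ofNat 0, Int.ofNat 0, Int.ofNat 0, Int.ofNat 0, Int.negSucc 1, Int.ofNat 2, Int.negSucc 1, Int.negSucc 1, Int.ofNat 0, Int.negSucc 1, Int.ofNat 0, Int.ofNat 0, Int.ofNat 0, Int.ofNat 0, Int.ofNat 0, Int.ofNat 0, Int.ofNat 0, Int.ofNat 0, Int.negSucc 1, Int.ofNat 0, Int.ofNat 0, Int.ofNat 2, Int.negSucc 1],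
  [Int.negSucc 0, Int.negSucc 0, Int.negSucc 0, Int.ofNat 1, Int.negSucc 0, Int.negSucc 0, Int.ofNat 3, Int.negSucc 0, Int.negSucc 0, Int.ofNat 1, Int.negSucc 0, Int.ofNat 1, Int.ofNat 1, Int.negSucc 0, Int.ofNat 1, Int.ofNat 1, Int.negSucc 0, Int.ofNat 1, Int.ofNat 1, Int.negSucc 0, Int.ofNat 1, Int.ofNat 1, Int.ofNat 1, Int.ofNat 1],
  [Int.ofNat 1, Int.negSucc 0, Int.negSucc 0, Int.ofNat 3, Int.negSucc 0, Int.negSucc 0, Int.ofNat 1, Int.negSucc 0, Int.ofNat 1, Int.ofNat 1, Int.negSucc 0, Int.ofNat 1, Int.ofNat 1, Int.negSucc 0, Int.ofNat 1, Int.ofNat 1, Int.negSucc 0, Int.ofNat 1, Int.ofNat 1, Int.ofNat 1, Int.negSucc 0, Int.negSucc 0, Int.negSucc 0, Int.ofNat 1],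
  [Int.negSucc 0, Int.ofNat 1, Int.ofNat 1, Int.ofNat 1, Int.ofNat 1, Int.negSucc 2, Int.ofNat 1, Int.negSucc 0, Int.negSucc 0, Int.ofNat 1, Int.negSucc 0, Int.negSucc 0, Int.negSucc 0, Int.ofNat 1, Int.negSucc 0, Int.ofNat 1, Int.ofNat 1, Int.negSucc 0, Int.negSucc 0, Int.ofNat 1, Int.negSucc 0, Int.negSucc 0, Int.ofNat 1, Int.negSucc 0],
  [Int.negSucc 0, Int.ofNat 1, Int.ofNat 1, Int.ofNat 1, Int.negSucc 0, Int.negSucc 0, Int.ofNat 1, Int.negSucc 0, Int.negSucc 0, Int.ofNat 1, Int.negSucc 0, Int.negSucc 0, Int.ofNat 1, Int.ofNat 1, Int.ofNat 1, Int.ofNat 1, Int.negSucc 0, Int.negSucc 0, Int.ofNat 1, Int.negSucc 0, Int.negSucc 0, Int.negSucc 2, Int.ofNat 1, Int.negSucc 0],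
  [Int.ofNat 1, Int.negSucc 0, Int.negSucc 0, Int.ofNat 1, Int.negSucc 0, Int.negSucc 0, Int.ofNat 3, Int.ofNat 1, Int.negSucc 0, Int.ofNat 1, Int.negSucc 0, Int.negSucc 0, Int.ofNat 1, Int.ofNat 1, Int.ofNat 1, Int.ofNat 1, Int.negSucc 0, Int.negSucc 0, Int.ofNat 1, Int.ofNat 1, Int.negSucc 0, Int.negSucc 0, Int.ofNat 1, Int.ofNat 1],
  [Int.ofNat 1, Int.negSucc 0, Int.ofNat 1, Int.ofNat 1, Int.negSucc 0, Int.ofNat 1, Int.negSucc 2, Int.ofNat 1, Int.negSucc 0, Int.negSucc 0, Int.ofNat 1, Int.negSucc 0, Int.ofNat 1, Int.ofNat 1, Int.ofNat 1, Int.negSucc 0, Int.negSucc 0, Int.negSucc 0, Int.negSucc 0, Int.ofNat 1, Int.negSucc 0, Int.negSucc 0, Int.negSucc 0, Int.ofNat 1],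
  [Int.ofNat 1, Int.ofNat 1, Int.negSucc 0, Int.ofNat 1, Int.ofNat 1, Int.negSucc 0, Int.negSucc 0, Int.negSucc 0, Int.negSucc 0, Int.negSucc 2, Int.ofNat 1, Int.negSucc 0, Int.ofNat 1, Int.ofNat 1, Int.negSucc 0, Int.negSucc 0, Int.ofNat 1, Int.negSucc 0, Int.negSucc 0, Int.negSucc 0, Int.ofNat 1, Int.ofNat 1, Int.negSucc 0, Int.ofNat 1],
  [Int.ofNat 1, Int.ofNat 1, Int.ofNat 1, Int.ofNat 1, Int.ofNat 1, Int.ofNat 1, Int.ofNat 1, Int.negSucc 0, Int.negSucc 0, Int.ofNat 3, Int.negSucc 0, Int.negSucc 0, Int.ofNat 1, Int.ofNat 1, Int.negSucc 0, Int.ofNat 1, Int.ofNat 1, Int.negSucc 0, Int.ofNat 1, Int.negSucc 0, Int.ofNat 1, Int.ofNat 1, Int.ofNat 1, Int.ofNat 1],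
  [Int.ofNat 1, Int.ofNat 1, Int.ofNat 1, Int.ofNat 1, Int.negSucc 0, Int.ofNat 1, Int.ofNat 1, Int.negSucc 0, Int.negSucc 0, Int.ofNat 1, Int.negSucc 2, Int.negSucc 0, Int.ofNat 1, Int.negSucc 0, Int.negSucc 0, Int.negSucc 0, Int.negSucc 0, Int.negSucc 0, Int.ofNat 1, Int.negSucc 0, Int.negSucc 0, Int.ofNat 1, Int.negSucc 0, Int.ofNat 1],
  [Int.ofNat 1, Int.ofNat 1, Int.ofNat 1, Int.ofNat 1, Int.ofNat 1, Int.ofNat 1, Int.ofNat 1, Int.ofNat 1, Int.negSucc 0, Int.ofNat 1, Int.negSucc 0, Int.negSucc 0, Int.negSucc 0, Int.ofNat 1, Int.negSucc 0, Int.negSucc 0, Int.negSucc 0, Int.negSucc 0, Int.negSucc 0, Int.negSucc 0, Int.negSucc 2, Int.negSucc 0, Int.negSucc 0, Int.ofNat 1],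
  [Int.ofNat 1, Int.ofNat 1, Int.ofNat 1, Int.ofNat 1, Int.ofNat 1, Int.ofNat 1, Int.ofNat 1, Int.ofNat 1, Int.ofNat 1, Int.ofNat 3, Int.ofNat 1, Int.ofNat 1, Int.ofNat 1, Int.ofNat 1, Int.negSucc 0, Int.ofNat 1, Int.negSucc 0, Int.negSucc 0, Int.ofNat 1, Int.negSucc 0, Int.negSucc 0, Int.negSucc 0, Int.negSucc 0, Int.ofNat 1],
  [Int.negSucc 0, Int.negSucc 0, Int.negSucc 0, Int.ofNat 1, Int.ofNat 1, Int.ofNat 1, Int.ofNat 1, Int.ofNat 1, Int.ofNat 1, Int.ofNat 1, Int.ofNat 1, Int.ofNat 1, Int.ofNat 3, Int.ofNat 1, Int.ofNat 1, Int.ofNat 1, Int.ofNat 1, Int.negSucc 0, Int.ofNat 1, Int.negSucc 0, Int.negSucc 0, Int.ofNat 1, Int.negSucc 0, Int.ofNat 1],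
  [Int.ofNat 0, Int.ofNat 0, Int.ofNat 0, Int.ofNat 0, Int.ofNat 0, Int.ofNat 0, Int.ofNat 0, Int.ofNat 0, Int.negSucc 1, Int.ofNat 0, Int.ofNat 0, Int.negSucc 1, Int.ofNat 0, Int.ofNat 0, Int.ofNat 0, Int.ofNat 0, Int.ofNat 0, Int.negSucc 1, Int.negSucc 1, Int.negSucc 1, Int.negSucc 1, Int.ofNat 0, Int.negSucc 1, Int.negSucc 1],
  [Int.ofNat 0, Int.ofNat 0, Int.ofNat 0, Int.ofNat 0, Int.ofNat 0, Int.ofNat 0, Int.ofNat 0, Int.negSucc 1, Int.ofNat 0, Int.ofNat 0, Int.negSucc 1, Int.ofNat 0, Int.ofNat 0, Int.ofNat 0, Int.ofNat 0, Int.ofNat 0, Int.negSucc 1, Int.negSucc 1, Int.negSucc 1, Int.negSucc 1, Int.ofNat 0, Int.negSucc 1, Int.ofNat 0, Int.negSucc 1],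
  [Int.ofNat 0, Int.ofNat 0, Int.ofNat 0, Int.ofNat 0, Int.ofNat 0, Int.ofNat 0, Int.ofNat 0, Int.ofNat 2, Int.ofNat 0, Int.ofNat 0, Int.ofNat 2, Int.ofNat 0, Int.ofNat 0, Int.ofNat 0, Int.ofNat 0, Int.ofNat 0, Int.negSucc 1, Int.negSucc 1, Int.ofNat 2, Int.negSucc 1, Int.ofNat 0, Int.ofNat 2, Int.ofNat 0, Int.negSucc 1],
  [Int.ofNat 0, Int.ofNat 0, Int.ofNat 0, Int.ofNat 0, Int.ofNat 0, Int.ofNat 0, Int.ofNat 0, Int.ofNat 2, Int.ofNat 0, Int.ofNat 0, Int.ofNat 2, Int.ofNat 0, Int.ofNat 0, Int.ofNat 0, Int.ofNat 0, Int.ofNat 0, Int.ofNat 2, Int.negSucc 1, Int.negSucc 1, Int.negSucc 1, Int.ofNat 0, Int.ofNat 2, Int.ofNat 0, Int.negSucc 1],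
  [Int.ofNat 0, Int.ofNat 0, Int.negSucc 1, Int.ofNat 0, Int.ofNat 0, Int.ofNat 2, Int.ofNat 0, Int.ofNat 0, Int.ofNat 0, Int.ofNat 2, Int.ofNat 2, Int.ofNat 0, Int.ofNat 0, Int.ofNat 0, Int.negSucc 1, Int.ofNat 0, Int.ofNat 0, Int.ofNat 0, Int.ofNat 0, Int.negSucc 1, Int.ofNat 0, Int.ofNat 2, Int.ofNat 0, Int.negSucc 1],
  [Int.ofNat 0, Int.ofNat 0, Int.ofNat 2, Int.ofNat 0, Int.ofNat 0, Int.ofNat 2, Int.ofNat 0, Int.ofNat 0, Int.ofNat 0, Int.negSucc 1, Int.negSucc 1, Int.ofNat 0, Int.ofNat 0, Int.ofNat 0, Int.negSucc 1, Int.ofNat 0, Int.ofNat 0, Int.ofNat 0, Int.ofNat 0, Int.negSucc 1, Int.ofNat 0, Int.negSucc 1, Int.ofNat 0, Int.negSucc 1],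
  [Int.ofNat 0, Int.ofNat 0, Int.ofNat 0, Int.ofNat 2, Int.ofNat 0, Int.ofNat 0, Int.ofNat 2, Int.ofNat 0, Int.ofNat 0, Int.ofNat 0, Int.negSucc 1, Int.negSucc 1, Int.ofNat 0, Int.ofNat 0, Int.ofNat 0, Int.negSucc 1, Int.ofNat 0, Int.ofNat 0, Int.ofNat 0, Int.ofNat 0, Int.negSucc 1, Int.ofNat 0, Int.negSucc 1, Int.negSucc 1],
  [Int.negSucc 0, Int.negSucc 0, Int.negSucc 0, Int.ofNat 1, Int.ofNat 1, Int.negSucc 0, Int.ofNat 1, Int.negSucc 0, Int.ofNat 1, Int.ofNat 3, Int.ofNat 1, Int.negSucc 0, Int.ofNat 1, Int.ofNat 1, Int.negSucc 0, Int.ofNat 1, Int.ofNat 1, Int.negSucc 0, Int.ofNat 1, Int.negSucc 0, Int.ofNat 1, Int.negSucc 0, Int.negSucc 0, Int.ofNat 1],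
  [Int.ofNat 1, Int.ofNat 1, Int.negSucc 0, Int.ofNat 1, Int.negSucc 0, Int.ofNat 1, Int.ofNat 3, Int.ofNat 1, Int.negSucc 0, Int.ofNat 1, Int.ofNat 1, Int.negSucc 0, Int.ofNat 1, Int.ofNat 1, Int.negSucc 0, Int.ofNat 1, Int.negSucc 0, Int.ofNat 1, Int.negSucc 0, Int.negSucc 0, Int.negSucc 0, Int.negSucc 0, Int.negSucc 0, Int.ofNat 1],
  [Int.ofNat 0, Int.ofNat 0, Int.ofNat 2, Int.ofNat 0, Int.ofNat 0, Int.ofNat 0, Int.ofNat 2, Int.ofNat 0, Int.ofNat 0, Int.ofNat 0, Int.ofNat 0, Int.ofNat 0, Int.ofNat 2, Int.ofNat 2, Int.negSucc 1, Int.ofNat 0, Int.ofNat 0, Int.ofNat 0, Int.ofNat 0, Int.negSucc 1, Int.negSucc 1, Int.negSucc 1, Int.ofNat 0, Int.ofNat 0],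
  [Int.ofNat 0, Int.ofNat 2, Int.ofNat 0, Int.ofNat 0, Int.ofNat 0, Int.ofNat 0, Int.ofNat 2, Int.ofNat 0, Int.ofNat 2, Int.ofNat 2, Int.negSucc 1, Int.ofNat 0, Int.ofNat 0, Int.ofNat 0, Int.ofNat 0, Int.ofNat 0, Int.ofNat 0, Int.negSucc 1, Int.ofNat 0, Int.ofNat 0, Int.negSucc 1, Int.ofNat 0, Int.negSucc 1, Int.ofNat 0],
  [Int.ofNat 1, Int.negSucc 0, Int.ofNat 1, Int.ofNat 1, Int.ofNat 1, Int.ofNat 1, Int.ofNat 1, Int.negSucc 0, Int.ofNat 1, Int.ofNat 3, Int.negSucc 0, Int.negSucc 0, Int.negSucc 0, Int.ofNat 1, Int.ofNat 1, Int.ofNat 1, Int.ofNat 1, Int.negSucc 0, Int.negSucc 0, Int.negSucc 0, Int.negSucc 0, Int.negSucc 0, Int.negSucc 0, Int.ofNat 1],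
  [Int.ofNat 1, Int.negSucc 0, Int.negSucc 0, Int.ofNat 1, Int.ofNat 1, Int.negSucc 0, Int.negSucc 0, Int.negSucc 0, Int.ofNat 1, Int.negSucc 2, Int.ofNat 1, Int.negSucc 0, Int.negSucc 0, Int.ofNat 1, Int.ofNat 1, Int.negSucc 0, Int.ofNat 1, Int.negSucc 0, Int.ofNat 1, Int.negSucc 0, Int.negSucc 0, Int.negSucc 0, Int.ofNat 1, Int.ofNat 1],
  [Int.ofNat 1, Int.ofNat 1, Int.negSucc 0, Int.ofNat 1, Int.ofNat 1, Int.negSucc 0, Int.negSucc 0, Int.ofNat 1, Int.negSucc 0, Int.negSucc 0, Int.ofNat 1, Int.negSucc 0, Int.negSucc 0, Int.ofNat 1, Int.negSucc 0, Int.ofNat 1, Int.negSucc 0, Int.negSucc 0, Int.negSucc 2, Int.negSucc 0, Int.ofNat 1, Int.negSucc 0, Int.ofNat 1, Int.ofNat 1],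
  [Int.ofNat 1, Int.ofNat 1, Int.negSucc 0, Int.ofNat 1, Int.negSucc 0, Int.negSucc 0, Int.negSucc 0, Int.ofNat 1, Int.ofNat 1, Int.negSucc 0, Int.negSucc 0, Int.negSucc 0, Int.negSucc 0, Int.ofNat 1, Int.negSucc 2, Int.ofNat 1, Int.ofNat 1, Int.ofNat 1, Int.negSucc 0, Int.negSucc 0, Int.negSucc 0, Int.negSucc 0, Int.ofNat 1, Int.ofNat 1],
  [Int.negSucc 0, Int.ofNat 1, Int.ofNat 1, Int.ofNat 1, Int.negSucc 0, Int.negSucc 0, Int.negSucc 0, Int.negSucc 0, Int.ofNat 1, Int.ofNat 1, Int.ofNat 1, Int.ofNat 1, Int.negSucc 0, Int.ofNat 1, Int.negSucc 2, Int.ofNat 1, Int.ofNat 1, Int.ofNat 1, Int.ofNat 1, Int.negSucc 0, Int.negSucc 0, Int.ofNat 1, Int.ofNat 1, Int.ofNat 1],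
  [Int.ofNat 1, Int.negSucc 0, Int.ofNat 1, Int.ofNat 1, Int.ofNat 1, Int.negSucc 0, Int.negSucc 0, Int.negSucc 0, Int.negSucc 0, Int.ofNat 1, Int.ofNat 1, Int.ofNat 1, Int.ofNat 1, Int.negSucc 0, Int.ofNat 1, Int.negSucc 2, Int.ofNat 1, Int.ofNat 1, Int.ofNat 1, Int.ofNat 1, Int.negSucc 0, Int.negSucc 0, Int.ofNat 1, Int.ofNat 1],
  [Int.ofNat 0, Int.ofNat 2, Int.ofNat 0, Int.ofNat 0, Int.ofNat 0, Int.negSucc 1, Int.ofNat 0, Int.ofNat 0, Int.negSucc 1, Int.ofNat 2, Int.ofNat 2, Int.ofNat 0, Int.ofNat 0, Int.negSucc 1, Int.ofNat 0, Int.negSucc 1, Int.ofNat 0, Int.ofNat 0, Int.ofNat 0, Int.ofNat 2, Int.ofNat 0, Int.ofNat 0, Int.ofNat 0, Int.ofNat 0],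
  [Int.ofNat 0, Int.ofNat 0, Int.negSucc 1, Int.ofNat 0, Int.ofNat 0, Int.negSucc 1, Int.ofNat 2, Int.ofNat 2, Int.ofNat 0, Int.ofNat 0, Int.negSucc 1, Int.ofNat 0, Int.negSucc 1, Int.ofNat 0, Int.ofNat 0, Int.ofNat 0, Int.ofNat 2, Int.ofNat 0, Int.ofNat 0, Int.ofNat 0, Int.ofNat 0, Int.ofNat 2, Int.ofNat 0, Int.ofNat 0],
  [Int.negSucc 0, Int.negSucc 0, Int.ofNat 1, Int.ofNat 1, Int.negSucc 0, Int.negSucc 0, Int.negSucc 0, Int.negSucc 0, Int.ofNat 1, Int.ofNat 1, Int.negSucc 0, Int.ofNat 1, Int.negSucc 0, Int.negSucc 0, Int.ofNat 1, Int.ofNat 1, Int.ofNat 1, Int.ofNat 1, Int.ofNat 1, Int.negSucc 2, Int.ofNat 1, Int.negSucc 0, Int.negSucc 0, Int.negSucc 0],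
  [Int.negSucc 0, Int.negSucc 0, Int.negSucc 0, Int.ofNat 1, Int.ofNat 1, Int.negSucc 0, Int.ofNat 1, Int.negSucc 0, Int.negSucc 0, Int.negSucc 0, Int.ofNat 1, Int.ofNat 1, Int.ofNat 1, Int.ofNat 1, Int.negSucc 0, Int.ofNat 1, Int.ofNat 1, Int.ofNat 1, Int.negSucc 0, Int.ofNat 1, Int.negSucc 0, Int.negSucc 0, Int.negSucc 2, Int.negSucc 0],
  [Int.negSucc 0, Int.negSucc 0, Int.negSucc 0, Int.ofNat 1, Int.ofNat 1, Int.negSucc 0, Int.ofNat 1, Int.negSucc 0, Int.negSucc 0, Int.negSucc 0, Int.ofNat 1, Int.ofNat 1, Int.ofNat 1, Int.ofNat 1, Int.negSucc 0, Int.ofNat 1, Int.ofNat 1, Int.ofNat 1, Int.negSucc 0, Int.ofNat 1, Int.negSucc 0, Int.negSucc 0, Int.negSucc 2, Int.negSucc 0],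
  [Int.negSucc 0, Int.negSucc 0, Int.ofNat 1, Int.ofNat 1, Int.ofNat 1, Int.ofNat 1, Int.negSucc 0, Int.negSucc 0, Int.negSucc 0, Int.ofNat 1, Int.negSucc 0, Int.ofNat 1, Int.ofNat 1, Int.ofNat 1, Int.negSucc 0, Int.negSucc 0, Int.ofNat 1, Int.ofNat 1, Int.ofNat 1, Int.ofNat 1, Int.negSucc 0, Int.negSucc 0, Int.ofNat 3, Int.negSucc 0],
  [Int.ofNat 1, Int.ofNat 1, Int.negSucc 0, Int.ofNat 1, Int.negSucc 0, Int.ofNat 1, Int.ofNat 1, Int.negSucc 0, Int.ofNat 1, Int.negSucc 0, Int.ofNat 1, Int.negSucc 0, Int.negSucc 0, Int.negSucc 0, Int.ofNat 1, Int.ofNat 3, Int.negSucc 0, Int.ofNat 1, Int.ofNat 1, Int.negSucc 0, Int.ofNat 1, Int.ofNat 1, Int.negSucc 0, Int.negSucc 0],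
  [Int.ofNat 1, Int.ofNat 1, Int.ofNat 1, Int.ofNat 1, Int.negSucc 0, Int.negSucc 0, Int.negSucc 0, Int.negSucc 0, Int.ofNat 1, Int.ofNat 1, Int.negSucc 0, Int.negSucc 0, Int.negSucc 0, Int.negSucc 0, Int.ofNat 1, Int.negSucc 2, Int.negSucc 0, Int.ofNat 1, Int.negSucc 0, Int.negSucc 0, Int.ofNat 1, Int.ofNat 1, Int.ofNat 1, Int.negSucc 0],
  [Int.ofNat 0, Int.ofNat 0, Int.ofNat 0, Int.ofNat 0, Int.ofNat 0, Int.negSucc 1, Int.ofNat 0, Int.ofNat 0, Int.ofNat 2, Int.ofNat 2, Int.ofNat 0, Int.ofNat 0, Int.ofNat 0, Int.ofNat 0, Int.ofNat 0, Int.negSucc 1, Int.ofNat 0, Int.ofNat 0, Int.ofNat 0, Int.ofNat 0, Int.ofNat 2, Int.ofNat 2, Int.ofNat 2, Int.ofNat 2],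
  [Int.ofNat 0, Int.ofNat 0, Int.ofNat 0, Int.ofNat 0, Int.ofNat 0, Int.ofNat 2, Int.ofNat 0, Int.negSucc 1, Int.ofNat 0, Int.ofNat 0, Int.ofNat 0, Int.ofNat 0, Int.ofNat 2, Int.ofNat 2, Int.ofNat 0, Int.negSucc 1, Int.ofNat 0, Int.ofNat 0, Int.ofNat 0, Int.ofNat 2, Int.ofNat 0, Int.ofNat 2, Int.ofNat 0, Int.ofNat 2],
  [Int.ofNat 1, Int.ofNat 1, Int.ofNat 1, Int.negSucc 0, Int.negSucc 0, Int.ofNat 1, Int.negSucc 0, Int.negSucc 2, Int.negSucc 0, Int.ofNat 1, Int.ofNat 1, Int.negSucc 0, Int.ofNat 1, Int.ofNat 1, Int.negSucc 0, Int.negSucc 0, Int.negSucc 0, Int.negSucc 0, Int.negSucc 0, Int.ofNat 1, Int.ofNat 1, Int.ofNat 1, Int.negSucc 0, Int.negSucc 0],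
  [Int.ofNat 1, Int.ofNat 1, Int.negSucc 0, Int.ofNat 1, Int.ofNat 1, Int.ofNat 1, Int.negSucc 0, Int.negSucc 0, Int.ofNat 1, Int.negSucc 0, Int.negSucc 2, Int.negSucc 0, Int.ofNat 1, Int.ofNat 1, Int.negSucc 0, Int.ofNat 1, Int.ofNat 1, Int.negSucc 0, Int.negSucc 0, Int.negSucc 0, Int.negSucc 0, Int.negSucc 0, Int.ofNat 1, Int.negSucc 0],
  [Int.negSucc 0, Int.negSucc 0, Int.ofNat 1, Int.ofNat 1, Int.negSucc 0, Int.ofNat 1, Int.ofNat 1, Int.ofNat 1, Int.ofNat 1, Int.ofNat 1, Int.negSucc 0, Int.negSucc 0, Int.ofNat 1, Int.negSucc 0, Int.negSucc 0, Int.ofNat 3, Int.negSucc 0, Int.negSucc 0, Int.negSucc 0, Int.ofNat 1, Int.ofNat 1, Int.ofNat 1, Int.negSucc 0, Int.ofNat 1],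
  [Int.negSucc 0, Int.ofNat 1, Int.ofNat 1, Int.negSucc 0, Int.ofNat 1, Int.ofNat 1, Int.ofNat 1, Int.ofNat 1, Int.ofNat 1, Int.negSucc 0, Int.negSucc 0, Int.ofNat 1, Int.negSucc 0, Int.negSucc 0, Int.ofNat 3, Int.negSucc 0, Int.negSucc 0, Int.negSucc 0, Int.ofNat 1, Int.ofNat 1, Int.ofNat 1, Int.negSucc 0, Int.negSucc 0, Int.ofNat 1],
  [Int.ofNat 1, Int.ofNat 1, Int.negSucc 0, Int.negSucc 0, Int.ofNat 1, Int.ofNat 1, Int.ofNat 1, Int.negSucc 0, Int.ofNat 1, Int.ofNat 1, Int.ofNat 1, Int.negSucc 0, Int.negSucc 0, Int.negSucc 0, Int.ofNat 3, Int.negSucc 0, Int.negSucc 0, Int.negSucc 0, Int.negSucc 0, Int.ofNat 1, Int.ofNat 1, Int.ofNat 1, Int.negSucc 0, Int.ofNat 1],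
  [Int.negSucc 0, Int.negSucc 0, Int.ofNat 1, Int.ofNat 1, Int.negSucc 0, Int.ofNat 1, Int.negSucc 0, Int.negSucc 0, Int.negSucc 0, Int.negSucc 0, Int.ofNat 1, Int.negSucc 0, Int.ofNat 1, Int.ofNat 1, Int.ofNat 3, Int.negSucc 0, Int.ofNat 1, Int.negSucc 0, Int.ofNat 1, Int.ofNat 1, Int.ofNat 1, Int.ofNat 1, Int.negSucc 0, Int.ofNat 1],
  [Int.negSucc 0, Int.ofNat 1, Int.ofNat 1, Int.ofNat 1, Int.negSucc 0, Int.ofNat 1, Int.negSucc 0, Int.ofNat 1, Int.negSucc 0, Int.ofNat 1, Int.ofNat 1, Int.ofNat 3, Int.ofNat 1, Int.negSucc 0, Int.ofNat 1, Int.negSucc 0, Int.ofNat 1, Int.negSucc 0, Int.negSucc 0, Int.negSucc 0, Int.ofNat 1, Int.negSucc 0, Int.negSucc 0, Int.ofNat 1],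
  [Int.ofNat 1, Int.ofNat 1, Int.negSucc 0, Int.ofNat 1, Int.negSucc 0, Int.ofNat 1, Int.negSucc 0, Int.negSucc 0, Int.negSucc 0, Int.negSucc 0, Int.negSucc 0, Int.negSucc 2, Int.ofNat 1, Int.negSucc 0, Int.ofNat 1, Int.negSucc 0, Int.ofNat 1, Int.negSucc 0, Int.ofNat 1, Int.negSucc 0, Int.ofNat 1, Int.ofNat 1, Int.negSucc 0, Int.ofNat 1],
  [Int.negSucc 0, Int.ofNat 1, Int.ofNat 1, Int.negSucc 0, Int.ofNat 1, Int.negSucc 0, Int.ofNat 1, Int.negSucc 0, Int.negSucc 0, Int.negSucc 0, Int.negSucc 0, Int.negSucc 0, Int.negSucc 2, Int.ofNat 1, Int.negSucc 0, Int.ofNat 1, Int.negSucc 0, Int.ofNat 1, Int.negSucc 0, Int.ofNat 1, Int.negSucc 0, Int.ofNat 1, Int.ofNat 1, Int.ofNat 1],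
  [Int.ofNat 2, Int.ofNat 0, Int.ofNat 0, Int.ofNat 0, Int.ofNat 0, Int.ofNat 0, Int.ofNat 0, Int.negSucc 1, Int.ofNat 2, Int.ofNat 0, Int.ofNat 0, Int.ofNat 2, Int.ofNat 0, Int.ofNat 0, Int.ofNat 0, Int.ofNat 2, Int.negSucc 1, Int.ofNat 2, Int.ofNat 2, Int.ofNat 0, Int.ofNat 0, Int.ofNat 0, Int.ofNat 0, Int.ofNat 0],
  [Int.ofNat 0, Int.ofNat 0, Int.ofNat 0, Int.ofNat 0, Int.negSucc 1, Int.ofNat 2, Int.ofNat 0, Int.ofNat 0, Int.ofNat 2, Int.ofNat 0, Int.ofNat 0, Int.ofNat 0, Int.ofNat 2, Int.negSucc 1, Int.ofNat 2, Int.ofNat 2, Int.ofNat 0, Int.ofNat 0, Int.ofNat 0, Int.ofNat 0, Int.ofNat 2, Int.ofNat 0, Int.ofNat 0, Int.ofNat 0],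
  [Int.ofNat 0, Int.ofNat 0, Int.ofNat 0, Int.negSucc 1, Int.ofNat 0, Int.ofNat 0, Int.ofNat 0, Int.ofNat 0, Int.ofNat 0, Int.negSucc 1, Int.negSucc 1, Int.negSucc 1, Int.ofNat 0, Int.ofNat 0, Int.ofNat 0, Int.ofNat 0, Int.ofNat 2, Int.negSucc 1, Int.negSucc 1, Int.ofNat 0, Int.ofNat 0, Int.ofNat 0, Int.ofNat 2, Int.ofNat 0],
  [Int.ofNat 0, Int.ofNat 0, Int.ofNat 0, Int.negSucc 1, Int.negSucc 1, Int.ofNat 0, Int.ofNat 0, Int.negSucc 1, Int.ofNat 0, Int.ofNat 0, Int.ofNat 0, Int.negSucc 1, Int.negSucc 1, Int.ofNat 2, Int.ofNat 2, Int.ofNat 0, Int.ofNat 0, Int.ofNat 0, Int.ofNat 0, Int.negSucc 1, Int.ofNat 0, Int.ofNat 0, Int.ofNat 0, Int.ofNat 0],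
  [Int.ofNat 0, Int.ofNat 0, Int.ofNat 0, Int.negSucc 1, Int.negSucc 1, Int.ofNat 0, Int.ofNat 2, Int.ofNat 0, Int.ofNat 2, Int.ofNat 0, Int.ofNat 0, Int.ofNat 0, Int.ofNat 0, Int.ofNat 2, Int.ofNat 2, Int.ofNat 0, Int.ofNat 0, Int.ofNat 0, Int.ofNat 2, Int.ofNat 0, Int.ofNat 0, Int.ofNat 2, Int.ofNat 0, Int.ofNat 0],
  [Int.ofNat 0, Int.ofNat 0, Int.ofNat 0, Int.negSucc 1, Int.negSucc 1, Int.ofNat 0, Int.negSucc 1, Int.ofNat 0, Int.ofNat 2, Int.ofNat 0, Int.ofNat 0, Int.ofNat 0, Int.ofNat 0, Int.ofNat 2, Int.ofNat 2, Int.ofNat 0, Int.ofNat 0, Int.ofNat 0, Int.negSucc 1, Int.ofNat 0, Int.ofNat 0, Int.ofNat 2, Int.ofNat 0, Int.ofNat 0],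
  [Int.ofNat 0, Int.ofNat 0, Int.ofNat 0, Int.ofNat 2, Int.ofNat 2, Int.negSucc 1, Int.ofNat 2, Int.negSucc 1, Int.ofNat 0, Int.ofNat 0, Int.ofNat 2, Int.ofNat 0, Int.ofNat 0, Int.negSucc 1, Int.ofNat 0, Int.negSucc 1, Int.ofNat 0, Int.ofNat 0, Int.ofNat 0, Int.ofNat 0, Int.ofNat 0, Int.ofNat 0, Int.ofNat 0, Int.ofNat 0],
  [Int.ofNat 0, Int.ofNat 0, Int.ofNat 0, Int.negSucc 1, Int.ofNat 0, Int.ofNat 0, Int.ofNat 0, Int.negSucc 1, Int.ofNat 0, Int.negSucc 1, Int.ofNat 0, Int.ofNat 0, Int.ofNat 0, Int.negSucc 1, Int.ofNat 0, Int.ofNat 2, Int.ofNat 2, Int.ofNat 2, Int.ofNat 0, Int.ofNat 2, Int.ofNat 0, Int.ofNat 0, Int.ofNat 0, Int.ofNat 0],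
  [Int.ofNat 0, Int.ofNat 0, Int.ofNat 0, Int.negSucc 1, Int.ofNat 0, Int.ofNat 0, Int.ofNat 0, Int.ofNat 2, Int.ofNat 0, Int.ofNat 2, Int.ofNat 0, Int.ofNat 0, Int.ofNat 0, Int.negSucc 1, Int.ofNat 0, Int.ofNat 2, Int.ofNat 2, Int.ofNat 2, Int.ofNat 0, Int.ofNat 2, Int.ofNat 0, Int.ofNat 0, Int.ofNat 0, Int.ofNat 0],
  [Int.ofNat 0, Int.ofNat 0, Int.ofNat 0, Int.ofNat 0, Int.negSucc 1, Int.ofNat 0, Int.ofNat 0, Int.ofNat 0, Int.ofNat 2, Int.ofNat 0, Int.ofNat 2, Int.ofNat 0, Int.ofNat 0, Int.ofNat 0, Int.negSucc 1, Int.ofNat 0, Int.ofNat 2, Int.ofNat 2, Int.ofNat 2, Int.ofNat 0, Int.ofNat 2, Int.ofNat 0, Int.ofNat 0, Int.ofNat 0],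
  [Int.ofNat 0, Int.ofNat 0, Int.ofNat 0, Int.ofNat 0, Int.negSucc 1, Int.ofNat 0, Int.ofNat 0, Int.ofNat 0, Int.ofNat 0, Int.negSucc 1, Int.ofNat 0, Int.negSucc 1, Int.negSucc 1, Int.ofNat 0, Int.negSucc 1, Int.negSucc 1, Int.ofNat 2, Int.ofNat 2, Int.ofNat 0, Int.ofNat 0, Int.ofNat 0, Int.ofNat 0, Int.ofNat 0, Int.ofNat 0],
  [Int.ofNat 0, Int.negSucc 1, Int.ofNat 0, Int.ofNat 0, Int.ofNat 0, Int.ofNat 0, Int.negSucc 1, Int.ofNat 0, Int.negSucc 1, Int.negSucc 1, Int.ofNat 0, Int.negSucc 1, Int.negSucc 1, Int.ofNat 2, Int.ofNat 2, Int.ofNat 0, Int.ofNat 0, Int.ofNat 0, Int.ofNat 0, Int.ofNat 0, Int.ofNat 0, Int.ofNat 0, Int.ofNat 0, Int.ofNat 0],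
  [Int.negSucc 0, Int.ofNat 1, Int.negSucc 0, Int.negSucc 0, Int.negSucc 0, Int.negSucc 0, Int.negSucc 0, Int.ofNat 1, Int.ofNat 1, Int.negSucc 0, Int.ofNat 1, Int.ofNat 1, Int.ofNat 1, Int.ofNat 1, Int.ofNat 1, Int.ofNat 1, Int.negSucc 0, Int.negSucc 0, Int.ofNat 3, Int.ofNat 1, Int.ofNat 1, Int.ofNat 1, Int.negSucc 0, Int.negSucc 0],
  [Int.negSucc 0, Int.negSucc 0, Int.negSucc 0, Int.negSucc 0, Int.ofNat 3, Int.ofNat 1, Int.negSucc 0, Int.ofNat 1, Int.ofNat 1, Int.ofNat 1, Int.ofNat 1, Int.negSucc 0, Int.negSucc 0, Int.negSucc 0, Int.negSucc 0, Int.ofNat 1, Int.ofNat 1, Int.ofNat 1, Int.ofNat 1, Int.ofNat 1, Int.ofNat 1, Int.negSucc 0, Int.ofNat 1, Int.negSucc 0],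
  [Int.negSucc 0, Int.negSucc 0, Int.negSucc 0, Int.negSucc 0, Int.ofNat 1, Int.ofNat 1, Int.negSucc 0, Int.ofNat 1, Int.ofNat 1, Int.negSucc 0, Int.negSucc 0, Int.negSucc 0, Int.negSucc 0, Int.negSucc 2, Int.negSucc 0, Int.negSucc 0, Int.negSucc 0, Int.ofNat 1, Int.ofNat 1, Int.ofNat 1, Int.negSucc 0, Int.negSucc 0, Int.negSucc 0, Int.negSucc 0],
  [Int.negSucc 0, Int.negSucc 0, Int.ofNat 1, Int.negSucc 0, Int.ofNat 1, Int.negSucc 0, Int.ofNat 1, Int.ofNat 1, Int.ofNat 1, Int.ofNat 1, Int.ofNat 1, Int.negSucc 0, Int.negSucc 0, Int.negSucc 2, Int.negSucc 0, Int.ofNat 1, Int.negSucc 0, Int.ofNat 1, Int.negSucc 0, Int.ofNat 1, Int.negSucc 0, Int.negSucc 0, Int.ofNat 1, Int.negSucc 0],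
  [Int.negSucc 0, Int.negSucc 0, Int.negSucc 0, Int.negSucc 0, Int.ofNat 1, Int.ofNat 1, Int.negSucc 0, Int.negSucc 0, Int.ofNat 1, Int.ofNat 1, Int.negSucc 2, Int.ofNat 1, Int.negSucc 0, Int.negSucc 0, Int.ofNat 1, Int.ofNat 1, Int.ofNat 1, Int.negSucc 0, Int.negSucc 0, Int.ofNat 1, Int.ofNat 1, Int.ofNat 1, Int.negSucc 0, Int.negSucc 0],
  [Int.negSucc 0, Int.negSucc 0, Int.ofNat 1, Int.negSucc 0, Int.ofNat 1, Int.negSucc 0, Int.ofNat 1, Int.negSucc 0, Int.ofNat 1, Int.negSucc 0, Int.ofNat 3, Int.ofNat 1, Int.negSucc 0, Int.negSucc 0, Int.ofNat 1, Int.negSucc 0, Int.ofNat 1, Int.negSucc 0, Int.ofNat 1, Int.ofNat 1, Int.ofNat 1, Int.ofNat 1, Int.ofNat 1, Int.negSucc 0],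
  [Int.ofNat 0, Int.ofNat 0, Int.negSucc 1, Int.ofNat 0, Int.ofNat 0, Int.ofNat 0, Int.ofNat 0, Int.negSucc 1, Int.ofNat 0, Int.negSucc 1, Int.ofNat 2, Int.ofNat 0, Int.negSucc 1, Int.negSucc 1, Int.ofNat 2, Int.negSucc 1, Int.ofNat 0, Int.ofNat 0, Int.ofNat 0, Int.ofNat 0, Int.ofNat 0, Int.ofNat 0, Int.ofNat 0, Int.ofNat 0],
  [Int.ofNat 0, Int.ofNat 0, Int.ofNat 0, Int.ofNat 0, Int.negSucc 1, Int.ofNat 0, Int.ofNat 0, Int.ofNat 0, Int.ofNat 0, Int.negSucc 1, Int.negSucc 1, Int.ofNat 0, Int.ofNat 0, Int.negSucc 1, Int.ofNat 0, Int.negSucc 1, Int.negSucc 1, Int.ofNat 0, Int.ofNat 0, Int.ofNat 0, Int.ofNat 2, Int.ofNat 0, Int.ofNat 2, Int.ofNat 0],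
  [Int.ofNat 0, Int.ofNat 0, Int.ofNat 0, Int.ofNat 0, Int.ofNat 0, Int.ofNat 0, Int.ofNat 0, Int.ofNat 0, Int.ofNat 0, Int.ofNat 0, Int.ofNat 0, Int.ofNat 0, Int.ofNat 0, Int.ofNat 0, Int.ofNat 0, Int.ofNat 0, Int.ofNat 0, Int.ofNat 0, Int.ofNat 0, Int.ofNat 0, Int.ofNat 4, Int.ofNat 0, Int.ofNat 4, Int.ofNat 0],
  [Int.ofNat 4, Int.ofNat 0, Int.ofNat 4, Int.ofNat 0, Int.ofNat 0, Int.ofNat 0, Int.ofNat 0, Int.ofNat 0, Int.ofNat 0, Int.ofNat 0, Int.ofNat 0, Int.ofNat 0, Int.ofNat 0, Int.ofNat 0, Int.ofNat 0, Int.ofNat 0, Int.ofNat 0, Int.ofNat 0, Int.ofNat 0, Int.ofNat 0, Int.ofNat 0, Int.ofNat 0, Int.ofNat 0, Int.ofNat 0],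
  [Int.ofNat 0, Int.ofNat 4, Int.ofNat 0, Int.ofNat 0, Int.ofNat 0, Int.ofNat 0, Int.ofNat 0, Int.ofNat 0, Int.ofNat 0, Int.ofNat 0, Int.ofNat 0, Int.ofNat 0, Int.ofNat 0, Int.ofNat 0, Int.ofNat 0, Int.ofNat 0, Int.ofNat 0, Int.ofNat 0, Int.ofNat 0, Int.ofNat 0, Int.ofNat 0, Int.ofNat 0, Int.ofNat 0, Int.ofNat 4],
  [Int.ofNat 4, Int.ofNat 0, Int.ofNat 0, Int.ofNat 0, Int.ofNat 0, Int.ofNat 0, Int.ofNat 0, Int.ofNat 0, Int.ofNat 0, Int.ofNat 0, Int.ofNat 0, Int.ofNat 0, Int.ofNat 0, Int.ofNat 0, Int.ofNat 0, Int.ofNat 0, Int.ofNat 0, Int.ofNat 0, Int.ofNat 0, Int.ofNat 0, Int.ofNat 0, Int.ofNat 0, Int.ofNat 0, Int.ofNat 4],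
  [Int.negSucc 3, Int.ofNat 0, Int.ofNat 0, Int.ofNat 0, Int.ofNat 0, Int.ofNat 0, Int.ofNat 0, Int.ofNat 0, Int.ofNat 0, Int.ofNat 0, Int.ofNat 0, Int.ofNat 0, Int.ofNat 0, Int.ofNat 0, Int.ofNat 0, Int.ofNat 0, Int.ofNat 0, Int.ofNat 0, Int.ofNat 0, Int.ofNat 0, Int.ofNat 0, Int.ofNat 0, Int.ofNat 0, Int.ofNat 4],
  [Int.ofNat 4, Int.ofNat 0, Int.ofNat 0, Int.ofNat 0, Int.ofNat 0, Int.ofNat 0, Int.ofNat 0, Int.ofNat 0, Int.ofNat 0, Int.ofNat 0, Int.ofNat 0, Int.ofNat 0, Int.ofNat 0, Int.ofNat 0, Int.ofNat 0, Int.ofNat 0, Int.ofNat 0, Int.ofNat 0, Int.ofNat 0, Int.ofNat 0, Int.ofNat 0, Int.ofNat 0, Int.ofNat 0, Int.ofNat 4],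
  [Int.ofNat 4, Int.ofNat 0, Int.ofNat 0, Int.ofNat 0, Int.ofNat 0, Int.ofNat 0, Int.ofNat 0, Int.ofNat 0, Int.ofNat 0, Int.ofNat 0, Int.ofNat 0, Int.ofNat 0, Int.ofNat 0, Int.ofNat 0, Int.ofNat 0, Int.ofNat 0, Int.ofNat 0, Int.ofNat 0, Int.ofNat 0, Int.ofNat 0, Int.ofNat 0, Int.ofNat 0, Int.ofNat 0, Int.ofNat 4],
  [Int.negSucc 3, Int.ofNat 0, Int.ofNat 0, Int.ofNat 0, Int.ofNat 0, Int.ofNat 0, Int.ofNat 0, Int.ofNat 0, Int.ofNat 0, Int.ofNat 0, Int.ofNat 0, Int.ofNat 0, Int.ofNat 0, Int.ofNat 0, Int.ofNat 0, Int.ofNat 0, Int.ofNat 0, Int.ofNat 0, Int.ofNat 0, Int.ofNat 0, Int.ofNat 0, Int.ofNat 0, Int.ofNat 0, Int.ofNat 4],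
  [Int.ofNat 0, Int.negSucc 3, Int.ofNat 0, Int.ofNat 0, Int.ofNat 0, Int.ofNat 0, Int.ofNat 0, Int.ofNat 0, Int.ofNat 0, Int.ofNat 0, Int.ofNat 0, Int.ofNat 0, Int.ofNat 0, Int.ofNat 0, Int.ofNat 0, Int.ofNat 0, Int.ofNat 0, Int.ofNat 0, Int.ofNat 0, Int.ofNat 0, Int.ofNat 0, Int.ofNat 0, Int.ofNat 0, Int.ofNat 4],
  [Int.ofNat 0, Int.ofNat 4, Int.ofNat 0, Int.ofNat 0, Int.ofNat 0, Int.ofNat 0, Int.ofNat 0, Int.ofNat 0, Int.ofNat 0, Int.ofNat 0, Int.ofNat 0, Int.ofNat 0, Int.ofNat 0, Int.ofNat 0, Int.ofNat 0, Int.ofNat 0, Int.ofNat 0, Int.ofNat 0, Int.ofNat 0, Int.ofNat 0, Int.ofNat 0, Int.ofNat 0, Int.ofNat 0, Int.negSucc 3],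
  [Int.ofNat 0, Int.ofNat 0, Int.ofNat 0, Int.ofNat 0, Int.ofNat 0, Int.ofNat 0, Int.ofNat 0, Int.ofNat 0, Int.ofNat 0, Int.ofNat 0, Int.ofNat 0, Int.ofNat 0, Int.ofNat 0, Int.ofNat 0, Int.ofNat 0, Int.ofNat 0, Int.ofNat 0, Int.ofNat 0, Int.ofNat 0, Int.ofNat 0, Int.ofNat 0, Int.ofNat 4, Int.ofNat 0, Int.negSucc 3],
  [Int.negSucc 1, Int.negSucc 1, Int.negSucc 1, Int.ofNat 0, Int.ofNat 0, Int.ofNat 0, Int.negSucc 1, Int.negSucc 1, Int.ofNat 0, Int.ofNat 0, Int.ofNat 0, Int.ofNat 0, Int.ofNat 0, Int.ofNat 0, Int.ofNat 0, Int.ofNat 0, Int.ofNat 0, Int.ofNat 0, Int.ofNat 0, Int.negSucc 1, Int.ofNat 0, Int.ofNat 2, Int.ofNat 0, Int.ofNat 2],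
  [Int.negSucc 1, Int.negSucc 1, Int.ofNat 0, Int.ofNat 0, Int.ofNat 0, Int.negSucc 1, Int.negSucc 1, Int.ofNat 0, Int.ofNat 0, Int.ofNat 0, Int.ofNat 0, Int.ofNat 0, Int.ofNat 0, Int.ofNat 0, Int.ofNat 0, Int.ofNat 0, Int.ofNat 0, Int.ofNat 0, Int.negSucc 1, Int.ofNat 0, Int.ofNat 2, Int.ofNat 0, Int.negSucc 1, Int.ofNat 2],
  [Int.ofNat 1, Int.ofNat 1, Int.negSucc 0, Int.ofNat 1, Int.ofNat 1, Int.negSucc 0, Int.negSucc 0, Int.ofNat 1, Int.ofNat 1, Int.negSucc 0, Int.negSucc 0, Int.ofNat 1, Int.ofNat 1, Int.ofNat 1, Int.ofNat 1, Int.negSucc 0, Int.ofNat 1, Int.ofNat 1, Int.negSucc 0, Int.ofNat 1, Int.ofNat 1, Int.ofNat 1, Int.negSucc 0, Int.negSucc 2],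
  [Int.ofNat 1, Int.ofNat 1, Int.ofNat 1, Int.ofNat 1, Int.ofNat 1, Int.ofNat 1, Int.ofNat 1, Int.ofNat 1, Int.ofNat 1, Int.ofNat 1, Int.ofNat 1, Int.ofNat 1, Int.ofNat 1, Int.ofNat 1, Int.ofNat 1, Int.ofNat 1, Int.ofNat 1, Int.ofNat 1, Int.ofNat 1, Int.ofNat 1, Int.ofNat 1, Int.ofNat 1, Int.ofNat 1, Int.negSucc 2],
  [Int.ofNat 1, Int.ofNat 1, Int.ofNat 1, Int.ofNat 1, Int.ofNat 1, Int.ofNat 1, Int.ofNat 1, Int.ofNat 1, Int.ofNat 1, Int.ofNat 1, Int.ofNat 1, Int.ofNat 1, Int.ofNat 1, Int.ofNat 1, Int.ofNat 1, Int.ofNat 1, Int.ofNat 1, Int.ofNat 1, Int.ofNat 1, Int.ofNat 1, Int.ofNat 1, Int.ofNat 1, Int.ofNat 1, Int.negSucc 2],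
  [Int.negSucc 2, Int.ofNat 1, Int.ofNat 1, Int.ofNat 1, Int.ofNat 1, Int.ofNat 1, Int.ofNat 1, Int.ofNat 1, Int.ofNat 1, Int.ofNat 1, Int.ofNat 1, Int.ofNat 1, Int.ofNat 1, Int.ofNat 1, Int.ofNat 1, Int.ofNat 1, Int.ofNat 1, Int.ofNat 1, Int.ofNat 1, Int.ofNat 1, Int.ofNat 1, Int.ofNat 1, Int.ofNat 1, Int.ofNat 1],
  [Int.ofNat 3, Int.ofNat 1, Int.negSucc 0, Int.ofNat 1, Int.ofNat 1, Int.ofNat 1, Int.ofNat 1, Int.negSucc 0, Int.ofNat 1, Int.negSucc 0, Int.negSucc 0, Int.negSucc 0, Int.ofNat 1, Int.ofNat 1, Int.ofNat 1, Int.ofNat 1, Int.ofNat 1, Int.ofNat 1, Int.negSucc 0, Int.ofNat 1, Int.ofNat 1, Int.negSucc 0, Int.ofNat 1, Int.ofNat 1],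
  [Int.ofNat 1, Int.ofNat 3, Int.ofNat 1, Int.negSucc 0, Int.ofNat 1, Int.ofNat 1, Int.ofNat 1, Int.ofNat 1, Int.negSucc 0, Int.ofNat 1, Int.negSucc 0, Int.negSucc 0, Int.negSucc 0, Int.ofNat 1, Int.ofNat 1, Int.ofNat 1, Int.ofNat 1, Int.ofNat 1, Int.ofNat 1, Int.negSucc 0, Int.ofNat 1, Int.ofNat 1, Int.negSucc 0, Int.ofNat 1],
  [Int.ofNat 2, Int.ofNat 0, Int.ofNat 2, Int.negSucc 1, Int.ofNat 0, Int.ofNat 0, Int.ofNat 0, Int.ofNat 0, Int.ofNat 0, Int.ofNat 0, Int.negSucc 1, Int.ofNat 0, Int.ofNat 0, Int.ofNat 0, Int.ofNat 0, Int.ofNat 0, Int.ofNat 0, Int.ofNat 0, Int.ofNat 2, Int.negSucc 1, Int.ofNat 0, Int.ofNat 0, Int.negSucc 1, Int.ofNat 2],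
  [Int.negSucc 1, Int.ofNat 0, Int.ofNat 0, Int.ofNat 0, Int.ofNat 0, Int.ofNat 0, Int.ofNat 0, Int.negSucc 1, Int.ofNat 0, Int.ofNat 0, Int.ofNat 0, Int.ofNat 0, Int.ofNat 0, Int.ofNat 0, Int.ofNat 0, Int.ofNat 2, Int.negSucc 1, Int.ofNat 0, Int.ofNat 0, Int.negSucc 1, Int.ofNat 2, Int.ofNat 0, Int.ofNat 2, Int.ofNat 2],
  [Int.ofNat 2, Int.ofNat 0, Int.ofNat 0, Int.ofNat 0, Int.ofNat 0, Int.ofNat 0, Int.ofNat 2, Int.ofNat 0, Int.ofNat 0, Int.negSucc 1, Int.negSucc 1, Int.ofNat 0, Int.ofNat 0, Int.ofNat 0, Int.ofNat 0, Int.ofNat 0, Int.negSucc 1, Int.ofNat 0, Int.ofNat 0, Int.ofNat 0, Int.ofNat 0, Int.ofNat 2, Int.ofNat 2, Int.negSucc 1],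
  [Int.ofNat 2, Int.ofNat 2, Int.ofNat 0, Int.ofNat 0, Int.ofNat 0, Int.ofNat 0, Int.ofNat 0, Int.negSucc 1, Int.ofNat 0, Int.ofNat 0, Int.ofNat 0, Int.ofNat 0, Int.negSucc 1, Int.negSucc 1, Int.ofNat 2, Int.ofNat 0, Int.ofNat 0, Int.ofNat 0, Int.ofNat 0, Int.ofNat 0, Int.ofNat 2, Int.ofNat 0, Int.ofNat 0, Int.negSucc 1],
  [Int.negSucc 0, Int.negSucc 0, Int.ofNat 1, Int.negSucc 0, Int.ofNat 1, Int.negSucc 0, Int.ofNat 1, Int.negSucc 0, Int.ofNat 1, Int.negSucc 0, Int.negSucc 0, Int.ofNat 1, Int.negSucc 0, Int.negSucc 0, Int.ofNat 1, Int.negSucc 0, Int.ofNat 1, Int.negSucc 0, Int.ofNat 1, Int.ofNat 1, Int.ofNat 1, Int.ofNat 1, Int.ofNat 1, Int.ofNat 3],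
  [Int.negSucc 0, Int.negSucc 0, Int.negSucc 0, Int.negSucc 0, Int.ofNat 1, Int.ofNat 1, Int.negSucc 0, Int.negSucc 0, Int.ofNat 1, Int.ofNat 1, Int.ofNat 1, Int.ofNat 1, Int.negSucc 0, Int.negSucc 0, Int.ofNat 1, Int.ofNat 1, Int.ofNat 1, Int.negSucc 0, Int.negSucc 0, Int.ofNat 1, Int.ofNat 1, Int.ofNat 1, Int.negSucc 0, Int.ofNat 3],
  [Int.negSucc 0, Int.ofNat 1, Int.ofNat 1, Int.negSucc 0, Int.ofNat 1, Int.ofNat 1, Int.negSucc 0, Int.negSucc 0, Int.ofNat 1, Int.negSucc 0, Int.negSucc 0, Int.ofNat 1, Int.ofNat 1, Int.negSucc 0, Int.negSucc 0, Int.negSucc 0, Int.negSucc 0, Int.ofNat 1, Int.ofNat 1, Int.ofNat 1, Int.negSucc 0, Int.ofNat 1, Int.ofNat 1, Int.ofNat 3],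
  [Int.negSucc 0, Int.ofNat 1, Int.negSucc 0, Int.negSucc 0, Int.ofNat 1, Int.negSucc 0, Int.ofNat 1, Int.negSucc 0, Int.ofNat 1, Int.ofNat 1, Int.ofNat 1, Int.ofNat 1, Int.ofNat 1, Int.negSucc 0, Int.negSucc 0, Int.ofNat 1, Int.negSucc 0, Int.ofNat 1, Int.negSucc 0, Int.ofNat 1, Int.negSucc 0, Int.ofNat 1, Int.negSucc 0, Int.ofNat 3],
  [Int.ofNat 2, Int.ofNat 0, Int.ofNat 2, Int.ofNat 0, Int.ofNat 2, Int.ofNat 0, Int.ofNat 0, Int.negSucc 1, Int.ofNat 0, Int.ofNat 0, Int.ofNat 0, Int.ofNat 0, Int.ofNat 0, Int.ofNat 0, Int.ofNat 0, Int.ofNat 0, Int.ofNat 0, Int.ofNat 2, Int.negSucc 1, Int.ofNat 0, Int.negSucc 1, Int.ofNat 0, Int.ofNat 0, Int.negSucc 1],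
  [Int.ofNat 2, Int.negSucc 1, Int.ofNat 0, Int.ofNat 0, Int.ofNat 2, Int.ofNat 0, Int.ofNat 0, Int.ofNat 0, Int.ofNat 0, Int.ofNat 0, Int.negSucc 1, Int.ofNat 0, Int.ofNat 0, Int.ofNat 0, Int.ofNat 2, Int.ofNat 0, Int.ofNat 0, Int.ofNat 0, Int.ofNat 2, Int.ofNat 0, Int.ofNat 0, Int.negSucc 1, Int.ofNat 0, Int.negSucc 1],
  [Int.negSucc 2, Int.ofNat 1, Int.negSucc 0, Int.negSucc 0, Int.ofNat 1, Int.negSucc 0, Int.ofNat 1, Int.ofNat 1, Int.negSucc 0, Int.ofNat 1, Int.negSucc 0, Int.negSucc 0, Int.negSucc 0, Int.negSucc 0, Int.ofNat 1, Int.ofNat 1, Int.negSucc 0, Int.negSucc 0, Int.ofNat 1, Int.ofNat 1, Int.ofNat 1, Int.negSucc 0, Int.negSucc 0, Int.ofNat 1],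
  [Int.ofNat 1, Int.negSucc 0, Int.negSucc 0, Int.negSucc 2, Int.ofNat 1, Int.negSucc 0, Int.negSucc 0, Int.ofNat 1, Int.negSucc 0, Int.ofNat 1, Int.ofNat 1, Int.negSucc 0, Int.ofNat 1, Int.negSucc 0, Int.negSucc 0, Int.negSucc 0, Int.negSucc 0, Int.ofNat 1, Int.ofNat 1, Int.negSucc 0, Int.negSucc 0, Int.ofNat 1, Int.ofNat 1, Int.ofNat 1],
  [Int.negSucc 0, Int.ofNat 1, Int.ofNat 1, Int.negSucc 0, Int.ofNat 1, Int.ofNat 1, Int.negSucc 0, Int.ofNat 1, Int.negSucc 0, Int.ofNat 1, Int.ofNat 1, Int.negSucc 0, Int.ofNat 1, Int.negSucc 0, Int.ofNat 1, Int.negSucc 0, Int.negSucc 0, Int.ofNat 3, Int.ofNat 1, Int.negSucc 0, Int.negSucc 0, Int.ofNat 1, Int.ofNat 1, Int.negSucc 0],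
  [Int.ofNat 1, Int.ofNat 1, Int.negSucc 0, Int.ofNat 1, Int.ofNat 1, Int.negSucc 0, Int.ofNat 1, Int.negSucc 0, Int.ofNat 1, Int.ofNat 1, Int.negSucc 0, Int.ofNat 1, Int.negSucc 0, Int.ofNat 1, Int.negSucc 0, Int.negSucc 0, Int.ofNat 3, Int.ofNat 1, Int.negSucc 0, Int.negSucc 0, Int.ofNat 1, Int.ofNat 1, Int.negSucc 0, Int.negSucc 0],
  [Int.negSucc 0, Int.ofNat 1, Int.ofNat 1, Int.ofNat 1, Int.ofNat 1, Int.negSucc 0, Int.ofNat 1, Int.ofNat 1, Int.ofNat 1, Int.negSucc 0, Int.ofNat 1, Int.negSucc 0, Int.negSucc 0, Int.ofNat 1, Int.negSucc 0, Int.negSucc 0, Int.ofNat 3, Int.ofNat 1, Int.ofNat 1, Int.negSucc 0, Int.ofNat 1, Int.negSucc 0, Int.negSucc 0, Int.negSucc 0],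
  [Int.ofNat 1, Int.negSucc 0, Int.negSucc 0, Int.negSucc 0, Int.negSucc 0, Int.negSucc 0, Int.negSucc 0, Int.ofNat 1, Int.negSucc 0, Int.ofNat 1, Int.ofNat 1, Int.negSucc 0, Int.ofNat 1, Int.negSucc 0, Int.negSucc 0, Int.negSucc 0, Int.negSucc 2, Int.ofNat 1, Int.negSucc 0, Int.negSucc 0, Int.ofNat 1, Int.negSucc 0, Int.negSucc 0, Int.negSucc 0],
  [Int.ofNat 1, Int.negSucc 0, Int.negSucc 0, Int.negSucc 0, Int.negSucc 0, Int.ofNat 1, Int.negSucc 0, Int.ofNat 1, Int.ofNat 1, Int.negSucc 2, Int.negSucc 0, Int.negSucc 0, Int.negSucc 0, Int.negSucc 0, Int.negSucc 0, Int.negSucc 0, Int.ofNat 1, Int.negSucc 0, Int.negSucc 0, Int.ofNat 1, Int.negSucc 0, Int.ofNat 1, Int.negSucc 0, Int.negSucc 0],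
  [Int.negSucc 0, Int.negSucc 0, Int.ofNat 1, Int.negSucc 0, Int.negSucc 0, Int.ofNat 1, Int.negSucc 0, Int.negSucc 0, Int.ofNat 1, Int.ofNat 3, Int.ofNat 1, Int.ofNat 1, Int.negSucc 0, Int.negSucc 0, Int.negSucc 0, Int.negSucc 0, Int.ofNat 1, Int.negSucc 0, Int.ofNat 1, Int.ofNat 1, Int.negSucc 0, Int.negSucc 0, Int.negSucc 0, Int.negSucc 0],
  [Int.negSucc 0, Int.negSucc 0, Int.negSucc 0, Int.ofNat 1, Int.negSucc 0, Int.negSucc 0, Int.ofNat 1, Int.negSucc 0, Int.negSucc 0, Int.ofNat 1, Int.ofNat 3, Int.ofNat 1, Int.ofNat 1, Int.negSucc 0, Int.negSucc 0, Int.negSucc 0, Int.negSucc 0, Int.ofNat 1, Int.negSucc 0, Int.ofNat 1, Int.ofNat 1, Int.negSucc 0, Int.negSucc 0, Int.negSucc 0],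
  [Int.negSucc 0, Int.negSucc 0, Int.negSucc 0, Int.ofNat 1, Int.ofNat 1, Int.negSucc 0, Int.ofNat 1, Int.negSucc 0, Int.negSucc 0, Int.negSucc 0, Int.ofNat 1, Int.ofNat 1, Int.ofNat 1, Int.ofNat 1, Int.negSucc 0, Int.negSucc 2, Int.ofNat 1, Int.ofNat 1, Int.negSucc 0, Int.ofNat 1, Int.negSucc 0, Int.negSucc 0, Int.ofNat 1, Int.negSucc 0],
  [Int.ofNat 1, Int.ofNat 1, Int.negSucc 0, Int.ofNat 1, Int.negSucc 0, Int.negSucc 0, Int.negSucc 0, Int.ofNat 1, Int.ofNat 1, Int.ofNat 1, Int.ofNat 1, Int.negSucc 0, Int.negSucc 2, Int.ofNat 1, Int.ofNat 1, Int.negSucc 0, Int.ofNat 1, Int.negSucc 0, Int.negSucc 0, Int.ofNat 1, Int.negSucc 0, Int.negSucc 0, Int.negSucc 0, Int.negSucc 0],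
  [Int.negSucc 0, Int.negSucc 0, Int.ofNat 1, Int.ofNat 1, Int.negSucc 0, Int.negSucc 0, Int.negSucc 0, Int.ofNat 1, Int.ofNat 3, Int.ofNat 1, Int.ofNat 1, Int.ofNat 1, Int.negSucc 0, Int.ofNat 1, Int.ofNat 1, Int.negSucc 0, Int.ofNat 1, Int.negSucc 0, Int.ofNat 1, Int.ofNat 1, Int.negSucc 0, Int.negSucc 0, Int.negSucc 0, Int.ofNat 1],
  [Int.negSucc 0, Int.negSucc 0, Int.negSucc 0, Int.ofNat 1, Int.ofNat 1, Int.ofNat 1, Int.ofNat 1, Int.ofNat 1, Int.negSucc 0, Int.ofNat 1, Int.negSucc 0, Int.negSucc 0, Int.ofNat 1, Int.ofNat 1, Int.negSucc 0, Int.negSucc 0, Int.ofNat 3, Int.ofNat 1, Int.negSucc 0, Int.ofNat 1, Int.negSucc 0, Int.negSucc 0, Int.ofNat 1, Int.ofNat 1],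
  [Int.ofNat 0, Int.ofNat 0, Int.ofNat 0, Int.ofNat 0, Int.negSucc 1, Int.ofNat 0, Int.ofNat 0, Int.ofNat 0, Int.ofNat 0, Int.ofNat 2, Int.ofNat 0, Int.ofNat 0, Int.ofNat 2, Int.negSucc 1, Int.negSucc 1, Int.ofNat 0, Int.ofNat 0, Int.ofNat 0, Int.ofNat 0, Int.ofNat 0, Int.ofNat 0, Int.negSucc 1, Int.negSucc 1, Int.negSucc 1],
  [Int.ofNat 0, Int.ofNat 0, Int.ofNat 0, Int.ofNat 0, Int.negSucc 1, Int.ofNat 0, Int.ofNat 0, Int.ofNat 0, Int.ofNat 0, Int.negSucc 1, Int.ofNat 0, Int.ofNat 0, Int.ofNat 2, Int.negSucc 1, Int.negSucc 1, Int.ofNat 0, Int.ofNat 0, Int.ofNat 0, Int.ofNat 0, Int.ofNat 0, Int.ofNat 0, Int.negSucc 1, Int.ofNat 2, Int.negSucc 1],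
  [Int.ofNat 0, Int.ofNat 0, Int.ofNat 0, Int.ofNat 0, Int.negSucc 1, Int.ofNat 0, Int.negSucc 1, Int.ofNat 0, Int.ofNat 0, Int.ofNat 0, Int.negSucc 1, Int.ofNat 0, Int.ofNat 0, Int.negSucc 1, Int.ofNat 0, Int.ofNat 0, Int.ofNat 0, Int.ofNat 2, Int.negSucc 1, Int.ofNat 0, Int.ofNat 0, Int.ofNat 0, Int.ofNat 2, Int.negSucc 1],
  [Int.negSucc 1, Int.ofNat 2, Int.ofNat 0, Int.ofNat 0, Int.ofNat 2, Int.ofNat 0, Int.ofNat 0, Int.negSucc 1, Int.ofNat 0, Int.ofNat 0, Int.ofNat 0, Int.ofNat 0, Int.ofNat 0, Int.ofNat 0, Int.negSucc 1, Int.ofNat 0, Int.negSucc 1, Int.negSucc 1, Int.ofNat 0, Int.negSucc 1, Int.ofNat 0, Int.ofNat 0, Int.ofNat 0, Int.ofNat 0],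
  [Int.ofNat 2, Int.ofNat 2, Int.ofNat 0, Int.ofNat 0, Int.ofNat 2, Int.ofNat 0, Int.ofNat 0, Int.ofNat 2, Int.ofNat 0, Int.ofNat 0, Int.ofNat 0, Int.ofNat 0, Int.ofNat 0, Int.ofNat 0, Int.negSucc 1, Int.ofNat 0, Int.negSucc 1, Int.negSucc 1, Int.ofNat 0, Int.negSucc 1, Int.ofNat 0, Int.ofNat 0, Int.ofNat 0, Int.ofNat 0],
  [Int.ofNat 0, Int.ofNat 2, Int.ofNat 2, Int.ofNat 0, Int.ofNat 0, Int.ofNat 2, Int.ofNat 0, Int.ofNat 0, Int.ofNat 2, Int.ofNat 0, Int.ofNat 0, Int.ofNat 0, Int.ofNat 0, Int.ofNat 0, Int.ofNat 0, Int.negSucc 1, Int.ofNat 0, Int.negSucc 1, Int.negSucc 1, Int.ofNat 0, Int.negSucc 1, Int.ofNat 0, Int.ofNat 0, Int.ofNat 0],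
  [Int.ofNat 2, Int.ofNat 0, Int.ofNat 0, Int.ofNat 0, Int.ofNat 0, Int.ofNat 2, Int.ofNat 0, Int.ofNat 0, Int.ofNat 2, Int.ofNat 2, Int.ofNat 2, Int.ofNat 0, Int.ofNat 0, Int.ofNat 0, Int.ofNat 0, Int.ofNat 0, Int.ofNat 0, Int.negSucc 1, Int.negSucc 1, Int.ofNat 0, Int.ofNat 0, Int.ofNat 0, Int.ofNat 0, Int.ofNat 2],
  [Int.ofNat 0, Int.ofNat 0, Int.ofNat 2, Int.ofNat 0, Int.ofNat 0, Int.ofNat 2, Int.ofNat 2, Int.ofNat 2, Int.ofNat 0, Int.ofNat 0, Int.ofNat 0, Int.ofNat 0, Int.ofNat 0, Int.ofNat 0, Int.negSucc 1, Int.negSucc 1, Int.ofNat 0, Int.ofNat 0, Int.ofNat 0, Int.ofNat 0, Int.ofNat 2, Int.ofNat 0, Int.ofNat 0, Int.ofNat 2],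
  [Int.ofNat 2, Int.ofNat 2, Int.ofNat 0, Int.ofNat 0, Int.ofNat 0, Int.ofNat 2, Int.ofNat 0, Int.ofNat 0, Int.ofNat 0, Int.ofNat 0, Int.ofNat 0, Int.ofNat 0, Int.ofNat 0, Int.ofNat 0, Int.negSucc 1, Int.negSucc 1, Int.ofNat 0, Int.ofNat 0, Int.ofNat 0, Int.negSucc 1, Int.ofNat 2, Int.negSucc 1, Int.ofNat 0, Int.ofNat 0],
  [Int.ofNat 2, Int.ofNat 0, Int.ofNat 0, Int.ofNat 0, Int.ofNat 0, Int.ofNat 0, Int.ofNat 0, Int.ofNat 0, Int.ofNat 0, Int.ofNat 0, Int.ofNat 2, Int.ofNat 0, Int.ofNat 0, Int.ofNat 0, Int.ofNat 0, Int.negSucc 1, Int.ofNat 0, Int.negSucc 1, Int.ofNat 2, Int.ofNat 0, Int.negSucc 1, Int.ofNat 2, Int.negSucc 1, Int.ofNat 0],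
  [Int.negSucc 0, Int.ofNat 1, Int.ofNat 1, Int.ofNat 1, Int.ofNat 1, Int.ofNat 1, Int.negSucc 0, Int.negSucc 0, Int.negSucc 0, Int.ofNat 1, Int.ofNat 3, Int.negSucc 0, Int.negSucc 0, Int.ofNat 1, Int.ofNat 1, Int.negSucc 0, Int.ofNat 1, Int.negSucc 0, Int.ofNat 1, Int.negSucc 0, Int.negSucc 0, Int.ofNat 1, Int.negSucc 0, Int.ofNat 1],
  [Int.negSucc 0, Int.ofNat 1, Int.negSucc 0, Int.ofNat 1, Int.ofNat 1, Int.negSucc 0, Int.ofNat 1, Int.negSucc 0, Int.negSucc 0, Int.negSucc 0, Int.negSucc 2, Int.negSucc 0, Int.negSucc 0, Int.ofNat 1, Int.ofNat 1, Int.ofNat 1, Int.ofNat 1, Int.negSucc 0, Int.negSucc 0, Int.negSucc 0, Int.negSucc 0, Int.ofNat 1, Int.ofNat 1, Int.ofNat 1],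
  [Int.ofNat 1, Int.negSucc 0, Int.ofNat 1, Int.negSucc 0, Int.negSucc 2, Int.negSucc 0, Int.negSucc 0, Int.ofNat 1, Int.ofNat 1, Int.ofNat 1, Int.ofNat 1, Int.ofNat 1, Int.ofNat 1, Int.negSucc 0, Int.negSucc 0, Int.ofNat 1, Int.negSucc 0, Int.ofNat 1, Int.negSucc 0, Int.negSucc 0, Int.negSucc 0, Int.negSucc 0, Int.negSucc 0, Int.ofNat 1],
  [Int.ofNat 1, Int.negSucc 0, Int.negSucc 0, Int.negSucc 0, Int.negSucc 2, Int.ofNat 1, Int.ofNat 1, Int.ofNat 1, Int.ofNat 1, Int.negSucc 0, Int.negSucc 0, Int.ofNat 1, Int.ofNat 1, Int.negSucc 0, Int.negSucc 0, Int.negSucc 0, Int.negSucc 0, Int.ofNat 1, Int.ofNat 1, Int.negSucc 0, Int.negSucc 0, Int.negSucc 0, Int.ofNat 1, Int.ofNat 1],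
  [Int.negSucc 0, Int.ofNat 1, Int.ofNat 1, Int.negSucc 0, Int.negSucc 0, Int.ofNat 1, Int.ofNat 1, Int.ofNat 1, Int.negSucc 0, Int.ofNat 1, Int.ofNat 1, Int.negSucc 0, Int.negSucc 0, Int.ofNat 1, Int.negSucc 0, Int.ofNat 1, Int.ofNat 1, Int.ofNat 1, Int.negSucc 0, Int.negSucc 0, Int.ofNat 1, Int.negSucc 0, Int.ofNat 3, Int.negSucc 0],
  [Int.negSucc 0, Int.negSucc 0, Int.ofNat 1, Int.negSucc 0, Int.ofNat 1, Int.negSucc 0, Int.ofNat 1, Int.ofNat 1, Int.ofNat 1, Int.negSucc 0, Int.ofNat 1, Int.negSucc 0, Int.negSucc 0, Int.ofNat 1, Int.ofNat 1, Int.ofNat 1, Int.ofNat 1, Int.negSucc 0, Int.negSucc 0, Int.ofNat 3, Int.ofNat 1, Int.ofNat 1, Int.negSucc 0, Int.negSucc 0],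
  [Int.ofNat 0, Int.ofNat 0, Int.negSucc 1, Int.ofNat 0, Int.ofNat 0, Int.ofNat 0, Int.negSucc 1, Int.negSucc 1, Int.ofNat 2, Int.negSucc 1, Int.ofNat 0, Int.ofNat 0, Int.ofNat 0, Int.ofNat 0, Int.ofNat 2, Int.ofNat 0, Int.ofNat 0, Int.ofNat 0, Int.ofNat 0, Int.ofNat 0, Int.ofNat 0, Int.negSucc 1, Int.negSucc 1, Int.ofNat 0],
  [Int.ofNat 0, Int.negSucc 1, Int.negSucc 1, Int.ofNat 0, Int.ofNat 0, Int.negSucc 1, Int.ofNat 0, Int.ofNat 0, Int.ofNat 0, Int.negSucc 1, Int.negSucc 1, Int.ofNat 2, Int.negSucc 1, Int.ofNat 0, Int.ofNat 0, Int.ofNat 0, Int.ofNat 0, Int.ofNat 2, Int.ofNat 0, Int.ofNat 0, Int.ofNat 0, Int.ofNat 0, Int.ofNat 0, Int.ofNat 0],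
  [Int.negSucc 1, Int.ofNat 0, Int.ofNat 0, Int.ofNat 0, Int.ofNat 0, Int.negSucc 1, Int.ofNat 0, Int.ofNat 0, Int.ofNat 0, Int.ofNat 0, Int.ofNat 0, Int.ofNat 2, Int.negSucc 1, Int.ofNat 0, Int.ofNat 0, Int.ofNat 2, Int.ofNat 0, Int.ofNat 2, Int.ofNat 0, Int.ofNat 0, Int.ofNat 2, Int.ofNat 0, Int.ofNat 0, Int.negSucc 1],
  [Int.ofNat 0, Int.ofNat 0, Int.ofNat 0, Int.ofNat 0, Int.negSucc 1, Int.ofNat 0, Int.ofNat 0, Int.ofNat 0, Int.ofNat 0, Int.ofNat 0, Int.ofNat 2, Int.negSucc 1, Int.ofNat 0, Int.ofNat 0, Int.ofNat 2, Int.ofNat 0, Int.ofNat 2, Int.ofNat 0, Int.ofNat 0, Int.ofNat 2, Int.ofNat 0, Int.ofNat 0, Int.negSucc 1, Int.negSucc 1],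
  [Int.ofNat 0, Int.ofNat 0, Int.ofNat 0, Int.ofNat 0, Int.negSucc 1, Int.ofNat 0, Int.ofNat 0, Int.ofNat 0, Int.ofNat 0, Int.ofNat 0, Int.negSucc 1, Int.ofNat 2, Int.ofNat 0, Int.ofNat 0, Int.ofNat 2, Int.ofNat 0, Int.ofNat 2, Int.ofNat 0, Int.ofNat 0, Int.ofNat 2, Int.ofNat 0, Int.ofNat 0, Int.negSucc 1, Int.negSucc 1],
  [Int.ofNat 0, Int.ofNat 0, Int.ofNat 0, Int.ofNat 0, Int.ofNat 2, Int.ofNat 0, Int.ofNat 0, Int.ofNat 0, Int.ofNat 0, Int.ofNat 0, Int.negSucc 1, Int.ofNat 2, Int.ofNat 0, Int.ofNat 0, Int.ofNat 2, Int.ofNat 0, Int.negSucc 1, Int.ofNat 0, Int.ofNat 0, Int.ofNat 2, Int.ofNat 0, Int.ofNat 0, Int.negSucc 1, Int.negSucc 1],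
  [Int.ofNat 0, Int.ofNat 0, Int.ofNat 0, Int.ofNat 0, Int.ofNat 0, Int.negSucc 1, Int.ofNat 2, Int.ofNat 0, Int.ofNat 0, Int.negSucc 1, Int.ofNat 0, Int.ofNat 2, Int.ofNat 0, Int.ofNat 0, Int.ofNat 2, Int.ofNat 0, Int.ofNat 0, Int.negSucc 1, Int.ofNat 0, Int.ofNat 0, Int.ofNat 0, Int.ofNat 0, Int.ofNat 2, Int.negSucc 1],
  [Int.ofNat 0, Int.ofNat 0, Int.ofNat 0, Int.ofNat 0, Int.ofNat 0, Int.negSucc 1, Int.ofNat 2, Int.ofNat 0, Int.ofNat 0, Int.ofNat 2, Int.ofNat 0, Int.negSucc 1, Int.ofNat 0, Int.ofNat 0, Int.ofNat 2, Int.ofNat 0, Int.ofNat 0, Int.negSucc 1, Int.ofNat 0, Int.ofNat 0, Int.ofNat 0, Int.ofNat 0, Int.ofNat 2, Int.negSucc 1],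
  [Int.ofNat 2, Int.ofNat 0, Int.ofNat 0, Int.ofNat 0, Int.ofNat 0, Int.ofNat 0, Int.negSucc 1, Int.ofNat 2, Int.ofNat 0, Int.ofNat 0, Int.ofNat 2, Int.ofNat 0, Int.negSucc 1, Int.ofNat 0, Int.ofNat 0, Int.ofNat 2, Int.ofNat 0, Int.ofNat 0, Int.negSucc 1, Int.ofNat 0, Int.ofNat 0, Int.ofNat 0, Int.ofNat 0, Int.negSucc 1],
  [Int.negSucc 1, Int.ofNat 0, Int.ofNat 0, Int.ofNat 0, Int.ofNat 0, Int.ofNat 0, Int.negSucc 1, Int.ofNat 2, Int.ofNat 2, Int.negSucc 1, Int.ofNat 0, Int.ofNat 2, Int.ofNat 0, Int.ofNat 0, Int.ofNat 0, Int.ofNat 0, Int.ofNat 0, Int.ofNat 0, Int.ofNat 0, Int.ofNat 0, Int.negSucc 1, Int.ofNat 0, Int.ofNat 0, Int.ofNat 2],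
  [Int.ofNat 0, Int.ofNat 0, Int.ofNat 0, Int.negSucc 1, Int.ofNat 2, Int.ofNat 2, Int.negSucc 1, Int.ofNat 0, Int.ofNat 2, Int.ofNat 0, Int.ofNat 0, Int.ofNat 0, Int.ofNat 0, Int.ofNat 0, Int.ofNat 0, Int.ofNat 0, Int.ofNat 0, Int.negSucc 1, Int.ofNat 0, Int.ofNat 0, Int.negSucc 1, Int.ofNat 0, Int.ofNat 0, Int.ofNat 2],
  [Int.ofNat 1, Int.ofNat 1, Int.ofNat 1, Int.negSucc 0, Int.ofNat 1, Int.ofNat 3, Int.negSucc 0, Int.ofNat 1, Int.ofNat 1, Int.ofNat 1, Int.ofNat 1, Int.negSucc 0, Int.negSucc 0, Int.negSucc 0, Int.ofNat 1, Int.ofNat 1, Int.negSucc 0, Int.negSucc 0, Int.negSucc 0, Int.ofNat 1, Int.negSucc 0, Int.ofNat 1, Int.negSucc 0, Int.negSucc 0],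
  [Int.ofNat 1, Int.negSucc 0, Int.ofNat 1, Int.negSucc 0, Int.negSucc 0, Int.ofNat 1, Int.ofNat 1, Int.ofNat 1, Int.negSucc 0, Int.negSucc 0, Int.negSucc 0, Int.negSucc 0, Int.ofNat 1, Int.negSucc 0, Int.negSucc 0, Int.ofNat 1, Int.ofNat 1, Int.ofNat 1, Int.ofNat 1, Int.negSucc 0, Int.ofNat 1, Int.ofNat 3, Int.ofNat 1, Int.negSucc 0],
  [Int.negSucc 0, Int.ofNat 1, Int.negSucc 0, Int.negSucc 0, Int.negSucc 0, Int.ofNat 1, Int.negSucc 0, Int.negSucc 0, Int.negSucc 0, Int.negSucc 0, Int.negSucc 0, Int.negSucc 0, Int.ofNat 1, Int.negSucc 0, Int.negSucc 0, Int.ofNat 1, Int.ofNat 1, Int.ofNat 1, Int.ofNat 1, Int.negSucc 2, Int.ofNat 1, Int.ofNat 1, Int.ofNat 1, Int.ofNat 1],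
  [Int.negSucc 0, Int.ofNat 1, Int.ofNat 1, Int.negSucc 0, Int.negSucc 0, Int.negSucc 0, Int.ofNat 1, Int.negSucc 0, Int.negSucc 0, Int.ofNat 1, Int.ofNat 1, Int.negSucc 0, Int.ofNat 1, Int.negSucc 0, Int.negSucc 0, Int.negSucc 0, Int.ofNat 1, Int.ofNat 1, Int.negSucc 0, Int.negSucc 2, Int.ofNat 1, Int.ofNat 1, Int.negSucc 0, Int.ofNat 1],
  [Int.ofNat 1, Int.ofNat 1, Int.negSucc 0, Int.negSucc 0, Int.negSucc 0, Int.ofNat 1, Int.ofNat 1, Int.negSucc 0, Int.negSucc 0, Int.ofNat 1, Int.negSucc 0, Int.negSucc 0, Int.negSucc 0, Int.negSucc 0, Int.ofNat 1, Int.negSucc 0, Int.negSucc 2, Int.ofNat 1, Int.ofNat 1, Int.ofNat 1, Int.negSucc 0, Int.ofNat 1, Int.negSucc 0, Int.ofNat 1],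
  [Int.ofNat 1, Int.negSucc 0, Int.negSucc 0, Int.negSucc 0, Int.ofNat 1, Int.ofNat 1, Int.ofNat 1, Int.negSucc 0, Int.negSucc 0, Int.ofNat 1, Int.negSucc 2, Int.negSucc 0, Int.ofNat 1, Int.negSucc 0, Int.ofNat 1, Int.negSucc 0, Int.negSucc 0, Int.negSucc 0, Int.ofNat 1, Int.ofNat 1, Int.negSucc 0, Int.negSucc 0, Int.ofNat 1, Int.ofNat 1],
  [Int.negSucc 0, Int.negSucc 0, Int.ofNat 1, Int.negSucc 0, Int.ofNat 1, Int.ofNat 1, Int.ofNat 1, Int.ofNat 1, Int.negSucc 0, Int.negSucc 0, Int.ofNat 3, Int.ofNat 1, Int.ofNat 1, Int.negSucc 0, Int.ofNat 1, Int.negSucc 0, Int.negSucc 0, Int.negSucc 0, Int.negSucc 0, Int.ofNat 1, Int.negSucc 0, Int.ofNat 1, Int.ofNat 1, Int.ofNat 1],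
  [Int.ofNat 1, Int.negSucc 0, Int.negSucc 0, Int.ofNat 1, Int.negSucc 0, Int.ofNat 1, Int.ofNat 1, Int.ofNat 1, Int.ofNat 1, Int.negSucc 0, Int.negSucc 0, Int.ofNat 3, Int.ofNat 1, Int.ofNat 1, Int.negSucc 0, Int.ofNat 1, Int.negSucc 0, Int.negSucc 0, Int.negSucc 0, Int.negSucc 0, Int.ofNat 1, Int.negSucc 0, Int.ofNat 1, Int.ofNat 1],
  [Int.negSucc 0, Int.ofNat 1, Int.ofNat 1, Int.ofNat 1, Int.negSucc 0, Int.ofNat 1, Int.ofNat 1, Int.ofNat 1, Int.negSucc 0, Int.negSucc 0, Int.negSucc 0, Int.ofNat 1, Int.negSucc 0, Int.ofNat 1, Int.negSucc 0, Int.ofNat 1, Int.negSucc 0, Int.negSucc 0, Int.negSucc 2, Int.negSucc 0, Int.ofNat 1, Int.negSucc 0, Int.ofNat 1, Int.negSucc 0],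
  [Int.ofNat 1, Int.negSucc 0, Int.ofNat 1, Int.ofNat 1, Int.ofNat 1, Int.negSucc 0, Int.negSucc 0, Int.negSucc 0, Int.ofNat 1, Int.negSucc 0, Int.ofNat 1, Int.negSucc 0, Int.ofNat 1, Int.negSucc 0, Int.negSucc 0, Int.negSucc 2, Int.negSucc 0, Int.ofNat 1, Int.negSucc 0, Int.ofNat 1, Int.negSucc 0, Int.ofNat 1, Int.ofNat 1, Int.negSucc 0],
  [Int.negSucc 0, Int.ofNat 1, Int.negSucc 0, Int.ofNat 1, Int.ofNat 1, Int.negSucc 0, Int.negSucc 0, Int.negSucc 0, Int.ofNat 1, Int.ofNat 1, Int.ofNat 3, Int.negSucc 0, Int.ofNat 1, Int.negSucc 0, Int.negSucc 0, Int.negSucc 0, Int.negSucc 0, Int.ofNat 1, Int.negSucc 0, Int.ofNat 1, Int.ofNat 1, Int.ofNat 1, Int.ofNat 1, Int.ofNat 1],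
  [Int.negSucc 0, Int.negSucc 0, Int.ofNat 1, Int.ofNat 1, Int.negSucc 0, Int.negSucc 0, Int.negSucc 0, Int.ofNat 3, Int.ofNat 1, Int.negSucc 0, Int.ofNat 1, Int.ofNat 1, Int.ofNat 1, Int.negSucc 0, Int.ofNat 1, Int.negSucc 0, Int.ofNat 1, Int.negSucc 0, Int.ofNat 1, Int.negSucc 0, Int.ofNat 1, Int.negSucc 0, Int.ofNat 1, Int.ofNat 1],
  [Int.ofNat 1, Int.ofNat 1, Int.negSucc 0, Int.ofNat 1, Int.negSucc 0, Int.negSucc 0, Int.negSucc 0, Int.ofNat 3, Int.negSucc 0, Int.negSucc 0, Int.ofNat 1, Int.negSucc 0, Int.negSucc 0, Int.negSucc 0, Int.ofNat 1, Int.negSucc 0, Int.ofNat 1, Int.negSucc 0, Int.negSucc 0, Int.negSucc 0, Int.ofNat 1, Int.negSucc 0, Int.ofNat 1, Int.negSucc 0],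
  [Int.ofNat 1, Int.ofNat 1, Int.ofNat 1, Int.ofNat 1, Int.negSucc 0, Int.ofNat 1, Int.ofNat 1, Int.ofNat 3, Int.negSucc 0, Int.ofNat 1, Int.negSucc 0, Int.negSucc 0, Int.negSucc 0, Int.negSucc 0, Int.ofNat 1, Int.ofNat 1, Int.ofNat 1, Int.negSucc 0, Int.ofNat 1, Int.negSucc 0, Int.ofNat 1, Int.negSucc 0, Int.negSucc 0, Int.negSucc 0],
  [Int.ofNat 1, Int.ofNat 1, Int.negSucc 0, Int.negSucc 0, Int.negSucc 0, Int.ofNat 1, Int.ofNat 1, Int.ofNat 1, Int.negSucc 0, Int.ofNat 1, Int.negSucc 0, Int.ofNat 1, Int.ofNat 1, Int.ofNat 1, Int.negSucc 0, Int.negSucc 0, Int.ofNat 3, Int.ofNat 1, Int.negSucc 0, Int.negSucc 0, Int.ofNat 1, Int.negSucc 0, Int.ofNat 1, Int.negSucc 0],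
  [Int.ofNat 1, Int.ofNat 1, Int.ofNat 1, Int.negSucc 0, Int.negSucc 0, Int.negSucc 0, Int.negSucc 0, Int.ofNat 1, Int.negSucc 0, Int.negSucc 0, Int.ofNat 1, Int.ofNat 1, Int.ofNat 1, Int.ofNat 1, Int.negSucc 0, Int.ofNat 1, Int.ofNat 3, Int.ofNat 1, Int.ofNat 1, Int.negSucc 0, Int.ofNat 1, Int.negSucc 0, Int.negSucc 0, Int.negSucc 0],
  [Int.ofNat 0, Int.ofNat 0, Int.ofNat 0, Int.ofNat 0, Int.negSucc 1, Int.ofNat 0, Int.ofNat 0, Int.ofNat 2, Int.negSucc 1, Int.negSucc 1, Int.ofNat 0, Int.ofNat 0, Int.ofNat 0, Int.ofNat 0, Int.ofNat 0, Int.ofNat 0, Int.ofNat 2, Int.ofNat 2, Int.ofNat 0, Int.ofNat 0, Int.ofNat 0, Int.ofNat 0, Int.negSucc 1, Int.ofNat 2],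
  [Int.ofNat 0, Int.ofNat 0, Int.ofNat 0, Int.ofNat 0, Int.ofNat 0, Int.ofNat 0, Int.ofNat 0, Int.ofNat 0, Int.ofNat 2, Int.ofNat 0, Int.ofNat 2, Int.ofNat 0, Int.negSucc 1, Int.negSucc 1, Int.ofNat 2, Int.ofNat 0, Int.ofNat 0, Int.ofNat 0, Int.negSucc 1, Int.negSucc 1, Int.ofNat 0, Int.ofNat 0, Int.ofNat 0, Int.ofNat 2],
  [Int.ofNat 1, Int.ofNat 1, Int.ofNat 1, Int.negSucc 0, Int.ofNat 1, Int.negSucc 0, Int.ofNat 1, Int.ofNat 1, Int.ofNat 3, Int.negSucc 0, Int.ofNat 1, Int.ofNat 1, Int.negSucc 0, Int.negSucc 0, Int.ofNat 1, Int.negSucc 0, Int.ofNat 1, Int.negSucc 0, Int.negSucc 0, Int.negSucc 0, Int.negSucc 0, Int.ofNat 1, Int.ofNat 1, Int.negSucc 0],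
  [Int.negSucc 0, Int.ofNat 1, Int.ofNat 1, Int.ofNat 1, Int.ofNat 1, Int.ofNat 1, Int.negSucc 0, Int.ofNat 1, Int.negSucc 0, Int.ofNat 1, Int.ofNat 1, Int.ofNat 3, Int.negSucc 0, Int.ofNat 1, Int.ofNat 1, Int.negSucc 0, Int.negSucc 0, Int.ofNat 1, Int.negSucc 0, Int.ofNat 1, Int.negSucc 0, Int.negSucc 0, Int.negSucc 0, Int.negSucc 0],
  [Int.ofNat 1, Int.negSucc 0, Int.negSucc 0, Int.negSucc 0, Int.ofNat 1, Int.negSucc 0, Int.negSucc 0, Int.ofNat 1, Int.negSucc 0, Int.ofNat 1, Int.ofNat 1, Int.ofNat 3, Int.negSucc 0, Int.ofNat 1, Int.negSucc 0, Int.negSucc 0, Int.negSucc 0, Int.negSucc 0, Int.negSucc 0, Int.ofNat 1, Int.negSucc 0, Int.negSucc 0, Int.negSucc 0, Int.ofNat 1],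
  [Int.negSucc 0, Int.negSucc 0, Int.negSucc 0, Int.ofNat 1, Int.negSucc 0, Int.negSucc 0, Int.ofNat 1, Int.negSucc 0, Int.ofNat 1, Int.ofNat 1, Int.ofNat 3, Int.negSucc 0, Int.ofNat 1, Int.negSucc 0, Int.negSucc 0, Int.negSucc 0, Int.negSucc 0, Int.negSucc 0, Int.ofNat 1, Int.negSucc 0, Int.negSucc 0, Int.negSucc 0, Int.ofNat 1, Int.ofNat 1],
  [Int.ofNat 1, Int.negSucc 0, Int.ofNat 1, Int.ofNat 1, Int.negSucc 0, Int.negSucc 0, Int.ofNat 1, Int.ofNat 1, Int.ofNat 1, Int.negSucc 0, Int.negSucc 2, Int.ofNat 1, Int.ofNat 1, Int.negSucc 0, Int.negSucc 0, Int.negSucc 0, Int.negSucc 0, Int.negSucc 0, Int.negSucc 0, Int.negSucc 0, Int.negSucc 0, Int.ofNat 1, Int.ofNat 1, Int.ofNat 1],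
  [Int.negSucc 0, Int.ofNat 1, Int.negSucc 0, Int.negSucc 0, Int.ofNat 1, Int.negSucc 0, Int.negSucc 0, Int.ofNat 1, Int.negSucc 0, Int.ofNat 1, Int.negSucc 2, Int.ofNat 1, Int.negSucc 0, Int.ofNat 1, Int.negSucc 0, Int.negSucc 0, Int.ofNat 1, Int.negSucc 0, Int.ofNat 1, Int.negSucc 0, Int.negSucc 0, Int.ofNat 1, Int.ofNat 1, Int.ofNat 1],
  [Int.negSucc 0, Int.negSucc 0, Int.ofNat 1, Int.negSucc 0, Int.ofNat 1, Int.negSucc 2, Int.ofNat 1, Int.negSucc 0, Int.ofNat 1, Int.ofNat 1, Int.ofNat 1, Int.negSucc 0, Int.ofNat 1, Int.negSucc 0, Int.negSucc 0, Int.negSucc 0, Int.negSucc 0, Int.ofNat 1, Int.negSucc 0, Int.negSucc 0, Int.negSucc 0, Int.ofNat 1, Int.ofNat 1, Int.ofNat 1],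
  [Int.ofNat 1, Int.negSucc 0, Int.negSucc 0, Int.negSucc 0, Int.ofNat 1, Int.negSucc 2, Int.ofNat 1, Int.ofNat 1, Int.ofNat 1, Int.negSucc 0, Int.negSucc 0, Int.ofNat 1, Int.ofNat 1, Int.negSucc 0, Int.negSucc 0, Int.negSucc 0, Int.negSucc 0, Int.ofNat 1, Int.ofNat 1, Int.negSucc 0, Int.negSucc 0, Int.negSucc 0, Int.ofNat 1, Int.ofNat 1],
  [Int.ofNat 1, Int.ofNat 1, Int.negSucc 0, Int.negSucc 0, Int.negSucc 0, Int.ofNat 1, Int.negSucc 2, Int.ofNat 1, Int.ofNat 1, Int.ofNat 1, Int.negSucc 0, Int.negSucc 0, Int.ofNat 1, Int.ofNat 1, Int.negSucc 0, Int.negSucc 0, Int.negSucc 0, Int.negSucc 0, Int.ofNat 1, Int.ofNat 1, Int.negSucc 0, Int.negSucc 0, Int.negSucc 0, Int.ofNat 1],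
  [Int.ofNat 0, Int.ofNat 0, Int.ofNat 2, Int.ofNat 0, Int.ofNat 0, Int.ofNat 2, Int.negSucc 1, Int.ofNat 2, Int.ofNat 0, Int.ofNat 2, Int.ofNat 0, Int.negSucc 1, Int.ofNat 0, Int.ofNat 2, Int.ofNat 0, Int.ofNat 0, Int.ofNat 0, Int.ofNat 0, Int.ofNat 0, Int.ofNat 2, Int.ofNat 0, Int.ofNat 0, Int.ofNat 0, Int.ofNat 0],
  [Int.ofNat 0, Int.ofNat 0, Int.ofNat 2, Int.negSucc 1, Int.ofNat 2, Int.ofNat 0, Int.ofNat 2, Int.ofNat 0, Int.negSucc 1, Int.ofNat 0, Int.ofNat 2, Int.ofNat 0, Int.ofNat 0, Int.ofNat 0, Int.ofNat 0, Int.ofNat 0, Int.ofNat 2, Int.ofNat 0, Int.ofNat 0, Int.ofNat 0, Int.ofNat 0, Int.ofNat 0, Int.ofNat 2, Int.ofNat 0],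
  [Int.ofNat 1, Int.ofNat 1, Int.negSucc 0, Int.negSucc 0, Int.negSucc 0, Int.ofNat 1, Int.ofNat 1, Int.negSucc 0, Int.negSucc 0, Int.negSucc 0, Int.ofNat 1, Int.ofNat 1, Int.ofNat 1, Int.negSucc 2, Int.ofNat 1, Int.negSucc 0, Int.negSucc 0, Int.ofNat 1, Int.ofNat 1, Int.negSucc 0, Int.negSucc 0, Int.negSucc 0, Int.negSucc 0, Int.ofNat 1],
  [Int.ofNat 1, Int.ofNat 1, Int.negSucc 0, Int.negSucc 0, Int.ofNat 1, Int.negSucc 0, Int.negSucc 0, Int.ofNat 1, Int.ofNat 1, Int.negSucc 2, Int.negSucc 0, Int.ofNat 1, Int.negSucc 0, Int.negSucc 0, Int.negSucc 0, Int.negSucc 0, Int.negSucc 0, Int.ofNat 1, Int.ofNat 1, Int.ofNat 1, Int.negSucc 0, Int.ofNat 1, Int.negSucc 0, Int.ofNat 1],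
  [Int.ofNat 0, Int.ofNat 0, Int.ofNat 2, Int.ofNat 0, Int.ofNat 2, Int.ofNat 0, Int.negSucc 1, Int.ofNat 0, Int.ofNat 0, Int.ofNat 0, Int.ofNat 2, Int.ofNat 0, Int.negSucc 1, Int.ofNat 0, Int.ofNat 0, Int.ofNat 2, Int.ofNat 0, Int.ofNat 2, Int.ofNat 0, Int.ofNat 0, Int.ofNat 2, Int.ofNat 0, Int.ofNat 0, Int.ofNat 0],
  [Int.ofNat 0, Int.ofNat 0, Int.negSucc 1, Int.ofNat 0, Int.ofNat 2, Int.ofNat 0, Int.ofNat 2, Int.ofNat 0, Int.ofNat 0, Int.ofNat 0, Int.negSucc 1, Int.ofNat 0, Int.negSucc 1, Int.ofNat 0, Int.ofNat 0, Int.negSucc 1, Int.ofNat 0, Int.ofNat 2, Int.ofNat 0, Int.ofNat 0, Int.ofNat 2, Int.ofNat 0, Int.ofNat 0, Int.ofNat 0],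
  [Int.negSucc 1, Int.ofNat 0, Int.ofNat 0, Int.ofNat 0, Int.ofNat 0, Int.ofNat 2, Int.ofNat 0, Int.ofNat 0, Int.ofNat 0, Int.ofNat 2, Int.ofNat 0, Int.ofNat 0, Int.negSucc 1, Int.ofNat 2, Int.ofNat 2, Int.ofNat 0, Int.ofNat 0, Int.negSucc 1, Int.ofNat 0, Int.negSucc 1, Int.ofNat 0, Int.ofNat 0, Int.ofNat 0, Int.ofNat 0],
  [Int.ofNat 0, Int.ofNat 0, Int.ofNat 0, Int.ofNat 0, Int.negSucc 1, Int.ofNat 2, Int.negSucc 1, Int.ofNat 2, Int.ofNat 0, Int.ofNat 2, Int.ofNat 0, Int.ofNat 0, Int.ofNat 0, Int.ofNat 0, Int.ofNat 0, Int.ofNat 0, Int.ofNat 0, Int.ofNat 0, Int.ofNat 2, Int.ofNat 0, Int.ofNat 0, Int.negSucc 1, Int.ofNat 0, Int.negSucc 1],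
  [Int.ofNat 0, Int.ofNat 0, Int.ofNat 0, Int.ofNat 0, Int.negSucc 1, Int.ofNat 2, Int.negSucc 1, Int.negSucc 1, Int.ofNat 0, Int.negSucc 1, Int.ofNat 0, Int.ofNat 0, Int.ofNat 0, Int.ofNat 0, Int.ofNat 0, Int.ofNat 0, Int.ofNat 0, Int.ofNat 0, Int.negSucc 1, Int.ofNat 0, Int.ofNat 0, Int.ofNat 2, Int.ofNat 0, Int.negSucc 1],
  [Int.ofNat 0, Int.ofNat 0, Int.ofNat 0, Int.ofNat 0, Int.ofNat 0, Int.negSucc 1, Int.ofNat 2, Int.negSucc 1, Int.negSucc 1, Int.ofNat 0, Int.negSucc 1, Int.ofNat 0, Int.ofNat 0, Int.ofNat 0, Int.ofNat 0, Int.ofNat 0, Int.ofNat 0, Int.ofNat 0, Int.ofNat 0, Int.negSucc 1, Int.ofNat 0, Int.ofNat 0, Int.ofNat 2, Int.negSucc 1],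
  [Int.negSucc 0, Int.negSucc 0, Int.negSucc 0, Int.ofNat 1, Int.negSucc 0, Int.negSucc 0, Int.ofNat 3, Int.negSucc 0, Int.negSucc 0, Int.ofNat 1, Int.negSucc 0, Int.ofNat 1, Int.ofNat 1, Int.negSucc 0, Int.ofNat 1, Int.ofNat 1, Int.negSucc 0, Int.ofNat 1, Int.ofNat 1, Int.negSucc 0, Int.ofNat 1, Int.ofNat 1, Int.ofNat 1, Int.ofNat 1],
  [Int.ofNat 1, Int.negSucc 0, Int.negSucc 0, Int.ofNat 3, Int.negSucc 0, Int.negSucc 0, Int.ofNat 1, Int.negSucc 0, Int.ofNat 1, Int.ofNat 1, Int.negSucc 0, Int.ofNat 1, Int.ofNat 1, Int.negSucc 0, Int.ofNat 1, Int.ofNat 1, Int.negSucc 0, Int.ofNat 1, Int.ofNat 1, Int.ofNat 1, Int.negSucc 0, Int.negSucc 0, Int.negSucc 0, Int.ofNat 1],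
  [Int.negSucc 0, Int.ofNat 1, Int.ofNat 1, Int.ofNat 1, Int.ofNat 1, Int.negSucc 2, Int.ofNat 1, Int.negSucc 0, Int.negSucc 0, Int.ofNat 1, Int.negSucc 0, Int.negSucc 0, Int.negSucc 0, Int.ofNat 1, Int.negSucc 0, Int.ofNat 1, Int.ofNat 1, Int.negSucc 0, Int.negSucc 0, Int.ofNat 1, Int.negSucc 0, Int.negSucc 0, Int.ofNat 1, Int.negSucc 0],
  [Int.negSucc 0, Int.ofNat 1, Int.ofNat 1, Int.ofNat 1, Int.negSucc 0, Int.negSucc 0, Int.ofNat 1, Int.negSucc 0, Int.negSucc 0, Int.ofNat 1, Int.negSucc 0, Int.negSucc 0, Int.ofNat 1, Int.ofNat 1, Int.ofNat 1, Int.ofNat 1, Int.negSucc 0, Int.negSucc 0, Int.ofNat 1, Int.negSucc 0, Int.negSucc 0, Int.negSucc 2, Int.ofNat 1, Int.negSucc 0],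
  [Int.ofNat 1, Int.negSucc 0, Int.negSucc 0, Int.ofNat 1, Int.negSucc 0, Int.negSucc 0, Int.ofNat 3, Int.ofNat 1, Int.negSucc 0, Int.ofNat 1, Int.negSucc 0, Int.negSucc 0, Int.ofNat 1, Int.ofNat 1, Int.ofNat 1, Int.ofNat 1, Int.negSucc 0, Int.negSucc 0, Int.ofNat 1, Int.ofNat 1, Int.negSucc 0, Int.negSucc 0, Int.ofNat 1, Int.ofNat 1],
  [Int.ofNat 1, Int.negSucc 0, Int.ofNat 1, Int.ofNat 1, Int.negSucc 0, Int.ofNat 1, Int.negSucc 2, Int.ofNat 1, Int.negSucc 0, Int.negSucc 0, Int.ofNat 1, Int.negSucc 0, Int.ofNat 1, Int.ofNat 1, Int.ofNat 1, Int.negSucc 0, Int.negSucc 0, Int.negSucc 0, Int.negSucc 0, Int.ofNat 1, Int.negSucc 0, Int.negSucc 0, Int.negSucc 0, Int.ofNat 1],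
  [Int.ofNat 1, Int.ofNat 1, Int.negSucc 0, Int.ofNat 1, Int.ofNat 1, Int.negSucc 0, Int.negSucc 0, Int.negSucc 0, Int.negSucc 0, Int.negSucc 2, Int.ofNat 1, Int.negSucc 0, Int.ofNat 1, Int.ofNat 1, Int.negSucc 0, Int.negSucc 0, Int.ofNat 1, Int.negSucc 0, Int.negSucc 0, Int.negSucc 0, Int.ofNat 1, Int.ofNat 1, Int.negSucc 0, Int.ofNat 1],
  [Int.ofNat 1, Int.ofNat 1, Int.ofNat 1, Int.ofNat 1, Int.ofNat 1, Int.ofNat 1, Int.ofNat 1, Int.negSucc 0, Int.negSucc 0, Int.ofNat 3, Int.negSucc 0, Int.negSucc 0, Int.ofNat 1, Int.ofNat 1, Int.negSucc 0, Int.ofNat 1, Int.ofNat 1, Int.negSucc 0, Int.ofNat 1, Int.negSucc 0, Int.ofNat 1, Int.ofNat 1, Int.ofNat 1, Int.ofNat 1],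
  [Int.ofNat 1, Int.ofNat 1, Int.ofNat 1, Int.ofNat 1, Int.negSucc 0, Int.ofNat 1, Int.ofNat 1, Int.negSucc 0, Int.negSucc 0, Int.ofNat 1, Int.negSucc 2, Int.negSucc 0, Int.ofNat 1, Int.negSucc 0, Int.negSucc 0, Int.negSucc 0, Int.negSucc 0, Int.negSucc 0, Int.ofNat 1, Int.negSucc 0, Int.negSucc 0, Int.ofNat 1, Int.negSucc 0, Int.ofNat 1],
  [Int.ofNat 1, Int.ofNat 1, Int.ofNat 1, Int.ofNat 1, Int.ofNat 1, Int.ofNat 1, Int.ofNat 1, Int.ofNat 1, Int.negSucc 0, Int.ofNat 1, Int.negSucc 0, Int.negSucc 0, Int.negSucc 0, Int.ofNat 1, Int.negSucc 0, Int.negSucc 0, Int.negSucc 0, Int.negSucc 0, Int.negSucc 0, Int.negSucc 0, Int.negSucc 2, Int.negSucc 0, Int.negSucc 0, Int.ofNat 1],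
  [Int.ofNat 1, Int.ofNat 1, Int.ofNat 1, Int.ofNat 1, Int.ofNat 1, Int.ofNat 1, Int.ofNat 1, Int.ofNat 1, Int.ofNat 1, Int.ofNat 3, Int.ofNat 1, Int.ofNat 1, Int.ofNat 1, Int.ofNat 1, Int.negSucc 0, Int.ofNat 1, Int.negSucc 0, Int.negSucc 0, Int.ofNat 1, Int.negSucc 0, Int.negSucc 0, Int.negSucc 0, Int.negSucc 0, Int.ofNat 1],
  [Int.negSucc 0, Int.negSucc 0, Int.negSucc 0, Int.ofNat 1, Int.ofNat 1, Int.ofNat 1, Int.ofNat 1, Int.ofNat 1, Int.ofNat 1, Int.ofNat 1, Int.ofNat 1, Int.ofNat 1, Int.ofNat 3, Int.ofNat 1, Int.ofNat 1, Int.ofNat 1, Int.ofNat 1, Int.negSucc 0, Int.ofNat 1, Int.negSucc 0, Int.negSucc 0, Int.ofNat 1, Int.negSucc 0, Int.ofNat 1],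
  [Int.ofNat 0, Int.ofNat 0, Int.ofNat 0, Int.ofNat 0, Int.ofNat 0, Int.ofNat 0, Int.ofNat 0, Int.ofNat 0, Int.negSucc 1, Int.ofNat 0, Int.ofNat 0, Int.negSucc 1, Int.ofNat 0, Int.ofNat 0, Int.ofNat 0, Int.ofNat 0, Int.ofNat 0, Int.negSucc 1, Int.negSucc 1, Int.negSucc 1, Int.negSucc 1, Int.ofNat 0, Int.negSucc 1, Int.negSucc 1],
  [Int.ofNat 0, Int.ofNat 0, Int.ofNat 0, Int.ofNat 0, Int.ofNat 0, Int.ofNat 0, Int.ofNat 0, Int.negSucc 1, Int.ofNat 0, Int.ofNat 0, Int.negSucc 1, Int.ofNat 0, Int.ofNat 0, Int.ofNat 0, Int.ofNat 0, Int.ofNat 0, Int.negSucc 1, Int.negSucc 1, Int.negSucc 1, Int.negSucc 1, Int.ofNat 0, Int.negSucc 1, Int.ofNat 0, Int.negSucc 1],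
  [Int.ofNat 0, Int.ofNat 0, Int.ofNat 0, Int.ofNat 0, Int.ofNat 0, Int.ofNat 0, Int.ofNat 0, Int.ofNat 2, Int.ofNat 0, Int.ofNat 0, Int.ofNat 2, Int.ofNat 0, Int.ofNat 0, Int.ofNat 0, Int.ofNat 0, Int.ofNat 0, Int.negSucc 1, Int.negSucc 1, Int.ofNat 2, Int.negSucc 1, Int.ofNat 0, Int.ofNat 2, Int.ofNat 0, Int.negSucc 1],
  [Int.ofNat 0, Int.ofNat 0, Int.ofNat 0, Int.ofNat 0, Int.ofNat 0, Int.ofNat 0, Int.ofNat 0, Int.ofNat 2, Int.ofNat 0, Int.ofNat 0, Int.ofNat 2, Int.ofNat 0, Int.ofNat 0, Int.ofNat 0, Int.ofNat 0, Int.ofNat 0, Int.ofNat 2, Int.negSucc 1, Int.negSucc 1, Int.negSucc 1, Int.ofNat 0, Int.ofNat 2, Int.ofNat 0, Int.negSucc 1],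
  [Int.ofNat 0, Int.ofNat 0, Int.negSucc 1, Int.ofNat 0, Int.ofNat 0, Int.ofNat 2, Int.ofNat 0, Int.ofNat 0, Int.ofNat 0, Int.ofNat 2, Int.ofNat 2, Int.ofNat 0, Int.ofNat 0, Int.ofNat 0, Int.negSucc 1, Int.ofNat 0, Int.ofNat 0, Int.ofNat 0, Int.ofNat 0, Int.negSucc 1, Int.ofNat 0, Int.ofNat 2, Int.ofNat 0, Int.negSucc 1],
  [Int.ofNat 0, Int.ofNat 0, Int.ofNat 2, Int.ofNat 0, Int.ofNat 0, Int.ofNat 2, Int.ofNat 0, Int.ofNat 0, Int.ofNat 0, Int.negSucc 1, Int.negSucc 1, Int.ofNat 0, Int.ofNat 0, Int.ofNat 0, Int.negSucc 1, Int.ofNat 0, Int.ofNat 0, Int.ofNat 0, Int.ofNat 0, Int.negSucc 1, Int.ofNat 0, Int.negSucc 1, Int.ofNat 0, Int.negSucc 1],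
  [Int.ofNat 0, Int.ofNat 0, Int.ofNat 0, Int.ofNat 2, Int.ofNat 0, Int.ofNat 0, Int.ofNat 2, Int.ofNat 0, Int.ofNat 0, Int.ofNat 0, Int.negSucc 1, Int.negSucc 1, Int.ofNat 0, Int.ofNat 0, Int.ofNat 0, Int.negSucc 1, Int.ofNat 0, Int.ofNat 0, Int.ofNat 0, Int.ofNat 0, Int.negSucc 1, Int.ofNat 0, Int.negSucc 1, Int.negSucc 1],
  [Int.negSucc 0, Int.negSucc 0, Int.negSucc 0, Int.ofNat 1, Int.ofNat 1, Int.negSucc 0, Int.ofNat 1, Int.negSucc 0, Int.ofNat 1, Int.ofNat 3, Int.ofNat 1, Int.negSucc 0, Int.ofNat 1, Int.ofNat 1, Int.negSucc 0, Int.ofNat 1, Int.ofNat 1, Int.negSucc 0, Int.ofNat 1, Int.negSucc 0, Int.ofNat 1, Int.negSucc 0, Int.negSucc 0, Int.ofNat 1],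
  [Int.ofNat 1, Int.ofNat 1, Int.negSucc 0, Int.ofNat 1, Int.negSucc 0, Int.ofNat 1, Int.ofNat 3, Int.ofNat 1, Int.negSucc 0, Int.ofNat 1, Int.ofNat 1, Int.negSucc 0, Int.ofNat 1, Int.ofNat 1, Int.negSucc 0, Int.ofNat 1, Int.negSucc 0, Int.ofNat 1, Int.negSucc 0, Int.negSucc 0, Int.negSucc 0, Int.negSucc 0, Int.negSucc 0, Int.ofNat 1],
  [Int.ofNat 0, Int.ofNat 0, Int.ofNat 2, Int.ofNat 0, Int.ofNat 0, Int.ofNat 0, Int.ofNat 2, Int.ofNat 0, Int.ofNat 0, Int.ofNat 0, Int.ofNat 0, Int.ofNat 0, Int.ofNat 2, Int.ofNat 2, Int.negSucc 1, Int.ofNat 0, Int.ofNat 0, Int.ofNat 0, Int.ofNat 0, Int.negSucc 1, Int.negSucc 1, Int.negSucc 1, Int.ofNat 0, Int.ofNat 0],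
  [Int.ofNat 0, Int.ofNat 2, Int.ofNat 0, Int.ofNat 0, Int.ofNat 0, Int.ofNat 0, Int.ofNat 2, Int.ofNat 0, Int.ofNat 2, Int.ofNat 2, Int.negSucc 1, Int.ofNat 0, Int.ofNat 0, Int.ofNat 0, Int.ofNat 0, Int.ofNat 0, Int.ofNat 0, Int.negSucc 1, Int.ofNat 0, Int.ofNat 0, Int.negSucc 1, Int.ofNat 0, Int.negSucc 1, Int.ofNat 0],
  [Int.ofNat 1, Int.negSucc 0, Int.ofNat 1, Int.ofNat 1, Int.ofNat 1, Int.ofNat 1, Int.ofNat 1, Int.negSucc 0, Int.ofNat 1, Int.ofNat 3, Int.negSucc 0, Int.negSucc 0, Int.negSucc 0, Int.ofNat 1, Int.ofNat 1, Int.ofNat 1, Int.ofNat 1, Int.negSucc 0, Int.negSucc 0, Int.negSucc 0, Int.negSucc 0, Int.negSucc 0, Int.negSucc 0, Int.ofNat 1],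
  [Int.ofNat 1, Int.negSucc 0, Int.negSucc 0, Int.ofNat 1, Int.ofNat 1, Int.negSucc 0, Int.negSucc 0, Int.negSucc 0, Int.ofNat 1, Int.negSucc 2, Int.ofNat 1, Int.negSucc 0, Int.negSucc 0, Int.ofNat 1, Int.ofNat 1, Int.negSucc 0, Int.ofNat 1, Int.negSucc 0, Int.ofNat 1, Int.negSucc 0, Int.negSucc 0, Int.negSucc 0, Int.ofNat 1, Int.ofNat 1],
  [Int.ofNat 1, Int.ofNat 1, Int.negSucc 0, Int.ofNat 1, Int.ofNat 1, Int.negSucc 0, Int.negSucc 0, Int.ofNat 1, Int.negSucc 0, Int.negSucc 0, Int.ofNat 1, Int.negSucc 0, Int.negSucc 0, Int.ofNat 1, Int.negSucc 0, Int.ofNat 1, Int.negSucc 0, Int.negSucc 0, Int.negSucc 2, Int.negSucc 0, Int.ofNat 1, Int.negSucc 0, Int.ofNat 1, Int.ofNat 1],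
  [Int.ofNat 1, Int.ofNat 1, Int.negSucc 0, Int.ofNat 1, Int.negSucc 0, Int.negSucc 0, Int.negSucc 0, Int.ofNat 1, Int.ofNat 1, Int.negSucc 0, Int.negSucc 0, Int.negSucc 0, Int.negSucc 0, Int.ofNat 1, Int.negSucc 2, Int.ofNat 1, Int.ofNat 1, Int.ofNat 1, Int.negSucc 0, Int.negSucc 0, Int.negSucc 0, Int.negSucc 0, Int.ofNat 1, Int.ofNat 1],
  [Int.negSucc 0, Int.ofNat 1, Int.ofNat 1, Int.ofNat 1, Int.negSucc 0, Int.negSucc 0, Int.negSucc 0, Int.negSucc 0, Int.ofNat 1, Int.ofNat 1, Int.ofNat 1, Int.ofNat 1, Int.negSucc 0, Int.ofNat 1, Int.negSucc 2, Int.ofNat 1, Int.ofNat 1, Int.ofNat 1, Int.ofNat 1, Int.negSucc 0, Int.negSucc 0, Int.ofNat 1, Int.ofNat 1, Int.ofNat 1],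
  [Int.ofNat 1, Int.negSucc 0, Int.ofNat 1, Int.ofNat 1, Int.ofNat 1, Int.negSucc 0, Int.negSucc 0, Int.negSucc 0, Int.negSucc 0, Int.ofNat 1, Int.ofNat 1, Int.ofNat 1, Int.ofNat 1, Int.negSucc 0, Int.ofNat 1, Int.negSucc 2, Int.ofNat 1, Int.ofNat 1, Int.ofNat 1, Int.ofNat 1, Int.negSucc 0, Int.negSucc 0, Int.ofNat 1, Int.ofNat 1],
  [Int.ofNat 0, Int.ofNat 2, Int.ofNat 0, Int.ofNat 0, Int.ofNat 0, Int.negSucc 1, Int.ofNat 0, Int.ofNat 0, Int.negSucc 1, Int.ofNat 2, Int.ofNat 2, Int.ofNat 0, Int.ofNat 0, Int.negSucc 1, Int.ofNat 0, Int.negSucc 1, Int.ofNat 0, Int.ofNat 0, Int.ofNat 0, Int.ofNat 2, Int.ofNat 0, Int.ofNat 0, Int.ofNat 0, Int.ofNat 0],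
  [Int.ofNat 0, Int.ofNat 0, Int.negSucc 1, Int.ofNat 0, Int.ofNat 0, Int.negSucc 1, Int.ofNat 2, Int.ofNat 2, Int.ofNat 0, Int.ofNat 0, Int.negSucc 1, Int.ofNat 0, Int.negSucc 1, Int.ofNat 0, Int.ofNat 0, Int.ofNat 0, Int.ofNat 2, Int.ofNat 0, Int.ofNat 0, Int.ofNat 0, Int.ofNat 0, Int.ofNat 2, Int.ofNat 0, Int.ofNat 0],
  [Int.negSucc 0, Int.negSucc 0, Int.ofNat 1, Int.ofNat 1, Int.negSucc 0, Int.negSucc 0, Int.negSucc 0, Int.negSucc 0, Int.ofNat 1, Int.ofNat 1, Int.negSucc 0, Int.ofNat 1, Int.negSucc 0, Int.negSucc 0, Int.ofNat 1, Int.ofNat 1, Int.ofNat 1, Int.ofNat 1, Int.ofNat 1, Int.negSucc 2, Int.ofNat 1, Int.negSucc 0, Int.negSucc 0, Int.negSucc 0],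
  [Int.negSucc 0, Int.negSucc 0, Int.negSucc 0, Int.ofNat 1, Int.ofNat 1, Int.negSucc 0, Int.ofNat 1, Int.negSucc 0, Int.negSucc 0, Int.negSucc 0, Int.ofNat 1, Int.ofNat 1, Int.ofNat 1, Int.ofNat 1, Int.negSucc 0, Int.ofNat 1, Int.ofNat 1, Int.ofNat 1, Int.negSucc 0, Int.ofNat 1, Int.negSucc 0, Int.negSucc 0, Int.negSucc 2, Int.negSucc 0],
  [Int.negSucc 0, Int.negSucc 0, Int.negSucc 0, Int.ofNat 1, Int.ofNat 1, Int.negSucc 0, Int.ofNat 1, Int.negSucc 0, Int.negSucc 0, Int.negSucc 0, Int.ofNat 1, Int.ofNat 1, Int.ofNat 1, Int.ofNat 1, Int.negSucc 0, Int.ofNat 1, Int.ofNat 1, Int.ofNat 1, Int.negSucc 0, Int.ofNat 1, Int.negSucc 0, Int.negSucc 0, Int.negSucc 2, Int.negSucc 0],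
  [Int.negSucc 0, Int.negSucc 0, Int.ofNat 1, Int.ofNat 1, Int.ofNat 1, Int.ofNat 1, Int.negSucc 0, Int.negSucc 0, Int.negSucc 0, Int.ofNat 1, Int.negSucc 0, Int.ofNat 1, Int.ofNat 1, Int.ofNat 1, Int.negSucc 0, Int.negSucc 0, Int.ofNat 1, Int.ofNat 1, Int.ofNat 1, Int.ofNat 1, Int.negSucc 0, Int.negSucc 0, Int.ofNat 3, Int.negSucc 0],
  [Int.ofNat 1, Int.ofNat 1, Int.negSucc 0, Int.ofNat 1, Int.negSucc 0, Int.ofNat 1, Int.ofNat 1, Int.negSucc 0, Int.ofNat 1, Int.negSucc 0, Int.ofNat 1, Int.negSucc 0, Int.negSucc 0, Int.negSucc 0, Int.ofNat 1, Int.ofNat 3, Int.negSucc 0, Int.ofNat 1, Int.ofNat 1, Int.negSucc 0, Int.ofNat 1, Int.ofNat 1, Int.negSucc 0, Int.negSucc 0],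
  [Int.ofNat 1, Int.ofNat 1, Int.ofNat 1, Int.ofNat 1, Int.negSucc 0, Int.negSucc 0, Int.negSucc 0, Int.negSucc 0, Int.ofNat 1, Int.ofNat 1, Int.negSucc 0, Int.negSucc 0, Int.negSucc 0, Int.negSucc 0, Int.ofNat 1, Int.negSucc 2, Int.negSucc 0, Int.ofNat 1, Int.negSucc 0, Int.negSucc 0, Int.ofNat 1, Int.ofNat 1, Int.ofNat 1, Int.negSucc 0],
  [Int.ofNat 0, Int.ofNat 0, Int.ofNat 0, Int.ofNat 0, Int.ofNat 0, Int.negSucc 1, Int.ofNat 0, Int.ofNat 0, Int.ofNat 2, Int.ofNat 2, Int.ofNat 0, Int.ofNat 0, Int.ofNat 0, Int.ofNat 0, Int.ofNat 0, Int.negSucc 1, Int.ofNat 0, Int.ofNat 0, Int.ofNat 0, Int.ofNat 0, Int.ofNat 2, Int.ofNat 2, Int.ofNat 2, Int.ofNat 2],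
  [Int.ofNat 0, Int.ofNat 0, Int.ofNat 0, Int.ofNat 0, Int.ofNat 0, Int.ofNat 2, Int.ofNat 0, Int.negSucc 1, Int.ofNat 0, Int.ofNat 0, Int.ofNat 0, Int.ofNat 0, Int.ofNat 2, Int.ofNat 2, Int.ofNat 0, Int.negSucc 1, Int.ofNat 0, Int.ofNat 0, Int.ofNat 0, Int.ofNat 2, Int.ofNat 0, Int.ofNat 2, Int.ofNat 0, Int.ofNat 2],
  [Int.ofNat 1, Int.ofNat 1, Int.ofNat 1, Int.negSucc 0, Int.negSucc 0, Int.ofNat 1, Int.negSucc 0, Int.negSucc 2, Int.negSucc 0, Int.ofNat 1, Int.ofNat 1, Int.negSucc 0, Int.ofNat 1, Int.ofNat 1, Int.negSucc 0, Int.negSucc 0, Int.negSucc 0, Int.negSucc 0, Int.negSucc 0, Int.ofNat 1, Int.ofNat 1, Int.ofNat 1, Int.negSucc 0, Int.negSucc 0],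
  [Int.ofNat 1, Int.ofNat 1, Int.negSucc 0, Int.ofNat 1, Int.ofNat 1, Int.ofNat 1, Int.negSucc 0, Int.negSucc 0, Int.ofNat 1, Int.negSucc 0, Int.negSucc 2, Int.negSucc 0, Int.ofNat 1, Int.ofNat 1, Int.negSucc 0, Int.ofNat 1, Int.ofNat 1, Int.negSucc 0, Int.negSucc 0, Int.negSucc 0, Int.negSucc 0, Int.negSucc 0, Int.ofNat 1, Int.negSucc 0],
  [Int.negSucc 0, Int.negSucc 0, Int.ofNat 1, Int.ofNat 1, Int.negSucc 0, Int.ofNat 1, Int.ofNat 1, Int.ofNat 1, Int.ofNat 1, Int.ofNat 1, Int.negSucc 0, Int.negSucc 0, Int.ofNat 1, Int.negSucc 0, Int.negSucc 0, Int.ofNat 3, Int.negSucc 0, Int.negSucc 0, Int.negSucc 0, Int.ofNat 1, Int.ofNat 1, Int.ofNat 1, Int.negSucc 0, Int.ofNat 1],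
  [Int.negSucc 0, Int.ofNat 1, Int.ofNat 1, Int.negSucc 0, Int.ofNat 1, Int.ofNat 1, Int.ofNat 1, Int.ofNat 1, Int.ofNat 1, Int.negSucc 0, Int.negSucc 0, Int.ofNat 1, Int.negSucc 0, Int.negSucc 0, Int.ofNat 3, Int.negSucc 0, Int.negSucc 0, Int.negSucc 0, Int.ofNat 1, Int.ofNat 1, Int.ofNat 1, Int.negSucc 0, Int.negSucc 0, Int.ofNat 1],
  [Int.ofNat 1, Int.ofNat 1, Int.negSucc 0, Int.negSucc 0, Int.ofNat 1, Int.ofNat 1, Int.ofNat 1, Int.negSucc 0, Int.ofNat 1, Int.ofNat 1, Int.ofNat 1, Int.negSucc 0, Int.negSucc 0, Int.negSucc 0, Int.ofNat 3, Int.negSucc 0, Int.negSucc 0, Int.negSucc 0, Int.negSucc 0, Int.ofNat 1, Int.ofNat 1, Int.ofNat 1, Int.negSucc 0, Int.ofNat 1],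
  [Int.negSucc 0, Int.negSucc 0, Int.ofNat 1, Int.ofNat 1, Int.negSucc 0, Int.ofNat 1, Int.negSucc 0, Int.negSucc 0, Int.negSucc 0, Int.negSucc 0, Int.ofNat 1, Int.negSucc 0, Int.ofNat 1, Int.ofNat 1, Int.ofNat 3, Int.negSucc 0, Int.ofNat 1, Int.negSucc 0, Int.ofNat 1, Int.ofNat 1, Int.ofNat 1, Int.ofNat 1, Int.negSucc 0, Int.ofNat 1],
  [Int.negSucc 0, Int.ofNat 1, Int.ofNat 1, Int.ofNat 1, Int.negSucc 0, Int.ofNat 1, Int.negSucc 0, Int.ofNat 1, Int.negSucc 0, Int.ofNat 1, Int.ofNat 1, Int.ofNat 3, Int.ofNat 1, Int.negSucc 0, Int.ofNat 1, Int.negSucc 0, Int.ofNat 1, Int.negSucc 0, Int.negSucc 0, Int.negSucc 0, Int.ofNat 1, Int.negSucc 0, Int.negSucc 0, Int.ofNat 1],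
  [Int.ofNat 1, Int.ofNat 1, Int.negSucc 0, Int.ofNat 1, Int.negSucc 0, Int.ofNat 1, Int.negSucc 0, Int.negSucc 0, Int.negSucc 0, Int.negSucc 0, Int.negSucc 0, Int.negSucc 2, Int.ofNat 1, Int.negSucc 0, Int.ofNat 1, Int.negSucc 0, Int.ofNat 1, Int.negSucc 0, Int.ofNat 1, Int.negSucc 0, Int.ofNat 1, Int.ofNat 1, Int.negSucc 0, Int.ofNat 1],
  [Int.negSucc 0, Int.ofNat 1, Int.ofNat 1, Int.negSucc 0, Int.ofNat 1, Int.negSucc 0, Int.ofNat 1, Int.negSucc 0, Int.negSucc 0, Int.negSucc 0, Int.negSucc 0, Int.negSucc 0, Int.negSucc 2, Int.ofNat 1, Int.negSucc 0, Int.ofNat 1, Int.negSucc 0, Int.ofNat 1, Int.negSucc 0, Int.ofNat 1, Int.negSucc 0, Int.ofNat 1, Int.ofNat 1, Int.ofNat 1],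
  [Int.ofNat 2, Int.ofNat 0, Int.ofNat 0, Int.ofNat 0, Int.ofNat 0, Int.ofNat 0, Int.ofNat 0, Int.negSucc 1, Int.ofNat 2, Int.ofNat 0, Int.ofNat 0, Int.ofNat 2, Int.ofNat 0, Int.ofNat 0, Int.ofNat 0, Int.ofNat 2, Int.negSucc 1, Int.ofNat 2, Int.ofNat 2, Int.ofNat 0, Int.ofNat 0, Int.ofNat 0, Int.ofNat 0, Int.ofNat 0],
  [Int.ofNat 0, Int.ofNat 0, Int.ofNat 0, Int.ofNat 0, Int.negSucc 1, Int.ofNat 2, Int.ofNat 0, Int.ofNat 0, Int.ofNat 2, Int.ofNat 0, Int.ofNat 0, Int.ofNat 0, Int.ofNat 2, Int.negSucc 1, Int.ofNat 2, Int.ofNat 2, Int.ofNat 0, Int.ofNat 0, Int.ofNat 0, Int.ofNat 0, Int.ofNat 2, Int.ofNat 0, Int.ofNat 0, Int.ofNat 0],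
  [Int.ofNat 0, Int.ofNat 0, Int.ofNat 0, Int.negSucc 1, Int.ofNat 0, Int.ofNat 0, Int.ofNat 0, Int.ofNat 0, Int.ofNat 0, Int.negSucc 1, Int.negSucc 1, Int.negSucc 1, Int.ofNat 0, Int.ofNat 0, Int.ofNat 0, Int.ofNat 0, Int.ofNat 2, Int.negSucc 1, Int.negSucc 1, Int.ofNat 0, Int.ofNat 0, Int.ofNat 0, Int.ofNat 2, Int.ofNat 0],
  [Int.ofNat 0, Int.ofNat 0, Int.ofNat 0, Int.negSucc 1, Int.negSucc 1, Int.ofNat 0, Int.ofNat 0, Int.negSucc 1, Int.ofNat 0, Int.ofNat 0, Int.ofNat 0, Int.negSucc 1, Int.negSucc 1, Int.ofNat 2, Int.ofNat 2, Int.ofNat 0, Int.ofNat 0, Int.ofNat 0, Int.ofNat 0, Int.negSucc 1, Int.ofNat 0, Int.ofNat 0, Int.ofNat 0, Int.ofNat 0],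
  [Int.ofNat 0, Int.ofNat 0, Int.ofNat 0, Int.negSucc 1, Int.negSucc 1, Int.ofNat 0, Int.ofNat 2, Int.ofNat 0, Int.ofNat 2, Int.ofNat 0, Int.ofNat 0, Int.ofNat 0, Int.ofNat 0, Int.ofNat 2, Int.ofNat 2, Int.ofNat 0, Int.ofNat 0, Int.ofNat 0, Int.ofNat 2, Int.ofNat 0, Int.ofNat 0, Int.ofNat 2, Int.ofNat 0, Int.ofNat 0],
  [Int.ofNat 0, Int.ofNat 0, Int.ofNat 0, Int.negSucc 1, Int.negSucc 1, Int.ofNat 0, Int.negSucc 1, Int.ofNat 0, Int.ofNat 2, Int.ofNat 0, Int.ofNat 0, Int.ofNat 0, Int.ofNat 0, Int.ofNat 2, Int.ofNat 2, Int.ofNat 0, Int.ofNat 0, Int.ofNat 0, Int.negSucc 1, Int.ofNat 0, Int.ofNat 0, Int.ofNat 2, Int.ofNat 0, Int.ofNat 0],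
  [Int.ofNat 0, Int.ofNat 0, Int.ofNat 0, Int.ofNat 2, Int.ofNat 2, Int.negSucc 1, Int.ofNat 2, Int.negSucc 1, Int.ofNat 0, Int.ofNat 0, Int.ofNat 2, Int.ofNat 0, Int.ofNat 0, Int.negSucc 1, Int.ofNat 0, Int.negSucc 1, Int.ofNat 0, Int.ofNat 0, Int.ofNat 0, Int.ofNat 0, Int.ofNat 0, Int.ofNat 0, Int.ofNat 0, Int.ofNat 0],
  [Int.ofNat 0, Int.ofNat 0, Int.ofNat 0, Int.negSucc 1, Int.ofNat 0, Int.ofNat 0, Int.ofNat 0, Int.negSucc 1, Int.ofNat 0, Int.negSucc 1, Int.ofNat 0, Int.ofNat 0, Int.ofNat 0, Int.negSucc 1, Int.ofNat 0, Int.ofNat 2, Int.ofNat 2, Int.ofNat 2, Int.ofNat 0, Int.ofNat 2, Int.ofNat 0, Int.ofNat 0, Int.ofNat 0, Int.ofNat 0],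
  [Int.ofNat 0, Int.ofNat 0, Int.ofNat 0, Int.negSucc 1, Int.ofNat 0, Int.ofNat 0, Int.ofNat 0, Int.ofNat 2, Int.ofNat 0, Int.ofNat 2, Int.ofNat 0, Int.ofNat 0, Int.ofNat 0, Int.negSucc 1, Int.ofNat 0, Int.ofNat 2, Int.ofNat 2, Int.ofNat 2, Int.ofNat 0, Int.ofNat 2, Int.ofNat 0, Int.ofNat 0, Int.ofNat 0, Int.ofNat 0],
  [Int.ofNat 0, Int.ofNat 0, Int.ofNat 0, Int.ofNat 0, Int.negSucc 1, Int.ofNat 0, Int.ofNat 0, Int.ofNat 0, Int.ofNat 2, Int.ofNat 0, Int.ofNat 2, Int.ofNat 0, Int.ofNat 0, Int.ofNat 0, Int.negSucc 1, Int.ofNat 0, Int.ofNat 2, Int.ofNat 2, Int.ofNat 2, Int.ofNat 0, Int.ofNat 2, Int.ofNat 0, Int.ofNat 0, Int.ofNat 0],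
  [Int.ofNat 0, Int.ofNat 0, Int.ofNat 0, Int.ofNat 0, Int.negSucc 1, Int.ofNat 0, Int.ofNat 0, Int.ofNat 0, Int.ofNat 0, Int.negSucc 1, Int.ofNat 0, Int.negSucc 1, Int.negSucc 1, Int.ofNat 0, Int.negSucc 1, Int.negSucc 1, Int.ofNat 2, Int.ofNat 2, Int.ofNat 0, Int.ofNat 0, Int.ofNat 0, Int.ofNat 0, Int.ofNat 0, Int.ofNat 0],
  [Int.ofNat 0, Int.negSucc 1, Int.ofNat 0, Int.ofNat 0, Int.ofNat 0, Int.ofNat 0, Int.negSucc 1, Int.ofNat 0, Int.negSucc 1, Int.negSucc 1, Int.ofNat 0, Int.negSucc 1, Int.negSucc 1, Int.ofNat 2, Int.ofNat 2, Int.ofNat 0, Int.ofNat 0, Int.ofNat 0, Int.ofNat 0, Int.ofNat 0, Int.ofNat 0, Int.ofNat 0, Int.ofNat 0, Int.ofNat 0],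
  [Int.negSucc 0, Int.ofNat 1, Int.negSucc 0, Int.negSucc 0, Int.negSucc 0, Int.negSucc 0, Int.negSucc 0, Int.ofNat 1, Int.ofNat 1, Int.negSucc 0, Int.ofNat 1, Int.ofNat 1, Int.ofNat 1, Int.ofNat 1, Int.ofNat 1, Int.ofNat 1, Int.negSucc 0, Int.negSucc 0, Int.ofNat 3, Int.ofNat 1, Int.ofNat 1, Int.ofNat 1, Int.negSucc 0, Int.negSucc 0],
  [Int.negSucc 0, Int.negSucc 0, Int.negSucc 0, Int.negSucc 0, Int.ofNat 3, Int.ofNat 1, Int.negSucc 0, Int.ofNat 1, Int.ofNat 1, Int.ofNat 1, Int.ofNat 1, Int.negSucc 0, Int.negSucc 0, Int.negSucc 0, Int.negSucc 0, Int.ofNat 1, Int.ofNat 1, Int.ofNat 1, Int.ofNat 1, Int.ofNat 1, Int.ofNat 1, Int.negSucc 0, Int.ofNat 1, Int.negSucc 0],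
  [Int.negSucc 0, Int.negSucc 0, Int.negSucc 0, Int.negSucc 0, Int.ofNat 1, Int.ofNat 1, Int.negSucc 0, Int.ofNat 1, Int.ofNat 1, Int.negSucc 0, Int.negSucc 0, Int.negSucc 0, Int.negSucc 0, Int.negSucc 2, Int.negSucc 0, Int.negSucc 0, Int.negSucc 0, Int.ofNat 1, Int.ofNat 1, Int.ofNat 1, Int.negSucc 0, Int.negSucc 0, Int.negSucc 0, Int.negSucc 0],
  [Int.negSucc 0, Int.negSucc 0, Int.ofNat 1, Int.negSucc 0, Int.ofNat 1, Int.negSucc 0, Int.ofNat 1, Int.ofNat 1, Int.ofNat 1, Int.ofNat 1, Int.ofNat 1, Int.negSucc 0, Int.negSucc 0, Int.negSucc 2, Int.negSucc 0, Int.ofNat 1, Int.negSucc 0, Int.ofNat 1, Int.negSucc 0, Int.ofNat 1, Int.negSucc 0, Int.negSucc 0, Int.ofNat 1, Int.negSucc 0],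
  [Int.negSucc 0, Int.negSucc 0, Int.negSucc 0, Int.negSucc 0, Int.ofNat 1, Int.ofNat 1, Int.negSucc 0, Int.negSucc 0, Int.ofNat 1, Int.ofNat 1, Int.negSucc 2, Int.ofNat 1, Int.negSucc 0, Int.negSucc 0, Int.ofNat 1, Int.ofNat 1, Int.ofNat 1, Int.negSucc 0, Int.negSucc 0, Int.ofNat 1, Int.ofNat 1, Int.ofNat 1, Int.negSucc 0, Int.negSucc 0],
  [Int.negSucc 0, Int.negSucc 0, Int.ofNat 1, Int.negSucc 0, Int.ofNat 1, Int.negSucc 0, Int.ofNat 1, Int.negSucc 0, Int.ofNat 1, Int.negSucc 0, Int.ofNat 3, Int.ofNat 1, Int.negSucc 0, Int.negSucc 0, Int.ofNat 1, Int.negSucc 0, Int.ofNat 1, Int.negSucc 0, Int.ofNat 1, Int.ofNat 1, Int.ofNat 1, Int.ofNat 1, Int.ofNat 1, Int.negSucc 0],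
  [Int.ofNat 0, Int.ofNat 0, Int.negSucc 1, Int.ofNat 0, Int.ofNat 0, Int.ofNat 0, Int.ofNat 0, Int.negSucc 1, Int.ofNat 0, Int.negSucc 1, Int.ofNat 2, Int.ofNat 0, Int.negSucc 1, Int.negSucc 1, Int.ofNat 2, Int.negSucc 1, Int.ofNat 0, Int.ofNat 0, Int.ofNat 0, Int.ofNat 0, Int.ofNat 0, Int.ofNat 0, Int.ofNat 0, Int.ofNat 0],
  [Int.ofNat 0, Int.ofNat 0, Int.ofNat 0, Int.ofNat 0, Int.negSucc 1, Int.ofNat 0, Int.ofNat 0, Int.ofNat 0, Int.ofNat 0, Int.negSucc 1, Int.negSucc 1, Int.ofNat 0, Int.ofNat 0, Int.negSucc 1, Int.ofNat 0, Int.negSucc 1, Int.negSucc 1, Int.ofNat 0, Int.ofNat 0, Int.ofNat 0, Int.ofNat 2, Int.ofNat 0, Int.ofNat 2, Int.ofNat 0],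
  [Int.ofNat 0, Int.ofNat 0, Int.ofNat 0, Int.ofNat 0, Int.ofNat 0, Int.ofNat 0, Int.ofNat 0, Int.ofNat 0, Int.ofNat 0, Int.ofNat 0, Int.ofNat 0, Int.ofNat 0, Int.ofNat 0, Int.ofNat 0, Int.ofNat 0, Int.ofNat 0, Int.ofNat 0, Int.ofNat 0, Int.ofNat 0, Int.ofNat 0, Int.ofNat 4, Int.ofNat 0, Int.ofNat 4, Int.ofNat 0],
  [Int.ofNat 4, Int.ofNat 0, Int.ofNat 4, Int.ofNat 0, Int.ofNat 0, Int.ofNat 0, Int.ofNat 0, Int.ofNat 0, Int.ofNat 0, Int.ofNat 0, Int.ofNat 0, Int.ofNat 0, Int.ofNat 0, Int.ofNat 0, Int.ofNat 0, Int.ofNat 0, Int.ofNat 0, Int.ofNat 0, Int.ofNat 0, Int.ofNat 0, Int.ofNat 0, Int.ofNat 0, Int.ofNat 0, Int.ofNat 0],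
  [Int.ofNat 0, Int.ofNat 4, Int.ofNat 0, Int.ofNat 0, Int.ofNat 0, Int.ofNat 0, Int.ofNat 0, Int.ofNat 0, Int.ofNat 0, Int.ofNat 0, Int.ofNat 0, Int.ofNat 0, Int.ofNat 0, Int.ofNat 0, Int.ofNat 0, Int.ofNat 0, Int.ofNat 0, Int.ofNat 0, Int.ofNat 0, Int.ofNat 0, Int.ofNat 0, Int.ofNat 0, Int.ofNat 0, Int.ofNat 4],
  [Int.ofNat 4, Int.ofNat 0, Int.ofNat 0, Int.ofNat 0, Int.ofNat 0, Int.ofNat 0, Int.ofNat 0, Int.ofNat 0, Int.ofNat 0, Int.ofNat 0, Int.ofNat 0, Int.ofNat 0, Int.ofNat 0, Int.ofNat 0, Int.ofNat 0, Int.ofNat 0, Int.ofNat 0, Int.ofNat 0, Int.ofNat 0, Int.ofNat 0, Int.ofNat 0, Int.ofNat 0, Int.ofNat 0, Int.ofNat 4],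
  [Int.negSucc 3, Int.ofNat 0, Int.ofNat 0, Int.ofNat 0, Int.ofNat 0, Int.ofNat 0, Int.ofNat 0, Int.ofNat 0, Int.ofNat 0, Int.ofNat 0, Int.ofNat 0, Int.ofNat 0, Int.ofNat 0, Int.ofNat 0, Int.ofNat 0, Int.ofNat 0, Int.ofNat 0, Int.ofNat 0, Int.ofNat 0, Int.ofNat 0, Int.ofNat 0, Int.ofNat 0, Int.ofNat 0, Int.ofNat 4],
  [Int.ofNat 4, Int.ofNat 0, Int.ofNat 0, Int.ofNat 0, Int.ofNat 0, Int.ofNat 0, Int.ofNat 0, Int.ofNat 0, Int.ofNat 0, Int.ofNat 0, Int.ofNat 0, Int.ofNat 0, Int.ofNat 0, Int.ofNat 0, Int.ofNat 0, Int.ofNat 0, Int.ofNat 0, Int.ofNat 0, Int.ofNat 0, Int.ofNat 0, Int.ofNat 0, Int.ofNat 0, Int.ofNat 0, Int.ofNat 4],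
  [Int.ofNat 4, Int.ofNat 0, Int.ofNat 0, Int.ofNat 0, Int.ofNat 0, Int.ofNat 0, Int.ofNat 0, Int.ofNat 0, Int.ofNat 0, Int.ofNat 0, Int.ofNat 0, Int.ofNat 0, Int.ofNat 0, Int.ofNat 0, Int.ofNat 0, Int.ofNat 0, Int.ofNat 0, Int.ofNat 0, Int.ofNat 0, Int.ofNat 0, Int.ofNat 0, Int.ofNat 0, Int.ofNat 0, Int.ofNat 4],
  [Int.negSucc 3, Int.ofNat 0, Int.ofNat 0, Int.ofNat 0, Int.ofNat 0, Int.ofNat 0, Int.ofNat 0, Int.ofNat 0, Int.ofNat 0, Int.ofNat 0, Int.ofNat 0, Int.ofNat 0, Int.ofNat 0, Int.ofNat 0, Int.ofNat 0, Int.ofNat 0, Int.ofNat 0, Int.ofNat 0, Int.ofNat 0, Int.ofNat 0, Int.ofNat 0, Int.ofNat 0, Int.ofNat 0, Int.ofNat 4],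
  [Int.ofNat 0, Int.negSucc 3, Int.ofNat 0, Int.ofNat 0, Int.ofNat 0, Int.ofNat 0, Int.ofNat 0, Int.ofNat 0, Int.ofNat 0, Int.ofNat 0, Int.ofNat 0, Int.ofNat 0, Int.ofNat 0, Int.ofNat 0, Int.ofNat 0, Int.ofNat 0, Int.ofNat 0, Int.ofNat 0, Int.ofNat 0, Int.ofNat 0, Int.ofNat 0, Int.ofNat 0, Int.ofNat 0, Int.ofNat 4],
  [Int.ofNat 0, Int.ofNat 4, Int.ofNat 0, Int.ofNat 0, Int.ofNat 0, Int.ofNat 0, Int.ofNat 0, Int.ofNat 0, Int.ofNat 0, Int.ofNat 0, Int.ofNat 0, Int.ofNat 0, Int.ofNat 0, Int.ofNat 0, Int.ofNat 0, Int.ofNat 0, Int.ofNat 0, Int.ofNat 0, Int.ofNat 0, Int.ofNat 0, Int.ofNat 0, Int.ofNat 0, Int.ofNat 0, Int.negSucc 3],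
  [Int.ofNat 0, Int.ofNat 0, Int.ofNat 0, Int.ofNat 0, Int.ofNat 0, Int.ofNat 0, Int.ofNat 0, Int.ofNat 0, Int.ofNat 0, Int.ofNat 0, Int.ofNat 0, Int.ofNat 0, Int.ofNat 0, Int.ofNat 0, Int.ofNat 0, Int.ofNat 0, Int.ofNat 0, Int.ofNat 0, Int.ofNat 0, Int.ofNat 0, Int.ofNat 0, Int.ofNat 4, Int.ofNat 0, Int.negSucc 3],
  [Int.negSucc 1, Int.negSucc 1, Int.negSucc 1, Int.ofNat 0, Int.ofNat 0, Int.ofNat 0, Int.negSucc 1, Int.negSucc 1, Int.ofNat 0, Int.ofNat 0, Int.ofNat 0, Int.ofNat 0, Int.ofNat 0, Int.ofNat 0, Int.ofNat 0, Int.ofNat 0, Int.ofNat 0, Int.ofNat 0, Int.ofNat 0, Int.negSucc 1, Int.ofNat 0, Int.ofNat 2, Int.ofNat 0, Int.ofNat 2],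
  [Int.negSucc 1, Int.negSucc 1, Int.ofNat 0, Int.ofNat 0, Int.ofNat 0, Int.negSucc 1, Int.negSucc 1, Int.ofNat 0, Int.ofNat 0, Int.ofNat 0, Int.ofNat 0, Int.ofNat 0, Int.ofNat 0, Int.ofNat 0, Int.ofNat 0, Int.ofNat 0, Int.ofNat 0, Int.ofNat 0, Int.negSucc 1, Int.ofNat 0, Int.ofNat 2, Int.ofNat 0, Int.negSucc 1, Int.ofNat 2],
  [Int.ofNat 1, Int.ofNat 1, Int.negSucc 0, Int.ofNat 1, Int.ofNat 1, Int.negSucc 0, Int.negSucc 0, Int.ofNat 1, Int.ofNat 1, Int.negSucc 0, Int.negSucc 0, Int.ofNat 1, Int.ofNat 1, Int.ofNat 1, Int.ofNat 1, Int.negSucc 0, Int.ofNat 1, Int.ofNat 1, Int.negSucc 0, Int.ofNat 1, Int.ofNat 1, Int.ofNat 1, Int.negSucc 0, Int.negSucc 2],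
  [Int.ofNat 1, Int.ofNat 1, Int.ofNat 1, Int.ofNat 1, Int.ofNat 1, Int.ofNat 1, Int.ofNat 1, Int.ofNat 1, Int.ofNat 1, Int.ofNat 1, Int.ofNat 1, Int.ofNat 1, Int.ofNat 1, Int.ofNat 1, Int.ofNat 1, Int.ofNat 1, Int.ofNat 1, Int.ofNat 1, Int.ofNat 1, Int.ofNat 1, Int.ofNat 1, Int.ofNat 1, Int.ofNat 1, Int.negSucc 2],
  [Int.ofNat 1, Int.ofNat 1, Int.ofNat 1, Int.ofNat 1, Int.ofNat 1, Int.ofNat 1, Int.ofNat 1, Int.ofNat 1, Int.ofNat 1, Int.ofNat 1, Int.ofNat 1, Int.ofNat 1, Int.ofNat 1, Int.ofNat 1, Int.ofNat 1, Int.ofNat 1, Int.ofNat 1, Int.ofNat 1, Int.ofNat 1, Int.ofNat 1, Int.ofNat 1, Int.ofNat 1, Int.ofNat 1, Int.negSucc 2],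
  [Int.negSucc 2, Int.ofNat 1, Int.ofNat 1, Int.ofNat 1, Int.ofNat 1, Int.ofNat 1, Int.ofNat 1, Int.ofNat 1, Int.ofNat 1, Int.ofNat 1, Int.ofNat 1, Int.ofNat 1, Int.ofNat 1, Int.ofNat 1, Int.ofNat 1, Int.ofNat 1, Int.ofNat 1, Int.ofNat 1, Int.ofNat 1, Int.ofNat 1, Int.ofNat 1, Int.ofNat 1, Int.ofNat 1, Int.ofNat 1],
  [Int.ofNat 3, Int.ofNat 1, Int.negSucc 0, Int.ofNat 1, Int.ofNat 1, Int.ofNat 1, Int.ofNat 1, Int.negSucc 0, Int.ofNat 1, Int.negSucc 0, Int.negSucc 0, Int.negSucc 0, Int.ofNat 1, Int.ofNat 1, Int.ofNat 1, Int.ofNat 1, Int.ofNat 1, Int.ofNat 1, Int.negSucc 0, Int.ofNat 1, Int.ofNat 1, Int.negSucc 0, Int.ofNat 1, Int.ofNat 1],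
  [Int.ofNat 1, Int.ofNat 3, Int.ofNat 1, Int.negSucc 0, Int.ofNat 1, Int.ofNat 1, Int.ofNat 1, Int.ofNat 1, Int.negSucc 0, Int.ofNat 1, Int.negSucc 0, Int.negSucc 0, Int.negSucc 0, Int.ofNat 1, Int.ofNat 1, Int.ofNat 1, Int.ofNat 1, Int.ofNat 1, Int.ofNat 1, Int.negSucc 0, Int.ofNat 1, Int.ofNat 1, Int.negSucc 0, Int.ofNat 1],
  [Int.ofNat 2, Int.ofNat 0, Int.ofNat 2, Int.negSucc 1, Int.ofNat 0, Int.ofNat 0, Int.ofNat 0, Int.ofNat 0, Int.ofNat 0, Int.ofNat 0, Int.negSucc 1, Int.ofNat 0, Int.ofNat 0, Int.ofNat 0, Int.ofNat 0, Int.ofNat 0, Int.ofNat 0, Int.ofNat 0, Int.ofNat 2, Int.negSucc 1, Int.ofNat 0, Int.ofNat 0, Int.negSucc 1, Int.ofNat 2],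
  [Int.negSucc 1, Int.ofNat 0, Int.ofNat 0, Int.ofNat 0, Int.ofNat 0, Int.ofNat 0, Int.ofNat 0, Int.negSucc 1, Int.ofNat 0, Int.ofNat 0, Int.ofNat 0, Int.ofNat 0, Int.ofNat 0, Int.ofNat 0, Int.ofNat 0, Int.ofNat 2, Int.negSucc 1, Int.ofNat 0, Int.ofNat 0, Int.negSucc 1, Int.ofNat 2, Int.ofNat 0, Int.ofNat 2, Int.ofNat 2],
  [Int.ofNat 2, Int.ofNat 0, Int.ofNat 0, Int.ofNat 0, Int.ofNat 0, Int.ofNat 0, Int.ofNat 2, Int.ofNat 0, Int.ofNat 0, Int.negSucc 1, Int.negSucc 1, Int.ofNat 0, Int.ofNat 0, Int.ofNat 0, Int.ofNat 0, Int.ofNat 0, Int.negSucc 1, Int.ofNat 0, Int.ofNat 0, Int.ofNat 0, Int.ofNat 0, Int.ofNat 2, Int.ofNat 2, Int.negSucc 1],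
  [Int.ofNat 2, Int.ofNat 2, Int.ofNat 0, Int.ofNat 0, Int.ofNat 0, Int.ofNat 0, Int.ofNat 0, Int.negSucc 1, Int.ofNat 0, Int.ofNat 0, Int.ofNat 0, Int.ofNat 0, Int.negSucc 1, Int.negSucc 1, Int.ofNat 2, Int.ofNat 0, Int.ofNat 0, Int.ofNat 0, Int.ofNat 0, Int.ofNat 0, Int.ofNat 2, Int.ofNat 0, Int.ofNat 0, Int.negSucc 1],
  [Int.negSucc 0, Int.negSucc 0, Int.ofNat 1, Int.negSucc 0, Int.ofNat 1, Int.negSucc 0, Int.ofNat 1, Int.negSucc 0, Int.ofNat 1, Int.negSucc 0, Int.negSucc 0, Int.ofNat 1, Int.negSucc 0, Int.negSucc 0, Int.ofNat 1, Int.negSucc 0, Int.ofNat 1, Int.negSucc 0, Int.ofNat 1, Int.ofNat 1, Int.ofNat 1, Int.ofNat 1, Int.ofNat 1, Int.ofNat 3],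
  [Int.negSucc 0, Int.negSucc 0, Int.negSucc 0, Int.negSucc 0, Int.ofNat 1, Int.ofNat 1, Int.negSucc 0, Int.negSucc 0, Int.ofNat 1, Int.ofNat 1, Int.ofNat 1, Int.ofNat 1, Int.negSucc 0, Int.negSucc 0, Int.ofNat 1, Int.ofNat 1, Int.ofNat 1, Int.negSucc 0, Int.negSucc 0, Int.ofNat 1, Int.ofNat 1, Int.ofNat 1, Int.negSucc 0, Int.ofNat 3],
  [Int.negSucc 0, Int.ofNat 1, Int.ofNat 1, Int.negSucc 0, Int.ofNat 1, Int.ofNat 1, Int.negSucc 0, Int.negSucc 0, Int.ofNat 1, Int.negSucc 0, Int.negSucc 0, Int.ofNat 1, Int.ofNat 1, Int.negSucc 0, Int.negSucc 0, Int.negSucc 0, Int.negSucc 0, Int.ofNat 1, Int.ofNat 1, Int.ofNat 1, Int.negSucc 0, Int.ofNat 1, Int.ofNat 1, Int.ofNat 3],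
  [Int.negSucc 0, Int.ofNat 1, Int.negSucc 0, Int.negSucc 0, Int.ofNat 1, Int.negSucc 0, Int.ofNat 1, Int.negSucc 0, Int.ofNat 1, Int.ofNat 1, Int.ofNat 1, Int.ofNat 1, Int.ofNat 1, Int.negSucc 0, Int.negSucc 0, Int.ofNat 1, Int.negSucc 0, Int.ofNat 1, Int.negSucc 0, Int.ofNat 1, Int.negSucc 0, Int.ofNat 1, Int.negSucc 0, Int.ofNat 3],
  [Int.ofNat 2, Int.ofNat 0, Int.ofNat 2, Int.ofNat 0, Int.ofNat 2, Int.ofNat 0, Int.ofNat 0, Int.negSucc 1, Int.ofNat 0, Int.ofNat 0, Int.ofNat 0, Int.ofNat 0, Int.ofNat 0, Int.ofNat 0, Int.ofNat 0, Int.ofNat 0, Int.ofNat 0, Int.ofNat 2, Int.negSucc 1, Int.ofNat 0, Int.negSucc 1, Int.ofNat 0, Int.ofNat 0, Int.negSucc 1],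
  [Int.ofNat 2, Int.negSucc 1, Int.ofNat 0, Int.ofNat 0, Int.ofNat 2, Int.ofNat 0, Int.ofNat 0, Int.ofNat 0, Int.ofNat 0, Int.ofNat 0, Int.negSucc 1, Int.ofNat 0, Int.ofNat 0, Int.ofNat 0, Int.ofNat 2, Int.ofNat 0, Int.ofNat 0, Int.ofNat 0, Int.ofNat 2, Int.ofNat 0, Int.ofNat 0, Int.negSucc 1, Int.ofNat 0, Int.negSucc 1],
  [Int.negSucc 2, Int.ofNat 1, Int.negSucc 0, Int.negSucc 0, Int.ofNat 1, Int.negSucc 0, Int.ofNat 1, Int.ofNat 1, Int.negSucc 0, Int.ofNat 1, Int.negSucc 0, Int.negSucc 0, Int.negSucc 0, Int.negSucc 0, Int.ofNat 1, Int.ofNat 1, Int.negSucc 0, Int.negSucc 0, Int.ofNat 1, Int.ofNat 1, Int.ofNat 1, Int.negSucc 0, Int.negSucc 0, Int.ofNat 1],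
  [Int.ofNat 1, Int.negSucc 0, Int.negSucc 0, Int.negSucc 2, Int.ofNat 1, Int.negSucc 0, Int.negSucc 0, Int.ofNat 1, Int.negSucc 0, Int.ofNat 1, Int.ofNat 1, Int.negSucc 0, Int.ofNat 1, Int.negSucc 0, Int.negSucc 0, Int.negSucc 0, Int.negSucc 0, Int.ofNat 1, Int.ofNat 1, Int.negSucc 0, Int.negSucc 0, Int.ofNat 1, Int.ofNat 1, Int.ofNat 1],
  [Int.negSucc 0, Int.ofNat 1, Int.ofNat 1, Int.negSucc 0, Int.ofNat 1, Int.ofNat 1, Int.negSucc 0, Int.ofNat 1, Int.negSucc 0, Int.ofNat 1, Int.ofNat 1, Int.negSucc 0, Int.ofNat 1, Int.negSucc 0, Int.ofNat 1, Int.negSucc 0, Int.negSucc 0, Int.ofNat 3, Int.ofNat 1, Int.negSucc 0, Int.negSucc 0, Int.ofNat 1, Int.ofNat 1, Int.negSucc 0],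
  [Int.ofNat 1, Int.ofNat 1, Int.negSucc 0, Int.ofNat 1, Int.ofNat 1, Int.negSucc 0, Int.ofNat 1, Int.negSucc 0, Int.ofNat 1, Int.ofNat 1, Int.negSucc 0, Int.ofNat 1, Int.negSucc 0, Int.ofNat 1, Int.negSucc 0, Int.negSucc 0, Int.ofNat 3, Int.ofNat 1, Int.negSucc 0, Int.negSucc 0, Int.ofNat 1, Int.ofNat 1, Int.negSucc 0, Int.negSucc 0],
  [Int.negSucc 0, Int.ofNat 1, Int.ofNat 1, Int.ofNat 1, Int.ofNat 1, Int.negSucc 0, Int.ofNat 1, Int.ofNat 1, Int.ofNat 1, Int.negSucc 0, Int.ofNat 1, Int.negSucc 0, Int.negSucc 0, Int.ofNat 1, Int.negSucc 0, Int.negSucc 0, Int.ofNat 3, Int.ofNat 1, Int.ofNat 1, Int.negSucc 0, Int.ofNat 1, Int.negSucc 0, Int.negSucc 0, Int.negSucc 0],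
  [Int.ofNat 1, Int.negSucc 0, Int.negSucc 0, Int.negSucc 0, Int.negSucc 0, Int.negSucc 0, Int.negSucc 0, Int.ofNat 1, Int.negSucc 0, Int.ofNat 1, Int.ofNat 1, Int.negSucc 0, Int.ofNat 1, Int.negSucc 0, Int.negSucc 0, Int.negSucc 0, Int.negSucc 2, Int.ofNat 1, Int.negSucc 0, Int.negSucc 0, Int.ofNat 1, Int.negSucc 0, Int.negSucc 0, Int.negSucc 0],
  [Int.ofNat 1, Int.negSucc 0, Int.negSucc 0, Int.negSucc 0, Int.negSucc 0, Int.ofNat 1, Int.negSucc 0, Int.ofNat 1, Int.ofNat 1, Int.negSucc 2, Int.negSucc 0, Int.negSucc 0, Int.negSucc 0, Int.negSucc 0, Int.negSucc 0, Int.negSucc 0, Int.ofNat 1, Int.negSucc 0, Int.negSucc 0, Int.ofNat 1, Int.negSucc 0, Int.ofNat 1, Int.negSucc 0, Int.negSucc 0],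
  [Int.negSucc 0, Int.negSucc 0, Int.ofNat 1, Int.negSucc 0, Int.negSucc 0, Int.ofNat 1, Int.negSucc 0, Int.negSucc 0, Int.ofNat 1, Int.ofNat 3, Int.ofNat 1, Int.ofNat 1, Int.negSucc 0, Int.negSucc 0, Int.negSucc 0, Int.negSucc 0, Int.ofNat 1, Int.negSucc 0, Int.ofNat 1, Int.ofNat 1, Int.negSucc 0, Int.negSucc 0, Int.negSucc 0, Int.negSucc 0],
  [Int.negSucc 0, Int.negSucc 0, Int.negSucc 0, Int.ofNat 1, Int.negSucc 0, Int.negSucc 0, Int.ofNat 1, Int.negSucc 0, Int.negSucc 0, Int.ofNat 1, Int.ofNat 3, Int.ofNat 1, Int.ofNat 1, Int.negSucc 0, Int.negSucc 0, Int.negSucc 0, Int.negSucc 0, Int.ofNat 1, Int.negSucc 0, Int.ofNat 1, Int.ofNat 1, Int.negSucc 0, Int.negSucc 0, Int.negSucc 0],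
  [Int.negSucc 0, Int.negSucc 0, Int.negSucc 0, Int.ofNat 1, Int.ofNat 1, Int.negSucc 0, Int.ofNat 1, Int.negSucc 0, Int.negSucc 0, Int.negSucc 0, Int.ofNat 1, Int.ofNat 1, Int.ofNat 1, Int.ofNat 1, Int.negSucc 0, Int.negSucc 2, Int.ofNat 1, Int.ofNat 1, Int.negSucc 0, Int.ofNat 1, Int.negSucc 0, Int.negSucc 0, Int.ofNat 1, Int.negSucc 0],
  [Int.ofNat 1, Int.ofNat 1, Int.negSucc 0, Int.ofNat 1, Int.negSucc 0, Int.negSucc 0, Int.negSucc 0, Int.ofNat 1, Int.ofNat 1, Int.ofNat 1, Int.ofNat 1, Int.negSucc 0, Int.negSucc 2, Int.ofNat 1, Int.ofNat 1, Int.negSucc 0, Int.ofNat 1, Int.negSucc 0, Int.negSucc 0, Int.ofNat 1, Int.negSucc 0, Int.negSucc 0, Int.negSucc 0, Int.negSucc 0],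
  [Int.negSucc 0, Int.negSucc 0, Int.ofNat 1, Int.ofNat 1, Int.negSucc 0, Int.negSucc 0, Int.negSucc 0, Int.ofNat 1, Int.ofNat 3, Int.ofNat 1, Int.ofNat 1, Int.ofNat 1, Int.negSucc 0, Int.ofNat 1, Int.ofNat 1, Int.negSucc 0, Int.ofNat 1, Int.negSucc 0, Int.ofNat 1, Int.ofNat 1, Int.negSucc 0, Int.negSucc 0, Int.negSucc 0, Int.ofNat 1],
  [Int.negSucc 0, Int.negSucc 0, Int.negSucc 0, Int.ofNat 1, Int.ofNat 1, Int.ofNat 1, Int.ofNat 1, Int.ofNat 1, Int.negSucc 0, Int.ofNat 1, Int.negSucc 0, Int.negSucc 0, Int.ofNat 1, Int.ofNat 1, Int.negSucc 0, Int.negSucc 0, Int.ofNat 3, Int.ofNat 1, Int.negSucc 0, Int.ofNat 1, Int.negSucc 0, Int.negSucc 0, Int.ofNat 1, Int.ofNat 1],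
  [Int.ofNat 0, Int.ofNat 0, Int.ofNat 0, Int.ofNat 0, Int.negSucc 1, Int.ofNat 0, Int.ofNat 0, Int.ofNat 0, Int.ofNat 0, Int.ofNat 2, Int.ofNat 0, Int.ofNat 0, Int.ofNat 2, Int.negSucc 1, Int.negSucc 1, Int.ofNat 0, Int.ofNat 0, Int.ofNat 0, Int.ofNat 0, Int.ofNat 0, Int.ofNat 0, Int.negSucc 1, Int.negSucc 1, Int.negSucc 1],
  [Int.ofNat 0, Int.ofNat 0, Int.ofNat 0, Int.ofNat 0, Int.negSucc 1, Int.ofNat 0, Int.ofNat 0, Int.ofNat 0, Int.ofNat 0, Int.negSucc 1, Int.ofNat 0, Int.ofNat 0, Int.ofNat 2, Int.negSucc 1, Int.negSucc 1, Int.ofNat 0, Int.ofNat 0, Int.ofNat 0, Int.ofNat 0, Int.ofNat 0, Int.ofNat 0, Int.negSucc 1, Int.ofNat 2, Int.negSucc 1],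
  [Int.ofNat 0, Int.ofNat 0, Int.ofNat 0, Int.ofNat 0, Int.negSucc 1, Int.ofNat 0, Int.negSucc 1, Int.ofNat 0, Int.ofNat 0, Int.ofNat 0, Int.negSucc 1, Int.ofNat 0, Int.ofNat 0, Int.negSucc 1, Int.ofNat 0, Int.ofNat 0, Int.ofNat 0, Int.ofNat 2, Int.negSucc 1, Int.ofNat 0, Int.ofNat 0, Int.ofNat 0, Int.ofNat 2, Int.negSucc 1],
  [Int.negSucc 1, Int.ofNat 2, Int.ofNat 0, Int.ofNat 0, Int.ofNat 2, Int.ofNat 0, Int.ofNat 0, Int.negSucc 1, Int.ofNat 0, Int.ofNat 0, Int.ofNat 0, Int.ofNat 0, Int.ofNat 0, Int.ofNat 0, Int.negSucc 1, Int.ofNat 0, Int.negSucc 1, Int.negSucc 1, Int.ofNat 0, Int.negSucc 1, Int.ofNat 0, Int.ofNat 0, Int.ofNat 0, Int.ofNat 0],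
  [Int.ofNat 2, Int.ofNat 2, Int.ofNat 0, Int.ofNat 0, Int.ofNat 2, Int.ofNat 0, Int.ofNat 0, Int.ofNat 2, Int.ofNat 0, Int.ofNat 0, Int.ofNat 0, Int.ofNat 0, Int.ofNat 0, Int.ofNat 0, Int.negSucc 1, Int.ofNat 0, Int.negSucc 1, Int.negSucc 1, Int.ofNat 0, Int.negSucc 1, Int.ofNat 0, Int.ofNat 0, Int.ofNat 0, Int.ofNat 0],
  [Int.ofNat 0, Int.ofNat 2, Int.ofNat 2, Int.ofNat 0, Int.ofNat 0, Int.ofNat 2, Int.ofNat 0, Int.ofNat 0, Int.ofNat 2, Int.ofNat 0, Int.ofNat 0, Int.ofNat 0, Int.ofNat 0, Int.ofNat 0, Int.ofNat 0, Int.negSucc 1, Int.ofNat 0, Int.negSucc 1, Int.negSucc 1, Int.ofNat 0, Int.negSucc 1, Int.ofNat 0, Int.ofNat 0, Int.ofNat 0],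
  [Int.ofNat 2, Int.ofNat 0, Int.ofNat 0, Int.ofNat 0, Int.ofNat 0, Int.ofNat 2, Int.ofNat 0, Int.ofNat 0, Int.ofNat 2, Int.ofNat 2, Int.ofNat 2, Int.ofNat 0, Int.ofNat 0, Int.ofNat 0, Int.ofNat 0, Int.ofNat 0, Int.ofNat 0, Int.negSucc 1, Int.negSucc 1, Int.ofNat 0, Int.ofNat 0, Int.ofNat 0, Int.ofNat 0, Int.ofNat 2],
  [Int.ofNat 0, Int.ofNat 0, Int.ofNat 2, Int.ofNat 0, Int.ofNat 0, Int.ofNat 2, Int.ofNat 2, Int.ofNat 2, Int.ofNat 0, Int.ofNat 0, Int.ofNat 0, Int.ofNat 0, Int.ofNat 0, Int.ofNat 0, Int.negSucc 1, Int.negSucc 1, Int.ofNat 0, Int.ofNat 0, Int.ofNat 0, Int.ofNat 0, Int.ofNat 2, Int.ofNat 0, Int.ofNat 0, Int.ofNat 2],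
  [Int.ofNat 2, Int.ofNat 2, Int.ofNat 0, Int.ofNat 0, Int.ofNat 0, Int.ofNat 2, Int.ofNat 0, Int.ofNat 0, Int.ofNat 0, Int.ofNat 0, Int.ofNat 0, Int.ofNat 0, Int.ofNat 0, Int.ofNat 0, Int.negSucc 1, Int.negSucc 1, Int.ofNat 0, Int.ofNat 0, Int.ofNat 0, Int.negSucc 1, Int.ofNat 2, Int.negSucc 1, Int.ofNat 0, Int.ofNat 0],
  [Int.ofNat 2, Int.ofNat 0, Int.ofNat 0, Int.ofNat 0, Int.ofNat 0, Int.ofNat 0, Int.ofNat 0, Int.ofNat 0, Int.ofNat 0, Int.ofNat 0, Int.ofNat 2, Int.ofNat 0, Int.ofNat 0, Int.ofNat 0, Int.ofNat 0, Int.negSucc 1, Int.ofNat 0, Int.negSucc 1, Int.ofNat 2, Int.ofNat 0, Int.negSucc 1, Int.ofNat 2, Int.negSucc 1, Int.ofNat 0],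
  [Int.negSucc 0, Int.ofNat 1, Int.ofNat 1, Int.ofNat 1, Int.ofNat 1, Int.ofNat 1, Int.negSucc 0, Int.negSucc 0, Int.negSucc 0, Int.ofNat 1, Int.ofNat 3, Int.negSucc 0, Int.negSucc 0, Int.ofNat 1, Int.ofNat 1, Int.negSucc 0, Int.ofNat 1, Int.negSucc 0, Int.ofNat 1, Int.negSucc 0, Int.negSucc 0, Int.ofNat 1, Int.negSucc 0, Int.ofNat 1],
  [Int.negSucc 0, Int.ofNat 1, Int.negSucc 0, Int.ofNat 1, Int.ofNat 1, Int.negSucc 0, Int.ofNat 1, Int.negSucc 0, Int.negSucc 0, Int.negSucc 0, Int.negSucc 2, Int.negSucc 0, Int.negSucc 0, Int.ofNat 1, Int.ofNat 1, Int.ofNat 1, Int.ofNat 1, Int.negSucc 0, Int.negSucc 0, Int.negSucc 0, Int.negSucc 0, Int.ofNat 1, Int.ofNat 1, Int.ofNat 1],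
  [Int.ofNat 1, Int.negSucc 0, Int.ofNat 1, Int.negSucc 0, Int.negSucc 2, Int.negSucc 0, Int.negSucc 0, Int.ofNat 1, Int.ofNat 1, Int.ofNat 1, Int.ofNat 1, Int.ofNat 1, Int.ofNat 1, Int.negSucc 0, Int.negSucc 0, Int.ofNat 1, Int.negSucc 0, Int.ofNat 1, Int.negSucc 0, Int.negSucc 0, Int.negSucc 0, Int.negSucc 0, Int.negSucc 0, Int.ofNat 1],
  [Int.ofNat 1, Int.negSucc 0, Int.negSucc 0, Int.negSucc 0, Int.negSucc 2, Int.ofNat 1, Int.ofNat 1, Int.ofNat 1, Int.ofNat 1, Int.negSucc 0, Int.negSucc 0, Int.ofNat 1, Int.ofNat 1, Int.negSucc 0, Int.negSucc 0, Int.negSucc 0, Int.negSucc 0, Int.ofNat 1, Int.ofNat 1, Int.negSucc 0, Int.negSucc 0, Int.negSucc 0, Int.ofNat 1, Int.ofNat 1],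
  [Int.negSucc 0, Int.ofNat 1, Int.ofNat 1, Int.negSucc 0, Int.negSucc 0, Int.ofNat 1, Int.ofNat 1, Int.ofNat 1, Int.negSucc 0, Int.ofNat 1, Int.ofNat 1, Int.negSucc 0, Int.negSucc 0, Int.ofNat 1, Int.negSucc 0, Int.ofNat 1, Int.ofNat 1, Int.ofNat 1, Int.negSucc 0, Int.negSucc 0, Int.ofNat 1, Int.negSucc 0, Int.ofNat 3, Int.negSucc 0],
  [Int.negSucc 0, Int.negSucc 0, Int.ofNat 1, Int.negSucc 0, Int.ofNat 1, Int.negSucc 0, Int.ofNat 1, Int.ofNat 1, Int.ofNat 1, Int.negSucc 0, Int.ofNat 1, Int.negSucc 0, Int.negSucc 0, Int.ofNat 1, Int.ofNat 1, Int.ofNat 1, Int.ofNat 1, Int.negSucc 0, Int.negSucc 0, Int.ofNat 3, Int.ofNat 1, Int.ofNat 1, Int.negSucc 0, Int.negSucc 0],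
  [Int.ofNat 0, Int.ofNat 0, Int.negSucc 1, Int.ofNat 0, Int.ofNat 0, Int.ofNat 0, Int.negSucc 1, Int.negSucc 1, Int.ofNat 2, Int.negSucc 1, Int.ofNat 0, Int.ofNat 0, Int.ofNat 0, Int.ofNat 0, Int.ofNat 2, Int.ofNat 0, Int.ofNat 0, Int.ofNat 0, Int.ofNat 0, Int.ofNat 0, Int.ofNat 0, Int.negSucc 1, Int.negSucc 1, Int.ofNat 0],
  [Int.ofNat 0, Int.negSucc 1, Int.negSucc 1, Int.ofNat 0, Int.ofNat 0, Int.negSucc 1, Int.ofNat 0, Int.ofNat 0, Int.ofNat 0, Int.negSucc 1, Int.negSucc 1, Int.ofNat 2, Int.negSucc 1, Int.ofNat 0, Int.ofNat 0, Int.ofNat 0, Int.ofNat 0, Int.ofNat 2, Int.ofNat 0, Int.ofNat 0, Int.ofNat 0, Int.ofNat 0, Int.ofNat 0, Int.ofNat 0],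
  [Int.negSucc 1, Int.ofNat 0, Int.ofNat 0, Int.ofNat 0, Int.ofNat 0, Int.negSucc 1, Int.ofNat 0, Int.ofNat 0, Int.ofNat 0, Int.ofNat 0, Int.ofNat 0, Int.ofNat 2, Int.negSucc 1, Int.ofNat 0, Int.ofNat 0, Int.ofNat 2, Int.ofNat 0, Int.ofNat 2, Int.ofNat 0, Int.ofNat 0, Int.ofNat 2, Int.ofNat 0, Int.ofNat 0, Int.negSucc 1],
  [Int.ofNat 0, Int.ofNat 0, Int.ofNat 0, Int.ofNat 0, Int.negSucc 1, Int.ofNat 0, Int.ofNat 0, Int.ofNat 0, Int.ofNat 0, Int.ofNat 0, Int.ofNat 2, Int.negSucc 1, Int.ofNat 0, Int.ofNat 0, Int.ofNat 2, Int.ofNat 0, Int.ofNat 2, Int.ofNat 0, Int.ofNat 0, Int.ofNat 2, Int.ofNat 0, Int.ofNat 0, Int.negSucc 1, Int.negSucc 1],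
  [Int.ofNat 0, Int.ofNat 0, Int.ofNat 0, Int.ofNat 0, Int.negSucc 1, Int.ofNat 0, Int.ofNat 0, Int.ofNat 0, Int.ofNat 0, Int.ofNat 0, Int.negSucc 1, Int.ofNat 2, Int.ofNat 0, Int.ofNat 0, Int.ofNat 2, Int.ofNat 0, Int.ofNat 2, Int.ofNat 0, Int.ofNat 0, Int.ofNat 2, Int.ofNat 0, Int.ofNat 0, Int.negSucc 1, Int.negSucc 1]]

set_option maxRecDepth 100000 in
theorem c1te3_chk : pmChk (List.replicate 14 [3, 0, 26, 25]).flatten nxL c1te3M 0 0 = true := by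
  decide +kernel

theorem c1te3_ne : wE letE2 (List.replicate 14 [3, 0, 26, 25]).flatten ≠ 1 ∧ wE letE2 (List.replicate 14 [3, 0, 26, 25]).flatten ≠ negElt :=
  ne_pm_of_chk nxL_mem c1te3_chk

set_option maxRecDepth 100000 in
def c1te4M : List (List ℤ) :=
  [[Int.ofNat 4, Int.ofNat 0, Int.ofNat 0, Int.ofNat 0, Int.ofNat 0, Int.ofNat 0, Int.ofNat 0, Int.ofNat 0, Int.ofNat 0, Int.ofNat 0, Int.ofNat 0, Int.ofNat 0, Int.ofNat 0, Int.ofNat 0, Int.ofNat 0, Int.ofNat 0, Int.ofNat 0, Int.ofNat 0, Int.ofNat 0, Int.ofNat 0, Int.ofNat 0, Int.ofNat 0, Int.ofNat 0, Int.ofNat 4],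
  [Int.ofNat 4, Int.ofNat 0, Int.ofNat 0, Int.ofNat 0, Int.ofNat 0, Int.ofNat 0, Int.ofNat 0, Int.ofNat 0, Int.ofNat 0, Int.ofNat 0, Int.ofNat 0, Int.ofNat 0, Int.ofNat 0, Int.ofNat 0, Int.ofNat 0, Int.ofNat 0, Int.ofNat 0, Int.ofNat 0, Int.ofNat 0, Int.ofNat 0, Int.ofNat 0, Int.ofNat 0, Int.ofNat 0, Int.ofNat 4],
  [Int.negSucc 3, Int.ofNat 0, Int.ofNat 0, Int.ofNat 0, Int.ofNat 0, Int.ofNat 0, Int.ofNat 0, Int.ofNat 0, Int.ofNat 0, Int.ofNat 0, Int.ofNat 0, Int.ofNat 0, Int.ofNat 0, Int.ofNat 0, Int.ofNat 0, Int.ofNat 0, Int.ofNat 0, Int.ofNat 0, Int.ofNat 0, Int.ofNat 0, Int.ofNat 0, Int.ofNat 0, Int.ofNat 0, Int.ofNat 4],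
  [Int.ofNat 0, Int.negSucc 3, Int.ofNat 0, Int.ofNat 0, Int.ofNat 0, Int.ofNat 0, Int.ofNat 0, Int.ofNat 0, Int.ofNat 0, Int.ofNat 0, Int.ofNat 0, Int.ofNat 0, Int.ofNat 0, Int.ofNat 0, Int.ofNat 0, Int.ofNat 0, Int.ofNat 0, Int.ofNat 0, Int.ofNat 0, Int.ofNat 0, Int.ofNat 0, Int.ofNat 0, Int.ofNat 0, Int.ofNat 4],
  [Int.ofNat 0, Int.ofNat 4, Int.ofNat 0, Int.ofNat 0, Int.ofNat 0, Int.ofNat 0, Int.ofNat 0, Int.ofNat 0, Int.ofNat 0, Int.ofNat 0, Int.ofNat 0, Int.ofNat 0, Int.ofNat 0, Int.ofNat 0, Int.ofNat 0, Int.ofNat 0, Int.ofNat 0, Int.ofNat 0, Int.ofNat 0, Int.ofNat 0, Int.ofNat 0, Int.ofNat 0, Int.ofNat 0, Int.negSucc 3],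
  [Int.ofNat 0, Int.ofNat 0, Int.ofNat 0, Int.ofNat 0, Int.ofNat 0, Int.ofNat 0, Int.ofNat 0, Int.ofNat 0, Int.ofNat 0, Int.ofNat 0, Int.ofNat 0, Int.ofNat 0, Int.ofNat 0, Int.ofNat 0, Int.ofNat 0, Int.ofNat 0, Int.ofNat 0, Int.ofNat 0, Int.ofNat 0, Int.ofNat 0, Int.ofNat 0, Int.ofNat 4, Int.ofNat 0, Int.negSucc 3],
  [Int.negSucc 1, Int.negSucc 1, Int.negSucc 1, Int.ofNat 0, Int.ofNat 0, Int.ofNat 0, Int.negSucc 1, Int.negSucc 1, Int.ofNat 0, Int.ofNat 0, Int.ofNat 0, Int.ofNat 0, Int.ofNat 0, Int.ofNat 0, Int.ofNat 0, Int.ofNat 0, Int.ofNat 0, Int.ofNat 0, Int.ofNat 0, Int.negSucc 1, Int.ofNat 0, Int.ofNat 2, Int.ofNat 0, Int.ofNat 2],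
  [Int.negSucc 1, Int.negSucc 1, Int.ofNat 0, Int.ofNat 0, Int.ofNat 0, Int.negSucc 1, Int.negSucc 1, Int.ofNat 0, Int.ofNat 0, Int.ofNat 0, Int.ofNat 0, Int.ofNat 0, Int.ofNat 0, Int.ofNat 0, Int.ofNat 0, Int.ofNat 0, Int.ofNat 0, Int.ofNat 0, Int.negSucc 1, Int.ofNat 0, Int.ofNat 2, Int.ofNat 0, Int.negSucc 1, Int.ofNat 2],
  [Int.ofNat 1, Int.ofNat 1, Int.negSucc 0, Int.ofNat 1, Int.ofNat 1, Int.negSucc 0, Int.negSucc 0, Int.ofNat 1, Int.ofNat 1, Int.negSucc 0, Int.negSucc 0, Int.ofNat 1, Int.ofNat 1, Int.ofNat 1, Int.ofNat 1, Int.negSucc 0, Int.ofNat 1, Int.ofNat 1, Int.negSucc 0, Int.ofNat 1, Int.ofNat 1, Int.ofNat 1, Int.negSucc 0, Int.negSucc 2],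
  [Int.ofNat 1, Int.ofNat 1, Int.ofNat 1, Int.ofNat 1, Int.ofNat 1, Int.ofNat 1, Int.ofNat 1, Int.ofNat 1, Int.ofNat 1, Int.ofNat 1, Int.ofNat 1, Int.ofNat 1, Int.ofNat 1, Int.ofNat 1, Int.ofNat 1, Int.ofNat 1, Int.ofNat 1, Int.ofNat 1, Int.ofNat 1, Int.ofNat 1, Int.ofNat 1, Int.ofNat 1, Int.ofNat 1, Int.negSucc 2],
  [Int.ofNat 1, Int.ofNat 1, Int.ofNat 1, Int.ofNat 1, Int.ofNat 1, Int.ofNat 1, Int.ofNat 1, Int.ofNat 1, Int.ofNat 1, Int.ofNat 1, Int.ofNat 1, Int.ofNat 1, Int.ofNat 1, Int.ofNat 1, Int.ofNat 1, Int.ofNat 1, Int.ofNat 1, Int.ofNat 1, Int.ofNat 1, Int.ofNat 1, Int.ofNat 1, Int.ofNat 1, Int.ofNat 1, Int.negSucc 2],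
  [Int.negSucc 2, Int.ofNat 1, Int.ofNat 1, Int.ofNat 1, Int.ofNat 1, Int.ofNat 1, Int.ofNat 1, Int.ofNat 1, Int.ofNat 1, Int.ofNat 1, Int.ofNat 1, Int.ofNat 1, Int.ofNat 1, Int.ofNat 1, Int.ofNat 1, Int.ofNat 1, Int.ofNat 1, Int.ofNat 1, Int.ofNat 1, Int.ofNat 1, Int.ofNat 1, Int.ofNat 1, Int.ofNat 1, Int.ofNat 1],
  [Int.ofNat 3, Int.ofNat 1, Int.negSucc 0, Int.ofNat 1, Int.ofNat 1, Int.ofNat 1, Int.ofNat 1, Int.negSucc 0, Int.ofNat 1, Int.negSucc 0, Int.negSucc 0, Int.negSucc 0, Int.ofNat 1, Int.ofNat 1, Int.ofNat 1, Int.ofNat 1, Int.ofNat 1, Int.ofNat 1, Int.negSucc 0, Int.ofNat 1, Int.ofNat 1, Int.negSucc 0, Int.ofNat 1, Int.ofNat 1],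
  [Int.ofNat 1, Int.ofNat 3, Int.ofNat 1, Int.negSucc 0, Int.ofNat 1, Int.ofNat 1, Int.ofNat 1, Int.ofNat 1, Int.negSucc 0, Int.ofNat 1, Int.negSucc 0, Int.negSucc 0, Int.negSucc 0, Int.ofNat 1, Int.ofNat 1, Int.ofNat 1, Int.ofNat 1, Int.ofNat 1, Int.ofNat 1, Int.negSucc 0, Int.ofNat 1, Int.ofNat 1, Int.negSucc 0, Int.ofNat 1],
  [Int.ofNat 2, Int.ofNat 0, Int.ofNat 2, Int.negSucc 1, Int.ofNat 0, Int.ofNat 0, Int.ofNat 0, Int.ofNat 0, Int.ofNat 0, Int.ofNat 0, Int.negSucc 1, Int.ofNat 0, Int.ofNat 0, Int.ofNat 0, Int.ofNat 0, Int.ofNat 0, Int.ofNat 0, Int.ofNat 0, Int.ofNat 2, Int.negSucc 1, Int.ofNat 0, Int.ofNat 0, Int.negSucc 1, Int.ofNat 2],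
  [Int.negSucc 1, Int.ofNat 0, Int.ofNat 0, Int.ofNat 0, Int.ofNat 0, Int.ofNat 0, Int.ofNat 0, Int.negSucc 1, Int.ofNat 0, Int.ofNat 0, Int.ofNat 0, Int.ofNat 0, Int.ofNat 0, Int.ofNat 0, Int.ofNat 0, Int.ofNat 2, Int.negSucc 1, Int.ofNat 0, Int.ofNat 0, Int.negSucc 1, Int.ofNat 2, Int.ofNat 0, Int.ofNat 2, Int.ofNat 2],
  [Int.ofNat 2, Int.ofNat 0, Int.ofNat 0, Int.ofNat 0, Int.ofNat 0, Int.ofNat 0, Int.ofNat 2, Int.ofNat 0, Int.ofNat 0, Int.negSucc 1, Int.negSucc 1, Int.ofNat 0, Int.ofNat 0, Int.ofNat 0, Int.ofNat 0, Int.ofNat 0, Int.negSucc 1, Int.ofNat 0, Int.ofNat 0, Int.ofNat 0, Int.ofNat 0, Int.ofNat 2, Int.ofNat 2, Int.negSucc 1],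
  [Int.ofNat 2, Int.ofNat 2, Int.ofNat 0, Int.ofNat 0, Int.ofNat 0, Int.ofNat 0, Int.ofNat 0, Int.negSucc 1, Int.ofNat 0, Int.ofNat 0, Int.ofNat 0, Int.ofNat 0, Int.negSucc 1, Int.negSucc 1, Int.ofNat 2, Int.ofNat 0, Int.ofNat 0, Int.ofNat 0, Int.ofNat 0, Int.ofNat 0, Int.ofNat 2, Int.ofNat 0, Int.ofNat 0, Int.negSucc 1],
  [Int.negSucc 0, Int.negSucc 0, Int.ofNat 1, Int.negSucc 0, Int.ofNat 1, Int.negSucc 0, Int.ofNat 1, Int.negSucc 0, Int.ofNat 1, Int.negSucc 0, Int.negSucc 0, Int.ofNat 1, Int.negSucc 0, Int.negSucc 0, Int.ofNat 1, Int.negSucc 0, Int.ofNat 1, Int.negSucc 0, Int.ofNat 1, Int.ofNat 1, Int.ofNat 1, Int.ofNat 1, Int.ofNat 1, Int.ofNat 3],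
  [Int.negSucc 0, Int.negSucc 0, Int.negSucc 0, Int.negSucc 0, Int.ofNat 1, Int.ofNat 1, Int.negSucc 0, Int.negSucc 0, Int.ofNat 1, Int.ofNat 1, Int.ofNat 1, Int.ofNat 1, Int.negSucc 0, Int.negSucc 0, Int.ofNat 1, Int.ofNat 1, Int.ofNat 1, Int.negSucc 0, Int.negSucc 0, Int.ofNat 1, Int.ofNat 1, Int.ofNat 1, Int.negSucc 0, Int.ofNat 3],
  [Int.ofNat 1, Int.negSucc 0, Int.negSucc 0, Int.negSucc 0, Int.negSucc 0, Int.ofNat 1, Int.ofNat 1, Int.ofNat 1, Int.ofNat 1, Int.ofNat 1, Int.negSucc 0, Int.ofNat 1, Int.negSucc 0, Int.ofNat 1, Int.ofNat 1, Int.negSucc 0, Int.negSucc 0, Int.ofNat 1, Int.ofNat 1, Int.negSucc 0, Int.negSucc 0, Int.ofNat 1, Int.negSucc 0, Int.ofNat 3],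
  [Int.ofNat 1, Int.negSucc 0, Int.ofNat 1, Int.negSucc 0, Int.negSucc 0, Int.negSucc 0, Int.negSucc 0, Int.ofNat 1, Int.ofNat 1, Int.negSucc 0, Int.ofNat 1, Int.ofNat 1, Int.negSucc 0, Int.ofNat 1, Int.ofNat 1, Int.ofNat 1, Int.negSucc 0, Int.ofNat 1, Int.negSucc 0, Int.negSucc 0, Int.negSucc 0, Int.ofNat 1, Int.ofNat 1, Int.ofNat 3],
  [Int.ofNat 1, Int.ofNat 3, Int.ofNat 1, Int.negSucc 0, Int.negSucc 0, Int.negSucc 0, Int.negSucc 0, Int.ofNat 1, Int.ofNat 1, Int.negSucc 0, Int.ofNat 1, Int.ofNat 1, Int.negSucc 0, Int.ofNat 1, Int.ofNat 1, Int.ofNat 1, Int.negSucc 0, Int.ofNat 1, Int.negSucc 0, Int.negSucc 0, Int.negSucc 0, Int.ofNat 1, Int.ofNat 1, Int.negSucc 0],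
  [Int.ofNat 1, Int.negSucc 0, Int.negSucc 0, Int.negSucc 0, Int.ofNat 1, Int.ofNat 1, Int.ofNat 3, Int.negSucc 0, Int.negSucc 0, Int.negSucc 0, Int.ofNat 1, Int.negSucc 0, Int.ofNat 1, Int.negSucc 0, Int.ofNat 1, Int.ofNat 1, Int.ofNat 1, Int.ofNat 1, Int.negSucc 0, Int.ofNat 1, Int.ofNat 1, Int.negSucc 0, Int.ofNat 1, Int.negSucc 0],
  [Int.negSucc 1, Int.ofNat 0, Int.ofNat 0, Int.negSucc 1, Int.ofNat 0, Int.ofNat 0, Int.ofNat 2, Int.negSucc 1, Int.ofNat 0, Int.negSucc 1, Int.ofNat 0, Int.ofNat 0, Int.ofNat 2, Int.negSucc 1, Int.ofNat 0, Int.ofNat 0, Int.ofNat 0, Int.ofNat 0, Int.ofNat 0, Int.ofNat 0, Int.ofNat 0, Int.negSucc 1, Int.ofNat 0, Int.ofNat 0],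
  [Int.ofNat 0, Int.negSucc 1, Int.ofNat 0, Int.negSucc 1, Int.ofNat 0, Int.ofNat 0, Int.negSucc 1, Int.ofNat 0, Int.ofNat 0, Int.ofNat 2, Int.negSucc 1, Int.ofNat 0, Int.negSucc 1, Int.ofNat 0, Int.ofNat 0, Int.ofNat 2, Int.negSucc 1, Int.ofNat 0, Int.ofNat 0, Int.ofNat 0, Int.ofNat 0, Int.ofNat 0, Int.ofNat 0, Int.ofNat 0],
  [Int.negSucc 0, Int.ofNat 1, Int.negSucc 0, Int.negSucc 0, Int.ofNat 1, Int.ofNat 1, Int.negSucc 0, Int.ofNat 1, Int.ofNat 1, Int.ofNat 1, Int.negSucc 2, Int.ofNat 1, Int.negSucc 0, Int.ofNat 1, Int.ofNat 1, Int.ofNat 1, Int.negSucc 0, Int.ofNat 1, Int.ofNat 1, Int.ofNat 1, Int.negSucc 0, Int.ofNat 1, Int.ofNat 1, Int.negSucc 0],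
  [Int.ofNat 1, Int.negSucc 0, Int.negSucc 0, Int.ofNat 1, Int.ofNat 1, Int.negSucc 0, Int.ofNat 1, Int.ofNat 1, Int.ofNat 1, Int.negSucc 2, Int.ofNat 1, Int.negSucc 0, Int.ofNat 1, Int.ofNat 1, Int.ofNat 1, Int.negSucc 0, Int.ofNat 1, Int.ofNat 1, Int.ofNat 1, Int.negSucc 0, Int.ofNat 1, Int.ofNat 1, Int.negSucc 0, Int.negSucc 0],
  [Int.negSucc 0, Int.negSucc 0, Int.ofNat 1, Int.ofNat 1, Int.ofNat 1, Int.negSucc 0, Int.ofNat 1, Int.negSucc 0, Int.ofNat 1, Int.ofNat 3, Int.negSucc 0, Int.ofNat 1, Int.ofNat 1, Int.ofNat 1, Int.ofNat 1, Int.negSucc 0, Int.ofNat 1, Int.ofNat 1, Int.negSucc 0, Int.negSucc 0, Int.ofNat 1, Int.negSucc 0, Int.negSucc 0, Int.negSucc 0],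
  [Int.ofNat 1, Int.ofNat 1, Int.negSucc 0, Int.negSucc 0, Int.negSucc 0, Int.negSucc 0, Int.negSucc 0, Int.negSucc 0, Int.negSucc 0, Int.negSucc 2, Int.negSucc 0, Int.ofNat 1, Int.negSucc 0, Int.negSucc 0, Int.ofNat 1, Int.negSucc 0, Int.negSucc 0, Int.ofNat 1, Int.ofNat 1, Int.negSucc 0, Int.ofNat 1, Int.negSucc 0, Int.negSucc 0, Int.negSucc 0],
  [Int.ofNat 1, Int.negSucc 0, Int.ofNat 1, Int.negSucc 0, Int.ofNat 1, Int.negSucc 0, Int.negSucc 0, Int.ofNat 1, Int.negSucc 2, Int.negSucc 0, Int.negSucc 0, Int.ofNat 1, Int.negSucc 0, Int.negSucc 0, Int.negSucc 0, Int.negSucc 0, Int.negSucc 0, Int.negSucc 0, Int.negSucc 0, Int.ofNat 1, Int.negSucc 0, Int.negSucc 0, Int.ofNat 1, Int.negSucc 0],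
  [Int.negSucc 0, Int.negSucc 0, Int.negSucc 0, Int.negSucc 0, Int.ofNat 1, Int.negSucc 0, Int.negSucc 0, Int.negSucc 0, Int.negSucc 2, Int.ofNat 1, Int.ofNat 1, Int.negSucc 0, Int.negSucc 0, Int.negSucc 0, Int.negSucc 0, Int.negSucc 0, Int.negSucc 0, Int.negSucc 0, Int.ofNat 1, Int.ofNat 1, Int.negSucc 0, Int.ofNat 1, Int.ofNat 1, Int.negSucc 0],
  [Int.ofNat 1, Int.negSucc 0, Int.negSucc 0, Int.negSucc 0, Int.negSucc 0, Int.ofNat 1, Int.negSucc 0, Int.negSucc 0, Int.negSucc 0, Int.negSucc 2, Int.ofNat 1, Int.ofNat 1, Int.negSucc 0, Int.negSucc 0, Int.negSucc 0, Int.negSucc 0, Int.negSucc 0, Int.negSucc 0, Int.negSucc 0, Int.ofNat 1, Int.ofNat 1, Int.negSucc 0, Int.ofNat 1, Int.negSucc 0],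
  [Int.negSucc 1, Int.ofNat 0, Int.ofNat 0, Int.ofNat 0, Int.ofNat 0, Int.ofNat 2, Int.ofNat 0, Int.ofNat 0, Int.ofNat 0, Int.negSucc 1, Int.ofNat 2, Int.ofNat 2, Int.ofNat 0, Int.ofNat 0, Int.ofNat 0, Int.ofNat 0, Int.ofNat 0, Int.ofNat 0, Int.ofNat 0, Int.ofNat 2, Int.ofNat 2, Int.ofNat 0, Int.ofNat 2, Int.ofNat 0],
  [Int.ofNat 0, Int.ofNat 0, Int.ofNat 2, Int.ofNat 0, Int.ofNat 0, Int.ofNat 0, Int.negSucc 1, Int.ofNat 2, Int.ofNat 2, Int.ofNat 0, Int.ofNat 0, Int.ofNat 0, Int.ofNat 0, Int.ofNat 0, Int.ofNat 0, Int.ofNat 0, Int.ofNat 2, Int.ofNat 2, Int.ofNat 0, Int.ofNat 2, Int.negSucc 1, Int.ofNat 0, Int.ofNat 0, Int.ofNat 0],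
  [Int.ofNat 1, Int.ofNat 1, Int.negSucc 0, Int.negSucc 0, Int.negSucc 0, Int.negSucc 0, Int.negSucc 2, Int.ofNat 1, Int.ofNat 1, Int.ofNat 1, Int.ofNat 1, Int.negSucc 0, Int.negSucc 0, Int.negSucc 0, Int.negSucc 0, Int.ofNat 1, Int.ofNat 1, Int.ofNat 1, Int.negSucc 0, Int.ofNat 1, Int.negSucc 0, Int.negSucc 0, Int.negSucc 0, Int.ofNat 1],
  [Int.ofNat 1, Int.negSucc 2, Int.negSucc 0, Int.negSucc 0, Int.negSucc 0, Int.ofNat 1, Int.negSucc 0, Int.ofNat 1, Int.negSucc 0, Int.negSucc 0, Int.negSucc 0, Int.ofNat 1, Int.ofNat 1, Int.ofNat 1, Int.negSucc 0, Int.ofNat 1, Int.ofNat 1, Int.negSucc 0, Int.ofNat 1, Int.negSucc 0, Int.negSucc 0, Int.negSucc 0, Int.ofNat 1, Int.ofNat 1],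
  [Int.negSucc 1, Int.ofNat 2, Int.ofNat 0, Int.ofNat 0, Int.negSucc 1, Int.ofNat 2, Int.ofNat 0, Int.ofNat 2, Int.negSucc 1, Int.ofNat 0, Int.ofNat 0, Int.ofNat 0, Int.ofNat 0, Int.ofNat 0, Int.ofNat 0, Int.ofNat 2, Int.ofNat 0, Int.ofNat 0, Int.ofNat 0, Int.ofNat 0, Int.ofNat 0, Int.ofNat 0, Int.ofNat 0, Int.negSucc 1],
  [Int.negSucc 1, Int.ofNat 2, Int.ofNat 0, Int.ofNat 0, Int.negSucc 1, Int.negSucc 1, Int.ofNat 0, Int.ofNat 2, Int.negSucc 1, Int.ofNat 0, Int.ofNat 0, Int.ofNat 0, Int.ofNat 0, Int.ofNat 0, Int.ofNat 0, Int.negSucc 1, Int.ofNat 0, Int.ofNat 0, Int.ofNat 0, Int.ofNat 0, Int.ofNat 0, Int.ofNat 0, Int.ofNat 0, Int.negSucc 1],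
  [Int.ofNat 0, Int.ofNat 0, Int.ofNat 0, Int.negSucc 1, Int.ofNat 0, Int.ofNat 0, Int.ofNat 0, Int.ofNat 0, Int.negSucc 1, Int.ofNat 0, Int.ofNat 0, Int.ofNat 2, Int.negSucc 1, Int.negSucc 1, Int.ofNat 0, Int.ofNat 0, Int.ofNat 0, Int.ofNat 0, Int.ofNat 0, Int.ofNat 0, Int.negSucc 1, Int.ofNat 2, Int.ofNat 0, Int.negSucc 1],
  [Int.negSucc 1, Int.ofNat 0, Int.ofNat 2, Int.ofNat 0, Int.ofNat 0, Int.ofNat 0, Int.ofNat 0, Int.negSucc 1, Int.negSucc 1, Int.ofNat 0, Int.ofNat 0, Int.ofNat 0, Int.ofNat 2, Int.ofNat 0, Int.ofNat 0, Int.negSucc 1, Int.ofNat 0, Int.ofNat 0, Int.ofNat 0, Int.ofNat 0, Int.negSucc 1, Int.negSucc 1, Int.ofNat 0, Int.ofNat 0],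
  [Int.ofNat 2, Int.ofNat 0, Int.negSucc 1, Int.ofNat 0, Int.ofNat 0, Int.ofNat 0, Int.ofNat 0, Int.ofNat 2, Int.negSucc 1, Int.ofNat 0, Int.ofNat 0, Int.ofNat 0, Int.ofNat 2, Int.ofNat 0, Int.ofNat 0, Int.negSucc 1, Int.ofNat 0, Int.ofNat 0, Int.ofNat 0, Int.ofNat 0, Int.negSucc 1, Int.ofNat 2, Int.ofNat 0, Int.ofNat 0],
  [Int.ofNat 0, Int.ofNat 2, Int.ofNat 0, Int.negSucc 1, Int.ofNat 0, Int.ofNat 0, Int.ofNat 0, Int.ofNat 0, Int.ofNat 2, Int.negSucc 1, Int.ofNat 0, Int.ofNat 0, Int.ofNat 0, Int.ofNat 2, Int.ofNat 0, Int.ofNat 0, Int.negSucc 1, Int.ofNat 0, Int.ofNat 0, Int.ofNat 0, Int.ofNat 0, Int.negSucc 1, Int.ofNat 2, Int.ofNat 0],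
  [Int.ofNat 1, Int.negSucc 0, Int.ofNat 1, Int.negSucc 0, Int.negSucc 0, Int.ofNat 1, Int.ofNat 1, Int.ofNat 1, Int.ofNat 1, Int.negSucc 0, Int.ofNat 1, Int.negSucc 0, Int.negSucc 0, Int.ofNat 1, Int.ofNat 1, Int.ofNat 1, Int.negSucc 2, Int.ofNat 1, Int.negSucc 0, Int.ofNat 1, Int.ofNat 1, Int.negSucc 0, Int.ofNat 1, Int.ofNat 1],
  [Int.negSucc 0, Int.negSucc 0, Int.ofNat 1, Int.ofNat 1, Int.ofNat 1, Int.ofNat 1, Int.negSucc 0, Int.ofNat 1, Int.negSucc 0, Int.negSucc 0, Int.ofNat 1, Int.ofNat 1, Int.ofNat 1, Int.negSucc 2, Int.ofNat 1, Int.negSucc 0, Int.ofNat 1, Int.ofNat 1, Int.negSucc 0, Int.ofNat 1, Int.ofNat 1, Int.negSucc 0, Int.ofNat 1, Int.ofNat 1],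
  [Int.ofNat 1, Int.ofNat 1, Int.negSucc 0, Int.negSucc 0, Int.ofNat 1, Int.negSucc 0, Int.negSucc 0, Int.ofNat 1, Int.negSucc 0, Int.negSucc 0, Int.ofNat 1, Int.ofNat 1, Int.ofNat 1, Int.negSucc 2, Int.negSucc 0, Int.negSucc 0, Int.ofNat 1, Int.negSucc 0, Int.negSucc 0, Int.ofNat 1, Int.ofNat 1, Int.negSucc 0, Int.ofNat 1, Int.negSucc 0],
  [Int.ofNat 1, Int.negSucc 0, Int.ofNat 1, Int.negSucc 0, Int.negSucc 0, Int.ofNat 1, Int.negSucc 0, Int.ofNat 1, Int.ofNat 1, Int.negSucc 2, Int.ofNat 1, Int.negSucc 0, Int.negSucc 0, Int.ofNat 1, Int.ofNat 1, Int.negSucc 0, Int.negSucc 0, Int.negSucc 0, Int.ofNat 1, Int.ofNat 1, Int.negSucc 0, Int.negSucc 0, Int.ofNat 1, Int.negSucc 0],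
  [Int.negSucc 0, Int.ofNat 1, Int.negSucc 0, Int.negSucc 0, Int.negSucc 0, Int.ofNat 1, Int.negSucc 0, Int.ofNat 1, Int.ofNat 1, Int.negSucc 0, Int.ofNat 3, Int.negSucc 0, Int.negSucc 0, Int.ofNat 1, Int.ofNat 1, Int.ofNat 1, Int.negSucc 0, Int.negSucc 0, Int.ofNat 1, Int.ofNat 1, Int.ofNat 1, Int.negSucc 0, Int.ofNat 1, Int.ofNat 1],
  [Int.negSucc 0, Int.ofNat 1, Int.ofNat 1, Int.negSucc 0, Int.negSucc 0, Int.negSucc 0, Int.ofNat 1, Int.ofNat 1, Int.ofNat 1, Int.ofNat 1, Int.negSucc 2, Int.negSucc 0, Int.negSucc 0, Int.ofNat 1, Int.ofNat 1, Int.negSucc 0, Int.negSucc 0, Int.negSucc 0, Int.negSucc 0, Int.ofNat 1, Int.ofNat 1, Int.negSucc 0, Int.negSucc 0, Int.ofNat 1],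
  [Int.ofNat 1, Int.ofNat 1, Int.negSucc 0, Int.ofNat 1, Int.ofNat 1, Int.negSucc 0, Int.ofNat 1, Int.ofNat 1, Int.negSucc 0, Int.ofNat 1, Int.ofNat 1, Int.negSucc 2, Int.negSucc 0, Int.negSucc 0, Int.negSucc 0, Int.ofNat 1, Int.negSucc 0, Int.negSucc 0, Int.negSucc 0, Int.negSucc 0, Int.negSucc 0, Int.ofNat 1, Int.negSucc 0, Int.ofNat 1],
  [Int.ofNat 1, Int.ofNat 1, Int.ofNat 1, Int.ofNat 1, Int.ofNat 1, Int.ofNat 1, Int.negSucc 0, Int.ofNat 1, Int.negSucc 0, Int.negSucc 0, Int.negSucc 0, Int.negSucc 2, Int.negSucc 0, Int.negSucc 0, Int.negSucc 0, Int.negSucc 0, Int.negSucc 0, Int.negSucc 0, Int.ofNat 1, Int.negSucc 0, Int.negSucc 0, Int.ofNat 1, Int.ofNat 1, Int.ofNat 1],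
  [Int.ofNat 1, Int.ofNat 1, Int.ofNat 1, Int.ofNat 1, Int.ofNat 1, Int.ofNat 1, Int.negSucc 0, Int.ofNat 1, Int.ofNat 1, Int.ofNat 1, Int.ofNat 1, Int.negSucc 0, Int.ofNat 1, Int.negSucc 0, Int.negSucc 0, Int.ofNat 1, Int.negSucc 0, Int.negSucc 0, Int.ofNat 3, Int.negSucc 0, Int.ofNat 1, Int.ofNat 1, Int.ofNat 1, Int.ofNat 1],
  [Int.ofNat 1, Int.ofNat 3, Int.negSucc 0, Int.ofNat 1, Int.ofNat 1, Int.ofNat 1, Int.ofNat 1, Int.ofNat 1, Int.negSucc 0, Int.ofNat 1, Int.ofNat 1, Int.negSucc 0, Int.ofNat 1, Int.ofNat 1, Int.negSucc 0, Int.ofNat 1, Int.negSucc 0, Int.negSucc 0, Int.ofNat 1, Int.ofNat 1, Int.ofNat 1, Int.ofNat 1, Int.negSucc 0, Int.ofNat 1],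
  [Int.ofNat 1, Int.negSucc 0, Int.ofNat 3, Int.ofNat 1, Int.ofNat 1, Int.ofNat 1, Int.negSucc 0, Int.negSucc 0, Int.negSucc 0, Int.negSucc 0, Int.negSucc 0, Int.negSucc 0, Int.ofNat 1, Int.ofNat 1, Int.negSucc 0, Int.negSucc 0, Int.negSucc 0, Int.negSucc 0, Int.ofNat 1, Int.negSucc 0, Int.negSucc 0, Int.negSucc 0, Int.negSucc 0, Int.ofNat 1],
  [Int.negSucc 0, Int.negSucc 0, Int.negSucc 0, Int.ofNat 1, Int.negSucc 0, Int.ofNat 3, Int.ofNat 1, Int.ofNat 1, Int.ofNat 1, Int.negSucc 0, Int.negSucc 0, Int.negSucc 0, Int.negSucc 0, Int.negSucc 0, Int.negSucc 0, Int.ofNat 1, Int.ofNat 1, Int.negSucc 0, Int.negSucc 0, Int.negSucc 0, Int.negSucc 0, Int.ofNat 1, Int.negSucc 0, Int.ofNat 1],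
  [Int.ofNat 0, Int.ofNat 0, Int.ofNat 0, Int.ofNat 0, Int.ofNat 0, Int.ofNat 2, Int.ofNat 0, Int.ofNat 0, Int.ofNat 2, Int.ofNat 0, Int.ofNat 0, Int.ofNat 0, Int.ofNat 0, Int.ofNat 0, Int.negSucc 1, Int.ofNat 2, Int.ofNat 2, Int.negSucc 1, Int.ofNat 0, Int.negSucc 1, Int.ofNat 0, Int.ofNat 0, Int.ofNat 0, Int.negSucc 1],
  [Int.ofNat 0, Int.ofNat 0, Int.ofNat 0, Int.ofNat 0, Int.ofNat 2, Int.ofNat 0, Int.ofNat 0, Int.ofNat 2, Int.ofNat 0, Int.ofNat 0, Int.ofNat 0, Int.ofNat 0, Int.ofNat 0, Int.negSucc 1, Int.ofNat 2, Int.ofNat 2, Int.negSucc 1, Int.ofNat 0, Int.negSucc 1, Int.ofNat 0, Int.ofNat 0, Int.ofNat 0, Int.ofNat 0, Int.negSucc 1],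
  [Int.ofNat 0, Int.ofNat 0, Int.ofNat 0, Int.ofNat 0, Int.ofNat 2, Int.ofNat 0, Int.ofNat 0, Int.negSucc 1, Int.ofNat 0, Int.ofNat 0, Int.ofNat 0, Int.ofNat 0, Int.ofNat 0, Int.negSucc 1, Int.ofNat 2, Int.ofNat 2, Int.negSucc 1, Int.ofNat 0, Int.ofNat 2, Int.ofNat 0, Int.ofNat 0, Int.ofNat 0, Int.ofNat 0, Int.negSucc 1],
  [Int.ofNat 0, Int.ofNat 0, Int.ofNat 0, Int.ofNat 0, Int.negSucc 1, Int.ofNat 0, Int.ofNat 0, Int.negSucc 1, Int.ofNat 0, Int.ofNat 0, Int.ofNat 0, Int.ofNat 0, Int.ofNat 0, Int.ofNat 2, Int.ofNat 2, Int.ofNat 2, Int.ofNat 2, Int.ofNat 0, Int.negSucc 1, Int.ofNat 0, Int.ofNat 0, Int.ofNat 0, Int.ofNat 0, Int.negSucc 1],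
  [Int.ofNat 0, Int.ofNat 0, Int.negSucc 1, Int.ofNat 0, Int.ofNat 0, Int.ofNat 0, Int.negSucc 1, Int.ofNat 0, Int.ofNat 0, Int.ofNat 2, Int.ofNat 0, Int.ofNat 2, Int.ofNat 2, Int.ofNat 0, Int.ofNat 0, Int.ofNat 2, Int.ofNat 0, Int.ofNat 0, Int.ofNat 0, Int.ofNat 0, Int.ofNat 0, Int.negSucc 1, Int.ofNat 0, Int.negSucc 1],
  [Int.ofNat 0, Int.ofNat 0, Int.ofNat 2, Int.ofNat 0, Int.ofNat 0, Int.ofNat 0, Int.negSucc 1, Int.ofNat 0, Int.ofNat 0, Int.negSucc 1, Int.ofNat 0, Int.negSucc 1, Int.ofNat 2, Int.ofNat 0, Int.ofNat 0, Int.ofNat 2, Int.ofNat 0, Int.ofNat 0, Int.ofNat 0, Int.ofNat 0, Int.ofNat 0, Int.ofNat 2, Int.ofNat 0, Int.negSucc 1],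
  [Int.ofNat 0, Int.ofNat 0, Int.ofNat 0, Int.ofNat 2, Int.ofNat 0, Int.ofNat 0, Int.ofNat 0, Int.negSucc 1, Int.ofNat 0, Int.ofNat 0, Int.negSucc 1, Int.ofNat 0, Int.negSucc 1, Int.ofNat 2, Int.ofNat 0, Int.ofNat 0, Int.ofNat 2, Int.ofNat 0, Int.ofNat 0, Int.ofNat 0, Int.ofNat 0, Int.ofNat 0, Int.ofNat 2, Int.negSucc 1],
  [Int.negSucc 0, Int.negSucc 0, Int.negSucc 0, Int.ofNat 1, Int.negSucc 2, Int.negSucc 0, Int.ofNat 1, Int.negSucc 0, Int.ofNat 1, Int.ofNat 1, Int.negSucc 0, Int.ofNat 1, Int.negSucc 0, Int.negSucc 0, Int.negSucc 0, Int.ofNat 1, Int.negSucc 0, Int.negSucc 0, Int.ofNat 1, Int.ofNat 1, Int.ofNat 1, Int.ofNat 1, Int.negSucc 0, Int.ofNat 1],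
  [Int.ofNat 1, Int.negSucc 2, Int.negSucc 0, Int.ofNat 1, Int.negSucc 0, Int.ofNat 1, Int.ofNat 1, Int.negSucc 0, Int.ofNat 1, Int.negSucc 0, Int.negSucc 0, Int.negSucc 0, Int.ofNat 1, Int.negSucc 0, Int.negSucc 0, Int.ofNat 1, Int.ofNat 1, Int.ofNat 1, Int.ofNat 1, Int.negSucc 0, Int.negSucc 0, Int.negSucc 0, Int.negSucc 0, Int.ofNat 1],
  [Int.negSucc 1, Int.ofNat 2, Int.ofNat 0, Int.ofNat 0, Int.ofNat 0, Int.ofNat 0, Int.ofNat 2, Int.ofNat 0, Int.ofNat 0, Int.ofNat 0, Int.ofNat 0, Int.negSucc 1, Int.ofNat 0, Int.ofNat 0, Int.negSucc 1, Int.ofNat 2, Int.ofNat 2, Int.ofNat 0, Int.ofNat 0, Int.ofNat 0, Int.ofNat 0, Int.ofNat 0, Int.ofNat 0, Int.negSucc 1],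
  [Int.negSucc 1, Int.ofNat 2, Int.ofNat 0, Int.ofNat 0, Int.ofNat 0, Int.ofNat 0, Int.ofNat 0, Int.ofNat 0, Int.ofNat 0, Int.ofNat 0, Int.ofNat 0, Int.ofNat 0, Int.ofNat 0, Int.ofNat 2, Int.ofNat 0, Int.ofNat 2, Int.ofNat 0, Int.negSucc 1, Int.ofNat 2, Int.negSucc 1, Int.ofNat 0, Int.ofNat 0, Int.ofNat 0, Int.negSucc 1],
  [Int.ofNat 1, Int.negSucc 2, Int.negSucc 0, Int.ofNat 1, Int.negSucc 0, Int.ofNat 1, Int.ofNat 1, Int.ofNat 1, Int.negSucc 0, Int.negSucc 0, Int.negSucc 0, Int.negSucc 0, Int.negSucc 0, Int.ofNat 1, Int.ofNat 1, Int.ofNat 1, Int.negSucc 0, Int.negSucc 0, Int.ofNat 1, Int.negSucc 0, Int.negSucc 0, Int.ofNat 1, Int.negSucc 0, Int.ofNat 1],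
  [Int.ofNat 1, Int.negSucc 2, Int.ofNat 1, Int.ofNat 1, Int.negSucc 0, Int.negSucc 0, Int.negSucc 0, Int.ofNat 1, Int.negSucc 0, Int.ofNat 1, Int.ofNat 1, Int.negSucc 0, Int.negSucc 0, Int.ofNat 1, Int.ofNat 1, Int.negSucc 0, Int.negSucc 0, Int.negSucc 0, Int.negSucc 0, Int.negSucc 0, Int.negSucc 0, Int.ofNat 1, Int.ofNat 1, Int.ofNat 1],
  [Int.ofNat 1, Int.negSucc 0, Int.negSucc 0, Int.negSucc 0, Int.ofNat 1, Int.negSucc 0, Int.ofNat 1, Int.ofNat 1, Int.negSucc 0, Int.negSucc 0, Int.ofNat 1, Int.ofNat 1, Int.negSucc 0, Int.negSucc 0, Int.negSucc 0, Int.negSucc 0, Int.negSucc 0, Int.negSucc 0, Int.ofNat 1, Int.ofNat 1, Int.ofNat 1, Int.negSucc 2, Int.ofNat 1, Int.ofNat 1],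
  [Int.ofNat 1, Int.ofNat 1, Int.ofNat 1, Int.negSucc 0, Int.negSucc 0, Int.negSucc 0, Int.ofNat 1, Int.negSucc 0, Int.ofNat 1, Int.negSucc 0, Int.negSucc 0, Int.negSucc 0, Int.negSucc 2, Int.ofNat 1, Int.ofNat 1, Int.negSucc 0, Int.ofNat 1, Int.ofNat 1, Int.negSucc 0, Int.ofNat 1, Int.negSucc 0, Int.negSucc 0, Int.negSucc 0, Int.ofNat 1],
  [Int.negSucc 0, Int.ofNat 1, Int.negSucc 0, Int.negSucc 0, Int.negSucc 0, Int.negSucc 0, Int.ofNat 1, Int.ofNat 1, Int.ofNat 1, Int.ofNat 1, Int.ofNat 1, Int.ofNat 1, Int.negSucc 2, Int.ofNat 1, Int.ofNat 1, Int.negSucc 0, Int.ofNat 1, Int.ofNat 1, Int.ofNat 1, Int.ofNat 1, Int.negSucc 0, Int.ofNat 1, Int.negSucc 0, Int.ofNat 1],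
  [Int.negSucc 0, Int.negSucc 0, Int.ofNat 1, Int.negSucc 0, Int.negSucc 0, Int.negSucc 0, Int.negSucc 0, Int.ofNat 1, Int.ofNat 1, Int.ofNat 1, Int.ofNat 1, Int.ofNat 1, Int.ofNat 1, Int.negSucc 2, Int.ofNat 1, Int.ofNat 1, Int.negSucc 0, Int.ofNat 1, Int.ofNat 1, Int.ofNat 1, Int.ofNat 1, Int.negSucc 0, Int.ofNat 1, Int.ofNat 1],
  [Int.ofNat 1, Int.ofNat 1, Int.negSucc 0, Int.negSucc 0, Int.ofNat 1, Int.negSucc 0, Int.negSucc 0, Int.ofNat 1, Int.negSucc 0, Int.negSucc 0, Int.negSucc 0, Int.negSucc 0, Int.negSucc 0, Int.negSucc 0, Int.ofNat 1, Int.negSucc 0, Int.ofNat 1, Int.ofNat 1, Int.negSucc 0, Int.ofNat 1, Int.negSucc 0, Int.negSucc 0, Int.ofNat 3, Int.negSucc 0],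
  [Int.negSucc 0, Int.ofNat 1, Int.negSucc 0, Int.negSucc 0, Int.ofNat 1, Int.negSucc 0, Int.negSucc 0, Int.negSucc 0, Int.negSucc 0, Int.negSucc 0, Int.negSucc 0, Int.ofNat 1, Int.negSucc 0, Int.ofNat 1, Int.ofNat 1, Int.negSucc 0, Int.ofNat 1, Int.negSucc 0, Int.negSucc 0, Int.ofNat 3, Int.ofNat 1, Int.ofNat 1, Int.negSucc 0, Int.negSucc 0],
  [Int.ofNat 0, Int.negSucc 1, Int.ofNat 0, Int.ofNat 0, Int.ofNat 0, Int.ofNat 0, Int.negSucc 1, Int.negSucc 1, Int.ofNat 0, Int.ofNat 0, Int.ofNat 0, Int.ofNat 2, Int.ofNat 0, Int.ofNat 0, Int.ofNat 2, Int.ofNat 0, Int.ofNat 0, Int.ofNat 0, Int.ofNat 0, Int.ofNat 2, Int.ofNat 2, Int.ofNat 0, Int.negSucc 1, Int.ofNat 0],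
  [Int.ofNat 0, Int.negSucc 1, Int.ofNat 0, Int.ofNat 0, Int.ofNat 0, Int.negSucc 1, Int.ofNat 0, Int.ofNat 0, Int.ofNat 0, Int.ofNat 0, Int.ofNat 2, Int.ofNat 0, Int.ofNat 0, Int.ofNat 0, Int.negSucc 1, Int.ofNat 0, Int.ofNat 0, Int.ofNat 2, Int.negSucc 1, Int.ofNat 2, Int.ofNat 0, Int.ofNat 0, Int.ofNat 2, Int.ofNat 0],
  [Int.negSucc 0, Int.ofNat 1, Int.negSucc 0, Int.ofNat 1, Int.negSucc 0, Int.negSucc 0, Int.negSucc 0, Int.negSucc 0, Int.ofNat 1, Int.negSucc 0, Int.ofNat 1, Int.ofNat 1, Int.ofNat 1, Int.negSucc 0, Int.negSucc 0, Int.negSucc 0, Int.negSucc 0, Int.ofNat 3, Int.negSucc 0, Int.ofNat 1, Int.negSucc 0, Int.negSucc 0, Int.ofNat 1, Int.negSucc 0],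
  [Int.negSucc 0, Int.ofNat 1, Int.ofNat 1, Int.ofNat 1, Int.negSucc 0, Int.ofNat 1, Int.ofNat 1, Int.negSucc 0, Int.ofNat 1, Int.ofNat 1, Int.negSucc 0, Int.ofNat 1, Int.ofNat 1, Int.negSucc 0, Int.negSucc 0, Int.ofNat 1, Int.negSucc 0, Int.ofNat 3, Int.ofNat 1, Int.ofNat 1, Int.negSucc 0, Int.negSucc 0, Int.negSucc 0, Int.negSucc 0],
  [Int.ofNat 1, Int.ofNat 1, Int.ofNat 1, Int.ofNat 1, Int.negSucc 0, Int.negSucc 0, Int.ofNat 1, Int.negSucc 0, Int.negSucc 0, Int.ofNat 1, Int.ofNat 1, Int.negSucc 0, Int.ofNat 1, Int.ofNat 1, Int.ofNat 1, Int.negSucc 0, Int.negSucc 0, Int.ofNat 1, Int.negSucc 0, Int.ofNat 3, Int.ofNat 1, Int.negSucc 0, Int.negSucc 0, Int.negSucc 0],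
  [Int.ofNat 1, Int.ofNat 1, Int.negSucc 0, Int.ofNat 1, Int.negSucc 0, Int.ofNat 1, Int.negSucc 0, Int.negSucc 0, Int.negSucc 0, Int.negSucc 0, Int.negSucc 0, Int.negSucc 0, Int.ofNat 1, Int.ofNat 1, Int.ofNat 1, Int.ofNat 1, Int.negSucc 0, Int.ofNat 1, Int.ofNat 1, Int.ofNat 3, Int.ofNat 1, Int.negSucc 0, Int.ofNat 1, Int.negSucc 0],
  [Int.negSucc 0, Int.negSucc 0, Int.ofNat 1, Int.negSucc 0, Int.negSucc 0, Int.negSucc 0, Int.negSucc 0, Int.negSucc 0, Int.negSucc 0, Int.negSucc 0, Int.negSucc 0, Int.negSucc 0, Int.ofNat 1, Int.ofNat 1, Int.negSucc 0, Int.ofNat 1, Int.negSucc 0, Int.negSucc 0, Int.ofNat 1, Int.ofNat 3, Int.ofNat 1, Int.negSucc 0, Int.ofNat 1, Int.ofNat 1],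
  [Int.negSucc 0, Int.ofNat 1, Int.negSucc 0, Int.negSucc 0, Int.ofNat 1, Int.negSucc 0, Int.negSucc 0, Int.negSucc 0, Int.negSucc 0, Int.ofNat 1, Int.negSucc 0, Int.ofNat 3, Int.negSucc 0, Int.negSucc 0, Int.negSucc 0, Int.ofNat 1, Int.ofNat 1, Int.negSucc 0, Int.negSucc 0, Int.ofNat 1, Int.negSucc 0, Int.ofNat 1, Int.negSucc 0, Int.ofNat 1],
  [Int.ofNat 1, Int.negSucc 0, Int.ofNat 1, Int.ofNat 1, Int.ofNat 1, Int.ofNat 1, Int.negSucc 0, Int.negSucc 0, Int.negSucc 0, Int.ofNat 1, Int.negSucc 0, Int.ofNat 3, Int.negSucc 0, Int.negSucc 0, Int.ofNat 1, Int.ofNat 1, Int.ofNat 1, Int.ofNat 1, Int.negSucc 0, Int.ofNat 1, Int.negSucc 0, Int.ofNat 1, Int.negSucc 0, Int.negSucc 0],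
  [Int.negSucc 0, Int.ofNat 1, Int.negSucc 0, Int.ofNat 1, Int.negSucc 0, Int.ofNat 1, Int.ofNat 1, Int.ofNat 1, Int.ofNat 1, Int.negSucc 0, Int.negSucc 0, Int.negSucc 0, Int.ofNat 1, Int.negSucc 0, Int.ofNat 3, Int.negSucc 0, Int.negSucc 0, Int.ofNat 1, Int.ofNat 1, Int.ofNat 1, Int.ofNat 1, Int.negSucc 0, Int.ofNat 1, Int.negSucc 0],
  [Int.ofNat 0, Int.negSucc 1, Int.ofNat 0, Int.negSucc 1, Int.ofNat 0, Int.negSucc 1, Int.ofNat 0, Int.ofNat 0, Int.ofNat 0, Int.ofNat 0, Int.ofNat 0, Int.negSucc 1, Int.ofNat 0, Int.ofNat 0, Int.ofNat 0, Int.ofNat 0, Int.ofNat 0, Int.negSucc 1, Int.ofNat 0, Int.ofNat 0, Int.ofNat 2, Int.negSucc 1, Int.ofNat 2, Int.ofNat 0],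
  [Int.negSucc 1, Int.ofNat 0, Int.negSucc 1, Int.ofNat 0, Int.negSucc 1, Int.ofNat 0, Int.ofNat 0, Int.ofNat 0, Int.ofNat 0, Int.ofNat 0, Int.negSucc 1, Int.ofNat 0, Int.ofNat 0, Int.ofNat 0, Int.ofNat 0, Int.ofNat 0, Int.negSucc 1, Int.ofNat 0, Int.ofNat 0, Int.ofNat 2, Int.negSucc 1, Int.ofNat 2, Int.ofNat 0, Int.ofNat 0],
  [Int.ofNat 2, Int.ofNat 0, Int.ofNat 2, Int.ofNat 0, Int.negSucc 1, Int.ofNat 0, Int.ofNat 0, Int.ofNat 0, Int.ofNat 0, Int.ofNat 0, Int.ofNat 2, Int.ofNat 0, Int.ofNat 0, Int.ofNat 0, Int.ofNat 0, Int.ofNat 0, Int.negSucc 1, Int.ofNat 0, Int.ofNat 0, Int.ofNat 2, Int.negSucc 1, Int.negSucc 1, Int.ofNat 0, Int.ofNat 0],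
  [Int.negSucc 1, Int.ofNat 0, Int.negSucc 1, Int.ofNat 0, Int.ofNat 2, Int.ofNat 0, Int.ofNat 0, Int.ofNat 0, Int.ofNat 0, Int.ofNat 0, Int.ofNat 2, Int.ofNat 0, Int.ofNat 0, Int.ofNat 0, Int.ofNat 0, Int.ofNat 0, Int.ofNat 2, Int.ofNat 0, Int.ofNat 0, Int.ofNat 2, Int.negSucc 1, Int.negSucc 1, Int.ofNat 0, Int.ofNat 0],
  [Int.negSucc 1, Int.negSucc 1, Int.ofNat 0, Int.ofNat 0, Int.ofNat 0, Int.ofNat 2, Int.ofNat 2, Int.negSucc 1, Int.ofNat 0, Int.ofNat 2, Int.negSucc 1, Int.ofNat 0, Int.ofNat 0, Int.ofNat 0, Int.ofNat 2, Int.ofNat 0, Int.ofNat 0, Int.ofNat 0, Int.ofNat 0, Int.ofNat 0, Int.ofNat 0, Int.ofNat 0, Int.ofNat 0, Int.ofNat 0],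
  [Int.ofNat 2, Int.negSucc 1, Int.ofNat 0, Int.ofNat 0, Int.ofNat 0, Int.ofNat 2, Int.ofNat 2, Int.ofNat 2, Int.ofNat 0, Int.negSucc 1, Int.ofNat 2, Int.ofNat 0, Int.ofNat 0, Int.ofNat 0, Int.ofNat 2, Int.ofNat 0, Int.ofNat 0, Int.ofNat 0, Int.ofNat 0, Int.ofNat 0, Int.ofNat 0, Int.ofNat 0, Int.ofNat 0, Int.ofNat 0],
  [Int.ofNat 0, Int.ofNat 2, Int.negSucc 1, Int.ofNat 0, Int.ofNat 0, Int.ofNat 0, Int.ofNat 2, Int.ofNat 2, Int.ofNat 2, Int.ofNat 0, Int.negSucc 1, Int.ofNat 2, Int.ofNat 0, Int.ofNat 0, Int.ofNat 0, Int.ofNat 2, Int.ofNat 0, Int.ofNat 0, Int.ofNat 0, Int.ofNat 0, Int.ofNat 0, Int.ofNat 0, Int.ofNat 0, Int.ofNat 0],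
  [Int.ofNat 0, Int.negSucc 1, Int.ofNat 2, Int.ofNat 0, Int.ofNat 0, Int.ofNat 0, Int.ofNat 0, Int.ofNat 0, Int.ofNat 0, Int.ofNat 0, Int.negSucc 1, Int.ofNat 0, Int.negSucc 1, Int.ofNat 0, Int.ofNat 0, Int.ofNat 2, Int.ofNat 0, Int.ofNat 0, Int.negSucc 1, Int.negSucc 1, Int.ofNat 0, Int.negSucc 1, Int.ofNat 0, Int.ofNat 0],
  [Int.ofNat 0, Int.ofNat 0, Int.ofNat 0, Int.ofNat 0, Int.ofNat 0, Int.ofNat 0, Int.ofNat 0, Int.negSucc 1, Int.ofNat 0, Int.negSucc 1, Int.ofNat 0, Int.ofNat 0, Int.ofNat 2, Int.ofNat 0, Int.ofNat 0, Int.negSucc 1, Int.negSucc 1, Int.ofNat 0, Int.negSucc 1, Int.ofNat 0, Int.ofNat 0, Int.negSucc 1, Int.ofNat 2, Int.ofNat 0],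
  [Int.ofNat 0, Int.ofNat 0, Int.ofNat 0, Int.ofNat 0, Int.ofNat 0, Int.ofNat 0, Int.ofNat 2, Int.ofNat 0, Int.ofNat 0, Int.ofNat 0, Int.ofNat 2, Int.ofNat 0, Int.ofNat 2, Int.ofNat 0, Int.ofNat 0, Int.ofNat 0, Int.negSucc 1, Int.ofNat 0, Int.negSucc 1, Int.ofNat 2, Int.ofNat 2, Int.ofNat 0, Int.ofNat 2, Int.ofNat 0],
  [Int.ofNat 0, Int.ofNat 2, Int.ofNat 0, Int.ofNat 0, Int.negSucc 1, Int.ofNat 0, Int.ofNat 0, Int.ofNat 2, Int.ofNat 2, Int.ofNat 0, Int.ofNat 2, Int.ofNat 0, Int.ofNat 0, Int.negSucc 1, Int.ofNat 2, Int.ofNat 0, Int.ofNat 0, Int.ofNat 0, Int.ofNat 0, Int.ofNat 0, Int.ofNat 0, Int.ofNat 0, Int.ofNat 2, Int.ofNat 0],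
  [Int.ofNat 1, Int.negSucc 0, Int.ofNat 1, Int.negSucc 0, Int.negSucc 0, Int.negSucc 0, Int.negSucc 0, Int.ofNat 1, Int.ofNat 1, Int.negSucc 0, Int.ofNat 1, Int.negSucc 0, Int.negSucc 0, Int.negSucc 0, Int.ofNat 1, Int.negSucc 0, Int.ofNat 1, Int.negSucc 0, Int.negSucc 0, Int.negSucc 0, Int.negSucc 0, Int.negSucc 0, Int.ofNat 3, Int.ofNat 1],
  [Int.ofNat 1, Int.negSucc 0, Int.negSucc 0, Int.negSucc 0, Int.negSucc 0, Int.ofNat 1, Int.ofNat 1, Int.ofNat 1, Int.ofNat 1, Int.ofNat 1, Int.negSucc 0, Int.negSucc 0, Int.negSucc 0, Int.negSucc 0, Int.ofNat 1, Int.ofNat 1, Int.ofNat 1, Int.negSucc 0, Int.ofNat 1, Int.negSucc 0, Int.negSucc 0, Int.negSucc 0, Int.negSucc 2, Int.ofNat 1],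
  [Int.negSucc 0, Int.ofNat 1, Int.negSucc 0, Int.ofNat 1, Int.ofNat 1, Int.ofNat 1, Int.negSucc 0, Int.negSucc 0, Int.ofNat 1, Int.negSucc 0, Int.negSucc 0, Int.ofNat 1, Int.ofNat 1, Int.negSucc 0, Int.negSucc 0, Int.ofNat 1, Int.negSucc 0, Int.negSucc 0, Int.ofNat 1, Int.negSucc 0, Int.ofNat 1, Int.negSucc 0, Int.negSucc 2, Int.ofNat 1],
  [Int.ofNat 1, Int.negSucc 2, Int.ofNat 1, Int.ofNat 1, Int.negSucc 0, Int.negSucc 0, Int.negSucc 0, Int.negSucc 0, Int.ofNat 1, Int.ofNat 1, Int.negSucc 0, Int.negSucc 0, Int.negSucc 0, Int.negSucc 0, Int.ofNat 1, Int.ofNat 1, Int.negSucc 0, Int.ofNat 1, Int.negSucc 0, Int.negSucc 0, Int.ofNat 1, Int.ofNat 1, Int.ofNat 1, Int.negSucc 0],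
  [Int.negSucc 0, Int.negSucc 2, Int.negSucc 0, Int.ofNat 1, Int.negSucc 0, Int.negSucc 0, Int.negSucc 0, Int.ofNat 1, Int.ofNat 1, Int.negSucc 0, Int.ofNat 1, Int.ofNat 1, Int.negSucc 0, Int.negSucc 0, Int.ofNat 1, Int.ofNat 1, Int.negSucc 0, Int.ofNat 1, Int.ofNat 1, Int.negSucc 0, Int.ofNat 1, Int.negSucc 0, Int.ofNat 1, Int.negSucc 0],
  [Int.ofNat 1, Int.negSucc 0, Int.negSucc 2, Int.negSucc 0, Int.ofNat 1, Int.negSucc 0, Int.negSucc 0, Int.negSucc 0, Int.ofNat 1, Int.ofNat 1, Int.negSucc 0, Int.ofNat 1, Int.ofNat 1, Int.negSucc 0, Int.negSucc 0, Int.ofNat 1, Int.ofNat 1, Int.negSucc 0, Int.ofNat 1, Int.ofNat 1, Int.negSucc 0, Int.ofNat 1, Int.negSucc 0, Int.negSucc 0],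
  [Int.negSucc 2, Int.negSucc 0, Int.ofNat 1, Int.ofNat 1, Int.ofNat 1, Int.ofNat 1, Int.negSucc 0, Int.negSucc 0, Int.negSucc 0, Int.ofNat 1, Int.negSucc 0, Int.negSucc 0, Int.negSucc 0, Int.negSucc 0, Int.ofNat 1, Int.ofNat 1, Int.ofNat 1, Int.ofNat 1, Int.negSucc 0, Int.ofNat 1, Int.negSucc 0, Int.ofNat 1, Int.negSucc 0, Int.negSucc 0],
  [Int.ofNat 1, Int.ofNat 1, Int.ofNat 1, Int.negSucc 0, Int.negSucc 0, Int.negSucc 0, Int.ofNat 1, Int.negSucc 0, Int.negSucc 0, Int.negSucc 0, Int.negSucc 0, Int.ofNat 1, Int.ofNat 1, Int.ofNat 1, Int.ofNat 1, Int.negSucc 0, Int.ofNat 1, Int.negSucc 0, Int.ofNat 1, Int.negSucc 0, Int.negSucc 2, Int.negSucc 0, Int.ofNat 1, Int.negSucc 0],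
  [Int.ofNat 0, Int.ofNat 0, Int.ofNat 0, Int.ofNat 0, Int.negSucc 1, Int.ofNat 0, Int.ofNat 2, Int.ofNat 0, Int.negSucc 1, Int.ofNat 2, Int.ofNat 2, Int.ofNat 0, Int.ofNat 0, Int.ofNat 0, Int.ofNat 2, Int.ofNat 2, Int.ofNat 0, Int.ofNat 0, Int.ofNat 0, Int.ofNat 0, Int.ofNat 0, Int.ofNat 0, Int.ofNat 0, Int.ofNat 2],
  [Int.ofNat 0, Int.ofNat 2, Int.negSucc 1, Int.ofNat 0, Int.ofNat 0, Int.ofNat 0, Int.ofNat 0, Int.ofNat 2, Int.ofNat 0, Int.ofNat 0, Int.ofNat 0, Int.ofNat 0, Int.ofNat 2, Int.ofNat 0, Int.ofNat 0, Int.ofNat 2, Int.negSucc 1, Int.ofNat 2, Int.ofNat 0, Int.ofNat 0, Int.ofNat 0, Int.ofNat 0, Int.ofNat 0, Int.ofNat 2],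
  [Int.ofNat 1, Int.negSucc 0, Int.ofNat 3, Int.negSucc 0, Int.ofNat 1, Int.negSucc 0, Int.negSucc 0, Int.ofNat 1, Int.negSucc 0, Int.negSucc 0, Int.negSucc 0, Int.negSucc 0, Int.ofNat 1, Int.ofNat 1, Int.negSucc 0, Int.ofNat 1, Int.negSucc 0, Int.ofNat 1, Int.negSucc 0, Int.negSucc 0, Int.negSucc 0, Int.negSucc 0, Int.ofNat 1, Int.negSucc 0],
  [Int.ofNat 1, Int.negSucc 0, Int.negSucc 2, Int.negSucc 0, Int.ofNat 1, Int.ofNat 1, Int.ofNat 1, Int.ofNat 1, Int.negSucc 0, Int.ofNat 1, Int.ofNat 1, Int.negSucc 0, Int.ofNat 1, Int.ofNat 1, Int.negSucc 0, Int.negSucc 0, Int.negSucc 0, Int.ofNat 1, Int.ofNat 1, Int.negSucc 0, Int.negSucc 0, Int.negSucc 0, Int.negSucc 0, Int.negSucc 0],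
  [Int.ofNat 1, Int.negSucc 2, Int.ofNat 1, Int.ofNat 1, Int.ofNat 1, Int.negSucc 0, Int.negSucc 0, Int.negSucc 0, Int.negSucc 0, Int.negSucc 0, Int.negSucc 0, Int.ofNat 1, Int.ofNat 1, Int.ofNat 1, Int.negSucc 0, Int.ofNat 1, Int.negSucc 0, Int.negSucc 0, Int.ofNat 1, Int.ofNat 1, Int.negSucc 0, Int.negSucc 0, Int.ofNat 1, Int.negSucc 0],
  [Int.ofNat 1, Int.negSucc 2, Int.negSucc 0, Int.ofNat 1, Int.ofNat 1, Int.ofNat 1, Int.ofNat 1, Int.negSucc 0, Int.negSucc 0, Int.ofNat 1, Int.ofNat 1, Int.ofNat 1, Int.ofNat 1, Int.ofNat 1, Int.negSucc 0, Int.negSucc 0, Int.negSucc 0, Int.negSucc 0, Int.negSucc 0, Int.ofNat 1, Int.negSucc 0, Int.negSucc 0, Int.negSucc 0, Int.negSucc 0],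
  [Int.negSucc 2, Int.ofNat 1, Int.negSucc 0, Int.ofNat 1, Int.ofNat 1, Int.ofNat 1, Int.ofNat 1, Int.negSucc 0, Int.negSucc 0, Int.ofNat 1, Int.ofNat 1, Int.ofNat 1, Int.ofNat 1, Int.ofNat 1, Int.negSucc 0, Int.negSucc 0, Int.negSucc 0, Int.negSucc 0, Int.negSucc 0, Int.ofNat 1, Int.negSucc 0, Int.negSucc 0, Int.negSucc 0, Int.negSucc 0],
  [Int.negSucc 2, Int.negSucc 0, Int.ofNat 1, Int.ofNat 1, Int.negSucc 0, Int.negSucc 0, Int.ofNat 1, Int.ofNat 1, Int.negSucc 0, Int.ofNat 1, Int.negSucc 0, Int.ofNat 1, Int.negSucc 0, Int.ofNat 1, Int.negSucc 0, Int.negSucc 0, Int.ofNat 1, Int.ofNat 1, Int.ofNat 1, Int.negSucc 0, Int.ofNat 1, Int.negSucc 0, Int.negSucc 0, Int.negSucc 0],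
  [Int.ofNat 1, Int.negSucc 0, Int.negSucc 2, Int.ofNat 1, Int.negSucc 0, Int.negSucc 0, Int.ofNat 1, Int.ofNat 1, Int.negSucc 0, Int.ofNat 1, Int.negSucc 0, Int.ofNat 1, Int.negSucc 0, Int.ofNat 1, Int.negSucc 0, Int.negSucc 0, Int.ofNat 1, Int.ofNat 1, Int.ofNat 1, Int.negSucc 0, Int.ofNat 1, Int.negSucc 0, Int.negSucc 0, Int.negSucc 0],
  [Int.ofNat 1, Int.negSucc 0, Int.negSucc 0, Int.ofNat 1, Int.negSucc 0, Int.negSucc 2, Int.ofNat 1, Int.negSucc 0, Int.negSucc 0, Int.ofNat 1, Int.ofNat 1, Int.negSucc 0, Int.ofNat 1, Int.negSucc 0, Int.ofNat 1, Int.negSucc 0, Int.ofNat 1, Int.negSucc 0, Int.negSucc 0, Int.ofNat 1, Int.ofNat 1, Int.ofNat 1, Int.negSucc 0, Int.negSucc 0],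
  [Int.negSucc 1, Int.ofNat 0, Int.ofNat 0, Int.ofNat 2, Int.ofNat 0, Int.negSucc 1, Int.ofNat 0, Int.negSucc 1, Int.ofNat 0, Int.ofNat 0, Int.ofNat 0, Int.ofNat 0, Int.ofNat 2, Int.ofNat 0, Int.ofNat 2, Int.negSucc 1, Int.ofNat 2, Int.ofNat 0, Int.ofNat 0, Int.ofNat 0, Int.ofNat 0, Int.ofNat 0, Int.ofNat 0, Int.ofNat 0],
  [Int.ofNat 0, Int.ofNat 0, Int.ofNat 2, Int.ofNat 0, Int.negSucc 1, Int.ofNat 0, Int.negSucc 1, Int.ofNat 0, Int.ofNat 0, Int.ofNat 0, Int.ofNat 0, Int.ofNat 2, Int.ofNat 0, Int.ofNat 2, Int.negSucc 1, Int.ofNat 2, Int.ofNat 0, Int.ofNat 0, Int.ofNat 0, Int.ofNat 0, Int.ofNat 0, Int.ofNat 0, Int.negSucc 1, Int.ofNat 0],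
  [Int.ofNat 0, Int.ofNat 0, Int.negSucc 1, Int.ofNat 0, Int.negSucc 1, Int.ofNat 0, Int.negSucc 1, Int.ofNat 0, Int.ofNat 0, Int.ofNat 0, Int.ofNat 0, Int.negSucc 1, Int.ofNat 0, Int.ofNat 2, Int.negSucc 1, Int.ofNat 2, Int.ofNat 0, Int.ofNat 0, Int.ofNat 0, Int.ofNat 0, Int.ofNat 0, Int.ofNat 0, Int.negSucc 1, Int.ofNat 0],
  [Int.ofNat 0, Int.ofNat 0, Int.ofNat 2, Int.ofNat 0, Int.ofNat 2, Int.ofNat 0, Int.ofNat 2, Int.ofNat 0, Int.ofNat 0, Int.ofNat 0, Int.ofNat 0, Int.negSucc 1, Int.ofNat 0, Int.negSucc 1, Int.negSucc 1, Int.ofNat 2, Int.ofNat 0, Int.ofNat 0, Int.ofNat 0, Int.ofNat 0, Int.ofNat 0, Int.ofNat 0, Int.negSucc 1, Int.ofNat 0],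
  [Int.ofNat 0, Int.ofNat 2, Int.ofNat 0, Int.ofNat 0, Int.ofNat 0, Int.ofNat 0, Int.ofNat 2, Int.ofNat 0, Int.ofNat 0, Int.ofNat 0, Int.ofNat 0, Int.negSucc 1, Int.negSucc 1, Int.ofNat 0, Int.ofNat 0, Int.ofNat 2, Int.ofNat 0, Int.negSucc 1, Int.ofNat 2, Int.ofNat 0, Int.ofNat 0, Int.ofNat 0, Int.negSucc 1, Int.ofNat 0],
  [Int.ofNat 0, Int.ofNat 2, Int.ofNat 0, Int.ofNat 0, Int.ofNat 0, Int.ofNat 0, Int.ofNat 2, Int.ofNat 0, Int.ofNat 0, Int.ofNat 0, Int.ofNat 0, Int.ofNat 2, Int.negSucc 1, Int.ofNat 0, Int.ofNat 0, Int.ofNat 2, Int.ofNat 0, Int.negSucc 1, Int.negSucc 1, Int.ofNat 0, Int.ofNat 0, Int.ofNat 0, Int.negSucc 1, Int.ofNat 0],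
  [Int.negSucc 1, Int.ofNat 0, Int.ofNat 2, Int.ofNat 0, Int.ofNat 0, Int.ofNat 0, Int.ofNat 0, Int.ofNat 2, Int.ofNat 0, Int.ofNat 0, Int.ofNat 0, Int.ofNat 0, Int.ofNat 2, Int.negSucc 1, Int.ofNat 0, Int.ofNat 0, Int.ofNat 2, Int.ofNat 0, Int.negSucc 1, Int.negSucc 1, Int.ofNat 0, Int.ofNat 0, Int.ofNat 0, Int.ofNat 0],
  [Int.ofNat 2, Int.ofNat 0, Int.negSucc 1, Int.ofNat 0, Int.ofNat 0, Int.ofNat 0, Int.ofNat 0, Int.ofNat 2, Int.ofNat 0, Int.ofNat 0, Int.ofNat 0, Int.ofNat 0, Int.ofNat 2, Int.negSucc 1, Int.ofNat 0, Int.ofNat 0, Int.ofNat 2, Int.ofNat 0, Int.negSucc 1, Int.negSucc 1, Int.ofNat 0, Int.ofNat 0, Int.ofNat 0, Int.ofNat 0],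
  [Int.ofNat 0, Int.ofNat 0, Int.ofNat 0, Int.ofNat 0, Int.ofNat 2, Int.ofNat 0, Int.ofNat 0, Int.ofNat 0, Int.ofNat 0, Int.ofNat 2, Int.negSucc 1, Int.ofNat 0, Int.ofNat 0, Int.ofNat 2, Int.ofNat 0, Int.negSucc 1, Int.negSucc 1, Int.ofNat 0, Int.ofNat 0, Int.ofNat 0, Int.ofNat 2, Int.ofNat 0, Int.negSucc 1, Int.ofNat 0],
  [Int.ofNat 0, Int.ofNat 0, Int.ofNat 0, Int.ofNat 0, Int.ofNat 2, Int.ofNat 0, Int.ofNat 0, Int.ofNat 0, Int.ofNat 0, Int.ofNat 2, Int.negSucc 1, Int.ofNat 0, Int.ofNat 0, Int.ofNat 2, Int.ofNat 0, Int.negSucc 1, Int.negSucc 1, Int.ofNat 0, Int.ofNat 0, Int.ofNat 0, Int.ofNat 2, Int.ofNat 0, Int.negSucc 1, Int.ofNat 0],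
  [Int.ofNat 0, Int.ofNat 0, Int.ofNat 2, Int.ofNat 0, Int.ofNat 0, Int.ofNat 0, Int.ofNat 0, Int.negSucc 1, Int.ofNat 0, Int.ofNat 2, Int.ofNat 2, Int.ofNat 0, Int.ofNat 2, Int.negSucc 1, Int.negSucc 1, Int.negSucc 1, Int.ofNat 0, Int.ofNat 0, Int.ofNat 0, Int.ofNat 0, Int.ofNat 0, Int.ofNat 0, Int.ofNat 0, Int.ofNat 0],
  [Int.ofNat 1, Int.ofNat 1, Int.negSucc 0, Int.ofNat 1, Int.ofNat 1, Int.ofNat 1, Int.ofNat 1, Int.negSucc 0, Int.negSucc 0, Int.ofNat 1, Int.ofNat 1, Int.negSucc 0, Int.ofNat 1, Int.negSucc 0, Int.negSucc 0, Int.negSucc 2, Int.ofNat 1, Int.ofNat 1, Int.negSucc 0, Int.ofNat 1, Int.negSucc 0, Int.ofNat 1, Int.ofNat 1, Int.ofNat 1],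
  [Int.ofNat 1, Int.ofNat 1, Int.ofNat 1, Int.ofNat 1, Int.ofNat 1, Int.negSucc 0, Int.negSucc 0, Int.negSucc 0, Int.negSucc 0, Int.negSucc 0, Int.negSucc 0, Int.negSucc 0, Int.ofNat 1, Int.negSucc 0, Int.negSucc 0, Int.ofNat 3, Int.ofNat 1, Int.ofNat 1, Int.ofNat 1, Int.ofNat 1, Int.negSucc 0, Int.ofNat 1, Int.negSucc 0, Int.ofNat 1],
  [Int.negSucc 0, Int.ofNat 1, Int.negSucc 0, Int.negSucc 0, Int.negSucc 0, Int.negSucc 0, Int.ofNat 1, Int.ofNat 1, Int.negSucc 0, Int.negSucc 0, Int.negSucc 0, Int.negSucc 0, Int.ofNat 3, Int.ofNat 1, Int.ofNat 1, Int.ofNat 1, Int.ofNat 1, Int.ofNat 1, Int.negSucc 0, Int.ofNat 1, Int.ofNat 1, Int.ofNat 1, Int.negSucc 0, Int.ofNat 1],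
  [Int.ofNat 1, Int.negSucc 0, Int.negSucc 0, Int.ofNat 1, Int.ofNat 1, Int.negSucc 0, Int.ofNat 1, Int.ofNat 1, Int.ofNat 1, Int.negSucc 0, Int.ofNat 1, Int.negSucc 0, Int.ofNat 1, Int.ofNat 1, Int.negSucc 0, Int.negSucc 0, Int.negSucc 0, Int.negSucc 0, Int.ofNat 1, Int.ofNat 1, Int.negSucc 0, Int.ofNat 3, Int.ofNat 1, Int.negSucc 0],
  [Int.negSucc 0, Int.negSucc 0, Int.ofNat 1, Int.ofNat 1, Int.ofNat 1, Int.negSucc 0, Int.ofNat 1, Int.negSucc 0, Int.ofNat 1, Int.ofNat 1, Int.negSucc 0, Int.ofNat 1, Int.ofNat 1, Int.ofNat 1, Int.negSucc 0, Int.negSucc 0, Int.negSucc 0, Int.negSucc 0, Int.negSucc 0, Int.ofNat 1, Int.negSucc 0, Int.negSucc 2, Int.ofNat 1, Int.negSucc 0],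
  [Int.ofNat 1, Int.negSucc 0, Int.negSucc 0, Int.ofNat 1, Int.ofNat 1, Int.ofNat 1, Int.negSucc 0, Int.ofNat 1, Int.negSucc 0, Int.ofNat 1, Int.ofNat 1, Int.negSucc 0, Int.ofNat 1, Int.ofNat 1, Int.ofNat 1, Int.negSucc 0, Int.negSucc 0, Int.negSucc 0, Int.negSucc 0, Int.negSucc 0, Int.ofNat 1, Int.negSucc 0, Int.negSucc 2, Int.negSucc 0],
  [Int.negSucc 1, Int.ofNat 0, Int.ofNat 0, Int.ofNat 0, Int.ofNat 2, Int.ofNat 0, Int.ofNat 0, Int.ofNat 2, Int.ofNat 0, Int.ofNat 0, Int.ofNat 0, Int.ofNat 0, Int.ofNat 2, Int.ofNat 2, Int.ofNat 0, Int.negSucc 1, Int.ofNat 0, Int.negSucc 1, Int.ofNat 0, Int.ofNat 0, Int.ofNat 0, Int.ofNat 0, Int.negSucc 1, Int.ofNat 0],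
  [Int.ofNat 0, Int.ofNat 2, Int.ofNat 0, Int.ofNat 0, Int.ofNat 2, Int.ofNat 0, Int.ofNat 0, Int.ofNat 0, Int.ofNat 0, Int.ofNat 2, Int.ofNat 2, Int.ofNat 0, Int.negSucc 1, Int.ofNat 0, Int.negSucc 1, Int.ofNat 0, Int.ofNat 0, Int.ofNat 0, Int.ofNat 0, Int.negSucc 1, Int.negSucc 1, Int.ofNat 0, Int.ofNat 0, Int.ofNat 0],
  [Int.ofNat 1, Int.negSucc 0, Int.ofNat 1, Int.ofNat 1, Int.ofNat 1, Int.ofNat 1, Int.ofNat 1, Int.ofNat 1, Int.ofNat 1, Int.ofNat 1, Int.ofNat 1, Int.ofNat 1, Int.negSucc 0, Int.negSucc 0, Int.negSucc 0, Int.negSucc 0, Int.negSucc 0, Int.ofNat 1, Int.ofNat 1, Int.negSucc 0, Int.negSucc 2, Int.ofNat 1, Int.negSucc 0, Int.ofNat 1],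
  [Int.ofNat 1, Int.ofNat 1, Int.ofNat 1, Int.ofNat 1, Int.ofNat 1, Int.ofNat 1, Int.ofNat 1, Int.ofNat 1, Int.negSucc 0, Int.negSucc 0, Int.negSucc 2, Int.ofNat 1, Int.ofNat 1, Int.negSucc 0, Int.negSucc 0, Int.negSucc 0, Int.ofNat 1, Int.negSucc 0, Int.negSucc 0, Int.ofNat 1, Int.ofNat 1, Int.ofNat 1, Int.negSucc 0, Int.ofNat 1],
  [Int.ofNat 1, Int.ofNat 1, Int.ofNat 1, Int.ofNat 1, Int.ofNat 1, Int.ofNat 1, Int.negSucc 0, Int.negSucc 0, Int.negSucc 0, Int.ofNat 1, Int.negSucc 0, Int.ofNat 1, Int.ofNat 1, Int.negSucc 0, Int.negSucc 0, Int.ofNat 1, Int.ofNat 1, Int.negSucc 0, Int.negSucc 0, Int.negSucc 0, Int.ofNat 3, Int.negSucc 0, Int.negSucc 0, Int.ofNat 1],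
  [Int.ofNat 1, Int.ofNat 1, Int.negSucc 0, Int.ofNat 1, Int.ofNat 1, Int.negSucc 0, Int.ofNat 1, Int.negSucc 0, Int.negSucc 0, Int.negSucc 0, Int.ofNat 1, Int.ofNat 1, Int.ofNat 1, Int.negSucc 0, Int.negSucc 0, Int.negSucc 0, Int.ofNat 1, Int.negSucc 0, Int.ofNat 1, Int.negSucc 0, Int.ofNat 3, Int.negSucc 0, Int.ofNat 1, Int.ofNat 1],
  [Int.negSucc 0, Int.negSucc 0, Int.ofNat 1, Int.ofNat 1, Int.negSucc 0, Int.negSucc 0, Int.negSucc 0, Int.ofNat 3, Int.ofNat 1, Int.negSucc 0, Int.ofNat 1, Int.ofNat 1, Int.ofNat 1, Int.negSucc 0, Int.ofNat 1, Int.negSucc 0, Int.ofNat 1, Int.negSucc 0, Int.ofNat 1, Int.negSucc 0, Int.ofNat 1, Int.negSucc 0, Int.ofNat 1, Int.ofNat 1],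
  [Int.negSucc 0, Int.negSucc 0, Int.negSucc 0, Int.ofNat 1, Int.negSucc 0, Int.ofNat 1, Int.ofNat 1, Int.ofNat 3, Int.ofNat 1, Int.ofNat 1, Int.negSucc 0, Int.ofNat 1, Int.ofNat 1, Int.negSucc 0, Int.ofNat 1, Int.ofNat 1, Int.ofNat 1, Int.negSucc 0, Int.negSucc 0, Int.negSucc 0, Int.ofNat 1, Int.negSucc 0, Int.negSucc 0, Int.ofNat 1],
  [Int.ofNat 0, Int.ofNat 0, Int.ofNat 0, Int.ofNat 0, Int.ofNat 0, Int.ofNat 0, Int.ofNat 0, Int.ofNat 2, Int.ofNat 0, Int.ofNat 0, Int.negSucc 1, Int.ofNat 0, Int.ofNat 0, Int.ofNat 0, Int.ofNat 0, Int.ofNat 0, Int.ofNat 2, Int.negSucc 1, Int.negSucc 1, Int.negSucc 1, Int.ofNat 0, Int.negSucc 1, Int.ofNat 0, Int.negSucc 1],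
  [Int.ofNat 0, Int.negSucc 1, Int.ofNat 0, Int.ofNat 0, Int.ofNat 0, Int.negSucc 1, Int.ofNat 0, Int.ofNat 0, Int.ofNat 2, Int.ofNat 0, Int.ofNat 2, Int.negSucc 1, Int.ofNat 0, Int.ofNat 0, Int.negSucc 1, Int.ofNat 0, Int.ofNat 0, Int.ofNat 0, Int.ofNat 0, Int.ofNat 0, Int.negSucc 1, Int.ofNat 0, Int.ofNat 0, Int.negSucc 1],
  [Int.negSucc 1, Int.ofNat 0, Int.negSucc 1, Int.ofNat 2, Int.ofNat 0, Int.ofNat 0, Int.ofNat 0, Int.ofNat 0, Int.ofNat 2, Int.ofNat 0, Int.ofNat 2, Int.negSucc 1, Int.ofNat 0, Int.ofNat 0, Int.ofNat 0, Int.ofNat 0, Int.ofNat 0, Int.ofNat 2, Int.ofNat 0, Int.ofNat 0, Int.negSucc 1, Int.ofNat 0, Int.ofNat 0, Int.ofNat 0],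
  [Int.negSucc 1, Int.ofNat 0, Int.ofNat 0, Int.negSucc 1, Int.ofNat 0, Int.negSucc 1, Int.ofNat 2, Int.ofNat 0, Int.ofNat 0, Int.ofNat 0, Int.ofNat 0, Int.ofNat 2, Int.ofNat 0, Int.ofNat 2, Int.negSucc 1, Int.ofNat 0, Int.ofNat 0, Int.ofNat 0, Int.ofNat 0, Int.ofNat 0, Int.ofNat 2, Int.ofNat 0, Int.ofNat 0, Int.ofNat 0],
  [Int.ofNat 1, Int.negSucc 0, Int.negSucc 0, Int.ofNat 1, Int.negSucc 0, Int.ofNat 1, Int.ofNat 1, Int.negSucc 0, Int.negSucc 0, Int.negSucc 0, Int.negSucc 0, Int.ofNat 1, Int.negSucc 0, Int.ofNat 1, Int.ofNat 1, Int.negSucc 0, Int.negSucc 0, Int.ofNat 3, Int.negSucc 0, Int.negSucc 0, Int.ofNat 1, Int.negSucc 0, Int.negSucc 0, Int.negSucc 0],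
  [Int.negSucc 0, Int.negSucc 0, Int.ofNat 1, Int.negSucc 0, Int.ofNat 1, Int.ofNat 1, Int.negSucc 0, Int.negSucc 0, Int.negSucc 0, Int.negSucc 0, Int.ofNat 1, Int.negSucc 0, Int.ofNat 1, Int.ofNat 1, Int.negSucc 0, Int.negSucc 0, Int.ofNat 3, Int.negSucc 0, Int.negSucc 0, Int.ofNat 1, Int.negSucc 0, Int.negSucc 0, Int.ofNat 1, Int.negSucc 0],
  [Int.ofNat 1, Int.negSucc 0, Int.negSucc 0, Int.negSucc 0, Int.ofNat 1, Int.ofNat 1, Int.negSucc 0, Int.ofNat 1, Int.negSucc 0, Int.ofNat 1, Int.negSucc 0, Int.ofNat 1, Int.ofNat 1, Int.ofNat 1, Int.negSucc 0, Int.negSucc 0, Int.ofNat 3, Int.negSucc 0, Int.ofNat 1, Int.ofNat 1, Int.negSucc 0, Int.ofNat 1, Int.ofNat 1, Int.negSucc 0],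
  [Int.negSucc 0, Int.ofNat 1, Int.ofNat 1, Int.ofNat 1, Int.negSucc 0, Int.ofNat 1, Int.ofNat 1, Int.ofNat 1, Int.ofNat 1, Int.negSucc 0, Int.negSucc 0, Int.ofNat 1, Int.negSucc 0, Int.negSucc 0, Int.negSucc 0, Int.negSucc 0, Int.negSucc 2, Int.negSucc 0, Int.negSucc 0, Int.ofNat 1, Int.negSucc 0, Int.ofNat 1, Int.ofNat 1, Int.negSucc 0],
  [Int.negSucc 0, Int.ofNat 1, Int.negSucc 0, Int.ofNat 1, Int.ofNat 1, Int.negSucc 0, Int.negSucc 0, Int.negSucc 0, Int.negSucc 0, Int.negSucc 2, Int.ofNat 1, Int.negSucc 0, Int.negSucc 0, Int.ofNat 1, Int.ofNat 1, Int.negSucc 0, Int.negSucc 0, Int.ofNat 1, Int.ofNat 1, Int.negSucc 0, Int.ofNat 1, Int.ofNat 1, Int.ofNat 1, Int.negSucc 0],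
  [Int.ofNat 1, Int.ofNat 1, Int.ofNat 1, Int.ofNat 1, Int.ofNat 1, Int.negSucc 0, Int.negSucc 0, Int.ofNat 1, Int.negSucc 0, Int.ofNat 3, Int.negSucc 0, Int.ofNat 1, Int.negSucc 0, Int.ofNat 1, Int.ofNat 1, Int.negSucc 0, Int.negSucc 0, Int.ofNat 1, Int.negSucc 0, Int.negSucc 0, Int.ofNat 1, Int.negSucc 0, Int.ofNat 1, Int.negSucc 0],
  [Int.ofNat 1, Int.ofNat 1, Int.ofNat 1, Int.ofNat 1, Int.ofNat 1, Int.ofNat 1, Int.negSucc 0, Int.negSucc 0, Int.ofNat 1, Int.negSucc 0, Int.ofNat 3, Int.negSucc 0, Int.ofNat 1, Int.negSucc 0, Int.ofNat 1, Int.ofNat 1, Int.negSucc 0, Int.negSucc 0, Int.ofNat 1, Int.negSucc 0, Int.negSucc 0, Int.ofNat 1, Int.negSucc 0, Int.negSucc 0],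
  [Int.ofNat 0, Int.ofNat 0, Int.ofNat 0, Int.ofNat 0, Int.ofNat 2, Int.ofNat 0, Int.ofNat 0, Int.ofNat 0, Int.ofNat 0, Int.negSucc 1, Int.ofNat 2, Int.negSucc 1, Int.ofNat 0, Int.ofNat 0, Int.ofNat 0, Int.ofNat 0, Int.ofNat 0, Int.negSucc 1, Int.ofNat 0, Int.ofNat 0, Int.negSucc 1, Int.ofNat 2, Int.ofNat 0, Int.ofNat 2],
  [Int.ofNat 0, Int.ofNat 2, Int.ofNat 0, Int.ofNat 0, Int.ofNat 0, Int.ofNat 0, Int.negSucc 1, Int.ofNat 2, Int.negSucc 1, Int.ofNat 0, Int.ofNat 0, Int.ofNat 0, Int.ofNat 0, Int.ofNat 0, Int.negSucc 1, Int.ofNat 0, Int.ofNat 0, Int.negSucc 1, Int.ofNat 2, Int.ofNat 0, Int.ofNat 0, Int.ofNat 0, Int.ofNat 0, Int.ofNat 2],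
  [Int.ofNat 2, Int.ofNat 0, Int.ofNat 2, Int.ofNat 2, Int.ofNat 0, Int.ofNat 2, Int.negSucc 1, Int.ofNat 2, Int.negSucc 1, Int.ofNat 0, Int.ofNat 0, Int.ofNat 0, Int.ofNat 0, Int.ofNat 0, Int.ofNat 0, Int.ofNat 0, Int.ofNat 0, Int.ofNat 0, Int.ofNat 2, Int.ofNat 0, Int.ofNat 0, Int.ofNat 0, Int.ofNat 0, Int.ofNat 0],
  [Int.ofNat 2, Int.negSucc 1, Int.ofNat 0, Int.ofNat 2, Int.ofNat 2, Int.ofNat 2, Int.ofNat 2, Int.ofNat 0, Int.ofNat 0, Int.ofNat 0, Int.ofNat 0, Int.ofNat 0, Int.ofNat 0, Int.ofNat 0, Int.ofNat 0, Int.ofNat 0, Int.negSucc 1, Int.ofNat 0, Int.ofNat 0, Int.ofNat 0, Int.ofNat 0, Int.ofNat 2, Int.ofNat 0, Int.ofNat 0],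
  [Int.negSucc 1, Int.ofNat 2, Int.ofNat 0, Int.ofNat 0, Int.ofNat 2, Int.ofNat 0, Int.ofNat 0, Int.negSucc 1, Int.ofNat 0, Int.ofNat 0, Int.ofNat 0, Int.ofNat 0, Int.ofNat 0, Int.ofNat 0, Int.negSucc 1, Int.ofNat 0, Int.negSucc 1, Int.negSucc 1, Int.ofNat 0, Int.negSucc 1, Int.ofNat 0, Int.ofNat 0, Int.ofNat 0, Int.ofNat 0],
  [Int.negSucc 1, Int.ofNat 2, Int.ofNat 0, Int.ofNat 0, Int.ofNat 2, Int.ofNat 0, Int.ofNat 0, Int.negSucc 1, Int.ofNat 0, Int.ofNat 0, Int.ofNat 0, Int.ofNat 0, Int.ofNat 0, Int.ofNat 0, Int.negSucc 1, Int.ofNat 0, Int.negSucc 1, Int.negSucc 1, Int.ofNat 0, Int.negSucc 1, Int.ofNat 0, Int.ofNat 0, Int.ofNat 0, Int.ofNat 0],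
  [Int.ofNat 0, Int.negSucc 1, Int.ofNat 0, Int.ofNat 0, Int.negSucc 1, Int.ofNat 0, Int.ofNat 0, Int.ofNat 0, Int.ofNat 0, Int.ofNat 0, Int.ofNat 0, Int.negSucc 1, Int.ofNat 0, Int.ofNat 2, Int.negSucc 1, Int.ofNat 0, Int.negSucc 1, Int.ofNat 0, Int.ofNat 0, Int.ofNat 0, Int.negSucc 1, Int.ofNat 2, Int.ofNat 0, Int.ofNat 0],
  [Int.ofNat 0, Int.ofNat 0, Int.negSucc 1, Int.ofNat 0, Int.ofNat 0, Int.ofNat 0, Int.ofNat 0, Int.ofNat 2, Int.negSucc 1, Int.ofNat 0, Int.negSucc 1, Int.ofNat 0, Int.ofNat 2, Int.ofNat 0, Int.ofNat 0, Int.ofNat 0, Int.ofNat 0, Int.negSucc 1, Int.negSucc 1, Int.ofNat 0, Int.ofNat 0, Int.ofNat 0, Int.negSucc 1, Int.ofNat 0],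
  [Int.ofNat 0, Int.ofNat 0, Int.ofNat 2, Int.ofNat 0, Int.ofNat 0, Int.ofNat 0, Int.ofNat 0, Int.negSucc 1, Int.negSucc 1, Int.ofNat 0, Int.ofNat 2, Int.ofNat 0, Int.ofNat 2, Int.ofNat 0, Int.ofNat 0, Int.ofNat 0, Int.ofNat 0, Int.negSucc 1, Int.ofNat 2, Int.ofNat 0, Int.ofNat 0, Int.ofNat 0, Int.negSucc 1, Int.ofNat 0],
  [Int.negSucc 1, Int.ofNat 0, Int.ofNat 0, Int.ofNat 2, Int.ofNat 0, Int.ofNat 0, Int.ofNat 0, Int.ofNat 0, Int.negSucc 1, Int.negSucc 1, Int.ofNat 0, Int.ofNat 2, Int.ofNat 0, Int.ofNat 2, Int.ofNat 0, Int.ofNat 0, Int.ofNat 0, Int.ofNat 0, Int.negSucc 1, Int.ofNat 2, Int.ofNat 0, Int.ofNat 0, Int.ofNat 0, Int.ofNat 0],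
  [Int.ofNat 1, Int.negSucc 0, Int.negSucc 0, Int.ofNat 1, Int.negSucc 0, Int.negSucc 0, Int.negSucc 0, Int.negSucc 0, Int.negSucc 0, Int.negSucc 0, Int.ofNat 1, Int.ofNat 3, Int.ofNat 1, Int.ofNat 1, Int.negSucc 0, Int.ofNat 1, Int.negSucc 0, Int.negSucc 0, Int.negSucc 0, Int.ofNat 1, Int.ofNat 1, Int.negSucc 0, Int.negSucc 0, Int.negSucc 0],
  [Int.ofNat 1, Int.negSucc 0, Int.negSucc 0, Int.negSucc 0, Int.negSucc 0, Int.negSucc 0, Int.negSucc 0, Int.ofNat 1, Int.ofNat 3, Int.ofNat 1, Int.ofNat 1, Int.negSucc 0, Int.ofNat 1, Int.negSucc 0, Int.negSucc 0, Int.negSucc 0, Int.ofNat 1, Int.ofNat 1, Int.negSucc 0, Int.negSucc 0, Int.ofNat 1, Int.negSucc 0, Int.negSucc 0, Int.negSucc 0],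
  [Int.negSucc 1, Int.ofNat 0, Int.ofNat 0, Int.ofNat 0, Int.ofNat 0, Int.ofNat 0, Int.ofNat 0, Int.ofNat 2, Int.ofNat 2, Int.ofNat 0, Int.ofNat 0, Int.negSucc 1, Int.ofNat 0, Int.ofNat 0, Int.ofNat 0, Int.negSucc 1, Int.ofNat 2, Int.ofNat 2, Int.negSucc 1, Int.ofNat 0, Int.ofNat 0, Int.ofNat 0, Int.ofNat 0, Int.ofNat 0],
  [Int.negSucc 1, Int.ofNat 0, Int.ofNat 0, Int.ofNat 0, Int.negSucc 1, Int.ofNat 2, Int.ofNat 0, Int.ofNat 0, Int.ofNat 0, Int.ofNat 0, Int.ofNat 0, Int.ofNat 2, Int.ofNat 0, Int.ofNat 2, Int.ofNat 0, Int.negSucc 1, Int.ofNat 2, Int.ofNat 0, Int.ofNat 0, Int.negSucc 1, Int.ofNat 0, Int.ofNat 0, Int.ofNat 0, Int.ofNat 0],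
  [Int.ofNat 1, Int.negSucc 0, Int.negSucc 0, Int.negSucc 0, Int.negSucc 2, Int.ofNat 1, Int.ofNat 1, Int.ofNat 1, Int.negSucc 0, Int.ofNat 1, Int.ofNat 1, Int.ofNat 1, Int.negSucc 0, Int.ofNat 1, Int.negSucc 0, Int.negSucc 0, Int.ofNat 1, Int.negSucc 0, Int.negSucc 0, Int.negSucc 0, Int.ofNat 1, Int.ofNat 1, Int.negSucc 0, Int.negSucc 0],
  [Int.ofNat 1, Int.negSucc 0, Int.ofNat 1, Int.negSucc 0, Int.negSucc 2, Int.negSucc 0, Int.negSucc 0, Int.ofNat 1, Int.negSucc 0, Int.negSucc 0, Int.negSucc 0, Int.ofNat 1, Int.negSucc 0, Int.ofNat 1, Int.negSucc 0, Int.ofNat 1, Int.ofNat 1, Int.negSucc 0, Int.ofNat 1, Int.negSucc 0, Int.ofNat 1, Int.ofNat 1, Int.ofNat 1, Int.negSucc 0],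
  [Int.negSucc 0, Int.ofNat 1, Int.negSucc 0, Int.negSucc 0, Int.ofNat 1, Int.ofNat 1, Int.negSucc 0, Int.ofNat 1, Int.ofNat 1, Int.negSucc 0, Int.negSucc 0, Int.negSucc 0, Int.ofNat 1, Int.negSucc 0, Int.ofNat 1, Int.ofNat 1, Int.ofNat 1, Int.ofNat 1, Int.negSucc 2, Int.negSucc 0, Int.negSucc 0, Int.negSucc 0, Int.ofNat 1, Int.negSucc 0],
  [Int.negSucc 0, Int.ofNat 1, Int.ofNat 1, Int.negSucc 0, Int.ofNat 1, Int.negSucc 0, Int.ofNat 1, Int.ofNat 1, Int.ofNat 1, Int.ofNat 1, Int.ofNat 1, Int.negSucc 0, Int.ofNat 1, Int.negSucc 0, Int.ofNat 1, Int.negSucc 0, Int.ofNat 1, Int.ofNat 1, Int.ofNat 3, Int.negSucc 0, Int.negSucc 0, Int.negSucc 0, Int.negSucc 0, Int.negSucc 0],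
  [Int.ofNat 1, Int.negSucc 0, Int.negSucc 0, Int.negSucc 0, Int.ofNat 1, Int.negSucc 0, Int.ofNat 1, Int.ofNat 1, Int.negSucc 0, Int.ofNat 1, Int.ofNat 1, Int.negSucc 2, Int.negSucc 0, Int.negSucc 0, Int.ofNat 1, Int.negSucc 0, Int.ofNat 1, Int.ofNat 1, Int.ofNat 1, Int.negSucc 0, Int.negSucc 0, Int.negSucc 0, Int.negSucc 0, Int.ofNat 1],
  [Int.ofNat 1, Int.ofNat 1, Int.ofNat 1, Int.negSucc 0, Int.negSucc 0, Int.negSucc 0, Int.negSucc 0, Int.negSucc 0, Int.ofNat 1, Int.negSucc 0, Int.ofNat 1, Int.negSucc 0, Int.negSucc 0, Int.ofNat 1, Int.ofNat 1, Int.negSucc 0, Int.negSucc 0, Int.negSucc 2, Int.ofNat 1, Int.negSucc 0, Int.ofNat 1, Int.negSucc 0, Int.ofNat 1, Int.ofNat 1],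
  [Int.ofNat 1, Int.ofNat 1, Int.ofNat 1, Int.ofNat 1, Int.negSucc 0, Int.ofNat 1, Int.ofNat 1, Int.ofNat 1, Int.ofNat 1, Int.negSucc 0, Int.ofNat 1, Int.negSucc 0, Int.negSucc 0, Int.ofNat 1, Int.ofNat 3, Int.negSucc 0, Int.negSucc 0, Int.negSucc 0, Int.ofNat 1, Int.ofNat 1, Int.ofNat 1, Int.ofNat 1, Int.ofNat 1, Int.ofNat 1],
  [Int.ofNat 1, Int.ofNat 1, Int.ofNat 1, Int.ofNat 1, Int.ofNat 1, Int.ofNat 1, Int.ofNat 1, Int.negSucc 0, Int.ofNat 1, Int.ofNat 1, Int.ofNat 1, Int.ofNat 1, Int.negSucc 0, Int.ofNat 1, Int.negSucc 0, Int.negSucc 0, Int.ofNat 1, Int.ofNat 3, Int.negSucc 0, Int.negSucc 0, Int.negSucc 0, Int.ofNat 1, Int.ofNat 1, Int.ofNat 1],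
  [Int.ofNat 1, Int.ofNat 1, Int.ofNat 1, Int.negSucc 0, Int.negSucc 0, Int.negSucc 0, Int.ofNat 1, Int.negSucc 0, Int.ofNat 1, Int.ofNat 1, Int.ofNat 1, Int.ofNat 1, Int.negSucc 0, Int.negSucc 0, Int.negSucc 2, Int.negSucc 0, Int.negSucc 0, Int.ofNat 1, Int.negSucc 0, Int.negSucc 0, Int.negSucc 0, Int.ofNat 1, Int.negSucc 0, Int.ofNat 1],
  [Int.ofNat 1, Int.ofNat 1, Int.negSucc 0, Int.negSucc 0, Int.negSucc 0, Int.ofNat 1, Int.negSucc 0, Int.ofNat 1, Int.ofNat 1, Int.ofNat 1, Int.ofNat 1, Int.negSucc 0, Int.negSucc 0, Int.negSucc 2, Int.negSucc 0, Int.negSucc 0, Int.ofNat 1, Int.negSucc 0, Int.negSucc 0, Int.negSucc 0, Int.ofNat 1, Int.negSucc 0, Int.ofNat 1, Int.ofNat 1],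
  [Int.negSucc 0, Int.ofNat 1, Int.ofNat 1, Int.negSucc 0, Int.negSucc 0, Int.ofNat 1, Int.negSucc 0, Int.negSucc 0, Int.ofNat 1, Int.negSucc 0, Int.negSucc 0, Int.ofNat 1, Int.negSucc 0, Int.negSucc 2, Int.negSucc 0, Int.negSucc 0, Int.ofNat 1, Int.negSucc 0, Int.ofNat 1, Int.negSucc 0, Int.ofNat 1, Int.ofNat 1, Int.ofNat 1, Int.ofNat 1],
  [Int.ofNat 1, Int.negSucc 0, Int.negSucc 0, Int.ofNat 1, Int.ofNat 1, Int.ofNat 1, Int.ofNat 1, Int.negSucc 0, Int.negSucc 0, Int.ofNat 1, Int.negSucc 0, Int.ofNat 1, Int.ofNat 1, Int.ofNat 3, Int.negSucc 0, Int.negSucc 0, Int.negSucc 0, Int.negSucc 0, Int.negSucc 0, Int.negSucc 0, Int.ofNat 1, Int.ofNat 1, Int.ofNat 1, Int.ofNat 1],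
  [Int.ofNat 1, Int.negSucc 0, Int.negSucc 0, Int.ofNat 1, Int.negSucc 0, Int.negSucc 0, Int.ofNat 1, Int.ofNat 1, Int.ofNat 1, Int.negSucc 0, Int.ofNat 1, Int.negSucc 0, Int.ofNat 3, Int.negSucc 0, Int.negSucc 0, Int.negSucc 0, Int.ofNat 1, Int.ofNat 1, Int.ofNat 1, Int.negSucc 0, Int.ofNat 1, Int.negSucc 0, Int.ofNat 1, Int.ofNat 1],
  [Int.negSucc 0, Int.negSucc 0, Int.ofNat 1, Int.ofNat 1, Int.negSucc 0, Int.negSucc 0, Int.ofNat 1, Int.negSucc 0, Int.ofNat 1, Int.ofNat 1, Int.negSucc 0, Int.ofNat 1, Int.ofNat 3, Int.negSucc 0, Int.negSucc 0, Int.negSucc 0, Int.ofNat 1, Int.ofNat 1, Int.negSucc 0, Int.negSucc 0, Int.ofNat 1, Int.ofNat 1, Int.ofNat 1, Int.ofNat 1],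
  [Int.ofNat 1, Int.negSucc 0, Int.negSucc 0, Int.ofNat 1, Int.ofNat 1, Int.negSucc 0, Int.negSucc 0, Int.ofNat 1, Int.negSucc 0, Int.ofNat 1, Int.ofNat 1, Int.negSucc 0, Int.ofNat 1, Int.ofNat 3, Int.negSucc 0, Int.negSucc 0, Int.negSucc 0, Int.ofNat 1, Int.ofNat 1, Int.negSucc 0, Int.negSucc 0, Int.ofNat 1, Int.ofNat 1, Int.ofNat 1],
  [Int.negSucc 0, Int.ofNat 1, Int.ofNat 1, Int.ofNat 1, Int.negSucc 0, Int.negSucc 0, Int.negSucc 0, Int.ofNat 1, Int.negSucc 0, Int.ofNat 1, Int.ofNat 1, Int.negSucc 0, Int.ofNat 1, Int.ofNat 1, Int.negSucc 0, Int.negSucc 0, Int.negSucc 2, Int.ofNat 1, Int.ofNat 1, Int.negSucc 0, Int.negSucc 0, Int.ofNat 1, Int.negSucc 0, Int.negSucc 0],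
  [Int.ofNat 1, Int.negSucc 0, Int.negSucc 0, Int.negSucc 0, Int.ofNat 1, Int.negSucc 0, Int.ofNat 1, Int.ofNat 1, Int.negSucc 0, Int.ofNat 1, Int.ofNat 1, Int.negSucc 0, Int.negSucc 0, Int.negSucc 2, Int.ofNat 1, Int.ofNat 1, Int.negSucc 0, Int.negSucc 0, Int.ofNat 1, Int.negSucc 0, Int.negSucc 0, Int.ofNat 1, Int.ofNat 1, Int.negSucc 0],
  [Int.negSucc 1, Int.ofNat 0, Int.ofNat 0, Int.ofNat 0, Int.ofNat 2, Int.ofNat 0, Int.ofNat 0, Int.ofNat 0, Int.ofNat 0, Int.ofNat 0, Int.ofNat 0, Int.ofNat 0, Int.ofNat 0, Int.negSucc 1, Int.ofNat 2, Int.ofNat 0, Int.ofNat 0, Int.ofNat 0, Int.ofNat 2, Int.negSucc 1, Int.negSucc 1, Int.ofNat 0, Int.ofNat 2, Int.ofNat 0],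
  [Int.negSucc 1, Int.ofNat 0, Int.ofNat 2, Int.ofNat 0, Int.ofNat 2, Int.ofNat 0, Int.ofNat 0, Int.ofNat 0, Int.ofNat 0, Int.negSucc 1, Int.negSucc 1, Int.ofNat 0, Int.ofNat 0, Int.ofNat 0, Int.ofNat 2, Int.ofNat 0, Int.ofNat 0, Int.ofNat 2, Int.ofNat 0, Int.ofNat 0, Int.ofNat 0, Int.ofNat 0, Int.negSucc 1, Int.ofNat 0],
  [Int.ofNat 2, Int.ofNat 0, Int.negSucc 1, Int.negSucc 1, Int.ofNat 2, Int.negSucc 1, Int.ofNat 0, Int.ofNat 0, Int.ofNat 0, Int.ofNat 0, Int.ofNat 0, Int.ofNat 0, Int.ofNat 0, Int.ofNat 0, Int.ofNat 0, Int.ofNat 2, Int.ofNat 0, Int.ofNat 0, Int.ofNat 0, Int.ofNat 0, Int.ofNat 2, Int.ofNat 0, Int.negSucc 1, Int.ofNat 0],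
  [Int.ofNat 2, Int.ofNat 0, Int.ofNat 2, Int.negSucc 1, Int.ofNat 2, Int.ofNat 2, Int.ofNat 0, Int.ofNat 0, Int.ofNat 0, Int.ofNat 0, Int.ofNat 0, Int.ofNat 0, Int.ofNat 0, Int.ofNat 0, Int.ofNat 0, Int.negSucc 1, Int.ofNat 0, Int.ofNat 0, Int.ofNat 0, Int.ofNat 0, Int.ofNat 2, Int.ofNat 0, Int.ofNat 2, Int.ofNat 0],
  [Int.ofNat 0, Int.ofNat 0, Int.ofNat 0, Int.ofNat 0, Int.ofNat 0, Int.ofNat 0, Int.ofNat 0, Int.negSucc 1, Int.ofNat 2, Int.ofNat 2, Int.ofNat 0, Int.ofNat 0, Int.negSucc 1, Int.ofNat 2, Int.ofNat 0, Int.ofNat 0, Int.ofNat 0, Int.ofNat 0, Int.ofNat 0, Int.ofNat 2, Int.ofNat 2, Int.ofNat 0, Int.ofNat 2, Int.ofNat 0],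
  [Int.ofNat 0, Int.ofNat 2, Int.ofNat 0, Int.ofNat 0, Int.ofNat 0, Int.ofNat 2, Int.ofNat 2, Int.ofNat 2, Int.ofNat 2, Int.ofNat 0, Int.ofNat 0, Int.ofNat 0, Int.ofNat 0, Int.negSucc 1, Int.ofNat 0, Int.ofNat 0, Int.ofNat 0, Int.ofNat 0, Int.ofNat 0, Int.ofNat 0, Int.ofNat 2, Int.negSucc 1, Int.ofNat 0, Int.ofNat 0],
  [Int.ofNat 0, Int.ofNat 2, Int.ofNat 0, Int.ofNat 0, Int.ofNat 0, Int.ofNat 2, Int.ofNat 2, Int.negSucc 1, Int.ofNat 2, Int.ofNat 0, Int.ofNat 0, Int.ofNat 0, Int.ofNat 0, Int.negSucc 1, Int.ofNat 0, Int.ofNat 0, Int.ofNat 0, Int.ofNat 0, Int.ofNat 0, Int.ofNat 0, Int.ofNat 2, Int.ofNat 2, Int.ofNat 0, Int.ofNat 0],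
  [Int.ofNat 0, Int.ofNat 0, Int.ofNat 2, Int.ofNat 0, Int.ofNat 0, Int.ofNat 0, Int.ofNat 2, Int.ofNat 2, Int.negSucc 1, Int.ofNat 2, Int.ofNat 0, Int.ofNat 0, Int.ofNat 0, Int.ofNat 0, Int.negSucc 1, Int.ofNat 0, Int.ofNat 0, Int.ofNat 0, Int.ofNat 0, Int.ofNat 0, Int.ofNat 0, Int.ofNat 2, Int.ofNat 2, Int.ofNat 0],
  [Int.ofNat 1, Int.ofNat 1, Int.negSucc 0, Int.ofNat 1, Int.negSucc 0, Int.ofNat 1, Int.negSucc 0, Int.negSucc 0, Int.negSucc 0, Int.ofNat 1, Int.negSucc 0, Int.ofNat 1, Int.ofNat 1, Int.negSucc 0, Int.negSucc 0, Int.negSucc 0, Int.negSucc 0, Int.ofNat 1, Int.ofNat 1, Int.negSucc 2, Int.negSucc 0, Int.negSucc 0, Int.ofNat 1, Int.ofNat 1],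
  [Int.ofNat 1, Int.negSucc 0, Int.ofNat 1, Int.negSucc 0, Int.negSucc 0, Int.negSucc 0, Int.ofNat 1, Int.negSucc 0, Int.ofNat 1, Int.ofNat 1, Int.negSucc 0, Int.negSucc 0, Int.negSucc 0, Int.negSucc 0, Int.ofNat 1, Int.ofNat 1, Int.negSucc 2, Int.negSucc 0, Int.negSucc 0, Int.ofNat 1, Int.ofNat 1, Int.ofNat 1, Int.negSucc 0, Int.ofNat 1],
  [Int.ofNat 0, Int.ofNat 2, Int.ofNat 0, Int.ofNat 0, Int.ofNat 2, Int.ofNat 0, Int.ofNat 0, Int.negSucc 1, Int.ofNat 2, Int.ofNat 0, Int.negSucc 1, Int.ofNat 0, Int.ofNat 0, Int.ofNat 2, Int.ofNat 2, Int.ofNat 0, Int.ofNat 0, Int.ofNat 0, Int.ofNat 0, Int.ofNat 0, Int.ofNat 0, Int.ofNat 0, Int.ofNat 2, Int.ofNat 0],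
  [Int.ofNat 0, Int.ofNat 0, Int.ofNat 2, Int.ofNat 0, Int.ofNat 0, Int.negSucc 1, Int.ofNat 0, Int.negSucc 1, Int.ofNat 0, Int.ofNat 2, Int.ofNat 0, Int.ofNat 0, Int.ofNat 0, Int.ofNat 0, Int.ofNat 2, Int.ofNat 0, Int.ofNat 2, Int.ofNat 2, Int.ofNat 2, Int.ofNat 0, Int.ofNat 0, Int.ofNat 0, Int.ofNat 0, Int.ofNat 0],
  [Int.ofNat 1, Int.ofNat 1, Int.negSucc 0, Int.negSucc 0, Int.negSucc 0, Int.negSucc 2, Int.ofNat 1, Int.negSucc 0, Int.negSucc 0, Int.ofNat 1, Int.negSucc 0, Int.negSucc 0, Int.negSucc 0, Int.negSucc 0, Int.ofNat 1, Int.negSucc 0, Int.ofNat 1, Int.ofNat 1, Int.ofNat 1, Int.ofNat 1, Int.negSucc 0, Int.ofNat 1, Int.negSucc 0, Int.ofNat 1],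
  [Int.ofNat 1, Int.ofNat 1, Int.ofNat 1, Int.negSucc 0, Int.negSucc 0, Int.ofNat 3, Int.negSucc 0, Int.negSucc 0, Int.negSucc 0, Int.negSucc 0, Int.ofNat 1, Int.negSucc 0, Int.negSucc 0, Int.negSucc 0, Int.ofNat 1, Int.ofNat 1, Int.ofNat 1, Int.ofNat 1, Int.negSucc 0, Int.ofNat 1, Int.negSucc 0, Int.ofNat 1, Int.ofNat 1, Int.ofNat 1],
  [Int.negSucc 0, Int.ofNat 1, Int.negSucc 0, Int.negSucc 0, Int.negSucc 0, Int.ofNat 1, Int.negSucc 0, Int.negSucc 0, Int.ofNat 1, Int.ofNat 1, Int.ofNat 1, Int.ofNat 1, Int.negSucc 0, Int.ofNat 3, Int.negSucc 0, Int.negSucc 0, Int.ofNat 1, Int.ofNat 1, Int.negSucc 0, Int.ofNat 1, Int.negSucc 0, Int.ofNat 1, Int.ofNat 1, Int.ofNat 1],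
  [Int.negSucc 0, Int.ofNat 1, Int.ofNat 1, Int.negSucc 0, Int.negSucc 0, Int.negSucc 0, Int.ofNat 1, Int.negSucc 0, Int.ofNat 1, Int.negSucc 0, Int.negSucc 0, Int.ofNat 1, Int.negSucc 0, Int.ofNat 3, Int.negSucc 0, Int.ofNat 1, Int.ofNat 1, Int.ofNat 1, Int.ofNat 1, Int.ofNat 1, Int.negSucc 0, Int.ofNat 1, Int.negSucc 0, Int.ofNat 1],
  [Int.ofNat 2, Int.ofNat 0, Int.ofNat 0, Int.ofNat 0, Int.negSucc 1, Int.ofNat 0, Int.ofNat 0, Int.negSucc 1, Int.ofNat 0, Int.ofNat 0, Int.ofNat 0, Int.ofNat 0, Int.negSucc 1, Int.ofNat 2, Int.ofNat 0, Int.ofNat 2, Int.ofNat 0, Int.ofNat 2, Int.ofNat 0, Int.ofNat 0, Int.ofNat 0, Int.ofNat 0, Int.negSucc 1, Int.ofNat 0],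
  [Int.ofNat 2, Int.ofNat 0, Int.ofNat 0, Int.ofNat 0, Int.ofNat 0, Int.ofNat 0, Int.ofNat 0, Int.ofNat 0, Int.ofNat 0, Int.negSucc 1, Int.negSucc 1, Int.ofNat 0, Int.ofNat 0, Int.ofNat 0, Int.ofNat 2, Int.ofNat 2, Int.ofNat 2, Int.ofNat 0, Int.negSucc 1, Int.negSucc 1, Int.ofNat 0, Int.ofNat 0, Int.ofNat 0, Int.ofNat 0],
  [Int.negSucc 0, Int.ofNat 1, Int.ofNat 1, Int.negSucc 0, Int.negSucc 0, Int.negSucc 0, Int.ofNat 1, Int.ofNat 1, Int.ofNat 1, Int.negSucc 0, Int.negSucc 0, Int.ofNat 1, Int.ofNat 1, Int.negSucc 0, Int.ofNat 1, Int.ofNat 3, Int.ofNat 1, Int.negSucc 0, Int.negSucc 0, Int.negSucc 0, Int.ofNat 1, Int.ofNat 1, Int.negSucc 0, Int.ofNat 1],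
  [Int.ofNat 1, Int.ofNat 1, Int.negSucc 0, Int.negSucc 0, Int.ofNat 1, Int.ofNat 1, Int.negSucc 0, Int.negSucc 0, Int.negSucc 0, Int.ofNat 1, Int.ofNat 1, Int.ofNat 1, Int.negSucc 0, Int.negSucc 0, Int.ofNat 1, Int.ofNat 1, Int.negSucc 0, Int.ofNat 1, Int.ofNat 3, Int.ofNat 1, Int.negSucc 0, Int.negSucc 0, Int.negSucc 0, Int.ofNat 1],
  [Int.ofNat 0, Int.ofNat 0, Int.ofNat 2, Int.negSucc 1, Int.ofNat 2, Int.ofNat 0, Int.ofNat 0, Int.ofNat 0, Int.negSucc 1, Int.ofNat 0, Int.ofNat 0, Int.ofNat 0, Int.negSucc 1, Int.ofNat 0, Int.ofNat 0, Int.ofNat 0, Int.ofNat 0, Int.ofNat 0, Int.ofNat 2, Int.ofNat 2, Int.negSucc 1, Int.ofNat 0, Int.ofNat 0, Int.ofNat 0],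
  [Int.ofNat 0, Int.ofNat 2, Int.negSucc 1, Int.ofNat 2, Int.ofNat 0, Int.ofNat 0, Int.ofNat 0, Int.negSucc 1, Int.ofNat 0, Int.ofNat 0, Int.ofNat 0, Int.negSucc 1, Int.ofNat 0, Int.ofNat 0, Int.ofNat 0, Int.ofNat 0, Int.ofNat 0, Int.ofNat 2, Int.ofNat 2, Int.negSucc 1, Int.ofNat 0, Int.ofNat 0, Int.ofNat 0, Int.ofNat 0],
  [Int.ofNat 0, Int.ofNat 2, Int.ofNat 2, Int.ofNat 2, Int.ofNat 0, Int.ofNat 0, Int.ofNat 0, Int.ofNat 2, Int.ofNat 0, Int.ofNat 0, Int.ofNat 0, Int.ofNat 2, Int.ofNat 0, Int.ofNat 0, Int.ofNat 0, Int.ofNat 0, Int.ofNat 0, Int.ofNat 2, Int.negSucc 1, Int.negSucc 1, Int.ofNat 0, Int.ofNat 0, Int.ofNat 0, Int.ofNat 0],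
  [Int.ofNat 0, Int.negSucc 1, Int.negSucc 1, Int.negSucc 1, Int.ofNat 0, Int.ofNat 0, Int.ofNat 0, Int.ofNat 2, Int.ofNat 0, Int.ofNat 0, Int.ofNat 0, Int.ofNat 2, Int.ofNat 0, Int.ofNat 0, Int.ofNat 0, Int.ofNat 0, Int.ofNat 0, Int.ofNat 2, Int.ofNat 2, Int.negSucc 1, Int.ofNat 0, Int.ofNat 0, Int.ofNat 0, Int.ofNat 0],
  [Int.ofNat 0, Int.negSucc 1, Int.ofNat 2, Int.negSucc 1, Int.negSucc 1, Int.ofNat 0, Int.ofNat 0, Int.ofNat 0, Int.ofNat 0, Int.ofNat 0, Int.ofNat 0, Int.ofNat 0, Int.ofNat 0, Int.ofNat 0, Int.negSucc 1, Int.ofNat 0, Int.ofNat 0, Int.ofNat 0, Int.ofNat 0, Int.ofNat 2, Int.ofNat 0, Int.ofNat 2, Int.ofNat 2, Int.ofNat 0],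
  [Int.ofNat 0, Int.negSucc 1, Int.negSucc 1, Int.negSucc 1, Int.negSucc 1, Int.ofNat 0, Int.ofNat 0, Int.ofNat 0, Int.ofNat 0, Int.ofNat 0, Int.ofNat 0, Int.ofNat 0, Int.ofNat 0, Int.ofNat 0, Int.negSucc 1, Int.ofNat 0, Int.ofNat 0, Int.ofNat 0, Int.ofNat 0, Int.ofNat 2, Int.ofNat 0, Int.negSucc 1, Int.ofNat 2, Int.ofNat 0],
  [Int.ofNat 2, Int.ofNat 0, Int.negSucc 1, Int.negSucc 1, Int.negSucc 1, Int.negSucc 1, Int.ofNat 0, Int.ofNat 0, Int.ofNat 0, Int.ofNat 0, Int.ofNat 0, Int.ofNat 0, Int.ofNat 0, Int.ofNat 0, Int.ofNat 0, Int.negSucc 1, Int.ofNat 0, Int.ofNat 0, Int.ofNat 0, Int.ofNat 0, Int.ofNat 2, Int.ofNat 0, Int.negSucc 1, Int.ofNat 0],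
  [Int.negSucc 1, Int.ofNat 0, Int.ofNat 2, Int.ofNat 0, Int.ofNat 0, Int.ofNat 0, Int.ofNat 0, Int.ofNat 0, Int.ofNat 0, Int.ofNat 0, Int.ofNat 0, Int.ofNat 0, Int.ofNat 0, Int.ofNat 2, Int.ofNat 2, Int.negSucc 1, Int.ofNat 2, Int.ofNat 2, Int.ofNat 0, Int.ofNat 0, Int.ofNat 2, Int.ofNat 0, Int.ofNat 0, Int.ofNat 0],
  [Int.ofNat 0, Int.ofNat 0, Int.ofNat 0, Int.ofNat 0, Int.ofNat 0, Int.ofNat 0, Int.ofNat 0, Int.ofNat 0, Int.ofNat 0, Int.ofNat 0, Int.ofNat 2, Int.ofNat 2, Int.negSucc 1, Int.ofNat 2, Int.ofNat 2, Int.ofNat 0, Int.ofNat 0, Int.ofNat 2, Int.ofNat 0, Int.ofNat 0, Int.negSucc 1, Int.ofNat 0, Int.ofNat 2, Int.ofNat 0],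
  [Int.ofNat 0, Int.ofNat 0, Int.ofNat 0, Int.negSucc 1, Int.negSucc 1, Int.negSucc 1, Int.ofNat 0, Int.ofNat 0, Int.ofNat 0, Int.ofNat 0, Int.ofNat 2, Int.ofNat 2, Int.negSucc 1, Int.ofNat 0, Int.ofNat 0, Int.ofNat 0, Int.negSucc 1, Int.ofNat 0, Int.ofNat 0, Int.ofNat 0, Int.negSucc 1, Int.ofNat 0, Int.ofNat 0, Int.ofNat 0],
  [Int.ofNat 0, Int.ofNat 0, Int.negSucc 1, Int.negSucc 1, Int.ofNat 0, Int.ofNat 0, Int.ofNat 0, Int.ofNat 2, Int.negSucc 1, Int.ofNat 0, Int.negSucc 1, Int.ofNat 0, Int.ofNat 0, Int.negSucc 1, Int.ofNat 0, Int.ofNat 0, Int.ofNat 0, Int.ofNat 0, Int.ofNat 0, Int.ofNat 2, Int.ofNat 0, Int.negSucc 1, Int.ofNat 0, Int.ofNat 0],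
  [Int.negSucc 0, Int.negSucc 0, Int.ofNat 1, Int.negSucc 0, Int.ofNat 1, Int.ofNat 1, Int.negSucc 0, Int.ofNat 1, Int.negSucc 0, Int.ofNat 1, Int.negSucc 0, Int.ofNat 1, Int.ofNat 1, Int.negSucc 0, Int.ofNat 1, Int.ofNat 1, Int.ofNat 1, Int.ofNat 1, Int.ofNat 1, Int.ofNat 1, Int.ofNat 1, Int.negSucc 2, Int.ofNat 1, Int.negSucc 0],
  [Int.negSucc 0, Int.negSucc 0, Int.negSucc 0, Int.negSucc 0, Int.ofNat 1, Int.negSucc 0, Int.ofNat 1, Int.ofNat 1, Int.negSucc 0, Int.negSucc 0, Int.ofNat 1, Int.ofNat 1, Int.ofNat 1, Int.negSucc 0, Int.ofNat 1, Int.negSucc 0, Int.ofNat 1, Int.ofNat 1, Int.negSucc 0, Int.ofNat 1, Int.ofNat 1, Int.negSucc 2, Int.negSucc 0, Int.negSucc 0],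
  [Int.ofNat 1, Int.ofNat 1, Int.ofNat 1, Int.negSucc 0, Int.ofNat 1, Int.ofNat 1, Int.negSucc 2, Int.negSucc 0, Int.negSucc 0, Int.ofNat 1, Int.negSucc 0, Int.ofNat 1, Int.negSucc 0, Int.ofNat 1, Int.ofNat 1, Int.negSucc 0, Int.ofNat 1, Int.ofNat 1, Int.negSucc 0, Int.negSucc 0, Int.negSucc 0, Int.negSucc 0, Int.negSucc 0, Int.negSucc 0],
  [Int.negSucc 0, Int.negSucc 0, Int.ofNat 1, Int.negSucc 0, Int.ofNat 1, Int.ofNat 1, Int.negSucc 0, Int.ofNat 1, Int.negSucc 0, Int.ofNat 1, Int.ofNat 1, Int.ofNat 1, Int.negSucc 0, Int.negSucc 0, Int.negSucc 0, Int.negSucc 0, Int.negSucc 0, Int.ofNat 1, Int.ofNat 1, Int.negSucc 2, Int.negSucc 0, Int.negSucc 0, Int.ofNat 1, Int.ofNat 1],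
  [Int.ofNat 1, Int.negSucc 0, Int.negSucc 0, Int.negSucc 0, Int.ofNat 1, Int.ofNat 1, Int.negSucc 0, Int.negSucc 0, Int.negSucc 0, Int.negSucc 0, Int.negSucc 0, Int.negSucc 0, Int.negSucc 0, Int.negSucc 0, Int.negSucc 0, Int.negSucc 0, Int.negSucc 0, Int.ofNat 1, Int.negSucc 0, Int.negSucc 2, Int.negSucc 0, Int.ofNat 1, Int.ofNat 1, Int.ofNat 1],
  [Int.ofNat 1, Int.ofNat 1, Int.negSucc 0, Int.negSucc 0, Int.negSucc 0, Int.ofNat 1, Int.ofNat 1, Int.negSucc 0, Int.negSucc 0, Int.negSucc 0, Int.negSucc 0, Int.negSucc 0, Int.negSucc 0, Int.negSucc 0, Int.negSucc 0, Int.negSucc 0, Int.negSucc 0, Int.negSucc 0, Int.ofNat 1, Int.negSucc 0, Int.negSucc 2, Int.negSucc 0, Int.ofNat 1, Int.ofNat 1],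
  [Int.ofNat 0, Int.ofNat 0, Int.ofNat 2, Int.ofNat 0, Int.ofNat 0, Int.ofNat 2, Int.ofNat 2, Int.ofNat 0, Int.ofNat 0, Int.ofNat 2, Int.ofNat 2, Int.ofNat 0, Int.ofNat 0, Int.ofNat 0, Int.ofNat 0, Int.ofNat 2, Int.ofNat 0, Int.ofNat 0, Int.ofNat 2, Int.ofNat 0, Int.ofNat 0, Int.ofNat 0, Int.ofNat 2, Int.ofNat 0],
  [Int.ofNat 0, Int.ofNat 0, Int.ofNat 2, Int.ofNat 2, Int.ofNat 0, Int.ofNat 0, Int.ofNat 2, Int.ofNat 2, Int.ofNat 0, Int.ofNat 0, Int.ofNat 0, Int.ofNat 0, Int.ofNat 2, Int.ofNat 0, Int.ofNat 0, Int.ofNat 2, Int.ofNat 0, Int.ofNat 0, Int.ofNat 0, Int.ofNat 2, Int.ofNat 0, Int.ofNat 0, Int.ofNat 2, Int.ofNat 0],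
  [Int.ofNat 1, Int.ofNat 1, Int.negSucc 0, Int.ofNat 1, Int.negSucc 0, Int.negSucc 0, Int.negSucc 0, Int.negSucc 0, Int.negSucc 0, Int.negSucc 0, Int.negSucc 0, Int.negSucc 0, Int.ofNat 1, Int.negSucc 0, Int.negSucc 0, Int.ofNat 1, Int.negSucc 0, Int.negSucc 0, Int.negSucc 0, Int.negSucc 0, Int.negSucc 0, Int.negSucc 2, Int.ofNat 1, Int.ofNat 1],
  [Int.ofNat 1, Int.negSucc 0, Int.negSucc 0, Int.ofNat 1, Int.negSucc 0, Int.negSucc 0, Int.negSucc 0, Int.negSucc 0, Int.ofNat 1, Int.negSucc 0, Int.negSucc 0, Int.negSucc 0, Int.negSucc 0, Int.negSucc 0, Int.ofNat 1, Int.ofNat 1, Int.negSucc 0, Int.negSucc 0, Int.ofNat 1, Int.negSucc 0, Int.negSucc 2, Int.negSucc 0, Int.negSucc 0, Int.ofNat 1],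
  [Int.negSucc 0, Int.ofNat 1, Int.ofNat 1, Int.ofNat 1, Int.ofNat 1, Int.negSucc 0, Int.ofNat 1, Int.ofNat 1, Int.ofNat 1, Int.ofNat 1, Int.ofNat 1, Int.negSucc 0, Int.negSucc 0, Int.ofNat 1, Int.ofNat 1, Int.ofNat 3, Int.ofNat 1, Int.negSucc 0, Int.ofNat 1, Int.ofNat 1, Int.negSucc 0, Int.ofNat 1, Int.ofNat 1, Int.negSucc 0],
  [Int.negSucc 0, Int.ofNat 1, Int.negSucc 0, Int.ofNat 1, Int.ofNat 1, Int.ofNat 1, Int.negSucc 0, Int.ofNat 1, Int.ofNat 1, Int.negSucc 0, Int.negSucc 0, Int.negSucc 0, Int.negSucc 0, Int.ofNat 1, Int.ofNat 1, Int.negSucc 2, Int.ofNat 1, Int.negSucc 0, Int.negSucc 0, Int.ofNat 1, Int.negSucc 0, Int.ofNat 1, Int.negSucc 0, Int.negSucc 0],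
  [Int.negSucc 0, Int.negSucc 0, Int.negSucc 0, Int.negSucc 0, Int.ofNat 1, Int.ofNat 1, Int.ofNat 1, Int.negSucc 0, Int.ofNat 1, Int.ofNat 1, Int.ofNat 1, Int.negSucc 0, Int.negSucc 0, Int.ofNat 1, Int.negSucc 0, Int.ofNat 1, Int.negSucc 0, Int.negSucc 2, Int.ofNat 1, Int.negSucc 0, Int.ofNat 1, Int.ofNat 1, Int.negSucc 0, Int.negSucc 0],
  [Int.negSucc 0, Int.negSucc 0, Int.ofNat 1, Int.negSucc 0, Int.ofNat 1, Int.negSucc 0, Int.negSucc 0, Int.negSucc 0, Int.ofNat 1, Int.negSucc 0, Int.negSucc 0, Int.negSucc 0, Int.negSucc 0, Int.ofNat 1, Int.negSucc 0, Int.negSucc 0, Int.negSucc 0, Int.negSucc 2, Int.negSucc 0, Int.negSucc 0, Int.ofNat 1, Int.ofNat 1, Int.ofNat 1, Int.negSucc 0],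
  [Int.ofNat 0, Int.ofNat 0, Int.negSucc 1, Int.ofNat 2, Int.ofNat 0, Int.ofNat 2, Int.ofNat 0, Int.ofNat 0, Int.ofNat 2, Int.ofNat 0, Int.ofNat 0, Int.ofNat 0, Int.ofNat 0, Int.ofNat 0, Int.ofNat 2, Int.ofNat 0, Int.negSucc 1, Int.ofNat 0, Int.ofNat 0, Int.ofNat 0, Int.ofNat 2, Int.ofNat 2, Int.ofNat 0, Int.ofNat 0],
  [Int.ofNat 0, Int.ofNat 0, Int.ofNat 0, Int.ofNat 2, Int.negSucc 1, Int.ofNat 2, Int.ofNat 0, Int.ofNat 2, Int.negSucc 1, Int.ofNat 0, Int.ofNat 0, Int.ofNat 0, Int.ofNat 2, Int.ofNat 0, Int.ofNat 0, Int.ofNat 0, Int.ofNat 0, Int.ofNat 0, Int.ofNat 0, Int.ofNat 0, Int.ofNat 0, Int.ofNat 2, Int.ofNat 2, Int.ofNat 0],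
  [Int.ofNat 0, Int.ofNat 0, Int.ofNat 0, Int.ofNat 0, Int.negSucc 1, Int.ofNat 0, Int.negSucc 1, Int.ofNat 0, Int.negSucc 1, Int.ofNat 0, Int.ofNat 0, Int.ofNat 0, Int.ofNat 2, Int.ofNat 0, Int.negSucc 1, Int.ofNat 0, Int.ofNat 0, Int.negSucc 1, Int.ofNat 0, Int.negSucc 1, Int.ofNat 0, Int.ofNat 0, Int.ofNat 2, Int.ofNat 0],
  [Int.ofNat 0, Int.ofNat 0, Int.ofNat 2, Int.ofNat 0, Int.ofNat 0, Int.ofNat 0, Int.ofNat 0, Int.negSucc 1, Int.ofNat 0, Int.negSucc 1, Int.ofNat 0, Int.negSucc 1, Int.ofNat 0, Int.ofNat 0, Int.ofNat 0, Int.ofNat 2, Int.ofNat 0, Int.negSucc 1, Int.ofNat 0, Int.ofNat 0, Int.negSucc 1, Int.ofNat 0, Int.negSucc 1, Int.ofNat 0],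
  [Int.ofNat 1, Int.ofNat 1, Int.negSucc 0, Int.ofNat 1, Int.ofNat 1, Int.ofNat 1, Int.ofNat 1, Int.negSucc 0, Int.ofNat 1, Int.negSucc 0, Int.ofNat 1, Int.negSucc 0, Int.ofNat 1, Int.ofNat 1, Int.ofNat 1, Int.ofNat 3, Int.ofNat 1, Int.negSucc 0, Int.ofNat 1, Int.ofNat 1, Int.negSucc 0, Int.ofNat 1, Int.negSucc 0, Int.ofNat 1],
  [Int.ofNat 1, Int.negSucc 0, Int.ofNat 1, Int.ofNat 1, Int.ofNat 1, Int.ofNat 1, Int.negSucc 0, Int.ofNat 1, Int.negSucc 0, Int.ofNat 1, Int.negSucc 0, Int.ofNat 1, Int.ofNat 1, Int.ofNat 1, Int.ofNat 3, Int.ofNat 1, Int.negSucc 0, Int.ofNat 1, Int.ofNat 1, Int.negSucc 0, Int.ofNat 1, Int.negSucc 0, Int.ofNat 1, Int.ofNat 1],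
  [Int.negSucc 0, Int.negSucc 0, Int.negSucc 0, Int.ofNat 1, Int.ofNat 1, Int.ofNat 1, Int.negSucc 0, Int.negSucc 0, Int.negSucc 0, Int.negSucc 0, Int.ofNat 1, Int.negSucc 0, Int.ofNat 1, Int.ofNat 1, Int.ofNat 3, Int.ofNat 1, Int.negSucc 0, Int.ofNat 1, Int.negSucc 0, Int.negSucc 0, Int.ofNat 1, Int.ofNat 1, Int.ofNat 1, Int.ofNat 1],
  [Int.ofNat 1, Int.ofNat 1, Int.ofNat 1, Int.negSucc 0, Int.negSucc 0, Int.ofNat 1, Int.ofNat 1, Int.negSucc 0, Int.ofNat 1, Int.ofNat 1, Int.ofNat 1, Int.negSucc 0, Int.negSucc 0, Int.negSucc 0, Int.ofNat 3, Int.ofNat 1, Int.ofNat 1, Int.ofNat 1, Int.ofNat 1, Int.negSucc 0, Int.ofNat 1, Int.ofNat 1, Int.ofNat 1, Int.ofNat 1],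
  [Int.ofNat 1, Int.ofNat 1, Int.ofNat 1, Int.negSucc 0, Int.ofNat 1, Int.ofNat 1, Int.negSucc 0, Int.ofNat 1, Int.ofNat 1, Int.ofNat 1, Int.ofNat 1, Int.ofNat 3, Int.negSucc 0, Int.ofNat 1, Int.negSucc 0, Int.ofNat 1, Int.negSucc 0, Int.ofNat 1, Int.ofNat 1, Int.ofNat 1, Int.ofNat 1, Int.negSucc 0, Int.negSucc 0, Int.ofNat 1],
  [Int.negSucc 0, Int.ofNat 1, Int.negSucc 0, Int.negSucc 0, Int.ofNat 1, Int.ofNat 1, Int.negSucc 0, Int.negSucc 0, Int.ofNat 1, Int.negSucc 0, Int.negSucc 0, Int.negSucc 2, Int.negSucc 0, Int.ofNat 1, Int.negSucc 0, Int.ofNat 1, Int.negSucc 0, Int.ofNat 1, Int.negSucc 0, Int.ofNat 1, Int.ofNat 1, Int.ofNat 1, Int.negSucc 0, Int.ofNat 1],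
  [Int.negSucc 0, Int.negSucc 0, Int.ofNat 1, Int.negSucc 0, Int.negSucc 0, Int.ofNat 1, Int.ofNat 1, Int.negSucc 0, Int.negSucc 0, Int.ofNat 1, Int.negSucc 0, Int.negSucc 0, Int.negSucc 2, Int.negSucc 0, Int.ofNat 1, Int.negSucc 0, Int.ofNat 1, Int.negSucc 0, Int.ofNat 1, Int.negSucc 0, Int.ofNat 1, Int.ofNat 1, Int.ofNat 1, Int.ofNat 1],
  [Int.ofNat 1, Int.ofNat 1, Int.negSucc 0, Int.negSucc 0, Int.negSucc 0, Int.ofNat 1, Int.ofNat 1, Int.negSucc 0, Int.ofNat 1, Int.ofNat 1, Int.negSucc 0, Int.ofNat 1, Int.negSucc 0, Int.negSucc 0, Int.ofNat 1, Int.negSucc 0, Int.ofNat 1, Int.negSucc 0, Int.ofNat 3, Int.negSucc 0, Int.ofNat 1, Int.ofNat 1, Int.ofNat 1, Int.negSucc 0],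
  [Int.negSucc 0, Int.negSucc 0, Int.ofNat 1, Int.ofNat 1, Int.negSucc 0, Int.ofNat 1, Int.ofNat 1, Int.negSucc 0, Int.ofNat 1, Int.negSucc 0, Int.negSucc 0, Int.ofNat 1, Int.negSucc 0, Int.ofNat 1, Int.negSucc 0, Int.ofNat 3, Int.negSucc 0, Int.ofNat 1, Int.ofNat 1, Int.ofNat 1, Int.ofNat 1, Int.ofNat 1, Int.negSucc 0, Int.negSucc 0],
  [Int.ofNat 0, Int.ofNat 0, Int.negSucc 1, Int.ofNat 0, Int.ofNat 0, Int.ofNat 0, Int.ofNat 0, Int.negSucc 1, Int.ofNat 0, Int.negSucc 1, Int.negSucc 1, Int.ofNat 0, Int.negSucc 1, Int.ofNat 2, Int.negSucc 1, Int.ofNat 2, Int.ofNat 0, Int.ofNat 0, Int.ofNat 0, Int.ofNat 0, Int.ofNat 0, Int.ofNat 0, Int.ofNat 0, Int.ofNat 0],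
  [Int.ofNat 0, Int.ofNat 0, Int.ofNat 0, Int.ofNat 0, Int.ofNat 0, Int.negSucc 1, Int.negSucc 1, Int.negSucc 1, Int.negSucc 1, Int.ofNat 2, Int.ofNat 0, Int.ofNat 0, Int.negSucc 1, Int.ofNat 0, Int.ofNat 0, Int.ofNat 2, Int.ofNat 0, Int.negSucc 1, Int.ofNat 0, Int.ofNat 0, Int.ofNat 0, Int.ofNat 0, Int.ofNat 0, Int.ofNat 0],
  [Int.ofNat 0, Int.ofNat 0, Int.ofNat 0, Int.ofNat 2, Int.ofNat 0, Int.ofNat 0, Int.ofNat 0, Int.ofNat 0, Int.ofNat 0, Int.ofNat 0, Int.negSucc 1, Int.ofNat 2, Int.ofNat 0, Int.ofNat 0, Int.ofNat 2, Int.ofNat 0, Int.ofNat 0, Int.ofNat 0, Int.ofNat 2, Int.ofNat 2, Int.negSucc 1, Int.ofNat 2, Int.ofNat 0, Int.ofNat 0],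
  [Int.ofNat 0, Int.ofNat 0, Int.ofNat 0, Int.ofNat 2, Int.ofNat 0, Int.ofNat 0, Int.ofNat 0, Int.ofNat 0, Int.ofNat 0, Int.ofNat 0, Int.ofNat 2, Int.ofNat 2, Int.ofNat 0, Int.ofNat 0, Int.ofNat 2, Int.ofNat 0, Int.ofNat 0, Int.ofNat 0, Int.negSucc 1, Int.ofNat 2, Int.negSucc 1, Int.ofNat 2, Int.ofNat 0, Int.ofNat 0],
  [Int.ofNat 2, Int.ofNat 0, Int.ofNat 2, Int.ofNat 0, Int.ofNat 2, Int.ofNat 0, Int.ofNat 2, Int.ofNat 2, Int.ofNat 0, Int.negSucc 1, Int.ofNat 0, Int.ofNat 0, Int.ofNat 0, Int.ofNat 0, Int.ofNat 0, Int.negSucc 1, Int.ofNat 2, Int.ofNat 0, Int.ofNat 0, Int.ofNat 0, Int.ofNat 0, Int.ofNat 0, Int.ofNat 0, Int.ofNat 0],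
  [Int.ofNat 0, Int.ofNat 0, Int.ofNat 0, Int.negSucc 1, Int.ofNat 0, Int.negSucc 1, Int.ofNat 0, Int.ofNat 0, Int.ofNat 0, Int.ofNat 0, Int.ofNat 2, Int.ofNat 2, Int.ofNat 0, Int.ofNat 2, Int.ofNat 0, Int.ofNat 0, Int.ofNat 0, Int.ofNat 2, Int.ofNat 0, Int.ofNat 2, Int.ofNat 0, Int.ofNat 0, Int.ofNat 0, Int.ofNat 2],
  [Int.ofNat 0, Int.ofNat 0, Int.ofNat 0, Int.negSucc 1, Int.ofNat 0, Int.negSucc 1, Int.ofNat 0, Int.ofNat 0, Int.ofNat 0, Int.ofNat 0, Int.negSucc 1, Int.negSucc 1, Int.ofNat 0, Int.ofNat 2, Int.ofNat 0, Int.ofNat 0, Int.ofNat 0, Int.ofNat 2, Int.ofNat 0, Int.ofNat 2, Int.ofNat 0, Int.ofNat 0, Int.ofNat 0, Int.ofNat 2],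
  [Int.ofNat 0, Int.ofNat 0, Int.ofNat 0, Int.ofNat 0, Int.negSucc 1, Int.ofNat 0, Int.negSucc 1, Int.ofNat 0, Int.ofNat 0, Int.ofNat 0, Int.ofNat 0, Int.negSucc 1, Int.negSucc 1, Int.ofNat 0, Int.ofNat 2, Int.ofNat 0, Int.ofNat 0, Int.ofNat 0, Int.ofNat 2, Int.ofNat 0, Int.ofNat 2, Int.ofNat 0, Int.ofNat 0, Int.ofNat 2],
  [Int.ofNat 1, Int.ofNat 1, Int.ofNat 1, Int.negSucc 0, Int.negSucc 0, Int.negSucc 0, Int.negSucc 0, Int.ofNat 1, Int.ofNat 1, Int.negSucc 0, Int.negSucc 0, Int.negSucc 0, Int.negSucc 0, Int.ofNat 1, Int.ofNat 1, Int.negSucc 0, Int.ofNat 1, Int.negSucc 0, Int.ofNat 3, Int.ofNat 1, Int.ofNat 1, Int.ofNat 1, Int.ofNat 1, Int.negSucc 0],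
  [Int.negSucc 0, Int.negSucc 0, Int.negSucc 0, Int.negSucc 0, Int.ofNat 1, Int.ofNat 1, Int.negSucc 0, Int.negSucc 0, Int.negSucc 0, Int.negSucc 0, Int.ofNat 1, Int.ofNat 1, Int.negSucc 0, Int.ofNat 1, Int.negSucc 0, Int.ofNat 3, Int.ofNat 1, Int.ofNat 1, Int.ofNat 1, Int.ofNat 1, Int.ofNat 1, Int.ofNat 1, Int.ofNat 1, Int.negSucc 0],
  [Int.negSucc 0, Int.negSucc 0, Int.negSucc 0, Int.negSucc 0, Int.negSucc 0, Int.ofNat 1, Int.negSucc 0, Int.negSucc 0, Int.negSucc 0, Int.negSucc 2, Int.negSucc 0, Int.ofNat 1, Int.negSucc 0, Int.negSucc 0, Int.negSucc 0, Int.ofNat 1, Int.negSucc 0, Int.ofNat 1, Int.ofNat 1, Int.ofNat 1, Int.negSucc 0, Int.ofNat 1, Int.negSucc 0, Int.negSucc 0],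
  [Int.negSucc 0, Int.negSucc 0, Int.negSucc 0, Int.negSucc 0, Int.ofNat 1, Int.negSucc 0, Int.negSucc 0, Int.negSucc 0, Int.negSucc 0, Int.negSucc 0, Int.negSucc 0, Int.ofNat 1, Int.negSucc 2, Int.negSucc 0, Int.negSucc 0, Int.ofNat 1, Int.negSucc 0, Int.negSucc 0, Int.negSucc 0, Int.ofNat 1, Int.ofNat 1, Int.ofNat 1, Int.ofNat 1, Int.negSucc 0],
  [Int.negSucc 0, Int.negSucc 0, Int.negSucc 0, Int.ofNat 1, Int.ofNat 1, Int.ofNat 1, Int.negSucc 0, Int.negSucc 0, Int.ofNat 1, Int.negSucc 0, Int.negSucc 0, Int.ofNat 3, Int.negSucc 0, Int.negSucc 0, Int.ofNat 1, Int.ofNat 1, Int.negSucc 0, Int.ofNat 1, Int.ofNat 1, Int.ofNat 1, Int.ofNat 1, Int.ofNat 1, Int.ofNat 1, Int.negSucc 0],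
  [Int.negSucc 0, Int.negSucc 0, Int.ofNat 1, Int.ofNat 1, Int.ofNat 1, Int.negSucc 0, Int.ofNat 1, Int.negSucc 0, Int.ofNat 1, Int.ofNat 1, Int.ofNat 1, Int.ofNat 3, Int.negSucc 0, Int.negSucc 0, Int.ofNat 1, Int.negSucc 0, Int.negSucc 0, Int.ofNat 1, Int.negSucc 0, Int.ofNat 1, Int.ofNat 1, Int.ofNat 1, Int.negSucc 0, Int.negSucc 0],
  [Int.ofNat 1, Int.ofNat 1, Int.negSucc 0, Int.ofNat 1, Int.negSucc 0, Int.ofNat 1, Int.ofNat 1, Int.ofNat 1, Int.negSucc 0, Int.ofNat 1, Int.negSucc 0, Int.ofNat 1, Int.negSucc 0, Int.negSucc 0, Int.ofNat 3, Int.negSucc 0, Int.negSucc 0, Int.negSucc 0, Int.ofNat 1, Int.ofNat 1, Int.ofNat 1, Int.ofNat 1, Int.negSucc 0, Int.negSucc 0],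
  [Int.ofNat 1, Int.ofNat 1, Int.ofNat 1, Int.ofNat 1, Int.negSucc 0, Int.negSucc 0, Int.negSucc 0, Int.ofNat 1, Int.negSucc 0, Int.negSucc 0, Int.ofNat 1, Int.ofNat 1, Int.negSucc 0, Int.negSucc 0, Int.ofNat 3, Int.ofNat 1, Int.negSucc 0, Int.negSucc 0, Int.negSucc 0, Int.ofNat 1, Int.ofNat 1, Int.ofNat 1, Int.ofNat 1, Int.negSucc 0],
  [Int.ofNat 0, Int.ofNat 0, Int.ofNat 0, Int.ofNat 0, Int.ofNat 0, Int.negSucc 1, Int.negSucc 1, Int.ofNat 0, Int.ofNat 0, Int.negSucc 1, Int.ofNat 0, Int.ofNat 2, Int.ofNat 0, Int.ofNat 0, Int.ofNat 2, Int.ofNat 0, Int.ofNat 0, Int.negSucc 1, Int.ofNat 0, Int.ofNat 0, Int.ofNat 0, Int.ofNat 0, Int.ofNat 2, Int.ofNat 2],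
  [Int.ofNat 0, Int.ofNat 0, Int.negSucc 1, Int.ofNat 0, Int.ofNat 0, Int.ofNat 0, Int.ofNat 0, Int.negSucc 1, Int.ofNat 0, Int.ofNat 0, Int.ofNat 0, Int.ofNat 0, Int.ofNat 0, Int.negSucc 1, Int.negSucc 1, Int.ofNat 0, Int.ofNat 0, Int.ofNat 2, Int.ofNat 0, Int.ofNat 2, Int.ofNat 0, Int.ofNat 0, Int.ofNat 2, Int.ofNat 2],
  [Int.ofNat 0, Int.ofNat 0, Int.ofNat 2, Int.ofNat 0, Int.ofNat 0, Int.ofNat 0, Int.ofNat 0, Int.negSucc 1, Int.ofNat 0, Int.ofNat 0, Int.ofNat 0, Int.ofNat 0, Int.ofNat 0, Int.negSucc 1, Int.negSucc 1, Int.ofNat 0, Int.ofNat 0, Int.ofNat 2, Int.ofNat 0, Int.ofNat 2, Int.ofNat 0, Int.ofNat 0, Int.ofNat 2, Int.negSucc 1],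
  [Int.ofNat 0, Int.ofNat 0, Int.ofNat 2, Int.ofNat 0, Int.ofNat 0, Int.ofNat 2, Int.ofNat 0, Int.ofNat 0, Int.ofNat 0, Int.ofNat 0, Int.negSucc 1, Int.ofNat 0, Int.ofNat 0, Int.ofNat 0, Int.ofNat 0, Int.ofNat 0, Int.negSucc 1, Int.negSucc 1, Int.ofNat 0, Int.ofNat 0, Int.ofNat 2, Int.ofNat 0, Int.ofNat 2, Int.negSucc 1],
  [Int.ofNat 0, Int.ofNat 0, Int.negSucc 1, Int.ofNat 0, Int.ofNat 0, Int.ofNat 2, Int.ofNat 0, Int.ofNat 0, Int.ofNat 0, Int.ofNat 0, Int.negSucc 1, Int.ofNat 0, Int.ofNat 0, Int.ofNat 0, Int.ofNat 0, Int.ofNat 0, Int.negSucc 1, Int.negSucc 1, Int.ofNat 0, Int.ofNat 0, Int.ofNat 2, Int.ofNat 0, Int.ofNat 2, Int.ofNat 2],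
  [Int.ofNat 0, Int.negSucc 1, Int.ofNat 0, Int.ofNat 0, Int.ofNat 2, Int.ofNat 0, Int.ofNat 0, Int.ofNat 0, Int.ofNat 0, Int.negSucc 1, Int.ofNat 0, Int.ofNat 0, Int.ofNat 0, Int.ofNat 0, Int.ofNat 0, Int.negSucc 1, Int.negSucc 1, Int.ofNat 0, Int.ofNat 0, Int.ofNat 2, Int.ofNat 0, Int.ofNat 2, Int.ofNat 0, Int.ofNat 2],
  [Int.ofNat 0, Int.negSucc 1, Int.ofNat 0, Int.ofNat 0, Int.ofNat 2, Int.ofNat 0, Int.ofNat 0, Int.ofNat 0, Int.ofNat 0, Int.ofNat 2, Int.ofNat 0, Int.ofNat 0, Int.ofNat 0, Int.ofNat 0, Int.ofNat 0, Int.negSucc 1, Int.negSucc 1, Int.ofNat 0, Int.ofNat 0, Int.ofNat 2, Int.ofNat 0, Int.negSucc 1, Int.ofNat 0, Int.ofNat 2],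
  [Int.ofNat 0, Int.ofNat 2, Int.ofNat 0, Int.ofNat 0, Int.negSucc 1, Int.ofNat 0, Int.ofNat 0, Int.ofNat 0, Int.ofNat 0, Int.negSucc 1, Int.ofNat 0, Int.ofNat 0, Int.ofNat 0, Int.ofNat 0, Int.ofNat 0, Int.negSucc 1, Int.ofNat 2, Int.ofNat 0, Int.ofNat 0, Int.ofNat 2, Int.ofNat 0, Int.negSucc 1, Int.ofNat 0, Int.ofNat 2],
  [Int.ofNat 0, Int.ofNat 0, Int.ofNat 0, Int.ofNat 0, Int.ofNat 2, Int.ofNat 0, Int.negSucc 1, Int.ofNat 0, Int.negSucc 1, Int.ofNat 2, Int.negSucc 1, Int.ofNat 0, Int.ofNat 0, Int.ofNat 0, Int.ofNat 2, Int.negSucc 1, Int.ofNat 0, Int.ofNat 0, Int.ofNat 0, Int.ofNat 0, Int.ofNat 0, Int.ofNat 0, Int.ofNat 0, Int.ofNat 2],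
  [Int.ofNat 0, Int.ofNat 0, Int.ofNat 0, Int.ofNat 0, Int.ofNat 2, Int.ofNat 0, Int.negSucc 1, Int.ofNat 0, Int.negSucc 1, Int.negSucc 1, Int.ofNat 2, Int.ofNat 0, Int.ofNat 0, Int.ofNat 0, Int.ofNat 2, Int.negSucc 1, Int.ofNat 0, Int.ofNat 0, Int.ofNat 0, Int.ofNat 0, Int.ofNat 0, Int.ofNat 0, Int.ofNat 0, Int.ofNat 2],
  [Int.ofNat 0, Int.ofNat 0, Int.ofNat 0, Int.ofNat 0, Int.ofNat 0, Int.ofNat 2, Int.ofNat 0, Int.negSucc 1, Int.ofNat 0, Int.negSucc 1, Int.negSucc 1, Int.ofNat 2, Int.ofNat 0, Int.ofNat 0, Int.ofNat 0, Int.ofNat 2, Int.negSucc 1, Int.ofNat 0, Int.ofNat 0, Int.ofNat 0, Int.ofNat 0, Int.ofNat 0, Int.ofNat 0, Int.ofNat 2],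
  [Int.ofNat 1, Int.ofNat 1, Int.ofNat 1, Int.negSucc 0, Int.ofNat 1, Int.ofNat 1, Int.ofNat 1, Int.negSucc 0, Int.negSucc 0, Int.negSucc 0, Int.negSucc 0, Int.ofNat 1, Int.negSucc 0, Int.ofNat 1, Int.negSucc 0, Int.ofNat 3, Int.negSucc 0, Int.negSucc 0, Int.negSucc 0, Int.ofNat 1, Int.ofNat 1, Int.ofNat 1, Int.ofNat 1, Int.negSucc 0],
  [Int.negSucc 0, Int.ofNat 1, Int.ofNat 1, Int.ofNat 1, Int.negSucc 0, Int.negSucc 0, Int.negSucc 0, Int.negSucc 0, Int.ofNat 1, Int.negSucc 0, Int.ofNat 1, Int.negSucc 0, Int.ofNat 3, Int.negSucc 0, Int.negSucc 0, Int.negSucc 0, Int.ofNat 1, Int.ofNat 1, Int.ofNat 1, Int.ofNat 1, Int.ofNat 1, Int.ofNat 1, Int.ofNat 1, Int.negSucc 0],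
  [Int.ofNat 1, Int.negSucc 0, Int.negSucc 0, Int.ofNat 1, Int.negSucc 0, Int.negSucc 0, Int.negSucc 0, Int.negSucc 0, Int.negSucc 0, Int.negSucc 0, Int.ofNat 1, Int.negSucc 2, Int.ofNat 1, Int.negSucc 0, Int.negSucc 0, Int.negSucc 0, Int.ofNat 1, Int.ofNat 1, Int.negSucc 0, Int.ofNat 1, Int.ofNat 1, Int.ofNat 1, Int.ofNat 1, Int.ofNat 1],
  [Int.ofNat 1, Int.negSucc 0, Int.negSucc 0, Int.ofNat 1, Int.negSucc 0, Int.negSucc 0, Int.negSucc 0, Int.ofNat 1, Int.ofNat 1, Int.negSucc 0, Int.ofNat 1, Int.ofNat 1, Int.negSucc 0, Int.ofNat 1, Int.ofNat 1, Int.negSucc 0, Int.negSucc 0, Int.negSucc 0, Int.negSucc 0, Int.negSucc 2, Int.ofNat 1, Int.negSucc 0, Int.ofNat 1, Int.ofNat 1],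
  [Int.negSucc 0, Int.ofNat 1, Int.ofNat 1, Int.ofNat 1, Int.negSucc 0, Int.negSucc 0, Int.ofNat 1, Int.ofNat 3, Int.ofNat 1, Int.negSucc 0, Int.ofNat 1, Int.ofNat 1, Int.negSucc 0, Int.ofNat 1, Int.ofNat 1, Int.negSucc 0, Int.negSucc 0, Int.negSucc 0, Int.negSucc 0, Int.negSucc 0, Int.ofNat 1, Int.ofNat 1, Int.ofNat 1, Int.negSucc 0],
  [Int.negSucc 0, Int.ofNat 1, Int.negSucc 0, Int.ofNat 1, Int.negSucc 0, Int.ofNat 1, Int.negSucc 0, Int.ofNat 3, Int.ofNat 1, Int.ofNat 1, Int.negSucc 0, Int.ofNat 1, Int.negSucc 0, Int.ofNat 1, Int.ofNat 1, Int.ofNat 1, Int.negSucc 0, Int.negSucc 0, Int.ofNat 1, Int.negSucc 0, Int.ofNat 1, Int.ofNat 1, Int.negSucc 0, Int.negSucc 0],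
  [Int.negSucc 0, Int.negSucc 0, Int.ofNat 1, Int.ofNat 1, Int.ofNat 1, Int.negSucc 0, Int.ofNat 1, Int.ofNat 1, Int.ofNat 1, Int.ofNat 1, Int.ofNat 1, Int.ofNat 3, Int.ofNat 1, Int.negSucc 0, Int.negSucc 0, Int.ofNat 1, Int.negSucc 0, Int.negSucc 0, Int.ofNat 1, Int.negSucc 0, Int.negSucc 0, Int.ofNat 1, Int.negSucc 0, Int.negSucc 0],
  [Int.negSucc 0, Int.negSucc 0, Int.ofNat 3, Int.ofNat 1, Int.negSucc 0, Int.ofNat 1, Int.negSucc 0, Int.negSucc 0, Int.negSucc 0, Int.negSucc 0, Int.negSucc 0, Int.ofNat 1, Int.ofNat 1, Int.ofNat 1, Int.ofNat 1, Int.ofNat 1, Int.ofNat 1, Int.ofNat 1, Int.negSucc 0, Int.ofNat 1, Int.ofNat 1, Int.ofNat 1, Int.negSucc 0, Int.negSucc 0],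
  [Int.ofNat 1, Int.negSucc 0, Int.negSucc 2, Int.ofNat 1, Int.negSucc 0, Int.ofNat 1, Int.negSucc 0, Int.ofNat 1, Int.negSucc 0, Int.ofNat 1, Int.ofNat 1, Int.negSucc 0, Int.ofNat 1, Int.ofNat 1, Int.ofNat 1, Int.ofNat 1, Int.ofNat 1, Int.ofNat 1, Int.ofNat 1, Int.ofNat 1, Int.ofNat 1, Int.negSucc 0, Int.negSucc 0, Int.negSucc 0],
  [Int.negSucc 0, Int.ofNat 1, Int.negSucc 0, Int.negSucc 2, Int.ofNat 1, Int.negSucc 0, Int.ofNat 1, Int.negSucc 0, Int.ofNat 1, Int.negSucc 0, Int.ofNat 1, Int.ofNat 1, Int.negSucc 0, Int.ofNat 1, Int.ofNat 1, Int.ofNat 1, Int.ofNat 1, Int.ofNat 1, Int.ofNat 1, Int.ofNat 1, Int.ofNat 1, Int.ofNat 1, Int.negSucc 0, Int.negSucc 0],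
  [Int.ofNat 0, Int.negSucc 1, Int.ofNat 0, Int.negSucc 1, Int.ofNat 0, Int.ofNat 0, Int.ofNat 0, Int.negSucc 1, Int.ofNat 0, Int.negSucc 1, Int.ofNat 0, Int.ofNat 0, Int.negSucc 1, Int.ofNat 0, Int.ofNat 2, Int.ofNat 0, Int.ofNat 0, Int.ofNat 2, Int.ofNat 0, Int.ofNat 0, Int.ofNat 0, Int.ofNat 0, Int.negSucc 1, Int.ofNat 0],
  [Int.negSucc 1, Int.ofNat 0, Int.ofNat 0, Int.ofNat 0, Int.negSucc 1, Int.ofNat 0, Int.negSucc 1, Int.ofNat 0, Int.ofNat 0, Int.negSucc 1, Int.ofNat 0, Int.ofNat 2, Int.ofNat 0, Int.ofNat 0, Int.ofNat 2, Int.ofNat 0, Int.ofNat 0, Int.ofNat 0, Int.ofNat 0, Int.negSucc 1, Int.ofNat 0, Int.negSucc 1, Int.ofNat 0, Int.ofNat 0],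
  [Int.ofNat 1, Int.negSucc 0, Int.negSucc 0, Int.negSucc 0, Int.negSucc 0, Int.negSucc 0, Int.ofNat 1, Int.ofNat 3, Int.negSucc 0, Int.negSucc 0, Int.ofNat 1, Int.ofNat 1, Int.negSucc 0, Int.ofNat 1, Int.ofNat 1, Int.ofNat 1, Int.ofNat 1, Int.negSucc 0, Int.negSucc 0, Int.ofNat 1, Int.ofNat 1, Int.ofNat 1, Int.ofNat 1, Int.negSucc 0],
  [Int.ofNat 1, Int.ofNat 1, Int.negSucc 0, Int.negSucc 0, Int.negSucc 0, Int.ofNat 3, Int.negSucc 0, Int.ofNat 1, Int.negSucc 0, Int.ofNat 1, Int.ofNat 1, Int.negSucc 0, Int.negSucc 0, Int.ofNat 1, Int.ofNat 1, Int.ofNat 1, Int.negSucc 0, Int.ofNat 1, Int.negSucc 0, Int.ofNat 1, Int.ofNat 1, Int.negSucc 0, Int.ofNat 1, Int.negSucc 0],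
  [Int.negSucc 0, Int.negSucc 0, Int.ofNat 1, Int.negSucc 2, Int.negSucc 0, Int.ofNat 1, Int.negSucc 0, Int.ofNat 1, Int.ofNat 1, Int.negSucc 0, Int.negSucc 0, Int.ofNat 1, Int.ofNat 1, Int.ofNat 1, Int.negSucc 0, Int.negSucc 0, Int.negSucc 0, Int.negSucc 0, Int.ofNat 1, Int.ofNat 1, Int.negSucc 0, Int.negSucc 0, Int.ofNat 1, Int.ofNat 1],
  [Int.negSucc 0, Int.negSucc 0, Int.negSucc 0, Int.negSucc 2, Int.negSucc 0, Int.negSucc 0, Int.ofNat 1, Int.ofNat 1, Int.ofNat 1, Int.ofNat 1, Int.ofNat 1, Int.ofNat 1, Int.ofNat 1, Int.ofNat 1, Int.negSucc 0, Int.ofNat 1, Int.negSucc 0, Int.negSucc 0, Int.negSucc 0, Int.ofNat 1, Int.negSucc 0, Int.negSucc 0, Int.negSucc 0, Int.ofNat 1],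
  [Int.ofNat 1, Int.negSucc 0, Int.ofNat 1, Int.ofNat 1, Int.ofNat 1, Int.negSucc 0, Int.ofNat 1, Int.negSucc 0, Int.negSucc 0, Int.ofNat 1, Int.negSucc 0, Int.ofNat 1, Int.negSucc 0, Int.negSucc 0, Int.ofNat 1, Int.ofNat 1, Int.negSucc 0, Int.ofNat 1, Int.negSucc 0, Int.negSucc 0, Int.negSucc 2, Int.negSucc 0, Int.negSucc 0, Int.ofNat 1],
  [Int.ofNat 1, Int.negSucc 0, Int.negSucc 0, Int.ofNat 1, Int.ofNat 1, Int.ofNat 1, Int.negSucc 0, Int.negSucc 0, Int.negSucc 0, Int.negSucc 0, Int.ofNat 1, Int.ofNat 1, Int.negSucc 0, Int.negSucc 0, Int.ofNat 1, Int.negSucc 0, Int.negSucc 0, Int.ofNat 1, Int.ofNat 1, Int.negSucc 0, Int.negSucc 2, Int.negSucc 0, Int.ofNat 1, Int.ofNat 1],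
  [Int.negSucc 0, Int.ofNat 1, Int.ofNat 1, Int.negSucc 0, Int.ofNat 1, Int.negSucc 0, Int.ofNat 1, Int.ofNat 1, Int.negSucc 0, Int.ofNat 1, Int.ofNat 3, Int.ofNat 1, Int.negSucc 0, Int.negSucc 0, Int.negSucc 0, Int.ofNat 1, Int.negSucc 0, Int.negSucc 0, Int.ofNat 1, Int.ofNat 1, Int.negSucc 0, Int.ofNat 1, Int.ofNat 1, Int.negSucc 0],
  [Int.negSucc 0, Int.ofNat 1, Int.ofNat 1, Int.negSucc 0, Int.ofNat 1, Int.ofNat 1, Int.ofNat 1, Int.negSucc 0, Int.negSucc 0, Int.negSucc 0, Int.ofNat 1, Int.ofNat 1, Int.negSucc 0, Int.ofNat 1, Int.negSucc 0, Int.ofNat 1, Int.negSucc 0, Int.ofNat 1, Int.ofNat 1, Int.ofNat 1, Int.ofNat 3, Int.negSucc 0, Int.negSucc 0, Int.negSucc 0],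
  [Int.ofNat 1, Int.negSucc 0, Int.negSucc 0, Int.negSucc 0, Int.ofNat 1, Int.ofNat 1, Int.ofNat 1, Int.negSucc 0, Int.negSucc 0, Int.negSucc 2, Int.negSucc 0, Int.ofNat 1, Int.negSucc 0, Int.ofNat 1, Int.negSucc 0, Int.negSucc 0, Int.negSucc 0, Int.ofNat 1, Int.ofNat 1, Int.ofNat 1, Int.ofNat 1, Int.negSucc 0, Int.negSucc 0, Int.ofNat 1],
  [Int.ofNat 1, Int.negSucc 0, Int.negSucc 0, Int.ofNat 1, Int.negSucc 0, Int.negSucc 0, Int.negSucc 0, Int.ofNat 1, Int.ofNat 1, Int.ofNat 1, Int.negSucc 0, Int.negSucc 0, Int.negSucc 2, Int.negSucc 0, Int.ofNat 1, Int.negSucc 0, Int.ofNat 1, Int.negSucc 0, Int.negSucc 0, Int.negSucc 0, Int.ofNat 1, Int.ofNat 1, Int.ofNat 1, Int.ofNat 1],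
  [Int.negSucc 0, Int.ofNat 1, Int.ofNat 1, Int.ofNat 1, Int.negSucc 0, Int.negSucc 0, Int.negSucc 0, Int.ofNat 1, Int.ofNat 3, Int.ofNat 1, Int.negSucc 0, Int.ofNat 1, Int.negSucc 0, Int.negSucc 0, Int.ofNat 1, Int.negSucc 0, Int.ofNat 1, Int.negSucc 0, Int.ofNat 1, Int.negSucc 0, Int.ofNat 1, Int.ofNat 1, Int.ofNat 1, Int.negSucc 0],
  [Int.ofNat 1, Int.ofNat 1, Int.ofNat 1, Int.negSucc 0, Int.negSucc 0, Int.negSucc 0, Int.ofNat 1, Int.ofNat 3, Int.ofNat 1, Int.negSucc 0, Int.ofNat 1, Int.negSucc 0, Int.negSucc 0, Int.ofNat 1, Int.negSucc 0, Int.ofNat 1, Int.negSucc 0, Int.ofNat 1, Int.negSucc 0, Int.ofNat 1, Int.ofNat 1, Int.ofNat 1, Int.negSucc 0, Int.negSucc 0],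
  [Int.negSucc 0, Int.ofNat 1, Int.negSucc 0, Int.negSucc 0, Int.negSucc 0, Int.negSucc 0, Int.ofNat 1, Int.negSucc 2, Int.ofNat 1, Int.ofNat 1, Int.negSucc 0, Int.ofNat 1, Int.negSucc 0, Int.ofNat 1, Int.negSucc 0, Int.ofNat 1, Int.negSucc 0, Int.ofNat 1, Int.ofNat 1, Int.ofNat 1, Int.ofNat 1, Int.negSucc 0, Int.negSucc 0, Int.negSucc 0],
  [Int.ofNat 1, Int.negSucc 0, Int.ofNat 1, Int.ofNat 1, Int.ofNat 1, Int.negSucc 0, Int.negSucc 0, Int.negSucc 2, Int.negSucc 0, Int.negSucc 0, Int.negSucc 0, Int.ofNat 1, Int.ofNat 1, Int.negSucc 0, Int.negSucc 0, Int.ofNat 1, Int.ofNat 1, Int.ofNat 1, Int.negSucc 0, Int.ofNat 1, Int.ofNat 1, Int.negSucc 0, Int.negSucc 0, Int.negSucc 0],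
  [Int.ofNat 1, Int.ofNat 1, Int.negSucc 0, Int.ofNat 1, Int.negSucc 0, Int.negSucc 0, Int.ofNat 1, Int.ofNat 1, Int.negSucc 0, Int.ofNat 1, Int.negSucc 0, Int.negSucc 0, Int.negSucc 0, Int.negSucc 0, Int.ofNat 1, Int.ofNat 1, Int.ofNat 1, Int.negSucc 0, Int.negSucc 0, Int.ofNat 1, Int.negSucc 0, Int.negSucc 2, Int.ofNat 1, Int.negSucc 0],
  [Int.negSucc 0, Int.ofNat 1, Int.ofNat 1, Int.ofNat 1, Int.negSucc 0, Int.negSucc 0, Int.ofNat 1, Int.negSucc 0, Int.negSucc 0, Int.negSucc 0, Int.ofNat 1, Int.ofNat 1, Int.negSucc 0, Int.negSucc 0, Int.ofNat 1, Int.ofNat 1, Int.ofNat 1, Int.negSucc 0, Int.ofNat 1, Int.ofNat 1, Int.negSucc 0, Int.ofNat 3, Int.ofNat 1, Int.negSucc 0],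
  [Int.ofNat 1, Int.negSucc 0, Int.ofNat 1, Int.ofNat 1, Int.ofNat 1, Int.negSucc 0, Int.negSucc 0, Int.ofNat 1, Int.negSucc 0, Int.negSucc 0, Int.negSucc 0, Int.ofNat 1, Int.ofNat 1, Int.negSucc 0, Int.negSucc 0, Int.ofNat 1, Int.ofNat 1, Int.ofNat 1, Int.negSucc 0, Int.ofNat 1, Int.ofNat 1, Int.negSucc 0, Int.ofNat 3, Int.negSucc 0],
  [Int.negSucc 0, Int.ofNat 1, Int.negSucc 0, Int.ofNat 1, Int.negSucc 0, Int.negSucc 0, Int.negSucc 0, Int.ofNat 1, Int.negSucc 0, Int.negSucc 0, Int.negSucc 0, Int.ofNat 1, Int.ofNat 1, Int.negSucc 2, Int.negSucc 0, Int.ofNat 1, Int.negSucc 0, Int.ofNat 1, Int.negSucc 0, Int.ofNat 1, Int.ofNat 1, Int.negSucc 0, Int.ofNat 1, Int.ofNat 1],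
  [Int.ofNat 1, Int.negSucc 0, Int.negSucc 0, Int.negSucc 0, Int.ofNat 1, Int.negSucc 0, Int.negSucc 0, Int.negSucc 0, Int.ofNat 1, Int.ofNat 1, Int.negSucc 2, Int.negSucc 0, Int.ofNat 1, Int.negSucc 0, Int.ofNat 1, Int.negSucc 0, Int.ofNat 1, Int.ofNat 1, Int.negSucc 0, Int.ofNat 1, Int.negSucc 0, Int.ofNat 1, Int.negSucc 0, Int.ofNat 1],
  [Int.negSucc 0, Int.ofNat 1, Int.ofNat 1, Int.negSucc 0, Int.ofNat 1, Int.negSucc 0, Int.negSucc 0, Int.negSucc 0, Int.ofNat 1, Int.ofNat 3, Int.negSucc 0, Int.negSucc 0, Int.ofNat 1, Int.negSucc 0, Int.ofNat 1, Int.ofNat 1, Int.ofNat 1, Int.ofNat 1, Int.negSucc 0, Int.ofNat 1, Int.ofNat 1, Int.ofNat 1, Int.negSucc 0, Int.negSucc 0],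
  [Int.negSucc 0, Int.negSucc 0, Int.ofNat 1, Int.negSucc 0, Int.negSucc 0, Int.negSucc 0, Int.ofNat 1, Int.negSucc 0, Int.ofNat 1, Int.negSucc 0, Int.ofNat 1, Int.ofNat 1, Int.ofNat 3, Int.ofNat 1, Int.negSucc 0, Int.ofNat 1, Int.ofNat 1, Int.ofNat 1, Int.ofNat 1, Int.negSucc 0, Int.ofNat 1, Int.negSucc 0, Int.ofNat 1, Int.negSucc 0],
  [Int.ofNat 0, Int.ofNat 0, Int.negSucc 1, Int.ofNat 0, Int.negSucc 1, Int.ofNat 0, Int.ofNat 2, Int.ofNat 0, Int.negSucc 1, Int.negSucc 1, Int.ofNat 0, Int.negSucc 1, Int.ofNat 0, Int.ofNat 0, Int.ofNat 0, Int.ofNat 0, Int.ofNat 0, Int.ofNat 2, Int.negSucc 1, Int.ofNat 0, Int.ofNat 0, Int.ofNat 0, Int.ofNat 0, Int.ofNat 0],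
  [Int.ofNat 0, Int.ofNat 0, Int.ofNat 2, Int.ofNat 0, Int.negSucc 1, Int.ofNat 0, Int.negSucc 1, Int.ofNat 0, Int.negSucc 1, Int.ofNat 2, Int.ofNat 0, Int.negSucc 1, Int.ofNat 0, Int.ofNat 0, Int.ofNat 0, Int.ofNat 0, Int.ofNat 0, Int.ofNat 2, Int.ofNat 2, Int.ofNat 0, Int.ofNat 0, Int.ofNat 0, Int.ofNat 0, Int.ofNat 0],
  [Int.ofNat 0, Int.ofNat 0, Int.negSucc 1, Int.negSucc 1, Int.ofNat 0, Int.negSucc 1, Int.ofNat 0, Int.ofNat 0, Int.ofNat 0, Int.ofNat 0, Int.ofNat 0, Int.ofNat 0, Int.ofNat 0, Int.negSucc 1, Int.ofNat 2, Int.ofNat 2, Int.ofNat 0, Int.ofNat 0, Int.ofNat 2, Int.ofNat 2, Int.ofNat 0, Int.ofNat 0, Int.ofNat 0, Int.ofNat 0],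
  [Int.ofNat 0, Int.ofNat 0, Int.ofNat 0, Int.ofNat 2, Int.ofNat 0, Int.ofNat 0, Int.ofNat 2, Int.negSucc 1, Int.ofNat 0, Int.negSucc 1, Int.ofNat 0, Int.negSucc 1, Int.ofNat 0, Int.ofNat 0, Int.ofNat 2, Int.negSucc 1, Int.ofNat 0, Int.ofNat 0, Int.ofNat 2, Int.ofNat 0, Int.ofNat 0, Int.ofNat 0, Int.ofNat 0, Int.ofNat 0],
  [Int.ofNat 0, Int.ofNat 0, Int.ofNat 0, Int.ofNat 2, Int.ofNat 0, Int.ofNat 0, Int.ofNat 2, Int.ofNat 2, Int.ofNat 0, Int.ofNat 2, Int.ofNat 0, Int.ofNat 2, Int.ofNat 0, Int.ofNat 0, Int.ofNat 2, Int.negSucc 1, Int.ofNat 0, Int.ofNat 0, Int.negSucc 1, Int.ofNat 0, Int.ofNat 0, Int.ofNat 0, Int.ofNat 0, Int.ofNat 0],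
  [Int.ofNat 0, Int.ofNat 0, Int.ofNat 0, Int.ofNat 0, Int.ofNat 2, Int.ofNat 0, Int.ofNat 0, Int.ofNat 2, Int.ofNat 2, Int.ofNat 0, Int.ofNat 2, Int.ofNat 0, Int.ofNat 2, Int.ofNat 0, Int.ofNat 0, Int.ofNat 2, Int.negSucc 1, Int.ofNat 0, Int.ofNat 0, Int.negSucc 1, Int.ofNat 0, Int.ofNat 0, Int.ofNat 0, Int.ofNat 0],
  [Int.ofNat 0, Int.ofNat 0, Int.ofNat 0, Int.ofNat 0, Int.ofNat 2, Int.ofNat 0, Int.ofNat 0, Int.ofNat 2, Int.ofNat 0, Int.negSucc 1, Int.ofNat 0, Int.negSucc 1, Int.ofNat 0, Int.ofNat 0, Int.ofNat 0, Int.ofNat 0, Int.negSucc 1, Int.ofNat 0, Int.negSucc 1, Int.negSucc 1, Int.negSucc 1, Int.ofNat 0, Int.ofNat 0, Int.ofNat 0],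
  [Int.ofNat 0, Int.ofNat 2, Int.ofNat 0, Int.ofNat 0, Int.ofNat 2, Int.ofNat 0, Int.negSucc 1, Int.ofNat 0, Int.negSucc 1, Int.ofNat 0, Int.ofNat 0, Int.ofNat 0, Int.ofNat 0, Int.negSucc 1, Int.ofNat 0, Int.negSucc 1, Int.negSucc 1, Int.negSucc 1, Int.ofNat 0, Int.ofNat 0, Int.ofNat 0, Int.ofNat 0, Int.ofNat 0, Int.ofNat 0],
  [Int.ofNat 1, Int.negSucc 0, Int.ofNat 1, Int.ofNat 1, Int.ofNat 3, Int.ofNat 1, Int.negSucc 0, Int.ofNat 1, Int.negSucc 0, Int.ofNat 1, Int.ofNat 1, Int.ofNat 1, Int.ofNat 1, Int.negSucc 0, Int.ofNat 1, Int.negSucc 0, Int.negSucc 0, Int.negSucc 0, Int.ofNat 1, Int.ofNat 1, Int.ofNat 1, Int.ofNat 1, Int.ofNat 1, Int.ofNat 1],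
  [Int.ofNat 1, Int.negSucc 0, Int.ofNat 3, Int.ofNat 1, Int.ofNat 1, Int.ofNat 1, Int.ofNat 1, Int.ofNat 1, Int.ofNat 1, Int.negSucc 0, Int.ofNat 1, Int.negSucc 0, Int.ofNat 1, Int.negSucc 0, Int.ofNat 1, Int.negSucc 0, Int.negSucc 0, Int.ofNat 1, Int.negSucc 0, Int.ofNat 1, Int.ofNat 1, Int.ofNat 1, Int.ofNat 1, Int.ofNat 1],
  [Int.ofNat 1, Int.ofNat 3, Int.negSucc 0, Int.negSucc 0, Int.ofNat 1, Int.negSucc 0, Int.negSucc 0, Int.negSucc 0, Int.ofNat 1, Int.negSucc 0, Int.ofNat 1, Int.negSucc 0, Int.ofNat 1, Int.negSucc 0, Int.negSucc 0, Int.negSucc 0, Int.negSucc 0, Int.negSucc 0, Int.negSucc 0, Int.negSucc 0, Int.ofNat 1, Int.negSucc 0, Int.ofNat 1, Int.ofNat 1],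
  [Int.ofNat 1, Int.ofNat 3, Int.ofNat 1, Int.negSucc 0, Int.ofNat 1, Int.ofNat 1, Int.ofNat 1, Int.negSucc 0, Int.ofNat 1, Int.ofNat 1, Int.negSucc 0, Int.negSucc 0, Int.ofNat 1, Int.negSucc 0, Int.negSucc 0, Int.ofNat 1, Int.negSucc 0, Int.negSucc 0, Int.ofNat 1, Int.negSucc 0, Int.ofNat 1, Int.negSucc 0, Int.negSucc 0, Int.ofNat 1],
  [Int.ofNat 1, Int.ofNat 1, Int.ofNat 1, Int.ofNat 1, Int.negSucc 0, Int.negSucc 0, Int.ofNat 1, Int.ofNat 1, Int.negSucc 0, Int.negSucc 0, Int.ofNat 3, Int.negSucc 0, Int.ofNat 1, Int.ofNat 1, Int.negSucc 0, Int.negSucc 0, Int.negSucc 0, Int.ofNat 1, Int.ofNat 1, Int.negSucc 0, Int.negSucc 0, Int.negSucc 0, Int.ofNat 1, Int.ofNat 1],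
  [Int.ofNat 1, Int.ofNat 1, Int.negSucc 0, Int.ofNat 1, Int.negSucc 0, Int.ofNat 1, Int.negSucc 0, Int.ofNat 1, Int.negSucc 0, Int.ofNat 1, Int.negSucc 2, Int.negSucc 0, Int.ofNat 1, Int.ofNat 1, Int.negSucc 0, Int.ofNat 1, Int.negSucc 0, Int.ofNat 1, Int.negSucc 0, Int.negSucc 0, Int.negSucc 0, Int.negSucc 0, Int.negSucc 0, Int.ofNat 1],
  [Int.ofNat 0, Int.ofNat 0, Int.ofNat 2, Int.ofNat 0, Int.ofNat 0, Int.ofNat 0, Int.ofNat 0, Int.ofNat 2, Int.ofNat 0, Int.ofNat 2, Int.negSucc 1, Int.ofNat 0, Int.ofNat 2, Int.ofNat 2, Int.negSucc 1, Int.ofNat 2, Int.ofNat 0, Int.ofNat 0, Int.ofNat 0, Int.ofNat 0, Int.ofNat 0, Int.ofNat 0, Int.ofNat 0, Int.ofNat 0],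
  [Int.ofNat 0, Int.ofNat 0, Int.ofNat 0, Int.ofNat 0, Int.ofNat 2, Int.ofNat 0, Int.ofNat 0, Int.ofNat 0, Int.ofNat 0, Int.ofNat 2, Int.ofNat 2, Int.ofNat 0, Int.ofNat 0, Int.ofNat 2, Int.ofNat 0, Int.ofNat 2, Int.ofNat 2, Int.ofNat 0, Int.ofNat 0, Int.ofNat 0, Int.negSucc 1, Int.ofNat 0, Int.negSucc 1, Int.ofNat 0],
  [Int.ofNat 0, Int.ofNat 0, Int.ofNat 0, Int.ofNat 0, Int.ofNat 0, Int.ofNat 0, Int.ofNat 0, Int.ofNat 0, Int.ofNat 0, Int.ofNat 0, Int.ofNat 0, Int.ofNat 0, Int.ofNat 0, Int.ofNat 0, Int.ofNat 0, Int.ofNat 0, Int.ofNat 0, Int.ofNat 0, Int.ofNat 0, Int.ofNat 0, Int.negSucc 3, Int.ofNat 0, Int.negSucc 3, Int.ofNat 0],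
  [Int.negSucc 3, Int.ofNat 0, Int.negSucc 3, Int.ofNat 0, Int.ofNat 0, Int.ofNat 0, Int.ofNat 0, Int.ofNat 0, Int.ofNat 0, Int.ofNat 0, Int.ofNat 0, Int.ofNat 0, Int.ofNat 0, Int.ofNat 0, Int.ofNat 0, Int.ofNat 0, Int.ofNat 0, Int.ofNat 0, Int.ofNat 0, Int.ofNat 0, Int.ofNat 0, Int.ofNat 0, Int.ofNat 0, Int.ofNat 0],
  [Int.ofNat 0, Int.negSucc 3, Int.ofNat 0, Int.ofNat 0, Int.ofNat 0, Int.ofNat 0, Int.ofNat 0, Int.ofNat 0, Int.ofNat 0, Int.ofNat 0, Int.ofNat 0, Int.ofNat 0, Int.ofNat 0, Int.ofNat 0, Int.ofNat 0, Int.ofNat 0, Int.ofNat 0, Int.ofNat 0, Int.ofNat 0, Int.ofNat 0, Int.ofNat 0, Int.ofNat 0, Int.ofNat 0, Int.negSucc 3],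
  [Int.negSucc 3, Int.ofNat 0, Int.ofNat 0, Int.ofNat 0, Int.ofNat 0, Int.ofNat 0, Int.ofNat 0, Int.ofNat 0, Int.ofNat 0, Int.ofNat 0, Int.ofNat 0, Int.ofNat 0, Int.ofNat 0, Int.ofNat 0, Int.ofNat 0, Int.ofNat 0, Int.ofNat 0, Int.ofNat 0, Int.ofNat 0, Int.ofNat 0, Int.ofNat 0, Int.ofNat 0, Int.ofNat 0, Int.negSucc 3],
  [Int.ofNat 4, Int.ofNat 0, Int.ofNat 0, Int.ofNat 0, Int.ofNat 0, Int.ofNat 0, Int.ofNat 0, Int.ofNat 0, Int.ofNat 0, Int.ofNat 0, Int.ofNat 0, Int.ofNat 0, Int.ofNat 0, Int.ofNat 0, Int.ofNat 0, Int.ofNat 0, Int.ofNat 0, Int.ofNat 0, Int.ofNat 0, Int.ofNat 0, Int.ofNat 0, Int.ofNat 0, Int.ofNat 0, Int.negSucc 3],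
  [Int.negSucc 3, Int.ofNat 0, Int.ofNat 0, Int.ofNat 0, Int.ofNat 0, Int.ofNat 0, Int.ofNat 0, Int.ofNat 0, Int.ofNat 0, Int.ofNat 0, Int.ofNat 0, Int.ofNat 0, Int.ofNat 0, Int.ofNat 0, Int.ofNat 0, Int.ofNat 0, Int.ofNat 0, Int.ofNat 0, Int.ofNat 0, Int.ofNat 0, Int.ofNat 0, Int.ofNat 0, Int.ofNat 0, Int.negSucc 3],
  [Int.negSucc 3, Int.ofNat 0, Int.ofNat 0, Int.ofNat 0, Int.ofNat 0, Int.ofNat 0, Int.ofNat 0, Int.ofNat 0, Int.ofNat 0, Int.ofNat 0, Int.ofNat 0, Int.ofNat 0, Int.ofNat 0, Int.ofNat 0, Int.ofNat 0, Int.ofNat 0, Int.ofNat 0, Int.ofNat 0, Int.ofNat 0, Int.ofNat 0, Int.ofNat 0, Int.ofNat 0, Int.ofNat 0, Int.negSucc 3],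
  [Int.ofNat 4, Int.ofNat 0, Int.ofNat 0, Int.ofNat 0, Int.ofNat 0, Int.ofNat 0, Int.ofNat 0, Int.ofNat 0, Int.ofNat 0, Int.ofNat 0, Int.ofNat 0, Int.ofNat 0, Int.ofNat 0, Int.ofNat 0, Int.ofNat 0, Int.ofNat 0, Int.ofNat 0, Int.ofNat 0, Int.ofNat 0, Int.ofNat 0, Int.ofNat 0, Int.ofNat 0, Int.ofNat 0, Int.negSucc 3],
  [Int.ofNat 0, Int.ofNat 4, Int.ofNat 0, Int.ofNat 0, Int.ofNat 0, Int.ofNat 0, Int.ofNat 0, Int.ofNat 0, Int.ofNat 0, Int.ofNat 0, Int.ofNat 0, Int.ofNat 0, Int.ofNat 0, Int.ofNat 0, Int.ofNat 0, Int.ofNat 0, Int.ofNat 0, Int.ofNat 0, Int.ofNat 0, Int.ofNat 0, Int.ofNat 0, Int.ofNat 0, Int.ofNat 0, Int.negSucc 3],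
  [Int.ofNat 0, Int.negSucc 3, Int.ofNat 0, Int.ofNat 0, Int.ofNat 0, Int.ofNat 0, Int.ofNat 0, Int.ofNat 0, Int.ofNat 0, Int.ofNat 0, Int.ofNat 0, Int.ofNat 0, Int.ofNat 0, Int.ofNat 0, Int.ofNat 0, Int.ofNat 0, Int.ofNat 0, Int.ofNat 0, Int.ofNat 0, Int.ofNat 0, Int.ofNat 0, Int.ofNat 0, Int.ofNat 0, Int.ofNat 4],
  [Int.ofNat 0, Int.ofNat 0, Int.ofNat 0, Int.ofNat 0, Int.ofNat 0, Int.ofNat 0, Int.ofNat 0, Int.ofNat 0, Int.ofNat 0, Int.ofNat 0, Int.ofNat 0, Int.ofNat 0, Int.ofNat 0, Int.ofNat 0, Int.ofNat 0, Int.ofNat 0, Int.ofNat 0, Int.ofNat 0, Int.ofNat 0, Int.ofNat 0, Int.ofNat 0, Int.negSucc 3, Int.ofNat 0, Int.ofNat 4],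
  [Int.ofNat 2, Int.ofNat 2, Int.ofNat 2, Int.ofNat 0, Int.ofNat 0, Int.ofNat 0, Int.ofNat 2, Int.ofNat 2, Int.ofNat 0, Int.ofNat 0, Int.ofNat 0, Int.ofNat 0, Int.ofNat 0, Int.ofNat 0, Int.ofNat 0, Int.ofNat 0, Int.ofNat 0, Int.ofNat 0, Int.ofNat 0, Int.ofNat 2, Int.ofNat 0, Int.negSucc 1, Int.ofNat 0, Int.negSucc 1],
  [Int.ofNat 2, Int.ofNat 2, Int.ofNat 0, Int.ofNat 0, Int.ofNat 0, Int.ofNat 2, Int.ofNat 2, Int.ofNat 0, Int.ofNat 0, Int.ofNat 0, Int.ofNat 0, Int.ofNat 0, Int.ofNat 0, Int.ofNat 0, Int.ofNat 0, Int.ofNat 0, Int.ofNat 0, Int.ofNat 0, Int.ofNat 2, Int.ofNat 0, Int.negSucc 1, Int.ofNat 0, Int.ofNat 2, Int.negSucc 1],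
  [Int.negSucc 0, Int.negSucc 0, Int.ofNat 1, Int.negSucc 0, Int.negSucc 0, Int.ofNat 1, Int.ofNat 1, Int.negSucc 0, Int.negSucc 0, Int.ofNat 1, Int.ofNat 1, Int.negSucc 0, Int.negSucc 0, Int.negSucc 0, Int.negSucc 0, Int.ofNat 1, Int.negSucc 0, Int.negSucc 0, Int.ofNat 1, Int.negSucc 0, Int.negSucc 0, Int.negSucc 0, Int.ofNat 1, Int.ofNat 3],
  [Int.negSucc 0, Int.negSucc 0, Int.negSucc 0, Int.negSucc 0, Int.negSucc 0, Int.negSucc 0, Int.negSucc 0, Int.negSucc 0, Int.negSucc 0, Int.negSucc 0, Int.negSucc 0, Int.negSucc 0, Int.negSucc 0, Int.negSucc 0, Int.negSucc 0, Int.negSucc 0, Int.negSucc 0, Int.negSucc 0, Int.negSucc 0, Int.negSucc 0, Int.negSucc 0, Int.negSucc 0, Int.negSucc 0, Int.ofNat 3],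
  [Int.negSucc 0, Int.negSucc 0, Int.negSucc 0, Int.negSucc 0, Int.negSucc 0, Int.negSucc 0, Int.negSucc 0, Int.negSucc 0, Int.negSucc 0, Int.negSucc 0, Int.negSucc 0, Int.negSucc 0, Int.negSucc 0, Int.negSucc 0, Int.negSucc 0, Int.negSucc 0, Int.negSucc 0, Int.negSucc 0, Int.negSucc 0, Int.negSucc 0, Int.negSucc 0, Int.negSucc 0, Int.negSucc 0, Int.ofNat 3],
  [Int.ofNat 3, Int.negSucc 0, Int.negSucc 0, Int.negSucc 0, Int.negSucc 0, Int.negSucc 0, Int.negSucc 0, Int.negSucc 0, Int.negSucc 0, Int.negSucc 0, Int.negSucc 0, Int.negSucc 0, Int.negSucc 0, Int.negSucc 0, Int.negSucc 0, Int.negSucc 0, Int.negSucc 0, Int.negSucc 0, Int.negSucc 0, Int.negSucc 0, Int.negSucc 0, Int.negSucc 0, Int.negSucc 0, Int.negSucc 0],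
  [Int.negSucc 2, Int.negSucc 0, Int.ofNat 1, Int.negSucc 0, Int.negSucc 0, Int.negSucc 0, Int.negSucc 0, Int.ofNat 1, Int.negSucc 0, Int.ofNat 1, Int.ofNat 1, Int.ofNat 1, Int.negSucc 0, Int.negSucc 0, Int.negSucc 0, Int.negSucc 0, Int.negSucc 0, Int.negSucc 0, Int.ofNat 1, Int.negSucc 0, Int.negSucc 0, Int.ofNat 1, Int.negSucc 0, Int.negSucc 0],
  [Int.negSucc 0, Int.negSucc 2, Int.negSucc 0, Int.ofNat 1, Int.negSucc 0, Int.negSucc 0, Int.negSucc 0, Int.negSucc 0, Int.ofNat 1, Int.negSucc 0, Int.ofNat 1, Int.ofNat 1, Int.ofNat 1, Int.negSucc 0, Int.negSucc 0, Int.negSucc 0, Int.negSucc 0, Int.negSucc 0, Int.negSucc 0, Int.ofNat 1, Int.negSucc 0, Int.negSucc 0, Int.ofNat 1, Int.negSucc 0],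
  [Int.negSucc 1, Int.ofNat 0, Int.negSucc 1, Int.ofNat 2, Int.ofNat 0, Int.ofNat 0, Int.ofNat 0, Int.ofNat 0, Int.ofNat 0, Int.ofNat 0, Int.ofNat 2, Int.ofNat 0, Int.ofNat 0, Int.ofNat 0, Int.ofNat 0, Int.ofNat 0, Int.ofNat 0, Int.ofNat 0, Int.negSucc 1, Int.ofNat 2, Int.ofNat 0, Int.ofNat 0, Int.ofNat 2, Int.negSucc 1],
  [Int.ofNat 2, Int.ofNat 0, Int.ofNat 0, Int.ofNat 0, Int.ofNat 0, Int.ofNat 0, Int.ofNat 0, Int.ofNat 2, Int.ofNat 0, Int.ofNat 0, Int.ofNat 0, Int.ofNat 0, Int.ofNat 0, Int.ofNat 0, Int.ofNat 0, Int.negSucc 1, Int.ofNat 2, Int.ofNat 0, Int.ofNat 0, Int.ofNat 2, Int.negSucc 1, Int.ofNat 0, Int.negSucc 1, Int.negSucc 1],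
  [Int.negSucc 1, Int.ofNat 0, Int.ofNat 0, Int.ofNat 0, Int.ofNat 0, Int.ofNat 0, Int.negSucc 1, Int.ofNat 0, Int.ofNat 0, Int.ofNat 2, Int.ofNat 2, Int.ofNat 0, Int.ofNat 0, Int.ofNat 0, Int.ofNat 0, Int.ofNat 0, Int.ofNat 2, Int.ofNat 0, Int.ofNat 0, Int.ofNat 0, Int.ofNat 0, Int.negSucc 1, Int.negSucc 1, Int.ofNat 2],
  [Int.negSucc 1, Int.negSucc 1, Int.ofNat 0, Int.ofNat 0, Int.ofNat 0, Int.ofNat 0, Int.ofNat 0, Int.ofNat 2, Int.ofNat 0, Int.ofNat 0, Int.ofNat 0, Int.ofNat 0, Int.ofNat 2, Int.ofNat 2, Int.negSucc 1, Int.ofNat 0, Int.ofNat 0, Int.ofNat 0, Int.ofNat 0, Int.ofNat 0, Int.negSucc 1, Int.ofNat 0, Int.ofNat 0, Int.ofNat 2],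
  [Int.ofNat 1, Int.ofNat 1, Int.negSucc 0, Int.ofNat 1, Int.negSucc 0, Int.ofNat 1, Int.negSucc 0, Int.ofNat 1, Int.negSucc 0, Int.ofNat 1, Int.ofNat 1, Int.negSucc 0, Int.ofNat 1, Int.ofNat 1, Int.negSucc 0, Int.ofNat 1, Int.negSucc 0, Int.ofNat 1, Int.negSucc 0, Int.negSucc 0, Int.negSucc 0, Int.negSucc 0, Int.negSucc 0, Int.negSucc 2],
  [Int.ofNat 1, Int.ofNat 1, Int.ofNat 1, Int.ofNat 1, Int.negSucc 0, Int.negSucc 0, Int.ofNat 1, Int.ofNat 1, Int.negSucc 0, Int.negSucc 0, Int.negSucc 0, Int.negSucc 0, Int.ofNat 1, Int.ofNat 1, Int.negSucc 0, Int.negSucc 0, Int.negSucc 0, Int.ofNat 1, Int.ofNat 1, Int.negSucc 0, Int.negSucc 0, Int.negSucc 0, Int.ofNat 1, Int.negSucc 2],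
  [Int.negSucc 0, Int.ofNat 1, Int.ofNat 1, Int.ofNat 1, Int.ofNat 1, Int.negSucc 0, Int.negSucc 0, Int.negSucc 0, Int.negSucc 0, Int.negSucc 0, Int.ofNat 1, Int.negSucc 0, Int.ofNat 1, Int.negSucc 0, Int.negSucc 0, Int.ofNat 1, Int.ofNat 1, Int.negSucc 0, Int.negSucc 0, Int.ofNat 1, Int.ofNat 1, Int.negSucc 0, Int.ofNat 1, Int.negSucc 2],
  [Int.negSucc 0, Int.ofNat 1, Int.negSucc 0, Int.ofNat 1, Int.ofNat 1, Int.ofNat 1, Int.ofNat 1, Int.negSucc 0, Int.negSucc 0, Int.ofNat 1, Int.negSucc 0, Int.negSucc 0, Int.ofNat 1, Int.negSucc 0, Int.negSucc 0, Int.negSucc 0, Int.ofNat 1, Int.negSucc 0, Int.ofNat 1, Int.ofNat 1, Int.ofNat 1, Int.negSucc 0, Int.negSucc 0, Int.negSucc 2],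
  [Int.negSucc 0, Int.negSucc 2, Int.negSucc 0, Int.ofNat 1, Int.ofNat 1, Int.ofNat 1, Int.ofNat 1, Int.negSucc 0, Int.negSucc 0, Int.ofNat 1, Int.negSucc 0, Int.negSucc 0, Int.ofNat 1, Int.negSucc 0, Int.negSucc 0, Int.negSucc 0, Int.ofNat 1, Int.negSucc 0, Int.ofNat 1, Int.ofNat 1, Int.ofNat 1, Int.negSucc 0, Int.negSucc 0, Int.ofNat 1],
  [Int.negSucc 0, Int.ofNat 1, Int.ofNat 1, Int.ofNat 1, Int.negSucc 0, Int.negSucc 0, Int.negSucc 2, Int.ofNat 1, Int.ofNat 1, Int.ofNat 1, Int.negSucc 0, Int.ofNat 1, Int.negSucc 0, Int.ofNat 1, Int.negSucc 0, Int.negSucc 0, Int.negSucc 0, Int.negSucc 0, Int.ofNat 1, Int.negSucc 0, Int.negSucc 0, Int.ofNat 1, Int.negSucc 0, Int.ofNat 1],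
  [Int.ofNat 2, Int.ofNat 0, Int.ofNat 0, Int.ofNat 2, Int.ofNat 0, Int.ofNat 0, Int.negSucc 1, Int.ofNat 2, Int.ofNat 0, Int.ofNat 2, Int.ofNat 0, Int.ofNat 0, Int.negSucc 1, Int.ofNat 2, Int.ofNat 0, Int.ofNat 0, Int.ofNat 0, Int.ofNat 0, Int.ofNat 0, Int.ofNat 0, Int.ofNat 0, Int.ofNat 2, Int.ofNat 0, Int.ofNat 0],
  [Int.ofNat 0, Int.ofNat 2, Int.ofNat 0, Int.ofNat 2, Int.ofNat 0, Int.ofNat 0, Int.ofNat 2, Int.ofNat 0, Int.ofNat 0, Int.negSucc 1, Int.ofNat 2, Int.ofNat 0, Int.ofNat 2, Int.ofNat 0, Int.ofNat 0, Int.negSucc 1, Int.ofNat 2, Int.ofNat 0, Int.ofNat 0, Int.ofNat 0, Int.ofNat 0, Int.ofNat 0, Int.ofNat 0, Int.ofNat 0],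
  [Int.ofNat 1, Int.negSucc 0, Int.ofNat 1, Int.ofNat 1, Int.negSucc 0, Int.negSucc 0, Int.ofNat 1, Int.negSucc 0, Int.negSucc 0, Int.negSucc 0, Int.ofNat 3, Int.negSucc 0, Int.ofNat 1, Int.negSucc 0, Int.negSucc 0, Int.negSucc 0, Int.ofNat 1, Int.negSucc 0, Int.negSucc 0, Int.negSucc 0, Int.ofNat 1, Int.negSucc 0, Int.negSucc 0, Int.ofNat 1],
  [Int.negSucc 0, Int.ofNat 1, Int.ofNat 1, Int.negSucc 0, Int.negSucc 0, Int.ofNat 1, Int.negSucc 0, Int.negSucc 0, Int.negSucc 0, Int.ofNat 3, Int.negSucc 0, Int.ofNat 1, Int.negSucc 0, Int.negSucc 0, Int.negSucc 0, Int.ofNat 1, Int.negSucc 0, Int.negSucc 0, Int.negSucc 0, Int.ofNat 1, Int.negSucc 0, Int.negSucc 0, Int.ofNat 1, Int.ofNat 1],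
  [Int.ofNat 1, Int.ofNat 1, Int.negSucc 0, Int.negSucc 0, Int.negSucc 0, Int.ofNat 1, Int.negSucc 0, Int.ofNat 1, Int.negSucc 0, Int.negSucc 2, Int.ofNat 1, Int.negSucc 0, Int.negSucc 0, Int.negSucc 0, Int.negSucc 0, Int.ofNat 1, Int.negSucc 0, Int.negSucc 0, Int.ofNat 1, Int.ofNat 1, Int.negSucc 0, Int.ofNat 1, Int.ofNat 1, Int.ofNat 1],
  [Int.negSucc 0, Int.negSucc 0, Int.ofNat 1, Int.ofNat 1, Int.ofNat 1, Int.ofNat 1, Int.ofNat 1, Int.ofNat 1, Int.ofNat 1, Int.ofNat 3, Int.ofNat 1, Int.negSucc 0, Int.ofNat 1, Int.ofNat 1, Int.negSucc 0, Int.ofNat 1, Int.ofNat 1, Int.negSucc 0, Int.negSucc 0, Int.ofNat 1, Int.negSucc 0, Int.ofNat 1, Int.ofNat 1, Int.ofNat 1],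
  [Int.negSucc 0, Int.ofNat 1, Int.negSucc 0, Int.ofNat 1, Int.negSucc 0, Int.ofNat 1, Int.ofNat 1, Int.negSucc 0, Int.ofNat 3, Int.ofNat 1, Int.ofNat 1, Int.negSucc 0, Int.ofNat 1, Int.ofNat 1, Int.ofNat 1, Int.ofNat 1, Int.ofNat 1, Int.ofNat 1, Int.ofNat 1, Int.negSucc 0, Int.ofNat 1, Int.ofNat 1, Int.negSucc 0, Int.ofNat 1],
  [Int.ofNat 1, Int.ofNat 1, Int.ofNat 1, Int.ofNat 1, Int.negSucc 0, Int.ofNat 1, Int.ofNat 1, Int.ofNat 1, Int.ofNat 3, Int.negSucc 0, Int.negSucc 0, Int.ofNat 1, Int.ofNat 1, Int.ofNat 1, Int.ofNat 1, Int.ofNat 1, Int.ofNat 1, Int.ofNat 1, Int.negSucc 0, Int.negSucc 0, Int.ofNat 1, Int.negSucc 0, Int.negSucc 0, Int.ofNat 1],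
  [Int.negSucc 0, Int.ofNat 1, Int.ofNat 1, Int.ofNat 1, Int.ofNat 1, Int.negSucc 0, Int.ofNat 1, Int.ofNat 1, Int.ofNat 1, Int.ofNat 3, Int.negSucc 0, Int.negSucc 0, Int.ofNat 1, Int.ofNat 1, Int.ofNat 1, Int.ofNat 1, Int.ofNat 1, Int.ofNat 1, Int.ofNat 1, Int.negSucc 0, Int.negSucc 0, Int.ofNat 1, Int.negSucc 0, Int.ofNat 1],
  [Int.ofNat 2, Int.ofNat 0, Int.ofNat 0, Int.ofNat 0, Int.ofNat 0, Int.negSucc 1, Int.ofNat 0, Int.ofNat 0, Int.ofNat 0, Int.ofNat 2, Int.negSucc 1, Int.negSucc 1, Int.ofNat 0, Int.ofNat 0, Int.ofNat 0, Int.ofNat 0, Int.ofNat 0, Int.ofNat 0, Int.ofNat 0, Int.negSucc 1, Int.negSucc 1, Int.ofNat 0, Int.negSucc 1, Int.ofNat 0],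
  [Int.ofNat 0, Int.ofNat 0, Int.negSucc 1, Int.ofNat 0, Int.ofNat 0, Int.ofNat 0, Int.ofNat 2, Int.negSucc 1, Int.negSucc 1, Int.ofNat 0, Int.ofNat 0, Int.ofNat 0, Int.ofNat 0, Int.ofNat 0, Int.ofNat 0, Int.ofNat 0, Int.negSucc 1, Int.negSucc 1, Int.ofNat 0, Int.negSucc 1, Int.ofNat 2, Int.ofNat 0, Int.ofNat 0, Int.ofNat 0],
  [Int.negSucc 0, Int.negSucc 0, Int.ofNat 1, Int.ofNat 1, Int.ofNat 1, Int.ofNat 1, Int.ofNat 3, Int.negSucc 0, Int.negSucc 0, Int.negSucc 0, Int.negSucc 0, Int.ofNat 1, Int.ofNat 1, Int.ofNat 1, Int.ofNat 1, Int.negSucc 0, Int.negSucc 0, Int.negSucc 0, Int.ofNat 1, Int.negSucc 0, Int.ofNat 1, Int.ofNat 1, Int.ofNat 1, Int.negSucc 0],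
  [Int.negSucc 0, Int.ofNat 3, Int.ofNat 1, Int.ofNat 1, Int.ofNat 1, Int.negSucc 0, Int.ofNat 1, Int.negSucc 0, Int.ofNat 1, Int.ofNat 1, Int.ofNat 1, Int.negSucc 0, Int.negSucc 0, Int.negSucc 0, Int.ofNat 1, Int.negSucc 0, Int.negSucc 0, Int.ofNat 1, Int.negSucc 0, Int.ofNat 1, Int.ofNat 1, Int.ofNat 1, Int.negSucc 0, Int.negSucc 0],
  [Int.ofNat 2, Int.negSucc 1, Int.ofNat 0, Int.ofNat 0, Int.ofNat 2, Int.negSucc 1, Int.ofNat 0, Int.negSucc 1, Int.ofNat 2, Int.ofNat 0, Int.ofNat 0, Int.ofNat 0, Int.ofNat 0, Int.ofNat 0, Int.ofNat 0, Int.negSucc 1, Int.ofNat 0, Int.ofNat 0, Int.ofNat 0, Int.ofNat 0, Int.ofNat 0, Int.ofNat 0, Int.ofNat 0, Int.ofNat 2],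
  [Int.ofNat 2, Int.negSucc 1, Int.ofNat 0, Int.ofNat 0, Int.ofNat 2, Int.ofNat 2, Int.ofNat 0, Int.negSucc 1, Int.ofNat 2, Int.ofNat 0, Int.ofNat 0, Int.ofNat 0, Int.ofNat 0, Int.ofNat 0, Int.ofNat 0, Int.ofNat 2, Int.ofNat 0, Int.ofNat 0, Int.ofNat 0, Int.ofNat 0, Int.ofNat 0, Int.ofNat 0, Int.ofNat 0, Int.ofNat 2],
  [Int.ofNat 0, Int.ofNat 0, Int.ofNat 0, Int.ofNat 2, Int.ofNat 0, Int.ofNat 0, Int.ofNat 0, Int.ofNat 0, Int.ofNat 2, Int.ofNat 0, Int.ofNat 0, Int.negSucc 1, Int.ofNat 2, Int.ofNat 2, Int.ofNat 0, Int.ofNat 0, Int.ofNat 0, Int.ofNat 0, Int.ofNat 0, Int.ofNat 0, Int.ofNat 2, Int.negSucc 1, Int.ofNat 0, Int.ofNat 2],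
  [Int.ofNat 2, Int.ofNat 0, Int.negSucc 1, Int.ofNat 0, Int.ofNat 0, Int.ofNat 0, Int.ofNat 0, Int.ofNat 2, Int.ofNat 2, Int.ofNat 0, Int.ofNat 0, Int.ofNat 0, Int.negSucc 1, Int.ofNat 0, Int.ofNat 0, Int.ofNat 2, Int.ofNat 0, Int.ofNat 0, Int.ofNat 0, Int.ofNat 0, Int.ofNat 2, Int.ofNat 2, Int.ofNat 0, Int.ofNat 0],
  [Int.negSucc 1, Int.ofNat 0, Int.ofNat 2, Int.ofNat 0, Int.ofNat 0, Int.ofNat 0, Int.ofNat 0, Int.negSucc 1, Int.ofNat 2, Int.ofNat 0, Int.ofNat 0, Int.ofNat 0, Int.negSucc 1, Int.ofNat 0, Int.ofNat 0, Int.ofNat 2, Int.ofNat 0, Int.ofNat 0, Int.ofNat 0, Int.ofNat 0, Int.ofNat 2, Int.negSucc 1, Int.ofNat 0, Int.ofNat 0],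
  [Int.ofNat 0, Int.negSucc 1, Int.ofNat 0, Int.ofNat 2, Int.ofNat 0, Int.ofNat 0, Int.ofNat 0, Int.ofNat 0, Int.negSucc 1, Int.ofNat 2, Int.ofNat 0, Int.ofNat 0, Int.ofNat 0, Int.negSucc 1, Int.ofNat 0, Int.ofNat 0, Int.ofNat 2, Int.ofNat 0, Int.ofNat 0, Int.ofNat 0, Int.ofNat 0, Int.ofNat 2, Int.negSucc 1, Int.ofNat 0],
  [Int.negSucc 0, Int.ofNat 1, Int.negSucc 0, Int.ofNat 1, Int.ofNat 1, Int.negSucc 0, Int.negSucc 0, Int.negSucc 0, Int.negSucc 0, Int.ofNat 1, Int.negSucc 0, Int.ofNat 1, Int.ofNat 1, Int.negSucc 0, Int.negSucc 0, Int.negSucc 0, Int.ofNat 3, Int.negSucc 0, Int.ofNat 1, Int.negSucc 0, Int.negSucc 0, Int.ofNat 1, Int.negSucc 0, Int.negSucc 0],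
  [Int.ofNat 1, Int.ofNat 1, Int.negSucc 0, Int.negSucc 0, Int.negSucc 0, Int.negSucc 0, Int.ofNat 1, Int.negSucc 0, Int.ofNat 1, Int.ofNat 1, Int.negSucc 0, Int.negSucc 0, Int.negSucc 0, Int.ofNat 3, Int.negSucc 0, Int.ofNat 1, Int.negSucc 0, Int.negSucc 0, Int.ofNat 1, Int.negSucc 0, Int.negSucc 0, Int.ofNat 1, Int.negSucc 0, Int.negSucc 0],
  [Int.negSucc 0, Int.negSucc 0, Int.ofNat 1, Int.ofNat 1, Int.negSucc 0, Int.ofNat 1, Int.ofNat 1, Int.negSucc 0, Int.ofNat 1, Int.ofNat 1, Int.negSucc 0, Int.negSucc 0, Int.negSucc 0, Int.ofNat 3, Int.ofNat 1, Int.ofNat 1, Int.negSucc 0, Int.ofNat 1, Int.ofNat 1, Int.negSucc 0, Int.negSucc 0, Int.ofNat 1, Int.negSucc 0, Int.ofNat 1],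
  [Int.negSucc 0, Int.ofNat 1, Int.negSucc 0, Int.ofNat 1, Int.ofNat 1, Int.negSucc 0, Int.ofNat 1, Int.negSucc 0, Int.negSucc 0, Int.ofNat 3, Int.negSucc 0, Int.ofNat 1, Int.ofNat 1, Int.negSucc 0, Int.negSucc 0, Int.ofNat 1, Int.ofNat 1, Int.ofNat 1, Int.negSucc 0, Int.negSucc 0, Int.ofNat 1, Int.ofNat 1, Int.negSucc 0, Int.ofNat 1],
  [Int.ofNat 1, Int.negSucc 0, Int.ofNat 1, Int.ofNat 1, Int.ofNat 1, Int.negSucc 0, Int.ofNat 1, Int.negSucc 0, Int.negSucc 0, Int.ofNat 1, Int.negSucc 2, Int.ofNat 1, Int.ofNat 1, Int.negSucc 0, Int.negSucc 0, Int.negSucc 0, Int.ofNat 1, Int.ofNat 1, Int.negSucc 0, Int.negSucc 0, Int.negSucc 0, Int.ofNat 1, Int.negSucc 0, Int.negSucc 0],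
  [Int.ofNat 1, Int.negSucc 0, Int.negSucc 0, Int.ofNat 1, Int.ofNat 1, Int.ofNat 1, Int.negSucc 0, Int.negSucc 0, Int.negSucc 0, Int.negSucc 0, Int.ofNat 3, Int.ofNat 1, Int.ofNat 1, Int.negSucc 0, Int.negSucc 0, Int.ofNat 1, Int.ofNat 1, Int.ofNat 1, Int.ofNat 1, Int.negSucc 0, Int.negSucc 0, Int.ofNat 1, Int.ofNat 1, Int.negSucc 0],
  [Int.negSucc 0, Int.negSucc 0, Int.ofNat 1, Int.negSucc 0, Int.negSucc 0, Int.ofNat 1, Int.negSucc 0, Int.negSucc 0, Int.ofNat 1, Int.negSucc 0, Int.negSucc 0, Int.ofNat 3, Int.ofNat 1, Int.ofNat 1, Int.ofNat 1, Int.negSucc 0, Int.ofNat 1, Int.ofNat 1, Int.ofNat 1, Int.ofNat 1, Int.ofNat 1, Int.negSucc 0, Int.ofNat 1, Int.negSucc 0],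
  [Int.negSucc 0, Int.negSucc 0, Int.negSucc 0, Int.negSucc 0, Int.negSucc 0, Int.negSucc 0, Int.ofNat 1, Int.negSucc 0, Int.ofNat 1, Int.ofNat 1, Int.ofNat 1, Int.ofNat 3, Int.ofNat 1, Int.ofNat 1, Int.ofNat 1, Int.ofNat 1, Int.ofNat 1, Int.ofNat 1, Int.negSucc 0, Int.ofNat 1, Int.ofNat 1, Int.negSucc 0, Int.negSucc 0, Int.negSucc 0],
  [Int.negSucc 0, Int.negSucc 0, Int.negSucc 0, Int.negSucc 0, Int.negSucc 0, Int.negSucc 0, Int.ofNat 1, Int.negSucc 0, Int.negSucc 0, Int.negSucc 0, Int.negSucc 0, Int.ofNat 1, Int.negSucc 0, Int.ofNat 1, Int.ofNat 1, Int.negSucc 0, Int.ofNat 1, Int.ofNat 1, Int.negSucc 2, Int.ofNat 1, Int.negSucc 0, Int.negSucc 0, Int.negSucc 0, Int.negSucc 0],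
  [Int.negSucc 0, Int.negSucc 2, Int.ofNat 1, Int.negSucc 0, Int.negSucc 0, Int.negSucc 0, Int.negSucc 0, Int.negSucc 0, Int.ofNat 1, Int.negSucc 0, Int.negSucc 0, Int.ofNat 1, Int.negSucc 0, Int.negSucc 0, Int.ofNat 1, Int.negSucc 0, Int.ofNat 1, Int.ofNat 1, Int.negSucc 0, Int.negSucc 0, Int.negSucc 0, Int.negSucc 0, Int.ofNat 1, Int.negSucc 0],
  [Int.negSucc 0, Int.ofNat 1, Int.negSucc 2, Int.negSucc 0, Int.negSucc 0, Int.negSucc 0, Int.ofNat 1, Int.ofNat 1, Int.ofNat 1, Int.ofNat 1, Int.ofNat 1, Int.ofNat 1, Int.negSucc 0, Int.negSucc 0, Int.ofNat 1, Int.ofNat 1, Int.ofNat 1, Int.ofNat 1, Int.negSucc 0, Int.ofNat 1, Int.ofNat 1, Int.ofNat 1, Int.ofNat 1, Int.negSucc 0],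
  [Int.ofNat 1, Int.ofNat 1, Int.ofNat 1, Int.negSucc 0, Int.ofNat 1, Int.negSucc 2, Int.negSucc 0, Int.negSucc 0, Int.negSucc 0, Int.ofNat 1, Int.ofNat 1, Int.ofNat 1, Int.ofNat 1, Int.ofNat 1, Int.ofNat 1, Int.negSucc 0, Int.negSucc 0, Int.ofNat 1, Int.ofNat 1, Int.ofNat 1, Int.ofNat 1, Int.negSucc 0, Int.ofNat 1, Int.negSucc 0],
  [Int.ofNat 0, Int.ofNat 0, Int.ofNat 0, Int.ofNat 0, Int.ofNat 0, Int.negSucc 1, Int.ofNat 0, Int.ofNat 0, Int.negSucc 1, Int.ofNat 0, Int.ofNat 0, Int.ofNat 0, Int.ofNat 0, Int.ofNat 0, Int.ofNat 2, Int.negSucc 1, Int.negSucc 1, Int.ofNat 2, Int.ofNat 0, Int.ofNat 2, Int.ofNat 0, Int.ofNat 0, Int.ofNat 0, Int.ofNat 2],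
  [Int.ofNat 0, Int.ofNat 0, Int.ofNat 0, Int.ofNat 0, Int.negSucc 1, Int.ofNat 0, Int.ofNat 0, Int.negSucc 1, Int.ofNat 0, Int.ofNat 0, Int.ofNat 0, Int.ofNat 0, Int.ofNat 0, Int.ofNat 2, Int.negSucc 1, Int.negSucc 1, Int.ofNat 2, Int.ofNat 0, Int.ofNat 2, Int.ofNat 0, Int.ofNat 0, Int.ofNat 0, Int.ofNat 0, Int.ofNat 2],
  [Int.ofNat 0, Int.ofNat 0, Int.ofNat 0, Int.ofNat 0, Int.negSucc 1, Int.ofNat 0, Int.ofNat 0, Int.ofNat 2, Int.ofNat 0, Int.ofNat 0, Int.ofNat 0, Int.ofNat 0, Int.ofNat 0, Int.ofNat 2, Int.negSucc 1, Int.negSucc 1, Int.ofNat 2, Int.ofNat 0, Int.negSucc 1, Int.ofNat 0, Int.ofNat 0, Int.ofNat 0, Int.ofNat 0, Int.ofNat 2],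
  [Int.ofNat 0, Int.ofNat 0, Int.ofNat 0, Int.ofNat 0, Int.ofNat 2, Int.ofNat 0, Int.ofNat 0, Int.ofNat 2, Int.ofNat 0, Int.ofNat 0, Int.ofNat 0, Int.ofNat 0, Int.ofNat 0, Int.negSucc 1, Int.negSucc 1, Int.negSucc 1, Int.negSucc 1, Int.ofNat 0, Int.ofNat 2, Int.ofNat 0, Int.ofNat 0, Int.ofNat 0, Int.ofNat 0, Int.ofNat 2],
  [Int.ofNat 0, Int.ofNat 0, Int.ofNat 2, Int.ofNat 0, Int.ofNat 0, Int.ofNat 0, Int.ofNat 2, Int.ofNat 0, Int.ofNat 0, Int.negSucc 1, Int.ofNat 0, Int.negSucc 1, Int.negSucc 1, Int.ofNat 0, Int.ofNat 0, Int.negSucc 1, Int.ofNat 0, Int.ofNat 0, Int.ofNat 0, Int.ofNat 0, Int.ofNat 0, Int.ofNat 2, Int.ofNat 0, Int.ofNat 2],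
  [Int.ofNat 0, Int.ofNat 0, Int.negSucc 1, Int.ofNat 0, Int.ofNat 0, Int.ofNat 0, Int.ofNat 2, Int.ofNat 0, Int.ofNat 0, Int.ofNat 2, Int.ofNat 0, Int.ofNat 2, Int.negSucc 1, Int.ofNat 0, Int.ofNat 0, Int.negSucc 1, Int.ofNat 0, Int.ofNat 0, Int.ofNat 0, Int.ofNat 0, Int.ofNat 0, Int.negSucc 1, Int.ofNat 0, Int.ofNat 2],
  [Int.ofNat 0, Int.ofNat 0, Int.ofNat 0, Int.negSucc 1, Int.ofNat 0, Int.ofNat 0, Int.ofNat 0, Int.ofNat 2, Int.ofNat 0, Int.ofNat 0, Int.ofNat 2, Int.ofNat 0, Int.ofNat 2, Int.negSucc 1, Int.ofNat 0, Int.ofNat 0, Int.negSucc 1, Int.ofNat 0, Int.ofNat 0, Int.ofNat 0, Int.ofNat 0, Int.ofNat 0, Int.negSucc 1, Int.ofNat 2],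
  [Int.ofNat 1, Int.ofNat 1, Int.ofNat 1, Int.negSucc 0, Int.ofNat 3, Int.ofNat 1, Int.negSucc 0, Int.ofNat 1, Int.negSucc 0, Int.negSucc 0, Int.ofNat 1, Int.negSucc 0, Int.ofNat 1, Int.ofNat 1, Int.ofNat 1, Int.negSucc 0, Int.ofNat 1, Int.ofNat 1, Int.negSucc 0, Int.negSucc 0, Int.negSucc 0, Int.negSucc 0, Int.ofNat 1, Int.negSucc 0],
  [Int.negSucc 0, Int.ofNat 3, Int.ofNat 1, Int.negSucc 0, Int.ofNat 1, Int.negSucc 0, Int.negSucc 0, Int.ofNat 1, Int.negSucc 0, Int.ofNat 1, Int.ofNat 1, Int.ofNat 1, Int.negSucc 0, Int.ofNat 1, Int.ofNat 1, Int.negSucc 0, Int.negSucc 0, Int.negSucc 0, Int.negSucc 0, Int.ofNat 1, Int.ofNat 1, Int.ofNat 1, Int.ofNat 1, Int.negSucc 0],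
  [Int.ofNat 2, Int.negSucc 1, Int.ofNat 0, Int.ofNat 0, Int.ofNat 0, Int.ofNat 0, Int.negSucc 1, Int.ofNat 0, Int.ofNat 0, Int.ofNat 0, Int.ofNat 0, Int.ofNat 2, Int.ofNat 0, Int.ofNat 0, Int.ofNat 2, Int.negSucc 1, Int.negSucc 1, Int.ofNat 0, Int.ofNat 0, Int.ofNat 0, Int.ofNat 0, Int.ofNat 0, Int.ofNat 0, Int.ofNat 2],
  [Int.ofNat 2, Int.negSucc 1, Int.ofNat 0, Int.ofNat 0, Int.ofNat 0, Int.ofNat 0, Int.ofNat 0, Int.ofNat 0, Int.ofNat 0, Int.ofNat 0, Int.ofNat 0, Int.ofNat 0, Int.ofNat 0, Int.negSucc 1, Int.ofNat 0, Int.negSucc 1, Int.ofNat 0, Int.ofNat 2, Int.negSucc 1, Int.ofNat 2, Int.ofNat 0, Int.ofNat 0, Int.ofNat 0, Int.ofNat 2],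
  [Int.negSucc 0, Int.ofNat 3, Int.ofNat 1, Int.negSucc 0, Int.ofNat 1, Int.negSucc 0, Int.negSucc 0, Int.negSucc 0, Int.ofNat 1, Int.ofNat 1, Int.ofNat 1, Int.ofNat 1, Int.ofNat 1, Int.negSucc 0, Int.negSucc 0, Int.negSucc 0, Int.ofNat 1, Int.ofNat 1, Int.negSucc 0, Int.ofNat 1, Int.ofNat 1, Int.negSucc 0, Int.ofNat 1, Int.negSucc 0],
  [Int.negSucc 0, Int.ofNat 3, Int.negSucc 0, Int.negSucc 0, Int.ofNat 1, Int.ofNat 1, Int.ofNat 1, Int.negSucc 0, Int.ofNat 1, Int.negSucc 0, Int.negSucc 0, Int.ofNat 1, Int.ofNat 1, Int.negSucc 0, Int.negSucc 0, Int.ofNat 1, Int.ofNat 1, Int.ofNat 1, Int.ofNat 1, Int.ofNat 1, Int.ofNat 1, Int.negSucc 0, Int.negSucc 0, Int.negSucc 0],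
  [Int.negSucc 0, Int.ofNat 1, Int.ofNat 1, Int.ofNat 1, Int.negSucc 0, Int.ofNat 1, Int.negSucc 0, Int.negSucc 0, Int.ofNat 1, Int.ofNat 1, Int.negSucc 0, Int.negSucc 0, Int.ofNat 1, Int.ofNat 1, Int.ofNat 1, Int.ofNat 1, Int.ofNat 1, Int.ofNat 1, Int.negSucc 0, Int.negSucc 0, Int.negSucc 0, Int.ofNat 3, Int.negSucc 0, Int.negSucc 0],
  [Int.negSucc 0, Int.negSucc 0, Int.negSucc 0, Int.ofNat 1, Int.ofNat 1, Int.ofNat 1, Int.negSucc 0, Int.ofNat 1, Int.negSucc 0, Int.ofNat 1, Int.ofNat 1, Int.ofNat 1, Int.ofNat 3, Int.negSucc 0, Int.negSucc 0, Int.ofNat 1, Int.negSucc 0, Int.negSucc 0, Int.ofNat 1, Int.negSucc 0, Int.ofNat 1, Int.ofNat 1, Int.ofNat 1, Int.negSucc 0],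
  [Int.ofNat 1, Int.negSucc 0, Int.ofNat 1, Int.ofNat 1, Int.ofNat 1, Int.ofNat 1, Int.negSucc 0, Int.negSucc 0, Int.negSucc 0, Int.negSucc 0, Int.negSucc 0, Int.negSucc 0, Int.ofNat 3, Int.negSucc 0, Int.negSucc 0, Int.ofNat 1, Int.negSucc 0, Int.negSucc 0, Int.negSucc 0, Int.negSucc 0, Int.ofNat 1, Int.negSucc 0, Int.ofNat 1, Int.negSucc 0],
  [Int.ofNat 1, Int.ofNat 1, Int.negSucc 0, Int.ofNat 1, Int.ofNat 1, Int.ofNat 1, Int.ofNat 1, Int.negSucc 0, Int.negSucc 0, Int.negSucc 0, Int.negSucc 0, Int.negSucc 0, Int.negSucc 0, Int.ofNat 3, Int.negSucc 0, Int.negSucc 0, Int.ofNat 1, Int.negSucc 0, Int.negSucc 0, Int.negSucc 0, Int.negSucc 0, Int.ofNat 1, Int.negSucc 0, Int.negSucc 0],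
  [Int.negSucc 0, Int.negSucc 0, Int.ofNat 1, Int.ofNat 1, Int.negSucc 0, Int.ofNat 1, Int.ofNat 1, Int.negSucc 0, Int.ofNat 1, Int.ofNat 1, Int.ofNat 1, Int.ofNat 1, Int.ofNat 1, Int.ofNat 1, Int.negSucc 0, Int.ofNat 1, Int.negSucc 0, Int.negSucc 0, Int.ofNat 1, Int.negSucc 0, Int.ofNat 1, Int.ofNat 1, Int.negSucc 2, Int.ofNat 1],
  [Int.ofNat 1, Int.negSucc 0, Int.ofNat 1, Int.ofNat 1, Int.negSucc 0, Int.ofNat 1, Int.ofNat 1, Int.ofNat 1, Int.ofNat 1, Int.ofNat 1, Int.ofNat 1, Int.negSucc 0, Int.ofNat 1, Int.negSucc 0, Int.negSucc 0, Int.ofNat 1, Int.negSucc 0, Int.ofNat 1, Int.ofNat 1, Int.negSucc 2, Int.negSucc 0, Int.negSucc 0, Int.ofNat 1, Int.ofNat 1],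
  [Int.ofNat 0, Int.ofNat 2, Int.ofNat 0, Int.ofNat 0, Int.ofNat 0, Int.ofNat 0, Int.ofNat 2, Int.ofNat 2, Int.ofNat 0, Int.ofNat 0, Int.ofNat 0, Int.negSucc 1, Int.ofNat 0, Int.ofNat 0, Int.negSucc 1, Int.ofNat 0, Int.ofNat 0, Int.ofNat 0, Int.ofNat 0, Int.negSucc 1, Int.negSucc 1, Int.ofNat 0, Int.ofNat 2, Int.ofNat 0],
  [Int.ofNat 0, Int.ofNat 2, Int.ofNat 0, Int.ofNat 0, Int.ofNat 0, Int.ofNat 2, Int.ofNat 0, Int.ofNat 0, Int.ofNat 0, Int.ofNat 0, Int.negSucc 1, Int.ofNat 0, Int.ofNat 0, Int.ofNat 0, Int.ofNat 2, Int.ofNat 0, Int.ofNat 0, Int.negSucc 1, Int.ofNat 2, Int.negSucc 1, Int.ofNat 0, Int.ofNat 0, Int.negSucc 1, Int.ofNat 0],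
  [Int.ofNat 1, Int.negSucc 0, Int.ofNat 1, Int.negSucc 0, Int.ofNat 1, Int.ofNat 1, Int.ofNat 1, Int.ofNat 1, Int.negSucc 0, Int.ofNat 1, Int.negSucc 0, Int.negSucc 0, Int.negSucc 0, Int.ofNat 1, Int.ofNat 1, Int.ofNat 1, Int.ofNat 1, Int.negSucc 2, Int.ofNat 1, Int.negSucc 0, Int.ofNat 1, Int.ofNat 1, Int.negSucc 0, Int.ofNat 1],
  [Int.ofNat 1, Int.negSucc 0, Int.negSucc 0, Int.negSucc 0, Int.ofNat 1, Int.negSucc 0, Int.negSucc 0, Int.ofNat 1, Int.negSucc 0, Int.negSucc 0, Int.ofNat 1, Int.negSucc 0, Int.negSucc 0, Int.ofNat 1, Int.ofNat 1, Int.negSucc 0, Int.ofNat 1, Int.negSucc 2, Int.negSucc 0, Int.negSucc 0, Int.ofNat 1, Int.ofNat 1, Int.ofNat 1, Int.ofNat 1],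
  [Int.negSucc 0, Int.negSucc 0, Int.negSucc 0, Int.negSucc 0, Int.ofNat 1, Int.ofNat 1, Int.negSucc 0, Int.ofNat 1, Int.ofNat 1, Int.negSucc 0, Int.negSucc 0, Int.ofNat 1, Int.negSucc 0, Int.negSucc 0, Int.negSucc 0, Int.ofNat 1, Int.ofNat 1, Int.negSucc 0, Int.ofNat 1, Int.negSucc 2, Int.negSucc 0, Int.ofNat 1, Int.ofNat 1, Int.ofNat 1],
  [Int.negSucc 0, Int.negSucc 0, Int.ofNat 1, Int.negSucc 0, Int.ofNat 1, Int.negSucc 0, Int.ofNat 1, Int.ofNat 1, Int.ofNat 1, Int.ofNat 1, Int.ofNat 1, Int.ofNat 1, Int.negSucc 0, Int.negSucc 0, Int.negSucc 0, Int.negSucc 0, Int.ofNat 1, Int.negSucc 0, Int.negSucc 0, Int.negSucc 2, Int.negSucc 0, Int.ofNat 1, Int.negSucc 0, Int.ofNat 1],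
  [Int.ofNat 1, Int.ofNat 1, Int.negSucc 0, Int.ofNat 1, Int.ofNat 1, Int.ofNat 1, Int.ofNat 1, Int.ofNat 1, Int.ofNat 1, Int.ofNat 1, Int.ofNat 1, Int.ofNat 1, Int.negSucc 0, Int.negSucc 0, Int.ofNat 1, Int.negSucc 0, Int.ofNat 1, Int.ofNat 1, Int.negSucc 0, Int.negSucc 2, Int.negSucc 0, Int.ofNat 1, Int.negSucc 0, Int.negSucc 0],
  [Int.ofNat 1, Int.negSucc 0, Int.ofNat 1, Int.ofNat 1, Int.negSucc 0, Int.ofNat 1, Int.ofNat 1, Int.ofNat 1, Int.ofNat 1, Int.negSucc 0, Int.ofNat 1, Int.negSucc 2, Int.ofNat 1, Int.ofNat 1, Int.ofNat 1, Int.negSucc 0, Int.negSucc 0, Int.ofNat 1, Int.ofNat 1, Int.negSucc 0, Int.ofNat 1, Int.negSucc 0, Int.ofNat 1, Int.negSucc 0],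
  [Int.negSucc 0, Int.ofNat 1, Int.negSucc 0, Int.negSucc 0, Int.negSucc 0, Int.negSucc 0, Int.ofNat 1, Int.ofNat 1, Int.ofNat 1, Int.negSucc 0, Int.ofNat 1, Int.negSucc 2, Int.ofNat 1, Int.ofNat 1, Int.negSucc 0, Int.negSucc 0, Int.negSucc 0, Int.negSucc 0, Int.ofNat 1, Int.negSucc 0, Int.ofNat 1, Int.negSucc 0, Int.ofNat 1, Int.ofNat 1],
  [Int.ofNat 1, Int.negSucc 0, Int.ofNat 1, Int.negSucc 0, Int.ofNat 1, Int.negSucc 0, Int.negSucc 0, Int.negSucc 0, Int.negSucc 0, Int.ofNat 1, Int.ofNat 1, Int.ofNat 1, Int.negSucc 0, Int.ofNat 1, Int.negSucc 2, Int.ofNat 1, Int.ofNat 1, Int.negSucc 0, Int.negSucc 0, Int.negSucc 0, Int.negSucc 0, Int.ofNat 1, Int.negSucc 0, Int.ofNat 1],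
  [Int.ofNat 0, Int.ofNat 2, Int.ofNat 0, Int.ofNat 2, Int.ofNat 0, Int.ofNat 2, Int.ofNat 0, Int.ofNat 0, Int.ofNat 0, Int.ofNat 0, Int.ofNat 0, Int.ofNat 2, Int.ofNat 0, Int.ofNat 0, Int.ofNat 0, Int.ofNat 0, Int.ofNat 0, Int.ofNat 2, Int.ofNat 0, Int.ofNat 0, Int.negSucc 1, Int.ofNat 2, Int.negSucc 1, Int.ofNat 0],
  [Int.ofNat 2, Int.ofNat 0, Int.ofNat 2, Int.ofNat 0, Int.ofNat 2, Int.ofNat 0, Int.ofNat 0, Int.ofNat 0, Int.ofNat 0, Int.ofNat 0, Int.ofNat 2, Int.ofNat 0, Int.ofNat 0, Int.ofNat 0, Int.ofNat 0, Int.ofNat 0, Int.ofNat 2, Int.ofNat 0, Int.ofNat 0, Int.negSucc 1, Int.ofNat 2, Int.negSucc 1, Int.ofNat 0, Int.ofNat 0],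
  [Int.negSucc 1, Int.ofNat 0, Int.negSucc 1, Int.ofNat 0, Int.ofNat 2, Int.ofNat 0, Int.ofNat 0, Int.ofNat 0, Int.ofNat 0, Int.ofNat 0, Int.negSucc 1, Int.ofNat 0, Int.ofNat 0, Int.ofNat 0, Int.ofNat 0, Int.ofNat 0, Int.ofNat 2, Int.ofNat 0, Int.ofNat 0, Int.negSucc 1, Int.ofNat 2, Int.ofNat 2, Int.ofNat 0, Int.ofNat 0]]

set_option maxRecDepth 100000 in
theorem c1te4_chk : pmChk (List.replicate 14 [4, 0, 26, 25]).flatten nxL c1te4M 0 0 = true := by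
  decide +kernel

theorem c1te4_ne : wE letE2 (List.replicate 14 [4, 0, 26, 25]).flatten ≠ 1 ∧ wE letE2 (List.replicate 14 [4, 0, 26, 25]).flatten ≠ negElt :=
  ne_pm_of_chk nxL_mem c1te4_chk

set_option maxRecDepth 100000 in
def c1te5M : List (List ℤ) :=
  [[Int.ofNat 4, Int.ofNat 0, Int.ofNat 0, Int.ofNat 0, Int.ofNat 0, Int.ofNat 0, Int.ofNat 0, Int.ofNat 0, Int.ofNat 0, Int.ofNat 0, Int.ofNat 0, Int.ofNat 0, Int.ofNat 0, Int.ofNat 0, Int.ofNat 0, Int.ofNat 0, Int.ofNat 0, Int.ofNat 0, Int.ofNat 0, Int.ofNat 0, Int.ofNat 0, Int.ofNat 0, Int.ofNat 0, Int.ofNat 4],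
  [Int.ofNat 4, Int.ofNat 0, Int.ofNat 0, Int.ofNat 0, Int.ofNat 0, Int.ofNat 0, Int.ofNat 0, Int.ofNat 0, Int.ofNat 0, Int.ofNat 0, Int.ofNat 0, Int.ofNat 0, Int.ofNat 0, Int.ofNat 0, Int.ofNat 0, Int.ofNat 0, Int.ofNat 0, Int.ofNat 0, Int.ofNat 0, Int.ofNat 0, Int.ofNat 0, Int.ofNat 0, Int.ofNat 0, Int.ofNat 4],
  [Int.negSucc 3, Int.ofNat 0, Int.ofNat 0, Int.ofNat 0, Int.ofNat 0, Int.ofNat 0, Int.ofNat 0, Int.ofNat 0, Int.ofNat 0, Int.ofNat 0, Int.ofNat 0, Int.ofNat 0, Int.ofNat 0, Int.ofNat 0, Int.ofNat 0, Int.ofNat 0, Int.ofNat 0, Int.ofNat 0, Int.ofNat 0, Int.ofNat 0, Int.ofNat 0, Int.ofNat 0, Int.ofNat 0, Int.ofNat 4],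
  [Int.ofNat 0, Int.negSucc 3, Int.ofNat 0, Int.ofNat 0, Int.ofNat 0, Int.ofNat 0, Int.ofNat 0, Int.ofNat 0, Int.ofNat 0, Int.ofNat 0, Int.ofNat 0, Int.ofNat 0, Int.ofNat 0, Int.ofNat 0, Int.ofNat 0, Int.ofNat 0, Int.ofNat 0, Int.ofNat 0, Int.ofNat 0, Int.ofNat 0, Int.ofNat 0, Int.ofNat 0, Int.ofNat 0, Int.ofNat 4],
  [Int.ofNat 0, Int.ofNat 4, Int.ofNat 0, Int.ofNat 0, Int.ofNat 0, Int.ofNat 0, Int.ofNat 0, Int.ofNat 0, Int.ofNat 0, Int.ofNat 0, Int.ofNat 0, Int.ofNat 0, Int.ofNat 0, Int.ofNat 0, Int.ofNat 0, Int.ofNat 0, Int.ofNat 0, Int.ofNat 0, Int.ofNat 0, Int.ofNat 0, Int.ofNat 0, Int.ofNat 0, Int.ofNat 0, Int.negSucc 3],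
  [Int.ofNat 0, Int.ofNat 0, Int.ofNat 0, Int.ofNat 0, Int.ofNat 0, Int.ofNat 0, Int.ofNat 0, Int.ofNat 0, Int.ofNat 0, Int.ofNat 0, Int.ofNat 0, Int.ofNat 0, Int.ofNat 0, Int.ofNat 0, Int.ofNat 0, Int.ofNat 0, Int.ofNat 0, Int.ofNat 0, Int.ofNat 0, Int.ofNat 0, Int.ofNat 0, Int.ofNat 4, Int.ofNat 0, Int.negSucc 3],
  [Int.negSucc 1, Int.negSucc 1, Int.negSucc 1, Int.ofNat 0, Int.ofNat 0, Int.ofNat 0, Int.negSucc 1, Int.negSucc 1, Int.ofNat 0, Int.ofNat 0, Int.ofNat 0, Int.ofNat 0, Int.ofNat 0, Int.ofNat 0, Int.ofNat 0, Int.ofNat 0, Int.ofNat 0, Int.ofNat 0, Int.ofNat 0, Int.negSucc 1, Int.ofNat 0, Int.ofNat 2, Int.ofNat 0, Int.ofNat 2],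
  [Int.negSucc 1, Int.negSucc 1, Int.ofNat 0, Int.ofNat 0, Int.ofNat 0, Int.negSucc 1, Int.negSucc 1, Int.ofNat 0, Int.ofNat 0, Int.ofNat 0, Int.ofNat 0, Int.ofNat 0, Int.ofNat 0, Int.ofNat 0, Int.ofNat 0, Int.ofNat 0, Int.ofNat 0, Int.ofNat 0, Int.negSucc 1, Int.ofNat 0, Int.ofNat 2, Int.ofNat 0, Int.negSucc 1, Int.ofNat 2],
  [Int.ofNat 1, Int.ofNat 1, Int.negSucc 0, Int.ofNat 1, Int.ofNat 1, Int.negSucc 0, Int.negSucc 0, Int.ofNat 1, Int.ofNat 1, Int.negSucc 0, Int.negSucc 0, Int.ofNat 1, Int.ofNat 1, Int.ofNat 1, Int.ofNat 1, Int.negSucc 0, Int.ofNat 1, Int.ofNat 1, Int.negSucc 0, Int.ofNat 1, Int.ofNat 1, Int.ofNat 1, Int.negSucc 0, Int.negSucc 2],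
  [Int.ofNat 1, Int.ofNat 1, Int.ofNat 1, Int.ofNat 1, Int.ofNat 1, Int.ofNat 1, Int.ofNat 1, Int.ofNat 1, Int.ofNat 1, Int.ofNat 1, Int.ofNat 1, Int.ofNat 1, Int.ofNat 1, Int.ofNat 1, Int.ofNat 1, Int.ofNat 1, Int.ofNat 1, Int.ofNat 1, Int.ofNat 1, Int.ofNat 1, Int.ofNat 1, Int.ofNat 1, Int.ofNat 1, Int.negSucc 2],
  [Int.ofNat 1, Int.ofNat 1, Int.ofNat 1, Int.ofNat 1, Int.ofNat 1, Int.ofNat 1, Int.ofNat 1, Int.ofNat 1, Int.ofNat 1, Int.ofNat 1, Int.ofNat 1, Int.ofNat 1, Int.ofNat 1, Int.ofNat 1, Int.ofNat 1, Int.ofNat 1, Int.ofNat 1, Int.ofNat 1, Int.ofNat 1, Int.ofNat 1, Int.ofNat 1, Int.ofNat 1, Int.ofNat 1, Int.negSucc 2],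
  [Int.negSucc 2, Int.ofNat 1, Int.ofNat 1, Int.ofNat 1, Int.ofNat 1, Int.ofNat 1, Int.ofNat 1, Int.ofNat 1, Int.ofNat 1, Int.ofNat 1, Int.ofNat 1, Int.ofNat 1, Int.ofNat 1, Int.ofNat 1, Int.ofNat 1, Int.ofNat 1, Int.ofNat 1, Int.ofNat 1, Int.ofNat 1, Int.ofNat 1, Int.ofNat 1, Int.ofNat 1, Int.ofNat 1, Int.ofNat 1],
  [Int.ofNat 3, Int.ofNat 1, Int.negSucc 0, Int.ofNat 1, Int.ofNat 1, Int.ofNat 1, Int.ofNat 1, Int.negSucc 0, Int.ofNat 1, Int.negSucc 0, Int.negSucc 0, Int.negSucc 0, Int.ofNat 1, Int.ofNat 1, Int.ofNat 1, Int.ofNat 1, Int.ofNat 1, Int.ofNat 1, Int.negSucc 0, Int.ofNat 1, Int.ofNat 1, Int.negSucc 0, Int.ofNat 1, Int.ofNat 1],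
  [Int.ofNat 1, Int.ofNat 3, Int.ofNat 1, Int.negSucc 0, Int.ofNat 1, Int.ofNat 1, Int.ofNat 1, Int.ofNat 1, Int.negSucc 0, Int.ofNat 1, Int.negSucc 0, Int.negSucc 0, Int.negSucc 0, Int.ofNat 1, Int.ofNat 1, Int.ofNat 1, Int.ofNat 1, Int.ofNat 1, Int.ofNat 1, Int.negSucc 0, Int.ofNat 1, Int.ofNat 1, Int.negSucc 0, Int.ofNat 1],
  [Int.ofNat 2, Int.ofNat 0, Int.ofNat 2, Int.negSucc 1, Int.ofNat 0, Int.ofNat 0, Int.ofNat 0, Int.ofNat 0, Int.ofNat 0, Int.ofNat 0, Int.negSucc 1, Int.ofNat 0, Int.ofNat 0, Int.ofNat 0, Int.ofNat 0, Int.ofNat 0, Int.ofNat 0, Int.ofNat 0, Int.ofNat 2, Int.negSucc 1, Int.ofNat 0, Int.ofNat 0, Int.negSucc 1, Int.ofNat 2],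
  [Int.negSucc 1, Int.ofNat 0, Int.ofNat 0, Int.ofNat 0, Int.ofNat 0, Int.ofNat 0, Int.ofNat 0, Int.negSucc 1, Int.ofNat 0, Int.ofNat 0, Int.ofNat 0, Int.ofNat 0, Int.ofNat 0, Int.ofNat 0, Int.ofNat 0, Int.ofNat 2, Int.negSucc 1, Int.ofNat 0, Int.ofNat 0, Int.negSucc 1, Int.ofNat 2, Int.ofNat 0, Int.ofNat 2, Int.ofNat 2],
  [Int.ofNat 2, Int.ofNat 0, Int.ofNat 0, Int.ofNat 0, Int.ofNat 0, Int.ofNat 0, Int.ofNat 2, Int.ofNat 0, Int.ofNat 0, Int.negSucc 1, Int.negSucc 1, Int.ofNat 0, Int.ofNat 0, Int.ofNat 0, Int.ofNat 0, Int.ofNat 0, Int.negSucc 1, Int.ofNat 0, Int.ofNat 0, Int.ofNat 0, Int.ofNat 0, Int.ofNat 2, Int.ofNat 2, Int.negSucc 1],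
  [Int.ofNat 2, Int.ofNat 2, Int.ofNat 0, Int.ofNat 0, Int.ofNat 0, Int.ofNat 0, Int.ofNat 0, Int.negSucc 1, Int.ofNat 0, Int.ofNat 0, Int.ofNat 0, Int.ofNat 0, Int.negSucc 1, Int.negSucc 1, Int.ofNat 2, Int.ofNat 0, Int.ofNat 0, Int.ofNat 0, Int.ofNat 0, Int.ofNat 0, Int.ofNat 2, Int.ofNat 0, Int.ofNat 0, Int.negSucc 1],
  [Int.negSucc 0, Int.negSucc 0, Int.ofNat 1, Int.negSucc 0, Int.ofNat 1, Int.negSucc 0, Int.ofNat 1, Int.negSucc 0, Int.ofNat 1, Int.negSucc 0, Int.negSucc 0, Int.ofNat 1, Int.negSucc 0, Int.negSucc 0, Int.ofNat 1, Int.negSucc 0, Int.ofNat 1, Int.negSucc 0, Int.ofNat 1, Int.ofNat 1, Int.ofNat 1, Int.ofNat 1, Int.ofNat 1, Int.ofNat 3],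
  [Int.negSucc 0, Int.negSucc 0, Int.negSucc 0, Int.negSucc 0, Int.ofNat 1, Int.ofNat 1, Int.negSucc 0, Int.negSucc 0, Int.ofNat 1, Int.ofNat 1, Int.ofNat 1, Int.ofNat 1, Int.negSucc 0, Int.negSucc 0, Int.ofNat 1, Int.ofNat 1, Int.ofNat 1, Int.negSucc 0, Int.negSucc 0, Int.ofNat 1, Int.ofNat 1, Int.ofNat 1, Int.negSucc 0, Int.ofNat 3],
  [Int.ofNat 1, Int.negSucc 0, Int.negSucc 0, Int.ofNat 1, Int.negSucc 0, Int.negSucc 0, Int.negSucc 0, Int.negSucc 0, Int.ofNat 1, Int.ofNat 1, Int.ofNat 1, Int.negSucc 0, Int.ofNat 1, Int.negSucc 0, Int.ofNat 1, Int.negSucc 0, Int.negSucc 0, Int.ofNat 1, Int.ofNat 1, Int.ofNat 1, Int.ofNat 1, Int.negSucc 0, Int.ofNat 1, Int.ofNat 3],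
  [Int.ofNat 1, Int.negSucc 0, Int.ofNat 1, Int.ofNat 1, Int.negSucc 0, Int.ofNat 1, Int.ofNat 1, Int.negSucc 0, Int.ofNat 1, Int.negSucc 0, Int.negSucc 0, Int.negSucc 0, Int.ofNat 1, Int.negSucc 0, Int.ofNat 1, Int.ofNat 1, Int.negSucc 0, Int.ofNat 1, Int.negSucc 0, Int.ofNat 1, Int.ofNat 1, Int.negSucc 0, Int.negSucc 0, Int.ofNat 3],
  [Int.ofNat 1, Int.ofNat 3, Int.ofNat 1, Int.negSucc 0, Int.ofNat 1, Int.negSucc 0, Int.ofNat 1, Int.negSucc 0, Int.ofNat 1, Int.negSucc 0, Int.negSucc 0, Int.negSucc 0, Int.ofNat 1, Int.ofNat 1, Int.negSucc 0, Int.ofNat 1, Int.ofNat 1, Int.negSucc 0, Int.negSucc 0, Int.ofNat 1, Int.ofNat 1, Int.negSucc 0, Int.ofNat 1, Int.negSucc 0],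
  [Int.ofNat 1, Int.negSucc 0, Int.ofNat 1, Int.negSucc 0, Int.ofNat 1, Int.negSucc 0, Int.ofNat 3, Int.negSucc 0, Int.ofNat 1, Int.ofNat 1, Int.negSucc 0, Int.ofNat 1, Int.ofNat 1, Int.negSucc 0, Int.negSucc 0, Int.ofNat 1, Int.ofNat 1, Int.negSucc 0, Int.ofNat 1, Int.ofNat 1, Int.negSucc 0, Int.ofNat 1, Int.negSucc 0, Int.negSucc 0],
  [Int.negSucc 0, Int.ofNat 1, Int.negSucc 0, Int.ofNat 1, Int.ofNat 1, Int.ofNat 1, Int.ofNat 1, Int.negSucc 2, Int.negSucc 0, Int.ofNat 1, Int.negSucc 0, Int.negSucc 0, Int.negSucc 0, Int.negSucc 0, Int.ofNat 1, Int.ofNat 1, Int.ofNat 1, Int.ofNat 1, Int.negSucc 0, Int.negSucc 0, Int.negSucc 0, Int.negSucc 0, Int.negSucc 0, Int.ofNat 1],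
  [Int.negSucc 0, Int.negSucc 0, Int.negSucc 0, Int.negSucc 0, Int.ofNat 1, Int.negSucc 0, Int.ofNat 1, Int.ofNat 1, Int.ofNat 1, Int.ofNat 1, Int.negSucc 2, Int.negSucc 0, Int.ofNat 1, Int.negSucc 0, Int.negSucc 0, Int.negSucc 0, Int.negSucc 0, Int.ofNat 1, Int.ofNat 1, Int.ofNat 1, Int.ofNat 1, Int.negSucc 0, Int.negSucc 0, Int.ofNat 1],
  [Int.ofNat 0, Int.ofNat 0, Int.ofNat 0, Int.ofNat 0, Int.ofNat 2, Int.ofNat 0, Int.ofNat 0, Int.ofNat 0, Int.ofNat 0, Int.ofNat 2, Int.negSucc 1, Int.negSucc 1, Int.ofNat 0, Int.ofNat 0, Int.ofNat 0, Int.ofNat 0, Int.ofNat 0, Int.ofNat 2, Int.ofNat 0, Int.ofNat 0, Int.ofNat 2, Int.negSucc 1, Int.ofNat 0, Int.negSucc 1],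
  [Int.ofNat 0, Int.ofNat 0, Int.ofNat 0, Int.ofNat 2, Int.ofNat 0, Int.ofNat 0, Int.ofNat 0, Int.ofNat 0, Int.ofNat 2, Int.negSucc 1, Int.negSucc 1, Int.ofNat 0, Int.ofNat 0, Int.ofNat 0, Int.ofNat 0, Int.ofNat 0, Int.ofNat 2, Int.ofNat 0, Int.ofNat 0, Int.ofNat 2, Int.negSucc 1, Int.ofNat 0, Int.ofNat 0, Int.negSucc 1],
  [Int.ofNat 0, Int.ofNat 0, Int.ofNat 0, Int.ofNat 2, Int.ofNat 0, Int.ofNat 0, Int.ofNat 0, Int.ofNat 0, Int.ofNat 2, Int.ofNat 2, Int.ofNat 2, Int.ofNat 0, Int.ofNat 0, Int.ofNat 0, Int.ofNat 0, Int.ofNat 0, Int.ofNat 2, Int.ofNat 0, Int.ofNat 0, Int.ofNat 2, Int.negSucc 1, Int.ofNat 0, Int.ofNat 0, Int.negSucc 1],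
  [Int.ofNat 0, Int.ofNat 0, Int.ofNat 0, Int.negSucc 1, Int.ofNat 0, Int.ofNat 0, Int.ofNat 0, Int.ofNat 0, Int.negSucc 1, Int.negSucc 1, Int.ofNat 2, Int.ofNat 0, Int.ofNat 0, Int.ofNat 0, Int.ofNat 0, Int.ofNat 0, Int.negSucc 1, Int.ofNat 0, Int.ofNat 0, Int.ofNat 2, Int.negSucc 1, Int.ofNat 0, Int.ofNat 0, Int.negSucc 1],
  [Int.ofNat 0, Int.ofNat 0, Int.ofNat 0, Int.negSucc 1, Int.ofNat 0, Int.ofNat 2, Int.ofNat 0, Int.negSucc 1, Int.negSucc 1, Int.negSucc 1, Int.ofNat 0, Int.ofNat 0, Int.ofNat 0, Int.negSucc 1, Int.ofNat 2, Int.ofNat 0, Int.ofNat 0, Int.ofNat 0, Int.ofNat 0, Int.ofNat 0, Int.ofNat 0, Int.ofNat 0, Int.ofNat 0, Int.negSucc 1],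
  [Int.ofNat 0, Int.ofNat 0, Int.ofNat 0, Int.negSucc 1, Int.ofNat 0, Int.ofNat 2, Int.ofNat 0, Int.ofNat 2, Int.negSucc 1, Int.ofNat 2, Int.ofNat 0, Int.ofNat 0, Int.ofNat 0, Int.negSucc 1, Int.ofNat 2, Int.ofNat 0, Int.ofNat 0, Int.ofNat 0, Int.ofNat 0, Int.ofNat 0, Int.ofNat 0, Int.ofNat 0, Int.ofNat 0, Int.negSucc 1],
  [Int.ofNat 0, Int.ofNat 0, Int.ofNat 0, Int.ofNat 0, Int.negSucc 1, Int.ofNat 0, Int.ofNat 2, Int.ofNat 0, Int.ofNat 2, Int.negSucc 1, Int.ofNat 2, Int.ofNat 0, Int.ofNat 0, Int.ofNat 0, Int.negSucc 1, Int.ofNat 2, Int.ofNat 0, Int.ofNat 0, Int.ofNat 0, Int.ofNat 0, Int.ofNat 0, Int.ofNat 0, Int.ofNat 0, Int.negSucc 1],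
  [Int.negSucc 0, Int.negSucc 0, Int.negSucc 0, Int.ofNat 1, Int.negSucc 0, Int.ofNat 1, Int.ofNat 1, Int.negSucc 0, Int.ofNat 1, Int.negSucc 2, Int.ofNat 1, Int.negSucc 0, Int.negSucc 0, Int.ofNat 1, Int.negSucc 0, Int.ofNat 1, Int.ofNat 1, Int.ofNat 1, Int.negSucc 0, Int.negSucc 0, Int.negSucc 0, Int.negSucc 0, Int.ofNat 1, Int.ofNat 1],
  [Int.ofNat 1, Int.negSucc 0, Int.ofNat 1, Int.ofNat 1, Int.negSucc 0, Int.ofNat 1, Int.negSucc 2, Int.ofNat 1, Int.negSucc 0, Int.negSucc 0, Int.ofNat 1, Int.negSucc 0, Int.ofNat 1, Int.ofNat 1, Int.ofNat 1, Int.negSucc 0, Int.negSucc 0, Int.negSucc 0, Int.negSucc 0, Int.ofNat 1, Int.negSucc 0, Int.negSucc 0, Int.negSucc 0, Int.ofNat 1],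
  [Int.ofNat 0, Int.ofNat 2, Int.ofNat 0, Int.ofNat 0, Int.ofNat 0, Int.ofNat 0, Int.negSucc 1, Int.ofNat 2, Int.ofNat 0, Int.ofNat 0, Int.ofNat 2, Int.ofNat 0, Int.ofNat 2, Int.ofNat 2, Int.ofNat 0, Int.ofNat 0, Int.ofNat 0, Int.negSucc 1, Int.ofNat 0, Int.ofNat 2, Int.ofNat 0, Int.ofNat 0, Int.ofNat 0, Int.ofNat 0],
  [Int.ofNat 0, Int.negSucc 1, Int.ofNat 0, Int.ofNat 0, Int.ofNat 0, Int.ofNat 2, Int.ofNat 0, Int.ofNat 2, Int.ofNat 2, Int.ofNat 2, Int.ofNat 0, Int.negSucc 1, Int.ofNat 0, Int.ofNat 0, Int.ofNat 0, Int.ofNat 0, Int.ofNat 0, Int.ofNat 0, Int.ofNat 2, Int.ofNat 0, Int.ofNat 0, Int.ofNat 0, Int.ofNat 2, Int.ofNat 0],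
  [Int.negSucc 0, Int.ofNat 1, Int.negSucc 0, Int.negSucc 0, Int.negSucc 0, Int.ofNat 1, Int.negSucc 0, Int.ofNat 1, Int.ofNat 1, Int.ofNat 1, Int.negSucc 0, Int.negSucc 2, Int.negSucc 0, Int.negSucc 0, Int.negSucc 0, Int.negSucc 0, Int.negSucc 0, Int.negSucc 0, Int.ofNat 1, Int.negSucc 0, Int.negSucc 0, Int.negSucc 0, Int.ofNat 1, Int.negSucc 0],
  [Int.negSucc 0, Int.ofNat 1, Int.ofNat 1, Int.negSucc 0, Int.negSucc 0, Int.negSucc 0, Int.ofNat 1, Int.ofNat 1, Int.ofNat 1, Int.negSucc 0, Int.ofNat 1, Int.negSucc 2, Int.negSucc 0, Int.negSucc 0, Int.negSucc 0, Int.ofNat 1, Int.negSucc 0, Int.negSucc 0, Int.negSucc 0, Int.negSucc 0, Int.negSucc 0, Int.negSucc 0, Int.negSucc 0, Int.negSucc 0],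
  [Int.ofNat 1, Int.negSucc 0, Int.negSucc 2, Int.ofNat 1, Int.negSucc 0, Int.ofNat 1, Int.negSucc 0, Int.negSucc 0, Int.negSucc 0, Int.negSucc 0, Int.negSucc 0, Int.ofNat 1, Int.ofNat 1, Int.negSucc 0, Int.negSucc 0, Int.negSucc 0, Int.negSucc 0, Int.negSucc 0, Int.negSucc 0, Int.ofNat 1, Int.negSucc 0, Int.ofNat 1, Int.negSucc 0, Int.negSucc 0],
  [Int.negSucc 0, Int.negSucc 0, Int.ofNat 1, Int.negSucc 0, Int.negSucc 0, Int.negSucc 0, Int.ofNat 1, Int.negSucc 0, Int.negSucc 0, Int.ofNat 1, Int.negSucc 0, Int.negSucc 2, Int.ofNat 1, Int.negSucc 0, Int.negSucc 0, Int.ofNat 1, Int.negSucc 0, Int.negSucc 0, Int.negSucc 0, Int.negSucc 0, Int.negSucc 0, Int.ofNat 1, Int.negSucc 0, Int.ofNat 1],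
  [Int.ofNat 1, Int.negSucc 0, Int.negSucc 0, Int.negSucc 0, Int.negSucc 0, Int.negSucc 0, Int.ofNat 1, Int.ofNat 1, Int.negSucc 0, Int.negSucc 0, Int.ofNat 1, Int.ofNat 3, Int.ofNat 1, Int.negSucc 0, Int.negSucc 0, Int.ofNat 1, Int.negSucc 0, Int.negSucc 0, Int.ofNat 1, Int.negSucc 0, Int.negSucc 0, Int.negSucc 0, Int.negSucc 0, Int.ofNat 1],
  [Int.negSucc 0, Int.ofNat 1, Int.negSucc 0, Int.negSucc 0, Int.negSucc 0, Int.negSucc 0, Int.negSucc 0, Int.ofNat 1, Int.ofNat 1, Int.negSucc 0, Int.negSucc 0, Int.ofNat 1, Int.ofNat 3, Int.ofNat 1, Int.negSucc 0, Int.negSucc 0, Int.ofNat 1, Int.negSucc 0, Int.negSucc 0, Int.ofNat 1, Int.negSucc 0, Int.negSucc 0, Int.negSucc 0, Int.ofNat 1],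
  [Int.ofNat 1, Int.negSucc 0, Int.ofNat 1, Int.ofNat 1, Int.negSucc 0, Int.ofNat 1, Int.negSucc 0, Int.ofNat 1, Int.negSucc 0, Int.ofNat 1, Int.ofNat 1, Int.negSucc 0, Int.ofNat 1, Int.ofNat 1, Int.ofNat 1, Int.ofNat 1, Int.ofNat 1, Int.ofNat 1, Int.negSucc 2, Int.ofNat 1, Int.ofNat 1, Int.negSucc 0, Int.negSucc 0, Int.negSucc 0],
  [Int.ofNat 1, Int.negSucc 0, Int.ofNat 1, Int.negSucc 0, Int.ofNat 1, Int.negSucc 0, Int.ofNat 1, Int.ofNat 1, Int.negSucc 0, Int.ofNat 1, Int.ofNat 1, Int.ofNat 1, Int.ofNat 1, Int.ofNat 1, Int.ofNat 1, Int.negSucc 2, Int.ofNat 1, Int.ofNat 1, Int.negSucc 0, Int.negSucc 0, Int.ofNat 1, Int.negSucc 0, Int.ofNat 1, Int.negSucc 0],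
  [Int.negSucc 0, Int.ofNat 1, Int.negSucc 0, Int.negSucc 0, Int.negSucc 0, Int.negSucc 0, Int.ofNat 1, Int.ofNat 1, Int.negSucc 0, Int.ofNat 1, Int.ofNat 1, Int.ofNat 1, Int.ofNat 1, Int.negSucc 0, Int.ofNat 1, Int.negSucc 2, Int.negSucc 0, Int.ofNat 1, Int.negSucc 0, Int.negSucc 0, Int.ofNat 1, Int.negSucc 0, Int.negSucc 0, Int.ofNat 1],
  [Int.negSucc 0, Int.ofNat 1, Int.negSucc 0, Int.negSucc 0, Int.negSucc 0, Int.ofNat 1, Int.negSucc 0, Int.ofNat 1, Int.ofNat 1, Int.negSucc 0, Int.ofNat 1, Int.ofNat 1, Int.ofNat 1, Int.negSucc 0, Int.negSucc 0, Int.negSucc 2, Int.negSucc 0, Int.ofNat 1, Int.ofNat 1, Int.ofNat 1, Int.negSucc 0, Int.negSucc 0, Int.negSucc 0, Int.ofNat 1],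
  [Int.ofNat 1, Int.negSucc 0, Int.ofNat 1, Int.negSucc 0, Int.ofNat 1, Int.ofNat 1, Int.negSucc 0, Int.ofNat 1, Int.negSucc 0, Int.ofNat 1, Int.ofNat 3, Int.negSucc 0, Int.negSucc 0, Int.ofNat 1, Int.negSucc 0, Int.negSucc 0, Int.ofNat 1, Int.ofNat 1, Int.negSucc 0, Int.ofNat 1, Int.ofNat 1, Int.negSucc 0, Int.ofNat 1, Int.negSucc 0],
  [Int.ofNat 1, Int.negSucc 0, Int.negSucc 0, Int.negSucc 0, Int.ofNat 1, Int.negSucc 0, Int.ofNat 1, Int.ofNat 1, Int.negSucc 0, Int.negSucc 0, Int.negSucc 2, Int.negSucc 0, Int.negSucc 0, Int.ofNat 1, Int.negSucc 0, Int.ofNat 1, Int.ofNat 1, Int.ofNat 1, Int.ofNat 1, Int.ofNat 1, Int.ofNat 1, Int.negSucc 0, Int.negSucc 0, Int.negSucc 0],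
  [Int.negSucc 0, Int.negSucc 0, Int.ofNat 1, Int.ofNat 1, Int.negSucc 0, Int.negSucc 0, Int.ofNat 1, Int.ofNat 1, Int.ofNat 1, Int.negSucc 0, Int.ofNat 1, Int.ofNat 1, Int.negSucc 0, Int.negSucc 0, Int.ofNat 1, Int.negSucc 0, Int.ofNat 1, Int.negSucc 2, Int.ofNat 1, Int.negSucc 0, Int.negSucc 0, Int.ofNat 1, Int.negSucc 0, Int.negSucc 0],
  [Int.negSucc 0, Int.negSucc 0, Int.negSucc 0, Int.ofNat 1, Int.negSucc 0, Int.ofNat 1, Int.negSucc 0, Int.ofNat 1, Int.ofNat 1, Int.ofNat 1, Int.negSucc 0, Int.ofNat 1, Int.negSucc 0, Int.negSucc 0, Int.ofNat 1, Int.ofNat 1, Int.ofNat 1, Int.negSucc 2, Int.negSucc 0, Int.negSucc 0, Int.negSucc 0, Int.ofNat 1, Int.ofNat 1, Int.negSucc 0],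
  [Int.negSucc 0, Int.negSucc 0, Int.negSucc 0, Int.ofNat 1, Int.negSucc 0, Int.ofNat 1, Int.negSucc 0, Int.ofNat 1, Int.ofNat 1, Int.ofNat 1, Int.negSucc 0, Int.ofNat 1, Int.negSucc 0, Int.negSucc 0, Int.ofNat 1, Int.ofNat 1, Int.ofNat 1, Int.negSucc 2, Int.negSucc 0, Int.negSucc 0, Int.negSucc 0, Int.ofNat 1, Int.ofNat 1, Int.negSucc 0],
  [Int.negSucc 0, Int.negSucc 0, Int.negSucc 0, Int.ofNat 1, Int.negSucc 0, Int.ofNat 1, Int.negSucc 0, Int.ofNat 1, Int.ofNat 1, Int.negSucc 0, Int.ofNat 1, Int.negSucc 0, Int.ofNat 1, Int.ofNat 1, Int.negSucc 2, Int.ofNat 1, Int.negSucc 0, Int.ofNat 1, Int.negSucc 0, Int.ofNat 1, Int.negSucc 0, Int.negSucc 0, Int.ofNat 1, Int.negSucc 0],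
  [Int.negSucc 0, Int.negSucc 0, Int.negSucc 0, Int.ofNat 1, Int.negSucc 0, Int.ofNat 1, Int.negSucc 0, Int.ofNat 1, Int.ofNat 1, Int.negSucc 0, Int.ofNat 1, Int.negSucc 0, Int.ofNat 1, Int.ofNat 1, Int.negSucc 2, Int.ofNat 1, Int.negSucc 0, Int.ofNat 1, Int.negSucc 0, Int.ofNat 1, Int.negSucc 0, Int.negSucc 0, Int.ofNat 1, Int.negSucc 0],
  [Int.negSucc 0, Int.negSucc 0, Int.ofNat 1, Int.negSucc 0, Int.negSucc 0, Int.negSucc 0, Int.ofNat 1, Int.negSucc 0, Int.ofNat 1, Int.negSucc 0, Int.ofNat 1, Int.ofNat 1, Int.negSucc 0, Int.ofNat 1, Int.negSucc 0, Int.ofNat 1, Int.ofNat 1, Int.negSucc 2, Int.ofNat 1, Int.negSucc 0, Int.ofNat 1, Int.negSucc 0, Int.ofNat 1, Int.negSucc 0],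
  [Int.ofNat 0, Int.ofNat 0, Int.negSucc 1, Int.ofNat 2, Int.negSucc 1, Int.ofNat 2, Int.ofNat 2, Int.ofNat 0, Int.ofNat 0, Int.negSucc 1, Int.ofNat 0, Int.ofNat 0, Int.negSucc 1, Int.ofNat 0, Int.ofNat 2, Int.ofNat 0, Int.ofNat 0, Int.ofNat 0, Int.ofNat 0, Int.ofNat 0, Int.ofNat 0, Int.ofNat 0, Int.ofNat 0, Int.ofNat 0],
  [Int.ofNat 0, Int.negSucc 1, Int.ofNat 2, Int.negSucc 1, Int.ofNat 2, Int.ofNat 2, Int.ofNat 0, Int.ofNat 0, Int.negSucc 1, Int.ofNat 0, Int.ofNat 0, Int.negSucc 1, Int.ofNat 0, Int.ofNat 2, Int.ofNat 0, Int.ofNat 0, Int.ofNat 0, Int.ofNat 0, Int.ofNat 0, Int.ofNat 0, Int.ofNat 0, Int.ofNat 0, Int.ofNat 0, Int.ofNat 0],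
  [Int.ofNat 0, Int.negSucc 1, Int.negSucc 1, Int.negSucc 1, Int.ofNat 2, Int.ofNat 2, Int.ofNat 0, Int.ofNat 0, Int.negSucc 1, Int.ofNat 0, Int.ofNat 0, Int.ofNat 2, Int.ofNat 0, Int.ofNat 2, Int.ofNat 0, Int.ofNat 0, Int.ofNat 0, Int.ofNat 0, Int.ofNat 0, Int.ofNat 0, Int.ofNat 0, Int.ofNat 0, Int.ofNat 0, Int.ofNat 0],
  [Int.ofNat 0, Int.ofNat 2, Int.ofNat 2, Int.ofNat 2, Int.negSucc 1, Int.ofNat 2, Int.ofNat 0, Int.ofNat 0, Int.ofNat 2, Int.ofNat 0, Int.ofNat 0, Int.ofNat 2, Int.ofNat 0, Int.negSucc 1, Int.ofNat 0, Int.ofNat 0, Int.ofNat 0, Int.ofNat 0, Int.ofNat 0, Int.ofNat 0, Int.ofNat 0, Int.ofNat 0, Int.ofNat 0, Int.ofNat 0],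
  [Int.ofNat 0, Int.ofNat 2, Int.ofNat 0, Int.ofNat 2, Int.ofNat 2, Int.ofNat 0, Int.negSucc 1, Int.ofNat 0, Int.ofNat 0, Int.ofNat 0, Int.ofNat 0, Int.ofNat 0, Int.negSucc 1, Int.ofNat 2, Int.ofNat 0, Int.ofNat 0, Int.ofNat 0, Int.ofNat 0, Int.ofNat 0, Int.ofNat 0, Int.ofNat 2, Int.ofNat 0, Int.ofNat 2, Int.ofNat 0],
  [Int.ofNat 0, Int.ofNat 2, Int.ofNat 0, Int.ofNat 2, Int.ofNat 2, Int.ofNat 0, Int.negSucc 1, Int.ofNat 0, Int.ofNat 0, Int.ofNat 0, Int.ofNat 0, Int.ofNat 0, Int.negSucc 1, Int.ofNat 2, Int.ofNat 0, Int.ofNat 0, Int.ofNat 0, Int.ofNat 0, Int.ofNat 0, Int.ofNat 0, Int.ofNat 2, Int.ofNat 0, Int.ofNat 2, Int.ofNat 0],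
  [Int.ofNat 2, Int.ofNat 0, Int.ofNat 2, Int.ofNat 0, Int.ofNat 2, Int.ofNat 2, Int.ofNat 0, Int.negSucc 1, Int.ofNat 0, Int.ofNat 0, Int.ofNat 0, Int.ofNat 0, Int.ofNat 0, Int.negSucc 1, Int.ofNat 2, Int.ofNat 0, Int.ofNat 0, Int.ofNat 0, Int.ofNat 0, Int.ofNat 0, Int.ofNat 0, Int.ofNat 2, Int.ofNat 0, Int.ofNat 0],
  [Int.ofNat 0, Int.ofNat 2, Int.ofNat 0, Int.negSucc 1, Int.ofNat 2, Int.ofNat 0, Int.ofNat 0, Int.negSucc 1, Int.ofNat 0, Int.ofNat 0, Int.ofNat 0, Int.ofNat 0, Int.ofNat 0, Int.negSucc 1, Int.ofNat 0, Int.ofNat 0, Int.ofNat 0, Int.negSucc 1, Int.ofNat 0, Int.ofNat 0, Int.ofNat 0, Int.ofNat 2, Int.ofNat 0, Int.ofNat 2],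
  [Int.negSucc 1, Int.ofNat 2, Int.ofNat 0, Int.ofNat 0, Int.negSucc 1, Int.ofNat 0, Int.ofNat 0, Int.ofNat 0, Int.ofNat 0, Int.ofNat 0, Int.negSucc 1, Int.ofNat 0, Int.ofNat 0, Int.ofNat 0, Int.negSucc 1, Int.ofNat 0, Int.ofNat 0, Int.ofNat 0, Int.ofNat 2, Int.ofNat 0, Int.ofNat 0, Int.ofNat 2, Int.ofNat 0, Int.ofNat 2],
  [Int.ofNat 3, Int.negSucc 0, Int.ofNat 1, Int.ofNat 1, Int.negSucc 0, Int.ofNat 1, Int.negSucc 0, Int.negSucc 0, Int.negSucc 0, Int.ofNat 1, Int.negSucc 0, Int.negSucc 0, Int.negSucc 0, Int.ofNat 1, Int.negSucc 0, Int.ofNat 1, Int.ofNat 1, Int.ofNat 1, Int.ofNat 1, Int.negSucc 0, Int.ofNat 1, Int.ofNat 1, Int.ofNat 1, Int.negSucc 0],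
  [Int.ofNat 3, Int.negSucc 0, Int.negSucc 0, Int.ofNat 1, Int.ofNat 1, Int.negSucc 0, Int.ofNat 1, Int.negSucc 0, Int.negSucc 0, Int.ofNat 1, Int.ofNat 1, Int.ofNat 1, Int.ofNat 1, Int.ofNat 1, Int.ofNat 1, Int.ofNat 1, Int.negSucc 0, Int.negSucc 0, Int.negSucc 0, Int.negSucc 0, Int.ofNat 1, Int.ofNat 1, Int.negSucc 0, Int.negSucc 0],
  [Int.negSucc 2, Int.ofNat 1, Int.ofNat 1, Int.ofNat 1, Int.ofNat 1, Int.negSucc 0, Int.ofNat 1, Int.negSucc 0, Int.negSucc 0, Int.negSucc 0, Int.negSucc 0, Int.ofNat 1, Int.ofNat 1, Int.ofNat 1, Int.ofNat 1, Int.negSucc 0, Int.negSucc 0, Int.negSucc 0, Int.negSucc 0, Int.negSucc 0, Int.negSucc 0, Int.ofNat 1, Int.negSucc 0, Int.ofNat 1],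
  [Int.negSucc 2, Int.ofNat 1, Int.negSucc 0, Int.ofNat 1, Int.ofNat 1, Int.ofNat 1, Int.negSucc 0, Int.negSucc 0, Int.negSucc 0, Int.ofNat 1, Int.ofNat 1, Int.ofNat 1, Int.ofNat 1, Int.ofNat 1, Int.ofNat 1, Int.ofNat 1, Int.negSucc 0, Int.negSucc 0, Int.ofNat 1, Int.negSucc 0, Int.negSucc 0, Int.ofNat 1, Int.ofNat 1, Int.ofNat 1],
  [Int.ofNat 1, Int.negSucc 0, Int.ofNat 1, Int.negSucc 0, Int.ofNat 1, Int.negSucc 0, Int.ofNat 1, Int.ofNat 1, Int.ofNat 1, Int.negSucc 0, Int.ofNat 1, Int.negSucc 0, Int.ofNat 1, Int.ofNat 1, Int.negSucc 0, Int.ofNat 1, Int.negSucc 0, Int.ofNat 1, Int.ofNat 1, Int.negSucc 0, Int.negSucc 2, Int.ofNat 1, Int.ofNat 1, Int.ofNat 1],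
  [Int.ofNat 1, Int.ofNat 1, Int.negSucc 0, Int.ofNat 1, Int.ofNat 1, Int.negSucc 0, Int.negSucc 0, Int.ofNat 1, Int.negSucc 2, Int.negSucc 0, Int.negSucc 0, Int.ofNat 1, Int.ofNat 1, Int.ofNat 1, Int.ofNat 1, Int.negSucc 0, Int.ofNat 1, Int.ofNat 1, Int.negSucc 0, Int.ofNat 1, Int.ofNat 1, Int.ofNat 1, Int.negSucc 0, Int.ofNat 1],
  [Int.negSucc 0, Int.ofNat 1, Int.ofNat 1, Int.ofNat 1, Int.ofNat 1, Int.negSucc 0, Int.negSucc 0, Int.negSucc 0, Int.negSucc 2, Int.ofNat 1, Int.ofNat 1, Int.negSucc 0, Int.ofNat 1, Int.ofNat 1, Int.ofNat 1, Int.negSucc 0, Int.ofNat 1, Int.ofNat 1, Int.ofNat 1, Int.ofNat 1, Int.ofNat 1, Int.negSucc 0, Int.negSucc 0, Int.ofNat 1],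
  [Int.negSucc 0, Int.negSucc 0, Int.ofNat 1, Int.ofNat 1, Int.ofNat 1, Int.ofNat 1, Int.negSucc 0, Int.negSucc 0, Int.negSucc 0, Int.negSucc 2, Int.ofNat 1, Int.ofNat 1, Int.negSucc 0, Int.ofNat 1, Int.ofNat 1, Int.ofNat 1, Int.negSucc 0, Int.ofNat 1, Int.ofNat 1, Int.ofNat 1, Int.ofNat 1, Int.ofNat 1, Int.negSucc 0, Int.ofNat 1],
  [Int.ofNat 1, Int.ofNat 1, Int.negSucc 0, Int.negSucc 0, Int.ofNat 1, Int.negSucc 0, Int.negSucc 0, Int.negSucc 0, Int.negSucc 0, Int.negSucc 2, Int.ofNat 1, Int.ofNat 1, Int.negSucc 0, Int.ofNat 1, Int.negSucc 0, Int.ofNat 1, Int.negSucc 0, Int.negSucc 0, Int.ofNat 1, Int.ofNat 1, Int.ofNat 1, Int.ofNat 1, Int.negSucc 0, Int.negSucc 0],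
  [Int.negSucc 0, Int.ofNat 1, Int.negSucc 0, Int.negSucc 0, Int.negSucc 0, Int.negSucc 0, Int.negSucc 2, Int.ofNat 1, Int.ofNat 1, Int.negSucc 0, Int.ofNat 1, Int.negSucc 0, Int.ofNat 1, Int.negSucc 0, Int.negSucc 0, Int.ofNat 1, Int.ofNat 1, Int.ofNat 1, Int.ofNat 1, Int.negSucc 0, Int.ofNat 1, Int.ofNat 1, Int.negSucc 0, Int.negSucc 0],
  [Int.ofNat 0, Int.negSucc 1, Int.ofNat 0, Int.ofNat 0, Int.ofNat 0, Int.ofNat 0, Int.negSucc 1, Int.ofNat 2, Int.ofNat 0, Int.negSucc 1, Int.ofNat 0, Int.negSucc 1, Int.ofNat 0, Int.ofNat 0, Int.ofNat 0, Int.ofNat 0, Int.ofNat 2, Int.ofNat 2, Int.ofNat 0, Int.ofNat 0, Int.ofNat 0, Int.ofNat 2, Int.ofNat 0, Int.ofNat 0],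
  [Int.ofNat 0, Int.negSucc 1, Int.ofNat 0, Int.ofNat 0, Int.ofNat 0, Int.ofNat 2, Int.ofNat 0, Int.ofNat 0, Int.ofNat 0, Int.ofNat 0, Int.ofNat 0, Int.ofNat 2, Int.negSucc 1, Int.ofNat 2, Int.ofNat 0, Int.ofNat 0, Int.ofNat 0, Int.ofNat 0, Int.negSucc 1, Int.negSucc 1, Int.ofNat 2, Int.ofNat 0, Int.ofNat 0, Int.ofNat 0],
  [Int.negSucc 0, Int.ofNat 1, Int.negSucc 0, Int.negSucc 0, Int.negSucc 0, Int.ofNat 1, Int.ofNat 1, Int.ofNat 1, Int.ofNat 1, Int.negSucc 0, Int.negSucc 0, Int.ofNat 3, Int.negSucc 0, Int.ofNat 1, Int.negSucc 0, Int.negSucc 0, Int.negSucc 0, Int.negSucc 0, Int.negSucc 0, Int.negSucc 0, Int.ofNat 1, Int.ofNat 1, Int.negSucc 0, Int.negSucc 0],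
  [Int.negSucc 0, Int.ofNat 1, Int.ofNat 1, Int.negSucc 0, Int.negSucc 0, Int.negSucc 0, Int.negSucc 0, Int.ofNat 1, Int.ofNat 1, Int.ofNat 1, Int.ofNat 1, Int.ofNat 3, Int.negSucc 0, Int.ofNat 1, Int.negSucc 0, Int.ofNat 1, Int.negSucc 0, Int.negSucc 0, Int.ofNat 1, Int.negSucc 0, Int.ofNat 1, Int.ofNat 1, Int.ofNat 1, Int.negSucc 0],
  [Int.ofNat 1, Int.negSucc 0, Int.negSucc 0, Int.negSucc 0, Int.ofNat 1, Int.negSucc 0, Int.negSucc 0, Int.negSucc 0, Int.ofNat 1, Int.negSucc 0, Int.ofNat 1, Int.ofNat 1, Int.ofNat 1, Int.ofNat 1, Int.negSucc 0, Int.ofNat 1, Int.ofNat 1, Int.ofNat 1, Int.negSucc 0, Int.ofNat 3, Int.ofNat 1, Int.ofNat 1, Int.negSucc 0, Int.negSucc 0],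
  [Int.ofNat 1, Int.negSucc 0, Int.ofNat 1, Int.negSucc 0, Int.ofNat 1, Int.ofNat 1, Int.ofNat 1, Int.negSucc 0, Int.ofNat 1, Int.ofNat 1, Int.negSucc 0, Int.ofNat 1, Int.ofNat 1, Int.ofNat 1, Int.negSucc 0, Int.negSucc 0, Int.ofNat 1, Int.ofNat 1, Int.ofNat 1, Int.ofNat 3, Int.ofNat 1, Int.ofNat 1, Int.ofNat 1, Int.negSucc 0],
  [Int.negSucc 0, Int.ofNat 1, Int.negSucc 0, Int.negSucc 0, Int.negSucc 0, Int.ofNat 1, Int.negSucc 0, Int.negSucc 2, Int.negSucc 0, Int.ofNat 1, Int.negSucc 0, Int.negSucc 0, Int.negSucc 0, Int.negSucc 0, Int.negSucc 0, Int.negSucc 0, Int.negSucc 0, Int.ofNat 1, Int.negSucc 0, Int.ofNat 1, Int.ofNat 1, Int.negSucc 0, Int.negSucc 0, Int.ofNat 1],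
  [Int.negSucc 0, Int.negSucc 0, Int.negSucc 0, Int.negSucc 0, Int.negSucc 0, Int.negSucc 0, Int.ofNat 1, Int.ofNat 1, Int.negSucc 0, Int.negSucc 0, Int.negSucc 2, Int.ofNat 1, Int.negSucc 0, Int.ofNat 1, Int.ofNat 1, Int.negSucc 0, Int.negSucc 0, Int.negSucc 0, Int.negSucc 0, Int.negSucc 0, Int.negSucc 0, Int.ofNat 1, Int.negSucc 0, Int.ofNat 1],
  [Int.ofNat 0, Int.ofNat 0, Int.ofNat 0, Int.ofNat 0, Int.ofNat 0, Int.ofNat 0, Int.ofNat 0, Int.ofNat 0, Int.ofNat 0, Int.ofNat 2, Int.ofNat 0, Int.ofNat 2, Int.ofNat 0, Int.ofNat 2, Int.ofNat 2, Int.ofNat 2, Int.ofNat 0, Int.ofNat 0, Int.ofNat 0, Int.negSucc 1, Int.ofNat 2, Int.ofNat 0, Int.ofNat 0, Int.negSucc 1],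
  [Int.ofNat 2, Int.ofNat 0, Int.ofNat 0, Int.ofNat 0, Int.ofNat 0, Int.ofNat 0, Int.ofNat 0, Int.ofNat 0, Int.ofNat 0, Int.ofNat 0, Int.ofNat 0, Int.ofNat 0, Int.ofNat 2, Int.ofNat 0, Int.ofNat 2, Int.ofNat 0, Int.ofNat 2, Int.ofNat 2, Int.ofNat 2, Int.ofNat 0, Int.ofNat 0, Int.ofNat 0, Int.negSucc 1, Int.negSucc 1],
  [Int.negSucc 1, Int.ofNat 0, Int.ofNat 0, Int.negSucc 1, Int.ofNat 0, Int.negSucc 1, Int.ofNat 0, Int.ofNat 0, Int.negSucc 1, Int.ofNat 0, Int.ofNat 0, Int.negSucc 1, Int.ofNat 0, Int.ofNat 0, Int.ofNat 0, Int.ofNat 0, Int.ofNat 2, Int.ofNat 0, Int.ofNat 0, Int.ofNat 0, Int.ofNat 0, Int.ofNat 0, Int.negSucc 1, Int.ofNat 2],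
  [Int.ofNat 0, Int.ofNat 0, Int.negSucc 1, Int.ofNat 0, Int.negSucc 1, Int.ofNat 0, Int.ofNat 0, Int.negSucc 1, Int.ofNat 0, Int.ofNat 0, Int.negSucc 1, Int.ofNat 0, Int.ofNat 0, Int.ofNat 0, Int.ofNat 0, Int.ofNat 2, Int.ofNat 0, Int.ofNat 0, Int.ofNat 0, Int.ofNat 0, Int.ofNat 0, Int.negSucc 1, Int.negSucc 1, Int.ofNat 2],
  [Int.ofNat 0, Int.ofNat 0, Int.ofNat 2, Int.ofNat 0, Int.negSucc 1, Int.ofNat 0, Int.ofNat 0, Int.ofNat 2, Int.ofNat 0, Int.ofNat 0, Int.ofNat 2, Int.ofNat 0, Int.ofNat 0, Int.ofNat 0, Int.ofNat 0, Int.ofNat 2, Int.ofNat 0, Int.ofNat 0, Int.ofNat 0, Int.ofNat 0, Int.ofNat 0, Int.ofNat 2, Int.negSucc 1, Int.ofNat 2],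
  [Int.ofNat 0, Int.ofNat 0, Int.negSucc 1, Int.ofNat 0, Int.ofNat 2, Int.ofNat 0, Int.ofNat 0, Int.ofNat 2, Int.ofNat 0, Int.ofNat 0, Int.ofNat 2, Int.ofNat 0, Int.ofNat 0, Int.ofNat 0, Int.ofNat 0, Int.ofNat 2, Int.ofNat 0, Int.ofNat 0, Int.ofNat 0, Int.ofNat 0, Int.ofNat 0, Int.ofNat 2, Int.negSucc 1, Int.ofNat 2],
  [Int.ofNat 0, Int.negSucc 1, Int.ofNat 0, Int.ofNat 0, Int.ofNat 0, Int.ofNat 2, Int.ofNat 2, Int.ofNat 0, Int.ofNat 0, Int.ofNat 0, Int.ofNat 2, Int.ofNat 0, Int.ofNat 0, Int.ofNat 0, Int.ofNat 0, Int.ofNat 2, Int.ofNat 0, Int.negSucc 1, Int.ofNat 0, Int.ofNat 0, Int.ofNat 0, Int.ofNat 2, Int.ofNat 0, Int.ofNat 2],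
  [Int.ofNat 0, Int.negSucc 1, Int.ofNat 0, Int.ofNat 0, Int.ofNat 0, Int.ofNat 2, Int.ofNat 2, Int.ofNat 0, Int.ofNat 0, Int.ofNat 0, Int.negSucc 1, Int.ofNat 0, Int.ofNat 0, Int.ofNat 0, Int.ofNat 0, Int.ofNat 2, Int.ofNat 0, Int.negSucc 1, Int.ofNat 0, Int.ofNat 0, Int.ofNat 0, Int.negSucc 1, Int.ofNat 0, Int.ofNat 2],
  [Int.ofNat 0, Int.ofNat 0, Int.negSucc 1, Int.ofNat 0, Int.ofNat 0, Int.ofNat 0, Int.ofNat 2, Int.ofNat 2, Int.ofNat 0, Int.ofNat 0, Int.ofNat 0, Int.negSucc 1, Int.ofNat 0, Int.ofNat 0, Int.ofNat 0, Int.ofNat 0, Int.ofNat 2, Int.ofNat 0, Int.negSucc 1, Int.ofNat 0, Int.ofNat 0, Int.ofNat 0, Int.negSucc 1, Int.ofNat 2],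
  [Int.ofNat 0, Int.ofNat 0, Int.ofNat 2, Int.ofNat 0, Int.ofNat 0, Int.ofNat 0, Int.ofNat 0, Int.ofNat 0, Int.ofNat 2, Int.ofNat 0, Int.ofNat 0, Int.ofNat 0, Int.ofNat 2, Int.ofNat 0, Int.ofNat 0, Int.ofNat 0, Int.ofNat 2, Int.ofNat 0, Int.ofNat 0, Int.negSucc 1, Int.ofNat 0, Int.negSucc 1, Int.negSucc 1, Int.negSucc 1],
  [Int.ofNat 0, Int.ofNat 0, Int.ofNat 0, Int.ofNat 0, Int.ofNat 0, Int.ofNat 2, Int.ofNat 0, Int.ofNat 0, Int.ofNat 0, Int.ofNat 2, Int.ofNat 0, Int.ofNat 0, Int.ofNat 0, Int.ofNat 2, Int.ofNat 0, Int.ofNat 0, Int.negSucc 1, Int.ofNat 0, Int.negSucc 1, Int.negSucc 1, Int.ofNat 0, Int.ofNat 0, Int.ofNat 2, Int.negSucc 1],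
  [Int.negSucc 0, Int.negSucc 0, Int.negSucc 0, Int.negSucc 0, Int.negSucc 0, Int.ofNat 1, Int.ofNat 1, Int.ofNat 1, Int.ofNat 1, Int.ofNat 1, Int.negSucc 0, Int.ofNat 1, Int.ofNat 1, Int.ofNat 1, Int.negSucc 0, Int.negSucc 0, Int.negSucc 2, Int.negSucc 0, Int.negSucc 0, Int.negSucc 0, Int.negSucc 0, Int.ofNat 1, Int.ofNat 1, Int.ofNat 1],
  [Int.negSucc 0, Int.ofNat 1, Int.negSucc 0, Int.negSucc 0, Int.negSucc 0, Int.ofNat 1, Int.negSucc 0, Int.negSucc 0, Int.ofNat 1, Int.ofNat 1, Int.negSucc 0, Int.negSucc 0, Int.ofNat 1, Int.negSucc 2, Int.ofNat 1, Int.negSucc 0, Int.ofNat 1, Int.negSucc 0, Int.negSucc 0, Int.ofNat 1, Int.ofNat 1, Int.ofNat 1, Int.negSucc 0, Int.ofNat 1],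
  [Int.ofNat 1, Int.negSucc 0, Int.ofNat 1, Int.negSucc 0, Int.ofNat 1, Int.ofNat 1, Int.negSucc 0, Int.negSucc 0, Int.ofNat 1, Int.ofNat 1, Int.negSucc 0, Int.negSucc 0, Int.ofNat 1, Int.negSucc 0, Int.ofNat 1, Int.negSucc 0, Int.ofNat 3, Int.negSucc 0, Int.negSucc 0, Int.ofNat 1, Int.ofNat 1, Int.ofNat 1, Int.ofNat 1, Int.negSucc 0],
  [Int.ofNat 1, Int.negSucc 0, Int.negSucc 0, Int.negSucc 0, Int.ofNat 1, Int.negSucc 0, Int.ofNat 1, Int.negSucc 0, Int.ofNat 1, Int.negSucc 0, Int.ofNat 1, Int.negSucc 0, Int.ofNat 1, Int.negSucc 0, Int.ofNat 1, Int.ofNat 1, Int.ofNat 3, Int.negSucc 0, Int.ofNat 1, Int.ofNat 1, Int.ofNat 1, Int.ofNat 1, Int.negSucc 0, Int.negSucc 0],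
  [Int.ofNat 1, Int.ofNat 3, Int.negSucc 0, Int.ofNat 1, Int.ofNat 1, Int.ofNat 1, Int.ofNat 1, Int.negSucc 0, Int.negSucc 0, Int.ofNat 1, Int.negSucc 0, Int.negSucc 0, Int.ofNat 1, Int.ofNat 1, Int.negSucc 0, Int.ofNat 1, Int.ofNat 1, Int.ofNat 1, Int.negSucc 0, Int.negSucc 0, Int.ofNat 1, Int.negSucc 0, Int.negSucc 0, Int.negSucc 0],
  [Int.negSucc 0, Int.negSucc 0, Int.negSucc 0, Int.ofNat 1, Int.ofNat 1, Int.ofNat 1, Int.negSucc 0, Int.ofNat 1, Int.ofNat 1, Int.ofNat 1, Int.ofNat 1, Int.negSucc 0, Int.negSucc 0, Int.negSucc 0, Int.negSucc 0, Int.ofNat 1, Int.negSucc 0, Int.ofNat 1, Int.negSucc 0, Int.ofNat 1, Int.negSucc 0, Int.ofNat 1, Int.ofNat 3, Int.ofNat 1],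
  [Int.ofNat 1, Int.negSucc 0, Int.ofNat 1, Int.ofNat 1, Int.ofNat 1, Int.ofNat 1, Int.negSucc 0, Int.negSucc 0, Int.ofNat 1, Int.negSucc 0, Int.negSucc 0, Int.ofNat 1, Int.negSucc 0, Int.negSucc 0, Int.negSucc 0, Int.ofNat 1, Int.negSucc 0, Int.ofNat 1, Int.ofNat 1, Int.ofNat 1, Int.negSucc 0, Int.negSucc 0, Int.ofNat 3, Int.ofNat 1],
  [Int.ofNat 3, Int.ofNat 1, Int.negSucc 0, Int.ofNat 1, Int.ofNat 1, Int.ofNat 1, Int.ofNat 1, Int.negSucc 0, Int.negSucc 0, Int.ofNat 1, Int.negSucc 0, Int.negSucc 0, Int.ofNat 1, Int.negSucc 0, Int.negSucc 0, Int.negSucc 0, Int.ofNat 1, Int.negSucc 0, Int.ofNat 1, Int.ofNat 1, Int.ofNat 1, Int.negSucc 0, Int.negSucc 0, Int.ofNat 1],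
  [Int.negSucc 0, Int.ofNat 1, Int.ofNat 3, Int.ofNat 1, Int.ofNat 1, Int.ofNat 1, Int.ofNat 1, Int.negSucc 0, Int.negSucc 0, Int.ofNat 1, Int.negSucc 0, Int.negSucc 0, Int.ofNat 1, Int.negSucc 0, Int.negSucc 0, Int.negSucc 0, Int.ofNat 1, Int.negSucc 0, Int.ofNat 1, Int.ofNat 1, Int.ofNat 1, Int.negSucc 0, Int.negSucc 0, Int.ofNat 1],
  [Int.ofNat 1, Int.ofNat 1, Int.ofNat 1, Int.ofNat 1, Int.negSucc 0, Int.negSucc 0, Int.ofNat 1, Int.negSucc 0, Int.negSucc 0, Int.ofNat 1, Int.negSucc 0, Int.negSucc 0, Int.negSucc 0, Int.ofNat 1, Int.negSucc 0, Int.ofNat 1, Int.ofNat 1, Int.ofNat 1, Int.negSucc 0, Int.negSucc 0, Int.negSucc 0, Int.ofNat 1, Int.ofNat 3, Int.ofNat 1],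
  [Int.ofNat 1, Int.ofNat 1, Int.ofNat 1, Int.ofNat 1, Int.negSucc 2, Int.negSucc 0, Int.ofNat 1, Int.negSucc 0, Int.ofNat 1, Int.ofNat 1, Int.negSucc 0, Int.ofNat 1, Int.ofNat 1, Int.negSucc 0, Int.negSucc 0, Int.ofNat 1, Int.negSucc 0, Int.ofNat 1, Int.ofNat 1, Int.negSucc 0, Int.negSucc 0, Int.ofNat 1, Int.ofNat 1, Int.ofNat 1],
  [Int.ofNat 1, Int.ofNat 1, Int.negSucc 2, Int.ofNat 1, Int.ofNat 1, Int.negSucc 0, Int.ofNat 1, Int.negSucc 0, Int.ofNat 1, Int.negSucc 0, Int.negSucc 0, Int.ofNat 1, Int.ofNat 1, Int.negSucc 0, Int.ofNat 1, Int.ofNat 1, Int.ofNat 1, Int.negSucc 0, Int.ofNat 1, Int.ofNat 1, Int.ofNat 1, Int.negSucc 0, Int.negSucc 0, Int.ofNat 1],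
  [Int.negSucc 0, Int.negSucc 0, Int.ofNat 3, Int.ofNat 1, Int.ofNat 1, Int.negSucc 0, Int.ofNat 1, Int.negSucc 0, Int.negSucc 0, Int.negSucc 0, Int.negSucc 0, Int.negSucc 0, Int.negSucc 0, Int.negSucc 0, Int.ofNat 1, Int.ofNat 1, Int.ofNat 1, Int.negSucc 0, Int.negSucc 0, Int.ofNat 1, Int.ofNat 1, Int.negSucc 0, Int.negSucc 0, Int.negSucc 0],
  [Int.negSucc 0, Int.negSucc 0, Int.negSucc 2, Int.ofNat 1, Int.ofNat 1, Int.ofNat 1, Int.negSucc 0, Int.negSucc 0, Int.negSucc 0, Int.ofNat 1, Int.ofNat 1, Int.negSucc 0, Int.negSucc 0, Int.negSucc 0, Int.ofNat 1, Int.negSucc 0, Int.ofNat 1, Int.negSucc 0, Int.ofNat 1, Int.ofNat 1, Int.ofNat 1, Int.negSucc 0, Int.ofNat 1, Int.negSucc 0],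
  [Int.negSucc 0, Int.ofNat 1, Int.negSucc 0, Int.ofNat 1, Int.ofNat 1, Int.negSucc 0, Int.negSucc 0, Int.negSucc 0, Int.negSucc 0, Int.ofNat 1, Int.ofNat 1, Int.negSucc 0, Int.negSucc 0, Int.negSucc 2, Int.ofNat 1, Int.negSucc 0, Int.negSucc 0, Int.ofNat 1, Int.ofNat 1, Int.negSucc 0, Int.ofNat 1, Int.ofNat 1, Int.ofNat 1, Int.negSucc 0],
  [Int.negSucc 0, Int.ofNat 1, Int.ofNat 1, Int.ofNat 1, Int.ofNat 1, Int.ofNat 1, Int.ofNat 1, Int.negSucc 0, Int.negSucc 0, Int.negSucc 0, Int.negSucc 0, Int.negSucc 0, Int.negSucc 0, Int.negSucc 2, Int.ofNat 1, Int.ofNat 1, Int.negSucc 0, Int.ofNat 1, Int.negSucc 0, Int.negSucc 0, Int.ofNat 1, Int.ofNat 1, Int.negSucc 0, Int.negSucc 0],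
  [Int.ofNat 1, Int.negSucc 0, Int.negSucc 0, Int.negSucc 0, Int.ofNat 3, Int.negSucc 0, Int.ofNat 1, Int.negSucc 0, Int.ofNat 1, Int.negSucc 0, Int.negSucc 0, Int.ofNat 1, Int.ofNat 1, Int.negSucc 0, Int.negSucc 0, Int.ofNat 1, Int.ofNat 1, Int.negSucc 0, Int.ofNat 1, Int.negSucc 0, Int.ofNat 1, Int.ofNat 1, Int.ofNat 1, Int.ofNat 1],
  [Int.ofNat 1, Int.ofNat 1, Int.ofNat 1, Int.negSucc 0, Int.negSucc 0, Int.ofNat 1, Int.negSucc 0, Int.negSucc 0, Int.ofNat 1, Int.ofNat 1, Int.negSucc 0, Int.negSucc 0, Int.ofNat 1, Int.negSucc 0, Int.negSucc 0, Int.ofNat 1, Int.negSucc 0, Int.ofNat 1, Int.ofNat 3, Int.ofNat 1, Int.negSucc 0, Int.ofNat 1, Int.negSucc 0, Int.ofNat 1],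
  [Int.ofNat 1, Int.ofNat 1, Int.ofNat 1, Int.negSucc 0, Int.ofNat 1, Int.ofNat 1, Int.negSucc 0, Int.negSucc 0, Int.negSucc 0, Int.ofNat 1, Int.negSucc 0, Int.negSucc 2, Int.negSucc 0, Int.ofNat 1, Int.negSucc 0, Int.ofNat 1, Int.ofNat 1, Int.ofNat 1, Int.ofNat 1, Int.ofNat 1, Int.negSucc 0, Int.ofNat 1, Int.ofNat 1, Int.ofNat 1],
  [Int.negSucc 0, Int.ofNat 1, Int.ofNat 1, Int.ofNat 1, Int.ofNat 1, Int.ofNat 1, Int.negSucc 0, Int.ofNat 1, Int.ofNat 1, Int.negSucc 0, Int.negSucc 0, Int.negSucc 0, Int.ofNat 1, Int.negSucc 0, Int.negSucc 2, Int.negSucc 0, Int.ofNat 1, Int.negSucc 0, Int.ofNat 1, Int.ofNat 1, Int.ofNat 1, Int.ofNat 1, Int.ofNat 1, Int.ofNat 1],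
  [Int.ofNat 2, Int.ofNat 0, Int.ofNat 0, Int.ofNat 2, Int.ofNat 0, Int.ofNat 2, Int.negSucc 1, Int.ofNat 0, Int.ofNat 0, Int.ofNat 0, Int.ofNat 0, Int.negSucc 1, Int.ofNat 0, Int.negSucc 1, Int.negSucc 1, Int.ofNat 0, Int.ofNat 0, Int.ofNat 0, Int.ofNat 0, Int.ofNat 0, Int.ofNat 2, Int.ofNat 0, Int.ofNat 0, Int.ofNat 0],
  [Int.ofNat 0, Int.ofNat 0, Int.ofNat 2, Int.ofNat 0, Int.ofNat 2, Int.negSucc 1, Int.ofNat 0, Int.ofNat 0, Int.ofNat 0, Int.ofNat 0, Int.negSucc 1, Int.ofNat 0, Int.negSucc 1, Int.negSucc 1, Int.ofNat 0, Int.ofNat 0, Int.ofNat 0, Int.ofNat 0, Int.ofNat 0, Int.ofNat 2, Int.ofNat 0, Int.ofNat 0, Int.ofNat 2, Int.ofNat 0],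
  [Int.ofNat 0, Int.ofNat 0, Int.negSucc 1, Int.ofNat 0, Int.ofNat 2, Int.negSucc 1, Int.ofNat 0, Int.ofNat 0, Int.ofNat 0, Int.ofNat 0, Int.ofNat 2, Int.ofNat 0, Int.negSucc 1, Int.negSucc 1, Int.ofNat 0, Int.ofNat 0, Int.ofNat 0, Int.ofNat 0, Int.ofNat 0, Int.ofNat 2, Int.ofNat 0, Int.ofNat 0, Int.ofNat 2, Int.ofNat 0],
  [Int.ofNat 0, Int.ofNat 0, Int.ofNat 2, Int.ofNat 0, Int.negSucc 1, Int.negSucc 1, Int.ofNat 0, Int.ofNat 0, Int.ofNat 0, Int.ofNat 0, Int.ofNat 2, Int.ofNat 0, Int.ofNat 2, Int.ofNat 2, Int.ofNat 0, Int.ofNat 0, Int.ofNat 0, Int.ofNat 0, Int.ofNat 0, Int.ofNat 2, Int.ofNat 0, Int.ofNat 0, Int.ofNat 2, Int.ofNat 0],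
  [Int.ofNat 0, Int.ofNat 2, Int.ofNat 0, Int.ofNat 0, Int.ofNat 0, Int.ofNat 2, Int.negSucc 1, Int.ofNat 0, Int.ofNat 0, Int.ofNat 0, Int.ofNat 0, Int.ofNat 0, Int.ofNat 2, Int.ofNat 0, Int.ofNat 2, Int.ofNat 0, Int.ofNat 2, Int.ofNat 2, Int.ofNat 0, Int.ofNat 0, Int.negSucc 1, Int.ofNat 0, Int.ofNat 0, Int.ofNat 0],
  [Int.ofNat 0, Int.ofNat 2, Int.ofNat 0, Int.ofNat 0, Int.ofNat 0, Int.ofNat 2, Int.negSucc 1, Int.ofNat 0, Int.ofNat 0, Int.ofNat 0, Int.ofNat 0, Int.ofNat 0, Int.ofNat 2, Int.ofNat 0, Int.ofNat 2, Int.ofNat 0, Int.ofNat 2, Int.ofNat 2, Int.ofNat 0, Int.ofNat 0, Int.negSucc 1, Int.ofNat 0, Int.ofNat 0, Int.ofNat 0],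
  [Int.ofNat 0, Int.ofNat 0, Int.ofNat 2, Int.ofNat 0, Int.ofNat 0, Int.ofNat 0, Int.ofNat 2, Int.negSucc 1, Int.ofNat 0, Int.ofNat 0, Int.ofNat 0, Int.ofNat 0, Int.ofNat 0, Int.ofNat 2, Int.ofNat 0, Int.ofNat 2, Int.ofNat 0, Int.ofNat 2, Int.ofNat 2, Int.ofNat 0, Int.ofNat 0, Int.negSucc 1, Int.ofNat 0, Int.ofNat 0],
  [Int.ofNat 1, Int.ofNat 1, Int.negSucc 0, Int.negSucc 0, Int.negSucc 0, Int.negSucc 0, Int.ofNat 3, Int.negSucc 0, Int.negSucc 0, Int.negSucc 0, Int.negSucc 0, Int.negSucc 0, Int.negSucc 0, Int.ofNat 1, Int.negSucc 0, Int.ofNat 1, Int.negSucc 0, Int.ofNat 1, Int.ofNat 1, Int.ofNat 1, Int.negSucc 0, Int.negSucc 0, Int.negSucc 0, Int.ofNat 1],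
  [Int.negSucc 0, Int.negSucc 0, Int.negSucc 0, Int.ofNat 3, Int.negSucc 0, Int.negSucc 0, Int.negSucc 0, Int.negSucc 0, Int.negSucc 0, Int.negSucc 0, Int.ofNat 1, Int.negSucc 0, Int.ofNat 1, Int.negSucc 0, Int.ofNat 1, Int.ofNat 1, Int.ofNat 1, Int.negSucc 0, Int.negSucc 0, Int.negSucc 0, Int.ofNat 1, Int.ofNat 1, Int.negSucc 0, Int.ofNat 1],
  [Int.ofNat 0, Int.ofNat 0, Int.ofNat 0, Int.ofNat 2, Int.ofNat 0, Int.negSucc 1, Int.ofNat 0, Int.ofNat 0, Int.ofNat 0, Int.negSucc 1, Int.ofNat 0, Int.ofNat 0, Int.ofNat 2, Int.ofNat 0, Int.ofNat 0, Int.ofNat 0, Int.ofNat 2, Int.negSucc 1, Int.ofNat 0, Int.ofNat 0, Int.ofNat 0, Int.ofNat 2, Int.ofNat 0, Int.negSucc 1],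
  [Int.ofNat 0, Int.ofNat 0, Int.ofNat 0, Int.ofNat 2, Int.ofNat 0, Int.ofNat 0, Int.ofNat 0, Int.ofNat 0, Int.ofNat 2, Int.ofNat 0, Int.ofNat 0, Int.negSucc 1, Int.negSucc 1, Int.ofNat 2, Int.ofNat 0, Int.ofNat 0, Int.ofNat 0, Int.ofNat 0, Int.ofNat 0, Int.ofNat 0, Int.ofNat 2, Int.negSucc 1, Int.ofNat 0, Int.negSucc 1],
  [Int.negSucc 0, Int.negSucc 0, Int.negSucc 0, Int.ofNat 1, Int.negSucc 0, Int.negSucc 0, Int.ofNat 1, Int.ofNat 1, Int.ofNat 3, Int.negSucc 0, Int.negSucc 0, Int.negSucc 0, Int.negSucc 0, Int.ofNat 1, Int.negSucc 0, Int.negSucc 0, Int.negSucc 0, Int.negSucc 0, Int.ofNat 1, Int.ofNat 1, Int.ofNat 1, Int.negSucc 0, Int.negSucc 0, Int.ofNat 1],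
  [Int.negSucc 0, Int.negSucc 0, Int.ofNat 1, Int.ofNat 1, Int.negSucc 0, Int.ofNat 1, Int.negSucc 0, Int.ofNat 1, Int.ofNat 3, Int.ofNat 1, Int.ofNat 1, Int.negSucc 0, Int.negSucc 0, Int.ofNat 1, Int.negSucc 0, Int.ofNat 1, Int.negSucc 0, Int.negSucc 0, Int.negSucc 0, Int.ofNat 1, Int.ofNat 1, Int.negSucc 0, Int.ofNat 1, Int.ofNat 1],
  [Int.ofNat 1, Int.negSucc 0, Int.negSucc 0, Int.ofNat 3, Int.negSucc 0, Int.negSucc 0, Int.negSucc 0, Int.ofNat 1, Int.ofNat 1, Int.ofNat 1, Int.ofNat 1, Int.ofNat 1, Int.ofNat 1, Int.negSucc 0, Int.negSucc 0, Int.negSucc 0, Int.ofNat 1, Int.negSucc 0, Int.ofNat 1, Int.ofNat 1, Int.negSucc 0, Int.negSucc 0, Int.ofNat 1, Int.ofNat 1],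
  [Int.ofNat 1, Int.ofNat 1, Int.ofNat 1, Int.negSucc 0, Int.negSucc 0, Int.ofNat 1, Int.ofNat 1, Int.negSucc 0, Int.negSucc 0, Int.negSucc 0, Int.ofNat 1, Int.negSucc 0, Int.negSucc 0, Int.ofNat 1, Int.ofNat 1, Int.ofNat 3, Int.ofNat 1, Int.negSucc 0, Int.negSucc 0, Int.negSucc 0, Int.ofNat 1, Int.ofNat 1, Int.negSucc 0, Int.ofNat 1],
  [Int.negSucc 0, Int.ofNat 1, Int.negSucc 0, Int.negSucc 0, Int.negSucc 0, Int.ofNat 1, Int.ofNat 1, Int.ofNat 1, Int.negSucc 0, Int.ofNat 1, Int.negSucc 0, Int.ofNat 1, Int.negSucc 0, Int.ofNat 1, Int.ofNat 1, Int.ofNat 3, Int.ofNat 1, Int.negSucc 0, Int.ofNat 1, Int.negSucc 0, Int.ofNat 1, Int.negSucc 0, Int.negSucc 0, Int.ofNat 1],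
  [Int.negSucc 0, Int.negSucc 0, Int.ofNat 1, Int.negSucc 0, Int.negSucc 0, Int.negSucc 0, Int.ofNat 1, Int.ofNat 1, Int.ofNat 1, Int.negSucc 0, Int.ofNat 1, Int.negSucc 0, Int.ofNat 1, Int.negSucc 0, Int.ofNat 1, Int.ofNat 1, Int.ofNat 3, Int.ofNat 1, Int.negSucc 0, Int.ofNat 1, Int.negSucc 0, Int.ofNat 1, Int.negSucc 0, Int.ofNat 1],
  [Int.ofNat 1, Int.ofNat 1, Int.negSucc 0, Int.negSucc 0, Int.negSucc 0, Int.negSucc 0, Int.negSucc 0, Int.negSucc 0, Int.ofNat 1, Int.negSucc 0, Int.ofNat 1, Int.negSucc 0, Int.ofNat 1, Int.negSucc 0, Int.ofNat 1, Int.ofNat 1, Int.ofNat 3, Int.ofNat 1, Int.negSucc 0, Int.negSucc 0, Int.negSucc 0, Int.negSucc 0, Int.negSucc 0, Int.negSucc 0],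
  [Int.negSucc 0, Int.negSucc 0, Int.negSucc 0, Int.negSucc 0, Int.negSucc 0, Int.ofNat 1, Int.negSucc 0, Int.ofNat 1, Int.negSucc 0, Int.ofNat 1, Int.negSucc 0, Int.ofNat 1, Int.ofNat 1, Int.ofNat 3, Int.ofNat 1, Int.negSucc 0, Int.negSucc 0, Int.negSucc 0, Int.negSucc 0, Int.negSucc 0, Int.ofNat 1, Int.ofNat 1, Int.negSucc 0, Int.negSucc 0],
  [Int.negSucc 0, Int.negSucc 0, Int.negSucc 0, Int.negSucc 0, Int.negSucc 0, Int.ofNat 1, Int.negSucc 0, Int.ofNat 1, Int.negSucc 0, Int.ofNat 1, Int.negSucc 0, Int.ofNat 1, Int.ofNat 1, Int.ofNat 3, Int.ofNat 1, Int.negSucc 0, Int.negSucc 0, Int.negSucc 0, Int.negSucc 0, Int.negSucc 0, Int.ofNat 1, Int.ofNat 1, Int.negSucc 0, Int.negSucc 0],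
  [Int.negSucc 0, Int.negSucc 0, Int.negSucc 0, Int.negSucc 0, Int.negSucc 0, Int.ofNat 1, Int.negSucc 0, Int.negSucc 0, Int.ofNat 1, Int.ofNat 3, Int.ofNat 1, Int.negSucc 0, Int.ofNat 1, Int.negSucc 0, Int.negSucc 0, Int.negSucc 0, Int.negSucc 0, Int.ofNat 1, Int.negSucc 0, Int.ofNat 1, Int.ofNat 1, Int.ofNat 1, Int.negSucc 0, Int.negSucc 0],
  [Int.negSucc 0, Int.negSucc 0, Int.negSucc 0, Int.negSucc 0, Int.ofNat 1, Int.ofNat 1, Int.negSucc 0, Int.negSucc 0, Int.ofNat 1, Int.ofNat 1, Int.negSucc 0, Int.negSucc 0, Int.ofNat 1, Int.ofNat 1, Int.negSucc 0, Int.negSucc 2, Int.ofNat 1, Int.ofNat 1, Int.negSucc 0, Int.ofNat 1, Int.negSucc 0, Int.ofNat 1, Int.ofNat 1, Int.negSucc 0],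
  [Int.negSucc 0, Int.negSucc 0, Int.ofNat 1, Int.negSucc 0, Int.ofNat 1, Int.negSucc 0, Int.ofNat 1, Int.negSucc 0, Int.ofNat 1, Int.negSucc 0, Int.ofNat 1, Int.negSucc 0, Int.ofNat 1, Int.ofNat 1, Int.negSucc 0, Int.ofNat 3, Int.ofNat 1, Int.ofNat 1, Int.ofNat 1, Int.ofNat 1, Int.negSucc 0, Int.ofNat 1, Int.negSucc 0, Int.negSucc 0],
  [Int.ofNat 1, Int.negSucc 0, Int.ofNat 1, Int.ofNat 1, Int.negSucc 0, Int.ofNat 1, Int.ofNat 1, Int.negSucc 0, Int.ofNat 3, Int.negSucc 0, Int.negSucc 0, Int.negSucc 0, Int.ofNat 1, Int.ofNat 1, Int.ofNat 1, Int.negSucc 0, Int.ofNat 1, Int.ofNat 1, Int.ofNat 1, Int.negSucc 0, Int.negSucc 0, Int.ofNat 1, Int.negSucc 0, Int.negSucc 0],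
  [Int.ofNat 1, Int.negSucc 0, Int.negSucc 0, Int.ofNat 1, Int.negSucc 0, Int.negSucc 0, Int.negSucc 0, Int.negSucc 0, Int.ofNat 3, Int.ofNat 1, Int.ofNat 1, Int.negSucc 0, Int.ofNat 1, Int.ofNat 1, Int.ofNat 1, Int.ofNat 1, Int.ofNat 1, Int.ofNat 1, Int.negSucc 0, Int.negSucc 0, Int.negSucc 0, Int.ofNat 1, Int.ofNat 1, Int.negSucc 0],
  [Int.negSucc 1, Int.ofNat 0, Int.ofNat 0, Int.ofNat 0, Int.negSucc 1, Int.negSucc 1, Int.ofNat 0, Int.ofNat 0, Int.ofNat 2, Int.ofNat 0, Int.ofNat 0, Int.negSucc 1, Int.ofNat 0, Int.ofNat 0, Int.ofNat 0, Int.ofNat 0, Int.ofNat 0, Int.ofNat 0, Int.negSucc 1, Int.ofNat 0, Int.negSucc 1, Int.ofNat 2, Int.ofNat 0, Int.ofNat 0],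
  [Int.negSucc 1, Int.negSucc 1, Int.ofNat 0, Int.ofNat 0, Int.ofNat 0, Int.ofNat 2, Int.ofNat 0, Int.negSucc 1, Int.ofNat 0, Int.ofNat 0, Int.ofNat 0, Int.ofNat 0, Int.ofNat 2, Int.ofNat 0, Int.ofNat 0, Int.ofNat 0, Int.ofNat 0, Int.negSucc 1, Int.negSucc 1, Int.ofNat 0, Int.ofNat 0, Int.negSucc 1, Int.ofNat 0, Int.ofNat 0],
  [Int.ofNat 0, Int.ofNat 0, Int.negSucc 1, Int.ofNat 0, Int.ofNat 0, Int.ofNat 2, Int.ofNat 2, Int.ofNat 0, Int.ofNat 0, Int.ofNat 0, Int.ofNat 0, Int.ofNat 0, Int.ofNat 2, Int.ofNat 0, Int.ofNat 0, Int.ofNat 0, Int.ofNat 0, Int.negSucc 1, Int.negSucc 1, Int.ofNat 2, Int.ofNat 0, Int.ofNat 0, Int.ofNat 0, Int.negSucc 1],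
  [Int.ofNat 0, Int.ofNat 0, Int.ofNat 0, Int.ofNat 0, Int.ofNat 0, Int.negSucc 1, Int.ofNat 0, Int.ofNat 0, Int.ofNat 2, Int.ofNat 2, Int.ofNat 0, Int.ofNat 0, Int.ofNat 0, Int.ofNat 0, Int.ofNat 0, Int.ofNat 2, Int.ofNat 0, Int.ofNat 0, Int.ofNat 0, Int.ofNat 0, Int.negSucc 1, Int.negSucc 1, Int.ofNat 2, Int.negSucc 1],
  [Int.negSucc 0, Int.negSucc 0, Int.negSucc 0, Int.ofNat 1, Int.negSucc 0, Int.negSucc 0, Int.ofNat 1, Int.ofNat 1, Int.ofNat 1, Int.ofNat 1, Int.negSucc 0, Int.negSucc 0, Int.negSucc 0, Int.negSucc 0, Int.ofNat 1, Int.ofNat 1, Int.negSucc 0, Int.ofNat 1, Int.negSucc 0, Int.ofNat 1, Int.negSucc 2, Int.negSucc 0, Int.ofNat 1, Int.ofNat 1],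
  [Int.negSucc 0, Int.negSucc 0, Int.ofNat 1, Int.negSucc 0, Int.negSucc 0, Int.ofNat 1, Int.ofNat 1, Int.ofNat 1, Int.ofNat 1, Int.negSucc 0, Int.negSucc 0, Int.negSucc 0, Int.negSucc 0, Int.ofNat 1, Int.ofNat 1, Int.negSucc 0, Int.ofNat 1, Int.negSucc 0, Int.ofNat 1, Int.negSucc 2, Int.negSucc 0, Int.ofNat 1, Int.negSucc 0, Int.ofNat 1],
  [Int.ofNat 1, Int.negSucc 0, Int.negSucc 0, Int.negSucc 0, Int.negSucc 0, Int.ofNat 1, Int.ofNat 1, Int.negSucc 0, Int.ofNat 1, Int.ofNat 1, Int.ofNat 1, Int.ofNat 1, Int.negSucc 0, Int.ofNat 1, Int.ofNat 1, Int.negSucc 0, Int.ofNat 1, Int.negSucc 0, Int.negSucc 0, Int.negSucc 2, Int.negSucc 0, Int.negSucc 0, Int.negSucc 0, Int.ofNat 1],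
  [Int.negSucc 0, Int.ofNat 1, Int.ofNat 1, Int.ofNat 1, Int.ofNat 1, Int.ofNat 1, Int.negSucc 0, Int.negSucc 0, Int.negSucc 0, Int.negSucc 0, Int.ofNat 1, Int.ofNat 1, Int.ofNat 1, Int.negSucc 0, Int.ofNat 1, Int.negSucc 0, Int.negSucc 0, Int.negSucc 0, Int.ofNat 1, Int.negSucc 2, Int.negSucc 0, Int.negSucc 0, Int.negSucc 0, Int.ofNat 1],
  [Int.negSucc 0, Int.ofNat 1, Int.ofNat 1, Int.ofNat 1, Int.ofNat 1, Int.ofNat 1, Int.ofNat 1, Int.negSucc 0, Int.negSucc 0, Int.negSucc 0, Int.negSucc 0, Int.ofNat 1, Int.negSucc 0, Int.negSucc 0, Int.negSucc 2, Int.negSucc 0, Int.ofNat 1, Int.negSucc 0, Int.negSucc 0, Int.negSucc 0, Int.ofNat 1, Int.negSucc 0, Int.ofNat 1, Int.ofNat 1],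
  [Int.ofNat 1, Int.ofNat 1, Int.negSucc 0, Int.ofNat 1, Int.ofNat 1, Int.ofNat 1, Int.ofNat 1, Int.ofNat 1, Int.negSucc 0, Int.ofNat 1, Int.ofNat 1, Int.negSucc 0, Int.negSucc 0, Int.negSucc 0, Int.negSucc 2, Int.negSucc 0, Int.ofNat 1, Int.negSucc 0, Int.ofNat 1, Int.negSucc 0, Int.ofNat 1, Int.ofNat 1, Int.ofNat 1, Int.ofNat 1],
  [Int.ofNat 1, Int.ofNat 1, Int.ofNat 1, Int.negSucc 0, Int.ofNat 1, Int.ofNat 1, Int.ofNat 1, Int.ofNat 1, Int.ofNat 1, Int.negSucc 0, Int.ofNat 1, Int.ofNat 1, Int.negSucc 0, Int.negSucc 0, Int.negSucc 0, Int.negSucc 2, Int.negSucc 0, Int.ofNat 1, Int.negSucc 0, Int.ofNat 1, Int.negSucc 0, Int.ofNat 1, Int.ofNat 1, Int.ofNat 1],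
  [Int.ofNat 1, Int.ofNat 1, Int.ofNat 1, Int.negSucc 0, Int.ofNat 1, Int.ofNat 1, Int.negSucc 0, Int.negSucc 0, Int.ofNat 1, Int.ofNat 1, Int.ofNat 3, Int.ofNat 1, Int.negSucc 0, Int.negSucc 0, Int.negSucc 0, Int.negSucc 0, Int.negSucc 0, Int.ofNat 1, Int.negSucc 0, Int.negSucc 0, Int.ofNat 1, Int.negSucc 0, Int.ofNat 1, Int.ofNat 1],
  [Int.negSucc 0, Int.ofNat 1, Int.ofNat 1, Int.negSucc 0, Int.negSucc 0, Int.ofNat 1, Int.ofNat 1, Int.ofNat 3, Int.ofNat 1, Int.negSucc 0, Int.negSucc 0, Int.negSucc 0, Int.negSucc 0, Int.negSucc 0, Int.ofNat 1, Int.negSucc 0, Int.negSucc 0, Int.ofNat 1, Int.negSucc 0, Int.ofNat 1, Int.ofNat 1, Int.ofNat 1, Int.ofNat 1, Int.ofNat 1],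
  [Int.ofNat 2, Int.ofNat 0, Int.ofNat 0, Int.negSucc 1, Int.ofNat 0, Int.ofNat 0, Int.negSucc 1, Int.ofNat 0, Int.ofNat 2, Int.ofNat 0, Int.ofNat 0, Int.ofNat 0, Int.ofNat 0, Int.ofNat 0, Int.ofNat 0, Int.ofNat 0, Int.ofNat 0, Int.ofNat 0, Int.ofNat 0, Int.negSucc 1, Int.ofNat 2, Int.negSucc 1, Int.ofNat 2, Int.ofNat 0],
  [Int.ofNat 2, Int.negSucc 1, Int.ofNat 0, Int.negSucc 1, Int.ofNat 0, Int.ofNat 0, Int.ofNat 0, Int.ofNat 0, Int.ofNat 0, Int.ofNat 0, Int.ofNat 2, Int.ofNat 0, Int.ofNat 0, Int.ofNat 0, Int.ofNat 2, Int.ofNat 0, Int.ofNat 2, Int.ofNat 0, Int.ofNat 0, Int.ofNat 0, Int.negSucc 1, Int.ofNat 0, Int.negSucc 1, Int.ofNat 0],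
  [Int.negSucc 1, Int.ofNat 2, Int.ofNat 0, Int.negSucc 1, Int.ofNat 0, Int.ofNat 0, Int.ofNat 0, Int.ofNat 0, Int.ofNat 0, Int.ofNat 0, Int.ofNat 2, Int.ofNat 0, Int.ofNat 0, Int.ofNat 0, Int.ofNat 2, Int.ofNat 0, Int.ofNat 2, Int.ofNat 0, Int.ofNat 0, Int.ofNat 0, Int.negSucc 1, Int.ofNat 0, Int.negSucc 1, Int.ofNat 0],
  [Int.negSucc 1, Int.ofNat 2, Int.ofNat 0, Int.negSucc 1, Int.ofNat 0, Int.ofNat 0, Int.ofNat 0, Int.ofNat 0, Int.ofNat 0, Int.ofNat 0, Int.negSucc 1, Int.ofNat 0, Int.ofNat 0, Int.ofNat 0, Int.ofNat 2, Int.ofNat 0, Int.ofNat 2, Int.ofNat 0, Int.ofNat 0, Int.ofNat 0, Int.negSucc 1, Int.ofNat 0, Int.ofNat 2, Int.ofNat 0],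
  [Int.negSucc 1, Int.ofNat 2, Int.ofNat 0, Int.ofNat 0, Int.ofNat 2, Int.ofNat 0, Int.ofNat 0, Int.negSucc 1, Int.ofNat 0, Int.negSucc 1, Int.ofNat 0, Int.ofNat 0, Int.ofNat 0, Int.ofNat 0, Int.ofNat 0, Int.ofNat 0, Int.ofNat 0, Int.ofNat 0, Int.ofNat 0, Int.ofNat 0, Int.negSucc 1, Int.ofNat 2, Int.ofNat 2, Int.ofNat 0],
  [Int.ofNat 0, Int.ofNat 2, Int.ofNat 0, Int.ofNat 0, Int.ofNat 0, Int.negSucc 1, Int.ofNat 0, Int.ofNat 0, Int.negSucc 1, Int.ofNat 0, Int.ofNat 0, Int.ofNat 0, Int.ofNat 2, Int.negSucc 1, Int.ofNat 0, Int.ofNat 0, Int.ofNat 0, Int.ofNat 2, Int.ofNat 0, Int.ofNat 0, Int.ofNat 0, Int.ofNat 0, Int.ofNat 2, Int.negSucc 1],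
  [Int.ofNat 0, Int.ofNat 2, Int.ofNat 0, Int.ofNat 0, Int.ofNat 0, Int.negSucc 1, Int.ofNat 0, Int.ofNat 0, Int.negSucc 1, Int.ofNat 0, Int.ofNat 0, Int.ofNat 0, Int.ofNat 2, Int.negSucc 1, Int.ofNat 0, Int.ofNat 0, Int.ofNat 0, Int.ofNat 2, Int.ofNat 0, Int.ofNat 0, Int.ofNat 0, Int.ofNat 0, Int.ofNat 2, Int.negSucc 1],
  [Int.ofNat 2, Int.ofNat 0, Int.ofNat 2, Int.ofNat 0, Int.ofNat 0, Int.ofNat 0, Int.negSucc 1, Int.ofNat 0, Int.ofNat 0, Int.negSucc 1, Int.ofNat 0, Int.ofNat 0, Int.ofNat 0, Int.ofNat 2, Int.negSucc 1, Int.ofNat 0, Int.ofNat 0, Int.ofNat 0, Int.ofNat 2, Int.ofNat 0, Int.ofNat 0, Int.ofNat 0, Int.ofNat 0, Int.negSucc 1],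
  [Int.negSucc 0, Int.ofNat 1, Int.negSucc 0, Int.ofNat 1, Int.negSucc 0, Int.ofNat 1, Int.negSucc 0, Int.ofNat 1, Int.negSucc 0, Int.negSucc 0, Int.ofNat 1, Int.negSucc 0, Int.negSucc 0, Int.ofNat 1, Int.negSucc 0, Int.ofNat 1, Int.negSucc 0, Int.ofNat 1, Int.ofNat 1, Int.ofNat 1, Int.ofNat 1, Int.ofNat 1, Int.negSucc 0, Int.ofNat 3],
  [Int.ofNat 1, Int.negSucc 0, Int.ofNat 1, Int.negSucc 0, Int.ofNat 1, Int.negSucc 0, Int.negSucc 0, Int.ofNat 1, Int.negSucc 0, Int.negSucc 0, Int.ofNat 1, Int.negSucc 0, Int.ofNat 1, Int.negSucc 0, Int.ofNat 1, Int.ofNat 1, Int.ofNat 1, Int.ofNat 1, Int.ofNat 1, Int.negSucc 0, Int.negSucc 0, Int.ofNat 1, Int.negSucc 0, Int.ofNat 3],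
  [Int.ofNat 1, Int.ofNat 3, Int.ofNat 1, Int.negSucc 0, Int.ofNat 1, Int.negSucc 0, Int.negSucc 0, Int.ofNat 1, Int.negSucc 0, Int.negSucc 0, Int.ofNat 1, Int.negSucc 0, Int.ofNat 1, Int.negSucc 0, Int.ofNat 1, Int.ofNat 1, Int.ofNat 1, Int.ofNat 1, Int.ofNat 1, Int.negSucc 0, Int.negSucc 0, Int.ofNat 1, Int.negSucc 0, Int.negSucc 0],
  [Int.ofNat 1, Int.negSucc 0, Int.ofNat 1, Int.negSucc 0, Int.ofNat 1, Int.ofNat 1, Int.ofNat 1, Int.ofNat 1, Int.ofNat 1, Int.negSucc 0, Int.negSucc 0, Int.ofNat 1, Int.negSucc 0, Int.ofNat 1, Int.negSucc 0, Int.ofNat 1, Int.negSucc 0, Int.ofNat 1, Int.ofNat 3, Int.negSucc 0, Int.ofNat 1, Int.negSucc 0, Int.negSucc 0, Int.negSucc 0],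
  [Int.negSucc 0, Int.ofNat 1, Int.negSucc 0, Int.negSucc 0, Int.ofNat 1, Int.ofNat 1, Int.ofNat 1, Int.ofNat 1, Int.negSucc 0, Int.negSucc 0, Int.negSucc 0, Int.negSucc 0, Int.negSucc 2, Int.ofNat 1, Int.negSucc 0, Int.ofNat 1, Int.negSucc 0, Int.ofNat 1, Int.ofNat 1, Int.negSucc 0, Int.ofNat 1, Int.negSucc 0, Int.negSucc 0, Int.ofNat 1],
  [Int.negSucc 0, Int.ofNat 1, Int.ofNat 1, Int.negSucc 0, Int.ofNat 1, Int.negSucc 0, Int.negSucc 0, Int.ofNat 1, Int.negSucc 0, Int.ofNat 1, Int.ofNat 1, Int.negSucc 0, Int.negSucc 2, Int.ofNat 1, Int.negSucc 0, Int.negSucc 0, Int.negSucc 0, Int.ofNat 1, Int.negSucc 0, Int.negSucc 0, Int.ofNat 1, Int.negSucc 0, Int.ofNat 1, Int.ofNat 1],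
  [Int.negSucc 0, Int.negSucc 0, Int.negSucc 0, Int.negSucc 0, Int.ofNat 1, Int.negSucc 2, Int.ofNat 1, Int.negSucc 0, Int.negSucc 0, Int.negSucc 0, Int.ofNat 1, Int.ofNat 1, Int.negSucc 0, Int.ofNat 1, Int.ofNat 1, Int.ofNat 1, Int.ofNat 1, Int.ofNat 1, Int.negSucc 0, Int.negSucc 0, Int.ofNat 1, Int.negSucc 0, Int.negSucc 0, Int.ofNat 1],
  [Int.negSucc 0, Int.negSucc 0, Int.ofNat 1, Int.negSucc 0, Int.ofNat 1, Int.ofNat 3, Int.negSucc 0, Int.negSucc 0, Int.negSucc 0, Int.ofNat 1, Int.negSucc 0, Int.ofNat 1, Int.negSucc 0, Int.ofNat 1, Int.ofNat 1, Int.negSucc 0, Int.ofNat 1, Int.ofNat 1, Int.ofNat 1, Int.negSucc 0, Int.ofNat 1, Int.negSucc 0, Int.ofNat 1, Int.ofNat 1],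
  [Int.ofNat 1, Int.ofNat 1, Int.negSucc 0, Int.negSucc 2, Int.negSucc 0, Int.ofNat 1, Int.ofNat 1, Int.ofNat 1, Int.negSucc 0, Int.ofNat 1, Int.negSucc 0, Int.ofNat 1, Int.negSucc 0, Int.negSucc 0, Int.negSucc 0, Int.negSucc 0, Int.negSucc 0, Int.negSucc 0, Int.ofNat 1, Int.ofNat 1, Int.ofNat 1, Int.ofNat 1, Int.negSucc 0, Int.negSucc 0],
  [Int.ofNat 1, Int.ofNat 1, Int.ofNat 1, Int.negSucc 2, Int.negSucc 0, Int.ofNat 1, Int.ofNat 1, Int.ofNat 1, Int.negSucc 0, Int.negSucc 0, Int.ofNat 1, Int.ofNat 1, Int.negSucc 0, Int.ofNat 1, Int.negSucc 0, Int.negSucc 0, Int.negSucc 0, Int.ofNat 1, Int.negSucc 0, Int.negSucc 0, Int.negSucc 0, Int.ofNat 1, Int.negSucc 0, Int.negSucc 0],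
  [Int.ofNat 0, Int.ofNat 0, Int.ofNat 0, Int.negSucc 1, Int.ofNat 0, Int.ofNat 2, Int.ofNat 0, Int.ofNat 0, Int.ofNat 0, Int.ofNat 0, Int.ofNat 2, Int.ofNat 2, Int.ofNat 0, Int.ofNat 2, Int.ofNat 0, Int.ofNat 0, Int.ofNat 0, Int.ofNat 2, Int.ofNat 0, Int.negSucc 1, Int.ofNat 0, Int.ofNat 0, Int.ofNat 0, Int.ofNat 2],
  [Int.ofNat 0, Int.ofNat 0, Int.ofNat 0, Int.ofNat 0, Int.ofNat 0, Int.ofNat 0, Int.negSucc 1, Int.ofNat 0, Int.ofNat 2, Int.ofNat 0, Int.ofNat 0, Int.ofNat 0, Int.ofNat 0, Int.ofNat 2, Int.ofNat 2, Int.ofNat 0, Int.ofNat 2, Int.ofNat 0, Int.ofNat 0, Int.ofNat 0, Int.ofNat 2, Int.ofNat 0, Int.negSucc 1, Int.ofNat 2],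
  [Int.ofNat 1, Int.ofNat 1, Int.ofNat 1, Int.negSucc 0, Int.negSucc 0, Int.negSucc 0, Int.negSucc 0, Int.ofNat 1, Int.ofNat 1, Int.negSucc 0, Int.negSucc 0, Int.negSucc 0, Int.negSucc 0, Int.ofNat 1, Int.ofNat 1, Int.negSucc 0, Int.ofNat 1, Int.negSucc 0, Int.negSucc 0, Int.ofNat 1, Int.ofNat 1, Int.ofNat 1, Int.negSucc 2, Int.negSucc 0],
  [Int.ofNat 1, Int.ofNat 1, Int.negSucc 0, Int.negSucc 0, Int.negSucc 0, Int.negSucc 0, Int.ofNat 1, Int.ofNat 1, Int.negSucc 0, Int.negSucc 0, Int.negSucc 0, Int.negSucc 0, Int.ofNat 1, Int.ofNat 1, Int.negSucc 0, Int.ofNat 1, Int.negSucc 0, Int.negSucc 0, Int.ofNat 1, Int.ofNat 1, Int.ofNat 1, Int.negSucc 2, Int.ofNat 1, Int.negSucc 0],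
  [Int.negSucc 0, Int.ofNat 1, Int.ofNat 1, Int.negSucc 0, Int.negSucc 0, Int.negSucc 0, Int.ofNat 1, Int.negSucc 0, Int.negSucc 0, Int.ofNat 1, Int.ofNat 1, Int.ofNat 1, Int.ofNat 1, Int.ofNat 1, Int.negSucc 0, Int.ofNat 1, Int.negSucc 0, Int.negSucc 0, Int.negSucc 0, Int.ofNat 1, Int.ofNat 1, Int.ofNat 3, Int.ofNat 1, Int.negSucc 0],
  [Int.ofNat 1, Int.negSucc 0, Int.negSucc 0, Int.ofNat 1, Int.ofNat 1, Int.negSucc 0, Int.negSucc 0, Int.negSucc 0, Int.ofNat 1, Int.negSucc 0, Int.ofNat 1, Int.ofNat 1, Int.negSucc 0, Int.negSucc 0, Int.negSucc 0, Int.ofNat 1, Int.ofNat 1, Int.negSucc 0, Int.ofNat 1, Int.ofNat 1, Int.ofNat 1, Int.ofNat 3, Int.ofNat 1, Int.negSucc 0],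
  [Int.ofNat 1, Int.negSucc 0, Int.ofNat 1, Int.ofNat 1, Int.negSucc 0, Int.ofNat 1, Int.ofNat 1, Int.ofNat 1, Int.negSucc 0, Int.ofNat 1, Int.ofNat 3, Int.negSucc 0, Int.negSucc 0, Int.ofNat 1, Int.ofNat 1, Int.ofNat 1, Int.negSucc 0, Int.ofNat 1, Int.negSucc 0, Int.negSucc 0, Int.negSucc 0, Int.negSucc 0, Int.ofNat 1, Int.negSucc 0],
  [Int.negSucc 0, Int.negSucc 0, Int.negSucc 0, Int.ofNat 1, Int.negSucc 0, Int.ofNat 1, Int.ofNat 1, Int.negSucc 0, Int.negSucc 0, Int.negSucc 0, Int.negSucc 2, Int.ofNat 1, Int.negSucc 0, Int.ofNat 1, Int.ofNat 1, Int.ofNat 1, Int.negSucc 0, Int.ofNat 1, Int.ofNat 1, Int.negSucc 0, Int.negSucc 0, Int.ofNat 1, Int.ofNat 1, Int.negSucc 0],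
  [Int.ofNat 1, Int.negSucc 0, Int.negSucc 0, Int.negSucc 0, Int.ofNat 1, Int.negSucc 0, Int.ofNat 1, Int.ofNat 1, Int.negSucc 0, Int.negSucc 0, Int.negSucc 0, Int.negSucc 2, Int.ofNat 1, Int.negSucc 0, Int.ofNat 1, Int.ofNat 1, Int.ofNat 1, Int.negSucc 0, Int.ofNat 1, Int.ofNat 1, Int.negSucc 0, Int.negSucc 0, Int.ofNat 1, Int.negSucc 0],
  [Int.negSucc 1, Int.ofNat 0, Int.ofNat 0, Int.ofNat 0, Int.ofNat 0, Int.ofNat 0, Int.ofNat 0, Int.ofNat 0, Int.ofNat 0, Int.ofNat 0, Int.ofNat 0, Int.negSucc 1, Int.ofNat 2, Int.negSucc 1, Int.ofNat 2, Int.ofNat 2, Int.ofNat 0, Int.ofNat 0, Int.ofNat 2, Int.ofNat 0, Int.ofNat 0, Int.negSucc 1, Int.ofNat 0, Int.ofNat 0],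
  [Int.ofNat 0, Int.ofNat 0, Int.ofNat 0, Int.ofNat 0, Int.ofNat 0, Int.ofNat 0, Int.ofNat 0, Int.ofNat 0, Int.negSucc 1, Int.ofNat 2, Int.negSucc 1, Int.ofNat 2, Int.ofNat 2, Int.ofNat 0, Int.ofNat 0, Int.ofNat 2, Int.ofNat 0, Int.ofNat 0, Int.negSucc 1, Int.ofNat 0, Int.negSucc 1, Int.ofNat 0, Int.ofNat 0, Int.ofNat 0],
  [Int.ofNat 0, Int.ofNat 0, Int.ofNat 0, Int.ofNat 0, Int.ofNat 0, Int.ofNat 0, Int.ofNat 0, Int.ofNat 0, Int.negSucc 1, Int.ofNat 2, Int.negSucc 1, Int.ofNat 2, Int.ofNat 2, Int.ofNat 0, Int.ofNat 0, Int.ofNat 2, Int.ofNat 0, Int.ofNat 0, Int.negSucc 1, Int.ofNat 0, Int.negSucc 1, Int.ofNat 0, Int.ofNat 0, Int.ofNat 0],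
  [Int.ofNat 0, Int.ofNat 0, Int.ofNat 0, Int.ofNat 0, Int.negSucc 1, Int.ofNat 0, Int.ofNat 0, Int.negSucc 1, Int.ofNat 2, Int.ofNat 0, Int.negSucc 1, Int.ofNat 0, Int.ofNat 2, Int.ofNat 0, Int.ofNat 0, Int.ofNat 2, Int.negSucc 1, Int.ofNat 0, Int.ofNat 0, Int.ofNat 2, Int.ofNat 0, Int.ofNat 0, Int.ofNat 0, Int.ofNat 0],
  [Int.ofNat 0, Int.ofNat 0, Int.ofNat 0, Int.ofNat 0, Int.ofNat 0, Int.ofNat 0, Int.ofNat 0, Int.negSucc 1, Int.ofNat 0, Int.ofNat 0, Int.negSucc 1, Int.negSucc 1, Int.ofNat 0, Int.ofNat 2, Int.ofNat 0, Int.ofNat 2, Int.ofNat 0, Int.ofNat 0, Int.negSucc 1, Int.ofNat 2, Int.ofNat 0, Int.ofNat 0, Int.ofNat 2, Int.ofNat 0],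
  [Int.ofNat 0, Int.ofNat 0, Int.ofNat 0, Int.ofNat 0, Int.ofNat 0, Int.ofNat 0, Int.ofNat 0, Int.negSucc 1, Int.ofNat 0, Int.ofNat 0, Int.ofNat 2, Int.negSucc 1, Int.ofNat 0, Int.ofNat 2, Int.ofNat 0, Int.negSucc 1, Int.ofNat 0, Int.ofNat 0, Int.ofNat 2, Int.ofNat 2, Int.ofNat 0, Int.ofNat 0, Int.negSucc 1, Int.ofNat 0],
  [Int.ofNat 2, Int.ofNat 0, Int.negSucc 1, Int.ofNat 0, Int.ofNat 0, Int.ofNat 0, Int.ofNat 0, Int.ofNat 0, Int.ofNat 0, Int.ofNat 0, Int.ofNat 2, Int.negSucc 1, Int.negSucc 1, Int.ofNat 0, Int.ofNat 0, Int.ofNat 2, Int.ofNat 2, Int.ofNat 0, Int.ofNat 0, Int.ofNat 0, Int.ofNat 0, Int.ofNat 0, Int.negSucc 1, Int.ofNat 0],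
  [Int.ofNat 0, Int.negSucc 1, Int.negSucc 1, Int.ofNat 2, Int.ofNat 0, Int.ofNat 0, Int.ofNat 0, Int.ofNat 0, Int.ofNat 0, Int.ofNat 0, Int.ofNat 2, Int.negSucc 1, Int.ofNat 0, Int.ofNat 0, Int.ofNat 0, Int.ofNat 0, Int.ofNat 2, Int.ofNat 0, Int.ofNat 0, Int.ofNat 0, Int.ofNat 0, Int.negSucc 1, Int.ofNat 0, Int.ofNat 2],
  [Int.ofNat 0, Int.negSucc 1, Int.ofNat 2, Int.ofNat 2, Int.ofNat 0, Int.ofNat 0, Int.ofNat 0, Int.ofNat 0, Int.ofNat 0, Int.ofNat 0, Int.negSucc 1, Int.ofNat 2, Int.ofNat 0, Int.ofNat 0, Int.ofNat 0, Int.ofNat 0, Int.ofNat 2, Int.ofNat 0, Int.ofNat 0, Int.ofNat 0, Int.ofNat 0, Int.ofNat 2, Int.ofNat 0, Int.ofNat 2],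
  [Int.ofNat 0, Int.ofNat 0, Int.negSucc 1, Int.ofNat 2, Int.ofNat 2, Int.ofNat 0, Int.ofNat 0, Int.ofNat 0, Int.ofNat 0, Int.ofNat 0, Int.ofNat 0, Int.negSucc 1, Int.ofNat 2, Int.ofNat 0, Int.ofNat 0, Int.ofNat 0, Int.ofNat 0, Int.ofNat 2, Int.ofNat 0, Int.ofNat 0, Int.ofNat 0, Int.ofNat 0, Int.ofNat 2, Int.ofNat 2],
  [Int.ofNat 0, Int.ofNat 0, Int.ofNat 2, Int.ofNat 0, Int.ofNat 0, Int.negSucc 1, Int.ofNat 0, Int.ofNat 0, Int.ofNat 0, Int.ofNat 0, Int.ofNat 0, Int.negSucc 1, Int.ofNat 2, Int.negSucc 1, Int.negSucc 1, Int.ofNat 0, Int.negSucc 1, Int.ofNat 0, Int.ofNat 0, Int.ofNat 0, Int.ofNat 0, Int.ofNat 0, Int.ofNat 0, Int.negSucc 1],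
  [Int.ofNat 0, Int.ofNat 0, Int.negSucc 1, Int.ofNat 0, Int.ofNat 0, Int.ofNat 0, Int.ofNat 0, Int.ofNat 0, Int.negSucc 1, Int.ofNat 2, Int.negSucc 1, Int.negSucc 1, Int.ofNat 0, Int.negSucc 1, Int.ofNat 0, Int.ofNat 0, Int.ofNat 0, Int.ofNat 0, Int.ofNat 0, Int.ofNat 0, Int.ofNat 0, Int.ofNat 0, Int.ofNat 2, Int.negSucc 1],
  [Int.negSucc 1, Int.negSucc 1, Int.ofNat 0, Int.ofNat 0, Int.ofNat 0, Int.ofNat 0, Int.ofNat 0, Int.ofNat 0, Int.ofNat 0, Int.ofNat 2, Int.negSucc 1, Int.ofNat 0, Int.ofNat 2, Int.negSucc 1, Int.ofNat 0, Int.ofNat 0, Int.ofNat 0, Int.ofNat 0, Int.ofNat 2, Int.ofNat 0, Int.ofNat 0, Int.ofNat 0, Int.ofNat 2, Int.ofNat 0],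
  [Int.negSucc 1, Int.ofNat 0, Int.ofNat 0, Int.ofNat 0, Int.ofNat 2, Int.ofNat 0, Int.ofNat 0, Int.negSucc 1, Int.ofNat 2, Int.negSucc 1, Int.ofNat 0, Int.ofNat 0, Int.ofNat 2, Int.ofNat 0, Int.ofNat 2, Int.ofNat 0, Int.ofNat 0, Int.ofNat 0, Int.negSucc 1, Int.ofNat 0, Int.ofNat 0, Int.ofNat 0, Int.ofNat 0, Int.ofNat 0],
  [Int.ofNat 1, Int.negSucc 0, Int.negSucc 0, Int.negSucc 0, Int.ofNat 1, Int.negSucc 0, Int.ofNat 1, Int.negSucc 0, Int.ofNat 1, Int.negSucc 0, Int.ofNat 1, Int.negSucc 0, Int.ofNat 1, Int.negSucc 0, Int.ofNat 1, Int.ofNat 1, Int.negSucc 0, Int.negSucc 0, Int.negSucc 2, Int.ofNat 1, Int.ofNat 1, Int.ofNat 1, Int.negSucc 0, Int.negSucc 0],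
  [Int.ofNat 1, Int.negSucc 0, Int.ofNat 1, Int.negSucc 0, Int.ofNat 1, Int.ofNat 1, Int.negSucc 0, Int.negSucc 0, Int.ofNat 1, Int.ofNat 1, Int.negSucc 0, Int.negSucc 0, Int.ofNat 1, Int.negSucc 0, Int.ofNat 1, Int.negSucc 0, Int.negSucc 0, Int.negSucc 0, Int.ofNat 3, Int.ofNat 1, Int.ofNat 1, Int.ofNat 1, Int.ofNat 1, Int.negSucc 0],
  [Int.ofNat 1, Int.negSucc 0, Int.negSucc 0, Int.ofNat 1, Int.ofNat 1, Int.ofNat 1, Int.negSucc 0, Int.ofNat 1, Int.negSucc 0, Int.ofNat 1, Int.ofNat 1, Int.negSucc 0, Int.ofNat 1, Int.ofNat 1, Int.ofNat 1, Int.negSucc 0, Int.negSucc 0, Int.negSucc 0, Int.negSucc 0, Int.negSucc 0, Int.ofNat 1, Int.ofNat 3, Int.ofNat 1, Int.negSucc 0],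
  [Int.ofNat 1, Int.negSucc 0, Int.ofNat 1, Int.ofNat 1, Int.ofNat 1, Int.negSucc 0, Int.ofNat 1, Int.ofNat 1, Int.negSucc 0, Int.negSucc 0, Int.negSucc 0, Int.negSucc 0, Int.ofNat 1, Int.ofNat 1, Int.ofNat 1, Int.ofNat 1, Int.negSucc 0, Int.negSucc 0, Int.ofNat 1, Int.negSucc 0, Int.ofNat 1, Int.ofNat 3, Int.negSucc 0, Int.negSucc 0],
  [Int.negSucc 0, Int.ofNat 1, Int.negSucc 0, Int.ofNat 1, Int.ofNat 1, Int.negSucc 0, Int.negSucc 0, Int.negSucc 0, Int.negSucc 0, Int.negSucc 0, Int.negSucc 0, Int.negSucc 0, Int.ofNat 1, Int.ofNat 1, Int.ofNat 1, Int.ofNat 1, Int.negSucc 0, Int.negSucc 0, Int.ofNat 1, Int.negSucc 2, Int.ofNat 1, Int.ofNat 1, Int.negSucc 0, Int.ofNat 1],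
  [Int.negSucc 0, Int.ofNat 1, Int.negSucc 0, Int.ofNat 1, Int.negSucc 0, Int.ofNat 1, Int.ofNat 1, Int.negSucc 0, Int.negSucc 0, Int.ofNat 1, Int.negSucc 0, Int.negSucc 2, Int.negSucc 0, Int.negSucc 0, Int.negSucc 0, Int.ofNat 1, Int.ofNat 1, Int.negSucc 0, Int.ofNat 1, Int.negSucc 0, Int.negSucc 0, Int.ofNat 1, Int.ofNat 1, Int.ofNat 1],
  [Int.ofNat 1, Int.negSucc 0, Int.ofNat 1, Int.ofNat 1, Int.negSucc 0, Int.ofNat 1, Int.ofNat 1, Int.negSucc 0, Int.ofNat 1, Int.ofNat 1, Int.negSucc 0, Int.negSucc 0, Int.ofNat 1, Int.negSucc 0, Int.negSucc 0, Int.ofNat 1, Int.ofNat 1, Int.negSucc 0, Int.ofNat 3, Int.negSucc 0, Int.negSucc 0, Int.ofNat 1, Int.ofNat 1, Int.negSucc 0],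
  [Int.negSucc 0, Int.ofNat 1, Int.ofNat 1, Int.ofNat 1, Int.negSucc 0, Int.ofNat 1, Int.ofNat 1, Int.negSucc 0, Int.ofNat 1, Int.ofNat 1, Int.negSucc 0, Int.ofNat 1, Int.ofNat 1, Int.negSucc 0, Int.negSucc 0, Int.ofNat 1, Int.negSucc 0, Int.negSucc 0, Int.ofNat 1, Int.ofNat 1, Int.negSucc 0, Int.ofNat 3, Int.negSucc 0, Int.negSucc 0],
  [Int.ofNat 1, Int.negSucc 0, Int.negSucc 0, Int.ofNat 1, Int.ofNat 1, Int.ofNat 1, Int.negSucc 0, Int.negSucc 2, Int.negSucc 0, Int.ofNat 1, Int.negSucc 0, Int.negSucc 0, Int.negSucc 0, Int.ofNat 1, Int.negSucc 0, Int.ofNat 1, Int.ofNat 1, Int.negSucc 0, Int.negSucc 0, Int.negSucc 0, Int.negSucc 0, Int.ofNat 1, Int.ofNat 1, Int.ofNat 1],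
  [Int.negSucc 0, Int.negSucc 0, Int.ofNat 1, Int.ofNat 1, Int.ofNat 1, Int.negSucc 0, Int.negSucc 2, Int.negSucc 0, Int.ofNat 1, Int.negSucc 0, Int.negSucc 0, Int.negSucc 0, Int.ofNat 1, Int.negSucc 0, Int.ofNat 1, Int.ofNat 1, Int.negSucc 0, Int.negSucc 0, Int.negSucc 0, Int.negSucc 0, Int.ofNat 1, Int.ofNat 1, Int.ofNat 1, Int.ofNat 1],
  [Int.ofNat 1, Int.negSucc 0, Int.negSucc 0, Int.ofNat 1, Int.ofNat 1, Int.negSucc 0, Int.negSucc 2, Int.ofNat 1, Int.ofNat 1, Int.ofNat 1, Int.ofNat 1, Int.ofNat 1, Int.ofNat 1, Int.negSucc 0, Int.ofNat 1, Int.ofNat 1, Int.negSucc 0, Int.negSucc 0, Int.ofNat 1, Int.negSucc 0, Int.ofNat 1, Int.negSucc 0, Int.ofNat 1, Int.ofNat 1],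
  [Int.negSucc 0, Int.ofNat 1, Int.ofNat 1, Int.negSucc 0, Int.negSucc 0, Int.negSucc 0, Int.ofNat 3, Int.ofNat 1, Int.negSucc 0, Int.negSucc 0, Int.ofNat 1, Int.ofNat 1, Int.negSucc 0, Int.ofNat 1, Int.ofNat 1, Int.ofNat 1, Int.ofNat 1, Int.negSucc 0, Int.negSucc 0, Int.negSucc 0, Int.ofNat 1, Int.negSucc 0, Int.ofNat 1, Int.ofNat 1],
  [Int.negSucc 0, Int.ofNat 1, Int.negSucc 0, Int.negSucc 0, Int.ofNat 1, Int.ofNat 1, Int.negSucc 0, Int.ofNat 1, Int.negSucc 0, Int.ofNat 1, Int.negSucc 0, Int.ofNat 1, Int.ofNat 1, Int.negSucc 0, Int.negSucc 0, Int.ofNat 1, Int.negSucc 0, Int.ofNat 1, Int.ofNat 3, Int.negSucc 0, Int.negSucc 0, Int.ofNat 1, Int.ofNat 1, Int.ofNat 1],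
  [Int.ofNat 1, Int.ofNat 1, Int.ofNat 1, Int.negSucc 0, Int.ofNat 1, Int.ofNat 1, Int.negSucc 0, Int.negSucc 0, Int.negSucc 0, Int.negSucc 0, Int.ofNat 1, Int.negSucc 0, Int.ofNat 1, Int.negSucc 0, Int.negSucc 0, Int.ofNat 1, Int.negSucc 0, Int.ofNat 1, Int.negSucc 2, Int.negSucc 0, Int.negSucc 0, Int.negSucc 0, Int.ofNat 1, Int.ofNat 1],
  [Int.ofNat 1, Int.ofNat 1, Int.ofNat 1, Int.ofNat 1, Int.negSucc 0, Int.ofNat 1, Int.ofNat 1, Int.negSucc 0, Int.negSucc 0, Int.negSucc 0, Int.negSucc 0, Int.ofNat 1, Int.negSucc 0, Int.ofNat 1, Int.negSucc 0, Int.negSucc 0, Int.ofNat 1, Int.negSucc 0, Int.ofNat 1, Int.negSucc 2, Int.negSucc 0, Int.negSucc 0, Int.negSucc 0, Int.ofNat 1],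
  [Int.ofNat 1, Int.ofNat 1, Int.ofNat 1, Int.ofNat 1, Int.negSucc 0, Int.ofNat 1, Int.ofNat 3, Int.ofNat 1, Int.negSucc 0, Int.ofNat 1, Int.ofNat 1, Int.ofNat 1, Int.negSucc 0, Int.ofNat 1, Int.negSucc 0, Int.ofNat 1, Int.ofNat 1, Int.negSucc 0, Int.ofNat 1, Int.negSucc 0, Int.ofNat 1, Int.ofNat 1, Int.negSucc 0, Int.ofNat 1],
  [Int.ofNat 1, Int.negSucc 0, Int.ofNat 1, Int.ofNat 3, Int.ofNat 1, Int.negSucc 0, Int.ofNat 1, Int.ofNat 1, Int.ofNat 1, Int.negSucc 0, Int.ofNat 1, Int.negSucc 0, Int.ofNat 1, Int.ofNat 1, Int.negSucc 0, Int.ofNat 1, Int.negSucc 0, Int.ofNat 1, Int.ofNat 1, Int.negSucc 0, Int.ofNat 1, Int.ofNat 1, Int.ofNat 1, Int.ofNat 1],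
  [Int.ofNat 0, Int.ofNat 2, Int.ofNat 0, Int.ofNat 2, Int.ofNat 0, Int.negSucc 1, Int.ofNat 0, Int.ofNat 0, Int.ofNat 0, Int.negSucc 1, Int.ofNat 0, Int.negSucc 1, Int.ofNat 0, Int.ofNat 0, Int.negSucc 1, Int.ofNat 0, Int.negSucc 1, Int.ofNat 0, Int.ofNat 0, Int.negSucc 1, Int.ofNat 0, Int.ofNat 0, Int.ofNat 0, Int.ofNat 0],
  [Int.ofNat 0, Int.ofNat 0, Int.ofNat 0, Int.ofNat 2, Int.ofNat 0, Int.ofNat 0, Int.ofNat 0, Int.ofNat 0, Int.ofNat 0, Int.ofNat 0, Int.ofNat 0, Int.ofNat 0, Int.negSucc 1, Int.negSucc 1, Int.ofNat 0, Int.ofNat 0, Int.ofNat 0, Int.negSucc 1, Int.ofNat 2, Int.negSucc 1, Int.ofNat 0, Int.negSucc 1, Int.negSucc 1, Int.ofNat 0],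
  [Int.ofNat 0, Int.ofNat 0, Int.ofNat 0, Int.ofNat 2, Int.ofNat 2, Int.ofNat 0, Int.ofNat 2, Int.ofNat 2, Int.ofNat 0, Int.ofNat 0, Int.ofNat 0, Int.ofNat 0, Int.negSucc 1, Int.ofNat 0, Int.ofNat 0, Int.ofNat 0, Int.ofNat 2, Int.negSucc 1, Int.ofNat 2, Int.ofNat 0, Int.ofNat 0, Int.ofNat 0, Int.ofNat 0, Int.ofNat 0],
  [Int.ofNat 0, Int.ofNat 0, Int.ofNat 0, Int.ofNat 2, Int.ofNat 2, Int.ofNat 0, Int.negSucc 1, Int.ofNat 2, Int.ofNat 0, Int.ofNat 0, Int.ofNat 0, Int.ofNat 0, Int.negSucc 1, Int.ofNat 0, Int.ofNat 0, Int.ofNat 0, Int.ofNat 2, Int.negSucc 1, Int.negSucc 1, Int.ofNat 0, Int.ofNat 0, Int.ofNat 0, Int.ofNat 0, Int.ofNat 0],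
  [Int.ofNat 0, Int.ofNat 2, Int.ofNat 0, Int.ofNat 0, Int.ofNat 0, Int.negSucc 1, Int.ofNat 0, Int.ofNat 2, Int.ofNat 0, Int.ofNat 0, Int.ofNat 0, Int.ofNat 2, Int.ofNat 0, Int.ofNat 2, Int.negSucc 1, Int.negSucc 1, Int.ofNat 0, Int.negSucc 1, Int.ofNat 0, Int.ofNat 0, Int.ofNat 0, Int.ofNat 0, Int.ofNat 0, Int.ofNat 0],
  [Int.ofNat 0, Int.ofNat 0, Int.ofNat 2, Int.negSucc 1, Int.negSucc 1, Int.ofNat 0, Int.ofNat 0, Int.ofNat 2, Int.ofNat 0, Int.negSucc 1, Int.ofNat 0, Int.ofNat 0, Int.ofNat 0, Int.ofNat 2, Int.ofNat 0, Int.ofNat 0, Int.ofNat 0, Int.ofNat 0, Int.negSucc 1, Int.ofNat 0, Int.ofNat 0, Int.ofNat 0, Int.ofNat 2, Int.ofNat 0],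
  [Int.ofNat 0, Int.ofNat 0, Int.negSucc 1, Int.negSucc 1, Int.negSucc 1, Int.ofNat 0, Int.ofNat 0, Int.negSucc 1, Int.ofNat 0, Int.ofNat 2, Int.ofNat 0, Int.ofNat 0, Int.ofNat 0, Int.ofNat 2, Int.ofNat 0, Int.ofNat 0, Int.ofNat 0, Int.ofNat 0, Int.ofNat 2, Int.ofNat 0, Int.ofNat 0, Int.ofNat 0, Int.ofNat 2, Int.ofNat 0],
  [Int.ofNat 2, Int.ofNat 0, Int.ofNat 0, Int.negSucc 1, Int.negSucc 1, Int.negSucc 1, Int.ofNat 0, Int.ofNat 0, Int.negSucc 1, Int.ofNat 0, Int.ofNat 2, Int.ofNat 0, Int.ofNat 0, Int.ofNat 0, Int.ofNat 2, Int.ofNat 0, Int.ofNat 0, Int.ofNat 0, Int.ofNat 0, Int.ofNat 2, Int.ofNat 0, Int.ofNat 0, Int.ofNat 0, Int.ofNat 0],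
  [Int.negSucc 0, Int.ofNat 1, Int.ofNat 1, Int.negSucc 0, Int.negSucc 0, Int.negSucc 0, Int.negSucc 0, Int.negSucc 0, Int.negSucc 0, Int.negSucc 0, Int.ofNat 1, Int.ofNat 1, Int.ofNat 1, Int.ofNat 1, Int.ofNat 3, Int.negSucc 0, Int.ofNat 1, Int.ofNat 1, Int.ofNat 1, Int.ofNat 1, Int.negSucc 0, Int.negSucc 0, Int.ofNat 1, Int.ofNat 1],
  [Int.negSucc 0, Int.negSucc 0, Int.negSucc 0, Int.negSucc 0, Int.negSucc 0, Int.negSucc 0, Int.negSucc 0, Int.ofNat 1, Int.ofNat 1, Int.ofNat 1, Int.ofNat 1, Int.ofNat 3, Int.negSucc 0, Int.ofNat 1, Int.ofNat 1, Int.ofNat 1, Int.ofNat 1, Int.negSucc 0, Int.negSucc 0, Int.ofNat 1, Int.negSucc 0, Int.ofNat 1, Int.ofNat 1, Int.ofNat 1],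
  [Int.ofNat 0, Int.ofNat 0, Int.ofNat 0, Int.ofNat 0, Int.negSucc 1, Int.ofNat 0, Int.negSucc 1, Int.ofNat 0, Int.ofNat 0, Int.ofNat 0, Int.ofNat 0, Int.ofNat 2, Int.negSucc 1, Int.ofNat 0, Int.ofNat 2, Int.ofNat 0, Int.ofNat 0, Int.ofNat 0, Int.negSucc 1, Int.ofNat 0, Int.negSucc 1, Int.ofNat 0, Int.ofNat 0, Int.negSucc 1],
  [Int.ofNat 0, Int.negSucc 1, Int.negSucc 1, Int.ofNat 0, Int.negSucc 1, Int.ofNat 0, Int.ofNat 0, Int.ofNat 0, Int.negSucc 1, Int.ofNat 0, Int.negSucc 1, Int.ofNat 0, Int.ofNat 0, Int.ofNat 0, Int.ofNat 0, Int.ofNat 0, Int.ofNat 0, Int.ofNat 2, Int.ofNat 0, Int.ofNat 2, Int.ofNat 0, Int.ofNat 0, Int.ofNat 0, Int.negSucc 1],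
  [Int.negSucc 2, Int.negSucc 0, Int.negSucc 0, Int.negSucc 0, Int.negSucc 0, Int.negSucc 0, Int.negSucc 0, Int.negSucc 0, Int.negSucc 0, Int.ofNat 1, Int.negSucc 0, Int.ofNat 1, Int.ofNat 1, Int.ofNat 1, Int.negSucc 0, Int.ofNat 1, Int.ofNat 1, Int.ofNat 1, Int.ofNat 1, Int.ofNat 1, Int.ofNat 1, Int.negSucc 0, Int.ofNat 1, Int.negSucc 0],
  [Int.negSucc 2, Int.negSucc 0, Int.ofNat 1, Int.negSucc 0, Int.negSucc 0, Int.ofNat 1, Int.ofNat 1, Int.negSucc 0, Int.negSucc 0, Int.negSucc 0, Int.ofNat 1, Int.ofNat 1, Int.ofNat 1, Int.ofNat 1, Int.negSucc 0, Int.negSucc 0, Int.ofNat 1, Int.ofNat 1, Int.negSucc 0, Int.ofNat 1, Int.ofNat 1, Int.negSucc 0, Int.negSucc 0, Int.negSucc 0],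
  [Int.negSucc 0, Int.negSucc 0, Int.ofNat 1, Int.ofNat 1, Int.negSucc 0, Int.ofNat 1, Int.ofNat 1, Int.negSucc 2, Int.negSucc 0, Int.negSucc 0, Int.ofNat 1, Int.negSucc 0, Int.negSucc 0, Int.ofNat 1, Int.negSucc 0, Int.negSucc 0, Int.ofNat 1, Int.ofNat 1, Int.ofNat 1, Int.ofNat 1, Int.negSucc 0, Int.negSucc 0, Int.ofNat 1, Int.negSucc 0],
  [Int.negSucc 0, Int.negSucc 0, Int.negSucc 0, Int.ofNat 1, Int.negSucc 0, Int.negSucc 0, Int.negSucc 0, Int.negSucc 2, Int.negSucc 0, Int.ofNat 1, Int.negSucc 0, Int.negSucc 0, Int.negSucc 0, Int.ofNat 1, Int.negSucc 0, Int.ofNat 1, Int.ofNat 1, Int.ofNat 1, Int.negSucc 0, Int.ofNat 1, Int.negSucc 0, Int.negSucc 0, Int.negSucc 0, Int.negSucc 0],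
  [Int.negSucc 0, Int.negSucc 0, Int.negSucc 0, Int.ofNat 1, Int.negSucc 0, Int.negSucc 0, Int.ofNat 1, Int.negSucc 0, Int.ofNat 1, Int.ofNat 1, Int.negSucc 0, Int.ofNat 1, Int.ofNat 1, Int.ofNat 1, Int.negSucc 0, Int.ofNat 1, Int.ofNat 1, Int.ofNat 1, Int.ofNat 1, Int.ofNat 3, Int.negSucc 0, Int.ofNat 1, Int.negSucc 0, Int.negSucc 0],
  [Int.negSucc 0, Int.ofNat 1, Int.ofNat 1, Int.ofNat 1, Int.negSucc 0, Int.ofNat 1, Int.negSucc 0, Int.negSucc 0, Int.ofNat 1, Int.ofNat 1, Int.negSucc 0, Int.ofNat 3, Int.ofNat 1, Int.ofNat 1, Int.ofNat 1, Int.ofNat 1, Int.ofNat 1, Int.ofNat 1, Int.negSucc 0, Int.negSucc 0, Int.negSucc 0, Int.negSucc 0, Int.negSucc 0, Int.negSucc 0],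
  [Int.ofNat 1, Int.negSucc 0, Int.negSucc 0, Int.negSucc 0, Int.negSucc 0, Int.negSucc 0, Int.ofNat 1, Int.ofNat 1, Int.negSucc 0, Int.ofNat 1, Int.negSucc 0, Int.ofNat 1, Int.negSucc 0, Int.ofNat 1, Int.negSucc 0, Int.ofNat 1, Int.ofNat 1, Int.negSucc 0, Int.negSucc 2, Int.ofNat 1, Int.negSucc 0, Int.ofNat 1, Int.negSucc 0, Int.ofNat 1],
  [Int.negSucc 0, Int.ofNat 1, Int.negSucc 0, Int.ofNat 1, Int.negSucc 0, Int.negSucc 0, Int.negSucc 0, Int.negSucc 0, Int.negSucc 0, Int.ofNat 1, Int.ofNat 1, Int.negSucc 0, Int.ofNat 1, Int.negSucc 0, Int.ofNat 1, Int.negSucc 0, Int.ofNat 1, Int.negSucc 0, Int.ofNat 1, Int.ofNat 1, Int.negSucc 0, Int.negSucc 2, Int.ofNat 1, Int.ofNat 1],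
  [Int.ofNat 1, Int.negSucc 0, Int.ofNat 1, Int.ofNat 1, Int.negSucc 0, Int.negSucc 0, Int.ofNat 1, Int.ofNat 1, Int.negSucc 0, Int.ofNat 1, Int.ofNat 1, Int.negSucc 0, Int.ofNat 1, Int.negSucc 0, Int.ofNat 1, Int.negSucc 0, Int.ofNat 1, Int.negSucc 0, Int.ofNat 1, Int.ofNat 3, Int.negSucc 0, Int.negSucc 0, Int.ofNat 1, Int.negSucc 0],
  [Int.negSucc 0, Int.ofNat 1, Int.ofNat 1, Int.negSucc 0, Int.negSucc 0, Int.ofNat 1, Int.ofNat 1, Int.negSucc 0, Int.ofNat 1, Int.ofNat 1, Int.negSucc 0, Int.ofNat 1, Int.negSucc 0, Int.ofNat 1, Int.negSucc 0, Int.ofNat 1, Int.negSucc 0, Int.ofNat 1, Int.ofNat 3, Int.negSucc 0, Int.negSucc 0, Int.ofNat 1, Int.ofNat 1, Int.negSucc 0],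
  [Int.ofNat 1, Int.ofNat 1, Int.negSucc 0, Int.negSucc 0, Int.negSucc 0, Int.ofNat 1, Int.ofNat 1, Int.ofNat 1, Int.ofNat 1, Int.negSucc 0, Int.ofNat 1, Int.negSucc 0, Int.negSucc 0, Int.ofNat 1, Int.negSucc 0, Int.ofNat 1, Int.negSucc 0, Int.ofNat 1, Int.negSucc 2, Int.negSucc 0, Int.negSucc 0, Int.negSucc 0, Int.ofNat 1, Int.negSucc 0],
  [Int.negSucc 0, Int.negSucc 0, Int.ofNat 1, Int.ofNat 1, Int.ofNat 1, Int.ofNat 1, Int.negSucc 0, Int.ofNat 1, Int.negSucc 0, Int.ofNat 1, Int.ofNat 1, Int.negSucc 0, Int.ofNat 1, Int.negSucc 0, Int.negSucc 0, Int.ofNat 1, Int.ofNat 1, Int.ofNat 1, Int.ofNat 3, Int.negSucc 0, Int.negSucc 0, Int.negSucc 0, Int.ofNat 1, Int.negSucc 0],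
  [Int.negSucc 0, Int.ofNat 1, Int.ofNat 3, Int.ofNat 1, Int.negSucc 0, Int.ofNat 1, Int.ofNat 1, Int.negSucc 0, Int.ofNat 1, Int.ofNat 1, Int.negSucc 0, Int.negSucc 0, Int.negSucc 0, Int.negSucc 0, Int.negSucc 0, Int.ofNat 1, Int.ofNat 1, Int.ofNat 1, Int.negSucc 0, Int.ofNat 1, Int.ofNat 1, Int.ofNat 1, Int.negSucc 0, Int.negSucc 0],
  [Int.ofNat 1, Int.ofNat 1, Int.negSucc 2, Int.ofNat 1, Int.negSucc 0, Int.ofNat 1, Int.ofNat 1, Int.ofNat 1, Int.ofNat 1, Int.negSucc 0, Int.ofNat 1, Int.ofNat 1, Int.negSucc 0, Int.negSucc 0, Int.negSucc 0, Int.ofNat 1, Int.ofNat 1, Int.ofNat 1, Int.ofNat 1, Int.ofNat 1, Int.ofNat 1, Int.negSucc 0, Int.negSucc 0, Int.negSucc 0],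
  [Int.negSucc 0, Int.ofNat 1, Int.ofNat 1, Int.negSucc 2, Int.ofNat 1, Int.negSucc 0, Int.ofNat 1, Int.ofNat 1, Int.ofNat 1, Int.ofNat 1, Int.negSucc 0, Int.ofNat 1, Int.ofNat 1, Int.negSucc 0, Int.negSucc 0, Int.negSucc 0, Int.ofNat 1, Int.ofNat 1, Int.ofNat 1, Int.ofNat 1, Int.ofNat 1, Int.ofNat 1, Int.negSucc 0, Int.negSucc 0],
  [Int.ofNat 1, Int.negSucc 0, Int.negSucc 0, Int.negSucc 0, Int.ofNat 1, Int.ofNat 1, Int.negSucc 0, Int.negSucc 0, Int.negSucc 0, Int.ofNat 1, Int.negSucc 0, Int.negSucc 0, Int.negSucc 0, Int.negSucc 0, Int.ofNat 1, Int.negSucc 0, Int.ofNat 1, Int.ofNat 3, Int.negSucc 0, Int.negSucc 0, Int.ofNat 1, Int.negSucc 0, Int.negSucc 0, Int.ofNat 1],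
  [Int.negSucc 0, Int.ofNat 1, Int.ofNat 1, Int.negSucc 0, Int.negSucc 0, Int.negSucc 0, Int.ofNat 1, Int.negSucc 0, Int.negSucc 0, Int.negSucc 0, Int.negSucc 0, Int.ofNat 1, Int.negSucc 0, Int.ofNat 1, Int.ofNat 3, Int.negSucc 0, Int.negSucc 0, Int.ofNat 1, Int.negSucc 0, Int.negSucc 0, Int.ofNat 1, Int.negSucc 0, Int.negSucc 0, Int.ofNat 1],
  [Int.ofNat 2, Int.ofNat 0, Int.ofNat 0, Int.negSucc 1, Int.ofNat 0, Int.negSucc 1, Int.ofNat 2, Int.ofNat 0, Int.ofNat 0, Int.ofNat 0, Int.ofNat 0, Int.ofNat 2, Int.ofNat 0, Int.ofNat 2, Int.ofNat 2, Int.ofNat 0, Int.ofNat 0, Int.ofNat 0, Int.ofNat 0, Int.ofNat 0, Int.ofNat 2, Int.ofNat 0, Int.ofNat 0, Int.ofNat 0],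
  [Int.ofNat 2, Int.ofNat 2, Int.ofNat 0, Int.negSucc 1, Int.ofNat 0, Int.ofNat 0, Int.ofNat 0, Int.ofNat 0, Int.ofNat 0, Int.ofNat 2, Int.ofNat 2, Int.ofNat 0, Int.ofNat 0, Int.ofNat 0, Int.ofNat 0, Int.ofNat 0, Int.ofNat 0, Int.ofNat 2, Int.ofNat 0, Int.ofNat 2, Int.ofNat 0, Int.negSucc 1, Int.ofNat 0, Int.ofNat 0],
  [Int.ofNat 0, Int.ofNat 0, Int.ofNat 2, Int.negSucc 1, Int.ofNat 0, Int.ofNat 0, Int.ofNat 0, Int.ofNat 0, Int.ofNat 0, Int.ofNat 0, Int.ofNat 0, Int.ofNat 0, Int.ofNat 0, Int.ofNat 0, Int.ofNat 0, Int.negSucc 1, Int.ofNat 0, Int.ofNat 2, Int.ofNat 0, Int.ofNat 2, Int.negSucc 1, Int.negSucc 1, Int.ofNat 0, Int.ofNat 2],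
  [Int.ofNat 0, Int.ofNat 0, Int.negSucc 1, Int.negSucc 1, Int.ofNat 0, Int.ofNat 0, Int.ofNat 0, Int.ofNat 0, Int.ofNat 0, Int.ofNat 0, Int.ofNat 0, Int.ofNat 0, Int.ofNat 0, Int.ofNat 0, Int.ofNat 0, Int.ofNat 2, Int.ofNat 0, Int.ofNat 2, Int.ofNat 0, Int.ofNat 2, Int.negSucc 1, Int.negSucc 1, Int.ofNat 0, Int.ofNat 2],
  [Int.ofNat 0, Int.ofNat 0, Int.ofNat 0, Int.ofNat 0, Int.ofNat 0, Int.ofNat 0, Int.negSucc 1, Int.negSucc 1, Int.ofNat 0, Int.negSucc 1, Int.ofNat 0, Int.ofNat 0, Int.ofNat 2, Int.ofNat 0, Int.ofNat 2, Int.ofNat 0, Int.ofNat 2, Int.ofNat 0, Int.ofNat 0, Int.negSucc 1, Int.ofNat 0, Int.ofNat 0, Int.ofNat 0, Int.ofNat 2],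
  [Int.ofNat 2, Int.ofNat 0, Int.ofNat 0, Int.ofNat 0, Int.ofNat 0, Int.negSucc 1, Int.negSucc 1, Int.ofNat 0, Int.ofNat 0, Int.ofNat 0, Int.ofNat 2, Int.ofNat 0, Int.ofNat 0, Int.negSucc 1, Int.ofNat 0, Int.ofNat 0, Int.ofNat 0, Int.ofNat 0, Int.ofNat 2, Int.negSucc 1, Int.ofNat 0, Int.ofNat 2, Int.ofNat 0, Int.ofNat 0],
  [Int.negSucc 1, Int.ofNat 0, Int.ofNat 0, Int.ofNat 0, Int.ofNat 0, Int.negSucc 1, Int.negSucc 1, Int.ofNat 0, Int.ofNat 0, Int.ofNat 0, Int.negSucc 1, Int.ofNat 0, Int.ofNat 0, Int.negSucc 1, Int.ofNat 0, Int.ofNat 0, Int.ofNat 0, Int.ofNat 0, Int.negSucc 1, Int.negSucc 1, Int.ofNat 0, Int.negSucc 1, Int.ofNat 0, Int.ofNat 0],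
  [Int.ofNat 0, Int.negSucc 1, Int.ofNat 0, Int.ofNat 0, Int.ofNat 0, Int.ofNat 0, Int.negSucc 1, Int.negSucc 1, Int.ofNat 0, Int.ofNat 0, Int.ofNat 0, Int.negSucc 1, Int.ofNat 0, Int.ofNat 0, Int.negSucc 1, Int.ofNat 0, Int.ofNat 0, Int.ofNat 0, Int.ofNat 0, Int.negSucc 1, Int.negSucc 1, Int.ofNat 0, Int.negSucc 1, Int.ofNat 0],
  [Int.negSucc 0, Int.ofNat 1, Int.negSucc 0, Int.ofNat 1, Int.ofNat 1, Int.ofNat 1, Int.ofNat 1, Int.ofNat 1, Int.ofNat 1, Int.ofNat 1, Int.ofNat 1, Int.negSucc 0, Int.ofNat 1, Int.ofNat 1, Int.negSucc 0, Int.ofNat 1, Int.ofNat 1, Int.ofNat 1, Int.ofNat 1, Int.ofNat 1, Int.negSucc 0, Int.ofNat 3, Int.negSucc 0, Int.negSucc 0],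
  [Int.ofNat 1, Int.ofNat 1, Int.ofNat 1, Int.ofNat 1, Int.ofNat 1, Int.ofNat 1, Int.ofNat 1, Int.ofNat 1, Int.negSucc 0, Int.ofNat 1, Int.ofNat 1, Int.negSucc 0, Int.ofNat 1, Int.ofNat 1, Int.ofNat 1, Int.ofNat 1, Int.ofNat 1, Int.negSucc 0, Int.ofNat 3, Int.negSucc 0, Int.negSucc 0, Int.ofNat 1, Int.negSucc 0, Int.negSucc 0],
  [Int.ofNat 0, Int.ofNat 0, Int.ofNat 0, Int.ofNat 0, Int.ofNat 0, Int.ofNat 0, Int.ofNat 0, Int.ofNat 0, Int.negSucc 1, Int.ofNat 0, Int.ofNat 0, Int.negSucc 1, Int.ofNat 0, Int.ofNat 0, Int.ofNat 0, Int.ofNat 0, Int.ofNat 0, Int.negSucc 1, Int.ofNat 2, Int.negSucc 1, Int.negSucc 1, Int.ofNat 0, Int.negSucc 1, Int.ofNat 2],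
  [Int.ofNat 0, Int.ofNat 0, Int.ofNat 0, Int.ofNat 0, Int.ofNat 2, Int.ofNat 0, Int.ofNat 0, Int.ofNat 0, Int.ofNat 0, Int.ofNat 0, Int.negSucc 1, Int.negSucc 1, Int.ofNat 0, Int.ofNat 0, Int.negSucc 1, Int.ofNat 0, Int.negSucc 1, Int.ofNat 0, Int.ofNat 0, Int.negSucc 1, Int.ofNat 0, Int.ofNat 0, Int.negSucc 1, Int.ofNat 2],
  [Int.ofNat 1, Int.ofNat 1, Int.ofNat 1, Int.ofNat 1, Int.ofNat 3, Int.ofNat 1, Int.ofNat 1, Int.ofNat 1, Int.ofNat 1, Int.ofNat 1, Int.negSucc 0, Int.negSucc 0, Int.ofNat 1, Int.ofNat 1, Int.negSucc 0, Int.ofNat 1, Int.negSucc 0, Int.ofNat 1, Int.ofNat 1, Int.negSucc 0, Int.ofNat 1, Int.ofNat 1, Int.negSucc 0, Int.negSucc 0],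
  [Int.ofNat 1, Int.ofNat 1, Int.negSucc 0, Int.ofNat 1, Int.ofNat 3, Int.negSucc 0, Int.negSucc 0, Int.ofNat 1, Int.ofNat 1, Int.negSucc 0, Int.ofNat 1, Int.negSucc 0, Int.ofNat 1, Int.ofNat 1, Int.negSucc 0, Int.negSucc 0, Int.negSucc 0, Int.ofNat 1, Int.negSucc 0, Int.negSucc 0, Int.ofNat 1, Int.ofNat 1, Int.ofNat 1, Int.negSucc 0],
  [Int.ofNat 1, Int.ofNat 1, Int.negSucc 0, Int.negSucc 0, Int.ofNat 1, Int.ofNat 1, Int.ofNat 1, Int.ofNat 1, Int.negSucc 0, Int.negSucc 0, Int.ofNat 1, Int.ofNat 1, Int.ofNat 1, Int.negSucc 0, Int.ofNat 3, Int.ofNat 1, Int.ofNat 1, Int.ofNat 1, Int.negSucc 0, Int.negSucc 0, Int.negSucc 0, Int.negSucc 0, Int.negSucc 0, Int.negSucc 0],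
  [Int.ofNat 1, Int.ofNat 1, Int.ofNat 1, Int.negSucc 0, Int.ofNat 1, Int.negSucc 0, Int.negSucc 0, Int.ofNat 1, Int.negSucc 0, Int.ofNat 1, Int.negSucc 0, Int.ofNat 1, Int.ofNat 1, Int.negSucc 0, Int.ofNat 3, Int.negSucc 0, Int.ofNat 1, Int.ofNat 1, Int.ofNat 1, Int.negSucc 0, Int.negSucc 0, Int.negSucc 0, Int.ofNat 1, Int.negSucc 0],
  [Int.ofNat 0, Int.ofNat 0, Int.ofNat 0, Int.negSucc 1, Int.ofNat 0, Int.negSucc 1, Int.ofNat 0, Int.ofNat 2, Int.negSucc 1, Int.ofNat 2, Int.ofNat 0, Int.ofNat 0, Int.ofNat 0, Int.negSucc 1, Int.ofNat 2, Int.ofNat 0, Int.ofNat 0, Int.ofNat 0, Int.ofNat 0, Int.ofNat 0, Int.ofNat 0, Int.ofNat 0, Int.ofNat 0, Int.ofNat 2],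
  [Int.ofNat 0, Int.ofNat 0, Int.ofNat 0, Int.negSucc 1, Int.ofNat 0, Int.ofNat 0, Int.ofNat 0, Int.negSucc 1, Int.ofNat 0, Int.ofNat 0, Int.ofNat 2, Int.ofNat 0, Int.negSucc 1, Int.ofNat 2, Int.ofNat 0, Int.ofNat 0, Int.negSucc 1, Int.ofNat 0, Int.ofNat 0, Int.ofNat 0, Int.ofNat 0, Int.ofNat 0, Int.ofNat 2, Int.ofNat 2],
  [Int.ofNat 1, Int.ofNat 1, Int.ofNat 1, Int.negSucc 0, Int.negSucc 0, Int.ofNat 1, Int.ofNat 1, Int.negSucc 0, Int.ofNat 1, Int.negSucc 0, Int.ofNat 1, Int.ofNat 1, Int.negSucc 0, Int.ofNat 1, Int.ofNat 1, Int.negSucc 0, Int.negSucc 2, Int.ofNat 1, Int.ofNat 1, Int.ofNat 1, Int.negSucc 0, Int.ofNat 1, Int.ofNat 1, Int.negSucc 0],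
  [Int.negSucc 0, Int.ofNat 1, Int.ofNat 1, Int.ofNat 1, Int.ofNat 1, Int.ofNat 1, Int.negSucc 0, Int.negSucc 0, Int.ofNat 1, Int.ofNat 1, Int.negSucc 0, Int.ofNat 1, Int.negSucc 0, Int.ofNat 1, Int.ofNat 1, Int.negSucc 0, Int.ofNat 1, Int.ofNat 1, Int.negSucc 0, Int.negSucc 2, Int.ofNat 1, Int.ofNat 1, Int.ofNat 1, Int.negSucc 0],
  [Int.ofNat 1, Int.negSucc 0, Int.negSucc 0, Int.negSucc 0, Int.negSucc 0, Int.negSucc 0, Int.ofNat 1, Int.ofNat 1, Int.ofNat 1, Int.ofNat 1, Int.negSucc 0, Int.ofNat 1, Int.negSucc 0, Int.negSucc 0, Int.negSucc 0, Int.negSucc 0, Int.negSucc 0, Int.negSucc 0, Int.negSucc 0, Int.negSucc 0, Int.ofNat 1, Int.ofNat 3, Int.negSucc 0, Int.ofNat 1],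
  [Int.negSucc 0, Int.negSucc 0, Int.negSucc 0, Int.negSucc 0, Int.negSucc 0, Int.ofNat 1, Int.ofNat 1, Int.ofNat 1, Int.ofNat 1, Int.negSucc 0, Int.ofNat 1, Int.negSucc 0, Int.negSucc 0, Int.negSucc 0, Int.negSucc 0, Int.negSucc 0, Int.negSucc 0, Int.negSucc 0, Int.negSucc 0, Int.ofNat 1, Int.ofNat 3, Int.negSucc 0, Int.ofNat 1, Int.ofNat 1],
  [Int.ofNat 1, Int.negSucc 0, Int.ofNat 1, Int.negSucc 0, Int.negSucc 0, Int.ofNat 1, Int.ofNat 1, Int.negSucc 0, Int.ofNat 1, Int.ofNat 1, Int.negSucc 0, Int.ofNat 1, Int.negSucc 0, Int.negSucc 0, Int.negSucc 0, Int.negSucc 0, Int.negSucc 0, Int.negSucc 0, Int.ofNat 1, Int.ofNat 1, Int.ofNat 3, Int.ofNat 1, Int.ofNat 1, Int.ofNat 1],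
  [Int.negSucc 0, Int.ofNat 1, Int.negSucc 0, Int.ofNat 1, Int.ofNat 1, Int.ofNat 1, Int.negSucc 0, Int.negSucc 0, Int.negSucc 0, Int.negSucc 0, Int.negSucc 0, Int.ofNat 1, Int.ofNat 1, Int.ofNat 1, Int.negSucc 0, Int.negSucc 0, Int.ofNat 1, Int.negSucc 0, Int.negSucc 0, Int.ofNat 1, Int.ofNat 3, Int.ofNat 1, Int.ofNat 1, Int.ofNat 1],
  [Int.negSucc 0, Int.negSucc 0, Int.negSucc 0, Int.ofNat 1, Int.ofNat 1, Int.negSucc 0, Int.ofNat 1, Int.ofNat 3, Int.negSucc 0, Int.ofNat 1, Int.ofNat 1, Int.negSucc 0, Int.ofNat 1, Int.negSucc 0, Int.ofNat 1, Int.negSucc 0, Int.ofNat 1, Int.ofNat 1, Int.negSucc 0, Int.negSucc 0, Int.ofNat 1, Int.negSucc 0, Int.ofNat 1, Int.ofNat 1],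
  [Int.ofNat 1, Int.negSucc 0, Int.ofNat 1, Int.ofNat 1, Int.ofNat 1, Int.negSucc 0, Int.ofNat 1, Int.negSucc 2, Int.negSucc 0, Int.negSucc 0, Int.negSucc 0, Int.ofNat 1, Int.ofNat 1, Int.negSucc 0, Int.ofNat 1, Int.negSucc 0, Int.ofNat 1, Int.ofNat 1, Int.ofNat 1, Int.negSucc 0, Int.ofNat 1, Int.ofNat 1, Int.ofNat 1, Int.ofNat 1],
  [Int.ofNat 1, Int.ofNat 1, Int.negSucc 0, Int.ofNat 1, Int.ofNat 1, Int.ofNat 1, Int.negSucc 0, Int.ofNat 1, Int.negSucc 2, Int.negSucc 0, Int.negSucc 0, Int.negSucc 0, Int.ofNat 1, Int.ofNat 1, Int.negSucc 0, Int.ofNat 1, Int.negSucc 0, Int.ofNat 1, Int.ofNat 1, Int.ofNat 1, Int.negSucc 0, Int.ofNat 1, Int.ofNat 1, Int.ofNat 1],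
  [Int.ofNat 0, Int.ofNat 0, Int.ofNat 2, Int.ofNat 0, Int.ofNat 0, Int.ofNat 0, Int.negSucc 1, Int.ofNat 0, Int.negSucc 1, Int.ofNat 0, Int.ofNat 0, Int.ofNat 0, Int.ofNat 2, Int.ofNat 0, Int.negSucc 1, Int.ofNat 2, Int.negSucc 1, Int.ofNat 0, Int.ofNat 2, Int.ofNat 0, Int.ofNat 0, Int.ofNat 0, Int.ofNat 0, Int.ofNat 0],
  [Int.ofNat 0, Int.ofNat 0, Int.ofNat 0, Int.negSucc 1, Int.ofNat 0, Int.negSucc 1, Int.ofNat 0, Int.ofNat 0, Int.ofNat 0, Int.ofNat 2, Int.ofNat 0, Int.negSucc 1, Int.ofNat 2, Int.negSucc 1, Int.ofNat 0, Int.ofNat 2, Int.ofNat 0, Int.ofNat 0, Int.ofNat 0, Int.ofNat 0, Int.ofNat 0, Int.ofNat 0, Int.ofNat 2, Int.ofNat 0],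
  [Int.ofNat 0, Int.ofNat 0, Int.ofNat 0, Int.ofNat 0, Int.ofNat 0, Int.ofNat 0, Int.ofNat 0, Int.ofNat 0, Int.ofNat 0, Int.ofNat 0, Int.negSucc 1, Int.negSucc 1, Int.ofNat 2, Int.negSucc 1, Int.ofNat 2, Int.ofNat 0, Int.ofNat 0, Int.ofNat 2, Int.ofNat 0, Int.ofNat 0, Int.negSucc 1, Int.ofNat 0, Int.ofNat 2, Int.ofNat 0],
  [Int.ofNat 0, Int.ofNat 0, Int.ofNat 0, Int.ofNat 0, Int.ofNat 0, Int.ofNat 0, Int.ofNat 0, Int.negSucc 1, Int.ofNat 2, Int.negSucc 1, Int.negSucc 1, Int.ofNat 2, Int.ofNat 0, Int.ofNat 0, Int.ofNat 2, Int.ofNat 0, Int.ofNat 0, Int.ofNat 2, Int.ofNat 0, Int.negSucc 1, Int.ofNat 0, Int.ofNat 0, Int.ofNat 0, Int.ofNat 0],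
  [Int.ofNat 0, Int.ofNat 0, Int.ofNat 0, Int.negSucc 1, Int.ofNat 0, Int.negSucc 1, Int.ofNat 2, Int.ofNat 0, Int.ofNat 0, Int.ofNat 0, Int.ofNat 0, Int.ofNat 0, Int.negSucc 1, Int.ofNat 0, Int.ofNat 0, Int.ofNat 2, Int.ofNat 0, Int.ofNat 0, Int.negSucc 1, Int.ofNat 0, Int.ofNat 2, Int.ofNat 2, Int.ofNat 0, Int.ofNat 0],
  [Int.ofNat 0, Int.ofNat 0, Int.ofNat 0, Int.negSucc 1, Int.ofNat 0, Int.ofNat 2, Int.negSucc 1, Int.ofNat 0, Int.ofNat 0, Int.ofNat 0, Int.ofNat 0, Int.ofNat 0, Int.negSucc 1, Int.ofNat 0, Int.ofNat 0, Int.negSucc 1, Int.ofNat 0, Int.ofNat 0, Int.ofNat 2, Int.ofNat 0, Int.ofNat 2, Int.ofNat 2, Int.ofNat 0, Int.ofNat 0],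
  [Int.ofNat 0, Int.ofNat 0, Int.ofNat 0, Int.ofNat 0, Int.ofNat 0, Int.negSucc 1, Int.ofNat 2, Int.negSucc 1, Int.ofNat 2, Int.ofNat 2, Int.ofNat 0, Int.ofNat 0, Int.negSucc 1, Int.ofNat 0, Int.ofNat 0, Int.ofNat 2, Int.ofNat 0, Int.negSucc 1, Int.ofNat 0, Int.ofNat 0, Int.ofNat 0, Int.ofNat 0, Int.ofNat 0, Int.ofNat 0],
  [Int.ofNat 0, Int.ofNat 0, Int.ofNat 0, Int.ofNat 2, Int.negSucc 1, Int.ofNat 2, Int.ofNat 0, Int.ofNat 0, Int.ofNat 0, Int.negSucc 1, Int.ofNat 0, Int.ofNat 0, Int.ofNat 0, Int.negSucc 1, Int.ofNat 0, Int.ofNat 0, Int.ofNat 0, Int.ofNat 0, Int.ofNat 0, Int.ofNat 2, Int.ofNat 2, Int.negSucc 1, Int.ofNat 0, Int.ofNat 0],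
  [Int.ofNat 0, Int.ofNat 0, Int.ofNat 0, Int.ofNat 2, Int.negSucc 1, Int.ofNat 2, Int.ofNat 0, Int.ofNat 0, Int.ofNat 0, Int.ofNat 2, Int.ofNat 0, Int.ofNat 0, Int.ofNat 0, Int.negSucc 1, Int.ofNat 0, Int.ofNat 0, Int.ofNat 0, Int.ofNat 0, Int.ofNat 0, Int.ofNat 2, Int.ofNat 2, Int.ofNat 2, Int.ofNat 0, Int.ofNat 0],
  [Int.ofNat 0, Int.ofNat 0, Int.ofNat 0, Int.ofNat 0, Int.ofNat 2, Int.negSucc 1, Int.ofNat 2, Int.ofNat 0, Int.ofNat 0, Int.ofNat 0, Int.ofNat 2, Int.ofNat 0, Int.ofNat 0, Int.ofNat 0, Int.negSucc 1, Int.ofNat 0, Int.ofNat 0, Int.ofNat 0, Int.ofNat 0, Int.ofNat 0, Int.ofNat 2, Int.ofNat 2, Int.ofNat 2, Int.ofNat 0],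
  [Int.ofNat 0, Int.ofNat 0, Int.ofNat 0, Int.ofNat 2, Int.ofNat 0, Int.ofNat 0, Int.ofNat 0, Int.negSucc 1, Int.ofNat 0, Int.negSucc 1, Int.ofNat 0, Int.ofNat 0, Int.ofNat 0, Int.negSucc 1, Int.ofNat 0, Int.negSucc 1, Int.negSucc 1, Int.ofNat 2, Int.ofNat 0, Int.negSucc 1, Int.ofNat 0, Int.ofNat 0, Int.ofNat 0, Int.ofNat 0],
  [Int.ofNat 2, Int.ofNat 0, Int.ofNat 0, Int.ofNat 0, Int.negSucc 1, Int.ofNat 0, Int.negSucc 1, Int.ofNat 0, Int.ofNat 0, Int.ofNat 0, Int.negSucc 1, Int.ofNat 0, Int.negSucc 1, Int.negSucc 1, Int.ofNat 2, Int.ofNat 0, Int.negSucc 1, Int.ofNat 0, Int.ofNat 0, Int.ofNat 0, Int.ofNat 0, Int.ofNat 0, Int.ofNat 0, Int.ofNat 0],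
  [Int.negSucc 0, Int.ofNat 1, Int.ofNat 1, Int.negSucc 0, Int.ofNat 1, Int.negSucc 0, Int.negSucc 0, Int.ofNat 1, Int.ofNat 1, Int.ofNat 1, Int.negSucc 0, Int.ofNat 1, Int.negSucc 0, Int.ofNat 1, Int.ofNat 1, Int.ofNat 1, Int.ofNat 1, Int.negSucc 0, Int.ofNat 1, Int.ofNat 1, Int.ofNat 1, Int.ofNat 1, Int.ofNat 3, Int.ofNat 1],
  [Int.negSucc 0, Int.negSucc 0, Int.ofNat 1, Int.negSucc 0, Int.ofNat 1, Int.ofNat 1, Int.ofNat 1, Int.negSucc 0, Int.negSucc 0, Int.ofNat 1, Int.ofNat 1, Int.negSucc 0, Int.ofNat 1, Int.ofNat 1, Int.ofNat 3, Int.ofNat 1, Int.ofNat 1, Int.ofNat 1, Int.ofNat 1, Int.ofNat 1, Int.ofNat 1, Int.negSucc 0, Int.ofNat 1, Int.ofNat 1],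
  [Int.ofNat 1, Int.ofNat 1, Int.negSucc 0, Int.negSucc 2, Int.negSucc 0, Int.negSucc 0, Int.ofNat 1, Int.negSucc 0, Int.negSucc 0, Int.negSucc 0, Int.negSucc 0, Int.negSucc 0, Int.ofNat 1, Int.negSucc 0, Int.ofNat 1, Int.negSucc 0, Int.negSucc 0, Int.negSucc 0, Int.ofNat 1, Int.ofNat 1, Int.negSucc 0, Int.negSucc 0, Int.negSucc 0, Int.negSucc 0],
  [Int.ofNat 1, Int.ofNat 1, Int.ofNat 1, Int.negSucc 2, Int.negSucc 0, Int.ofNat 1, Int.negSucc 0, Int.negSucc 0, Int.negSucc 0, Int.ofNat 1, Int.ofNat 1, Int.negSucc 0, Int.ofNat 1, Int.negSucc 0, Int.ofNat 1, Int.ofNat 1, Int.negSucc 0, Int.negSucc 0, Int.negSucc 0, Int.ofNat 1, Int.negSucc 0, Int.negSucc 0, Int.ofNat 1, Int.negSucc 0],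
  [Int.negSucc 0, Int.negSucc 2, Int.negSucc 0, Int.ofNat 1, Int.ofNat 1, Int.ofNat 1, Int.negSucc 0, Int.ofNat 1, Int.ofNat 1, Int.ofNat 1, Int.negSucc 0, Int.negSucc 0, Int.negSucc 0, Int.ofNat 1, Int.negSucc 0, Int.ofNat 1, Int.negSucc 0, Int.ofNat 1, Int.negSucc 0, Int.negSucc 0, Int.ofNat 1, Int.negSucc 0, Int.ofNat 1, Int.negSucc 0],
  [Int.negSucc 0, Int.negSucc 2, Int.ofNat 1, Int.ofNat 1, Int.ofNat 1, Int.negSucc 0, Int.ofNat 1, Int.ofNat 1, Int.ofNat 1, Int.negSucc 0, Int.ofNat 1, Int.negSucc 0, Int.negSucc 0, Int.ofNat 1, Int.negSucc 0, Int.negSucc 0, Int.negSucc 0, Int.ofNat 1, Int.ofNat 1, Int.negSucc 0, Int.ofNat 1, Int.negSucc 0, Int.negSucc 0, Int.negSucc 0],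
  [Int.negSucc 0, Int.ofNat 1, Int.negSucc 2, Int.ofNat 1, Int.ofNat 1, Int.negSucc 0, Int.ofNat 1, Int.ofNat 1, Int.ofNat 1, Int.negSucc 0, Int.ofNat 1, Int.negSucc 0, Int.negSucc 0, Int.ofNat 1, Int.negSucc 0, Int.negSucc 0, Int.negSucc 0, Int.ofNat 1, Int.ofNat 1, Int.negSucc 0, Int.ofNat 1, Int.negSucc 0, Int.negSucc 0, Int.negSucc 0],
  [Int.negSucc 0, Int.ofNat 1, Int.ofNat 1, Int.ofNat 1, Int.negSucc 2, Int.negSucc 0, Int.ofNat 1, Int.negSucc 0, Int.negSucc 0, Int.negSucc 0, Int.ofNat 1, Int.negSucc 0, Int.ofNat 1, Int.negSucc 0, Int.ofNat 1, Int.negSucc 0, Int.ofNat 1, Int.negSucc 0, Int.ofNat 1, Int.negSucc 0, Int.ofNat 1, Int.ofNat 1, Int.negSucc 0, Int.negSucc 0],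
  [Int.ofNat 1, Int.negSucc 0, Int.negSucc 0, Int.ofNat 1, Int.negSucc 0, Int.negSucc 0, Int.ofNat 1, Int.negSucc 0, Int.negSucc 0, Int.negSucc 0, Int.ofNat 1, Int.negSucc 0, Int.ofNat 1, Int.ofNat 1, Int.ofNat 1, Int.negSucc 0, Int.ofNat 3, Int.negSucc 0, Int.ofNat 1, Int.negSucc 0, Int.ofNat 1, Int.ofNat 1, Int.ofNat 1, Int.ofNat 1],
  [Int.ofNat 1, Int.ofNat 1, Int.ofNat 1, Int.ofNat 1, Int.negSucc 0, Int.negSucc 0, Int.ofNat 1, Int.negSucc 0, Int.negSucc 0, Int.ofNat 1, Int.negSucc 0, Int.negSucc 0, Int.negSucc 0, Int.ofNat 1, Int.negSucc 0, Int.ofNat 1, Int.ofNat 1, Int.ofNat 1, Int.negSucc 0, Int.ofNat 3, Int.negSucc 0, Int.ofNat 1, Int.negSucc 0, Int.ofNat 1],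
  [Int.ofNat 1, Int.ofNat 1, Int.ofNat 1, Int.ofNat 1, Int.negSucc 0, Int.negSucc 0, Int.negSucc 0, Int.negSucc 2, Int.ofNat 1, Int.ofNat 1, Int.negSucc 0, Int.ofNat 1, Int.ofNat 1, Int.ofNat 1, Int.negSucc 0, Int.ofNat 1, Int.ofNat 1, Int.ofNat 1, Int.ofNat 1, Int.ofNat 1, Int.negSucc 0, Int.negSucc 0, Int.negSucc 0, Int.ofNat 1],
  [Int.ofNat 1, Int.ofNat 1, Int.ofNat 1, Int.negSucc 0, Int.negSucc 0, Int.negSucc 0, Int.negSucc 2, Int.ofNat 1, Int.ofNat 1, Int.negSucc 0, Int.ofNat 1, Int.ofNat 1, Int.ofNat 1, Int.negSucc 0, Int.ofNat 1, Int.ofNat 1, Int.ofNat 1, Int.ofNat 1, Int.ofNat 1, Int.negSucc 0, Int.negSucc 0, Int.negSucc 0, Int.ofNat 1, Int.ofNat 1],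
  [Int.negSucc 0, Int.ofNat 1, Int.negSucc 0, Int.negSucc 0, Int.negSucc 0, Int.negSucc 0, Int.negSucc 2, Int.negSucc 0, Int.ofNat 1, Int.ofNat 1, Int.negSucc 0, Int.negSucc 0, Int.ofNat 1, Int.negSucc 0, Int.ofNat 1, Int.ofNat 1, Int.ofNat 1, Int.ofNat 1, Int.negSucc 0, Int.negSucc 0, Int.negSucc 0, Int.ofNat 1, Int.ofNat 1, Int.ofNat 1],
  [Int.ofNat 1, Int.negSucc 0, Int.ofNat 1, Int.ofNat 1, Int.ofNat 1, Int.negSucc 0, Int.ofNat 3, Int.negSucc 0, Int.negSucc 0, Int.negSucc 0, Int.negSucc 0, Int.negSucc 0, Int.negSucc 0, Int.ofNat 1, Int.ofNat 1, Int.ofNat 1, Int.negSucc 0, Int.ofNat 1, Int.ofNat 1, Int.negSucc 0, Int.negSucc 0, Int.ofNat 1, Int.ofNat 1, Int.ofNat 1],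
  [Int.ofNat 1, Int.ofNat 1, Int.ofNat 1, Int.ofNat 1, Int.negSucc 0, Int.negSucc 0, Int.ofNat 1, Int.negSucc 0, Int.negSucc 0, Int.negSucc 0, Int.ofNat 1, Int.ofNat 1, Int.ofNat 1, Int.negSucc 0, Int.negSucc 0, Int.ofNat 1, Int.negSucc 0, Int.ofNat 1, Int.ofNat 3, Int.ofNat 1, Int.negSucc 0, Int.negSucc 0, Int.negSucc 0, Int.ofNat 1],
  [Int.negSucc 0, Int.ofNat 1, Int.negSucc 0, Int.ofNat 1, Int.negSucc 0, Int.negSucc 0, Int.ofNat 1, Int.ofNat 1, Int.negSucc 0, Int.ofNat 1, Int.negSucc 0, Int.negSucc 0, Int.ofNat 1, Int.negSucc 0, Int.negSucc 0, Int.ofNat 1, Int.negSucc 0, Int.ofNat 1, Int.negSucc 2, Int.ofNat 1, Int.negSucc 0, Int.ofNat 1, Int.negSucc 0, Int.ofNat 1],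
  [Int.negSucc 0, Int.negSucc 0, Int.ofNat 1, Int.negSucc 0, Int.ofNat 1, Int.negSucc 0, Int.negSucc 0, Int.ofNat 1, Int.ofNat 1, Int.negSucc 0, Int.ofNat 1, Int.negSucc 0, Int.negSucc 0, Int.ofNat 1, Int.negSucc 0, Int.negSucc 0, Int.ofNat 1, Int.negSucc 0, Int.ofNat 1, Int.negSucc 2, Int.ofNat 1, Int.negSucc 0, Int.ofNat 1, Int.ofNat 1],
  [Int.ofNat 1, Int.ofNat 1, Int.negSucc 0, Int.ofNat 1, Int.negSucc 0, Int.ofNat 1, Int.ofNat 1, Int.ofNat 3, Int.ofNat 1, Int.negSucc 0, Int.ofNat 1, Int.negSucc 0, Int.negSucc 0, Int.negSucc 0, Int.ofNat 1, Int.negSucc 0, Int.negSucc 0, Int.ofNat 1, Int.ofNat 1, Int.negSucc 0, Int.ofNat 1, Int.ofNat 1, Int.negSucc 0, Int.negSucc 0],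
  [Int.ofNat 1, Int.negSucc 0, Int.ofNat 1, Int.ofNat 1, Int.ofNat 3, Int.ofNat 1, Int.negSucc 0, Int.ofNat 1, Int.negSucc 0, Int.negSucc 0, Int.negSucc 0, Int.ofNat 1, Int.negSucc 0, Int.negSucc 0, Int.ofNat 1, Int.ofNat 1, Int.negSucc 0, Int.ofNat 1, Int.ofNat 1, Int.negSucc 0, Int.ofNat 1, Int.ofNat 1, Int.negSucc 0, Int.negSucc 0],
  [Int.negSucc 0, Int.ofNat 1, Int.negSucc 0, Int.negSucc 0, Int.ofNat 3, Int.negSucc 0, Int.negSucc 0, Int.ofNat 1, Int.negSucc 0, Int.negSucc 0, Int.negSucc 0, Int.ofNat 1, Int.negSucc 0, Int.negSucc 0, Int.negSucc 0, Int.ofNat 1, Int.negSucc 0, Int.negSucc 0, Int.ofNat 1, Int.negSucc 0, Int.ofNat 1, Int.ofNat 1, Int.negSucc 0, Int.ofNat 1],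
  [Int.negSucc 0, Int.negSucc 0, Int.ofNat 3, Int.negSucc 0, Int.ofNat 1, Int.ofNat 1, Int.negSucc 0, Int.negSucc 0, Int.negSucc 0, Int.negSucc 0, Int.ofNat 1, Int.negSucc 0, Int.negSucc 0, Int.negSucc 0, Int.negSucc 0, Int.ofNat 1, Int.negSucc 0, Int.negSucc 0, Int.ofNat 1, Int.ofNat 1, Int.ofNat 1, Int.negSucc 0, Int.negSucc 0, Int.ofNat 1],
  [Int.ofNat 2, Int.ofNat 2, Int.negSucc 1, Int.ofNat 0, Int.ofNat 2, Int.ofNat 2, Int.ofNat 0, Int.ofNat 0, Int.ofNat 0, Int.negSucc 1, Int.ofNat 0, Int.ofNat 0, Int.ofNat 0, Int.ofNat 0, Int.ofNat 0, Int.ofNat 0, Int.ofNat 0, Int.ofNat 0, Int.ofNat 2, Int.ofNat 2, Int.ofNat 0, Int.ofNat 0, Int.ofNat 0, Int.ofNat 0],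
  [Int.ofNat 2, Int.ofNat 2, Int.ofNat 2, Int.ofNat 0, Int.ofNat 2, Int.negSucc 1, Int.ofNat 0, Int.ofNat 0, Int.ofNat 0, Int.ofNat 2, Int.ofNat 0, Int.ofNat 0, Int.ofNat 0, Int.ofNat 0, Int.ofNat 0, Int.ofNat 0, Int.ofNat 0, Int.ofNat 0, Int.negSucc 1, Int.ofNat 2, Int.ofNat 0, Int.ofNat 0, Int.ofNat 0, Int.ofNat 0],
  [Int.ofNat 0, Int.ofNat 0, Int.ofNat 0, Int.ofNat 0, Int.ofNat 0, Int.ofNat 0, Int.ofNat 0, Int.ofNat 0, Int.negSucc 1, Int.ofNat 0, Int.ofNat 0, Int.ofNat 0, Int.ofNat 0, Int.ofNat 2, Int.ofNat 0, Int.negSucc 1, Int.ofNat 2, Int.ofNat 0, Int.ofNat 2, Int.ofNat 2, Int.ofNat 2, Int.ofNat 2, Int.ofNat 0, Int.ofNat 0],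
  [Int.ofNat 0, Int.ofNat 0, Int.ofNat 0, Int.negSucc 1, Int.ofNat 0, Int.ofNat 0, Int.ofNat 2, Int.ofNat 2, Int.ofNat 2, Int.ofNat 0, Int.ofNat 2, Int.ofNat 0, Int.ofNat 2, Int.ofNat 0, Int.ofNat 2, Int.ofNat 0, Int.ofNat 0, Int.ofNat 0, Int.ofNat 0, Int.ofNat 0, Int.negSucc 1, Int.ofNat 0, Int.ofNat 0, Int.ofNat 0],
  [Int.ofNat 0, Int.ofNat 0, Int.ofNat 0, Int.negSucc 1, Int.ofNat 0, Int.ofNat 0, Int.ofNat 2, Int.negSucc 1, Int.ofNat 2, Int.ofNat 0, Int.negSucc 1, Int.ofNat 0, Int.ofNat 2, Int.ofNat 0, Int.ofNat 2, Int.ofNat 0, Int.ofNat 0, Int.ofNat 0, Int.ofNat 0, Int.ofNat 0, Int.negSucc 1, Int.ofNat 0, Int.ofNat 0, Int.ofNat 0],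
  [Int.ofNat 0, Int.ofNat 0, Int.ofNat 0, Int.ofNat 0, Int.negSucc 1, Int.ofNat 0, Int.ofNat 0, Int.ofNat 2, Int.negSucc 1, Int.ofNat 2, Int.ofNat 0, Int.negSucc 1, Int.ofNat 0, Int.ofNat 2, Int.ofNat 0, Int.ofNat 2, Int.ofNat 0, Int.ofNat 0, Int.ofNat 0, Int.ofNat 0, Int.ofNat 0, Int.negSucc 1, Int.ofNat 0, Int.ofNat 0],
  [Int.ofNat 0, Int.ofNat 0, Int.ofNat 0, Int.ofNat 0, Int.negSucc 1, Int.ofNat 0, Int.ofNat 0, Int.ofNat 2, Int.ofNat 0, Int.ofNat 0, Int.negSucc 1, Int.ofNat 0, Int.ofNat 2, Int.ofNat 2, Int.ofNat 0, Int.ofNat 0, Int.ofNat 0, Int.ofNat 0, Int.ofNat 2, Int.ofNat 0, Int.negSucc 1, Int.negSucc 1, Int.ofNat 0, Int.ofNat 0],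
  [Int.ofNat 0, Int.negSucc 1, Int.ofNat 0, Int.ofNat 0, Int.ofNat 2, Int.ofNat 0, Int.ofNat 0, Int.negSucc 1, Int.ofNat 0, Int.ofNat 2, Int.ofNat 2, Int.ofNat 0, Int.ofNat 0, Int.ofNat 0, Int.ofNat 0, Int.ofNat 2, Int.ofNat 0, Int.negSucc 1, Int.negSucc 1, Int.ofNat 0, Int.ofNat 0, Int.ofNat 0, Int.ofNat 0, Int.ofNat 0],
  [Int.negSucc 0, Int.ofNat 1, Int.negSucc 0, Int.ofNat 1, Int.ofNat 1, Int.ofNat 1, Int.ofNat 1, Int.negSucc 0, Int.ofNat 1, Int.negSucc 0, Int.negSucc 0, Int.ofNat 1, Int.ofNat 1, Int.negSucc 0, Int.ofNat 1, Int.negSucc 0, Int.negSucc 0, Int.negSucc 0, Int.negSucc 0, Int.ofNat 1, Int.negSucc 2, Int.ofNat 1, Int.negSucc 0, Int.negSucc 0],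
  [Int.negSucc 0, Int.ofNat 1, Int.ofNat 1, Int.ofNat 1, Int.negSucc 0, Int.negSucc 0, Int.negSucc 0, Int.negSucc 0, Int.ofNat 1, Int.negSucc 0, Int.negSucc 2, Int.negSucc 0, Int.negSucc 0, Int.negSucc 0, Int.negSucc 0, Int.negSucc 0, Int.ofNat 1, Int.ofNat 1, Int.ofNat 1, Int.ofNat 1, Int.ofNat 1, Int.ofNat 1, Int.ofNat 1, Int.negSucc 0],
  [Int.ofNat 1, Int.negSucc 0, Int.negSucc 0, Int.ofNat 1, Int.negSucc 0, Int.negSucc 0, Int.negSucc 0, Int.negSucc 0, Int.ofNat 1, Int.ofNat 1, Int.negSucc 0, Int.negSucc 0, Int.negSucc 0, Int.negSucc 0, Int.negSucc 0, Int.ofNat 1, Int.ofNat 1, Int.ofNat 1, Int.ofNat 1, Int.ofNat 1, Int.ofNat 3, Int.ofNat 1, Int.ofNat 1, Int.ofNat 1],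
  [Int.ofNat 1, Int.negSucc 0, Int.ofNat 1, Int.ofNat 1, Int.negSucc 0, Int.ofNat 1, Int.ofNat 1, Int.negSucc 0, Int.ofNat 1, Int.negSucc 0, Int.ofNat 1, Int.negSucc 0, Int.negSucc 0, Int.negSucc 0, Int.negSucc 0, Int.negSucc 0, Int.ofNat 1, Int.ofNat 1, Int.negSucc 0, Int.ofNat 1, Int.ofNat 3, Int.ofNat 1, Int.negSucc 0, Int.ofNat 1],
  [Int.ofNat 1, Int.ofNat 1, Int.ofNat 1, Int.ofNat 1, Int.negSucc 0, Int.negSucc 0, Int.ofNat 1, Int.ofNat 1, Int.negSucc 0, Int.negSucc 0, Int.ofNat 3, Int.negSucc 0, Int.ofNat 1, Int.ofNat 1, Int.negSucc 0, Int.negSucc 0, Int.negSucc 0, Int.ofNat 1, Int.ofNat 1, Int.negSucc 0, Int.negSucc 0, Int.negSucc 0, Int.ofNat 1, Int.ofNat 1],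
  [Int.ofNat 1, Int.ofNat 1, Int.negSucc 0, Int.ofNat 1, Int.negSucc 0, Int.ofNat 1, Int.negSucc 0, Int.ofNat 1, Int.negSucc 0, Int.ofNat 1, Int.negSucc 2, Int.negSucc 0, Int.ofNat 1, Int.ofNat 1, Int.negSucc 0, Int.ofNat 1, Int.negSucc 0, Int.ofNat 1, Int.negSucc 0, Int.negSucc 0, Int.negSucc 0, Int.negSucc 0, Int.negSucc 0, Int.ofNat 1],
  [Int.ofNat 0, Int.ofNat 0, Int.ofNat 2, Int.ofNat 0, Int.ofNat 0, Int.ofNat 0, Int.ofNat 0, Int.ofNat 2, Int.ofNat 0, Int.ofNat 2, Int.negSucc 1, Int.ofNat 0, Int.ofNat 2, Int.ofNat 2, Int.negSucc 1, Int.ofNat 2, Int.ofNat 0, Int.ofNat 0, Int.ofNat 0, Int.ofNat 0, Int.ofNat 0, Int.ofNat 0, Int.ofNat 0, Int.ofNat 0],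
  [Int.ofNat 0, Int.ofNat 0, Int.ofNat 0, Int.ofNat 0, Int.ofNat 2, Int.ofNat 0, Int.ofNat 0, Int.ofNat 0, Int.ofNat 0, Int.ofNat 2, Int.ofNat 2, Int.ofNat 0, Int.ofNat 0, Int.ofNat 2, Int.ofNat 0, Int.ofNat 2, Int.ofNat 2, Int.ofNat 0, Int.ofNat 0, Int.ofNat 0, Int.negSucc 1, Int.ofNat 0, Int.negSucc 1, Int.ofNat 0],
  [Int.ofNat 0, Int.ofNat 0, Int.ofNat 0, Int.ofNat 0, Int.ofNat 0, Int.ofNat 0, Int.ofNat 0, Int.ofNat 0, Int.ofNat 0, Int.ofNat 0, Int.ofNat 0, Int.ofNat 0, Int.ofNat 0, Int.ofNat 0, Int.ofNat 0, Int.ofNat 0, Int.ofNat 0, Int.ofNat 0, Int.ofNat 0, Int.ofNat 0, Int.negSucc 3, Int.ofNat 0, Int.negSucc 3, Int.ofNat 0],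
  [Int.negSucc 3, Int.ofNat 0, Int.negSucc 3, Int.ofNat 0, Int.ofNat 0, Int.ofNat 0, Int.ofNat 0, Int.ofNat 0, Int.ofNat 0, Int.ofNat 0, Int.ofNat 0, Int.ofNat 0, Int.ofNat 0, Int.ofNat 0, Int.ofNat 0, Int.ofNat 0, Int.ofNat 0, Int.ofNat 0, Int.ofNat 0, Int.ofNat 0, Int.ofNat 0, Int.ofNat 0, Int.ofNat 0, Int.ofNat 0],
  [Int.ofNat 0, Int.negSucc 3, Int.ofNat 0, Int.ofNat 0, Int.ofNat 0, Int.ofNat 0, Int.ofNat 0, Int.ofNat 0, Int.ofNat 0, Int.ofNat 0, Int.ofNat 0, Int.ofNat 0, Int.ofNat 0, Int.ofNat 0, Int.ofNat 0, Int.ofNat 0, Int.ofNat 0, Int.ofNat 0, Int.ofNat 0, Int.ofNat 0, Int.ofNat 0, Int.ofNat 0, Int.ofNat 0, Int.negSucc 3],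
  [Int.negSucc 3, Int.ofNat 0, Int.ofNat 0, Int.ofNat 0, Int.ofNat 0, Int.ofNat 0, Int.ofNat 0, Int.ofNat 0, Int.ofNat 0, Int.ofNat 0, Int.ofNat 0, Int.ofNat 0, Int.ofNat 0, Int.ofNat 0, Int.ofNat 0, Int.ofNat 0, Int.ofNat 0, Int.ofNat 0, Int.ofNat 0, Int.ofNat 0, Int.ofNat 0, Int.ofNat 0, Int.ofNat 0, Int.negSucc 3],
  [Int.ofNat 4, Int.ofNat 0, Int.ofNat 0, Int.ofNat 0, Int.ofNat 0, Int.ofNat 0, Int.ofNat 0, Int.ofNat 0, Int.ofNat 0, Int.ofNat 0, Int.ofNat 0, Int.ofNat 0, Int.ofNat 0, Int.ofNat 0, Int.ofNat 0, Int.ofNat 0, Int.ofNat 0, Int.ofNat 0, Int.ofNat 0, Int.ofNat 0, Int.ofNat 0, Int.ofNat 0, Int.ofNat 0, Int.negSucc 3],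
  [Int.negSucc 3, Int.ofNat 0, Int.ofNat 0, Int.ofNat 0, Int.ofNat 0, Int.ofNat 0, Int.ofNat 0, Int.ofNat 0, Int.ofNat 0, Int.ofNat 0, Int.ofNat 0, Int.ofNat 0, Int.ofNat 0, Int.ofNat 0, Int.ofNat 0, Int.ofNat 0, Int.ofNat 0, Int.ofNat 0, Int.ofNat 0, Int.ofNat 0, Int.ofNat 0, Int.ofNat 0, Int.ofNat 0, Int.negSucc 3],
  [Int.negSucc 3, Int.ofNat 0, Int.ofNat 0, Int.ofNat 0, Int.ofNat 0, Int.ofNat 0, Int.ofNat 0, Int.ofNat 0, Int.ofNat 0, Int.ofNat 0, Int.ofNat 0, Int.ofNat 0, Int.ofNat 0, Int.ofNat 0, Int.ofNat 0, Int.ofNat 0, Int.ofNat 0, Int.ofNat 0, Int.ofNat 0, Int.ofNat 0, Int.ofNat 0, Int.ofNat 0, Int.ofNat 0, Int.negSucc 3],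
  [Int.ofNat 4, Int.ofNat 0, Int.ofNat 0, Int.ofNat 0, Int.ofNat 0, Int.ofNat 0, Int.ofNat 0, Int.ofNat 0, Int.ofNat 0, Int.ofNat 0, Int.ofNat 0, Int.ofNat 0, Int.ofNat 0, Int.ofNat 0, Int.ofNat 0, Int.ofNat 0, Int.ofNat 0, Int.ofNat 0, Int.ofNat 0, Int.ofNat 0, Int.ofNat 0, Int.ofNat 0, Int.ofNat 0, Int.negSucc 3],
  [Int.ofNat 0, Int.ofNat 4, Int.ofNat 0, Int.ofNat 0, Int.ofNat 0, Int.ofNat 0, Int.ofNat 0, Int.ofNat 0, Int.ofNat 0, Int.ofNat 0, Int.ofNat 0, Int.ofNat 0, Int.ofNat 0, Int.ofNat 0, Int.ofNat 0, Int.ofNat 0, Int.ofNat 0, Int.ofNat 0, Int.ofNat 0, Int.ofNat 0, Int.ofNat 0, Int.ofNat 0, Int.ofNat 0, Int.negSucc 3],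
  [Int.ofNat 0, Int.negSucc 3, Int.ofNat 0, Int.ofNat 0, Int.ofNat 0, Int.ofNat 0, Int.ofNat 0, Int.ofNat 0, Int.ofNat 0, Int.ofNat 0, Int.ofNat 0, Int.ofNat 0, Int.ofNat 0, Int.ofNat 0, Int.ofNat 0, Int.ofNat 0, Int.ofNat 0, Int.ofNat 0, Int.ofNat 0, Int.ofNat 0, Int.ofNat 0, Int.ofNat 0, Int.ofNat 0, Int.ofNat 4],
  [Int.ofNat 0, Int.ofNat 0, Int.ofNat 0, Int.ofNat 0, Int.ofNat 0, Int.ofNat 0, Int.ofNat 0, Int.ofNat 0, Int.ofNat 0, Int.ofNat 0, Int.ofNat 0, Int.ofNat 0, Int.ofNat 0, Int.ofNat 0, Int.ofNat 0, Int.ofNat 0, Int.ofNat 0, Int.ofNat 0, Int.ofNat 0, Int.ofNat 0, Int.ofNat 0, Int.negSucc 3, Int.ofNat 0, Int.ofNat 4],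
  [Int.ofNat 2, Int.ofNat 2, Int.ofNat 2, Int.ofNat 0, Int.ofNat 0, Int.ofNat 0, Int.ofNat 2, Int.ofNat 2, Int.ofNat 0, Int.ofNat 0, Int.ofNat 0, Int.ofNat 0, Int.ofNat 0, Int.ofNat 0, Int.ofNat 0, Int.ofNat 0, Int.ofNat 0, Int.ofNat 0, Int.ofNat 0, Int.ofNat 2, Int.ofNat 0, Int.negSucc 1, Int.ofNat 0, Int.negSucc 1],
  [Int.ofNat 2, Int.ofNat 2, Int.ofNat 0, Int.ofNat 0, Int.ofNat 0, Int.ofNat 2, Int.ofNat 2, Int.ofNat 0, Int.ofNat 0, Int.ofNat 0, Int.ofNat 0, Int.ofNat 0, Int.ofNat 0, Int.ofNat 0, Int.ofNat 0, Int.ofNat 0, Int.ofNat 0, Int.ofNat 0, Int.ofNat 2, Int.ofNat 0, Int.negSucc 1, Int.ofNat 0, Int.ofNat 2, Int.negSucc 1],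
  [Int.negSucc 0, Int.negSucc 0, Int.ofNat 1, Int.negSucc 0, Int.negSucc 0, Int.ofNat 1, Int.ofNat 1, Int.negSucc 0, Int.negSucc 0, Int.ofNat 1, Int.ofNat 1, Int.negSucc 0, Int.negSucc 0, Int.negSucc 0, Int.negSucc 0, Int.ofNat 1, Int.negSucc 0, Int.negSucc 0, Int.ofNat 1, Int.negSucc 0, Int.negSucc 0, Int.negSucc 0, Int.ofNat 1, Int.ofNat 3],
  [Int.negSucc 0, Int.negSucc 0, Int.negSucc 0, Int.negSucc 0, Int.negSucc 0, Int.negSucc 0, Int.negSucc 0, Int.negSucc 0, Int.negSucc 0, Int.negSucc 0, Int.negSucc 0, Int.negSucc 0, Int.negSucc 0, Int.negSucc 0, Int.negSucc 0, Int.negSucc 0, Int.negSucc 0, Int.negSucc 0, Int.negSucc 0, Int.negSucc 0, Int.negSucc 0, Int.negSucc 0, Int.negSucc 0, Int.ofNat 3],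
  [Int.negSucc 0, Int.negSucc 0, Int.negSucc 0, Int.negSucc 0, Int.negSucc 0, Int.negSucc 0, Int.negSucc 0, Int.negSucc 0, Int.negSucc 0, Int.negSucc 0, Int.negSucc 0, Int.negSucc 0, Int.negSucc 0, Int.negSucc 0, Int.negSucc 0, Int.negSucc 0, Int.negSucc 0, Int.negSucc 0, Int.negSucc 0, Int.negSucc 0, Int.negSucc 0, Int.negSucc 0, Int.negSucc 0, Int.ofNat 3],
  [Int.ofNat 3, Int.negSucc 0, Int.negSucc 0, Int.negSucc 0, Int.negSucc 0, Int.negSucc 0, Int.negSucc 0, Int.negSucc 0, Int.negSucc 0, Int.negSucc 0, Int.negSucc 0, Int.negSucc 0, Int.negSucc 0, Int.negSucc 0, Int.negSucc 0, Int.negSucc 0, Int.negSucc 0, Int.negSucc 0, Int.negSucc 0, Int.negSucc 0, Int.negSucc 0, Int.negSucc 0, Int.negSucc 0, Int.negSucc 0],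
  [Int.negSucc 2, Int.negSucc 0, Int.ofNat 1, Int.negSucc 0, Int.negSucc 0, Int.negSucc 0, Int.negSucc 0, Int.ofNat 1, Int.negSucc 0, Int.ofNat 1, Int.ofNat 1, Int.ofNat 1, Int.negSucc 0, Int.negSucc 0, Int.negSucc 0, Int.negSucc 0, Int.negSucc 0, Int.negSucc 0, Int.ofNat 1, Int.negSucc 0, Int.negSucc 0, Int.ofNat 1, Int.negSucc 0, Int.negSucc 0],
  [Int.negSucc 0, Int.negSucc 2, Int.negSucc 0, Int.ofNat 1, Int.negSucc 0, Int.negSucc 0, Int.negSucc 0, Int.negSucc 0, Int.ofNat 1, Int.negSucc 0, Int.ofNat 1, Int.ofNat 1, Int.ofNat 1, Int.negSucc 0, Int.negSucc 0, Int.negSucc 0, Int.negSucc 0, Int.negSucc 0, Int.negSucc 0, Int.ofNat 1, Int.negSucc 0, Int.negSucc 0, Int.ofNat 1, Int.negSucc 0],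
  [Int.negSucc 1, Int.ofNat 0, Int.negSucc 1, Int.ofNat 2, Int.ofNat 0, Int.ofNat 0, Int.ofNat 0, Int.ofNat 0, Int.ofNat 0, Int.ofNat 0, Int.ofNat 2, Int.ofNat 0, Int.ofNat 0, Int.ofNat 0, Int.ofNat 0, Int.ofNat 0, Int.ofNat 0, Int.ofNat 0, Int.negSucc 1, Int.ofNat 2, Int.ofNat 0, Int.ofNat 0, Int.ofNat 2, Int.negSucc 1],
  [Int.ofNat 2, Int.ofNat 0, Int.ofNat 0, Int.ofNat 0, Int.ofNat 0, Int.ofNat 0, Int.ofNat 0, Int.ofNat 2, Int.ofNat 0, Int.ofNat 0, Int.ofNat 0, Int.ofNat 0, Int.ofNat 0, Int.ofNat 0, Int.ofNat 0, Int.negSucc 1, Int.ofNat 2, Int.ofNat 0, Int.ofNat 0, Int.ofNat 2, Int.negSucc 1, Int.ofNat 0, Int.negSucc 1, Int.negSucc 1],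
  [Int.negSucc 1, Int.ofNat 0, Int.ofNat 0, Int.ofNat 0, Int.ofNat 0, Int.ofNat 0, Int.negSucc 1, Int.ofNat 0, Int.ofNat 0, Int.ofNat 2, Int.ofNat 2, Int.ofNat 0, Int.ofNat 0, Int.ofNat 0, Int.ofNat 0, Int.ofNat 0, Int.ofNat 2, Int.ofNat 0, Int.ofNat 0, Int.ofNat 0, Int.ofNat 0, Int.negSucc 1, Int.negSucc 1, Int.ofNat 2],
  [Int.negSucc 1, Int.negSucc 1, Int.ofNat 0, Int.ofNat 0, Int.ofNat 0, Int.ofNat 0, Int.ofNat 0, Int.ofNat 2, Int.ofNat 0, Int.ofNat 0, Int.ofNat 0, Int.ofNat 0, Int.ofNat 2, Int.ofNat 2, Int.negSucc 1, Int.ofNat 0, Int.ofNat 0, Int.ofNat 0, Int.ofNat 0, Int.ofNat 0, Int.negSucc 1, Int.ofNat 0, Int.ofNat 0, Int.ofNat 2],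
  [Int.ofNat 1, Int.ofNat 1, Int.negSucc 0, Int.ofNat 1, Int.negSucc 0, Int.ofNat 1, Int.negSucc 0, Int.ofNat 1, Int.negSucc 0, Int.ofNat 1, Int.ofNat 1, Int.negSucc 0, Int.ofNat 1, Int.ofNat 1, Int.negSucc 0, Int.ofNat 1, Int.negSucc 0, Int.ofNat 1, Int.negSucc 0, Int.negSucc 0, Int.negSucc 0, Int.negSucc 0, Int.negSucc 0, Int.negSucc 2],
  [Int.ofNat 1, Int.ofNat 1, Int.ofNat 1, Int.ofNat 1, Int.negSucc 0, Int.negSucc 0, Int.ofNat 1, Int.ofNat 1, Int.negSucc 0, Int.negSucc 0, Int.negSucc 0, Int.negSucc 0, Int.ofNat 1, Int.ofNat 1, Int.negSucc 0, Int.negSucc 0, Int.negSucc 0, Int.ofNat 1, Int.ofNat 1, Int.negSucc 0, Int.negSucc 0, Int.negSucc 0, Int.ofNat 1, Int.negSucc 2],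
  [Int.negSucc 0, Int.ofNat 1, Int.ofNat 1, Int.negSucc 0, Int.ofNat 1, Int.ofNat 1, Int.ofNat 1, Int.ofNat 1, Int.negSucc 0, Int.negSucc 0, Int.negSucc 0, Int.ofNat 1, Int.negSucc 0, Int.ofNat 1, Int.negSucc 0, Int.ofNat 1, Int.ofNat 1, Int.negSucc 0, Int.negSucc 0, Int.negSucc 0, Int.negSucc 0, Int.ofNat 1, Int.negSucc 0, Int.negSucc 2],
  [Int.negSucc 0, Int.ofNat 1, Int.negSucc 0, Int.negSucc 0, Int.ofNat 1, Int.negSucc 0, Int.negSucc 0, Int.ofNat 1, Int.negSucc 0, Int.ofNat 1, Int.ofNat 1, Int.ofNat 1, Int.negSucc 0, Int.ofNat 1, Int.negSucc 0, Int.negSucc 0, Int.ofNat 1, Int.negSucc 0, Int.ofNat 1, Int.negSucc 0, Int.negSucc 0, Int.ofNat 1, Int.ofNat 1, Int.negSucc 2],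
  [Int.negSucc 0, Int.negSucc 2, Int.negSucc 0, Int.ofNat 1, Int.negSucc 0, Int.ofNat 1, Int.negSucc 0, Int.ofNat 1, Int.negSucc 0, Int.ofNat 1, Int.ofNat 1, Int.ofNat 1, Int.negSucc 0, Int.negSucc 0, Int.ofNat 1, Int.negSucc 0, Int.negSucc 0, Int.ofNat 1, Int.ofNat 1, Int.negSucc 0, Int.negSucc 0, Int.ofNat 1, Int.negSucc 0, Int.ofNat 1],
  [Int.negSucc 0, Int.ofNat 1, Int.negSucc 0, Int.ofNat 1, Int.negSucc 0, Int.ofNat 1, Int.negSucc 2, Int.ofNat 1, Int.negSucc 0, Int.negSucc 0, Int.ofNat 1, Int.negSucc 0, Int.negSucc 0, Int.ofNat 1, Int.ofNat 1, Int.negSucc 0, Int.negSucc 0, Int.ofNat 1, Int.negSucc 0, Int.negSucc 0, Int.ofNat 1, Int.negSucc 0, Int.ofNat 1, Int.ofNat 1],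
  [Int.ofNat 1, Int.negSucc 0, Int.ofNat 1, Int.negSucc 0, Int.negSucc 0, Int.negSucc 0, Int.negSucc 0, Int.ofNat 3, Int.ofNat 1, Int.negSucc 0, Int.ofNat 1, Int.ofNat 1, Int.ofNat 1, Int.ofNat 1, Int.negSucc 0, Int.negSucc 0, Int.negSucc 0, Int.negSucc 0, Int.ofNat 1, Int.ofNat 1, Int.ofNat 1, Int.ofNat 1, Int.ofNat 1, Int.negSucc 0],
  [Int.ofNat 1, Int.ofNat 1, Int.ofNat 1, Int.ofNat 1, Int.negSucc 0, Int.ofNat 1, Int.negSucc 0, Int.negSucc 0, Int.negSucc 0, Int.negSucc 0, Int.ofNat 3, Int.ofNat 1, Int.negSucc 0, Int.ofNat 1, Int.ofNat 1, Int.ofNat 1, Int.ofNat 1, Int.negSucc 0, Int.negSucc 0, Int.negSucc 0, Int.negSucc 0, Int.ofNat 1, Int.ofNat 1, Int.negSucc 0],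
  [Int.ofNat 0, Int.ofNat 0, Int.ofNat 0, Int.ofNat 0, Int.negSucc 1, Int.ofNat 0, Int.ofNat 0, Int.ofNat 0, Int.ofNat 0, Int.negSucc 1, Int.ofNat 2, Int.ofNat 2, Int.ofNat 0, Int.ofNat 0, Int.ofNat 0, Int.ofNat 0, Int.ofNat 0, Int.negSucc 1, Int.ofNat 0, Int.ofNat 0, Int.negSucc 1, Int.ofNat 2, Int.ofNat 0, Int.ofNat 2],
  [Int.ofNat 0, Int.ofNat 0, Int.ofNat 0, Int.negSucc 1, Int.ofNat 0, Int.ofNat 0, Int.ofNat 0, Int.ofNat 0, Int.negSucc 1, Int.ofNat 2, Int.ofNat 2, Int.ofNat 0, Int.ofNat 0, Int.ofNat 0, Int.ofNat 0, Int.ofNat 0, Int.negSucc 1, Int.ofNat 0, Int.ofNat 0, Int.negSucc 1, Int.ofNat 2, Int.ofNat 0, Int.ofNat 0, Int.ofNat 2],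
  [Int.ofNat 0, Int.ofNat 0, Int.ofNat 0, Int.negSucc 1, Int.ofNat 0, Int.ofNat 0, Int.ofNat 0, Int.ofNat 0, Int.negSucc 1, Int.negSucc 1, Int.negSucc 1, Int.ofNat 0, Int.ofNat 0, Int.ofNat 0, Int.ofNat 0, Int.ofNat 0, Int.negSucc 1, Int.ofNat 0, Int.ofNat 0, Int.negSucc 1, Int.ofNat 2, Int.ofNat 0, Int.ofNat 0, Int.ofNat 2],
  [Int.ofNat 0, Int.ofNat 0, Int.ofNat 0, Int.ofNat 2, Int.ofNat 0, Int.ofNat 0, Int.ofNat 0, Int.ofNat 0, Int.ofNat 2, Int.ofNat 2, Int.negSucc 1, Int.ofNat 0, Int.ofNat 0, Int.ofNat 0, Int.ofNat 0, Int.ofNat 0, Int.ofNat 2, Int.ofNat 0, Int.ofNat 0, Int.negSucc 1, Int.ofNat 2, Int.ofNat 0, Int.ofNat 0, Int.ofNat 2],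
  [Int.ofNat 0, Int.ofNat 0, Int.ofNat 0, Int.ofNat 2, Int.ofNat 0, Int.negSucc 1, Int.ofNat 0, Int.ofNat 2, Int.ofNat 2, Int.ofNat 2, Int.ofNat 0, Int.ofNat 0, Int.ofNat 0, Int.ofNat 2, Int.negSucc 1, Int.ofNat 0, Int.ofNat 0, Int.ofNat 0, Int.ofNat 0, Int.ofNat 0, Int.ofNat 0, Int.ofNat 0, Int.ofNat 0, Int.ofNat 2],
  [Int.ofNat 0, Int.ofNat 0, Int.ofNat 0, Int.ofNat 2, Int.ofNat 0, Int.negSucc 1, Int.ofNat 0, Int.negSucc 1, Int.ofNat 2, Int.negSucc 1, Int.ofNat 0, Int.ofNat 0, Int.ofNat 0, Int.ofNat 2, Int.negSucc 1, Int.ofNat 0, Int.ofNat 0, Int.ofNat 0, Int.ofNat 0, Int.ofNat 0, Int.ofNat 0, Int.ofNat 0, Int.ofNat 0, Int.ofNat 2],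
  [Int.ofNat 0, Int.ofNat 0, Int.ofNat 0, Int.ofNat 0, Int.ofNat 2, Int.ofNat 0, Int.negSucc 1, Int.ofNat 0, Int.negSucc 1, Int.ofNat 2, Int.negSucc 1, Int.ofNat 0, Int.ofNat 0, Int.ofNat 0, Int.ofNat 2, Int.negSucc 1, Int.ofNat 0, Int.ofNat 0, Int.ofNat 0, Int.ofNat 0, Int.ofNat 0, Int.ofNat 0, Int.ofNat 0, Int.ofNat 2],
  [Int.ofNat 1, Int.ofNat 1, Int.ofNat 1, Int.negSucc 0, Int.ofNat 1, Int.negSucc 0, Int.negSucc 0, Int.ofNat 1, Int.negSucc 0, Int.ofNat 3, Int.negSucc 0, Int.ofNat 1, Int.ofNat 1, Int.negSucc 0, Int.ofNat 1, Int.negSucc 0, Int.negSucc 0, Int.negSucc 0, Int.ofNat 1, Int.ofNat 1, Int.ofNat 1, Int.ofNat 1, Int.negSucc 0, Int.negSucc 0],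
  [Int.negSucc 0, Int.ofNat 1, Int.negSucc 0, Int.negSucc 0, Int.ofNat 1, Int.negSucc 0, Int.ofNat 3, Int.negSucc 0, Int.ofNat 1, Int.ofNat 1, Int.negSucc 0, Int.ofNat 1, Int.negSucc 0, Int.negSucc 0, Int.negSucc 0, Int.ofNat 1, Int.ofNat 1, Int.ofNat 1, Int.ofNat 1, Int.negSucc 0, Int.ofNat 1, Int.ofNat 1, Int.ofNat 1, Int.negSucc 0],
  [Int.ofNat 0, Int.negSucc 1, Int.ofNat 0, Int.ofNat 0, Int.ofNat 0, Int.ofNat 0, Int.ofNat 2, Int.negSucc 1, Int.ofNat 0, Int.ofNat 0, Int.negSucc 1, Int.ofNat 0, Int.negSucc 1, Int.negSucc 1, Int.ofNat 0, Int.ofNat 0, Int.ofNat 0, Int.ofNat 2, Int.ofNat 0, Int.negSucc 1, Int.ofNat 0, Int.ofNat 0, Int.ofNat 0, Int.ofNat 0],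
  [Int.ofNat 0, Int.ofNat 2, Int.ofNat 0, Int.ofNat 0, Int.ofNat 0, Int.negSucc 1, Int.ofNat 0, Int.negSucc 1, Int.negSucc 1, Int.negSucc 1, Int.ofNat 0, Int.ofNat 2, Int.ofNat 0, Int.ofNat 0, Int.ofNat 0, Int.ofNat 0, Int.ofNat 0, Int.ofNat 0, Int.negSucc 1, Int.ofNat 0, Int.ofNat 0, Int.ofNat 0, Int.negSucc 1, Int.ofNat 0],
  [Int.ofNat 1, Int.negSucc 0, Int.ofNat 1, Int.ofNat 1, Int.ofNat 1, Int.negSucc 0, Int.ofNat 1, Int.negSucc 0, Int.negSucc 0, Int.negSucc 0, Int.ofNat 1, Int.ofNat 3, Int.ofNat 1, Int.ofNat 1, Int.ofNat 1, Int.ofNat 1, Int.ofNat 1, Int.ofNat 1, Int.negSucc 0, Int.ofNat 1, Int.ofNat 1, Int.ofNat 1, Int.negSucc 0, Int.ofNat 1],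
  [Int.ofNat 1, Int.negSucc 0, Int.negSucc 0, Int.ofNat 1, Int.ofNat 1, Int.ofNat 1, Int.negSucc 0, Int.negSucc 0, Int.negSucc 0, Int.ofNat 1, Int.negSucc 0, Int.ofNat 3, Int.ofNat 1, Int.ofNat 1, Int.ofNat 1, Int.negSucc 0, Int.ofNat 1, Int.ofNat 1, Int.ofNat 1, Int.ofNat 1, Int.ofNat 1, Int.ofNat 1, Int.ofNat 1, Int.ofNat 1],
  [Int.negSucc 0, Int.ofNat 1, Int.ofNat 3, Int.negSucc 0, Int.ofNat 1, Int.negSucc 0, Int.ofNat 1, Int.ofNat 1, Int.ofNat 1, Int.ofNat 1, Int.ofNat 1, Int.negSucc 0, Int.negSucc 0, Int.ofNat 1, Int.ofNat 1, Int.ofNat 1, Int.ofNat 1, Int.ofNat 1, Int.ofNat 1, Int.negSucc 0, Int.ofNat 1, Int.negSucc 0, Int.ofNat 1, Int.ofNat 1],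
  [Int.ofNat 1, Int.ofNat 1, Int.negSucc 0, Int.ofNat 1, Int.ofNat 1, Int.ofNat 1, Int.negSucc 0, Int.ofNat 1, Int.ofNat 1, Int.negSucc 0, Int.ofNat 1, Int.ofNat 3, Int.negSucc 0, Int.ofNat 1, Int.ofNat 1, Int.negSucc 0, Int.ofNat 1, Int.ofNat 1, Int.ofNat 1, Int.ofNat 1, Int.ofNat 1, Int.negSucc 0, Int.ofNat 1, Int.negSucc 0],
  [Int.negSucc 0, Int.ofNat 1, Int.ofNat 1, Int.ofNat 1, Int.ofNat 1, Int.ofNat 1, Int.negSucc 0, Int.negSucc 0, Int.ofNat 1, Int.ofNat 1, Int.negSucc 0, Int.negSucc 2, Int.negSucc 0, Int.ofNat 1, Int.ofNat 1, Int.negSucc 0, Int.ofNat 1, Int.ofNat 1, Int.negSucc 0, Int.ofNat 1, Int.ofNat 1, Int.ofNat 1, Int.ofNat 1, Int.negSucc 0],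
  [Int.ofNat 1, Int.negSucc 0, Int.ofNat 1, Int.ofNat 1, Int.ofNat 1, Int.ofNat 1, Int.ofNat 1, Int.negSucc 0, Int.negSucc 0, Int.ofNat 1, Int.ofNat 1, Int.negSucc 0, Int.negSucc 2, Int.negSucc 0, Int.ofNat 1, Int.ofNat 1, Int.negSucc 0, Int.ofNat 1, Int.ofNat 1, Int.negSucc 0, Int.ofNat 1, Int.ofNat 1, Int.ofNat 1, Int.negSucc 0],
  [Int.negSucc 0, Int.ofNat 1, Int.negSucc 0, Int.negSucc 0, Int.ofNat 1, Int.negSucc 0, Int.ofNat 1, Int.negSucc 0, Int.ofNat 1, Int.negSucc 0, Int.negSucc 0, Int.ofNat 1, Int.negSucc 0, Int.negSucc 0, Int.negSucc 0, Int.negSucc 0, Int.negSucc 0, Int.negSucc 0, Int.ofNat 3, Int.negSucc 0, Int.negSucc 0, Int.ofNat 1, Int.ofNat 1, Int.ofNat 1],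
  [Int.negSucc 0, Int.ofNat 1, Int.negSucc 0, Int.ofNat 1, Int.negSucc 0, Int.ofNat 1, Int.negSucc 0, Int.negSucc 0, Int.ofNat 1, Int.negSucc 0, Int.negSucc 0, Int.negSucc 0, Int.negSucc 0, Int.negSucc 0, Int.negSucc 0, Int.ofNat 3, Int.negSucc 0, Int.negSucc 0, Int.ofNat 1, Int.ofNat 1, Int.negSucc 0, Int.ofNat 1, Int.negSucc 0, Int.ofNat 1],
  [Int.ofNat 1, Int.negSucc 0, Int.ofNat 1, Int.ofNat 1, Int.ofNat 1, Int.ofNat 1, Int.negSucc 0, Int.negSucc 0, Int.ofNat 1, Int.negSucc 0, Int.negSucc 0, Int.negSucc 0, Int.negSucc 0, Int.ofNat 1, Int.negSucc 0, Int.ofNat 3, Int.ofNat 1, Int.negSucc 0, Int.ofNat 1, Int.ofNat 1, Int.negSucc 0, Int.ofNat 1, Int.ofNat 1, Int.negSucc 0],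
  [Int.ofNat 1, Int.negSucc 0, Int.ofNat 1, Int.ofNat 1, Int.ofNat 1, Int.negSucc 0, Int.ofNat 1, Int.negSucc 0, Int.negSucc 0, Int.ofNat 1, Int.negSucc 0, Int.negSucc 0, Int.negSucc 0, Int.ofNat 1, Int.ofNat 1, Int.ofNat 3, Int.ofNat 1, Int.negSucc 0, Int.negSucc 0, Int.negSucc 0, Int.ofNat 1, Int.ofNat 1, Int.ofNat 1, Int.negSucc 0],
  [Int.negSucc 0, Int.ofNat 1, Int.negSucc 0, Int.ofNat 1, Int.negSucc 0, Int.negSucc 0, Int.ofNat 1, Int.negSucc 0, Int.ofNat 1, Int.negSucc 0, Int.negSucc 2, Int.ofNat 1, Int.ofNat 1, Int.negSucc 0, Int.ofNat 1, Int.ofNat 1, Int.negSucc 0, Int.negSucc 0, Int.ofNat 1, Int.negSucc 0, Int.negSucc 0, Int.ofNat 1, Int.negSucc 0, Int.ofNat 1],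
  [Int.negSucc 0, Int.ofNat 1, Int.ofNat 1, Int.ofNat 1, Int.negSucc 0, Int.ofNat 1, Int.negSucc 0, Int.negSucc 0, Int.ofNat 1, Int.ofNat 1, Int.ofNat 3, Int.ofNat 1, Int.ofNat 1, Int.negSucc 0, Int.ofNat 1, Int.negSucc 0, Int.negSucc 0, Int.negSucc 0, Int.negSucc 0, Int.negSucc 0, Int.negSucc 0, Int.ofNat 1, Int.ofNat 1, Int.ofNat 1],
  [Int.ofNat 1, Int.ofNat 1, Int.negSucc 0, Int.negSucc 0, Int.ofNat 1, Int.ofNat 1, Int.negSucc 0, Int.negSucc 0, Int.negSucc 0, Int.ofNat 1, Int.negSucc 0, Int.negSucc 0, Int.ofNat 1, Int.ofNat 1, Int.negSucc 0, Int.ofNat 1, Int.negSucc 0, Int.ofNat 3, Int.negSucc 0, Int.ofNat 1, Int.ofNat 1, Int.negSucc 0, Int.ofNat 1, Int.ofNat 1],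
  [Int.ofNat 1, Int.ofNat 1, Int.ofNat 1, Int.negSucc 0, Int.ofNat 1, Int.negSucc 0, Int.ofNat 1, Int.negSucc 0, Int.negSucc 0, Int.negSucc 0, Int.ofNat 1, Int.negSucc 0, Int.ofNat 1, Int.ofNat 1, Int.negSucc 0, Int.negSucc 0, Int.negSucc 0, Int.ofNat 3, Int.ofNat 1, Int.ofNat 1, Int.ofNat 1, Int.negSucc 0, Int.negSucc 0, Int.ofNat 1],
  [Int.ofNat 1, Int.ofNat 1, Int.ofNat 1, Int.negSucc 0, Int.ofNat 1, Int.negSucc 0, Int.ofNat 1, Int.negSucc 0, Int.negSucc 0, Int.negSucc 0, Int.ofNat 1, Int.negSucc 0, Int.ofNat 1, Int.ofNat 1, Int.negSucc 0, Int.negSucc 0, Int.negSucc 0, Int.ofNat 3, Int.ofNat 1, Int.ofNat 1, Int.ofNat 1, Int.negSucc 0, Int.negSucc 0, Int.ofNat 1],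
  [Int.ofNat 1, Int.ofNat 1, Int.ofNat 1, Int.negSucc 0, Int.ofNat 1, Int.negSucc 0, Int.ofNat 1, Int.negSucc 0, Int.negSucc 0, Int.ofNat 1, Int.negSucc 0, Int.ofNat 1, Int.negSucc 0, Int.negSucc 0, Int.ofNat 3, Int.negSucc 0, Int.ofNat 1, Int.negSucc 0, Int.ofNat 1, Int.negSucc 0, Int.ofNat 1, Int.ofNat 1, Int.negSucc 0, Int.ofNat 1],
  [Int.ofNat 1, Int.ofNat 1, Int.ofNat 1, Int.negSucc 0, Int.ofNat 1, Int.negSucc 0, Int.ofNat 1, Int.negSucc 0, Int.negSucc 0, Int.ofNat 1, Int.negSucc 0, Int.ofNat 1, Int.negSucc 0, Int.negSucc 0, Int.ofNat 3, Int.negSucc 0, Int.ofNat 1, Int.negSucc 0, Int.ofNat 1, Int.negSucc 0, Int.ofNat 1, Int.ofNat 1, Int.negSucc 0, Int.ofNat 1],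
  [Int.ofNat 1, Int.ofNat 1, Int.negSucc 0, Int.ofNat 1, Int.ofNat 1, Int.ofNat 1, Int.negSucc 0, Int.ofNat 1, Int.negSucc 0, Int.ofNat 1, Int.negSucc 0, Int.negSucc 0, Int.ofNat 1, Int.negSucc 0, Int.ofNat 1, Int.negSucc 0, Int.negSucc 0, Int.ofNat 3, Int.negSucc 0, Int.ofNat 1, Int.negSucc 0, Int.ofNat 1, Int.negSucc 0, Int.ofNat 1],
  [Int.ofNat 0, Int.ofNat 0, Int.ofNat 2, Int.negSucc 1, Int.ofNat 2, Int.negSucc 1, Int.negSucc 1, Int.ofNat 0, Int.ofNat 0, Int.ofNat 2, Int.ofNat 0, Int.ofNat 0, Int.ofNat 2, Int.ofNat 0, Int.negSucc 1, Int.ofNat 0, Int.ofNat 0, Int.ofNat 0, Int.ofNat 0, Int.ofNat 0, Int.ofNat 0, Int.ofNat 0, Int.ofNat 0, Int.ofNat 0],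
  [Int.ofNat 0, Int.ofNat 2, Int.negSucc 1, Int.ofNat 2, Int.negSucc 1, Int.negSucc 1, Int.ofNat 0, Int.ofNat 0, Int.ofNat 2, Int.ofNat 0, Int.ofNat 0, Int.ofNat 2, Int.ofNat 0, Int.negSucc 1, Int.ofNat 0, Int.ofNat 0, Int.ofNat 0, Int.ofNat 0, Int.ofNat 0, Int.ofNat 0, Int.ofNat 0, Int.ofNat 0, Int.ofNat 0, Int.ofNat 0],
  [Int.ofNat 0, Int.ofNat 2, Int.ofNat 2, Int.ofNat 2, Int.negSucc 1, Int.negSucc 1, Int.ofNat 0, Int.ofNat 0, Int.ofNat 2, Int.ofNat 0, Int.ofNat 0, Int.negSucc 1, Int.ofNat 0, Int.negSucc 1, Int.ofNat 0, Int.ofNat 0, Int.ofNat 0, Int.ofNat 0, Int.ofNat 0, Int.ofNat 0, Int.ofNat 0, Int.ofNat 0, Int.ofNat 0, Int.ofNat 0],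
  [Int.ofNat 0, Int.negSucc 1, Int.negSucc 1, Int.negSucc 1, Int.ofNat 2, Int.negSucc 1, Int.ofNat 0, Int.ofNat 0, Int.negSucc 1, Int.ofNat 0, Int.ofNat 0, Int.negSucc 1, Int.ofNat 0, Int.ofNat 2, Int.ofNat 0, Int.ofNat 0, Int.ofNat 0, Int.ofNat 0, Int.ofNat 0, Int.ofNat 0, Int.ofNat 0, Int.ofNat 0, Int.ofNat 0, Int.ofNat 0],
  [Int.ofNat 0, Int.negSucc 1, Int.ofNat 0, Int.negSucc 1, Int.negSucc 1, Int.ofNat 0, Int.ofNat 2, Int.ofNat 0, Int.ofNat 0, Int.ofNat 0, Int.ofNat 0, Int.ofNat 0, Int.ofNat 2, Int.negSucc 1, Int.ofNat 0, Int.ofNat 0, Int.ofNat 0, Int.ofNat 0, Int.ofNat 0, Int.ofNat 0, Int.negSucc 1, Int.ofNat 0, Int.negSucc 1, Int.ofNat 0],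
  [Int.ofNat 0, Int.negSucc 1, Int.ofNat 0, Int.negSucc 1, Int.negSucc 1, Int.ofNat 0, Int.ofNat 2, Int.ofNat 0, Int.ofNat 0, Int.ofNat 0, Int.ofNat 0, Int.ofNat 0, Int.ofNat 2, Int.negSucc 1, Int.ofNat 0, Int.ofNat 0, Int.ofNat 0, Int.ofNat 0, Int.ofNat 0, Int.ofNat 0, Int.negSucc 1, Int.ofNat 0, Int.negSucc 1, Int.ofNat 0],
  [Int.negSucc 1, Int.ofNat 0, Int.negSucc 1, Int.ofNat 0, Int.negSucc 1, Int.negSucc 1, Int.ofNat 0, Int.ofNat 2, Int.ofNat 0, Int.ofNat 0, Int.ofNat 0, Int.ofNat 0, Int.ofNat 0, Int.ofNat 2, Int.negSucc 1, Int.ofNat 0, Int.ofNat 0, Int.ofNat 0, Int.ofNat 0, Int.ofNat 0, Int.ofNat 0, Int.negSucc 1, Int.ofNat 0, Int.ofNat 0],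
  [Int.ofNat 0, Int.negSucc 1, Int.ofNat 0, Int.ofNat 2, Int.negSucc 1, Int.ofNat 0, Int.ofNat 0, Int.ofNat 2, Int.ofNat 0, Int.ofNat 0, Int.ofNat 0, Int.ofNat 0, Int.ofNat 0, Int.ofNat 2, Int.ofNat 0, Int.ofNat 0, Int.ofNat 0, Int.ofNat 2, Int.ofNat 0, Int.ofNat 0, Int.ofNat 0, Int.negSucc 1, Int.ofNat 0, Int.negSucc 1],
  [Int.ofNat 2, Int.negSucc 1, Int.ofNat 0, Int.ofNat 0, Int.ofNat 2, Int.ofNat 0, Int.ofNat 0, Int.ofNat 0, Int.ofNat 0, Int.ofNat 0, Int.ofNat 2, Int.ofNat 0, Int.ofNat 0, Int.ofNat 0, Int.ofNat 2, Int.ofNat 0, Int.ofNat 0, Int.ofNat 0, Int.negSucc 1, Int.ofNat 0, Int.ofNat 0, Int.negSucc 1, Int.ofNat 0, Int.negSucc 1],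
  [Int.negSucc 2, Int.ofNat 1, Int.negSucc 0, Int.negSucc 0, Int.ofNat 1, Int.negSucc 0, Int.ofNat 1, Int.ofNat 1, Int.ofNat 1, Int.negSucc 0, Int.ofNat 1, Int.ofNat 1, Int.ofNat 1, Int.negSucc 0, Int.ofNat 1, Int.negSucc 0, Int.negSucc 0, Int.negSucc 0, Int.negSucc 0, Int.ofNat 1, Int.negSucc 0, Int.negSucc 0, Int.negSucc 0, Int.ofNat 1],
  [Int.negSucc 2, Int.ofNat 1, Int.ofNat 1, Int.negSucc 0, Int.negSucc 0, Int.ofNat 1, Int.negSucc 0, Int.ofNat 1, Int.ofNat 1, Int.negSucc 0, Int.negSucc 0, Int.negSucc 0, Int.negSucc 0, Int.negSucc 0, Int.negSucc 0, Int.negSucc 0, Int.ofNat 1, Int.ofNat 1, Int.ofNat 1, Int.ofNat 1, Int.negSucc 0, Int.negSucc 0, Int.ofNat 1, Int.ofNat 1],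
  [Int.ofNat 3, Int.negSucc 0, Int.negSucc 0, Int.negSucc 0, Int.negSucc 0, Int.ofNat 1, Int.negSucc 0, Int.ofNat 1, Int.ofNat 1, Int.ofNat 1, Int.ofNat 1, Int.negSucc 0, Int.negSucc 0, Int.negSucc 0, Int.negSucc 0, Int.ofNat 1, Int.ofNat 1, Int.ofNat 1, Int.ofNat 1, Int.ofNat 1, Int.ofNat 1, Int.negSucc 0, Int.ofNat 1, Int.negSucc 0],
  [Int.ofNat 3, Int.negSucc 0, Int.ofNat 1, Int.negSucc 0, Int.negSucc 0, Int.negSucc 0, Int.ofNat 1, Int.ofNat 1, Int.ofNat 1, Int.negSucc 0, Int.negSucc 0, Int.negSucc 0, Int.negSucc 0, Int.negSucc 0, Int.negSucc 0, Int.negSucc 0, Int.ofNat 1, Int.ofNat 1, Int.negSucc 0, Int.ofNat 1, Int.ofNat 1, Int.negSucc 0, Int.negSucc 0, Int.negSucc 0],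
  [Int.negSucc 0, Int.ofNat 1, Int.negSucc 0, Int.ofNat 1, Int.negSucc 0, Int.ofNat 1, Int.negSucc 0, Int.negSucc 0, Int.negSucc 0, Int.ofNat 1, Int.negSucc 0, Int.ofNat 1, Int.negSucc 0, Int.negSucc 0, Int.ofNat 1, Int.negSucc 0, Int.ofNat 1, Int.negSucc 0, Int.negSucc 0, Int.ofNat 1, Int.ofNat 3, Int.negSucc 0, Int.negSucc 0, Int.negSucc 0],
  [Int.negSucc 0, Int.negSucc 0, Int.ofNat 1, Int.negSucc 0, Int.negSucc 0, Int.ofNat 1, Int.ofNat 1, Int.negSucc 0, Int.ofNat 3, Int.ofNat 1, Int.ofNat 1, Int.negSucc 0, Int.negSucc 0, Int.negSucc 0, Int.negSucc 0, Int.ofNat 1, Int.negSucc 0, Int.negSucc 0, Int.ofNat 1, Int.negSucc 0, Int.negSucc 0, Int.negSucc 0, Int.ofNat 1, Int.negSucc 0],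
  [Int.ofNat 1, Int.negSucc 0, Int.negSucc 0, Int.negSucc 0, Int.negSucc 0, Int.ofNat 1, Int.ofNat 1, Int.ofNat 1, Int.ofNat 3, Int.negSucc 0, Int.negSucc 0, Int.ofNat 1, Int.negSucc 0, Int.negSucc 0, Int.negSucc 0, Int.ofNat 1, Int.negSucc 0, Int.negSucc 0, Int.negSucc 0, Int.negSucc 0, Int.negSucc 0, Int.ofNat 1, Int.ofNat 1, Int.negSucc 0],
  [Int.ofNat 1, Int.ofNat 1, Int.negSucc 0, Int.negSucc 0, Int.negSucc 0, Int.negSucc 0, Int.ofNat 1, Int.ofNat 1, Int.ofNat 1, Int.ofNat 3, Int.negSucc 0, Int.negSucc 0, Int.ofNat 1, Int.negSucc 0, Int.negSucc 0, Int.negSucc 0, Int.ofNat 1, Int.negSucc 0, Int.negSucc 0, Int.negSucc 0, Int.negSucc 0, Int.negSucc 0, Int.ofNat 1, Int.negSucc 0],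
  [Int.negSucc 0, Int.negSucc 0, Int.ofNat 1, Int.ofNat 1, Int.negSucc 0, Int.ofNat 1, Int.ofNat 1, Int.ofNat 1, Int.ofNat 1, Int.ofNat 3, Int.negSucc 0, Int.negSucc 0, Int.ofNat 1, Int.negSucc 0, Int.ofNat 1, Int.negSucc 0, Int.ofNat 1, Int.ofNat 1, Int.negSucc 0, Int.negSucc 0, Int.negSucc 0, Int.negSucc 0, Int.ofNat 1, Int.ofNat 1],
  [Int.ofNat 1, Int.negSucc 0, Int.ofNat 1, Int.ofNat 1, Int.ofNat 1, Int.ofNat 1, Int.ofNat 3, Int.negSucc 0, Int.negSucc 0, Int.ofNat 1, Int.negSucc 0, Int.ofNat 1, Int.negSucc 0, Int.ofNat 1, Int.ofNat 1, Int.negSucc 0, Int.negSucc 0, Int.negSucc 0, Int.negSucc 0, Int.ofNat 1, Int.negSucc 0, Int.negSucc 0, Int.ofNat 1, Int.ofNat 1],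
  [Int.ofNat 0, Int.ofNat 2, Int.ofNat 0, Int.ofNat 0, Int.ofNat 0, Int.ofNat 0, Int.ofNat 2, Int.negSucc 1, Int.ofNat 0, Int.ofNat 2, Int.ofNat 0, Int.ofNat 2, Int.ofNat 0, Int.ofNat 0, Int.ofNat 0, Int.ofNat 0, Int.negSucc 1, Int.negSucc 1, Int.ofNat 0, Int.ofNat 0, Int.ofNat 0, Int.negSucc 1, Int.ofNat 0, Int.ofNat 0],
  [Int.ofNat 0, Int.ofNat 2, Int.ofNat 0, Int.ofNat 0, Int.ofNat 0, Int.negSucc 1, Int.ofNat 0, Int.ofNat 0, Int.ofNat 0, Int.ofNat 0, Int.ofNat 0, Int.negSucc 1, Int.ofNat 2, Int.negSucc 1, Int.ofNat 0, Int.ofNat 0, Int.ofNat 0, Int.ofNat 0, Int.ofNat 2, Int.ofNat 2, Int.negSucc 1, Int.ofNat 0, Int.ofNat 0, Int.ofNat 0],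
  [Int.ofNat 1, Int.negSucc 0, Int.ofNat 1, Int.ofNat 1, Int.ofNat 1, Int.negSucc 0, Int.negSucc 0, Int.negSucc 0, Int.negSucc 0, Int.ofNat 1, Int.ofNat 1, Int.negSucc 2, Int.ofNat 1, Int.negSucc 0, Int.ofNat 1, Int.ofNat 1, Int.ofNat 1, Int.ofNat 1, Int.ofNat 1, Int.ofNat 1, Int.negSucc 0, Int.negSucc 0, Int.ofNat 1, Int.ofNat 1],
  [Int.ofNat 1, Int.negSucc 0, Int.negSucc 0, Int.ofNat 1, Int.ofNat 1, Int.ofNat 1, Int.ofNat 1, Int.negSucc 0, Int.negSucc 0, Int.negSucc 0, Int.negSucc 0, Int.negSucc 2, Int.ofNat 1, Int.negSucc 0, Int.ofNat 1, Int.negSucc 0, Int.ofNat 1, Int.ofNat 1, Int.negSucc 0, Int.ofNat 1, Int.negSucc 0, Int.negSucc 0, Int.negSucc 0, Int.ofNat 1],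
  [Int.negSucc 0, Int.ofNat 1, Int.ofNat 1, Int.ofNat 1, Int.negSucc 0, Int.ofNat 1, Int.ofNat 1, Int.ofNat 1, Int.negSucc 0, Int.ofNat 1, Int.negSucc 0, Int.negSucc 0, Int.negSucc 0, Int.negSucc 0, Int.ofNat 1, Int.negSucc 0, Int.negSucc 0, Int.negSucc 0, Int.ofNat 1, Int.negSucc 2, Int.negSucc 0, Int.negSucc 0, Int.ofNat 1, Int.ofNat 1],
  [Int.negSucc 0, Int.ofNat 1, Int.negSucc 0, Int.ofNat 1, Int.negSucc 0, Int.negSucc 0, Int.negSucc 0, Int.ofNat 1, Int.negSucc 0, Int.negSucc 0, Int.ofNat 1, Int.negSucc 0, Int.negSucc 0, Int.negSucc 0, Int.ofNat 1, Int.ofNat 1, Int.negSucc 0, Int.negSucc 0, Int.negSucc 0, Int.negSucc 2, Int.negSucc 0, Int.negSucc 0, Int.negSucc 0, Int.ofNat 1],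
  [Int.ofNat 1, Int.negSucc 0, Int.ofNat 1, Int.ofNat 1, Int.ofNat 1, Int.negSucc 0, Int.ofNat 1, Int.ofNat 3, Int.ofNat 1, Int.negSucc 0, Int.ofNat 1, Int.ofNat 1, Int.ofNat 1, Int.ofNat 1, Int.ofNat 1, Int.ofNat 1, Int.ofNat 1, Int.negSucc 0, Int.ofNat 1, Int.negSucc 0, Int.negSucc 0, Int.ofNat 1, Int.ofNat 1, Int.negSucc 0],
  [Int.ofNat 1, Int.ofNat 1, Int.ofNat 1, Int.ofNat 1, Int.ofNat 1, Int.ofNat 1, Int.negSucc 0, Int.negSucc 0, Int.ofNat 1, Int.ofNat 1, Int.ofNat 3, Int.negSucc 0, Int.ofNat 1, Int.negSucc 0, Int.negSucc 0, Int.ofNat 1, Int.ofNat 1, Int.ofNat 1, Int.ofNat 1, Int.ofNat 1, Int.ofNat 1, Int.negSucc 0, Int.ofNat 1, Int.negSucc 0],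
  [Int.ofNat 0, Int.ofNat 0, Int.ofNat 0, Int.ofNat 0, Int.ofNat 0, Int.ofNat 0, Int.ofNat 0, Int.ofNat 0, Int.ofNat 0, Int.negSucc 1, Int.ofNat 0, Int.negSucc 1, Int.ofNat 0, Int.negSucc 1, Int.negSucc 1, Int.negSucc 1, Int.ofNat 0, Int.ofNat 0, Int.ofNat 0, Int.ofNat 2, Int.negSucc 1, Int.ofNat 0, Int.ofNat 0, Int.ofNat 2],
  [Int.negSucc 1, Int.ofNat 0, Int.ofNat 0, Int.ofNat 0, Int.ofNat 0, Int.ofNat 0, Int.ofNat 0, Int.ofNat 0, Int.ofNat 0, Int.ofNat 0, Int.ofNat 0, Int.ofNat 0, Int.negSucc 1, Int.ofNat 0, Int.negSucc 1, Int.ofNat 0, Int.negSucc 1, Int.negSucc 1, Int.negSucc 1, Int.ofNat 0, Int.ofNat 0, Int.ofNat 0, Int.ofNat 2, Int.ofNat 2],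
  [Int.ofNat 2, Int.ofNat 0, Int.ofNat 0, Int.ofNat 2, Int.ofNat 0, Int.ofNat 2, Int.ofNat 0, Int.ofNat 0, Int.ofNat 2, Int.ofNat 0, Int.ofNat 0, Int.ofNat 2, Int.ofNat 0, Int.ofNat 0, Int.ofNat 0, Int.ofNat 0, Int.negSucc 1, Int.ofNat 0, Int.ofNat 0, Int.ofNat 0, Int.ofNat 0, Int.ofNat 0, Int.ofNat 2, Int.negSucc 1],
  [Int.ofNat 0, Int.ofNat 0, Int.ofNat 2, Int.ofNat 0, Int.ofNat 2, Int.ofNat 0, Int.ofNat 0, Int.ofNat 2, Int.ofNat 0, Int.ofNat 0, Int.ofNat 2, Int.ofNat 0, Int.ofNat 0, Int.ofNat 0, Int.ofNat 0, Int.negSucc 1, Int.ofNat 0, Int.ofNat 0, Int.ofNat 0, Int.ofNat 0, Int.ofNat 0, Int.ofNat 2, Int.ofNat 2, Int.negSucc 1],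
  [Int.ofNat 0, Int.ofNat 0, Int.negSucc 1, Int.ofNat 0, Int.ofNat 2, Int.ofNat 0, Int.ofNat 0, Int.negSucc 1, Int.ofNat 0, Int.ofNat 0, Int.negSucc 1, Int.ofNat 0, Int.ofNat 0, Int.ofNat 0, Int.ofNat 0, Int.negSucc 1, Int.ofNat 0, Int.ofNat 0, Int.ofNat 0, Int.ofNat 0, Int.ofNat 0, Int.negSucc 1, Int.ofNat 2, Int.negSucc 1]]

set_option maxRecDepth 100000 in
theorem c1te5_chk : pmChk (List.replicate 14 [5, 0, 26, 25]).flatten nxL c1te5M 0 0 = true := by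
  decide +kernel

theorem c1te5_ne : wE letE2 (List.replicate 14 [5, 0, 26, 25]).flatten ≠ 1 ∧ wE letE2 (List.replicate 14 [5, 0, 26, 25]).flatten ≠ negElt :=
  ne_pm_of_chk nxL_mem c1te5_chk

set_option maxRecDepth 100000 in
def c1te6M : List (List ℤ) :=
  [[Int.ofNat 4, Int.ofNat 0, Int.ofNat 0, Int.ofNat 0, Int.ofNat 0, Int.ofNat 0, Int.ofNat 0, Int.ofNat 0, Int.ofNat 0, Int.ofNat 0, Int.ofNat 0, Int.ofNat 0, Int.ofNat 0, Int.ofNat 0, Int.ofNat 0, Int.ofNat 0, Int.ofNat 0, Int.ofNat 0, Int.ofNat 0, Int.ofNat 0, Int.ofNat 0, Int.ofNat 0, Int.ofNat 0, Int.ofNat 4],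
  [Int.ofNat 4, Int.ofNat 0, Int.ofNat 0, Int.ofNat 0, Int.ofNat 0, Int.ofNat 0, Int.ofNat 0, Int.ofNat 0, Int.ofNat 0, Int.ofNat 0, Int.ofNat 0, Int.ofNat 0, Int.ofNat 0, Int.ofNat 0, Int.ofNat 0, Int.ofNat 0, Int.ofNat 0, Int.ofNat 0, Int.ofNat 0, Int.ofNat 0, Int.ofNat 0, Int.ofNat 0, Int.ofNat 0, Int.ofNat 4],
  [Int.negSucc 3, Int.ofNat 0, Int.ofNat 0, Int.ofNat 0, Int.ofNat 0, Int.ofNat 0, Int.ofNat 0, Int.ofNat 0, Int.ofNat 0, Int.ofNat 0, Int.ofNat 0, Int.ofNat 0, Int.ofNat 0, Int.ofNat 0, Int.ofNat 0, Int.ofNat 0, Int.ofNat 0, Int.ofNat 0, Int.ofNat 0, Int.ofNat 0, Int.ofNat 0, Int.ofNat 0, Int.ofNat 0, Int.ofNat 4],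
  [Int.ofNat 0, Int.negSucc 3, Int.ofNat 0, Int.ofNat 0, Int.ofNat 0, Int.ofNat 0, Int.ofNat 0, Int.ofNat 0, Int.ofNat 0, Int.ofNat 0, Int.ofNat 0, Int.ofNat 0, Int.ofNat 0, Int.ofNat 0, Int.ofNat 0, Int.ofNat 0, Int.ofNat 0, Int.ofNat 0, Int.ofNat 0, Int.ofNat 0, Int.ofNat 0, Int.ofNat 0, Int.ofNat 0, Int.ofNat 4],
  [Int.ofNat 0, Int.ofNat 4, Int.ofNat 0, Int.ofNat 0, Int.ofNat 0, Int.ofNat 0, Int.ofNat 0, Int.ofNat 0, Int.ofNat 0, Int.ofNat 0, Int.ofNat 0, Int.ofNat 0, Int.ofNat 0, Int.ofNat 0, Int.ofNat 0, Int.ofNat 0, Int.ofNat 0, Int.ofNat 0, Int.ofNat 0, Int.ofNat 0, Int.ofNat 0, Int.ofNat 0, Int.ofNat 0, Int.negSucc 3],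
  [Int.ofNat 0, Int.ofNat 0, Int.ofNat 0, Int.ofNat 0, Int.ofNat 0, Int.ofNat 0, Int.ofNat 0, Int.ofNat 0, Int.ofNat 0, Int.ofNat 0, Int.ofNat 0, Int.ofNat 0, Int.ofNat 0, Int.ofNat 0, Int.ofNat 0, Int.ofNat 0, Int.ofNat 0, Int.ofNat 0, Int.ofNat 0, Int.ofNat 0, Int.ofNat 0, Int.ofNat 4, Int.ofNat 0, Int.negSucc 3],
  [Int.negSucc 1, Int.negSucc 1, Int.negSucc 1, Int.ofNat 0, Int.ofNat 0, Int.ofNat 0, Int.negSucc 1, Int.negSucc 1, Int.ofNat 0, Int.ofNat 0, Int.ofNat 0, Int.ofNat 0, Int.ofNat 0, Int.ofNat 0, Int.ofNat 0, Int.ofNat 0, Int.ofNat 0, Int.ofNat 0, Int.ofNat 0, Int.negSucc 1, Int.ofNat 0, Int.ofNat 2, Int.ofNat 0, Int.ofNat 2],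
  [Int.negSucc 1, Int.negSucc 1, Int.ofNat 0, Int.ofNat 0, Int.ofNat 0, Int.negSucc 1, Int.negSucc 1, Int.ofNat 0, Int.ofNat 0, Int.ofNat 0, Int.ofNat 0, Int.ofNat 0, Int.ofNat 0, Int.ofNat 0, Int.ofNat 0, Int.ofNat 0, Int.ofNat 0, Int.ofNat 0, Int.negSucc 1, Int.ofNat 0, Int.ofNat 2, Int.ofNat 0, Int.negSucc 1, Int.ofNat 2],
  [Int.ofNat 1, Int.ofNat 1, Int.negSucc 0, Int.ofNat 1, Int.ofNat 1, Int.negSucc 0, Int.negSucc 0, Int.ofNat 1, Int.ofNat 1, Int.negSucc 0, Int.negSucc 0, Int.ofNat 1, Int.ofNat 1, Int.ofNat 1, Int.ofNat 1, Int.negSucc 0, Int.ofNat 1, Int.ofNat 1, Int.negSucc 0, Int.ofNat 1, Int.ofNat 1, Int.ofNat 1, Int.negSucc 0, Int.negSucc 2],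
  [Int.ofNat 1, Int.ofNat 1, Int.ofNat 1, Int.ofNat 1, Int.ofNat 1, Int.ofNat 1, Int.ofNat 1, Int.ofNat 1, Int.ofNat 1, Int.ofNat 1, Int.ofNat 1, Int.ofNat 1, Int.ofNat 1, Int.ofNat 1, Int.ofNat 1, Int.ofNat 1, Int.ofNat 1, Int.ofNat 1, Int.ofNat 1, Int.ofNat 1, Int.ofNat 1, Int.ofNat 1, Int.ofNat 1, Int.negSucc 2],
  [Int.ofNat 1, Int.ofNat 1, Int.ofNat 1, Int.ofNat 1, Int.ofNat 1, Int.ofNat 1, Int.ofNat 1, Int.ofNat 1, Int.ofNat 1, Int.ofNat 1, Int.ofNat 1, Int.ofNat 1, Int.ofNat 1, Int.ofNat 1, Int.ofNat 1, Int.ofNat 1, Int.ofNat 1, Int.ofNat 1, Int.ofNat 1, Int.ofNat 1, Int.ofNat 1, Int.ofNat 1, Int.ofNat 1, Int.negSucc 2],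
  [Int.negSucc 2, Int.ofNat 1, Int.ofNat 1, Int.ofNat 1, Int.ofNat 1, Int.ofNat 1, Int.ofNat 1, Int.ofNat 1, Int.ofNat 1, Int.ofNat 1, Int.ofNat 1, Int.ofNat 1, Int.ofNat 1, Int.ofNat 1, Int.ofNat 1, Int.ofNat 1, Int.ofNat 1, Int.ofNat 1, Int.ofNat 1, Int.ofNat 1, Int.ofNat 1, Int.ofNat 1, Int.ofNat 1, Int.ofNat 1],
  [Int.ofNat 3, Int.ofNat 1, Int.negSucc 0, Int.ofNat 1, Int.ofNat 1, Int.ofNat 1, Int.ofNat 1, Int.negSucc 0, Int.ofNat 1, Int.negSucc 0, Int.negSucc 0, Int.negSucc 0, Int.ofNat 1, Int.ofNat 1, Int.ofNat 1, Int.ofNat 1, Int.ofNat 1, Int.ofNat 1, Int.negSucc 0, Int.ofNat 1, Int.ofNat 1, Int.negSucc 0, Int.ofNat 1, Int.ofNat 1],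
  [Int.ofNat 1, Int.ofNat 3, Int.ofNat 1, Int.negSucc 0, Int.ofNat 1, Int.ofNat 1, Int.ofNat 1, Int.ofNat 1, Int.negSucc 0, Int.ofNat 1, Int.negSucc 0, Int.negSucc 0, Int.negSucc 0, Int.ofNat 1, Int.ofNat 1, Int.ofNat 1, Int.ofNat 1, Int.ofNat 1, Int.ofNat 1, Int.negSucc 0, Int.ofNat 1, Int.ofNat 1, Int.negSucc 0, Int.ofNat 1],
  [Int.ofNat 2, Int.ofNat 0, Int.ofNat 2, Int.negSucc 1, Int.ofNat 0, Int.ofNat 0, Int.ofNat 0, Int.ofNat 0, Int.ofNat 0, Int.ofNat 0, Int.negSucc 1, Int.ofNat 0, Int.ofNat 0, Int.ofNat 0, Int.ofNat 0, Int.ofNat 0, Int.ofNat 0, Int.ofNat 0, Int.ofNat 2, Int.negSucc 1, Int.ofNat 0, Int.ofNat 0, Int.negSucc 1, Int.ofNat 2],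
  [Int.negSucc 1, Int.ofNat 0, Int.ofNat 0, Int.ofNat 0, Int.ofNat 0, Int.ofNat 0, Int.ofNat 0, Int.negSucc 1, Int.ofNat 0, Int.ofNat 0, Int.ofNat 0, Int.ofNat 0, Int.ofNat 0, Int.ofNat 0, Int.ofNat 0, Int.ofNat 2, Int.negSucc 1, Int.ofNat 0, Int.ofNat 0, Int.negSucc 1, Int.ofNat 2, Int.ofNat 0, Int.ofNat 2, Int.ofNat 2],
  [Int.ofNat 2, Int.ofNat 0, Int.ofNat 0, Int.ofNat 0, Int.ofNat 0, Int.ofNat 0, Int.ofNat 2, Int.ofNat 0, Int.ofNat 0, Int.negSucc 1, Int.negSucc 1, Int.ofNat 0, Int.ofNat 0, Int.ofNat 0, Int.ofNat 0, Int.ofNat 0, Int.negSucc 1, Int.ofNat 0, Int.ofNat 0, Int.ofNat 0, Int.ofNat 0, Int.ofNat 2, Int.ofNat 2, Int.negSucc 1],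
  [Int.ofNat 2, Int.ofNat 2, Int.ofNat 0, Int.ofNat 0, Int.ofNat 0, Int.ofNat 0, Int.ofNat 0, Int.negSucc 1, Int.ofNat 0, Int.ofNat 0, Int.ofNat 0, Int.ofNat 0, Int.negSucc 1, Int.negSucc 1, Int.ofNat 2, Int.ofNat 0, Int.ofNat 0, Int.ofNat 0, Int.ofNat 0, Int.ofNat 0, Int.ofNat 2, Int.ofNat 0, Int.ofNat 0, Int.negSucc 1],
  [Int.negSucc 0, Int.negSucc 0, Int.ofNat 1, Int.negSucc 0, Int.ofNat 1, Int.negSucc 0, Int.ofNat 1, Int.negSucc 0, Int.ofNat 1, Int.negSucc 0, Int.negSucc 0, Int.ofNat 1, Int.negSucc 0, Int.negSucc 0, Int.ofNat 1, Int.negSucc 0, Int.ofNat 1, Int.negSucc 0, Int.ofNat 1, Int.ofNat 1, Int.ofNat 1, Int.ofNat 1, Int.ofNat 1, Int.ofNat 3],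
  [Int.negSucc 0, Int.negSucc 0, Int.negSucc 0, Int.negSucc 0, Int.ofNat 1, Int.ofNat 1, Int.negSucc 0, Int.negSucc 0, Int.ofNat 1, Int.ofNat 1, Int.ofNat 1, Int.ofNat 1, Int.negSucc 0, Int.negSucc 0, Int.ofNat 1, Int.ofNat 1, Int.ofNat 1, Int.negSucc 0, Int.negSucc 0, Int.ofNat 1, Int.ofNat 1, Int.ofNat 1, Int.negSucc 0, Int.ofNat 3],
  [Int.negSucc 0, Int.ofNat 1, Int.ofNat 1, Int.ofNat 1, Int.negSucc 0, Int.negSucc 0, Int.ofNat 1, Int.ofNat 1, Int.ofNat 1, Int.negSucc 0, Int.negSucc 0, Int.negSucc 0, Int.negSucc 0, Int.negSucc 0, Int.ofNat 1, Int.ofNat 1, Int.negSucc 0, Int.negSucc 0, Int.ofNat 1, Int.ofNat 1, Int.ofNat 1, Int.ofNat 1, Int.negSucc 0, Int.ofNat 3],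
  [Int.negSucc 0, Int.ofNat 1, Int.negSucc 0, Int.ofNat 1, Int.negSucc 0, Int.ofNat 1, Int.negSucc 0, Int.ofNat 1, Int.ofNat 1, Int.ofNat 1, Int.ofNat 1, Int.negSucc 0, Int.negSucc 0, Int.negSucc 0, Int.ofNat 1, Int.negSucc 0, Int.negSucc 0, Int.negSucc 0, Int.negSucc 0, Int.ofNat 1, Int.ofNat 1, Int.ofNat 1, Int.ofNat 1, Int.ofNat 3],
  [Int.ofNat 2, Int.ofNat 0, Int.ofNat 2, Int.ofNat 0, Int.ofNat 0, Int.ofNat 0, Int.negSucc 1, Int.ofNat 0, Int.ofNat 2, Int.ofNat 0, Int.ofNat 0, Int.ofNat 0, Int.ofNat 0, Int.ofNat 0, Int.ofNat 0, Int.negSucc 1, Int.ofNat 0, Int.negSucc 1, Int.ofNat 0, Int.ofNat 0, Int.ofNat 0, Int.ofNat 0, Int.ofNat 2, Int.negSucc 1],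
  [Int.ofNat 2, Int.ofNat 0, Int.negSucc 1, Int.ofNat 0, Int.ofNat 2, Int.ofNat 0, Int.ofNat 0, Int.ofNat 0, Int.ofNat 0, Int.ofNat 0, Int.ofNat 0, Int.ofNat 0, Int.ofNat 2, Int.ofNat 0, Int.negSucc 1, Int.negSucc 1, Int.ofNat 0, Int.ofNat 0, Int.ofNat 0, Int.ofNat 2, Int.ofNat 0, Int.ofNat 0, Int.ofNat 0, Int.negSucc 1],
  [Int.negSucc 2, Int.negSucc 0, Int.ofNat 1, Int.ofNat 1, Int.ofNat 1, Int.ofNat 1, Int.negSucc 0, Int.negSucc 0, Int.negSucc 0, Int.ofNat 1, Int.ofNat 1, Int.negSucc 0, Int.ofNat 1, Int.negSucc 0, Int.negSucc 0, Int.negSucc 0, Int.negSucc 0, Int.ofNat 1, Int.negSucc 0, Int.ofNat 1, Int.ofNat 1, Int.negSucc 0, Int.negSucc 0, Int.ofNat 1],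
  [Int.ofNat 1, Int.negSucc 0, Int.negSucc 0, Int.negSucc 2, Int.negSucc 0, Int.ofNat 1, Int.ofNat 1, Int.ofNat 1, Int.ofNat 1, Int.negSucc 0, Int.negSucc 0, Int.negSucc 0, Int.ofNat 1, Int.ofNat 1, Int.negSucc 0, Int.ofNat 1, Int.negSucc 0, Int.negSucc 0, Int.negSucc 0, Int.negSucc 0, Int.ofNat 1, Int.negSucc 0, Int.ofNat 1, Int.ofNat 1],
  [Int.negSucc 0, Int.ofNat 1, Int.ofNat 1, Int.negSucc 0, Int.negSucc 0, Int.ofNat 3, Int.ofNat 1, Int.ofNat 1, Int.ofNat 1, Int.negSucc 0, Int.negSucc 0, Int.negSucc 0, Int.ofNat 1, Int.ofNat 1, Int.ofNat 1, Int.ofNat 1, Int.negSucc 0, Int.ofNat 1, Int.negSucc 0, Int.negSucc 0, Int.ofNat 1, Int.negSucc 0, Int.ofNat 1, Int.negSucc 0],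
  [Int.ofNat 1, Int.ofNat 1, Int.negSucc 0, Int.negSucc 0, Int.ofNat 3, Int.ofNat 1, Int.ofNat 1, Int.ofNat 1, Int.negSucc 0, Int.negSucc 0, Int.negSucc 0, Int.ofNat 1, Int.ofNat 1, Int.ofNat 1, Int.ofNat 1, Int.negSucc 0, Int.ofNat 1, Int.negSucc 0, Int.negSucc 0, Int.ofNat 1, Int.negSucc 0, Int.ofNat 1, Int.negSucc 0, Int.negSucc 0],
  [Int.negSucc 0, Int.ofNat 1, Int.ofNat 1, Int.negSucc 0, Int.ofNat 3, Int.ofNat 1, Int.ofNat 1, Int.negSucc 0, Int.negSucc 0, Int.ofNat 1, Int.ofNat 1, Int.negSucc 0, Int.ofNat 1, Int.ofNat 1, Int.ofNat 1, Int.negSucc 0, Int.ofNat 1, Int.negSucc 0, Int.ofNat 1, Int.ofNat 1, Int.negSucc 0, Int.negSucc 0, Int.negSucc 0, Int.negSucc 0],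
  [Int.ofNat 1, Int.negSucc 0, Int.negSucc 0, Int.ofNat 1, Int.negSucc 2, Int.ofNat 1, Int.negSucc 0, Int.negSucc 0, Int.ofNat 1, Int.negSucc 0, Int.ofNat 1, Int.negSucc 0, Int.negSucc 0, Int.negSucc 0, Int.ofNat 1, Int.negSucc 0, Int.negSucc 0, Int.negSucc 0, Int.negSucc 0, Int.ofNat 1, Int.negSucc 0, Int.negSucc 0, Int.negSucc 0, Int.negSucc 0],
  [Int.ofNat 1, Int.negSucc 0, Int.negSucc 0, Int.ofNat 1, Int.negSucc 0, Int.ofNat 1, Int.negSucc 2, Int.negSucc 0, Int.negSucc 0, Int.negSucc 0, Int.negSucc 0, Int.ofNat 1, Int.negSucc 0, Int.ofNat 1, Int.ofNat 1, Int.negSucc 0, Int.negSucc 0, Int.negSucc 0, Int.negSucc 0, Int.negSucc 0, Int.ofNat 1, Int.negSucc 0, Int.negSucc 0, Int.negSucc 0],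
  [Int.negSucc 0, Int.negSucc 0, Int.ofNat 1, Int.ofNat 1, Int.negSucc 0, Int.ofNat 1, Int.negSucc 2, Int.ofNat 1, Int.negSucc 0, Int.ofNat 1, Int.ofNat 1, Int.negSucc 0, Int.negSucc 0, Int.ofNat 1, Int.ofNat 1, Int.negSucc 0, Int.negSucc 0, Int.negSucc 0, Int.ofNat 1, Int.negSucc 0, Int.ofNat 1, Int.ofNat 1, Int.negSucc 0, Int.negSucc 0],
  [Int.negSucc 0, Int.negSucc 0, Int.negSucc 0, Int.ofNat 1, Int.ofNat 1, Int.negSucc 0, Int.ofNat 1, Int.negSucc 2, Int.ofNat 1, Int.negSucc 0, Int.ofNat 1, Int.ofNat 1, Int.negSucc 0, Int.negSucc 0, Int.ofNat 1, Int.ofNat 1, Int.negSucc 0, Int.negSucc 0, Int.negSucc 0, Int.ofNat 1, Int.negSucc 0, Int.ofNat 1, Int.ofNat 1, Int.negSucc 0],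
  [Int.negSucc 0, Int.negSucc 0, Int.negSucc 0, Int.ofNat 1, Int.ofNat 1, Int.negSucc 0, Int.ofNat 1, Int.negSucc 2, Int.ofNat 1, Int.negSucc 0, Int.ofNat 1, Int.ofNat 1, Int.negSucc 0, Int.negSucc 0, Int.ofNat 1, Int.ofNat 1, Int.negSucc 0, Int.negSucc 0, Int.negSucc 0, Int.ofNat 1, Int.negSucc 0, Int.ofNat 1, Int.ofNat 1, Int.negSucc 0],
  [Int.ofNat 1, Int.ofNat 1, Int.negSucc 0, Int.ofNat 1, Int.negSucc 2, Int.ofNat 1, Int.negSucc 0, Int.ofNat 1, Int.ofNat 1, Int.negSucc 0, Int.negSucc 0, Int.ofNat 1, Int.ofNat 1, Int.negSucc 0, Int.negSucc 0, Int.negSucc 0, Int.ofNat 1, Int.negSucc 0, Int.ofNat 1, Int.ofNat 1, Int.negSucc 0, Int.negSucc 0, Int.negSucc 0, Int.negSucc 0],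
  [Int.negSucc 0, Int.negSucc 0, Int.ofNat 1, Int.ofNat 1, Int.negSucc 0, Int.ofNat 1, Int.negSucc 0, Int.ofNat 1, Int.negSucc 0, Int.ofNat 1, Int.ofNat 1, Int.negSucc 0, Int.negSucc 0, Int.ofNat 1, Int.negSucc 0, Int.ofNat 1, Int.ofNat 3, Int.negSucc 0, Int.negSucc 0, Int.ofNat 1, Int.ofNat 1, Int.negSucc 0, Int.ofNat 1, Int.ofNat 1],
  [Int.negSucc 0, Int.negSucc 0, Int.negSucc 0, Int.ofNat 1, Int.negSucc 0, Int.ofNat 1, Int.ofNat 1, Int.ofNat 1, Int.negSucc 0, Int.ofNat 1, Int.ofNat 1, Int.negSucc 0, Int.ofNat 1, Int.ofNat 3, Int.ofNat 1, Int.ofNat 1, Int.negSucc 0, Int.negSucc 0, Int.negSucc 0, Int.negSucc 0, Int.negSucc 0, Int.ofNat 1, Int.ofNat 1, Int.ofNat 1],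
  [Int.ofNat 0, Int.ofNat 0, Int.ofNat 0, Int.ofNat 0, Int.negSucc 1, Int.ofNat 0, Int.ofNat 0, Int.ofNat 0, Int.ofNat 0, Int.ofNat 0, Int.ofNat 0, Int.ofNat 0, Int.ofNat 2, Int.ofNat 2, Int.ofNat 0, Int.ofNat 0, Int.negSucc 1, Int.negSucc 1, Int.ofNat 0, Int.negSucc 1, Int.negSucc 1, Int.ofNat 0, Int.ofNat 0, Int.negSucc 1],
  [Int.ofNat 0, Int.ofNat 0, Int.ofNat 0, Int.ofNat 0, Int.negSucc 1, Int.ofNat 0, Int.ofNat 0, Int.ofNat 0, Int.ofNat 0, Int.ofNat 0, Int.ofNat 0, Int.ofNat 0, Int.ofNat 2, Int.ofNat 2, Int.ofNat 0, Int.ofNat 0, Int.negSucc 1, Int.negSucc 1, Int.ofNat 0, Int.negSucc 1, Int.negSucc 1, Int.ofNat 0, Int.ofNat 0, Int.negSucc 1],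
  [Int.ofNat 0, Int.negSucc 1, Int.ofNat 0, Int.ofNat 0, Int.ofNat 0, Int.ofNat 0, Int.ofNat 0, Int.ofNat 0, Int.ofNat 0, Int.negSucc 1, Int.ofNat 2, Int.ofNat 0, Int.ofNat 0, Int.negSucc 1, Int.negSucc 1, Int.ofNat 0, Int.negSucc 1, Int.ofNat 2, Int.ofNat 0, Int.ofNat 0, Int.ofNat 0, Int.ofNat 0, Int.ofNat 0, Int.negSucc 1],
  [Int.negSucc 1, Int.ofNat 0, Int.ofNat 0, Int.ofNat 0, Int.ofNat 2, Int.negSucc 1, Int.ofNat 0, Int.negSucc 1, Int.ofNat 0, Int.ofNat 0, Int.negSucc 1, Int.ofNat 0, Int.ofNat 0, Int.ofNat 0, Int.ofNat 0, Int.ofNat 0, Int.ofNat 2, Int.ofNat 0, Int.negSucc 1, Int.ofNat 0, Int.ofNat 0, Int.ofNat 0, Int.negSucc 1, Int.ofNat 0],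
  [Int.ofNat 2, Int.ofNat 0, Int.ofNat 0, Int.ofNat 0, Int.ofNat 2, Int.negSucc 1, Int.ofNat 0, Int.ofNat 2, Int.ofNat 0, Int.ofNat 0, Int.ofNat 2, Int.ofNat 0, Int.ofNat 0, Int.ofNat 0, Int.ofNat 0, Int.ofNat 0, Int.ofNat 2, Int.ofNat 0, Int.ofNat 2, Int.ofNat 0, Int.ofNat 0, Int.ofNat 0, Int.negSucc 1, Int.ofNat 0],
  [Int.negSucc 1, Int.ofNat 2, Int.ofNat 0, Int.ofNat 0, Int.ofNat 0, Int.ofNat 2, Int.negSucc 1, Int.ofNat 0, Int.ofNat 2, Int.ofNat 0, Int.ofNat 0, Int.ofNat 2, Int.ofNat 0, Int.ofNat 0, Int.ofNat 0, Int.ofNat 0, Int.ofNat 0, Int.ofNat 2, Int.ofNat 0, Int.ofNat 2, Int.ofNat 0, Int.ofNat 0, Int.ofNat 0, Int.ofNat 0],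
  [Int.ofNat 2, Int.negSucc 1, Int.ofNat 0, Int.negSucc 1, Int.ofNat 0, Int.ofNat 0, Int.negSucc 1, Int.ofNat 0, Int.ofNat 0, Int.ofNat 0, Int.ofNat 0, Int.ofNat 0, Int.negSucc 1, Int.ofNat 0, Int.negSucc 1, Int.ofNat 0, Int.ofNat 0, Int.ofNat 0, Int.negSucc 1, Int.ofNat 2, Int.ofNat 0, Int.ofNat 0, Int.ofNat 0, Int.ofNat 0],
  [Int.negSucc 1, Int.ofNat 0, Int.ofNat 0, Int.negSucc 1, Int.ofNat 0, Int.ofNat 0, Int.ofNat 0, Int.ofNat 0, Int.ofNat 0, Int.negSucc 1, Int.ofNat 0, Int.negSucc 1, Int.ofNat 0, Int.ofNat 0, Int.ofNat 0, Int.negSucc 1, Int.ofNat 2, Int.ofNat 0, Int.ofNat 0, Int.ofNat 0, Int.ofNat 2, Int.negSucc 1, Int.ofNat 0, Int.ofNat 0],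
  [Int.ofNat 1, Int.negSucc 0, Int.negSucc 0, Int.negSucc 0, Int.negSucc 0, Int.ofNat 1, Int.ofNat 1, Int.ofNat 1, Int.ofNat 1, Int.negSucc 0, Int.ofNat 1, Int.negSucc 0, Int.ofNat 1, Int.negSucc 0, Int.ofNat 1, Int.negSucc 0, Int.ofNat 1, Int.ofNat 1, Int.ofNat 1, Int.ofNat 1, Int.ofNat 3, Int.negSucc 0, Int.negSucc 0, Int.negSucc 0],
  [Int.ofNat 1, Int.ofNat 1, Int.negSucc 0, Int.negSucc 0, Int.ofNat 1, Int.ofNat 1, Int.negSucc 0, Int.ofNat 1, Int.ofNat 1, Int.negSucc 0, Int.ofNat 3, Int.ofNat 1, Int.negSucc 0, Int.ofNat 1, Int.negSucc 0, Int.negSucc 0, Int.ofNat 1, Int.ofNat 1, Int.negSucc 0, Int.negSucc 0, Int.negSucc 0, Int.ofNat 1, Int.ofNat 1, Int.negSucc 0],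
  [Int.negSucc 0, Int.negSucc 0, Int.ofNat 1, Int.negSucc 0, Int.negSucc 0, Int.ofNat 1, Int.negSucc 0, Int.ofNat 1, Int.ofNat 1, Int.negSucc 0, Int.ofNat 3, Int.ofNat 1, Int.negSucc 0, Int.negSucc 0, Int.negSucc 0, Int.negSucc 0, Int.negSucc 0, Int.ofNat 1, Int.negSucc 0, Int.negSucc 0, Int.negSucc 0, Int.ofNat 1, Int.negSucc 0, Int.ofNat 1],
  [Int.negSucc 0, Int.negSucc 0, Int.negSucc 0, Int.negSucc 0, Int.negSucc 0, Int.negSucc 0, Int.ofNat 1, Int.ofNat 1, Int.ofNat 1, Int.ofNat 1, Int.negSucc 2, Int.ofNat 1, Int.negSucc 0, Int.negSucc 0, Int.negSucc 0, Int.ofNat 1, Int.negSucc 0, Int.ofNat 1, Int.ofNat 1, Int.negSucc 0, Int.negSucc 0, Int.ofNat 1, Int.ofNat 1, Int.ofNat 1],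
  [Int.negSucc 0, Int.ofNat 1, Int.negSucc 0, Int.negSucc 0, Int.negSucc 0, Int.ofNat 1, Int.ofNat 1, Int.negSucc 0, Int.negSucc 2, Int.ofNat 1, Int.negSucc 0, Int.ofNat 1, Int.ofNat 1, Int.negSucc 0, Int.negSucc 0, Int.negSucc 0, Int.negSucc 0, Int.ofNat 1, Int.ofNat 1, Int.negSucc 0, Int.ofNat 1, Int.ofNat 1, Int.negSucc 0, Int.ofNat 1],
  [Int.negSucc 0, Int.ofNat 1, Int.ofNat 1, Int.negSucc 0, Int.negSucc 0, Int.negSucc 0, Int.negSucc 0, Int.negSucc 0, Int.negSucc 2, Int.negSucc 0, Int.ofNat 1, Int.ofNat 1, Int.ofNat 1, Int.negSucc 0, Int.negSucc 0, Int.ofNat 1, Int.negSucc 0, Int.ofNat 1, Int.negSucc 0, Int.negSucc 0, Int.ofNat 1, Int.ofNat 1, Int.ofNat 1, Int.ofNat 1],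
  [Int.ofNat 2, Int.ofNat 0, Int.ofNat 0, Int.ofNat 0, Int.ofNat 0, Int.ofNat 0, Int.ofNat 0, Int.ofNat 0, Int.negSucc 1, Int.negSucc 1, Int.ofNat 0, Int.ofNat 2, Int.ofNat 2, Int.ofNat 0, Int.ofNat 0, Int.ofNat 0, Int.ofNat 0, Int.ofNat 2, Int.ofNat 0, Int.ofNat 0, Int.ofNat 0, Int.ofNat 2, Int.ofNat 2, Int.ofNat 0],
  [Int.ofNat 2, Int.ofNat 0, Int.ofNat 0, Int.ofNat 0, Int.ofNat 0, Int.ofNat 2, Int.ofNat 0, Int.ofNat 0, Int.ofNat 0, Int.ofNat 2, Int.ofNat 0, Int.ofNat 0, Int.negSucc 1, Int.negSucc 1, Int.ofNat 2, Int.ofNat 0, Int.ofNat 0, Int.ofNat 2, Int.ofNat 0, Int.ofNat 2, Int.ofNat 0, Int.ofNat 0, Int.ofNat 0, Int.ofNat 0],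
  [Int.negSucc 0, Int.ofNat 1, Int.ofNat 1, Int.negSucc 2, Int.ofNat 1, Int.negSucc 0, Int.negSucc 0, Int.negSucc 0, Int.ofNat 1, Int.ofNat 1, Int.negSucc 0, Int.ofNat 1, Int.negSucc 0, Int.negSucc 0, Int.negSucc 0, Int.negSucc 0, Int.ofNat 1, Int.negSucc 0, Int.ofNat 1, Int.ofNat 1, Int.negSucc 0, Int.negSucc 0, Int.ofNat 1, Int.ofNat 1],
  [Int.negSucc 0, Int.negSucc 0, Int.ofNat 1, Int.negSucc 0, Int.ofNat 1, Int.ofNat 1, Int.negSucc 2, Int.ofNat 1, Int.negSucc 0, Int.negSucc 0, Int.negSucc 0, Int.ofNat 1, Int.ofNat 1, Int.negSucc 0, Int.ofNat 1, Int.negSucc 0, Int.negSucc 0, Int.negSucc 0, Int.negSucc 0, Int.ofNat 1, Int.negSucc 0, Int.ofNat 1, Int.ofNat 1, Int.ofNat 1],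
  [Int.ofNat 1, Int.ofNat 1, Int.negSucc 0, Int.negSucc 0, Int.ofNat 1, Int.ofNat 1, Int.negSucc 2, Int.ofNat 1, Int.negSucc 0, Int.ofNat 1, Int.ofNat 1, Int.ofNat 1, Int.ofNat 1, Int.negSucc 0, Int.ofNat 1, Int.ofNat 1, Int.negSucc 0, Int.negSucc 0, Int.negSucc 0, Int.ofNat 1, Int.ofNat 1, Int.ofNat 1, Int.ofNat 1, Int.negSucc 0],
  [Int.ofNat 1, Int.negSucc 0, Int.negSucc 0, Int.ofNat 1, Int.ofNat 1, Int.negSucc 2, Int.ofNat 1, Int.negSucc 0, Int.ofNat 1, Int.ofNat 1, Int.ofNat 1, Int.ofNat 1, Int.negSucc 0, Int.ofNat 1, Int.ofNat 1, Int.negSucc 0, Int.negSucc 0, Int.negSucc 0, Int.ofNat 1, Int.ofNat 1, Int.ofNat 1, Int.ofNat 1, Int.ofNat 1, Int.negSucc 0],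
  [Int.negSucc 0, Int.negSucc 0, Int.ofNat 1, Int.ofNat 1, Int.ofNat 1, Int.negSucc 2, Int.ofNat 1, Int.ofNat 1, Int.ofNat 1, Int.negSucc 0, Int.negSucc 0, Int.negSucc 0, Int.negSucc 0, Int.ofNat 1, Int.ofNat 1, Int.negSucc 0, Int.negSucc 0, Int.negSucc 0, Int.negSucc 0, Int.ofNat 1, Int.ofNat 1, Int.negSucc 0, Int.ofNat 1, Int.negSucc 0],
  [Int.ofNat 1, Int.ofNat 1, Int.negSucc 0, Int.negSucc 0, Int.negSucc 0, Int.negSucc 2, Int.negSucc 0, Int.ofNat 1, Int.negSucc 0, Int.ofNat 1, Int.negSucc 0, Int.negSucc 0, Int.ofNat 1, Int.negSucc 0, Int.ofNat 1, Int.negSucc 0, Int.ofNat 1, Int.negSucc 0, Int.ofNat 1, Int.ofNat 1, Int.ofNat 1, Int.negSucc 0, Int.ofNat 1, Int.negSucc 0],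
  [Int.ofNat 1, Int.negSucc 0, Int.ofNat 1, Int.negSucc 0, Int.ofNat 1, Int.negSucc 0, Int.negSucc 0, Int.ofNat 1, Int.ofNat 1, Int.ofNat 1, Int.negSucc 0, Int.ofNat 1, Int.negSucc 0, Int.negSucc 0, Int.ofNat 1, Int.negSucc 0, Int.ofNat 1, Int.ofNat 1, Int.negSucc 0, Int.negSucc 0, Int.negSucc 2, Int.ofNat 1, Int.negSucc 0, Int.negSucc 0],
  [Int.negSucc 0, Int.negSucc 0, Int.negSucc 0, Int.negSucc 0, Int.ofNat 1, Int.negSucc 0, Int.negSucc 0, Int.negSucc 0, Int.ofNat 1, Int.negSucc 0, Int.ofNat 1, Int.negSucc 0, Int.negSucc 0, Int.negSucc 0, Int.ofNat 1, Int.negSucc 0, Int.ofNat 1, Int.ofNat 1, Int.ofNat 1, Int.negSucc 0, Int.negSucc 2, Int.negSucc 0, Int.negSucc 0, Int.negSucc 0],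
  [Int.negSucc 0, Int.negSucc 0, Int.negSucc 0, Int.negSucc 0, Int.negSucc 0, Int.ofNat 1, Int.negSucc 0, Int.negSucc 0, Int.negSucc 0, Int.ofNat 1, Int.negSucc 0, Int.ofNat 1, Int.negSucc 0, Int.negSucc 0, Int.negSucc 0, Int.ofNat 1, Int.negSucc 0, Int.ofNat 1, Int.ofNat 1, Int.ofNat 1, Int.negSucc 0, Int.negSucc 2, Int.negSucc 0, Int.negSucc 0],
  [Int.negSucc 0, Int.negSucc 0, Int.negSucc 0, Int.negSucc 0, Int.ofNat 1, Int.ofNat 1, Int.ofNat 1, Int.ofNat 1, Int.negSucc 0, Int.ofNat 1, Int.negSucc 0, Int.ofNat 1, Int.negSucc 0, Int.ofNat 1, Int.negSucc 0, Int.ofNat 1, Int.ofNat 1, Int.ofNat 1, Int.ofNat 1, Int.ofNat 3, Int.negSucc 0, Int.negSucc 0, Int.ofNat 1, Int.negSucc 0],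
  [Int.negSucc 0, Int.ofNat 1, Int.ofNat 1, Int.ofNat 1, Int.ofNat 1, Int.negSucc 0, Int.ofNat 1, Int.negSucc 0, Int.ofNat 1, Int.negSucc 0, Int.ofNat 1, Int.negSucc 0, Int.ofNat 1, Int.ofNat 1, Int.ofNat 1, Int.ofNat 1, Int.ofNat 3, Int.negSucc 0, Int.negSucc 0, Int.ofNat 1, Int.negSucc 0, Int.negSucc 0, Int.negSucc 0, Int.negSucc 0],
  [Int.ofNat 1, Int.negSucc 0, Int.negSucc 0, Int.ofNat 1, Int.negSucc 0, Int.negSucc 0, Int.ofNat 1, Int.negSucc 0, Int.ofNat 1, Int.negSucc 0, Int.ofNat 1, Int.negSucc 0, Int.ofNat 1, Int.negSucc 0, Int.ofNat 1, Int.ofNat 1, Int.ofNat 1, Int.negSucc 0, Int.negSucc 0, Int.ofNat 1, Int.negSucc 0, Int.negSucc 0, Int.negSucc 2, Int.ofNat 1],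
  [Int.ofNat 1, Int.ofNat 1, Int.negSucc 0, Int.ofNat 1, Int.negSucc 0, Int.negSucc 0, Int.negSucc 0, Int.ofNat 1, Int.ofNat 1, Int.negSucc 0, Int.negSucc 0, Int.negSucc 0, Int.negSucc 0, Int.ofNat 1, Int.negSucc 2, Int.ofNat 1, Int.ofNat 1, Int.ofNat 1, Int.negSucc 0, Int.negSucc 0, Int.negSucc 0, Int.negSucc 0, Int.ofNat 1, Int.ofNat 1],
  [Int.ofNat 0, Int.ofNat 0, Int.ofNat 2, Int.ofNat 2, Int.negSucc 1, Int.ofNat 0, Int.ofNat 0, Int.ofNat 2, Int.ofNat 2, Int.ofNat 0, Int.ofNat 0, Int.ofNat 0, Int.ofNat 0, Int.ofNat 0, Int.negSucc 1, Int.ofNat 2, Int.ofNat 0, Int.ofNat 2, Int.ofNat 0, Int.ofNat 0, Int.ofNat 0, Int.ofNat 0, Int.ofNat 0, Int.ofNat 0],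
  [Int.ofNat 0, Int.ofNat 0, Int.negSucc 1, Int.ofNat 2, Int.negSucc 1, Int.ofNat 0, Int.ofNat 0, Int.ofNat 2, Int.ofNat 2, Int.ofNat 0, Int.ofNat 0, Int.ofNat 0, Int.ofNat 0, Int.ofNat 0, Int.negSucc 1, Int.negSucc 1, Int.ofNat 0, Int.ofNat 2, Int.ofNat 0, Int.ofNat 0, Int.ofNat 0, Int.ofNat 0, Int.ofNat 0, Int.ofNat 0],
  [Int.ofNat 0, Int.ofNat 0, Int.ofNat 0, Int.ofNat 2, Int.negSucc 1, Int.ofNat 0, Int.ofNat 0, Int.ofNat 2, Int.ofNat 0, Int.ofNat 0, Int.ofNat 0, Int.ofNat 2, Int.negSucc 1, Int.negSucc 1, Int.ofNat 2, Int.ofNat 0, Int.ofNat 0, Int.ofNat 0, Int.ofNat 0, Int.negSucc 1, Int.ofNat 0, Int.ofNat 0, Int.ofNat 0, Int.ofNat 0],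
  [Int.ofNat 0, Int.ofNat 0, Int.ofNat 2, Int.ofNat 0, Int.ofNat 0, Int.ofNat 0, Int.negSucc 1, Int.negSucc 1, Int.ofNat 0, Int.ofNat 0, Int.ofNat 0, Int.ofNat 0, Int.ofNat 0, Int.ofNat 2, Int.ofNat 0, Int.ofNat 2, Int.ofNat 0, Int.negSucc 1, Int.ofNat 2, Int.ofNat 0, Int.ofNat 0, Int.negSucc 1, Int.ofNat 0, Int.ofNat 0],
  [Int.ofNat 0, Int.ofNat 0, Int.negSucc 1, Int.ofNat 0, Int.ofNat 0, Int.ofNat 0, Int.negSucc 1, Int.ofNat 2, Int.ofNat 0, Int.ofNat 0, Int.ofNat 0, Int.ofNat 0, Int.ofNat 0, Int.ofNat 2, Int.ofNat 0, Int.ofNat 2, Int.ofNat 0, Int.negSucc 1, Int.negSucc 1, Int.ofNat 0, Int.ofNat 0, Int.ofNat 2, Int.ofNat 0, Int.ofNat 0],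
  [Int.ofNat 0, Int.ofNat 0, Int.ofNat 0, Int.negSucc 1, Int.ofNat 0, Int.ofNat 0, Int.ofNat 0, Int.negSucc 1, Int.ofNat 2, Int.ofNat 0, Int.ofNat 0, Int.ofNat 0, Int.ofNat 0, Int.ofNat 0, Int.ofNat 2, Int.ofNat 0, Int.ofNat 2, Int.ofNat 0, Int.negSucc 1, Int.negSucc 1, Int.ofNat 0, Int.ofNat 0, Int.ofNat 2, Int.ofNat 0],
  [Int.ofNat 0, Int.ofNat 0, Int.ofNat 0, Int.negSucc 1, Int.negSucc 1, Int.ofNat 0, Int.ofNat 2, Int.ofNat 0, Int.ofNat 2, Int.ofNat 0, Int.ofNat 0, Int.ofNat 0, Int.ofNat 0, Int.negSucc 1, Int.ofNat 2, Int.ofNat 0, Int.ofNat 0, Int.ofNat 0, Int.negSucc 1, Int.ofNat 0, Int.ofNat 0, Int.ofNat 2, Int.ofNat 0, Int.ofNat 0],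
  [Int.negSucc 1, Int.negSucc 1, Int.ofNat 0, Int.ofNat 2, Int.ofNat 0, Int.ofNat 2, Int.ofNat 0, Int.ofNat 0, Int.ofNat 0, Int.ofNat 0, Int.negSucc 1, Int.ofNat 2, Int.ofNat 0, Int.ofNat 0, Int.ofNat 0, Int.negSucc 1, Int.ofNat 0, Int.ofNat 0, Int.ofNat 2, Int.ofNat 0, Int.ofNat 0, Int.ofNat 0, Int.ofNat 0, Int.ofNat 0],
  [Int.ofNat 0, Int.ofNat 0, Int.negSucc 1, Int.ofNat 0, Int.ofNat 0, Int.ofNat 0, Int.ofNat 0, Int.ofNat 0, Int.negSucc 1, Int.ofNat 2, Int.ofNat 0, Int.ofNat 0, Int.negSucc 1, Int.ofNat 0, Int.negSucc 1, Int.ofNat 0, Int.ofNat 0, Int.negSucc 1, Int.ofNat 0, Int.ofNat 0, Int.ofNat 2, Int.ofNat 0, Int.ofNat 0, Int.negSucc 1],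
  [Int.ofNat 0, Int.ofNat 0, Int.ofNat 0, Int.ofNat 0, Int.ofNat 0, Int.ofNat 0, Int.negSucc 1, Int.ofNat 0, Int.negSucc 1, Int.ofNat 0, Int.ofNat 2, Int.negSucc 1, Int.ofNat 2, Int.ofNat 0, Int.ofNat 0, Int.ofNat 0, Int.negSucc 1, Int.negSucc 1, Int.ofNat 0, Int.ofNat 0, Int.ofNat 0, Int.ofNat 0, Int.ofNat 0, Int.negSucc 1],
  [Int.negSucc 0, Int.negSucc 0, Int.negSucc 0, Int.ofNat 1, Int.ofNat 1, Int.ofNat 1, Int.negSucc 0, Int.ofNat 1, Int.negSucc 0, Int.negSucc 0, Int.ofNat 1, Int.negSucc 0, Int.ofNat 3, Int.ofNat 1, Int.ofNat 1, Int.negSucc 0, Int.negSucc 0, Int.negSucc 0, Int.ofNat 1, Int.ofNat 1, Int.negSucc 0, Int.ofNat 1, Int.ofNat 1, Int.ofNat 1],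
  [Int.negSucc 0, Int.negSucc 0, Int.ofNat 1, Int.ofNat 1, Int.ofNat 1, Int.negSucc 0, Int.ofNat 1, Int.ofNat 1, Int.negSucc 0, Int.ofNat 1, Int.negSucc 0, Int.negSucc 0, Int.ofNat 3, Int.ofNat 1, Int.ofNat 1, Int.ofNat 1, Int.negSucc 0, Int.negSucc 0, Int.negSucc 0, Int.ofNat 1, Int.negSucc 0, Int.ofNat 1, Int.negSucc 0, Int.ofNat 1],
  [Int.ofNat 3, Int.ofNat 1, Int.ofNat 1, Int.ofNat 1, Int.ofNat 1, Int.ofNat 1, Int.negSucc 0, Int.negSucc 0, Int.negSucc 0, Int.negSucc 0, Int.negSucc 0, Int.negSucc 0, Int.negSucc 0, Int.ofNat 1, Int.negSucc 0, Int.negSucc 0, Int.negSucc 0, Int.ofNat 1, Int.ofNat 1, Int.ofNat 1, Int.ofNat 1, Int.negSucc 0, Int.ofNat 1, Int.ofNat 1],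
  [Int.ofNat 3, Int.ofNat 1, Int.negSucc 0, Int.ofNat 1, Int.ofNat 1, Int.negSucc 0, Int.ofNat 1, Int.negSucc 0, Int.negSucc 0, Int.ofNat 1, Int.ofNat 1, Int.negSucc 0, Int.negSucc 0, Int.ofNat 1, Int.negSucc 0, Int.ofNat 1, Int.negSucc 0, Int.ofNat 1, Int.negSucc 0, Int.ofNat 1, Int.ofNat 1, Int.negSucc 0, Int.negSucc 0, Int.ofNat 1],
  [Int.negSucc 0, Int.ofNat 1, Int.ofNat 3, Int.ofNat 1, Int.ofNat 1, Int.negSucc 0, Int.ofNat 1, Int.negSucc 0, Int.ofNat 1, Int.negSucc 0, Int.negSucc 0, Int.ofNat 1, Int.ofNat 1, Int.ofNat 1, Int.negSucc 0, Int.negSucc 0, Int.negSucc 0, Int.ofNat 1, Int.ofNat 1, Int.ofNat 1, Int.negSucc 0, Int.negSucc 0, Int.negSucc 0, Int.ofNat 1],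
  [Int.negSucc 0, Int.ofNat 1, Int.ofNat 1, Int.ofNat 1, Int.ofNat 3, Int.negSucc 0, Int.ofNat 1, Int.negSucc 0, Int.negSucc 0, Int.ofNat 1, Int.negSucc 0, Int.ofNat 1, Int.ofNat 1, Int.negSucc 0, Int.ofNat 1, Int.negSucc 0, Int.ofNat 1, Int.ofNat 1, Int.ofNat 1, Int.negSucc 0, Int.negSucc 0, Int.negSucc 0, Int.negSucc 0, Int.ofNat 1],
  [Int.ofNat 2, Int.ofNat 0, Int.ofNat 0, Int.ofNat 0, Int.ofNat 2, Int.negSucc 1, Int.ofNat 2, Int.ofNat 0, Int.negSucc 1, Int.ofNat 2, Int.ofNat 0, Int.ofNat 0, Int.ofNat 0, Int.negSucc 1, Int.ofNat 0, Int.ofNat 0, Int.ofNat 0, Int.ofNat 0, Int.ofNat 0, Int.ofNat 0, Int.ofNat 0, Int.ofNat 0, Int.negSucc 1, Int.ofNat 0],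
  [Int.ofNat 0, Int.ofNat 0, Int.negSucc 1, Int.ofNat 2, Int.ofNat 0, Int.ofNat 0, Int.ofNat 0, Int.ofNat 2, Int.negSucc 1, Int.ofNat 2, Int.ofNat 0, Int.negSucc 1, Int.ofNat 2, Int.ofNat 0, Int.ofNat 0, Int.ofNat 0, Int.negSucc 1, Int.ofNat 0, Int.ofNat 0, Int.ofNat 0, Int.ofNat 0, Int.ofNat 0, Int.ofNat 0, Int.ofNat 0],
  [Int.negSucc 0, Int.negSucc 0, Int.ofNat 1, Int.ofNat 1, Int.ofNat 1, Int.negSucc 0, Int.negSucc 0, Int.ofNat 1, Int.negSucc 0, Int.ofNat 1, Int.negSucc 0, Int.negSucc 0, Int.ofNat 3, Int.ofNat 1, Int.negSucc 0, Int.negSucc 0, Int.negSucc 0, Int.negSucc 0, Int.ofNat 1, Int.negSucc 0, Int.negSucc 0, Int.negSucc 0, Int.ofNat 1, Int.negSucc 0],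
  [Int.negSucc 0, Int.ofNat 1, Int.ofNat 1, Int.ofNat 1, Int.negSucc 0, Int.negSucc 0, Int.ofNat 1, Int.negSucc 0, Int.ofNat 1, Int.negSucc 0, Int.negSucc 0, Int.ofNat 3, Int.ofNat 1, Int.negSucc 0, Int.negSucc 0, Int.negSucc 0, Int.negSucc 0, Int.ofNat 1, Int.negSucc 0, Int.negSucc 0, Int.negSucc 0, Int.ofNat 1, Int.negSucc 0, Int.negSucc 0],
  [Int.ofNat 1, Int.ofNat 1, Int.negSucc 0, Int.ofNat 1, Int.negSucc 0, Int.negSucc 0, Int.ofNat 1, Int.ofNat 1, Int.ofNat 1, Int.ofNat 1, Int.ofNat 1, Int.negSucc 2, Int.ofNat 1, Int.negSucc 0, Int.negSucc 0, Int.negSucc 0, Int.negSucc 0, Int.ofNat 1, Int.ofNat 1, Int.negSucc 0, Int.negSucc 0, Int.negSucc 0, Int.negSucc 0, Int.negSucc 0],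
  [Int.negSucc 0, Int.negSucc 0, Int.ofNat 1, Int.negSucc 0, Int.ofNat 1, Int.negSucc 0, Int.negSucc 0, Int.ofNat 1, Int.negSucc 0, Int.negSucc 0, Int.ofNat 1, Int.negSucc 2, Int.negSucc 0, Int.ofNat 1, Int.negSucc 0, Int.negSucc 0, Int.ofNat 1, Int.ofNat 1, Int.negSucc 0, Int.negSucc 0, Int.negSucc 0, Int.negSucc 0, Int.negSucc 0, Int.negSucc 0],
  [Int.negSucc 0, Int.ofNat 1, Int.negSucc 0, Int.negSucc 0, Int.negSucc 0, Int.ofNat 1, Int.ofNat 1, Int.negSucc 0, Int.negSucc 0, Int.ofNat 1, Int.negSucc 0, Int.negSucc 0, Int.ofNat 1, Int.negSucc 0, Int.negSucc 0, Int.negSucc 0, Int.negSucc 0, Int.negSucc 0, Int.negSucc 0, Int.ofNat 1, Int.negSucc 0, Int.ofNat 1, Int.negSucc 2, Int.negSucc 0],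
  [Int.ofNat 1, Int.ofNat 1, Int.ofNat 1, Int.negSucc 0, Int.negSucc 0, Int.ofNat 1, Int.ofNat 1, Int.ofNat 1, Int.negSucc 0, Int.negSucc 0, Int.ofNat 1, Int.ofNat 1, Int.ofNat 1, Int.negSucc 0, Int.negSucc 0, Int.negSucc 0, Int.negSucc 0, Int.negSucc 0, Int.ofNat 1, Int.ofNat 1, Int.negSucc 0, Int.negSucc 0, Int.negSucc 2, Int.negSucc 0],
  [Int.negSucc 2, Int.ofNat 1, Int.ofNat 1, Int.ofNat 1, Int.negSucc 0, Int.negSucc 0, Int.ofNat 1, Int.ofNat 1, Int.ofNat 1, Int.negSucc 0, Int.negSucc 0, Int.ofNat 1, Int.ofNat 1, Int.ofNat 1, Int.negSucc 0, Int.negSucc 0, Int.negSucc 0, Int.negSucc 0, Int.negSucc 0, Int.ofNat 1, Int.ofNat 1, Int.negSucc 0, Int.negSucc 0, Int.negSucc 0],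
  [Int.ofNat 2, Int.negSucc 1, Int.negSucc 1, Int.ofNat 2, Int.ofNat 0, Int.ofNat 0, Int.ofNat 0, Int.ofNat 0, Int.ofNat 0, Int.ofNat 0, Int.ofNat 0, Int.ofNat 0, Int.ofNat 0, Int.ofNat 2, Int.ofNat 0, Int.ofNat 0, Int.ofNat 0, Int.ofNat 0, Int.negSucc 1, Int.ofNat 0, Int.ofNat 2, Int.negSucc 1, Int.ofNat 0, Int.ofNat 0],
  [Int.ofNat 2, Int.ofNat 0, Int.ofNat 0, Int.ofNat 0, Int.ofNat 0, Int.ofNat 0, Int.ofNat 0, Int.ofNat 0, Int.ofNat 0, Int.ofNat 0, Int.ofNat 2, Int.ofNat 0, Int.ofNat 0, Int.ofNat 0, Int.ofNat 0, Int.negSucc 1, Int.ofNat 0, Int.ofNat 2, Int.negSucc 1, Int.ofNat 0, Int.ofNat 2, Int.negSucc 1, Int.negSucc 1, Int.ofNat 0],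
  [Int.negSucc 0, Int.ofNat 1, Int.ofNat 1, Int.negSucc 0, Int.ofNat 1, Int.negSucc 0, Int.ofNat 1, Int.ofNat 1, Int.ofNat 1, Int.negSucc 0, Int.ofNat 1, Int.ofNat 1, Int.ofNat 1, Int.ofNat 1, Int.negSucc 0, Int.negSucc 2, Int.ofNat 1, Int.ofNat 1, Int.negSucc 0, Int.ofNat 1, Int.ofNat 1, Int.negSucc 0, Int.negSucc 0, Int.ofNat 1],
  [Int.negSucc 0, Int.ofNat 1, Int.ofNat 1, Int.negSucc 0, Int.negSucc 0, Int.ofNat 1, Int.ofNat 1, Int.ofNat 1, Int.ofNat 1, Int.ofNat 1, Int.ofNat 1, Int.ofNat 1, Int.negSucc 0, Int.ofNat 1, Int.negSucc 0, Int.negSucc 2, Int.ofNat 1, Int.negSucc 0, Int.ofNat 1, Int.ofNat 1, Int.negSucc 0, Int.negSucc 0, Int.ofNat 1, Int.ofNat 1],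
  [Int.ofNat 2, Int.ofNat 0, Int.ofNat 0, Int.ofNat 0, Int.negSucc 1, Int.ofNat 2, Int.ofNat 0, Int.ofNat 0, Int.ofNat 0, Int.ofNat 2, Int.ofNat 2, Int.ofNat 0, Int.negSucc 1, Int.ofNat 0, Int.ofNat 0, Int.negSucc 1, Int.ofNat 0, Int.ofNat 0, Int.ofNat 0, Int.ofNat 0, Int.ofNat 0, Int.negSucc 1, Int.ofNat 0, Int.ofNat 0],
  [Int.ofNat 2, Int.ofNat 0, Int.ofNat 0, Int.ofNat 0, Int.negSucc 1, Int.negSucc 1, Int.ofNat 0, Int.ofNat 0, Int.ofNat 0, Int.negSucc 1, Int.negSucc 1, Int.ofNat 0, Int.negSucc 1, Int.ofNat 0, Int.ofNat 0, Int.ofNat 2, Int.ofNat 0, Int.ofNat 0, Int.ofNat 0, Int.ofNat 0, Int.ofNat 0, Int.negSucc 1, Int.ofNat 0, Int.ofNat 0],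
  [Int.negSucc 1, Int.ofNat 0, Int.ofNat 0, Int.ofNat 0, Int.ofNat 0, Int.ofNat 0, Int.negSucc 1, Int.ofNat 0, Int.negSucc 1, Int.ofNat 0, Int.ofNat 0, Int.ofNat 0, Int.ofNat 2, Int.negSucc 1, Int.ofNat 0, Int.ofNat 0, Int.ofNat 0, Int.negSucc 1, Int.negSucc 1, Int.ofNat 0, Int.ofNat 2, Int.ofNat 0, Int.ofNat 0, Int.ofNat 0],
  [Int.ofNat 0, Int.ofNat 0, Int.ofNat 0, Int.ofNat 0, Int.negSucc 1, Int.ofNat 0, Int.ofNat 0, Int.negSucc 1, Int.ofNat 2, Int.ofNat 0, Int.ofNat 0, Int.ofNat 0, Int.ofNat 0, Int.ofNat 0, Int.negSucc 1, Int.ofNat 0, Int.ofNat 0, Int.ofNat 0, Int.ofNat 0, Int.negSucc 1, Int.negSucc 1, Int.ofNat 2, Int.ofNat 0, Int.negSucc 1],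
  [Int.ofNat 0, Int.ofNat 0, Int.ofNat 0, Int.ofNat 0, Int.negSucc 1, Int.ofNat 0, Int.ofNat 0, Int.ofNat 2, Int.ofNat 2, Int.ofNat 0, Int.ofNat 0, Int.ofNat 0, Int.ofNat 0, Int.ofNat 0, Int.negSucc 1, Int.ofNat 0, Int.ofNat 0, Int.ofNat 0, Int.ofNat 0, Int.negSucc 1, Int.negSucc 1, Int.negSucc 1, Int.ofNat 0, Int.negSucc 1],
  [Int.ofNat 0, Int.ofNat 0, Int.ofNat 0, Int.ofNat 0, Int.ofNat 0, Int.negSucc 1, Int.ofNat 0, Int.ofNat 0, Int.ofNat 2, Int.ofNat 2, Int.ofNat 0, Int.ofNat 0, Int.ofNat 0, Int.ofNat 0, Int.ofNat 0, Int.negSucc 1, Int.ofNat 0, Int.ofNat 0, Int.ofNat 0, Int.ofNat 0, Int.negSucc 1, Int.negSucc 1, Int.negSucc 1, Int.negSucc 1],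
  [Int.negSucc 0, Int.negSucc 0, Int.negSucc 0, Int.ofNat 1, Int.ofNat 1, Int.negSucc 0, Int.ofNat 1, Int.ofNat 1, Int.ofNat 1, Int.ofNat 3, Int.ofNat 1, Int.negSucc 0, Int.negSucc 0, Int.ofNat 1, Int.ofNat 1, Int.negSucc 0, Int.ofNat 1, Int.ofNat 1, Int.negSucc 0, Int.ofNat 1, Int.negSucc 0, Int.negSucc 0, Int.negSucc 0, Int.ofNat 1],
  [Int.ofNat 1, Int.ofNat 1, Int.negSucc 0, Int.ofNat 1, Int.ofNat 1, Int.ofNat 1, Int.ofNat 3, Int.ofNat 1, Int.negSucc 0, Int.negSucc 0, Int.ofNat 1, Int.ofNat 1, Int.negSucc 0, Int.ofNat 1, Int.ofNat 1, Int.negSucc 0, Int.ofNat 1, Int.negSucc 0, Int.negSucc 0, Int.negSucc 0, Int.negSucc 0, Int.negSucc 0, Int.negSucc 0, Int.ofNat 1],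
  [Int.ofNat 0, Int.ofNat 0, Int.ofNat 2, Int.ofNat 0, Int.ofNat 0, Int.ofNat 0, Int.ofNat 2, Int.ofNat 0, Int.ofNat 0, Int.ofNat 0, Int.ofNat 2, Int.ofNat 2, Int.ofNat 0, Int.ofNat 0, Int.ofNat 0, Int.ofNat 0, Int.ofNat 0, Int.negSucc 1, Int.ofNat 0, Int.negSucc 1, Int.ofNat 0, Int.negSucc 1, Int.negSucc 1, Int.ofNat 0],
  [Int.ofNat 0, Int.ofNat 2, Int.ofNat 0, Int.ofNat 0, Int.ofNat 0, Int.ofNat 0, Int.ofNat 2, Int.ofNat 2, Int.ofNat 0, Int.ofNat 0, Int.ofNat 0, Int.negSucc 1, Int.ofNat 0, Int.ofNat 0, Int.negSucc 1, Int.ofNat 0, Int.ofNat 0, Int.ofNat 0, Int.ofNat 0, Int.ofNat 2, Int.negSucc 1, Int.ofNat 0, Int.negSucc 1, Int.ofNat 0],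
  [Int.ofNat 1, Int.negSucc 0, Int.ofNat 1, Int.ofNat 1, Int.ofNat 1, Int.ofNat 1, Int.negSucc 0, Int.negSucc 0, Int.ofNat 1, Int.ofNat 1, Int.ofNat 1, Int.negSucc 0, Int.ofNat 1, Int.ofNat 1, Int.negSucc 0, Int.ofNat 1, Int.ofNat 1, Int.ofNat 1, Int.ofNat 1, Int.negSucc 0, Int.negSucc 0, Int.negSucc 2, Int.negSucc 0, Int.ofNat 1],
  [Int.ofNat 1, Int.negSucc 0, Int.negSucc 0, Int.ofNat 1, Int.ofNat 1, Int.negSucc 0, Int.ofNat 1, Int.negSucc 0, Int.ofNat 1, Int.negSucc 0, Int.negSucc 0, Int.negSucc 0, Int.ofNat 1, Int.ofNat 1, Int.negSucc 0, Int.negSucc 0, Int.ofNat 1, Int.ofNat 1, Int.negSucc 0, Int.negSucc 0, Int.negSucc 0, Int.negSucc 2, Int.ofNat 1, Int.ofNat 1],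
  [Int.ofNat 1, Int.negSucc 0, Int.negSucc 0, Int.negSucc 0, Int.ofNat 1, Int.ofNat 1, Int.negSucc 0, Int.negSucc 0, Int.negSucc 0, Int.negSucc 0, Int.ofNat 1, Int.ofNat 1, Int.ofNat 1, Int.ofNat 1, Int.ofNat 1, Int.negSucc 0, Int.negSucc 0, Int.negSucc 0, Int.negSucc 0, Int.ofNat 1, Int.negSucc 2, Int.ofNat 1, Int.negSucc 0, Int.ofNat 1],
  [Int.ofNat 1, Int.negSucc 0, Int.ofNat 1, Int.negSucc 0, Int.ofNat 1, Int.negSucc 0, Int.ofNat 1, Int.negSucc 0, Int.negSucc 0, Int.ofNat 1, Int.negSucc 0, Int.ofNat 1, Int.ofNat 1, Int.ofNat 1, Int.ofNat 1, Int.ofNat 1, Int.negSucc 0, Int.negSucc 0, Int.ofNat 1, Int.ofNat 1, Int.negSucc 2, Int.ofNat 1, Int.ofNat 1, Int.ofNat 1],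
  [Int.ofNat 0, Int.ofNat 2, Int.ofNat 0, Int.ofNat 0, Int.ofNat 0, Int.ofNat 0, Int.ofNat 0, Int.negSucc 1, Int.negSucc 1, Int.ofNat 2, Int.ofNat 0, Int.ofNat 0, Int.ofNat 0, Int.ofNat 0, Int.ofNat 2, Int.ofNat 2, Int.negSucc 1, Int.ofNat 0, Int.ofNat 0, Int.ofNat 0, Int.negSucc 1, Int.ofNat 0, Int.ofNat 0, Int.ofNat 0],
  [Int.ofNat 0, Int.ofNat 0, Int.ofNat 0, Int.ofNat 0, Int.ofNat 0, Int.ofNat 0, Int.ofNat 2, Int.ofNat 0, Int.negSucc 1, Int.ofNat 0, Int.negSucc 1, Int.ofNat 0, Int.negSucc 1, Int.ofNat 2, Int.ofNat 0, Int.ofNat 2, Int.ofNat 0, Int.ofNat 0, Int.ofNat 0, Int.ofNat 0, Int.ofNat 0, Int.negSucc 1, Int.ofNat 2, Int.ofNat 0],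
  [Int.ofNat 0, Int.ofNat 0, Int.ofNat 0, Int.ofNat 0, Int.negSucc 1, Int.ofNat 0, Int.ofNat 2, Int.ofNat 0, Int.ofNat 0, Int.ofNat 0, Int.negSucc 1, Int.ofNat 2, Int.ofNat 0, Int.ofNat 0, Int.ofNat 0, Int.ofNat 2, Int.negSucc 1, Int.ofNat 0, Int.ofNat 2, Int.ofNat 0, Int.ofNat 0, Int.negSucc 1, Int.ofNat 0, Int.ofNat 0],
  [Int.ofNat 0, Int.negSucc 1, Int.ofNat 0, Int.ofNat 0, Int.ofNat 0, Int.ofNat 0, Int.ofNat 0, Int.negSucc 1, Int.ofNat 0, Int.ofNat 2, Int.ofNat 0, Int.ofNat 0, Int.ofNat 0, Int.negSucc 1, Int.ofNat 2, Int.ofNat 0, Int.ofNat 0, Int.ofNat 0, Int.ofNat 2, Int.negSucc 1, Int.ofNat 0, Int.ofNat 2, Int.ofNat 0, Int.ofNat 0],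
  [Int.negSucc 0, Int.ofNat 1, Int.negSucc 0, Int.negSucc 0, Int.ofNat 1, Int.negSucc 0, Int.ofNat 1, Int.negSucc 0, Int.negSucc 0, Int.ofNat 1, Int.negSucc 0, Int.negSucc 0, Int.negSucc 0, Int.negSucc 0, Int.ofNat 1, Int.negSucc 0, Int.ofNat 1, Int.negSucc 0, Int.ofNat 1, Int.negSucc 0, Int.negSucc 0, Int.ofNat 3, Int.ofNat 1, Int.negSucc 0],
  [Int.ofNat 1, Int.negSucc 0, Int.negSucc 0, Int.ofNat 1, Int.negSucc 0, Int.ofNat 1, Int.negSucc 0, Int.negSucc 0, Int.ofNat 1, Int.negSucc 0, Int.negSucc 0, Int.negSucc 0, Int.negSucc 0, Int.ofNat 1, Int.negSucc 0, Int.ofNat 1, Int.negSucc 0, Int.ofNat 1, Int.negSucc 0, Int.negSucc 0, Int.ofNat 3, Int.ofNat 1, Int.negSucc 0, Int.negSucc 0],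
  [Int.negSucc 0, Int.negSucc 0, Int.ofNat 1, Int.ofNat 1, Int.negSucc 0, Int.ofNat 1, Int.negSucc 0, Int.ofNat 1, Int.ofNat 1, Int.ofNat 1, Int.ofNat 1, Int.ofNat 1, Int.negSucc 0, Int.ofNat 1, Int.negSucc 0, Int.ofNat 1, Int.negSucc 0, Int.ofNat 1, Int.ofNat 1, Int.negSucc 0, Int.ofNat 3, Int.negSucc 0, Int.negSucc 0, Int.negSucc 0],
  [Int.ofNat 1, Int.ofNat 1, Int.negSucc 0, Int.negSucc 0, Int.ofNat 1, Int.ofNat 1, Int.ofNat 1, Int.ofNat 1, Int.negSucc 0, Int.negSucc 0, Int.ofNat 1, Int.ofNat 1, Int.ofNat 1, Int.negSucc 0, Int.negSucc 0, Int.ofNat 1, Int.ofNat 1, Int.ofNat 1, Int.negSucc 0, Int.negSucc 0, Int.ofNat 3, Int.negSucc 0, Int.negSucc 0, Int.negSucc 0],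
  [Int.ofNat 1, Int.negSucc 0, Int.negSucc 0, Int.negSucc 0, Int.ofNat 1, Int.ofNat 1, Int.ofNat 1, Int.ofNat 3, Int.negSucc 0, Int.ofNat 1, Int.negSucc 0, Int.negSucc 0, Int.negSucc 0, Int.negSucc 0, Int.negSucc 0, Int.ofNat 1, Int.ofNat 1, Int.negSucc 0, Int.ofNat 1, Int.ofNat 1, Int.ofNat 1, Int.ofNat 1, Int.ofNat 1, Int.negSucc 0],
  [Int.negSucc 0, Int.negSucc 0, Int.ofNat 1, Int.negSucc 0, Int.ofNat 1, Int.ofNat 1, Int.ofNat 1, Int.negSucc 2, Int.negSucc 0, Int.negSucc 0, Int.ofNat 1, Int.ofNat 1, Int.negSucc 0, Int.negSucc 0, Int.negSucc 0, Int.ofNat 1, Int.ofNat 1, Int.negSucc 0, Int.negSucc 0, Int.ofNat 1, Int.ofNat 1, Int.negSucc 0, Int.ofNat 1, Int.negSucc 0],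
  [Int.ofNat 1, Int.negSucc 0, Int.negSucc 0, Int.ofNat 1, Int.negSucc 0, Int.ofNat 1, Int.ofNat 1, Int.ofNat 1, Int.negSucc 2, Int.negSucc 0, Int.negSucc 0, Int.ofNat 1, Int.ofNat 1, Int.negSucc 0, Int.negSucc 0, Int.negSucc 0, Int.ofNat 1, Int.ofNat 1, Int.negSucc 0, Int.negSucc 0, Int.ofNat 1, Int.ofNat 1, Int.negSucc 0, Int.negSucc 0],
  [Int.negSucc 1, Int.ofNat 0, Int.ofNat 0, Int.ofNat 0, Int.ofNat 0, Int.ofNat 0, Int.ofNat 0, Int.ofNat 0, Int.negSucc 1, Int.ofNat 0, Int.ofNat 0, Int.ofNat 2, Int.ofNat 2, Int.ofNat 0, Int.negSucc 1, Int.ofNat 0, Int.ofNat 2, Int.ofNat 0, Int.ofNat 0, Int.negSucc 1, Int.ofNat 2, Int.ofNat 0, Int.ofNat 0, Int.ofNat 0],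
  [Int.ofNat 0, Int.ofNat 0, Int.ofNat 0, Int.ofNat 0, Int.ofNat 0, Int.negSucc 1, Int.ofNat 0, Int.ofNat 0, Int.ofNat 2, Int.ofNat 2, Int.ofNat 0, Int.negSucc 1, Int.ofNat 0, Int.ofNat 2, Int.ofNat 0, Int.ofNat 0, Int.negSucc 1, Int.ofNat 2, Int.ofNat 0, Int.ofNat 0, Int.negSucc 1, Int.ofNat 0, Int.ofNat 0, Int.ofNat 0],
  [Int.ofNat 0, Int.ofNat 0, Int.ofNat 0, Int.ofNat 0, Int.ofNat 0, Int.negSucc 1, Int.ofNat 0, Int.ofNat 0, Int.ofNat 2, Int.ofNat 2, Int.ofNat 0, Int.negSucc 1, Int.ofNat 0, Int.ofNat 2, Int.ofNat 0, Int.ofNat 0, Int.negSucc 1, Int.ofNat 2, Int.ofNat 0, Int.ofNat 0, Int.negSucc 1, Int.ofNat 0, Int.ofNat 0, Int.ofNat 0],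
  [Int.ofNat 0, Int.ofNat 0, Int.ofNat 0, Int.ofNat 0, Int.ofNat 0, Int.ofNat 0, Int.ofNat 0, Int.ofNat 0, Int.ofNat 0, Int.ofNat 2, Int.negSucc 1, Int.ofNat 2, Int.ofNat 2, Int.negSucc 1, Int.ofNat 0, Int.ofNat 0, Int.ofNat 2, Int.ofNat 0, Int.ofNat 0, Int.negSucc 1, Int.ofNat 0, Int.negSucc 1, Int.ofNat 0, Int.ofNat 0],
  [Int.ofNat 0, Int.ofNat 0, Int.ofNat 0, Int.ofNat 0, Int.ofNat 0, Int.ofNat 0, Int.ofNat 2, Int.ofNat 2, Int.negSucc 1, Int.ofNat 2, Int.negSucc 1, Int.ofNat 0, Int.ofNat 0, Int.negSucc 1, Int.ofNat 0, Int.ofNat 0, Int.ofNat 2, Int.ofNat 0, Int.negSucc 1, Int.ofNat 0, Int.ofNat 0, Int.ofNat 0, Int.ofNat 0, Int.ofNat 0],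
  [Int.ofNat 0, Int.ofNat 0, Int.ofNat 0, Int.ofNat 0, Int.ofNat 0, Int.ofNat 0, Int.negSucc 1, Int.ofNat 2, Int.negSucc 1, Int.negSucc 1, Int.ofNat 2, Int.ofNat 0, Int.ofNat 0, Int.negSucc 1, Int.ofNat 0, Int.ofNat 0, Int.ofNat 2, Int.ofNat 0, Int.ofNat 2, Int.ofNat 0, Int.ofNat 0, Int.ofNat 0, Int.ofNat 0, Int.ofNat 0],
  [Int.ofNat 2, Int.ofNat 2, Int.ofNat 0, Int.negSucc 1, Int.ofNat 0, Int.negSucc 1, Int.ofNat 0, Int.ofNat 0, Int.ofNat 0, Int.ofNat 0, Int.negSucc 1, Int.ofNat 2, Int.ofNat 0, Int.ofNat 0, Int.ofNat 0, Int.ofNat 2, Int.ofNat 0, Int.ofNat 0, Int.negSucc 1, Int.ofNat 0, Int.ofNat 0, Int.ofNat 0, Int.ofNat 0, Int.ofNat 0],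
  [Int.ofNat 0, Int.ofNat 0, Int.ofNat 2, Int.ofNat 2, Int.ofNat 0, Int.ofNat 0, Int.ofNat 0, Int.ofNat 0, Int.ofNat 0, Int.negSucc 1, Int.ofNat 0, Int.ofNat 0, Int.ofNat 0, Int.ofNat 0, Int.negSucc 1, Int.negSucc 1, Int.negSucc 1, Int.ofNat 0, Int.ofNat 0, Int.ofNat 0, Int.ofNat 0, Int.ofNat 0, Int.ofNat 2, Int.ofNat 2],
  [Int.ofNat 0, Int.ofNat 0, Int.negSucc 1, Int.ofNat 2, Int.ofNat 0, Int.ofNat 0, Int.ofNat 0, Int.ofNat 0, Int.ofNat 0, Int.ofNat 2, Int.ofNat 0, Int.ofNat 0, Int.ofNat 0, Int.ofNat 0, Int.negSucc 1, Int.negSucc 1, Int.negSucc 1, Int.ofNat 0, Int.ofNat 0, Int.ofNat 0, Int.ofNat 0, Int.ofNat 0, Int.ofNat 2, Int.ofNat 2],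
  [Int.ofNat 2, Int.ofNat 0, Int.ofNat 0, Int.negSucc 1, Int.ofNat 2, Int.ofNat 0, Int.ofNat 0, Int.ofNat 0, Int.ofNat 0, Int.ofNat 0, Int.ofNat 2, Int.ofNat 0, Int.ofNat 0, Int.ofNat 0, Int.ofNat 0, Int.negSucc 1, Int.negSucc 1, Int.negSucc 1, Int.ofNat 0, Int.ofNat 0, Int.ofNat 0, Int.ofNat 0, Int.ofNat 0, Int.ofNat 2],
  [Int.ofNat 0, Int.ofNat 2, Int.ofNat 2, Int.ofNat 0, Int.ofNat 2, Int.ofNat 2, Int.ofNat 0, Int.ofNat 0, Int.ofNat 0, Int.ofNat 0, Int.ofNat 2, Int.ofNat 0, Int.ofNat 0, Int.ofNat 0, Int.ofNat 2, Int.negSucc 1, Int.negSucc 1, Int.ofNat 0, Int.ofNat 0, Int.ofNat 0, Int.ofNat 0, Int.ofNat 0, Int.ofNat 0, Int.ofNat 0],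
  [Int.ofNat 0, Int.ofNat 2, Int.ofNat 2, Int.ofNat 0, Int.ofNat 0, Int.ofNat 0, Int.ofNat 0, Int.ofNat 2, Int.ofNat 0, Int.ofNat 0, Int.ofNat 0, Int.ofNat 2, Int.negSucc 1, Int.negSucc 1, Int.ofNat 0, Int.ofNat 0, Int.ofNat 0, Int.ofNat 0, Int.ofNat 0, Int.ofNat 0, Int.ofNat 0, Int.ofNat 2, Int.ofNat 2, Int.ofNat 0],
  [Int.ofNat 2, Int.ofNat 0, Int.ofNat 0, Int.ofNat 0, Int.ofNat 0, Int.ofNat 0, Int.negSucc 1, Int.ofNat 0, Int.ofNat 0, Int.ofNat 0, Int.ofNat 0, Int.ofNat 2, Int.negSucc 1, Int.negSucc 1, Int.ofNat 0, Int.ofNat 0, Int.ofNat 0, Int.ofNat 0, Int.ofNat 0, Int.negSucc 1, Int.ofNat 0, Int.ofNat 0, Int.ofNat 2, Int.ofNat 2],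
  [Int.ofNat 2, Int.negSucc 1, Int.ofNat 0, Int.ofNat 0, Int.ofNat 0, Int.ofNat 0, Int.ofNat 0, Int.ofNat 0, Int.negSucc 1, Int.negSucc 1, Int.ofNat 0, Int.ofNat 0, Int.ofNat 0, Int.ofNat 0, Int.ofNat 2, Int.ofNat 0, Int.ofNat 0, Int.ofNat 0, Int.ofNat 0, Int.ofNat 2, Int.ofNat 0, Int.ofNat 0, Int.negSucc 1, Int.ofNat 2],
  [Int.negSucc 0, Int.ofNat 3, Int.ofNat 1, Int.negSucc 0, Int.ofNat 1, Int.negSucc 0, Int.negSucc 0, Int.negSucc 0, Int.negSucc 0, Int.negSucc 0, Int.ofNat 1, Int.ofNat 1, Int.ofNat 1, Int.ofNat 1, Int.ofNat 1, Int.ofNat 1, Int.ofNat 1, Int.negSucc 0, Int.ofNat 1, Int.ofNat 1, Int.ofNat 1, Int.negSucc 0, Int.negSucc 0, Int.negSucc 0],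
  [Int.negSucc 0, Int.ofNat 3, Int.negSucc 0, Int.negSucc 0, Int.ofNat 1, Int.ofNat 1, Int.ofNat 1, Int.negSucc 0, Int.negSucc 0, Int.ofNat 1, Int.negSucc 0, Int.ofNat 1, Int.ofNat 1, Int.ofNat 1, Int.ofNat 1, Int.negSucc 0, Int.ofNat 1, Int.negSucc 0, Int.negSucc 0, Int.ofNat 1, Int.ofNat 1, Int.negSucc 0, Int.ofNat 1, Int.negSucc 0],
  [Int.ofNat 1, Int.ofNat 1, Int.ofNat 1, Int.ofNat 1, Int.ofNat 1, Int.ofNat 1, Int.ofNat 1, Int.ofNat 1, Int.negSucc 0, Int.negSucc 0, Int.negSucc 0, Int.ofNat 1, Int.negSucc 0, Int.negSucc 0, Int.ofNat 1, Int.ofNat 1, Int.ofNat 3, Int.negSucc 0, Int.negSucc 0, Int.ofNat 1, Int.negSucc 0, Int.negSucc 0, Int.negSucc 0, Int.negSucc 0],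
  [Int.ofNat 1, Int.ofNat 1, Int.negSucc 0, Int.ofNat 1, Int.ofNat 1, Int.negSucc 0, Int.negSucc 0, Int.ofNat 1, Int.negSucc 0, Int.ofNat 1, Int.ofNat 1, Int.ofNat 1, Int.negSucc 0, Int.negSucc 0, Int.ofNat 1, Int.negSucc 0, Int.ofNat 3, Int.negSucc 0, Int.ofNat 1, Int.ofNat 1, Int.negSucc 0, Int.negSucc 0, Int.ofNat 1, Int.negSucc 0],
  [Int.negSucc 0, Int.negSucc 0, Int.ofNat 1, Int.ofNat 1, Int.negSucc 0, Int.negSucc 0, Int.negSucc 0, Int.ofNat 1, Int.negSucc 0, Int.ofNat 1, Int.ofNat 1, Int.ofNat 1, Int.negSucc 0, Int.negSucc 2, Int.ofNat 1, Int.negSucc 0, Int.ofNat 1, Int.negSucc 0, Int.ofNat 1, Int.ofNat 1, Int.negSucc 0, Int.negSucc 0, Int.negSucc 0, Int.ofNat 1],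
  [Int.negSucc 0, Int.ofNat 1, Int.negSucc 0, Int.ofNat 1, Int.ofNat 1, Int.negSucc 0, Int.negSucc 0, Int.negSucc 0, Int.ofNat 1, Int.negSucc 0, Int.ofNat 1, Int.ofNat 1, Int.negSucc 0, Int.ofNat 1, Int.negSucc 0, Int.negSucc 0, Int.negSucc 2, Int.ofNat 1, Int.negSucc 0, Int.negSucc 0, Int.ofNat 1, Int.negSucc 0, Int.ofNat 1, Int.ofNat 1],
  [Int.ofNat 1, Int.negSucc 0, Int.ofNat 1, Int.ofNat 1, Int.ofNat 1, Int.negSucc 0, Int.ofNat 1, Int.ofNat 1, Int.ofNat 1, Int.negSucc 0, Int.ofNat 1, Int.ofNat 1, Int.negSucc 0, Int.ofNat 1, Int.negSucc 0, Int.negSucc 0, Int.negSucc 2, Int.ofNat 1, Int.negSucc 0, Int.ofNat 1, Int.ofNat 1, Int.ofNat 1, Int.ofNat 1, Int.negSucc 0],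
  [Int.ofNat 1, Int.ofNat 1, Int.ofNat 1, Int.ofNat 1, Int.negSucc 0, Int.ofNat 1, Int.ofNat 1, Int.ofNat 1, Int.negSucc 0, Int.ofNat 1, Int.ofNat 1, Int.ofNat 1, Int.negSucc 0, Int.ofNat 1, Int.ofNat 1, Int.negSucc 0, Int.ofNat 1, Int.negSucc 0, Int.negSucc 0, Int.negSucc 2, Int.ofNat 1, Int.negSucc 0, Int.ofNat 1, Int.negSucc 0],
  [Int.ofNat 0, Int.ofNat 0, Int.ofNat 0, Int.ofNat 0, Int.negSucc 1, Int.ofNat 0, Int.ofNat 2, Int.ofNat 2, Int.ofNat 0, Int.ofNat 0, Int.ofNat 0, Int.ofNat 2, Int.ofNat 0, Int.ofNat 0, Int.ofNat 0, Int.negSucc 1, Int.ofNat 0, Int.negSucc 1, Int.ofNat 0, Int.negSucc 1, Int.ofNat 0, Int.ofNat 0, Int.ofNat 0, Int.ofNat 2],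
  [Int.ofNat 0, Int.ofNat 0, Int.ofNat 0, Int.negSucc 1, Int.ofNat 0, Int.ofNat 2, Int.ofNat 2, Int.ofNat 0, Int.ofNat 0, Int.ofNat 0, Int.ofNat 2, Int.ofNat 0, Int.ofNat 0, Int.ofNat 0, Int.negSucc 1, Int.ofNat 0, Int.negSucc 1, Int.ofNat 0, Int.negSucc 1, Int.ofNat 0, Int.ofNat 0, Int.ofNat 0, Int.ofNat 0, Int.ofNat 2],
  [Int.ofNat 0, Int.ofNat 0, Int.ofNat 0, Int.negSucc 1, Int.ofNat 0, Int.ofNat 2, Int.ofNat 2, Int.ofNat 0, Int.ofNat 0, Int.ofNat 0, Int.negSucc 1, Int.ofNat 0, Int.ofNat 0, Int.ofNat 0, Int.negSucc 1, Int.ofNat 0, Int.negSucc 1, Int.ofNat 0, Int.ofNat 2, Int.ofNat 0, Int.ofNat 0, Int.ofNat 0, Int.ofNat 0, Int.ofNat 2],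
  [Int.ofNat 0, Int.ofNat 0, Int.ofNat 0, Int.ofNat 2, Int.ofNat 0, Int.ofNat 2, Int.negSucc 1, Int.ofNat 0, Int.ofNat 0, Int.ofNat 0, Int.negSucc 1, Int.ofNat 0, Int.ofNat 0, Int.ofNat 0, Int.negSucc 1, Int.ofNat 0, Int.ofNat 2, Int.ofNat 0, Int.negSucc 1, Int.ofNat 0, Int.ofNat 0, Int.ofNat 0, Int.ofNat 0, Int.ofNat 2],
  [Int.ofNat 0, Int.ofNat 0, Int.negSucc 1, Int.ofNat 2, Int.ofNat 0, Int.negSucc 1, Int.ofNat 0, Int.ofNat 0, Int.ofNat 0, Int.ofNat 2, Int.ofNat 0, Int.negSucc 1, Int.ofNat 0, Int.ofNat 0, Int.ofNat 0, Int.ofNat 0, Int.ofNat 0, Int.ofNat 0, Int.negSucc 1, Int.ofNat 0, Int.ofNat 2, Int.ofNat 0, Int.ofNat 0, Int.ofNat 2],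
  [Int.ofNat 0, Int.ofNat 0, Int.ofNat 2, Int.ofNat 2, Int.ofNat 0, Int.negSucc 1, Int.ofNat 0, Int.ofNat 0, Int.ofNat 0, Int.negSucc 1, Int.ofNat 0, Int.ofNat 2, Int.ofNat 0, Int.ofNat 0, Int.ofNat 0, Int.ofNat 0, Int.ofNat 0, Int.ofNat 0, Int.ofNat 2, Int.ofNat 0, Int.ofNat 2, Int.ofNat 0, Int.ofNat 0, Int.ofNat 2],
  [Int.ofNat 0, Int.ofNat 0, Int.ofNat 0, Int.ofNat 2, Int.ofNat 2, Int.ofNat 0, Int.negSucc 1, Int.ofNat 0, Int.ofNat 0, Int.ofNat 0, Int.negSucc 1, Int.ofNat 0, Int.ofNat 2, Int.ofNat 0, Int.ofNat 0, Int.ofNat 0, Int.ofNat 0, Int.ofNat 0, Int.ofNat 0, Int.ofNat 2, Int.ofNat 0, Int.ofNat 2, Int.ofNat 0, Int.ofNat 2],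
  [Int.ofNat 1, Int.ofNat 1, Int.ofNat 1, Int.ofNat 1, Int.ofNat 1, Int.negSucc 0, Int.negSucc 2, Int.negSucc 0, Int.negSucc 0, Int.ofNat 1, Int.negSucc 0, Int.negSucc 0, Int.ofNat 1, Int.negSucc 0, Int.negSucc 0, Int.ofNat 1, Int.negSucc 0, Int.negSucc 0, Int.negSucc 0, Int.ofNat 1, Int.ofNat 1, Int.ofNat 1, Int.negSucc 0, Int.negSucc 0],
  [Int.ofNat 1, Int.ofNat 1, Int.negSucc 0, Int.negSucc 2, Int.negSucc 0, Int.negSucc 0, Int.ofNat 1, Int.negSucc 0, Int.negSucc 0, Int.ofNat 1, Int.negSucc 0, Int.negSucc 0, Int.ofNat 1, Int.negSucc 0, Int.negSucc 0, Int.negSucc 0, Int.ofNat 1, Int.ofNat 1, Int.ofNat 1, Int.negSucc 0, Int.ofNat 1, Int.ofNat 1, Int.ofNat 1, Int.negSucc 0],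
  [Int.negSucc 0, Int.negSucc 0, Int.ofNat 1, Int.negSucc 0, Int.negSucc 0, Int.ofNat 1, Int.ofNat 1, Int.negSucc 0, Int.negSucc 0, Int.ofNat 1, Int.negSucc 0, Int.negSucc 0, Int.ofNat 1, Int.negSucc 0, Int.ofNat 1, Int.negSucc 0, Int.ofNat 1, Int.ofNat 3, Int.ofNat 1, Int.negSucc 0, Int.ofNat 1, Int.ofNat 1, Int.ofNat 1, Int.ofNat 1],
  [Int.negSucc 0, Int.ofNat 1, Int.negSucc 0, Int.negSucc 0, Int.ofNat 1, Int.negSucc 0, Int.ofNat 1, Int.negSucc 0, Int.ofNat 1, Int.negSucc 0, Int.ofNat 1, Int.ofNat 3, Int.ofNat 1, Int.ofNat 1, Int.ofNat 1, Int.negSucc 0, Int.negSucc 0, Int.ofNat 1, Int.negSucc 0, Int.negSucc 0, Int.ofNat 1, Int.ofNat 1, Int.negSucc 0, Int.ofNat 1],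
  [Int.ofNat 1, Int.negSucc 0, Int.ofNat 1, Int.negSucc 0, Int.ofNat 1, Int.negSucc 0, Int.ofNat 1, Int.negSucc 0, Int.negSucc 0, Int.negSucc 0, Int.ofNat 1, Int.ofNat 1, Int.negSucc 0, Int.ofNat 1, Int.ofNat 1, Int.negSucc 0, Int.negSucc 0, Int.ofNat 1, Int.negSucc 2, Int.negSucc 0, Int.ofNat 1, Int.ofNat 1, Int.negSucc 0, Int.negSucc 0],
  [Int.ofNat 1, Int.negSucc 0, Int.negSucc 0, Int.negSucc 0, Int.ofNat 1, Int.ofNat 1, Int.negSucc 0, Int.negSucc 0, Int.negSucc 0, Int.ofNat 1, Int.negSucc 0, Int.ofNat 1, Int.negSucc 0, Int.ofNat 1, Int.ofNat 1, Int.ofNat 1, Int.negSucc 0, Int.ofNat 1, Int.ofNat 3, Int.negSucc 0, Int.ofNat 1, Int.ofNat 1, Int.ofNat 1, Int.negSucc 0],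
  [Int.negSucc 0, Int.negSucc 0, Int.ofNat 1, Int.negSucc 0, Int.ofNat 1, Int.negSucc 0, Int.ofNat 1, Int.negSucc 0, Int.ofNat 1, Int.ofNat 1, Int.ofNat 1, Int.negSucc 0, Int.ofNat 1, Int.ofNat 1, Int.ofNat 1, Int.ofNat 3, Int.negSucc 0, Int.negSucc 0, Int.ofNat 1, Int.negSucc 0, Int.ofNat 1, Int.negSucc 0, Int.ofNat 1, Int.negSucc 0],
  [Int.negSucc 0, Int.ofNat 1, Int.negSucc 0, Int.ofNat 3, Int.negSucc 0, Int.ofNat 1, Int.negSucc 0, Int.ofNat 1, Int.ofNat 1, Int.negSucc 0, Int.negSucc 0, Int.ofNat 1, Int.negSucc 0, Int.negSucc 0, Int.ofNat 1, Int.negSucc 0, Int.ofNat 1, Int.ofNat 1, Int.ofNat 1, Int.ofNat 1, Int.ofNat 1, Int.ofNat 1, Int.negSucc 0, Int.negSucc 0],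
  [Int.ofNat 1, Int.ofNat 1, Int.ofNat 1, Int.ofNat 3, Int.negSucc 0, Int.ofNat 1, Int.negSucc 0, Int.negSucc 0, Int.ofNat 1, Int.ofNat 1, Int.ofNat 1, Int.negSucc 0, Int.negSucc 0, Int.negSucc 0, Int.ofNat 1, Int.negSucc 0, Int.ofNat 1, Int.ofNat 1, Int.negSucc 0, Int.ofNat 1, Int.ofNat 1, Int.negSucc 0, Int.negSucc 0, Int.negSucc 0],
  [Int.negSucc 0, Int.ofNat 1, Int.ofNat 1, Int.ofNat 1, Int.ofNat 3, Int.negSucc 0, Int.ofNat 1, Int.negSucc 0, Int.negSucc 0, Int.ofNat 1, Int.ofNat 1, Int.ofNat 1, Int.negSucc 0, Int.negSucc 0, Int.negSucc 0, Int.ofNat 1, Int.negSucc 0, Int.ofNat 1, Int.ofNat 1, Int.negSucc 0, Int.ofNat 1, Int.ofNat 1, Int.negSucc 0, Int.negSucc 0],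
  [Int.ofNat 1, Int.negSucc 0, Int.negSucc 0, Int.ofNat 1, Int.ofNat 3, Int.negSucc 0, Int.ofNat 1, Int.negSucc 0, Int.negSucc 0, Int.negSucc 0, Int.negSucc 0, Int.ofNat 1, Int.negSucc 0, Int.negSucc 0, Int.negSucc 0, Int.negSucc 0, Int.negSucc 0, Int.ofNat 1, Int.ofNat 1, Int.negSucc 0, Int.negSucc 0, Int.ofNat 1, Int.negSucc 0, Int.ofNat 1],
  [Int.ofNat 1, Int.ofNat 3, Int.negSucc 0, Int.ofNat 1, Int.negSucc 0, Int.negSucc 0, Int.negSucc 0, Int.negSucc 0, Int.ofNat 1, Int.negSucc 0, Int.negSucc 0, Int.negSucc 0, Int.negSucc 0, Int.negSucc 0, Int.ofNat 1, Int.ofNat 1, Int.negSucc 0, Int.negSucc 0, Int.ofNat 1, Int.negSucc 0, Int.ofNat 1, Int.negSucc 0, Int.negSucc 0, Int.ofNat 1],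
  [Int.ofNat 1, Int.negSucc 0, Int.ofNat 3, Int.ofNat 1, Int.ofNat 1, Int.negSucc 0, Int.ofNat 1, Int.ofNat 1, Int.ofNat 1, Int.negSucc 0, Int.negSucc 0, Int.negSucc 0, Int.negSucc 0, Int.ofNat 1, Int.ofNat 1, Int.ofNat 1, Int.ofNat 1, Int.negSucc 0, Int.ofNat 1, Int.ofNat 1, Int.ofNat 1, Int.ofNat 1, Int.ofNat 1, Int.ofNat 1],
  [Int.ofNat 1, Int.ofNat 1, Int.ofNat 1, Int.ofNat 1, Int.ofNat 1, Int.ofNat 1, Int.ofNat 3, Int.negSucc 0, Int.negSucc 0, Int.ofNat 1, Int.ofNat 1, Int.negSucc 0, Int.negSucc 0, Int.ofNat 1, Int.ofNat 1, Int.ofNat 1, Int.ofNat 1, Int.ofNat 1, Int.negSucc 0, Int.negSucc 0, Int.ofNat 1, Int.negSucc 0, Int.ofNat 1, Int.ofNat 1],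
  [Int.ofNat 1, Int.ofNat 1, Int.ofNat 1, Int.negSucc 0, Int.negSucc 0, Int.negSucc 0, Int.ofNat 3, Int.negSucc 0, Int.ofNat 1, Int.negSucc 0, Int.negSucc 0, Int.ofNat 1, Int.ofNat 1, Int.negSucc 0, Int.negSucc 0, Int.negSucc 0, Int.negSucc 0, Int.negSucc 0, Int.ofNat 1, Int.negSucc 0, Int.negSucc 0, Int.negSucc 0, Int.negSucc 0, Int.ofNat 1],
  [Int.ofNat 1, Int.ofNat 1, Int.negSucc 0, Int.negSucc 0, Int.negSucc 0, Int.ofNat 1, Int.negSucc 2, Int.negSucc 0, Int.ofNat 1, Int.ofNat 1, Int.ofNat 1, Int.ofNat 1, Int.ofNat 1, Int.negSucc 0, Int.negSucc 0, Int.ofNat 1, Int.negSucc 0, Int.negSucc 0, Int.negSucc 0, Int.negSucc 0, Int.negSucc 0, Int.negSucc 0, Int.ofNat 1, Int.ofNat 1],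
  [Int.ofNat 1, Int.ofNat 1, Int.negSucc 0, Int.negSucc 0, Int.negSucc 0, Int.negSucc 2, Int.ofNat 1, Int.ofNat 1, Int.ofNat 1, Int.negSucc 0, Int.ofNat 1, Int.ofNat 1, Int.negSucc 0, Int.negSucc 0, Int.negSucc 0, Int.negSucc 0, Int.ofNat 1, Int.negSucc 0, Int.ofNat 1, Int.negSucc 0, Int.negSucc 0, Int.ofNat 1, Int.negSucc 0, Int.ofNat 1],
  [Int.ofNat 1, Int.ofNat 1, Int.ofNat 1, Int.negSucc 0, Int.negSucc 0, Int.ofNat 3, Int.negSucc 0, Int.ofNat 1, Int.ofNat 1, Int.ofNat 1, Int.negSucc 0, Int.ofNat 1, Int.negSucc 0, Int.negSucc 0, Int.negSucc 0, Int.ofNat 1, Int.ofNat 1, Int.negSucc 0, Int.negSucc 0, Int.negSucc 0, Int.negSucc 0, Int.ofNat 1, Int.ofNat 1, Int.ofNat 1],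
  [Int.ofNat 1, Int.ofNat 1, Int.ofNat 1, Int.negSucc 0, Int.negSucc 0, Int.ofNat 3, Int.negSucc 0, Int.ofNat 1, Int.ofNat 1, Int.ofNat 1, Int.negSucc 0, Int.ofNat 1, Int.negSucc 0, Int.negSucc 0, Int.negSucc 0, Int.ofNat 1, Int.ofNat 1, Int.negSucc 0, Int.negSucc 0, Int.negSucc 0, Int.negSucc 0, Int.ofNat 1, Int.ofNat 1, Int.ofNat 1],
  [Int.ofNat 1, Int.negSucc 0, Int.negSucc 0, Int.negSucc 0, Int.ofNat 1, Int.ofNat 1, Int.ofNat 1, Int.ofNat 3, Int.ofNat 1, Int.negSucc 0, Int.ofNat 1, Int.negSucc 0, Int.ofNat 1, Int.ofNat 1, Int.negSucc 0, Int.ofNat 1, Int.negSucc 0, Int.ofNat 1, Int.negSucc 0, Int.ofNat 1, Int.negSucc 0, Int.negSucc 0, Int.negSucc 0, Int.ofNat 1],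
  [Int.negSucc 0, Int.ofNat 1, Int.ofNat 1, Int.negSucc 0, Int.ofNat 1, Int.ofNat 1, Int.negSucc 0, Int.ofNat 1, Int.ofNat 1, Int.negSucc 0, Int.ofNat 1, Int.negSucc 0, Int.ofNat 1, Int.ofNat 1, Int.negSucc 0, Int.ofNat 1, Int.negSucc 0, Int.ofNat 1, Int.negSucc 0, Int.negSucc 0, Int.negSucc 0, Int.negSucc 2, Int.negSucc 0, Int.negSucc 0],
  [Int.negSucc 0, Int.negSucc 2, Int.negSucc 0, Int.negSucc 0, Int.ofNat 1, Int.ofNat 1, Int.negSucc 0, Int.ofNat 1, Int.ofNat 1, Int.negSucc 0, Int.ofNat 1, Int.ofNat 1, Int.negSucc 0, Int.ofNat 1, Int.negSucc 0, Int.ofNat 1, Int.ofNat 1, Int.negSucc 0, Int.ofNat 1, Int.negSucc 0, Int.ofNat 1, Int.negSucc 0, Int.negSucc 0, Int.negSucc 0],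
  [Int.negSucc 1, Int.ofNat 0, Int.negSucc 1, Int.ofNat 0, Int.ofNat 0, Int.ofNat 2, Int.ofNat 0, Int.ofNat 2, Int.ofNat 0, Int.negSucc 1, Int.ofNat 0, Int.ofNat 0, Int.negSucc 1, Int.ofNat 0, Int.ofNat 0, Int.ofNat 0, Int.ofNat 0, Int.ofNat 0, Int.ofNat 0, Int.ofNat 0, Int.ofNat 0, Int.ofNat 0, Int.negSucc 1, Int.negSucc 1],
  [Int.ofNat 0, Int.negSucc 1, Int.ofNat 0, Int.ofNat 0, Int.ofNat 2, Int.ofNat 0, Int.ofNat 2, Int.ofNat 0, Int.negSucc 1, Int.ofNat 0, Int.ofNat 0, Int.negSucc 1, Int.ofNat 0, Int.ofNat 0, Int.ofNat 0, Int.ofNat 0, Int.ofNat 0, Int.ofNat 0, Int.ofNat 0, Int.ofNat 0, Int.ofNat 0, Int.negSucc 1, Int.negSucc 1, Int.negSucc 1],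
  [Int.ofNat 0, Int.negSucc 1, Int.ofNat 0, Int.ofNat 0, Int.ofNat 2, Int.ofNat 0, Int.ofNat 2, Int.ofNat 0, Int.negSucc 1, Int.ofNat 0, Int.ofNat 0, Int.ofNat 2, Int.ofNat 0, Int.ofNat 0, Int.ofNat 0, Int.ofNat 0, Int.ofNat 0, Int.ofNat 0, Int.ofNat 0, Int.ofNat 0, Int.ofNat 0, Int.ofNat 2, Int.negSucc 1, Int.negSucc 1],
  [Int.ofNat 0, Int.ofNat 2, Int.ofNat 0, Int.ofNat 0, Int.negSucc 1, Int.ofNat 0, Int.negSucc 1, Int.ofNat 0, Int.ofNat 2, Int.ofNat 0, Int.ofNat 0, Int.ofNat 2, Int.ofNat 0, Int.ofNat 0, Int.ofNat 0, Int.ofNat 0, Int.ofNat 0, Int.ofNat 0, Int.ofNat 0, Int.ofNat 0, Int.ofNat 0, Int.ofNat 2, Int.negSucc 1, Int.negSucc 1],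
  [Int.ofNat 0, Int.ofNat 0, Int.ofNat 0, Int.ofNat 0, Int.ofNat 2, Int.ofNat 0, Int.negSucc 1, Int.ofNat 0, Int.ofNat 0, Int.ofNat 0, Int.ofNat 2, Int.ofNat 0, Int.ofNat 0, Int.ofNat 2, Int.ofNat 0, Int.ofNat 0, Int.ofNat 0, Int.negSucc 1, Int.negSucc 1, Int.ofNat 0, Int.ofNat 0, Int.ofNat 0, Int.ofNat 2, Int.negSucc 1],
  [Int.ofNat 0, Int.ofNat 0, Int.ofNat 0, Int.ofNat 0, Int.ofNat 2, Int.ofNat 0, Int.negSucc 1, Int.ofNat 0, Int.ofNat 0, Int.ofNat 0, Int.negSucc 1, Int.ofNat 0, Int.ofNat 0, Int.ofNat 2, Int.ofNat 0, Int.ofNat 0, Int.ofNat 0, Int.negSucc 1, Int.ofNat 2, Int.ofNat 0, Int.ofNat 0, Int.ofNat 0, Int.ofNat 2, Int.negSucc 1],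
  [Int.ofNat 2, Int.ofNat 0, Int.ofNat 0, Int.ofNat 0, Int.ofNat 0, Int.ofNat 2, Int.ofNat 0, Int.negSucc 1, Int.ofNat 0, Int.ofNat 0, Int.ofNat 0, Int.negSucc 1, Int.ofNat 0, Int.ofNat 0, Int.ofNat 2, Int.ofNat 0, Int.ofNat 0, Int.ofNat 0, Int.negSucc 1, Int.ofNat 2, Int.ofNat 0, Int.ofNat 0, Int.ofNat 0, Int.negSucc 1],
  [Int.negSucc 1, Int.ofNat 0, Int.ofNat 0, Int.negSucc 1, Int.ofNat 0, Int.ofNat 0, Int.ofNat 0, Int.negSucc 1, Int.ofNat 2, Int.ofNat 0, Int.ofNat 0, Int.ofNat 0, Int.ofNat 2, Int.ofNat 0, Int.ofNat 0, Int.ofNat 0, Int.ofNat 0, Int.negSucc 1, Int.ofNat 0, Int.ofNat 2, Int.ofNat 0, Int.ofNat 0, Int.ofNat 0, Int.ofNat 2],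
  [Int.negSucc 1, Int.ofNat 0, Int.ofNat 0, Int.ofNat 0, Int.negSucc 1, Int.ofNat 2, Int.ofNat 0, Int.ofNat 0, Int.ofNat 0, Int.ofNat 2, Int.ofNat 0, Int.ofNat 0, Int.ofNat 0, Int.ofNat 0, Int.negSucc 1, Int.ofNat 0, Int.ofNat 2, Int.ofNat 0, Int.ofNat 0, Int.ofNat 0, Int.negSucc 1, Int.ofNat 0, Int.ofNat 0, Int.ofNat 2],
  [Int.ofNat 2, Int.ofNat 0, Int.ofNat 0, Int.ofNat 0, Int.negSucc 1, Int.ofNat 2, Int.ofNat 0, Int.ofNat 0, Int.ofNat 0, Int.ofNat 2, Int.ofNat 0, Int.ofNat 0, Int.ofNat 0, Int.ofNat 0, Int.negSucc 1, Int.ofNat 0, Int.ofNat 2, Int.ofNat 0, Int.ofNat 0, Int.ofNat 0, Int.negSucc 1, Int.ofNat 0, Int.ofNat 0, Int.negSucc 1],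
  [Int.ofNat 2, Int.ofNat 0, Int.negSucc 1, Int.ofNat 0, Int.ofNat 0, Int.ofNat 0, Int.ofNat 0, Int.ofNat 0, Int.ofNat 0, Int.ofNat 0, Int.negSucc 1, Int.ofNat 0, Int.ofNat 2, Int.ofNat 2, Int.ofNat 0, Int.ofNat 0, Int.ofNat 0, Int.negSucc 1, Int.ofNat 0, Int.ofNat 0, Int.ofNat 0, Int.ofNat 2, Int.ofNat 0, Int.negSucc 1],
  [Int.negSucc 2, Int.negSucc 0, Int.ofNat 1, Int.ofNat 1, Int.negSucc 0, Int.ofNat 1, Int.negSucc 0, Int.negSucc 0, Int.negSucc 0, Int.ofNat 1, Int.negSucc 0, Int.negSucc 0, Int.ofNat 1, Int.ofNat 1, Int.ofNat 1, Int.ofNat 1, Int.negSucc 0, Int.negSucc 0, Int.negSucc 0, Int.negSucc 0, Int.ofNat 1, Int.ofNat 1, Int.negSucc 0, Int.ofNat 1],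
  [Int.negSucc 2, Int.negSucc 0, Int.negSucc 0, Int.ofNat 1, Int.negSucc 0, Int.negSucc 0, Int.ofNat 1, Int.negSucc 0, Int.negSucc 0, Int.negSucc 0, Int.ofNat 1, Int.negSucc 0, Int.ofNat 1, Int.ofNat 1, Int.ofNat 1, Int.negSucc 0, Int.negSucc 0, Int.negSucc 0, Int.ofNat 1, Int.negSucc 0, Int.ofNat 1, Int.ofNat 1, Int.ofNat 1, Int.ofNat 1],
  [Int.ofNat 1, Int.negSucc 0, Int.negSucc 0, Int.negSucc 0, Int.ofNat 1, Int.ofNat 1, Int.ofNat 1, Int.ofNat 1, Int.negSucc 0, Int.ofNat 1, Int.ofNat 1, Int.negSucc 0, Int.negSucc 0, Int.negSucc 0, Int.negSucc 0, Int.ofNat 1, Int.negSucc 0, Int.ofNat 1, Int.negSucc 0, Int.negSucc 0, Int.negSucc 2, Int.negSucc 0, Int.ofNat 1, Int.ofNat 1],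
  [Int.ofNat 1, Int.ofNat 1, Int.negSucc 0, Int.ofNat 1, Int.ofNat 1, Int.ofNat 1, Int.negSucc 0, Int.negSucc 0, Int.negSucc 2, Int.ofNat 1, Int.negSucc 0, Int.negSucc 0, Int.negSucc 0, Int.ofNat 1, Int.negSucc 0, Int.negSucc 0, Int.ofNat 1, Int.ofNat 1, Int.negSucc 0, Int.ofNat 1, Int.negSucc 0, Int.negSucc 0, Int.negSucc 0, Int.ofNat 1],
  [Int.negSucc 0, Int.ofNat 1, Int.ofNat 1, Int.ofNat 1, Int.ofNat 1, Int.ofNat 1, Int.negSucc 0, Int.ofNat 1, Int.negSucc 2, Int.negSucc 0, Int.ofNat 1, Int.ofNat 1, Int.negSucc 0, Int.ofNat 1, Int.negSucc 0, Int.negSucc 0, Int.ofNat 1, Int.ofNat 1, Int.ofNat 1, Int.ofNat 1, Int.negSucc 0, Int.ofNat 1, Int.negSucc 0, Int.ofNat 1],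
  [Int.negSucc 0, Int.negSucc 0, Int.ofNat 1, Int.ofNat 1, Int.ofNat 1, Int.ofNat 1, Int.ofNat 1, Int.negSucc 0, Int.ofNat 1, Int.negSucc 2, Int.negSucc 0, Int.ofNat 1, Int.ofNat 1, Int.negSucc 0, Int.ofNat 1, Int.negSucc 0, Int.negSucc 0, Int.ofNat 1, Int.ofNat 1, Int.ofNat 1, Int.ofNat 1, Int.negSucc 0, Int.ofNat 1, Int.ofNat 1],
  [Int.ofNat 1, Int.ofNat 1, Int.negSucc 0, Int.negSucc 0, Int.ofNat 1, Int.negSucc 0, Int.ofNat 1, Int.negSucc 0, Int.negSucc 0, Int.negSucc 0, Int.ofNat 1, Int.negSucc 0, Int.negSucc 0, Int.negSucc 0, Int.negSucc 0, Int.ofNat 1, Int.negSucc 0, Int.negSucc 0, Int.negSucc 0, Int.ofNat 1, Int.ofNat 3, Int.negSucc 0, Int.ofNat 1, Int.negSucc 0],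
  [Int.negSucc 0, Int.ofNat 1, Int.negSucc 0, Int.ofNat 1, Int.negSucc 0, Int.negSucc 0, Int.negSucc 0, Int.ofNat 1, Int.negSucc 0, Int.negSucc 0, Int.negSucc 0, Int.negSucc 0, Int.ofNat 1, Int.negSucc 0, Int.negSucc 0, Int.negSucc 0, Int.ofNat 1, Int.ofNat 3, Int.negSucc 0, Int.ofNat 1, Int.ofNat 1, Int.ofNat 1, Int.negSucc 0, Int.negSucc 0],
  [Int.ofNat 0, Int.negSucc 1, Int.ofNat 0, Int.ofNat 0, Int.ofNat 0, Int.negSucc 1, Int.negSucc 1, Int.ofNat 0, Int.ofNat 0, Int.ofNat 0, Int.ofNat 0, Int.ofNat 0, Int.ofNat 2, Int.ofNat 0, Int.negSucc 1, Int.ofNat 0, Int.ofNat 2, Int.ofNat 2, Int.ofNat 0, Int.ofNat 0, Int.ofNat 2, Int.ofNat 0, Int.ofNat 0, Int.ofNat 0],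
  [Int.ofNat 0, Int.negSucc 1, Int.ofNat 0, Int.ofNat 0, Int.ofNat 0, Int.ofNat 0, Int.ofNat 0, Int.ofNat 0, Int.ofNat 2, Int.ofNat 0, Int.ofNat 2, Int.ofNat 2, Int.ofNat 0, Int.ofNat 2, Int.ofNat 0, Int.ofNat 0, Int.ofNat 0, Int.negSucc 1, Int.negSucc 1, Int.ofNat 0, Int.ofNat 0, Int.negSucc 1, Int.ofNat 0, Int.ofNat 0],
  [Int.negSucc 0, Int.ofNat 1, Int.negSucc 0, Int.ofNat 1, Int.negSucc 0, Int.ofNat 1, Int.ofNat 1, Int.ofNat 1, Int.ofNat 1, Int.negSucc 0, Int.ofNat 1, Int.ofNat 1, Int.negSucc 0, Int.ofNat 1, Int.ofNat 1, Int.negSucc 0, Int.negSucc 0, Int.negSucc 0, Int.negSucc 2, Int.ofNat 1, Int.negSucc 0, Int.negSucc 0, Int.negSucc 0, Int.negSucc 0],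
  [Int.negSucc 0, Int.ofNat 1, Int.ofNat 1, Int.ofNat 1, Int.negSucc 0, Int.negSucc 0, Int.negSucc 0, Int.ofNat 1, Int.ofNat 1, Int.ofNat 1, Int.negSucc 0, Int.ofNat 1, Int.negSucc 0, Int.ofNat 1, Int.ofNat 1, Int.ofNat 1, Int.negSucc 0, Int.negSucc 0, Int.ofNat 3, Int.ofNat 1, Int.negSucc 0, Int.negSucc 0, Int.ofNat 1, Int.negSucc 0],
  [Int.negSucc 0, Int.ofNat 1, Int.ofNat 1, Int.ofNat 1, Int.ofNat 1, Int.negSucc 0, Int.ofNat 1, Int.negSucc 0, Int.negSucc 0, Int.ofNat 3, Int.negSucc 0, Int.ofNat 1, Int.negSucc 0, Int.ofNat 1, Int.negSucc 0, Int.negSucc 0, Int.ofNat 1, Int.ofNat 1, Int.ofNat 1, Int.negSucc 0, Int.negSucc 0, Int.ofNat 1, Int.ofNat 1, Int.negSucc 0],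
  [Int.negSucc 0, Int.ofNat 1, Int.negSucc 0, Int.ofNat 1, Int.ofNat 1, Int.ofNat 1, Int.negSucc 0, Int.negSucc 0, Int.negSucc 0, Int.negSucc 2, Int.ofNat 1, Int.ofNat 1, Int.negSucc 0, Int.ofNat 1, Int.negSucc 0, Int.ofNat 1, Int.ofNat 1, Int.ofNat 1, Int.negSucc 0, Int.negSucc 0, Int.negSucc 0, Int.ofNat 1, Int.negSucc 0, Int.negSucc 0],
  [Int.ofNat 0, Int.negSucc 1, Int.ofNat 0, Int.ofNat 0, Int.ofNat 0, Int.ofNat 0, Int.ofNat 0, Int.ofNat 0, Int.ofNat 0, Int.negSucc 1, Int.ofNat 2, Int.ofNat 2, Int.ofNat 0, Int.ofNat 0, Int.negSucc 1, Int.ofNat 2, Int.ofNat 0, Int.ofNat 0, Int.ofNat 0, Int.ofNat 0, Int.ofNat 0, Int.ofNat 2, Int.negSucc 1, Int.ofNat 0],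
  [Int.ofNat 0, Int.ofNat 0, Int.ofNat 0, Int.ofNat 0, Int.ofNat 0, Int.ofNat 2, Int.negSucc 1, Int.ofNat 0, Int.ofNat 0, Int.ofNat 0, Int.ofNat 0, Int.ofNat 0, Int.ofNat 0, Int.negSucc 1, Int.ofNat 0, Int.ofNat 2, Int.ofNat 0, Int.ofNat 2, Int.ofNat 0, Int.negSucc 1, Int.ofNat 2, Int.ofNat 0, Int.negSucc 1, Int.ofNat 0],
  [Int.ofNat 0, Int.ofNat 0, Int.ofNat 0, Int.negSucc 1, Int.ofNat 2, Int.ofNat 0, Int.ofNat 0, Int.ofNat 2, Int.ofNat 0, Int.negSucc 1, Int.negSucc 1, Int.ofNat 0, Int.ofNat 0, Int.ofNat 0, Int.negSucc 1, Int.ofNat 0, Int.ofNat 2, Int.ofNat 0, Int.ofNat 0, Int.ofNat 0, Int.ofNat 0, Int.ofNat 2, Int.ofNat 0, Int.ofNat 0],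
  [Int.ofNat 0, Int.ofNat 2, Int.ofNat 0, Int.ofNat 0, Int.ofNat 0, Int.ofNat 0, Int.negSucc 1, Int.ofNat 2, Int.ofNat 0, Int.ofNat 0, Int.ofNat 2, Int.ofNat 0, Int.negSucc 1, Int.negSucc 1, Int.ofNat 0, Int.ofNat 0, Int.ofNat 0, Int.negSucc 1, Int.ofNat 0, Int.ofNat 2, Int.ofNat 0, Int.ofNat 0, Int.ofNat 0, Int.ofNat 0],
  [Int.ofNat 1, Int.negSucc 0, Int.ofNat 1, Int.ofNat 1, Int.ofNat 1, Int.ofNat 1, Int.negSucc 2, Int.ofNat 1, Int.ofNat 1, Int.negSucc 0, Int.ofNat 1, Int.ofNat 1, Int.negSucc 0, Int.negSucc 0, Int.ofNat 1, Int.negSucc 0, Int.ofNat 1, Int.negSucc 0, Int.ofNat 1, Int.ofNat 1, Int.negSucc 0, Int.negSucc 0, Int.ofNat 1, Int.ofNat 1],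
  [Int.negSucc 0, Int.ofNat 1, Int.ofNat 1, Int.ofNat 1, Int.ofNat 1, Int.negSucc 2, Int.ofNat 1, Int.ofNat 1, Int.negSucc 0, Int.ofNat 1, Int.ofNat 1, Int.negSucc 0, Int.negSucc 0, Int.ofNat 1, Int.negSucc 0, Int.ofNat 1, Int.negSucc 0, Int.ofNat 1, Int.ofNat 1, Int.negSucc 0, Int.negSucc 0, Int.ofNat 1, Int.ofNat 1, Int.ofNat 1],
  [Int.ofNat 1, Int.ofNat 1, Int.negSucc 0, Int.ofNat 1, Int.ofNat 1, Int.negSucc 2, Int.ofNat 1, Int.negSucc 0, Int.negSucc 0, Int.negSucc 0, Int.negSucc 0, Int.ofNat 1, Int.negSucc 0, Int.ofNat 1, Int.negSucc 0, Int.ofNat 1, Int.negSucc 0, Int.ofNat 1, Int.negSucc 0, Int.negSucc 0, Int.negSucc 0, Int.negSucc 0, Int.ofNat 1, Int.ofNat 1],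
  [Int.negSucc 0, Int.negSucc 0, Int.ofNat 1, Int.negSucc 0, Int.negSucc 0, Int.negSucc 2, Int.negSucc 0, Int.negSucc 0, Int.ofNat 1, Int.ofNat 1, Int.negSucc 0, Int.ofNat 1, Int.ofNat 1, Int.negSucc 0, Int.negSucc 0, Int.ofNat 1, Int.ofNat 1, Int.ofNat 1, Int.ofNat 1, Int.negSucc 0, Int.negSucc 0, Int.negSucc 0, Int.ofNat 1, Int.ofNat 1],
  [Int.negSucc 0, Int.ofNat 1, Int.ofNat 1, Int.negSucc 0, Int.negSucc 0, Int.negSucc 0, Int.negSucc 0, Int.negSucc 0, Int.ofNat 1, Int.ofNat 1, Int.negSucc 0, Int.negSucc 0, Int.negSucc 0, Int.ofNat 1, Int.negSucc 0, Int.ofNat 1, Int.ofNat 1, Int.ofNat 1, Int.negSucc 0, Int.ofNat 1, Int.negSucc 2, Int.negSucc 0, Int.ofNat 1, Int.ofNat 1],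
  [Int.ofNat 1, Int.ofNat 1, Int.negSucc 0, Int.negSucc 0, Int.negSucc 0, Int.negSucc 0, Int.negSucc 0, Int.ofNat 1, Int.ofNat 1, Int.negSucc 0, Int.ofNat 1, Int.ofNat 1, Int.negSucc 0, Int.ofNat 1, Int.negSucc 0, Int.ofNat 1, Int.ofNat 1, Int.ofNat 1, Int.ofNat 1, Int.ofNat 1, Int.negSucc 2, Int.ofNat 1, Int.ofNat 1, Int.ofNat 1],
  [Int.ofNat 1, Int.ofNat 1, Int.ofNat 1, Int.negSucc 0, Int.negSucc 0, Int.negSucc 0, Int.negSucc 0, Int.negSucc 0, Int.ofNat 1, Int.ofNat 1, Int.negSucc 0, Int.ofNat 1, Int.ofNat 1, Int.negSucc 0, Int.ofNat 1, Int.negSucc 0, Int.ofNat 1, Int.ofNat 1, Int.ofNat 1, Int.ofNat 1, Int.ofNat 1, Int.negSucc 2, Int.ofNat 1, Int.ofNat 1],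
  [Int.ofNat 1, Int.ofNat 1, Int.ofNat 1, Int.negSucc 0, Int.negSucc 0, Int.negSucc 0, Int.ofNat 1, Int.ofNat 1, Int.negSucc 0, Int.ofNat 1, Int.negSucc 0, Int.negSucc 0, Int.negSucc 0, Int.negSucc 0, Int.ofNat 1, Int.negSucc 0, Int.ofNat 1, Int.ofNat 1, Int.negSucc 0, Int.ofNat 3, Int.ofNat 1, Int.negSucc 0, Int.ofNat 1, Int.ofNat 1],
  [Int.negSucc 0, Int.negSucc 0, Int.negSucc 0, Int.ofNat 1, Int.ofNat 1, Int.negSucc 0, Int.ofNat 1, Int.negSucc 0, Int.negSucc 0, Int.negSucc 0, Int.negSucc 0, Int.ofNat 1, Int.negSucc 0, Int.ofNat 1, Int.ofNat 1, Int.negSucc 0, Int.ofNat 3, Int.ofNat 1, Int.negSucc 0, Int.ofNat 1, Int.ofNat 1, Int.ofNat 1, Int.ofNat 1, Int.ofNat 1],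
  [Int.ofNat 0, Int.ofNat 0, Int.ofNat 0, Int.ofNat 0, Int.negSucc 1, Int.negSucc 1, Int.ofNat 0, Int.negSucc 1, Int.ofNat 0, Int.ofNat 0, Int.ofNat 0, Int.ofNat 2, Int.ofNat 0, Int.negSucc 1, Int.ofNat 0, Int.ofNat 0, Int.ofNat 0, Int.ofNat 0, Int.ofNat 0, Int.ofNat 0, Int.ofNat 2, Int.ofNat 0, Int.negSucc 1, Int.negSucc 1],
  [Int.ofNat 0, Int.ofNat 0, Int.negSucc 1, Int.ofNat 0, Int.ofNat 0, Int.negSucc 1, Int.ofNat 0, Int.ofNat 0, Int.ofNat 0, Int.negSucc 1, Int.ofNat 2, Int.ofNat 0, Int.ofNat 0, Int.ofNat 0, Int.negSucc 1, Int.ofNat 0, Int.ofNat 0, Int.ofNat 0, Int.ofNat 0, Int.ofNat 2, Int.ofNat 0, Int.negSucc 1, Int.ofNat 0, Int.negSucc 1],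
  [Int.negSucc 1, Int.negSucc 1, Int.ofNat 0, Int.ofNat 2, Int.ofNat 0, Int.ofNat 0, Int.ofNat 0, Int.ofNat 0, Int.ofNat 0, Int.negSucc 1, Int.ofNat 2, Int.ofNat 0, Int.ofNat 0, Int.ofNat 0, Int.ofNat 0, Int.ofNat 0, Int.ofNat 0, Int.ofNat 2, Int.ofNat 0, Int.ofNat 2, Int.ofNat 0, Int.negSucc 1, Int.ofNat 0, Int.ofNat 0],
  [Int.negSucc 1, Int.negSucc 1, Int.ofNat 0, Int.ofNat 2, Int.ofNat 0, Int.ofNat 0, Int.ofNat 0, Int.ofNat 0, Int.ofNat 0, Int.ofNat 2, Int.negSucc 1, Int.ofNat 0, Int.ofNat 0, Int.ofNat 0, Int.ofNat 0, Int.ofNat 0, Int.ofNat 0, Int.ofNat 2, Int.ofNat 0, Int.ofNat 2, Int.ofNat 0, Int.negSucc 1, Int.ofNat 0, Int.ofNat 0],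
  [Int.negSucc 1, Int.ofNat 0, Int.ofNat 0, Int.ofNat 0, Int.ofNat 0, Int.ofNat 0, Int.negSucc 1, Int.ofNat 2, Int.ofNat 0, Int.ofNat 0, Int.ofNat 0, Int.ofNat 0, Int.ofNat 0, Int.ofNat 0, Int.ofNat 2, Int.ofNat 0, Int.ofNat 2, Int.ofNat 0, Int.ofNat 2, Int.ofNat 0, Int.negSucc 1, Int.negSucc 1, Int.ofNat 0, Int.ofNat 0],
  [Int.ofNat 0, Int.ofNat 0, Int.ofNat 0, Int.ofNat 0, Int.ofNat 0, Int.ofNat 0, Int.ofNat 0, Int.ofNat 0, Int.negSucc 1, Int.ofNat 0, Int.ofNat 2, Int.ofNat 0, Int.negSucc 1, Int.ofNat 2, Int.ofNat 2, Int.ofNat 0, Int.ofNat 0, Int.ofNat 0, Int.ofNat 2, Int.negSucc 1, Int.ofNat 0, Int.ofNat 0, Int.ofNat 0, Int.negSucc 1],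
  [Int.ofNat 0, Int.ofNat 0, Int.ofNat 0, Int.ofNat 0, Int.ofNat 0, Int.ofNat 0, Int.ofNat 0, Int.ofNat 0, Int.negSucc 1, Int.ofNat 0, Int.negSucc 1, Int.ofNat 0, Int.negSucc 1, Int.ofNat 2, Int.ofNat 2, Int.ofNat 0, Int.ofNat 0, Int.ofNat 0, Int.negSucc 1, Int.negSucc 1, Int.ofNat 0, Int.ofNat 0, Int.ofNat 0, Int.negSucc 1],
  [Int.ofNat 0, Int.ofNat 0, Int.ofNat 0, Int.ofNat 0, Int.ofNat 0, Int.ofNat 0, Int.ofNat 0, Int.ofNat 0, Int.ofNat 0, Int.negSucc 1, Int.ofNat 0, Int.negSucc 1, Int.ofNat 0, Int.negSucc 1, Int.ofNat 2, Int.ofNat 2, Int.ofNat 0, Int.ofNat 0, Int.ofNat 0, Int.negSucc 1, Int.negSucc 1, Int.ofNat 0, Int.ofNat 0, Int.negSucc 1],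
  [Int.negSucc 0, Int.negSucc 0, Int.negSucc 0, Int.negSucc 0, Int.ofNat 1, Int.negSucc 0, Int.ofNat 1, Int.ofNat 1, Int.ofNat 1, Int.negSucc 0, Int.ofNat 1, Int.negSucc 0, Int.ofNat 1, Int.negSucc 0, Int.ofNat 1, Int.ofNat 3, Int.ofNat 1, Int.negSucc 0, Int.ofNat 1, Int.negSucc 0, Int.negSucc 0, Int.ofNat 1, Int.ofNat 1, Int.ofNat 1],
  [Int.negSucc 0, Int.ofNat 1, Int.negSucc 0, Int.ofNat 1, Int.ofNat 1, Int.ofNat 1, Int.negSucc 0, Int.ofNat 1, Int.negSucc 0, Int.ofNat 1, Int.negSucc 0, Int.ofNat 1, Int.ofNat 3, Int.ofNat 1, Int.negSucc 0, Int.ofNat 1, Int.negSucc 0, Int.negSucc 0, Int.ofNat 1, Int.ofNat 1, Int.negSucc 0, Int.negSucc 0, Int.negSucc 0, Int.ofNat 1],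
  [Int.ofNat 1, Int.negSucc 0, Int.ofNat 1, Int.ofNat 1, Int.ofNat 1, Int.ofNat 1, Int.negSucc 0, Int.ofNat 1, Int.negSucc 2, Int.ofNat 1, Int.negSucc 0, Int.negSucc 0, Int.ofNat 1, Int.ofNat 1, Int.negSucc 0, Int.ofNat 1, Int.negSucc 0, Int.negSucc 0, Int.negSucc 0, Int.ofNat 1, Int.negSucc 0, Int.negSucc 0, Int.negSucc 0, Int.negSucc 0],
  [Int.ofNat 1, Int.negSucc 0, Int.ofNat 1, Int.ofNat 1, Int.negSucc 0, Int.ofNat 1, Int.ofNat 1, Int.negSucc 0, Int.ofNat 1, Int.ofNat 1, Int.negSucc 0, Int.negSucc 0, Int.ofNat 1, Int.negSucc 0, Int.negSucc 0, Int.ofNat 1, Int.negSucc 2, Int.negSucc 0, Int.negSucc 0, Int.negSucc 0, Int.negSucc 0, Int.ofNat 1, Int.ofNat 1, Int.negSucc 0],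
  [Int.negSucc 0, Int.ofNat 1, Int.negSucc 0, Int.ofNat 1, Int.ofNat 1, Int.ofNat 1, Int.ofNat 1, Int.negSucc 0, Int.ofNat 1, Int.ofNat 1, Int.negSucc 0, Int.negSucc 0, Int.ofNat 1, Int.ofNat 1, Int.negSucc 0, Int.ofNat 1, Int.negSucc 0, Int.negSucc 0, Int.negSucc 0, Int.negSucc 0, Int.negSucc 0, Int.ofNat 1, Int.ofNat 3, Int.ofNat 1],
  [Int.negSucc 0, Int.ofNat 1, Int.ofNat 1, Int.ofNat 1, Int.ofNat 1, Int.negSucc 0, Int.negSucc 0, Int.negSucc 0, Int.ofNat 1, Int.negSucc 0, Int.ofNat 1, Int.negSucc 0, Int.ofNat 1, Int.ofNat 1, Int.negSucc 0, Int.negSucc 0, Int.negSucc 0, Int.negSucc 0, Int.ofNat 1, Int.negSucc 0, Int.negSucc 0, Int.ofNat 1, Int.negSucc 2, Int.ofNat 1],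
  [Int.ofNat 1, Int.negSucc 0, Int.negSucc 0, Int.negSucc 0, Int.ofNat 1, Int.negSucc 0, Int.negSucc 0, Int.negSucc 0, Int.ofNat 1, Int.ofNat 1, Int.negSucc 0, Int.negSucc 2, Int.negSucc 0, Int.ofNat 1, Int.negSucc 0, Int.negSucc 0, Int.ofNat 1, Int.negSucc 0, Int.negSucc 0, Int.ofNat 1, Int.ofNat 1, Int.ofNat 1, Int.ofNat 1, Int.ofNat 1],
  [Int.ofNat 1, Int.negSucc 0, Int.ofNat 1, Int.negSucc 0, Int.ofNat 1, Int.ofNat 1, Int.ofNat 1, Int.negSucc 0, Int.ofNat 1, Int.negSucc 0, Int.ofNat 1, Int.negSucc 2, Int.negSucc 0, Int.ofNat 1, Int.negSucc 0, Int.ofNat 1, Int.ofNat 1, Int.negSucc 0, Int.ofNat 1, Int.ofNat 1, Int.ofNat 1, Int.ofNat 1, Int.negSucc 0, Int.ofNat 1],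
  [Int.ofNat 0, Int.ofNat 2, Int.ofNat 0, Int.ofNat 0, Int.ofNat 0, Int.ofNat 2, Int.ofNat 0, Int.negSucc 1, Int.ofNat 2, Int.negSucc 1, Int.ofNat 0, Int.negSucc 1, Int.ofNat 0, Int.ofNat 0, Int.ofNat 0, Int.ofNat 0, Int.ofNat 0, Int.ofNat 0, Int.ofNat 2, Int.ofNat 0, Int.ofNat 0, Int.ofNat 0, Int.negSucc 1, Int.ofNat 0],
  [Int.ofNat 0, Int.ofNat 2, Int.ofNat 0, Int.ofNat 0, Int.ofNat 0, Int.ofNat 0, Int.ofNat 2, Int.ofNat 2, Int.ofNat 0, Int.ofNat 0, Int.negSucc 1, Int.ofNat 0, Int.ofNat 2, Int.negSucc 1, Int.ofNat 0, Int.ofNat 0, Int.ofNat 0, Int.negSucc 1, Int.ofNat 0, Int.negSucc 1, Int.ofNat 0, Int.ofNat 0, Int.ofNat 0, Int.ofNat 0],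
  [Int.ofNat 1, Int.negSucc 0, Int.ofNat 1, Int.ofNat 1, Int.ofNat 1, Int.ofNat 1, Int.ofNat 1, Int.ofNat 1, Int.negSucc 0, Int.ofNat 1, Int.negSucc 0, Int.negSucc 0, Int.ofNat 1, Int.negSucc 0, Int.ofNat 1, Int.ofNat 1, Int.ofNat 1, Int.negSucc 0, Int.negSucc 0, Int.negSucc 2, Int.ofNat 1, Int.negSucc 0, Int.ofNat 1, Int.ofNat 1],
  [Int.ofNat 1, Int.negSucc 0, Int.ofNat 1, Int.ofNat 1, Int.negSucc 0, Int.ofNat 1, Int.ofNat 1, Int.ofNat 1, Int.ofNat 1, Int.ofNat 1, Int.ofNat 1, Int.negSucc 0, Int.ofNat 1, Int.negSucc 0, Int.negSucc 0, Int.ofNat 1, Int.negSucc 0, Int.ofNat 1, Int.ofNat 1, Int.ofNat 1, Int.negSucc 0, Int.negSucc 0, Int.negSucc 2, Int.ofNat 1],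
  [Int.ofNat 0, Int.ofNat 2, Int.ofNat 0, Int.ofNat 0, Int.ofNat 2, Int.ofNat 0, Int.ofNat 0, Int.ofNat 0, Int.ofNat 0, Int.ofNat 0, Int.ofNat 0, Int.negSucc 1, Int.ofNat 0, Int.ofNat 2, Int.negSucc 1, Int.ofNat 0, Int.ofNat 2, Int.ofNat 0, Int.ofNat 0, Int.ofNat 0, Int.negSucc 1, Int.negSucc 1, Int.ofNat 0, Int.ofNat 0],
  [Int.ofNat 2, Int.ofNat 0, Int.ofNat 0, Int.ofNat 2, Int.ofNat 0, Int.ofNat 0, Int.ofNat 0, Int.ofNat 0, Int.ofNat 0, Int.ofNat 0, Int.negSucc 1, Int.ofNat 0, Int.ofNat 2, Int.negSucc 1, Int.ofNat 0, Int.ofNat 2, Int.ofNat 0, Int.ofNat 0, Int.ofNat 0, Int.negSucc 1, Int.negSucc 1, Int.ofNat 0, Int.ofNat 0, Int.ofNat 0],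
  [Int.negSucc 1, Int.ofNat 0, Int.ofNat 0, Int.ofNat 2, Int.ofNat 0, Int.ofNat 0, Int.ofNat 0, Int.ofNat 0, Int.ofNat 0, Int.ofNat 0, Int.ofNat 2, Int.ofNat 0, Int.ofNat 2, Int.negSucc 1, Int.ofNat 0, Int.ofNat 2, Int.ofNat 0, Int.ofNat 0, Int.ofNat 0, Int.negSucc 1, Int.negSucc 1, Int.ofNat 0, Int.ofNat 0, Int.ofNat 0],
  [Int.ofNat 2, Int.ofNat 0, Int.ofNat 0, Int.negSucc 1, Int.ofNat 0, Int.ofNat 0, Int.ofNat 0, Int.ofNat 0, Int.ofNat 0, Int.ofNat 0, Int.ofNat 2, Int.ofNat 0, Int.negSucc 1, Int.ofNat 2, Int.ofNat 0, Int.ofNat 2, Int.ofNat 0, Int.ofNat 0, Int.ofNat 0, Int.negSucc 1, Int.negSucc 1, Int.ofNat 0, Int.ofNat 0, Int.ofNat 0],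
  [Int.ofNat 2, Int.ofNat 0, Int.ofNat 0, Int.negSucc 1, Int.ofNat 0, Int.ofNat 2, Int.ofNat 0, Int.negSucc 1, Int.ofNat 0, Int.ofNat 0, Int.ofNat 0, Int.ofNat 0, Int.ofNat 2, Int.ofNat 0, Int.negSucc 1, Int.ofNat 2, Int.negSucc 1, Int.ofNat 0, Int.ofNat 0, Int.ofNat 0, Int.ofNat 0, Int.ofNat 0, Int.ofNat 0, Int.ofNat 0],
  [Int.negSucc 1, Int.ofNat 0, Int.ofNat 0, Int.negSucc 1, Int.ofNat 0, Int.ofNat 2, Int.ofNat 0, Int.ofNat 2, Int.ofNat 0, Int.ofNat 0, Int.ofNat 0, Int.ofNat 0, Int.ofNat 2, Int.ofNat 0, Int.negSucc 1, Int.ofNat 2, Int.negSucc 1, Int.ofNat 0, Int.ofNat 0, Int.ofNat 0, Int.ofNat 0, Int.ofNat 0, Int.ofNat 0, Int.ofNat 0],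
  [Int.ofNat 0, Int.negSucc 1, Int.ofNat 0, Int.ofNat 0, Int.negSucc 1, Int.ofNat 0, Int.ofNat 2, Int.ofNat 0, Int.ofNat 2, Int.ofNat 0, Int.ofNat 0, Int.ofNat 0, Int.ofNat 0, Int.ofNat 2, Int.ofNat 0, Int.negSucc 1, Int.ofNat 2, Int.negSucc 1, Int.ofNat 0, Int.ofNat 0, Int.ofNat 0, Int.ofNat 0, Int.ofNat 0, Int.ofNat 0],
  [Int.negSucc 0, Int.ofNat 1, Int.negSucc 0, Int.ofNat 1, Int.negSucc 2, Int.ofNat 1, Int.ofNat 1, Int.negSucc 0, Int.ofNat 1, Int.ofNat 1, Int.ofNat 1, Int.negSucc 0, Int.negSucc 0, Int.ofNat 1, Int.ofNat 1, Int.negSucc 0, Int.ofNat 1, Int.negSucc 0, Int.negSucc 0, Int.negSucc 0, Int.ofNat 1, Int.negSucc 0, Int.negSucc 0, Int.negSucc 0],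
  [Int.ofNat 1, Int.negSucc 2, Int.ofNat 1, Int.ofNat 1, Int.negSucc 0, Int.ofNat 1, Int.ofNat 1, Int.ofNat 1, Int.negSucc 0, Int.negSucc 0, Int.ofNat 1, Int.ofNat 1, Int.negSucc 0, Int.ofNat 1, Int.negSucc 0, Int.negSucc 0, Int.negSucc 0, Int.ofNat 1, Int.negSucc 0, Int.negSucc 0, Int.negSucc 0, Int.ofNat 1, Int.negSucc 0, Int.negSucc 0],
  [Int.negSucc 1, Int.ofNat 2, Int.negSucc 1, Int.ofNat 0, Int.ofNat 0, Int.ofNat 0, Int.ofNat 0, Int.ofNat 0, Int.ofNat 0, Int.ofNat 0, Int.ofNat 2, Int.ofNat 2, Int.ofNat 0, Int.ofNat 2, Int.negSucc 1, Int.ofNat 0, Int.ofNat 0, Int.ofNat 0, Int.ofNat 0, Int.negSucc 1, Int.ofNat 0, Int.ofNat 0, Int.ofNat 0, Int.ofNat 0],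
  [Int.negSucc 1, Int.ofNat 0, Int.ofNat 0, Int.ofNat 0, Int.ofNat 0, Int.ofNat 0, Int.negSucc 1, Int.ofNat 2, Int.ofNat 0, Int.ofNat 2, Int.ofNat 0, Int.ofNat 0, Int.ofNat 0, Int.ofNat 0, Int.ofNat 0, Int.ofNat 0, Int.ofNat 0, Int.negSucc 1, Int.ofNat 2, Int.ofNat 2, Int.ofNat 0, Int.ofNat 0, Int.negSucc 1, Int.ofNat 0],
  [Int.ofNat 1, Int.negSucc 0, Int.negSucc 0, Int.ofNat 1, Int.ofNat 1, Int.ofNat 1, Int.negSucc 2, Int.ofNat 1, Int.negSucc 0, Int.ofNat 1, Int.negSucc 0, Int.negSucc 0, Int.negSucc 0, Int.ofNat 1, Int.ofNat 1, Int.negSucc 0, Int.ofNat 1, Int.negSucc 0, Int.ofNat 1, Int.ofNat 1, Int.negSucc 0, Int.negSucc 0, Int.negSucc 0, Int.negSucc 0],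
  [Int.ofNat 1, Int.negSucc 0, Int.ofNat 1, Int.ofNat 1, Int.ofNat 1, Int.negSucc 0, Int.ofNat 3, Int.ofNat 1, Int.negSucc 0, Int.negSucc 0, Int.ofNat 1, Int.negSucc 0, Int.negSucc 0, Int.ofNat 1, Int.ofNat 1, Int.ofNat 1, Int.ofNat 1, Int.negSucc 0, Int.negSucc 0, Int.ofNat 1, Int.negSucc 0, Int.negSucc 0, Int.ofNat 1, Int.negSucc 0],
  [Int.ofNat 1, Int.ofNat 1, Int.negSucc 0, Int.negSucc 0, Int.ofNat 1, Int.ofNat 3, Int.negSucc 0, Int.ofNat 1, Int.negSucc 0, Int.negSucc 0, Int.ofNat 1, Int.ofNat 1, Int.ofNat 1, Int.ofNat 1, Int.negSucc 0, Int.negSucc 0, Int.ofNat 1, Int.negSucc 0, Int.negSucc 0, Int.ofNat 1, Int.ofNat 1, Int.negSucc 0, Int.ofNat 1, Int.negSucc 0],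
  [Int.negSucc 0, Int.ofNat 1, Int.ofNat 1, Int.negSucc 0, Int.negSucc 0, Int.negSucc 0, Int.ofNat 1, Int.ofNat 1, Int.ofNat 1, Int.ofNat 3, Int.ofNat 1, Int.negSucc 0, Int.negSucc 0, Int.ofNat 1, Int.negSucc 0, Int.negSucc 0, Int.ofNat 1, Int.ofNat 1, Int.negSucc 0, Int.negSucc 0, Int.negSucc 0, Int.ofNat 1, Int.ofNat 1, Int.ofNat 1],
  [Int.ofNat 1, Int.ofNat 1, Int.negSucc 0, Int.negSucc 0, Int.negSucc 0, Int.negSucc 0, Int.ofNat 1, Int.negSucc 0, Int.ofNat 1, Int.negSucc 2, Int.negSucc 0, Int.ofNat 1, Int.negSucc 0, Int.ofNat 1, Int.negSucc 0, Int.negSucc 0, Int.ofNat 1, Int.ofNat 1, Int.ofNat 1, Int.negSucc 0, Int.negSucc 0, Int.negSucc 0, Int.ofNat 1, Int.ofNat 1],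
  [Int.ofNat 1, Int.ofNat 1, Int.ofNat 1, Int.negSucc 0, Int.negSucc 0, Int.negSucc 0, Int.negSucc 0, Int.ofNat 1, Int.negSucc 0, Int.ofNat 1, Int.negSucc 2, Int.negSucc 0, Int.ofNat 1, Int.negSucc 0, Int.ofNat 1, Int.negSucc 0, Int.negSucc 0, Int.ofNat 1, Int.ofNat 1, Int.ofNat 1, Int.negSucc 0, Int.negSucc 0, Int.negSucc 0, Int.ofNat 1],
  [Int.ofNat 1, Int.ofNat 1, Int.ofNat 1, Int.negSucc 0, Int.ofNat 1, Int.negSucc 0, Int.negSucc 0, Int.ofNat 1, Int.negSucc 0, Int.ofNat 3, Int.negSucc 0, Int.negSucc 0, Int.ofNat 1, Int.ofNat 1, Int.ofNat 1, Int.ofNat 1, Int.ofNat 1, Int.ofNat 1, Int.ofNat 1, Int.ofNat 1, Int.ofNat 1, Int.negSucc 0, Int.ofNat 1, Int.ofNat 1],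
  [Int.negSucc 0, Int.ofNat 1, Int.negSucc 0, Int.negSucc 0, Int.ofNat 1, Int.negSucc 0, Int.ofNat 3, Int.negSucc 0, Int.negSucc 0, Int.ofNat 1, Int.ofNat 1, Int.ofNat 1, Int.ofNat 1, Int.ofNat 1, Int.ofNat 1, Int.ofNat 1, Int.ofNat 1, Int.ofNat 1, Int.negSucc 0, Int.ofNat 1, Int.ofNat 1, Int.ofNat 1, Int.ofNat 1, Int.ofNat 1],
  [Int.ofNat 1, Int.negSucc 0, Int.ofNat 1, Int.negSucc 0, Int.negSucc 0, Int.negSucc 0, Int.ofNat 1, Int.negSucc 2, Int.negSucc 0, Int.negSucc 0, Int.negSucc 0, Int.ofNat 1, Int.ofNat 1, Int.negSucc 0, Int.ofNat 1, Int.negSucc 0, Int.negSucc 0, Int.ofNat 1, Int.negSucc 0, Int.negSucc 0, Int.negSucc 0, Int.negSucc 0, Int.negSucc 0, Int.negSucc 0],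
  [Int.ofNat 1, Int.ofNat 1, Int.negSucc 0, Int.negSucc 0, Int.negSucc 0, Int.negSucc 2, Int.ofNat 1, Int.negSucc 0, Int.ofNat 1, Int.negSucc 0, Int.negSucc 0, Int.ofNat 1, Int.negSucc 0, Int.negSucc 0, Int.negSucc 0, Int.negSucc 0, Int.negSucc 0, Int.ofNat 1, Int.negSucc 0, Int.ofNat 1, Int.negSucc 0, Int.negSucc 0, Int.negSucc 0, Int.negSucc 0],
  [Int.negSucc 0, Int.negSucc 0, Int.ofNat 1, Int.ofNat 1, Int.ofNat 1, Int.negSucc 0, Int.ofNat 1, Int.negSucc 0, Int.ofNat 1, Int.ofNat 1, Int.ofNat 1, Int.ofNat 1, Int.negSucc 0, Int.ofNat 1, Int.ofNat 1, Int.ofNat 1, Int.ofNat 1, Int.ofNat 3, Int.negSucc 0, Int.ofNat 1, Int.ofNat 1, Int.negSucc 0, Int.ofNat 1, Int.ofNat 1],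
  [Int.negSucc 0, Int.negSucc 0, Int.negSucc 0, Int.ofNat 1, Int.ofNat 1, Int.ofNat 1, Int.negSucc 0, Int.negSucc 0, Int.ofNat 1, Int.negSucc 0, Int.negSucc 0, Int.ofNat 1, Int.negSucc 0, Int.ofNat 1, Int.ofNat 1, Int.negSucc 0, Int.ofNat 1, Int.ofNat 3, Int.ofNat 1, Int.ofNat 1, Int.ofNat 1, Int.negSucc 0, Int.negSucc 0, Int.ofNat 1],
  [Int.negSucc 0, Int.negSucc 0, Int.ofNat 1, Int.ofNat 1, Int.ofNat 1, Int.negSucc 0, Int.ofNat 1, Int.ofNat 1, Int.negSucc 0, Int.ofNat 1, Int.negSucc 0, Int.negSucc 0, Int.ofNat 3, Int.ofNat 1, Int.ofNat 1, Int.ofNat 1, Int.negSucc 0, Int.negSucc 0, Int.negSucc 0, Int.ofNat 1, Int.negSucc 0, Int.ofNat 1, Int.negSucc 0, Int.ofNat 1],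
  [Int.negSucc 0, Int.negSucc 0, Int.negSucc 0, Int.ofNat 1, Int.ofNat 1, Int.ofNat 1, Int.negSucc 0, Int.ofNat 1, Int.negSucc 0, Int.negSucc 0, Int.ofNat 1, Int.negSucc 0, Int.ofNat 3, Int.ofNat 1, Int.ofNat 1, Int.negSucc 0, Int.negSucc 0, Int.negSucc 0, Int.ofNat 1, Int.ofNat 1, Int.negSucc 0, Int.ofNat 1, Int.ofNat 1, Int.ofNat 1],
  [Int.ofNat 0, Int.ofNat 0, Int.ofNat 0, Int.ofNat 0, Int.ofNat 0, Int.ofNat 0, Int.negSucc 1, Int.ofNat 0, Int.negSucc 1, Int.ofNat 0, Int.ofNat 2, Int.negSucc 1, Int.ofNat 2, Int.ofNat 0, Int.ofNat 0, Int.ofNat 0, Int.negSucc 1, Int.negSucc 1, Int.ofNat 0, Int.ofNat 0, Int.ofNat 0, Int.ofNat 0, Int.ofNat 0, Int.negSucc 1],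
  [Int.ofNat 0, Int.ofNat 0, Int.negSucc 1, Int.ofNat 0, Int.ofNat 0, Int.ofNat 0, Int.ofNat 0, Int.ofNat 0, Int.negSucc 1, Int.ofNat 2, Int.ofNat 0, Int.ofNat 0, Int.negSucc 1, Int.ofNat 0, Int.negSucc 1, Int.ofNat 0, Int.ofNat 0, Int.negSucc 1, Int.ofNat 0, Int.ofNat 0, Int.ofNat 2, Int.ofNat 0, Int.ofNat 0, Int.negSucc 1],
  [Int.negSucc 1, Int.negSucc 1, Int.ofNat 0, Int.ofNat 2, Int.ofNat 0, Int.ofNat 2, Int.ofNat 0, Int.ofNat 0, Int.ofNat 0, Int.ofNat 0, Int.negSucc 1, Int.ofNat 2, Int.ofNat 0, Int.ofNat 0, Int.ofNat 0, Int.negSucc 1, Int.ofNat 0, Int.ofNat 0, Int.ofNat 2, Int.ofNat 0, Int.ofNat 0, Int.ofNat 0, Int.ofNat 0, Int.ofNat 0],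
  [Int.ofNat 0, Int.ofNat 0, Int.ofNat 0, Int.negSucc 1, Int.negSucc 1, Int.ofNat 0, Int.ofNat 2, Int.ofNat 0, Int.ofNat 2, Int.ofNat 0, Int.ofNat 0, Int.ofNat 0, Int.ofNat 0, Int.negSucc 1, Int.ofNat 2, Int.ofNat 0, Int.ofNat 0, Int.ofNat 0, Int.negSucc 1, Int.ofNat 0, Int.ofNat 0, Int.ofNat 2, Int.ofNat 0, Int.ofNat 0],
  [Int.ofNat 0, Int.ofNat 0, Int.ofNat 0, Int.negSucc 1, Int.ofNat 0, Int.ofNat 0, Int.ofNat 0, Int.negSucc 1, Int.ofNat 2, Int.ofNat 0, Int.ofNat 0, Int.ofNat 0, Int.ofNat 0, Int.ofNat 0, Int.ofNat 2, Int.ofNat 0, Int.ofNat 2, Int.ofNat 0, Int.negSucc 1, Int.negSucc 1, Int.ofNat 0, Int.ofNat 0, Int.ofNat 2, Int.ofNat 0],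
  [Int.ofNat 0, Int.ofNat 0, Int.negSucc 1, Int.ofNat 0, Int.ofNat 0, Int.ofNat 0, Int.negSucc 1, Int.ofNat 2, Int.ofNat 0, Int.ofNat 0, Int.ofNat 0, Int.ofNat 0, Int.ofNat 0, Int.ofNat 2, Int.ofNat 0, Int.ofNat 2, Int.ofNat 0, Int.negSucc 1, Int.negSucc 1, Int.ofNat 0, Int.ofNat 0, Int.ofNat 2, Int.ofNat 0, Int.ofNat 0],
  [Int.ofNat 0, Int.ofNat 0, Int.ofNat 2, Int.ofNat 0, Int.ofNat 0, Int.ofNat 0, Int.negSucc 1, Int.negSucc 1, Int.ofNat 0, Int.ofNat 0, Int.ofNat 0, Int.ofNat 0, Int.ofNat 0, Int.ofNat 2, Int.ofNat 0, Int.ofNat 2, Int.ofNat 0, Int.negSucc 1, Int.ofNat 2, Int.ofNat 0, Int.ofNat 0, Int.negSucc 1, Int.ofNat 0, Int.ofNat 0],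
  [Int.ofNat 0, Int.ofNat 0, Int.negSucc 1, Int.ofNat 0, Int.ofNat 0, Int.ofNat 0, Int.ofNat 2, Int.negSucc 1, Int.ofNat 0, Int.ofNat 0, Int.ofNat 0, Int.ofNat 0, Int.ofNat 0, Int.negSucc 1, Int.ofNat 0, Int.ofNat 2, Int.ofNat 0, Int.negSucc 1, Int.negSucc 1, Int.ofNat 0, Int.ofNat 0, Int.negSucc 1, Int.ofNat 0, Int.ofNat 0],
  [Int.ofNat 0, Int.negSucc 1, Int.negSucc 1, Int.ofNat 0, Int.ofNat 0, Int.ofNat 0, Int.ofNat 0, Int.ofNat 0, Int.ofNat 0, Int.ofNat 0, Int.negSucc 1, Int.ofNat 0, Int.negSucc 1, Int.ofNat 0, Int.ofNat 0, Int.ofNat 2, Int.ofNat 0, Int.ofNat 0, Int.ofNat 2, Int.negSucc 1, Int.ofNat 0, Int.negSucc 1, Int.ofNat 0, Int.ofNat 0],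
  [Int.ofNat 0, Int.negSucc 1, Int.ofNat 2, Int.ofNat 0, Int.ofNat 0, Int.ofNat 0, Int.ofNat 0, Int.ofNat 0, Int.ofNat 0, Int.ofNat 0, Int.ofNat 2, Int.ofNat 0, Int.negSucc 1, Int.ofNat 0, Int.ofNat 0, Int.ofNat 2, Int.ofNat 0, Int.ofNat 0, Int.negSucc 1, Int.negSucc 1, Int.ofNat 0, Int.ofNat 2, Int.ofNat 0, Int.ofNat 0],
  [Int.ofNat 0, Int.ofNat 0, Int.negSucc 1, Int.ofNat 2, Int.ofNat 0, Int.ofNat 0, Int.ofNat 0, Int.ofNat 0, Int.ofNat 0, Int.ofNat 0, Int.ofNat 0, Int.ofNat 2, Int.ofNat 0, Int.negSucc 1, Int.ofNat 0, Int.ofNat 0, Int.ofNat 2, Int.ofNat 0, Int.ofNat 0, Int.negSucc 1, Int.negSucc 1, Int.ofNat 0, Int.ofNat 2, Int.ofNat 0],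
  [Int.negSucc 0, Int.negSucc 0, Int.ofNat 1, Int.ofNat 1, Int.negSucc 0, Int.negSucc 0, Int.ofNat 1, Int.ofNat 1, Int.negSucc 0, Int.ofNat 1, Int.ofNat 1, Int.ofNat 1, Int.negSucc 0, Int.negSucc 2, Int.negSucc 0, Int.ofNat 1, Int.ofNat 1, Int.negSucc 0, Int.negSucc 0, Int.negSucc 0, Int.negSucc 0, Int.ofNat 1, Int.ofNat 1, Int.negSucc 0],
  [Int.ofNat 1, Int.negSucc 0, Int.negSucc 0, Int.ofNat 1, Int.ofNat 1, Int.negSucc 0, Int.ofNat 1, Int.ofNat 1, Int.ofNat 1, Int.negSucc 0, Int.negSucc 2, Int.negSucc 0, Int.ofNat 1, Int.ofNat 1, Int.negSucc 0, Int.negSucc 0, Int.negSucc 0, Int.negSucc 0, Int.ofNat 1, Int.ofNat 1, Int.negSucc 0, Int.negSucc 0, Int.ofNat 1, Int.negSucc 0],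
  [Int.negSucc 1, Int.ofNat 0, Int.ofNat 0, Int.ofNat 2, Int.ofNat 0, Int.ofNat 0, Int.ofNat 0, Int.ofNat 0, Int.ofNat 0, Int.ofNat 2, Int.ofNat 0, Int.negSucc 1, Int.ofNat 0, Int.ofNat 0, Int.ofNat 0, Int.ofNat 2, Int.negSucc 1, Int.ofNat 0, Int.ofNat 0, Int.ofNat 0, Int.ofNat 2, Int.negSucc 1, Int.ofNat 0, Int.ofNat 0],
  [Int.negSucc 1, Int.ofNat 0, Int.ofNat 0, Int.ofNat 2, Int.ofNat 0, Int.ofNat 0, Int.ofNat 0, Int.ofNat 0, Int.ofNat 0, Int.ofNat 0, Int.ofNat 2, Int.ofNat 0, Int.ofNat 2, Int.negSucc 1, Int.ofNat 0, Int.ofNat 2, Int.ofNat 0, Int.ofNat 0, Int.ofNat 0, Int.negSucc 1, Int.negSucc 1, Int.ofNat 0, Int.ofNat 0, Int.ofNat 0],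
  [Int.ofNat 1, Int.negSucc 0, Int.negSucc 0, Int.ofNat 1, Int.ofNat 1, Int.negSucc 0, Int.ofNat 1, Int.ofNat 1, Int.negSucc 0, Int.negSucc 0, Int.ofNat 1, Int.negSucc 0, Int.ofNat 1, Int.negSucc 0, Int.negSucc 0, Int.ofNat 1, Int.ofNat 1, Int.negSucc 0, Int.negSucc 0, Int.negSucc 0, Int.negSucc 2, Int.ofNat 1, Int.ofNat 1, Int.negSucc 0],
  [Int.ofNat 1, Int.negSucc 0, Int.ofNat 1, Int.ofNat 1, Int.ofNat 1, Int.ofNat 1, Int.negSucc 0, Int.ofNat 1, Int.negSucc 0, Int.ofNat 1, Int.negSucc 0, Int.negSucc 0, Int.ofNat 1, Int.negSucc 0, Int.negSucc 0, Int.negSucc 0, Int.ofNat 1, Int.negSucc 0, Int.ofNat 1, Int.negSucc 0, Int.negSucc 2, Int.ofNat 1, Int.negSucc 0, Int.negSucc 0],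
  [Int.negSucc 0, Int.ofNat 1, Int.negSucc 0, Int.negSucc 0, Int.negSucc 0, Int.negSucc 0, Int.ofNat 1, Int.ofNat 1, Int.ofNat 1, Int.negSucc 2, Int.negSucc 0, Int.ofNat 1, Int.negSucc 0, Int.ofNat 1, Int.negSucc 0, Int.ofNat 1, Int.negSucc 0, Int.ofNat 1, Int.ofNat 1, Int.ofNat 1, Int.ofNat 1, Int.negSucc 0, Int.negSucc 0, Int.negSucc 0],
  [Int.negSucc 0, Int.negSucc 0, Int.ofNat 1, Int.ofNat 1, Int.ofNat 1, Int.negSucc 2, Int.ofNat 1, Int.ofNat 1, Int.ofNat 1, Int.negSucc 0, Int.negSucc 0, Int.negSucc 0, Int.negSucc 0, Int.ofNat 1, Int.ofNat 1, Int.negSucc 0, Int.negSucc 0, Int.negSucc 0, Int.negSucc 0, Int.ofNat 1, Int.ofNat 1, Int.negSucc 0, Int.ofNat 1, Int.negSucc 0],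
  [Int.ofNat 1, Int.negSucc 0, Int.negSucc 0, Int.ofNat 1, Int.ofNat 1, Int.negSucc 2, Int.ofNat 1, Int.negSucc 0, Int.ofNat 1, Int.ofNat 1, Int.ofNat 1, Int.ofNat 1, Int.negSucc 0, Int.ofNat 1, Int.ofNat 1, Int.negSucc 0, Int.negSucc 0, Int.negSucc 0, Int.ofNat 1, Int.ofNat 1, Int.ofNat 1, Int.ofNat 1, Int.ofNat 1, Int.negSucc 0],
  [Int.ofNat 1, Int.ofNat 1, Int.negSucc 0, Int.negSucc 0, Int.ofNat 1, Int.ofNat 1, Int.negSucc 2, Int.ofNat 1, Int.negSucc 0, Int.ofNat 1, Int.ofNat 1, Int.ofNat 1, Int.ofNat 1, Int.negSucc 0, Int.ofNat 1, Int.ofNat 1, Int.negSucc 0, Int.negSucc 0, Int.negSucc 0, Int.ofNat 1, Int.ofNat 1, Int.ofNat 1, Int.ofNat 1, Int.negSucc 0],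
  [Int.negSucc 0, Int.negSucc 0, Int.ofNat 1, Int.negSucc 0, Int.ofNat 1, Int.ofNat 1, Int.negSucc 2, Int.ofNat 1, Int.negSucc 0, Int.negSucc 0, Int.negSucc 0, Int.ofNat 1, Int.ofNat 1, Int.negSucc 0, Int.ofNat 1, Int.negSucc 0, Int.negSucc 0, Int.negSucc 0, Int.negSucc 0, Int.ofNat 1, Int.negSucc 0, Int.ofNat 1, Int.ofNat 1, Int.ofNat 1],
  [Int.negSucc 0, Int.ofNat 1, Int.ofNat 1, Int.negSucc 2, Int.ofNat 1, Int.negSucc 0, Int.negSucc 0, Int.negSucc 0, Int.ofNat 1, Int.ofNat 1, Int.negSucc 0, Int.ofNat 1, Int.negSucc 0, Int.negSucc 0, Int.negSucc 0, Int.negSucc 0, Int.ofNat 1, Int.negSucc 0, Int.ofNat 1, Int.ofNat 1, Int.negSucc 0, Int.negSucc 0, Int.ofNat 1, Int.ofNat 1],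
  [Int.ofNat 2, Int.ofNat 0, Int.ofNat 0, Int.ofNat 0, Int.ofNat 0, Int.ofNat 2, Int.ofNat 0, Int.ofNat 0, Int.ofNat 0, Int.ofNat 2, Int.ofNat 0, Int.ofNat 0, Int.negSucc 1, Int.negSucc 1, Int.ofNat 2, Int.ofNat 0, Int.ofNat 0, Int.ofNat 2, Int.ofNat 0, Int.ofNat 2, Int.ofNat 0, Int.ofNat 0, Int.ofNat 0, Int.ofNat 0],
  [Int.ofNat 2, Int.ofNat 0, Int.ofNat 0, Int.ofNat 0, Int.ofNat 0, Int.ofNat 0, Int.ofNat 0, Int.ofNat 0, Int.negSucc 1, Int.negSucc 1, Int.ofNat 0, Int.ofNat 2, Int.ofNat 2, Int.ofNat 0, Int.ofNat 0, Int.ofNat 0, Int.ofNat 0, Int.ofNat 2, Int.ofNat 0, Int.ofNat 0, Int.ofNat 0, Int.ofNat 2, Int.ofNat 2, Int.ofNat 0],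
  [Int.negSucc 0, Int.ofNat 1, Int.ofNat 1, Int.negSucc 0, Int.negSucc 0, Int.negSucc 0, Int.negSucc 0, Int.negSucc 0, Int.negSucc 2, Int.negSucc 0, Int.ofNat 1, Int.ofNat 1, Int.ofNat 1, Int.negSucc 0, Int.negSucc 0, Int.ofNat 1, Int.negSucc 0, Int.ofNat 1, Int.negSucc 0, Int.negSucc 0, Int.ofNat 1, Int.ofNat 1, Int.ofNat 1, Int.ofNat 1],
  [Int.negSucc 0, Int.ofNat 1, Int.negSucc 0, Int.negSucc 0, Int.negSucc 0, Int.ofNat 1, Int.ofNat 1, Int.negSucc 0, Int.negSucc 2, Int.ofNat 1, Int.negSucc 0, Int.ofNat 1, Int.ofNat 1, Int.negSucc 0, Int.negSucc 0, Int.negSucc 0, Int.negSucc 0, Int.ofNat 1, Int.ofNat 1, Int.negSucc 0, Int.ofNat 1, Int.ofNat 1, Int.negSucc 0, Int.ofNat 1],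
  [Int.ofNat 1, Int.ofNat 1, Int.negSucc 0, Int.negSucc 0, Int.negSucc 0, Int.ofNat 1, Int.ofNat 1, Int.ofNat 1, Int.negSucc 0, Int.ofNat 1, Int.negSucc 0, Int.negSucc 0, Int.ofNat 1, Int.negSucc 0, Int.negSucc 0, Int.ofNat 1, Int.ofNat 1, Int.negSucc 0, Int.negSucc 0, Int.negSucc 0, Int.ofNat 1, Int.negSucc 2, Int.negSucc 0, Int.ofNat 1],
  [Int.ofNat 1, Int.ofNat 1, Int.ofNat 1, Int.negSucc 0, Int.negSucc 0, Int.negSucc 0, Int.negSucc 0, Int.ofNat 1, Int.negSucc 0, Int.negSucc 0, Int.ofNat 1, Int.negSucc 0, Int.ofNat 1, Int.negSucc 0, Int.negSucc 0, Int.negSucc 0, Int.ofNat 1, Int.negSucc 0, Int.ofNat 1, Int.negSucc 0, Int.ofNat 1, Int.negSucc 2, Int.ofNat 1, Int.ofNat 1],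
  [Int.ofNat 1, Int.ofNat 1, Int.ofNat 1, Int.ofNat 1, Int.negSucc 0, Int.ofNat 1, Int.ofNat 1, Int.ofNat 3, Int.negSucc 0, Int.negSucc 0, Int.ofNat 1, Int.negSucc 0, Int.ofNat 1, Int.negSucc 0, Int.ofNat 1, Int.negSucc 0, Int.ofNat 1, Int.ofNat 1, Int.ofNat 1, Int.ofNat 1, Int.ofNat 1, Int.negSucc 0, Int.ofNat 1, Int.ofNat 1],
  [Int.ofNat 1, Int.ofNat 1, Int.ofNat 1, Int.ofNat 1, Int.ofNat 1, Int.negSucc 0, Int.ofNat 1, Int.ofNat 1, Int.ofNat 1, Int.ofNat 1, Int.ofNat 3, Int.ofNat 1, Int.negSucc 0, Int.negSucc 0, Int.ofNat 1, Int.negSucc 0, Int.negSucc 0, Int.negSucc 0, Int.negSucc 0, Int.ofNat 1, Int.ofNat 1, Int.ofNat 1, Int.ofNat 1, Int.ofNat 1],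
  [Int.ofNat 1, Int.ofNat 1, Int.ofNat 1, Int.ofNat 1, Int.ofNat 1, Int.negSucc 0, Int.negSucc 0, Int.negSucc 0, Int.ofNat 1, Int.negSucc 0, Int.ofNat 1, Int.ofNat 1, Int.negSucc 0, Int.negSucc 0, Int.ofNat 1, Int.negSucc 2, Int.negSucc 0, Int.negSucc 0, Int.negSucc 0, Int.negSucc 0, Int.negSucc 0, Int.negSucc 0, Int.ofNat 1, Int.ofNat 1],
  [Int.negSucc 0, Int.negSucc 0, Int.ofNat 1, Int.ofNat 1, Int.ofNat 1, Int.ofNat 1, Int.ofNat 1, Int.ofNat 1, Int.negSucc 0, Int.negSucc 0, Int.negSucc 0, Int.ofNat 1, Int.negSucc 0, Int.ofNat 1, Int.ofNat 1, Int.negSucc 0, Int.negSucc 0, Int.ofNat 1, Int.negSucc 2, Int.negSucc 0, Int.negSucc 0, Int.negSucc 0, Int.negSucc 0, Int.ofNat 1],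
  [Int.ofNat 1, Int.ofNat 1, Int.negSucc 0, Int.negSucc 0, Int.ofNat 1, Int.negSucc 0, Int.ofNat 1, Int.ofNat 1, Int.ofNat 1, Int.ofNat 1, Int.ofNat 1, Int.ofNat 3, Int.ofNat 1, Int.ofNat 1, Int.negSucc 0, Int.ofNat 1, Int.negSucc 0, Int.negSucc 0, Int.negSucc 0, Int.negSucc 0, Int.ofNat 1, Int.negSucc 0, Int.negSucc 0, Int.negSucc 0],
  [Int.ofNat 1, Int.negSucc 0, Int.negSucc 0, Int.ofNat 1, Int.negSucc 0, Int.ofNat 1, Int.ofNat 1, Int.ofNat 1, Int.ofNat 1, Int.ofNat 1, Int.ofNat 3, Int.ofNat 1, Int.ofNat 1, Int.negSucc 0, Int.ofNat 1, Int.negSucc 0, Int.negSucc 0, Int.negSucc 0, Int.negSucc 0, Int.ofNat 1, Int.negSucc 0, Int.negSucc 0, Int.ofNat 1, Int.negSucc 0],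
  [Int.negSucc 0, Int.negSucc 0, Int.ofNat 1, Int.ofNat 1, Int.negSucc 0, Int.ofNat 1, Int.ofNat 1, Int.negSucc 0, Int.ofNat 1, Int.negSucc 0, Int.negSucc 2, Int.negSucc 0, Int.ofNat 1, Int.negSucc 0, Int.ofNat 1, Int.negSucc 0, Int.negSucc 0, Int.negSucc 0, Int.ofNat 1, Int.ofNat 1, Int.negSucc 0, Int.ofNat 1, Int.ofNat 1, Int.negSucc 0],
  [Int.ofNat 1, Int.ofNat 1, Int.negSucc 0, Int.negSucc 0, Int.ofNat 1, Int.ofNat 1, Int.negSucc 0, Int.negSucc 0, Int.negSucc 0, Int.ofNat 1, Int.negSucc 2, Int.negSucc 0, Int.negSucc 0, Int.ofNat 1, Int.ofNat 1, Int.negSucc 0, Int.ofNat 1, Int.negSucc 0, Int.negSucc 0, Int.ofNat 1, Int.negSucc 0, Int.ofNat 1, Int.ofNat 1, Int.negSucc 0],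
  [Int.ofNat 1, Int.negSucc 0, Int.negSucc 0, Int.negSucc 0, Int.ofNat 1, Int.negSucc 2, Int.ofNat 1, Int.negSucc 0, Int.ofNat 1, Int.ofNat 1, Int.ofNat 1, Int.ofNat 1, Int.ofNat 1, Int.negSucc 0, Int.ofNat 1, Int.negSucc 0, Int.negSucc 0, Int.ofNat 1, Int.negSucc 0, Int.negSucc 0, Int.ofNat 1, Int.negSucc 0, Int.negSucc 0, Int.negSucc 0],
  [Int.negSucc 0, Int.negSucc 0, Int.ofNat 1, Int.negSucc 0, Int.ofNat 1, Int.negSucc 2, Int.ofNat 1, Int.ofNat 1, Int.ofNat 1, Int.negSucc 0, Int.negSucc 0, Int.negSucc 0, Int.ofNat 1, Int.negSucc 0, Int.ofNat 1, Int.negSucc 0, Int.negSucc 0, Int.ofNat 1, Int.ofNat 1, Int.negSucc 0, Int.ofNat 1, Int.ofNat 1, Int.negSucc 0, Int.negSucc 0],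
  [Int.negSucc 0, Int.negSucc 0, Int.negSucc 0, Int.ofNat 1, Int.negSucc 0, Int.ofNat 1, Int.negSucc 2, Int.ofNat 1, Int.ofNat 1, Int.ofNat 1, Int.negSucc 0, Int.negSucc 0, Int.negSucc 0, Int.ofNat 1, Int.negSucc 0, Int.ofNat 1, Int.negSucc 0, Int.negSucc 0, Int.ofNat 1, Int.ofNat 1, Int.negSucc 0, Int.ofNat 1, Int.ofNat 1, Int.negSucc 0],
  [Int.negSucc 0, Int.negSucc 0, Int.negSucc 0, Int.ofNat 1, Int.negSucc 0, Int.ofNat 1, Int.negSucc 2, Int.ofNat 1, Int.ofNat 1, Int.ofNat 1, Int.negSucc 0, Int.negSucc 0, Int.negSucc 0, Int.ofNat 1, Int.negSucc 0, Int.ofNat 1, Int.negSucc 0, Int.negSucc 0, Int.ofNat 1, Int.ofNat 1, Int.negSucc 0, Int.ofNat 1, Int.ofNat 1, Int.negSucc 0],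
  [Int.ofNat 1, Int.negSucc 0, Int.ofNat 1, Int.negSucc 2, Int.ofNat 1, Int.ofNat 1, Int.ofNat 1, Int.negSucc 0, Int.negSucc 0, Int.negSucc 0, Int.ofNat 1, Int.negSucc 0, Int.ofNat 1, Int.negSucc 0, Int.negSucc 0, Int.ofNat 1, Int.ofNat 1, Int.negSucc 0, Int.ofNat 1, Int.ofNat 1, Int.negSucc 0, Int.negSucc 0, Int.negSucc 0, Int.negSucc 0],
  [Int.negSucc 0, Int.ofNat 1, Int.negSucc 0, Int.negSucc 0, Int.ofNat 1, Int.ofNat 3, Int.ofNat 1, Int.negSucc 0, Int.negSucc 0, Int.negSucc 0, Int.ofNat 1, Int.negSucc 0, Int.ofNat 1, Int.negSucc 0, Int.ofNat 1, Int.ofNat 1, Int.ofNat 1, Int.ofNat 1, Int.ofNat 1, Int.ofNat 1, Int.negSucc 0, Int.negSucc 0, Int.negSucc 0, Int.ofNat 1],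
  [Int.negSucc 0, Int.ofNat 1, Int.ofNat 1, Int.negSucc 0, Int.ofNat 1, Int.negSucc 0, Int.negSucc 0, Int.ofNat 1, Int.ofNat 1, Int.negSucc 0, Int.negSucc 0, Int.ofNat 1, Int.negSucc 0, Int.ofNat 1, Int.negSucc 0, Int.ofNat 1, Int.negSucc 0, Int.ofNat 1, Int.ofNat 1, Int.negSucc 0, Int.negSucc 0, Int.ofNat 3, Int.ofNat 1, Int.ofNat 1],
  [Int.ofNat 2, Int.ofNat 0, Int.ofNat 0, Int.ofNat 0, Int.ofNat 0, Int.ofNat 0, Int.negSucc 1, Int.ofNat 0, Int.ofNat 0, Int.ofNat 0, Int.ofNat 0, Int.ofNat 0, Int.negSucc 1, Int.ofNat 0, Int.ofNat 0, Int.ofNat 2, Int.negSucc 1, Int.ofNat 2, Int.ofNat 0, Int.negSucc 1, Int.ofNat 0, Int.ofNat 2, Int.ofNat 0, Int.ofNat 0],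
  [Int.ofNat 2, Int.ofNat 0, Int.ofNat 0, Int.ofNat 0, Int.ofNat 0, Int.ofNat 0, Int.ofNat 2, Int.ofNat 0, Int.ofNat 0, Int.ofNat 0, Int.ofNat 0, Int.ofNat 0, Int.negSucc 1, Int.ofNat 0, Int.ofNat 0, Int.negSucc 1, Int.negSucc 1, Int.ofNat 2, Int.ofNat 0, Int.negSucc 1, Int.ofNat 0, Int.ofNat 2, Int.ofNat 0, Int.ofNat 0],
  [Int.ofNat 0, Int.negSucc 1, Int.ofNat 0, Int.ofNat 0, Int.ofNat 0, Int.ofNat 2, Int.ofNat 2, Int.ofNat 0, Int.ofNat 0, Int.ofNat 0, Int.ofNat 0, Int.ofNat 0, Int.negSucc 1, Int.ofNat 0, Int.ofNat 2, Int.ofNat 0, Int.negSucc 1, Int.negSucc 1, Int.ofNat 0, Int.ofNat 0, Int.ofNat 2, Int.ofNat 0, Int.ofNat 0, Int.ofNat 0],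
  [Int.ofNat 0, Int.ofNat 0, Int.ofNat 0, Int.ofNat 0, Int.negSucc 1, Int.ofNat 0, Int.ofNat 0, Int.ofNat 0, Int.ofNat 2, Int.ofNat 2, Int.negSucc 1, Int.ofNat 0, Int.ofNat 0, Int.ofNat 0, Int.ofNat 0, Int.ofNat 0, Int.ofNat 0, Int.ofNat 0, Int.ofNat 2, Int.ofNat 2, Int.ofNat 0, Int.negSucc 1, Int.negSucc 1, Int.ofNat 0],
  [Int.ofNat 0, Int.ofNat 0, Int.ofNat 0, Int.ofNat 0, Int.negSucc 1, Int.ofNat 0, Int.ofNat 0, Int.ofNat 0, Int.ofNat 2, Int.negSucc 1, Int.ofNat 2, Int.ofNat 0, Int.ofNat 0, Int.ofNat 0, Int.ofNat 0, Int.ofNat 0, Int.ofNat 0, Int.ofNat 0, Int.negSucc 1, Int.ofNat 2, Int.ofNat 0, Int.ofNat 2, Int.negSucc 1, Int.ofNat 0],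
  [Int.negSucc 1, Int.ofNat 0, Int.ofNat 0, Int.ofNat 0, Int.ofNat 0, Int.negSucc 1, Int.ofNat 0, Int.ofNat 0, Int.ofNat 0, Int.ofNat 2, Int.negSucc 1, Int.ofNat 2, Int.ofNat 0, Int.ofNat 0, Int.ofNat 0, Int.ofNat 0, Int.ofNat 0, Int.ofNat 0, Int.ofNat 0, Int.negSucc 1, Int.ofNat 2, Int.ofNat 0, Int.ofNat 2, Int.ofNat 0],
  [Int.ofNat 1, Int.negSucc 0, Int.negSucc 0, Int.ofNat 1, Int.negSucc 0, Int.negSucc 0, Int.ofNat 1, Int.ofNat 1, Int.negSucc 0, Int.ofNat 1, Int.negSucc 2, Int.ofNat 1, Int.negSucc 0, Int.negSucc 0, Int.ofNat 1, Int.negSucc 0, Int.negSucc 0, Int.ofNat 1, Int.negSucc 0, Int.negSucc 0, Int.ofNat 1, Int.ofNat 1, Int.ofNat 1, Int.negSucc 0],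
  [Int.ofNat 1, Int.negSucc 0, Int.negSucc 0, Int.ofNat 1, Int.ofNat 1, Int.negSucc 0, Int.ofNat 1, Int.negSucc 2, Int.ofNat 1, Int.negSucc 0, Int.negSucc 0, Int.ofNat 1, Int.negSucc 0, Int.negSucc 0, Int.ofNat 1, Int.negSucc 0, Int.negSucc 0, Int.ofNat 1, Int.ofNat 1, Int.ofNat 1, Int.ofNat 1, Int.negSucc 0, Int.negSucc 0, Int.negSucc 0],
  [Int.negSucc 1, Int.ofNat 0, Int.ofNat 0, Int.ofNat 0, Int.ofNat 2, Int.negSucc 1, Int.ofNat 2, Int.negSucc 1, Int.ofNat 0, Int.ofNat 0, Int.ofNat 0, Int.ofNat 0, Int.negSucc 1, Int.ofNat 0, Int.ofNat 0, Int.ofNat 0, Int.ofNat 0, Int.ofNat 0, Int.ofNat 0, Int.ofNat 2, Int.ofNat 2, Int.ofNat 0, Int.ofNat 0, Int.ofNat 0],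
  [Int.negSucc 1, Int.ofNat 2, Int.ofNat 2, Int.ofNat 0, Int.ofNat 0, Int.negSucc 1, Int.ofNat 0, Int.ofNat 0, Int.negSucc 1, Int.ofNat 0, Int.ofNat 2, Int.ofNat 0, Int.ofNat 0, Int.ofNat 0, Int.ofNat 0, Int.ofNat 0, Int.ofNat 0, Int.ofNat 0, Int.ofNat 0, Int.ofNat 0, Int.ofNat 0, Int.negSucc 1, Int.ofNat 2, Int.ofNat 0],
  [Int.ofNat 3, Int.negSucc 0, Int.negSucc 0, Int.ofNat 1, Int.negSucc 0, Int.negSucc 0, Int.ofNat 1, Int.ofNat 1, Int.negSucc 0, Int.negSucc 0, Int.ofNat 1, Int.ofNat 1, Int.ofNat 1, Int.negSucc 0, Int.ofNat 1, Int.negSucc 0, Int.negSucc 0, Int.ofNat 1, Int.ofNat 1, Int.ofNat 1, Int.negSucc 0, Int.negSucc 0, Int.ofNat 1, Int.ofNat 1],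
  [Int.ofNat 3, Int.negSucc 0, Int.ofNat 1, Int.ofNat 1, Int.negSucc 0, Int.ofNat 1, Int.negSucc 0, Int.ofNat 1, Int.negSucc 0, Int.ofNat 1, Int.negSucc 0, Int.ofNat 1, Int.ofNat 1, Int.negSucc 0, Int.ofNat 1, Int.ofNat 1, Int.negSucc 0, Int.ofNat 1, Int.negSucc 0, Int.ofNat 1, Int.negSucc 0, Int.negSucc 0, Int.negSucc 0, Int.ofNat 1],
  [Int.ofNat 1, Int.ofNat 1, Int.ofNat 1, Int.ofNat 1, Int.negSucc 0, Int.negSucc 0, Int.ofNat 1, Int.ofNat 1, Int.negSucc 0, Int.negSucc 0, Int.ofNat 3, Int.negSucc 0, Int.ofNat 1, Int.ofNat 1, Int.negSucc 0, Int.negSucc 0, Int.negSucc 0, Int.ofNat 1, Int.ofNat 1, Int.negSucc 0, Int.negSucc 0, Int.negSucc 0, Int.ofNat 1, Int.ofNat 1],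
  [Int.ofNat 1, Int.ofNat 1, Int.negSucc 0, Int.ofNat 1, Int.negSucc 0, Int.ofNat 1, Int.negSucc 0, Int.ofNat 1, Int.negSucc 0, Int.ofNat 1, Int.negSucc 2, Int.negSucc 0, Int.ofNat 1, Int.ofNat 1, Int.negSucc 0, Int.ofNat 1, Int.negSucc 0, Int.ofNat 1, Int.negSucc 0, Int.negSucc 0, Int.negSucc 0, Int.negSucc 0, Int.negSucc 0, Int.ofNat 1],
  [Int.ofNat 0, Int.ofNat 0, Int.ofNat 2, Int.ofNat 0, Int.ofNat 0, Int.ofNat 0, Int.ofNat 0, Int.ofNat 2, Int.ofNat 0, Int.ofNat 2, Int.negSucc 1, Int.ofNat 0, Int.ofNat 2, Int.ofNat 2, Int.negSucc 1, Int.ofNat 2, Int.ofNat 0, Int.ofNat 0, Int.ofNat 0, Int.ofNat 0, Int.ofNat 0, Int.ofNat 0, Int.ofNat 0, Int.ofNat 0],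
  [Int.ofNat 0, Int.ofNat 0, Int.ofNat 0, Int.ofNat 0, Int.ofNat 2, Int.ofNat 0, Int.ofNat 0, Int.ofNat 0, Int.ofNat 0, Int.ofNat 2, Int.ofNat 2, Int.ofNat 0, Int.ofNat 0, Int.ofNat 2, Int.ofNat 0, Int.ofNat 2, Int.ofNat 2, Int.ofNat 0, Int.ofNat 0, Int.ofNat 0, Int.negSucc 1, Int.ofNat 0, Int.negSucc 1, Int.ofNat 0],
  [Int.ofNat 0, Int.ofNat 0, Int.ofNat 0, Int.ofNat 0, Int.ofNat 0, Int.ofNat 0, Int.ofNat 0, Int.ofNat 0, Int.ofNat 0, Int.ofNat 0, Int.ofNat 0, Int.ofNat 0, Int.ofNat 0, Int.ofNat 0, Int.ofNat 0, Int.ofNat 0, Int.ofNat 0, Int.ofNat 0, Int.ofNat 0, Int.ofNat 0, Int.negSucc 3, Int.ofNat 0, Int.negSucc 3, Int.ofNat 0],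
  [Int.negSucc 3, Int.ofNat 0, Int.negSucc 3, Int.ofNat 0, Int.ofNat 0, Int.ofNat 0, Int.ofNat 0, Int.ofNat 0, Int.ofNat 0, Int.ofNat 0, Int.ofNat 0, Int.ofNat 0, Int.ofNat 0, Int.ofNat 0, Int.ofNat 0, Int.ofNat 0, Int.ofNat 0, Int.ofNat 0, Int.ofNat 0, Int.ofNat 0, Int.ofNat 0, Int.ofNat 0, Int.ofNat 0, Int.ofNat 0],
  [Int.ofNat 0, Int.negSucc 3, Int.ofNat 0, Int.ofNat 0, Int.ofNat 0, Int.ofNat 0, Int.ofNat 0, Int.ofNat 0, Int.ofNat 0, Int.ofNat 0, Int.ofNat 0, Int.ofNat 0, Int.ofNat 0, Int.ofNat 0, Int.ofNat 0, Int.ofNat 0, Int.ofNat 0, Int.ofNat 0, Int.ofNat 0, Int.ofNat 0, Int.ofNat 0, Int.ofNat 0, Int.ofNat 0, Int.negSucc 3],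
  [Int.negSucc 3, Int.ofNat 0, Int.ofNat 0, Int.ofNat 0, Int.ofNat 0, Int.ofNat 0, Int.ofNat 0, Int.ofNat 0, Int.ofNat 0, Int.ofNat 0, Int.ofNat 0, Int.ofNat 0, Int.ofNat 0, Int.ofNat 0, Int.ofNat 0, Int.ofNat 0, Int.ofNat 0, Int.ofNat 0, Int.ofNat 0, Int.ofNat 0, Int.ofNat 0, Int.ofNat 0, Int.ofNat 0, Int.negSucc 3],
  [Int.ofNat 4, Int.ofNat 0, Int.ofNat 0, Int.ofNat 0, Int.ofNat 0, Int.ofNat 0, Int.ofNat 0, Int.ofNat 0, Int.ofNat 0, Int.ofNat 0, Int.ofNat 0, Int.ofNat 0, Int.ofNat 0, Int.ofNat 0, Int.ofNat 0, Int.ofNat 0, Int.ofNat 0, Int.ofNat 0, Int.ofNat 0, Int.ofNat 0, Int.ofNat 0, Int.ofNat 0, Int.ofNat 0, Int.negSucc 3],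
  [Int.negSucc 3, Int.ofNat 0, Int.ofNat 0, Int.ofNat 0, Int.ofNat 0, Int.ofNat 0, Int.ofNat 0, Int.ofNat 0, Int.ofNat 0, Int.ofNat 0, Int.ofNat 0, Int.ofNat 0, Int.ofNat 0, Int.ofNat 0, Int.ofNat 0, Int.ofNat 0, Int.ofNat 0, Int.ofNat 0, Int.ofNat 0, Int.ofNat 0, Int.ofNat 0, Int.ofNat 0, Int.ofNat 0, Int.negSucc 3],
  [Int.negSucc 3, Int.ofNat 0, Int.ofNat 0, Int.ofNat 0, Int.ofNat 0, Int.ofNat 0, Int.ofNat 0, Int.ofNat 0, Int.ofNat 0, Int.ofNat 0, Int.ofNat 0, Int.ofNat 0, Int.ofNat 0, Int.ofNat 0, Int.ofNat 0, Int.ofNat 0, Int.ofNat 0, Int.ofNat 0, Int.ofNat 0, Int.ofNat 0, Int.ofNat 0, Int.ofNat 0, Int.ofNat 0, Int.negSucc 3],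
  [Int.ofNat 4, Int.ofNat 0, Int.ofNat 0, Int.ofNat 0, Int.ofNat 0, Int.ofNat 0, Int.ofNat 0, Int.ofNat 0, Int.ofNat 0, Int.ofNat 0, Int.ofNat 0, Int.ofNat 0, Int.ofNat 0, Int.ofNat 0, Int.ofNat 0, Int.ofNat 0, Int.ofNat 0, Int.ofNat 0, Int.ofNat 0, Int.ofNat 0, Int.ofNat 0, Int.ofNat 0, Int.ofNat 0, Int.negSucc 3],
  [Int.ofNat 0, Int.ofNat 4, Int.ofNat 0, Int.ofNat 0, Int.ofNat 0, Int.ofNat 0, Int.ofNat 0, Int.ofNat 0, Int.ofNat 0, Int.ofNat 0, Int.ofNat 0, Int.ofNat 0, Int.ofNat 0, Int.ofNat 0, Int.ofNat 0, Int.ofNat 0, Int.ofNat 0, Int.ofNat 0, Int.ofNat 0, Int.ofNat 0, Int.ofNat 0, Int.ofNat 0, Int.ofNat 0, Int.negSucc 3],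
  [Int.ofNat 0, Int.negSucc 3, Int.ofNat 0, Int.ofNat 0, Int.ofNat 0, Int.ofNat 0, Int.ofNat 0, Int.ofNat 0, Int.ofNat 0, Int.ofNat 0, Int.ofNat 0, Int.ofNat 0, Int.ofNat 0, Int.ofNat 0, Int.ofNat 0, Int.ofNat 0, Int.ofNat 0, Int.ofNat 0, Int.ofNat 0, Int.ofNat 0, Int.ofNat 0, Int.ofNat 0, Int.ofNat 0, Int.ofNat 4],
  [Int.ofNat 0, Int.ofNat 0, Int.ofNat 0, Int.ofNat 0, Int.ofNat 0, Int.ofNat 0, Int.ofNat 0, Int.ofNat 0, Int.ofNat 0, Int.ofNat 0, Int.ofNat 0, Int.ofNat 0, Int.ofNat 0, Int.ofNat 0, Int.ofNat 0, Int.ofNat 0, Int.ofNat 0, Int.ofNat 0, Int.ofNat 0, Int.ofNat 0, Int.ofNat 0, Int.negSucc 3, Int.ofNat 0, Int.ofNat 4],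
  [Int.ofNat 2, Int.ofNat 2, Int.ofNat 2, Int.ofNat 0, Int.ofNat 0, Int.ofNat 0, Int.ofNat 2, Int.ofNat 2, Int.ofNat 0, Int.ofNat 0, Int.ofNat 0, Int.ofNat 0, Int.ofNat 0, Int.ofNat 0, Int.ofNat 0, Int.ofNat 0, Int.ofNat 0, Int.ofNat 0, Int.ofNat 0, Int.ofNat 2, Int.ofNat 0, Int.negSucc 1, Int.ofNat 0, Int.negSucc 1],
  [Int.ofNat 2, Int.ofNat 2, Int.ofNat 0, Int.ofNat 0, Int.ofNat 0, Int.ofNat 2, Int.ofNat 2, Int.ofNat 0, Int.ofNat 0, Int.ofNat 0, Int.ofNat 0, Int.ofNat 0, Int.ofNat 0, Int.ofNat 0, Int.ofNat 0, Int.ofNat 0, Int.ofNat 0, Int.ofNat 0, Int.ofNat 2, Int.ofNat 0, Int.negSucc 1, Int.ofNat 0, Int.ofNat 2, Int.negSucc 1],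
  [Int.negSucc 0, Int.negSucc 0, Int.ofNat 1, Int.negSucc 0, Int.negSucc 0, Int.ofNat 1, Int.ofNat 1, Int.negSucc 0, Int.negSucc 0, Int.ofNat 1, Int.ofNat 1, Int.negSucc 0, Int.negSucc 0, Int.negSucc 0, Int.negSucc 0, Int.ofNat 1, Int.negSucc 0, Int.negSucc 0, Int.ofNat 1, Int.negSucc 0, Int.negSucc 0, Int.negSucc 0, Int.ofNat 1, Int.ofNat 3],
  [Int.negSucc 0, Int.negSucc 0, Int.negSucc 0, Int.negSucc 0, Int.negSucc 0, Int.negSucc 0, Int.negSucc 0, Int.negSucc 0, Int.negSucc 0, Int.negSucc 0, Int.negSucc 0, Int.negSucc 0, Int.negSucc 0, Int.negSucc 0, Int.negSucc 0, Int.negSucc 0, Int.negSucc 0, Int.negSucc 0, Int.negSucc 0, Int.negSucc 0, Int.negSucc 0, Int.negSucc 0, Int.negSucc 0, Int.ofNat 3],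
  [Int.negSucc 0, Int.negSucc 0, Int.negSucc 0, Int.negSucc 0, Int.negSucc 0, Int.negSucc 0, Int.negSucc 0, Int.negSucc 0, Int.negSucc 0, Int.negSucc 0, Int.negSucc 0, Int.negSucc 0, Int.negSucc 0, Int.negSucc 0, Int.negSucc 0, Int.negSucc 0, Int.negSucc 0, Int.negSucc 0, Int.negSucc 0, Int.negSucc 0, Int.negSucc 0, Int.negSucc 0, Int.negSucc 0, Int.ofNat 3],
  [Int.ofNat 3, Int.negSucc 0, Int.negSucc 0, Int.negSucc 0, Int.negSucc 0, Int.negSucc 0, Int.negSucc 0, Int.negSucc 0, Int.negSucc 0, Int.negSucc 0, Int.negSucc 0, Int.negSucc 0, Int.negSucc 0, Int.negSucc 0, Int.negSucc 0, Int.negSucc 0, Int.negSucc 0, Int.negSucc 0, Int.negSucc 0, Int.negSucc 0, Int.negSucc 0, Int.negSucc 0, Int.negSucc 0, Int.negSucc 0],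
  [Int.negSucc 2, Int.negSucc 0, Int.ofNat 1, Int.negSucc 0, Int.negSucc 0, Int.negSucc 0, Int.negSucc 0, Int.ofNat 1, Int.negSucc 0, Int.ofNat 1, Int.ofNat 1, Int.ofNat 1, Int.negSucc 0, Int.negSucc 0, Int.negSucc 0, Int.negSucc 0, Int.negSucc 0, Int.negSucc 0, Int.ofNat 1, Int.negSucc 0, Int.negSucc 0, Int.ofNat 1, Int.negSucc 0, Int.negSucc 0],
  [Int.negSucc 0, Int.negSucc 2, Int.negSucc 0, Int.ofNat 1, Int.negSucc 0, Int.negSucc 0, Int.negSucc 0, Int.negSucc 0, Int.ofNat 1, Int.negSucc 0, Int.ofNat 1, Int.ofNat 1, Int.ofNat 1, Int.negSucc 0, Int.negSucc 0, Int.negSucc 0, Int.negSucc 0, Int.negSucc 0, Int.negSucc 0, Int.ofNat 1, Int.negSucc 0, Int.negSucc 0, Int.ofNat 1, Int.negSucc 0],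
  [Int.negSucc 1, Int.ofNat 0, Int.negSucc 1, Int.ofNat 2, Int.ofNat 0, Int.ofNat 0, Int.ofNat 0, Int.ofNat 0, Int.ofNat 0, Int.ofNat 0, Int.ofNat 2, Int.ofNat 0, Int.ofNat 0, Int.ofNat 0, Int.ofNat 0, Int.ofNat 0, Int.ofNat 0, Int.ofNat 0, Int.negSucc 1, Int.ofNat 2, Int.ofNat 0, Int.ofNat 0, Int.ofNat 2, Int.negSucc 1],
  [Int.ofNat 2, Int.ofNat 0, Int.ofNat 0, Int.ofNat 0, Int.ofNat 0, Int.ofNat 0, Int.ofNat 0, Int.ofNat 2, Int.ofNat 0, Int.ofNat 0, Int.ofNat 0, Int.ofNat 0, Int.ofNat 0, Int.ofNat 0, Int.ofNat 0, Int.negSucc 1, Int.ofNat 2, Int.ofNat 0, Int.ofNat 0, Int.ofNat 2, Int.negSucc 1, Int.ofNat 0, Int.negSucc 1, Int.negSucc 1],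
  [Int.negSucc 1, Int.ofNat 0, Int.ofNat 0, Int.ofNat 0, Int.ofNat 0, Int.ofNat 0, Int.negSucc 1, Int.ofNat 0, Int.ofNat 0, Int.ofNat 2, Int.ofNat 2, Int.ofNat 0, Int.ofNat 0, Int.ofNat 0, Int.ofNat 0, Int.ofNat 0, Int.ofNat 2, Int.ofNat 0, Int.ofNat 0, Int.ofNat 0, Int.ofNat 0, Int.negSucc 1, Int.negSucc 1, Int.ofNat 2],
  [Int.negSucc 1, Int.negSucc 1, Int.ofNat 0, Int.ofNat 0, Int.ofNat 0, Int.ofNat 0, Int.ofNat 0, Int.ofNat 2, Int.ofNat 0, Int.ofNat 0, Int.ofNat 0, Int.ofNat 0, Int.ofNat 2, Int.ofNat 2, Int.negSucc 1, Int.ofNat 0, Int.ofNat 0, Int.ofNat 0, Int.ofNat 0, Int.ofNat 0, Int.negSucc 1, Int.ofNat 0, Int.ofNat 0, Int.ofNat 2],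
  [Int.ofNat 1, Int.ofNat 1, Int.negSucc 0, Int.ofNat 1, Int.negSucc 0, Int.ofNat 1, Int.negSucc 0, Int.ofNat 1, Int.negSucc 0, Int.ofNat 1, Int.ofNat 1, Int.negSucc 0, Int.ofNat 1, Int.ofNat 1, Int.negSucc 0, Int.ofNat 1, Int.negSucc 0, Int.ofNat 1, Int.negSucc 0, Int.negSucc 0, Int.negSucc 0, Int.negSucc 0, Int.negSucc 0, Int.negSucc 2],
  [Int.ofNat 1, Int.ofNat 1, Int.ofNat 1, Int.ofNat 1, Int.negSucc 0, Int.negSucc 0, Int.ofNat 1, Int.ofNat 1, Int.negSucc 0, Int.negSucc 0, Int.negSucc 0, Int.negSucc 0, Int.ofNat 1, Int.ofNat 1, Int.negSucc 0, Int.negSucc 0, Int.negSucc 0, Int.ofNat 1, Int.ofNat 1, Int.negSucc 0, Int.negSucc 0, Int.negSucc 0, Int.ofNat 1, Int.negSucc 2],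
  [Int.ofNat 1, Int.negSucc 0, Int.negSucc 0, Int.negSucc 0, Int.ofNat 1, Int.ofNat 1, Int.negSucc 0, Int.negSucc 0, Int.negSucc 0, Int.ofNat 1, Int.ofNat 1, Int.ofNat 1, Int.ofNat 1, Int.ofNat 1, Int.negSucc 0, Int.negSucc 0, Int.ofNat 1, Int.ofNat 1, Int.negSucc 0, Int.negSucc 0, Int.negSucc 0, Int.negSucc 0, Int.ofNat 1, Int.negSucc 2],
  [Int.ofNat 1, Int.negSucc 0, Int.ofNat 1, Int.negSucc 0, Int.ofNat 1, Int.negSucc 0, Int.ofNat 1, Int.negSucc 0, Int.negSucc 0, Int.negSucc 0, Int.negSucc 0, Int.ofNat 1, Int.ofNat 1, Int.ofNat 1, Int.negSucc 0, Int.ofNat 1, Int.ofNat 1, Int.ofNat 1, Int.ofNat 1, Int.negSucc 0, Int.negSucc 0, Int.negSucc 0, Int.negSucc 0, Int.negSucc 2],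
  [Int.negSucc 1, Int.ofNat 0, Int.negSucc 1, Int.ofNat 0, Int.ofNat 0, Int.ofNat 0, Int.ofNat 2, Int.ofNat 0, Int.negSucc 1, Int.ofNat 0, Int.ofNat 0, Int.ofNat 0, Int.ofNat 0, Int.ofNat 0, Int.ofNat 0, Int.ofNat 2, Int.ofNat 0, Int.ofNat 2, Int.ofNat 0, Int.ofNat 0, Int.ofNat 0, Int.ofNat 0, Int.negSucc 1, Int.ofNat 2],
  [Int.negSucc 1, Int.ofNat 0, Int.ofNat 2, Int.ofNat 0, Int.negSucc 1, Int.ofNat 0, Int.ofNat 0, Int.ofNat 0, Int.ofNat 0, Int.ofNat 0, Int.ofNat 0, Int.ofNat 0, Int.negSucc 1, Int.ofNat 0, Int.ofNat 2, Int.ofNat 2, Int.ofNat 0, Int.ofNat 0, Int.ofNat 0, Int.negSucc 1, Int.ofNat 0, Int.ofNat 0, Int.ofNat 0, Int.ofNat 2],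
  [Int.ofNat 3, Int.ofNat 1, Int.negSucc 0, Int.negSucc 0, Int.negSucc 0, Int.negSucc 0, Int.ofNat 1, Int.ofNat 1, Int.ofNat 1, Int.negSucc 0, Int.negSucc 0, Int.ofNat 1, Int.negSucc 0, Int.ofNat 1, Int.ofNat 1, Int.ofNat 1, Int.ofNat 1, Int.negSucc 0, Int.ofNat 1, Int.negSucc 0, Int.negSucc 0, Int.ofNat 1, Int.ofNat 1, Int.negSucc 0],
  [Int.negSucc 0, Int.ofNat 1, Int.ofNat 1, Int.ofNat 3, Int.ofNat 1, Int.negSucc 0, Int.negSucc 0, Int.negSucc 0, Int.negSucc 0, Int.ofNat 1, Int.ofNat 1, Int.ofNat 1, Int.negSucc 0, Int.negSucc 0, Int.ofNat 1, Int.negSucc 0, Int.ofNat 1, Int.ofNat 1, Int.ofNat 1, Int.ofNat 1, Int.negSucc 0, Int.ofNat 1, Int.negSucc 0, Int.negSucc 0],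
  [Int.ofNat 1, Int.negSucc 0, Int.negSucc 0, Int.ofNat 1, Int.ofNat 1, Int.negSucc 2, Int.negSucc 0, Int.negSucc 0, Int.negSucc 0, Int.ofNat 1, Int.ofNat 1, Int.ofNat 1, Int.negSucc 0, Int.negSucc 0, Int.negSucc 0, Int.negSucc 0, Int.ofNat 1, Int.negSucc 0, Int.ofNat 1, Int.ofNat 1, Int.negSucc 0, Int.ofNat 1, Int.negSucc 0, Int.ofNat 1],
  [Int.negSucc 0, Int.negSucc 0, Int.ofNat 1, Int.ofNat 1, Int.negSucc 2, Int.negSucc 0, Int.negSucc 0, Int.negSucc 0, Int.ofNat 1, Int.ofNat 1, Int.ofNat 1, Int.negSucc 0, Int.negSucc 0, Int.negSucc 0, Int.negSucc 0, Int.ofNat 1, Int.negSucc 0, Int.ofNat 1, Int.ofNat 1, Int.negSucc 0, Int.ofNat 1, Int.negSucc 0, Int.ofNat 1, Int.ofNat 1],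
  [Int.ofNat 1, Int.negSucc 0, Int.negSucc 0, Int.ofNat 1, Int.negSucc 2, Int.negSucc 0, Int.negSucc 0, Int.ofNat 1, Int.ofNat 1, Int.negSucc 0, Int.negSucc 0, Int.ofNat 1, Int.negSucc 0, Int.negSucc 0, Int.negSucc 0, Int.ofNat 1, Int.negSucc 0, Int.ofNat 1, Int.negSucc 0, Int.negSucc 0, Int.ofNat 1, Int.ofNat 1, Int.ofNat 1, Int.ofNat 1],
  [Int.negSucc 0, Int.ofNat 1, Int.ofNat 1, Int.negSucc 0, Int.ofNat 3, Int.negSucc 0, Int.ofNat 1, Int.ofNat 1, Int.negSucc 0, Int.ofNat 1, Int.negSucc 0, Int.ofNat 1, Int.ofNat 1, Int.ofNat 1, Int.negSucc 0, Int.ofNat 1, Int.ofNat 1, Int.ofNat 1, Int.ofNat 1, Int.negSucc 0, Int.ofNat 1, Int.ofNat 1, Int.ofNat 1, Int.ofNat 1],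
  [Int.negSucc 0, Int.ofNat 1, Int.ofNat 1, Int.negSucc 0, Int.ofNat 1, Int.negSucc 0, Int.ofNat 3, Int.ofNat 1, Int.ofNat 1, Int.ofNat 1, Int.ofNat 1, Int.negSucc 0, Int.ofNat 1, Int.negSucc 0, Int.negSucc 0, Int.ofNat 1, Int.ofNat 1, Int.ofNat 1, Int.ofNat 1, Int.ofNat 1, Int.negSucc 0, Int.ofNat 1, Int.ofNat 1, Int.ofNat 1],
  [Int.ofNat 1, Int.ofNat 1, Int.negSucc 0, Int.negSucc 0, Int.ofNat 1, Int.negSucc 0, Int.ofNat 3, Int.negSucc 0, Int.ofNat 1, Int.negSucc 0, Int.negSucc 0, Int.ofNat 1, Int.ofNat 1, Int.negSucc 0, Int.negSucc 0, Int.ofNat 1, Int.ofNat 1, Int.ofNat 1, Int.negSucc 0, Int.ofNat 1, Int.negSucc 0, Int.negSucc 0, Int.ofNat 1, Int.ofNat 1],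
  [Int.ofNat 1, Int.ofNat 1, Int.ofNat 1, Int.negSucc 0, Int.negSucc 0, Int.ofNat 1, Int.negSucc 0, Int.ofNat 3, Int.negSucc 0, Int.ofNat 1, Int.negSucc 0, Int.negSucc 0, Int.ofNat 1, Int.ofNat 1, Int.negSucc 0, Int.negSucc 0, Int.ofNat 1, Int.ofNat 1, Int.ofNat 1, Int.negSucc 0, Int.ofNat 1, Int.negSucc 0, Int.negSucc 0, Int.ofNat 1],
  [Int.ofNat 1, Int.ofNat 1, Int.ofNat 1, Int.negSucc 0, Int.negSucc 0, Int.ofNat 1, Int.negSucc 0, Int.ofNat 3, Int.negSucc 0, Int.ofNat 1, Int.negSucc 0, Int.negSucc 0, Int.ofNat 1, Int.ofNat 1, Int.negSucc 0, Int.negSucc 0, Int.ofNat 1, Int.ofNat 1, Int.ofNat 1, Int.negSucc 0, Int.ofNat 1, Int.negSucc 0, Int.negSucc 0, Int.ofNat 1],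
  [Int.negSucc 0, Int.negSucc 0, Int.ofNat 1, Int.negSucc 0, Int.ofNat 3, Int.negSucc 0, Int.ofNat 1, Int.negSucc 0, Int.negSucc 0, Int.ofNat 1, Int.ofNat 1, Int.negSucc 0, Int.negSucc 0, Int.ofNat 1, Int.ofNat 1, Int.ofNat 1, Int.negSucc 0, Int.ofNat 1, Int.negSucc 0, Int.negSucc 0, Int.ofNat 1, Int.ofNat 1, Int.ofNat 1, Int.ofNat 1],
  [Int.ofNat 1, Int.ofNat 1, Int.negSucc 0, Int.negSucc 0, Int.ofNat 1, Int.negSucc 0, Int.ofNat 1, Int.negSucc 0, Int.ofNat 1, Int.negSucc 0, Int.negSucc 0, Int.ofNat 1, Int.ofNat 1, Int.negSucc 0, Int.ofNat 1, Int.negSucc 0, Int.negSucc 2, Int.ofNat 1, Int.ofNat 1, Int.negSucc 0, Int.negSucc 0, Int.ofNat 1, Int.negSucc 0, Int.negSucc 0],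
  [Int.ofNat 1, Int.ofNat 1, Int.ofNat 1, Int.negSucc 0, Int.ofNat 1, Int.negSucc 0, Int.negSucc 0, Int.negSucc 0, Int.ofNat 1, Int.negSucc 0, Int.negSucc 0, Int.ofNat 1, Int.negSucc 0, Int.negSucc 2, Int.negSucc 0, Int.negSucc 0, Int.ofNat 1, Int.ofNat 1, Int.ofNat 1, Int.ofNat 1, Int.ofNat 1, Int.negSucc 0, Int.negSucc 0, Int.negSucc 0],
  [Int.ofNat 0, Int.ofNat 0, Int.ofNat 0, Int.ofNat 0, Int.ofNat 2, Int.ofNat 0, Int.ofNat 0, Int.ofNat 0, Int.ofNat 0, Int.ofNat 0, Int.ofNat 0, Int.ofNat 0, Int.negSucc 1, Int.negSucc 1, Int.ofNat 0, Int.ofNat 0, Int.ofNat 2, Int.ofNat 2, Int.ofNat 0, Int.ofNat 2, Int.ofNat 2, Int.ofNat 0, Int.ofNat 0, Int.ofNat 2],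
  [Int.ofNat 0, Int.ofNat 0, Int.ofNat 0, Int.ofNat 0, Int.ofNat 2, Int.ofNat 0, Int.ofNat 0, Int.ofNat 0, Int.ofNat 0, Int.ofNat 0, Int.ofNat 0, Int.ofNat 0, Int.negSucc 1, Int.negSucc 1, Int.ofNat 0, Int.ofNat 0, Int.ofNat 2, Int.ofNat 2, Int.ofNat 0, Int.ofNat 2, Int.ofNat 2, Int.ofNat 0, Int.ofNat 0, Int.ofNat 2],
  [Int.ofNat 0, Int.ofNat 2, Int.ofNat 0, Int.ofNat 0, Int.ofNat 0, Int.ofNat 0, Int.ofNat 0, Int.ofNat 0, Int.ofNat 0, Int.ofNat 2, Int.negSucc 1, Int.ofNat 0, Int.ofNat 0, Int.ofNat 2, Int.ofNat 2, Int.ofNat 0, Int.ofNat 2, Int.negSucc 1, Int.ofNat 0, Int.ofNat 0, Int.ofNat 0, Int.ofNat 0, Int.ofNat 0, Int.ofNat 2],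
  [Int.ofNat 2, Int.ofNat 0, Int.ofNat 0, Int.ofNat 0, Int.negSucc 1, Int.ofNat 2, Int.ofNat 0, Int.ofNat 2, Int.ofNat 0, Int.ofNat 0, Int.ofNat 2, Int.ofNat 0, Int.ofNat 0, Int.ofNat 0, Int.ofNat 0, Int.ofNat 0, Int.negSucc 1, Int.ofNat 0, Int.ofNat 2, Int.ofNat 0, Int.ofNat 0, Int.ofNat 0, Int.ofNat 2, Int.ofNat 0],
  [Int.negSucc 1, Int.ofNat 0, Int.ofNat 0, Int.ofNat 0, Int.negSucc 1, Int.ofNat 2, Int.ofNat 0, Int.negSucc 1, Int.ofNat 0, Int.ofNat 0, Int.negSucc 1, Int.ofNat 0, Int.ofNat 0, Int.ofNat 0, Int.ofNat 0, Int.ofNat 0, Int.negSucc 1, Int.ofNat 0, Int.negSucc 1, Int.ofNat 0, Int.ofNat 0, Int.ofNat 0, Int.ofNat 2, Int.ofNat 0],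
  [Int.ofNat 2, Int.negSucc 1, Int.ofNat 0, Int.ofNat 0, Int.ofNat 0, Int.negSucc 1, Int.ofNat 2, Int.ofNat 0, Int.negSucc 1, Int.ofNat 0, Int.ofNat 0, Int.negSucc 1, Int.ofNat 0, Int.ofNat 0, Int.ofNat 0, Int.ofNat 0, Int.ofNat 0, Int.negSucc 1, Int.ofNat 0, Int.negSucc 1, Int.ofNat 0, Int.ofNat 0, Int.ofNat 0, Int.ofNat 0],
  [Int.negSucc 1, Int.ofNat 2, Int.ofNat 0, Int.ofNat 2, Int.ofNat 0, Int.ofNat 0, Int.ofNat 2, Int.ofNat 0, Int.ofNat 0, Int.ofNat 0, Int.ofNat 0, Int.ofNat 0, Int.ofNat 2, Int.ofNat 0, Int.ofNat 2, Int.ofNat 0, Int.ofNat 0, Int.ofNat 0, Int.ofNat 2, Int.negSucc 1, Int.ofNat 0, Int.ofNat 0, Int.ofNat 0, Int.ofNat 0],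
  [Int.ofNat 2, Int.ofNat 0, Int.ofNat 0, Int.ofNat 2, Int.ofNat 0, Int.ofNat 0, Int.ofNat 0, Int.ofNat 0, Int.ofNat 0, Int.ofNat 2, Int.ofNat 0, Int.ofNat 2, Int.ofNat 0, Int.ofNat 0, Int.ofNat 0, Int.ofNat 2, Int.negSucc 1, Int.ofNat 0, Int.ofNat 0, Int.ofNat 0, Int.negSucc 1, Int.ofNat 2, Int.ofNat 0, Int.ofNat 0],
  [Int.negSucc 0, Int.ofNat 1, Int.ofNat 1, Int.ofNat 1, Int.ofNat 1, Int.negSucc 0, Int.negSucc 0, Int.negSucc 0, Int.negSucc 0, Int.ofNat 1, Int.negSucc 0, Int.ofNat 1, Int.negSucc 0, Int.ofNat 1, Int.negSucc 0, Int.ofNat 1, Int.negSucc 0, Int.negSucc 0, Int.negSucc 0, Int.negSucc 0, Int.negSucc 2, Int.ofNat 1, Int.ofNat 1, Int.ofNat 1],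
  [Int.negSucc 0, Int.negSucc 0, Int.ofNat 1, Int.ofNat 1, Int.negSucc 0, Int.negSucc 0, Int.ofNat 1, Int.negSucc 0, Int.negSucc 0, Int.ofNat 1, Int.negSucc 2, Int.negSucc 0, Int.ofNat 1, Int.negSucc 0, Int.ofNat 1, Int.ofNat 1, Int.negSucc 0, Int.negSucc 0, Int.ofNat 1, Int.ofNat 1, Int.ofNat 1, Int.negSucc 0, Int.negSucc 0, Int.ofNat 1],
  [Int.ofNat 1, Int.ofNat 1, Int.negSucc 0, Int.ofNat 1, Int.ofNat 1, Int.negSucc 0, Int.ofNat 1, Int.negSucc 0, Int.negSucc 0, Int.ofNat 1, Int.negSucc 2, Int.negSucc 0, Int.ofNat 1, Int.ofNat 1, Int.ofNat 1, Int.ofNat 1, Int.ofNat 1, Int.negSucc 0, Int.ofNat 1, Int.ofNat 1, Int.ofNat 1, Int.negSucc 0, Int.ofNat 1, Int.negSucc 0],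
  [Int.ofNat 1, Int.ofNat 1, Int.ofNat 1, Int.ofNat 1, Int.ofNat 1, Int.ofNat 1, Int.negSucc 0, Int.negSucc 0, Int.negSucc 0, Int.negSucc 0, Int.ofNat 3, Int.negSucc 0, Int.ofNat 1, Int.ofNat 1, Int.ofNat 1, Int.negSucc 0, Int.ofNat 1, Int.negSucc 0, Int.negSucc 0, Int.ofNat 1, Int.ofNat 1, Int.negSucc 0, Int.negSucc 0, Int.negSucc 0],
  [Int.ofNat 1, Int.negSucc 0, Int.ofNat 1, Int.ofNat 1, Int.ofNat 1, Int.negSucc 0, Int.negSucc 0, Int.ofNat 1, Int.ofNat 3, Int.negSucc 0, Int.ofNat 1, Int.negSucc 0, Int.negSucc 0, Int.ofNat 1, Int.ofNat 1, Int.ofNat 1, Int.ofNat 1, Int.negSucc 0, Int.negSucc 0, Int.ofNat 1, Int.negSucc 0, Int.negSucc 0, Int.ofNat 1, Int.negSucc 0],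
  [Int.ofNat 1, Int.negSucc 0, Int.negSucc 0, Int.ofNat 1, Int.ofNat 1, Int.ofNat 1, Int.ofNat 1, Int.ofNat 1, Int.ofNat 3, Int.ofNat 1, Int.negSucc 0, Int.negSucc 0, Int.negSucc 0, Int.ofNat 1, Int.ofNat 1, Int.negSucc 0, Int.ofNat 1, Int.negSucc 0, Int.ofNat 1, Int.ofNat 1, Int.negSucc 0, Int.negSucc 0, Int.negSucc 0, Int.negSucc 0],
  [Int.negSucc 1, Int.ofNat 0, Int.ofNat 0, Int.ofNat 0, Int.ofNat 0, Int.ofNat 0, Int.ofNat 0, Int.ofNat 0, Int.ofNat 2, Int.ofNat 2, Int.ofNat 0, Int.negSucc 1, Int.negSucc 1, Int.ofNat 0, Int.ofNat 0, Int.ofNat 0, Int.ofNat 0, Int.negSucc 1, Int.ofNat 0, Int.ofNat 0, Int.ofNat 0, Int.negSucc 1, Int.negSucc 1, Int.ofNat 0],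
  [Int.negSucc 1, Int.ofNat 0, Int.ofNat 0, Int.ofNat 0, Int.ofNat 0, Int.negSucc 1, Int.ofNat 0, Int.ofNat 0, Int.ofNat 0, Int.negSucc 1, Int.ofNat 0, Int.ofNat 0, Int.ofNat 2, Int.ofNat 2, Int.negSucc 1, Int.ofNat 0, Int.ofNat 0, Int.negSucc 1, Int.ofNat 0, Int.negSucc 1, Int.ofNat 0, Int.ofNat 0, Int.ofNat 0, Int.ofNat 0],
  [Int.ofNat 1, Int.negSucc 0, Int.negSucc 0, Int.ofNat 3, Int.negSucc 0, Int.ofNat 1, Int.ofNat 1, Int.ofNat 1, Int.negSucc 0, Int.negSucc 0, Int.ofNat 1, Int.negSucc 0, Int.ofNat 1, Int.ofNat 1, Int.ofNat 1, Int.ofNat 1, Int.negSucc 0, Int.ofNat 1, Int.negSucc 0, Int.negSucc 0, Int.ofNat 1, Int.ofNat 1, Int.negSucc 0, Int.negSucc 0],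
  [Int.ofNat 1, Int.ofNat 1, Int.negSucc 0, Int.ofNat 1, Int.negSucc 0, Int.negSucc 0, Int.ofNat 3, Int.negSucc 0, Int.ofNat 1, Int.ofNat 1, Int.ofNat 1, Int.negSucc 0, Int.negSucc 0, Int.ofNat 1, Int.negSucc 0, Int.ofNat 1, Int.ofNat 1, Int.ofNat 1, Int.ofNat 1, Int.negSucc 0, Int.ofNat 1, Int.negSucc 0, Int.negSucc 0, Int.negSucc 0],
  [Int.negSucc 0, Int.negSucc 0, Int.ofNat 1, Int.ofNat 1, Int.negSucc 0, Int.negSucc 0, Int.ofNat 3, Int.negSucc 0, Int.ofNat 1, Int.negSucc 0, Int.negSucc 0, Int.negSucc 0, Int.negSucc 0, Int.ofNat 1, Int.negSucc 0, Int.negSucc 0, Int.ofNat 1, Int.ofNat 1, Int.ofNat 1, Int.negSucc 0, Int.negSucc 0, Int.negSucc 0, Int.negSucc 0, Int.ofNat 1],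
  [Int.negSucc 0, Int.ofNat 1, Int.ofNat 1, Int.negSucc 0, Int.negSucc 0, Int.ofNat 3, Int.negSucc 0, Int.ofNat 1, Int.negSucc 0, Int.negSucc 0, Int.negSucc 0, Int.negSucc 0, Int.ofNat 1, Int.negSucc 0, Int.negSucc 0, Int.ofNat 1, Int.ofNat 1, Int.ofNat 1, Int.negSucc 0, Int.negSucc 0, Int.negSucc 0, Int.negSucc 0, Int.negSucc 0, Int.ofNat 1],
  [Int.ofNat 1, Int.ofNat 1, Int.negSucc 0, Int.negSucc 0, Int.negSucc 0, Int.ofNat 3, Int.negSucc 0, Int.negSucc 0, Int.negSucc 0, Int.ofNat 1, Int.ofNat 1, Int.ofNat 1, Int.ofNat 1, Int.negSucc 0, Int.negSucc 0, Int.ofNat 1, Int.ofNat 1, Int.ofNat 1, Int.ofNat 1, Int.negSucc 0, Int.negSucc 0, Int.ofNat 1, Int.negSucc 0, Int.ofNat 1],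
  [Int.negSucc 0, Int.negSucc 0, Int.ofNat 1, Int.ofNat 1, Int.ofNat 1, Int.ofNat 3, Int.ofNat 1, Int.negSucc 0, Int.ofNat 1, Int.negSucc 0, Int.ofNat 1, Int.ofNat 1, Int.negSucc 0, Int.ofNat 1, Int.negSucc 0, Int.ofNat 1, Int.negSucc 0, Int.ofNat 1, Int.negSucc 0, Int.negSucc 0, Int.negSucc 0, Int.ofNat 1, Int.negSucc 0, Int.ofNat 1],
  [Int.negSucc 0, Int.ofNat 1, Int.negSucc 0, Int.ofNat 1, Int.negSucc 0, Int.ofNat 1, Int.ofNat 1, Int.negSucc 0, Int.negSucc 0, Int.negSucc 0, Int.ofNat 1, Int.negSucc 0, Int.ofNat 1, Int.ofNat 1, Int.negSucc 0, Int.ofNat 1, Int.negSucc 0, Int.negSucc 0, Int.ofNat 1, Int.ofNat 1, Int.ofNat 3, Int.negSucc 0, Int.ofNat 1, Int.ofNat 1],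
  [Int.ofNat 1, Int.ofNat 1, Int.ofNat 1, Int.ofNat 1, Int.negSucc 0, Int.ofNat 1, Int.ofNat 1, Int.ofNat 1, Int.negSucc 0, Int.ofNat 1, Int.negSucc 0, Int.ofNat 1, Int.ofNat 1, Int.ofNat 1, Int.negSucc 0, Int.ofNat 1, Int.negSucc 0, Int.negSucc 0, Int.negSucc 0, Int.ofNat 1, Int.ofNat 3, Int.ofNat 1, Int.ofNat 1, Int.ofNat 1],
  [Int.ofNat 1, Int.ofNat 1, Int.ofNat 1, Int.ofNat 1, Int.ofNat 1, Int.negSucc 0, Int.ofNat 1, Int.ofNat 1, Int.ofNat 1, Int.negSucc 0, Int.ofNat 1, Int.negSucc 0, Int.ofNat 1, Int.ofNat 1, Int.ofNat 1, Int.negSucc 0, Int.ofNat 1, Int.negSucc 0, Int.negSucc 0, Int.negSucc 0, Int.ofNat 1, Int.ofNat 3, Int.ofNat 1, Int.ofNat 1],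
  [Int.ofNat 1, Int.ofNat 1, Int.ofNat 1, Int.ofNat 1, Int.negSucc 0, Int.negSucc 0, Int.negSucc 0, Int.negSucc 0, Int.ofNat 1, Int.negSucc 0, Int.ofNat 1, Int.negSucc 0, Int.ofNat 1, Int.negSucc 0, Int.ofNat 1, Int.negSucc 0, Int.negSucc 0, Int.negSucc 0, Int.negSucc 0, Int.negSucc 2, Int.ofNat 1, Int.ofNat 1, Int.negSucc 0, Int.ofNat 1],
  [Int.ofNat 1, Int.negSucc 0, Int.negSucc 0, Int.negSucc 0, Int.negSucc 0, Int.ofNat 1, Int.negSucc 0, Int.ofNat 1, Int.negSucc 0, Int.ofNat 1, Int.negSucc 0, Int.ofNat 1, Int.negSucc 0, Int.negSucc 0, Int.negSucc 0, Int.negSucc 0, Int.negSucc 2, Int.ofNat 1, Int.ofNat 1, Int.negSucc 0, Int.ofNat 1, Int.ofNat 1, Int.ofNat 1, Int.ofNat 1],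
  [Int.negSucc 0, Int.ofNat 1, Int.ofNat 1, Int.negSucc 0, Int.ofNat 1, Int.ofNat 1, Int.negSucc 0, Int.ofNat 1, Int.negSucc 0, Int.ofNat 1, Int.negSucc 0, Int.ofNat 1, Int.negSucc 0, Int.ofNat 1, Int.negSucc 0, Int.negSucc 0, Int.negSucc 0, Int.ofNat 1, Int.ofNat 1, Int.negSucc 0, Int.ofNat 1, Int.ofNat 1, Int.ofNat 3, Int.negSucc 0],
  [Int.negSucc 0, Int.negSucc 0, Int.ofNat 1, Int.negSucc 0, Int.ofNat 1, Int.ofNat 1, Int.ofNat 1, Int.negSucc 0, Int.negSucc 0, Int.ofNat 1, Int.ofNat 1, Int.ofNat 1, Int.ofNat 1, Int.negSucc 0, Int.ofNat 3, Int.negSucc 0, Int.negSucc 0, Int.negSucc 0, Int.ofNat 1, Int.ofNat 1, Int.ofNat 1, Int.ofNat 1, Int.negSucc 0, Int.negSucc 0],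
  [Int.ofNat 0, Int.ofNat 0, Int.negSucc 1, Int.negSucc 1, Int.ofNat 2, Int.ofNat 0, Int.ofNat 0, Int.negSucc 1, Int.negSucc 1, Int.ofNat 0, Int.ofNat 0, Int.ofNat 0, Int.ofNat 0, Int.ofNat 0, Int.ofNat 2, Int.negSucc 1, Int.ofNat 0, Int.negSucc 1, Int.ofNat 0, Int.ofNat 0, Int.ofNat 0, Int.ofNat 0, Int.ofNat 0, Int.ofNat 0],
  [Int.ofNat 0, Int.ofNat 0, Int.ofNat 2, Int.negSucc 1, Int.ofNat 2, Int.ofNat 0, Int.ofNat 0, Int.negSucc 1, Int.negSucc 1, Int.ofNat 0, Int.ofNat 0, Int.ofNat 0, Int.ofNat 0, Int.ofNat 0, Int.ofNat 2, Int.ofNat 2, Int.ofNat 0, Int.negSucc 1, Int.ofNat 0, Int.ofNat 0, Int.ofNat 0, Int.ofNat 0, Int.ofNat 0, Int.ofNat 0],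
  [Int.ofNat 0, Int.ofNat 0, Int.ofNat 0, Int.negSucc 1, Int.ofNat 2, Int.ofNat 0, Int.ofNat 0, Int.negSucc 1, Int.ofNat 0, Int.ofNat 0, Int.ofNat 0, Int.negSucc 1, Int.ofNat 2, Int.ofNat 2, Int.negSucc 1, Int.ofNat 0, Int.ofNat 0, Int.ofNat 0, Int.ofNat 0, Int.ofNat 2, Int.ofNat 0, Int.ofNat 0, Int.ofNat 0, Int.ofNat 0],
  [Int.ofNat 0, Int.ofNat 0, Int.negSucc 1, Int.ofNat 0, Int.ofNat 0, Int.ofNat 0, Int.ofNat 2, Int.ofNat 2, Int.ofNat 0, Int.ofNat 0, Int.ofNat 0, Int.ofNat 0, Int.ofNat 0, Int.negSucc 1, Int.ofNat 0, Int.negSucc 1, Int.ofNat 0, Int.ofNat 2, Int.negSucc 1, Int.ofNat 0, Int.ofNat 0, Int.ofNat 2, Int.ofNat 0, Int.ofNat 0],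
  [Int.ofNat 0, Int.ofNat 0, Int.ofNat 2, Int.ofNat 0, Int.ofNat 0, Int.ofNat 0, Int.ofNat 2, Int.negSucc 1, Int.ofNat 0, Int.ofNat 0, Int.ofNat 0, Int.ofNat 0, Int.ofNat 0, Int.negSucc 1, Int.ofNat 0, Int.negSucc 1, Int.ofNat 0, Int.ofNat 2, Int.ofNat 2, Int.ofNat 0, Int.ofNat 0, Int.negSucc 1, Int.ofNat 0, Int.ofNat 0],
  [Int.ofNat 0, Int.ofNat 0, Int.ofNat 0, Int.ofNat 2, Int.ofNat 0, Int.ofNat 0, Int.ofNat 0, Int.ofNat 2, Int.negSucc 1, Int.ofNat 0, Int.ofNat 0, Int.ofNat 0, Int.ofNat 0, Int.ofNat 0, Int.negSucc 1, Int.ofNat 0, Int.negSucc 1, Int.ofNat 0, Int.ofNat 2, Int.ofNat 2, Int.ofNat 0, Int.ofNat 0, Int.negSucc 1, Int.ofNat 0],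
  [Int.ofNat 0, Int.ofNat 0, Int.ofNat 0, Int.ofNat 2, Int.ofNat 2, Int.ofNat 0, Int.negSucc 1, Int.ofNat 0, Int.negSucc 1, Int.ofNat 0, Int.ofNat 0, Int.ofNat 0, Int.ofNat 0, Int.ofNat 2, Int.negSucc 1, Int.ofNat 0, Int.ofNat 0, Int.ofNat 0, Int.ofNat 2, Int.ofNat 0, Int.ofNat 0, Int.negSucc 1, Int.ofNat 0, Int.ofNat 0],
  [Int.ofNat 2, Int.ofNat 2, Int.ofNat 0, Int.negSucc 1, Int.ofNat 0, Int.negSucc 1, Int.ofNat 0, Int.ofNat 0, Int.ofNat 0, Int.ofNat 0, Int.ofNat 2, Int.negSucc 1, Int.ofNat 0, Int.ofNat 0, Int.ofNat 0, Int.ofNat 2, Int.ofNat 0, Int.ofNat 0, Int.negSucc 1, Int.ofNat 0, Int.ofNat 0, Int.ofNat 0, Int.ofNat 0, Int.ofNat 0],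
  [Int.ofNat 0, Int.ofNat 0, Int.ofNat 2, Int.ofNat 0, Int.ofNat 0, Int.ofNat 0, Int.ofNat 0, Int.ofNat 0, Int.ofNat 2, Int.negSucc 1, Int.ofNat 0, Int.ofNat 0, Int.ofNat 2, Int.ofNat 0, Int.ofNat 2, Int.ofNat 0, Int.ofNat 0, Int.ofNat 2, Int.ofNat 0, Int.ofNat 0, Int.negSucc 1, Int.ofNat 0, Int.ofNat 0, Int.ofNat 2],
  [Int.ofNat 0, Int.ofNat 0, Int.ofNat 0, Int.ofNat 0, Int.ofNat 0, Int.ofNat 0, Int.ofNat 2, Int.ofNat 0, Int.ofNat 2, Int.ofNat 0, Int.negSucc 1, Int.ofNat 2, Int.negSucc 1, Int.ofNat 0, Int.ofNat 0, Int.ofNat 0, Int.ofNat 2, Int.ofNat 2, Int.ofNat 0, Int.ofNat 0, Int.ofNat 0, Int.ofNat 0, Int.ofNat 0, Int.ofNat 2],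
  [Int.ofNat 1, Int.ofNat 1, Int.ofNat 1, Int.negSucc 0, Int.negSucc 0, Int.negSucc 0, Int.ofNat 1, Int.negSucc 0, Int.ofNat 1, Int.ofNat 1, Int.negSucc 0, Int.ofNat 1, Int.negSucc 2, Int.negSucc 0, Int.negSucc 0, Int.ofNat 1, Int.ofNat 1, Int.ofNat 1, Int.negSucc 0, Int.negSucc 0, Int.ofNat 1, Int.negSucc 0, Int.negSucc 0, Int.negSucc 0],
  [Int.ofNat 1, Int.ofNat 1, Int.negSucc 0, Int.negSucc 0, Int.negSucc 0, Int.ofNat 1, Int.negSucc 0, Int.negSucc 0, Int.ofNat 1, Int.negSucc 0, Int.ofNat 1, Int.ofNat 1, Int.negSucc 2, Int.negSucc 0, Int.negSucc 0, Int.negSucc 0, Int.ofNat 1, Int.ofNat 1, Int.ofNat 1, Int.negSucc 0, Int.ofNat 1, Int.negSucc 0, Int.ofNat 1, Int.negSucc 0],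
  [Int.negSucc 2, Int.negSucc 0, Int.negSucc 0, Int.negSucc 0, Int.negSucc 0, Int.negSucc 0, Int.ofNat 1, Int.ofNat 1, Int.ofNat 1, Int.ofNat 1, Int.ofNat 1, Int.ofNat 1, Int.ofNat 1, Int.negSucc 0, Int.ofNat 1, Int.ofNat 1, Int.ofNat 1, Int.negSucc 0, Int.negSucc 0, Int.negSucc 0, Int.negSucc 0, Int.ofNat 1, Int.negSucc 0, Int.negSucc 0],
  [Int.negSucc 2, Int.negSucc 0, Int.ofNat 1, Int.negSucc 0, Int.negSucc 0, Int.ofNat 1, Int.negSucc 0, Int.ofNat 1, Int.ofNat 1, Int.negSucc 0, Int.negSucc 0, Int.ofNat 1, Int.ofNat 1, Int.negSucc 0, Int.ofNat 1, Int.negSucc 0, Int.ofNat 1, Int.negSucc 0, Int.ofNat 1, Int.negSucc 0, Int.negSucc 0, Int.ofNat 1, Int.ofNat 1, Int.negSucc 0],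
  [Int.ofNat 1, Int.negSucc 0, Int.negSucc 2, Int.negSucc 0, Int.negSucc 0, Int.ofNat 1, Int.negSucc 0, Int.ofNat 1, Int.negSucc 0, Int.ofNat 1, Int.ofNat 1, Int.negSucc 0, Int.negSucc 0, Int.negSucc 0, Int.ofNat 1, Int.ofNat 1, Int.ofNat 1, Int.negSucc 0, Int.negSucc 0, Int.negSucc 0, Int.ofNat 1, Int.ofNat 1, Int.ofNat 1, Int.negSucc 0],
  [Int.ofNat 1, Int.negSucc 0, Int.negSucc 0, Int.negSucc 0, Int.negSucc 2, Int.ofNat 1, Int.negSucc 0, Int.ofNat 1, Int.ofNat 1, Int.negSucc 0, Int.ofNat 1, Int.negSucc 0, Int.negSucc 0, Int.ofNat 1, Int.negSucc 0, Int.ofNat 1, Int.negSucc 0, Int.negSucc 0, Int.negSucc 0, Int.ofNat 1, Int.ofNat 1, Int.ofNat 1, Int.ofNat 1, Int.negSucc 0],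
  [Int.negSucc 1, Int.ofNat 0, Int.ofNat 0, Int.ofNat 0, Int.negSucc 1, Int.ofNat 2, Int.negSucc 1, Int.ofNat 0, Int.ofNat 2, Int.negSucc 1, Int.ofNat 0, Int.ofNat 0, Int.ofNat 0, Int.ofNat 2, Int.ofNat 0, Int.ofNat 0, Int.ofNat 0, Int.ofNat 0, Int.ofNat 0, Int.ofNat 0, Int.ofNat 0, Int.ofNat 0, Int.ofNat 2, Int.ofNat 0],
  [Int.ofNat 0, Int.ofNat 0, Int.ofNat 2, Int.negSucc 1, Int.ofNat 0, Int.ofNat 0, Int.ofNat 0, Int.negSucc 1, Int.ofNat 2, Int.negSucc 1, Int.ofNat 0, Int.ofNat 2, Int.negSucc 1, Int.ofNat 0, Int.ofNat 0, Int.ofNat 0, Int.ofNat 2, Int.ofNat 0, Int.ofNat 0, Int.ofNat 0, Int.ofNat 0, Int.ofNat 0, Int.ofNat 0, Int.ofNat 0],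
  [Int.ofNat 1, Int.ofNat 1, Int.negSucc 0, Int.negSucc 0, Int.negSucc 0, Int.ofNat 1, Int.ofNat 1, Int.negSucc 0, Int.ofNat 1, Int.negSucc 0, Int.ofNat 1, Int.ofNat 1, Int.negSucc 2, Int.negSucc 0, Int.ofNat 1, Int.ofNat 1, Int.ofNat 1, Int.ofNat 1, Int.negSucc 0, Int.ofNat 1, Int.ofNat 1, Int.ofNat 1, Int.negSucc 0, Int.ofNat 1],
  [Int.ofNat 1, Int.negSucc 0, Int.negSucc 0, Int.negSucc 0, Int.ofNat 1, Int.ofNat 1, Int.negSucc 0, Int.ofNat 1, Int.negSucc 0, Int.ofNat 1, Int.ofNat 1, Int.negSucc 2, Int.negSucc 0, Int.ofNat 1, Int.ofNat 1, Int.ofNat 1, Int.ofNat 1, Int.negSucc 0, Int.ofNat 1, Int.ofNat 1, Int.ofNat 1, Int.negSucc 0, Int.ofNat 1, Int.ofNat 1],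
  [Int.negSucc 0, Int.negSucc 0, Int.ofNat 1, Int.negSucc 0, Int.ofNat 1, Int.ofNat 1, Int.negSucc 0, Int.negSucc 0, Int.negSucc 0, Int.negSucc 0, Int.negSucc 0, Int.ofNat 3, Int.negSucc 0, Int.ofNat 1, Int.ofNat 1, Int.ofNat 1, Int.ofNat 1, Int.negSucc 0, Int.negSucc 0, Int.ofNat 1, Int.ofNat 1, Int.ofNat 1, Int.ofNat 1, Int.ofNat 1]]

set_option maxRecDepth 100000 in
theorem c1te6_chk : pmChk (List.replicate 14 [6, 0, 26, 25]).flatten nxL c1te6M 0 0 = true := by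
  decide +kernel

theorem c1te6_ne : wE letE2 (List.replicate 14 [6, 0, 26, 25]).flatten ≠ 1 ∧ wE letE2 (List.replicate 14 [6, 0, 26, 25]).flatten ≠ negElt :=
  ne_pm_of_chk nxL_mem c1te6_chk

set_option maxRecDepth 100000 in
def c1te7M : List (List ℤ) :=
  [[Int.ofNat 4, Int.ofNat 0, Int.ofNat 0, Int.ofNat 0, Int.ofNat 0, Int.ofNat 0, Int.ofNat 0, Int.ofNat 0, Int.ofNat 0, Int.ofNat 0, Int.ofNat 0, Int.ofNat 0, Int.ofNat 0, Int.ofNat 0, Int.ofNat 0, Int.ofNat 0, Int.ofNat 0, Int.ofNat 0, Int.ofNat 0, Int.ofNat 0, Int.ofNat 0, Int.ofNat 0, Int.ofNat 0, Int.ofNat 4],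
  [Int.ofNat 4, Int.ofNat 0, Int.ofNat 0, Int.ofNat 0, Int.ofNat 0, Int.ofNat 0, Int.ofNat 0, Int.ofNat 0, Int.ofNat 0, Int.ofNat 0, Int.ofNat 0, Int.ofNat 0, Int.ofNat 0, Int.ofNat 0, Int.ofNat 0, Int.ofNat 0, Int.ofNat 0, Int.ofNat 0, Int.ofNat 0, Int.ofNat 0, Int.ofNat 0, Int.ofNat 0, Int.ofNat 0, Int.ofNat 4],
  [Int.negSucc 3, Int.ofNat 0, Int.ofNat 0, Int.ofNat 0, Int.ofNat 0, Int.ofNat 0, Int.ofNat 0, Int.ofNat 0, Int.ofNat 0, Int.ofNat 0, Int.ofNat 0, Int.ofNat 0, Int.ofNat 0, Int.ofNat 0, Int.ofNat 0, Int.ofNat 0, Int.ofNat 0, Int.ofNat 0, Int.ofNat 0, Int.ofNat 0, Int.ofNat 0, Int.ofNat 0, Int.ofNat 0, Int.ofNat 4],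
  [Int.ofNat 0, Int.negSucc 3, Int.ofNat 0, Int.ofNat 0, Int.ofNat 0, Int.ofNat 0, Int.ofNat 0, Int.ofNat 0, Int.ofNat 0, Int.ofNat 0, Int.ofNat 0, Int.ofNat 0, Int.ofNat 0, Int.ofNat 0, Int.ofNat 0, Int.ofNat 0, Int.ofNat 0, Int.ofNat 0, Int.ofNat 0, Int.ofNat 0, Int.ofNat 0, Int.ofNat 0, Int.ofNat 0, Int.ofNat 4],
  [Int.ofNat 0, Int.ofNat 4, Int.ofNat 0, Int.ofNat 0, Int.ofNat 0, Int.ofNat 0, Int.ofNat 0, Int.ofNat 0, Int.ofNat 0, Int.ofNat 0, Int.ofNat 0, Int.ofNat 0, Int.ofNat 0, Int.ofNat 0, Int.ofNat 0, Int.ofNat 0, Int.ofNat 0, Int.ofNat 0, Int.ofNat 0, Int.ofNat 0, Int.ofNat 0, Int.ofNat 0, Int.ofNat 0, Int.negSucc 3],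
  [Int.ofNat 0, Int.ofNat 0, Int.ofNat 0, Int.ofNat 0, Int.ofNat 0, Int.ofNat 0, Int.ofNat 0, Int.ofNat 0, Int.ofNat 0, Int.ofNat 0, Int.ofNat 0, Int.ofNat 0, Int.ofNat 0, Int.ofNat 0, Int.ofNat 0, Int.ofNat 0, Int.ofNat 0, Int.ofNat 0, Int.ofNat 0, Int.ofNat 0, Int.ofNat 0, Int.ofNat 4, Int.ofNat 0, Int.negSucc 3],
  [Int.negSucc 1, Int.negSucc 1, Int.negSucc 1, Int.ofNat 0, Int.ofNat 0, Int.ofNat 0, Int.negSucc 1, Int.negSucc 1, Int.ofNat 0, Int.ofNat 0, Int.ofNat 0, Int.ofNat 0, Int.ofNat 0, Int.ofNat 0, Int.ofNat 0, Int.ofNat 0, Int.ofNat 0, Int.ofNat 0, Int.ofNat 0, Int.negSucc 1, Int.ofNat 0, Int.ofNat 2, Int.ofNat 0, Int.ofNat 2],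
  [Int.negSucc 1, Int.negSucc 1, Int.ofNat 0, Int.ofNat 0, Int.ofNat 0, Int.negSucc 1, Int.negSucc 1, Int.ofNat 0, Int.ofNat 0, Int.ofNat 0, Int.ofNat 0, Int.ofNat 0, Int.ofNat 0, Int.ofNat 0, Int.ofNat 0, Int.ofNat 0, Int.ofNat 0, Int.ofNat 0, Int.negSucc 1, Int.ofNat 0, Int.ofNat 2, Int.ofNat 0, Int.negSucc 1, Int.ofNat 2],
  [Int.ofNat 1, Int.ofNat 1, Int.negSucc 0, Int.ofNat 1, Int.ofNat 1, Int.negSucc 0, Int.negSucc 0, Int.ofNat 1, Int.ofNat 1, Int.negSucc 0, Int.negSucc 0, Int.ofNat 1, Int.ofNat 1, Int.ofNat 1, Int.ofNat 1, Int.negSucc 0, Int.ofNat 1, Int.ofNat 1, Int.negSucc 0, Int.ofNat 1, Int.ofNat 1, Int.ofNat 1, Int.negSucc 0, Int.negSucc 2],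
  [Int.ofNat 1, Int.ofNat 1, Int.ofNat 1, Int.ofNat 1, Int.ofNat 1, Int.ofNat 1, Int.ofNat 1, Int.ofNat 1, Int.ofNat 1, Int.ofNat 1, Int.ofNat 1, Int.ofNat 1, Int.ofNat 1, Int.ofNat 1, Int.ofNat 1, Int.ofNat 1, Int.ofNat 1, Int.ofNat 1, Int.ofNat 1, Int.ofNat 1, Int.ofNat 1, Int.ofNat 1, Int.ofNat 1, Int.negSucc 2],
  [Int.ofNat 1, Int.ofNat 1, Int.ofNat 1, Int.ofNat 1, Int.ofNat 1, Int.ofNat 1, Int.ofNat 1, Int.ofNat 1, Int.ofNat 1, Int.ofNat 1, Int.ofNat 1, Int.ofNat 1, Int.ofNat 1, Int.ofNat 1, Int.ofNat 1, Int.ofNat 1, Int.ofNat 1, Int.ofNat 1, Int.ofNat 1, Int.ofNat 1, Int.ofNat 1, Int.ofNat 1, Int.ofNat 1, Int.negSucc 2],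
  [Int.negSucc 2, Int.ofNat 1, Int.ofNat 1, Int.ofNat 1, Int.ofNat 1, Int.ofNat 1, Int.ofNat 1, Int.ofNat 1, Int.ofNat 1, Int.ofNat 1, Int.ofNat 1, Int.ofNat 1, Int.ofNat 1, Int.ofNat 1, Int.ofNat 1, Int.ofNat 1, Int.ofNat 1, Int.ofNat 1, Int.ofNat 1, Int.ofNat 1, Int.ofNat 1, Int.ofNat 1, Int.ofNat 1, Int.ofNat 1],
  [Int.ofNat 3, Int.ofNat 1, Int.negSucc 0, Int.ofNat 1, Int.ofNat 1, Int.ofNat 1, Int.ofNat 1, Int.negSucc 0, Int.ofNat 1, Int.negSucc 0, Int.negSucc 0, Int.negSucc 0, Int.ofNat 1, Int.ofNat 1, Int.ofNat 1, Int.ofNat 1, Int.ofNat 1, Int.ofNat 1, Int.negSucc 0, Int.ofNat 1, Int.ofNat 1, Int.negSucc 0, Int.ofNat 1, Int.ofNat 1],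
  [Int.ofNat 1, Int.ofNat 3, Int.ofNat 1, Int.negSucc 0, Int.ofNat 1, Int.ofNat 1, Int.ofNat 1, Int.ofNat 1, Int.negSucc 0, Int.ofNat 1, Int.negSucc 0, Int.negSucc 0, Int.negSucc 0, Int.ofNat 1, Int.ofNat 1, Int.ofNat 1, Int.ofNat 1, Int.ofNat 1, Int.ofNat 1, Int.negSucc 0, Int.ofNat 1, Int.ofNat 1, Int.negSucc 0, Int.ofNat 1],
  [Int.ofNat 2, Int.ofNat 0, Int.ofNat 2, Int.negSucc 1, Int.ofNat 0, Int.ofNat 0, Int.ofNat 0, Int.ofNat 0, Int.ofNat 0, Int.ofNat 0, Int.negSucc 1, Int.ofNat 0, Int.ofNat 0, Int.ofNat 0, Int.ofNat 0, Int.ofNat 0, Int.ofNat 0, Int.ofNat 0, Int.ofNat 2, Int.negSucc 1, Int.ofNat 0, Int.ofNat 0, Int.negSucc 1, Int.ofNat 2],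
  [Int.negSucc 1, Int.ofNat 0, Int.ofNat 0, Int.ofNat 0, Int.ofNat 0, Int.ofNat 0, Int.ofNat 0, Int.negSucc 1, Int.ofNat 0, Int.ofNat 0, Int.ofNat 0, Int.ofNat 0, Int.ofNat 0, Int.ofNat 0, Int.ofNat 0, Int.ofNat 2, Int.negSucc 1, Int.ofNat 0, Int.ofNat 0, Int.negSucc 1, Int.ofNat 2, Int.ofNat 0, Int.ofNat 2, Int.ofNat 2],
  [Int.ofNat 2, Int.ofNat 0, Int.ofNat 0, Int.ofNat 0, Int.ofNat 0, Int.ofNat 0, Int.ofNat 2, Int.ofNat 0, Int.ofNat 0, Int.negSucc 1, Int.negSucc 1, Int.ofNat 0, Int.ofNat 0, Int.ofNat 0, Int.ofNat 0, Int.ofNat 0, Int.negSucc 1, Int.ofNat 0, Int.ofNat 0, Int.ofNat 0, Int.ofNat 0, Int.ofNat 2, Int.ofNat 2, Int.negSucc 1],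
  [Int.ofNat 2, Int.ofNat 2, Int.ofNat 0, Int.ofNat 0, Int.ofNat 0, Int.ofNat 0, Int.ofNat 0, Int.negSucc 1, Int.ofNat 0, Int.ofNat 0, Int.ofNat 0, Int.ofNat 0, Int.negSucc 1, Int.negSucc 1, Int.ofNat 2, Int.ofNat 0, Int.ofNat 0, Int.ofNat 0, Int.ofNat 0, Int.ofNat 0, Int.ofNat 2, Int.ofNat 0, Int.ofNat 0, Int.negSucc 1],
  [Int.negSucc 0, Int.negSucc 0, Int.ofNat 1, Int.negSucc 0, Int.ofNat 1, Int.negSucc 0, Int.ofNat 1, Int.negSucc 0, Int.ofNat 1, Int.negSucc 0, Int.negSucc 0, Int.ofNat 1, Int.negSucc 0, Int.negSucc 0, Int.ofNat 1, Int.negSucc 0, Int.ofNat 1, Int.negSucc 0, Int.ofNat 1, Int.ofNat 1, Int.ofNat 1, Int.ofNat 1, Int.ofNat 1, Int.ofNat 3],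
  [Int.negSucc 0, Int.negSucc 0, Int.negSucc 0, Int.negSucc 0, Int.ofNat 1, Int.ofNat 1, Int.negSucc 0, Int.negSucc 0, Int.ofNat 1, Int.ofNat 1, Int.ofNat 1, Int.ofNat 1, Int.negSucc 0, Int.negSucc 0, Int.ofNat 1, Int.ofNat 1, Int.ofNat 1, Int.negSucc 0, Int.negSucc 0, Int.ofNat 1, Int.ofNat 1, Int.ofNat 1, Int.negSucc 0, Int.ofNat 3],
  [Int.negSucc 0, Int.ofNat 1, Int.ofNat 1, Int.negSucc 0, Int.negSucc 0, Int.ofNat 1, Int.ofNat 1, Int.negSucc 0, Int.negSucc 0, Int.ofNat 1, Int.ofNat 1, Int.negSucc 0, Int.ofNat 1, Int.ofNat 1, Int.ofNat 1, Int.negSucc 0, Int.ofNat 1, Int.negSucc 0, Int.ofNat 1, Int.ofNat 1, Int.negSucc 0, Int.negSucc 0, Int.negSucc 0, Int.ofNat 3],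
  [Int.negSucc 0, Int.ofNat 1, Int.negSucc 0, Int.negSucc 0, Int.negSucc 0, Int.negSucc 0, Int.negSucc 0, Int.negSucc 0, Int.negSucc 0, Int.negSucc 0, Int.negSucc 0, Int.negSucc 0, Int.ofNat 1, Int.ofNat 1, Int.ofNat 1, Int.ofNat 1, Int.ofNat 1, Int.negSucc 0, Int.negSucc 0, Int.ofNat 1, Int.negSucc 0, Int.negSucc 0, Int.ofNat 1, Int.ofNat 3],
  [Int.ofNat 2, Int.ofNat 0, Int.ofNat 2, Int.ofNat 0, Int.negSucc 1, Int.ofNat 0, Int.ofNat 0, Int.ofNat 0, Int.ofNat 0, Int.ofNat 0, Int.ofNat 0, Int.ofNat 0, Int.ofNat 2, Int.ofNat 0, Int.ofNat 2, Int.ofNat 2, Int.ofNat 0, Int.ofNat 0, Int.ofNat 0, Int.ofNat 2, Int.ofNat 0, Int.ofNat 0, Int.ofNat 0, Int.negSucc 1],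
  [Int.ofNat 2, Int.ofNat 0, Int.ofNat 0, Int.ofNat 0, Int.ofNat 2, Int.ofNat 0, Int.ofNat 0, Int.ofNat 0, Int.ofNat 0, Int.ofNat 2, Int.ofNat 0, Int.ofNat 2, Int.ofNat 0, Int.ofNat 0, Int.ofNat 0, Int.ofNat 2, Int.ofNat 0, Int.ofNat 0, Int.negSucc 1, Int.ofNat 0, Int.ofNat 0, Int.ofNat 0, Int.ofNat 2, Int.negSucc 1],
  [Int.negSucc 1, Int.ofNat 0, Int.ofNat 0, Int.ofNat 0, Int.ofNat 0, Int.ofNat 0, Int.ofNat 0, Int.ofNat 0, Int.ofNat 0, Int.ofNat 0, Int.negSucc 1, Int.ofNat 2, Int.ofNat 0, Int.negSucc 1, Int.ofNat 0, Int.ofNat 0, Int.negSucc 1, Int.ofNat 0, Int.negSucc 1, Int.ofNat 0, Int.negSucc 1, Int.ofNat 0, Int.ofNat 0, Int.ofNat 2],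
  [Int.negSucc 1, Int.ofNat 0, Int.ofNat 0, Int.negSucc 1, Int.ofNat 0, Int.ofNat 0, Int.ofNat 0, Int.ofNat 0, Int.ofNat 0, Int.ofNat 0, Int.ofNat 0, Int.ofNat 0, Int.ofNat 0, Int.negSucc 1, Int.ofNat 2, Int.ofNat 0, Int.negSucc 1, Int.ofNat 0, Int.ofNat 0, Int.negSucc 1, Int.ofNat 0, Int.negSucc 1, Int.ofNat 0, Int.ofNat 2],
  [Int.ofNat 2, Int.ofNat 0, Int.ofNat 0, Int.negSucc 1, Int.ofNat 2, Int.ofNat 0, Int.ofNat 2, Int.ofNat 2, Int.ofNat 0, Int.ofNat 0, Int.ofNat 0, Int.ofNat 0, Int.ofNat 0, Int.ofNat 0, Int.ofNat 2, Int.ofNat 0, Int.ofNat 0, Int.ofNat 0, Int.ofNat 0, Int.ofNat 0, Int.ofNat 0, Int.ofNat 0, Int.ofNat 2, Int.negSucc 1],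
  [Int.ofNat 0, Int.ofNat 0, Int.negSucc 1, Int.ofNat 2, Int.ofNat 0, Int.ofNat 2, Int.ofNat 2, Int.ofNat 0, Int.ofNat 0, Int.ofNat 0, Int.ofNat 0, Int.ofNat 0, Int.ofNat 0, Int.ofNat 2, Int.ofNat 0, Int.ofNat 0, Int.ofNat 0, Int.ofNat 0, Int.ofNat 0, Int.ofNat 0, Int.ofNat 0, Int.ofNat 2, Int.ofNat 2, Int.negSucc 1],
  [Int.ofNat 0, Int.ofNat 0, Int.ofNat 2, Int.ofNat 2, Int.ofNat 0, Int.ofNat 2, Int.ofNat 2, Int.ofNat 0, Int.ofNat 0, Int.ofNat 0, Int.ofNat 0, Int.ofNat 0, Int.ofNat 0, Int.ofNat 2, Int.ofNat 0, Int.ofNat 0, Int.ofNat 0, Int.ofNat 0, Int.ofNat 0, Int.ofNat 0, Int.ofNat 0, Int.negSucc 1, Int.ofNat 2, Int.negSucc 1],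
  [Int.ofNat 0, Int.ofNat 0, Int.negSucc 1, Int.negSucc 1, Int.ofNat 0, Int.ofNat 2, Int.negSucc 1, Int.ofNat 0, Int.ofNat 0, Int.ofNat 0, Int.ofNat 0, Int.ofNat 0, Int.ofNat 0, Int.negSucc 1, Int.ofNat 0, Int.ofNat 0, Int.ofNat 0, Int.ofNat 0, Int.ofNat 0, Int.ofNat 0, Int.ofNat 0, Int.negSucc 1, Int.ofNat 2, Int.negSucc 1],
  [Int.ofNat 0, Int.negSucc 1, Int.ofNat 0, Int.negSucc 1, Int.ofNat 0, Int.ofNat 0, Int.ofNat 0, Int.ofNat 0, Int.ofNat 0, Int.ofNat 0, Int.negSucc 1, Int.ofNat 0, Int.negSucc 1, Int.ofNat 0, Int.ofNat 0, Int.ofNat 0, Int.ofNat 0, Int.ofNat 2, Int.negSucc 1, Int.ofNat 0, Int.ofNat 2, Int.ofNat 0, Int.ofNat 0, Int.negSucc 1],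
  [Int.ofNat 0, Int.negSucc 1, Int.ofNat 0, Int.negSucc 1, Int.ofNat 0, Int.ofNat 0, Int.ofNat 0, Int.ofNat 0, Int.ofNat 0, Int.ofNat 0, Int.ofNat 2, Int.ofNat 0, Int.negSucc 1, Int.ofNat 0, Int.ofNat 0, Int.ofNat 0, Int.ofNat 0, Int.ofNat 2, Int.ofNat 2, Int.ofNat 0, Int.ofNat 2, Int.ofNat 0, Int.ofNat 0, Int.negSucc 1],
  [Int.ofNat 0, Int.ofNat 0, Int.negSucc 1, Int.ofNat 0, Int.negSucc 1, Int.ofNat 0, Int.ofNat 0, Int.ofNat 0, Int.ofNat 0, Int.ofNat 0, Int.ofNat 0, Int.ofNat 2, Int.ofNat 0, Int.negSucc 1, Int.ofNat 0, Int.ofNat 0, Int.ofNat 0, Int.ofNat 0, Int.ofNat 2, Int.ofNat 2, Int.ofNat 0, Int.ofNat 2, Int.ofNat 0, Int.negSucc 1],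
  [Int.negSucc 1, Int.negSucc 1, Int.ofNat 0, Int.ofNat 0, Int.ofNat 0, Int.ofNat 0, Int.negSucc 1, Int.negSucc 1, Int.negSucc 1, Int.ofNat 0, Int.ofNat 0, Int.ofNat 0, Int.negSucc 1, Int.ofNat 0, Int.ofNat 0, Int.ofNat 0, Int.ofNat 2, Int.ofNat 0, Int.ofNat 0, Int.ofNat 0, Int.ofNat 0, Int.ofNat 0, Int.ofNat 2, Int.ofNat 0],
  [Int.ofNat 0, Int.ofNat 0, Int.ofNat 0, Int.negSucc 1, Int.negSucc 1, Int.negSucc 1, Int.ofNat 0, Int.ofNat 0, Int.ofNat 0, Int.negSucc 1, Int.ofNat 0, Int.ofNat 0, Int.ofNat 0, Int.ofNat 2, Int.ofNat 0, Int.ofNat 0, Int.ofNat 0, Int.ofNat 0, Int.ofNat 0, Int.ofNat 2, Int.negSucc 1, Int.negSucc 1, Int.ofNat 0, Int.ofNat 0],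
  [Int.ofNat 0, Int.ofNat 0, Int.ofNat 0, Int.ofNat 0, Int.negSucc 1, Int.ofNat 0, Int.ofNat 0, Int.ofNat 0, Int.ofNat 0, Int.ofNat 0, Int.ofNat 2, Int.ofNat 0, Int.ofNat 0, Int.ofNat 2, Int.ofNat 2, Int.ofNat 2, Int.ofNat 0, Int.ofNat 2, Int.ofNat 0, Int.ofNat 2, Int.ofNat 0, Int.negSucc 1, Int.ofNat 0, Int.ofNat 0],
  [Int.ofNat 0, Int.ofNat 0, Int.negSucc 1, Int.ofNat 0, Int.ofNat 0, Int.ofNat 0, Int.ofNat 0, Int.ofNat 2, Int.ofNat 0, Int.ofNat 2, Int.ofNat 0, Int.ofNat 2, Int.ofNat 0, Int.ofNat 0, Int.ofNat 0, Int.ofNat 2, Int.ofNat 0, Int.ofNat 2, Int.ofNat 0, Int.ofNat 0, Int.negSucc 1, Int.ofNat 0, Int.ofNat 2, Int.ofNat 0],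
  [Int.negSucc 0, Int.negSucc 0, Int.ofNat 1, Int.negSucc 0, Int.negSucc 0, Int.negSucc 0, Int.negSucc 0, Int.ofNat 1, Int.negSucc 0, Int.ofNat 1, Int.negSucc 0, Int.ofNat 1, Int.negSucc 0, Int.negSucc 0, Int.negSucc 0, Int.ofNat 1, Int.negSucc 0, Int.ofNat 1, Int.negSucc 0, Int.negSucc 0, Int.negSucc 2, Int.negSucc 0, Int.ofNat 1, Int.negSucc 0],
  [Int.negSucc 0, Int.negSucc 0, Int.negSucc 0, Int.negSucc 0, Int.negSucc 0, Int.ofNat 1, Int.ofNat 1, Int.ofNat 1, Int.negSucc 0, Int.negSucc 0, Int.ofNat 1, Int.ofNat 1, Int.negSucc 0, Int.negSucc 0, Int.negSucc 0, Int.negSucc 0, Int.negSucc 0, Int.ofNat 1, Int.ofNat 1, Int.negSucc 0, Int.negSucc 2, Int.negSucc 0, Int.negSucc 0, Int.negSucc 0],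
  [Int.ofNat 1, Int.negSucc 0, Int.ofNat 1, Int.negSucc 0, Int.negSucc 0, Int.ofNat 1, Int.negSucc 0, Int.negSucc 0, Int.ofNat 1, Int.negSucc 2, Int.negSucc 0, Int.ofNat 1, Int.negSucc 0, Int.negSucc 0, Int.ofNat 1, Int.ofNat 1, Int.negSucc 0, Int.negSucc 0, Int.negSucc 0, Int.negSucc 0, Int.negSucc 0, Int.negSucc 0, Int.negSucc 0, Int.negSucc 0],
  [Int.negSucc 0, Int.negSucc 0, Int.ofNat 1, Int.ofNat 1, Int.negSucc 0, Int.negSucc 2, Int.negSucc 0, Int.negSucc 0, Int.negSucc 0, Int.ofNat 1, Int.negSucc 0, Int.ofNat 1, Int.negSucc 0, Int.negSucc 0, Int.negSucc 0, Int.negSucc 0, Int.negSucc 0, Int.negSucc 0, Int.ofNat 1, Int.negSucc 0, Int.ofNat 1, Int.negSucc 0, Int.negSucc 0, Int.ofNat 1],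
  [Int.ofNat 1, Int.negSucc 0, Int.negSucc 0, Int.ofNat 1, Int.negSucc 0, Int.negSucc 2, Int.negSucc 0, Int.ofNat 1, Int.negSucc 0, Int.negSucc 0, Int.ofNat 1, Int.negSucc 0, Int.negSucc 0, Int.negSucc 0, Int.negSucc 0, Int.negSucc 0, Int.negSucc 0, Int.negSucc 0, Int.negSucc 0, Int.negSucc 0, Int.ofNat 1, Int.ofNat 1, Int.negSucc 0, Int.ofNat 1],
  [Int.negSucc 0, Int.ofNat 1, Int.negSucc 0, Int.negSucc 0, Int.ofNat 1, Int.negSucc 0, Int.negSucc 2, Int.negSucc 0, Int.ofNat 1, Int.negSucc 0, Int.negSucc 0, Int.ofNat 1, Int.negSucc 0, Int.negSucc 0, Int.negSucc 0, Int.negSucc 0, Int.negSucc 0, Int.negSucc 0, Int.negSucc 0, Int.negSucc 0, Int.negSucc 0, Int.ofNat 1, Int.ofNat 1, Int.ofNat 1],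
  [Int.ofNat 1, Int.negSucc 0, Int.ofNat 1, Int.ofNat 1, Int.ofNat 1, Int.ofNat 1, Int.negSucc 0, Int.ofNat 1, Int.ofNat 1, Int.ofNat 1, Int.ofNat 1, Int.ofNat 1, Int.negSucc 0, Int.negSucc 0, Int.ofNat 1, Int.ofNat 1, Int.negSucc 0, Int.ofNat 1, Int.negSucc 0, Int.ofNat 1, Int.ofNat 1, Int.ofNat 3, Int.ofNat 1, Int.negSucc 0],
  [Int.ofNat 1, Int.ofNat 1, Int.ofNat 1, Int.negSucc 0, Int.ofNat 1, Int.ofNat 1, Int.ofNat 1, Int.ofNat 1, Int.ofNat 1, Int.negSucc 0, Int.negSucc 0, Int.ofNat 1, Int.ofNat 1, Int.negSucc 0, Int.ofNat 1, Int.negSucc 0, Int.ofNat 1, Int.ofNat 1, Int.ofNat 3, Int.ofNat 1, Int.ofNat 1, Int.negSucc 0, Int.ofNat 1, Int.negSucc 0],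
  [Int.ofNat 0, Int.ofNat 0, Int.ofNat 0, Int.negSucc 1, Int.ofNat 0, Int.ofNat 0, Int.ofNat 0, Int.ofNat 0, Int.negSucc 1, Int.ofNat 0, Int.ofNat 0, Int.negSucc 1, Int.negSucc 1, Int.negSucc 1, Int.ofNat 0, Int.ofNat 0, Int.ofNat 0, Int.ofNat 0, Int.ofNat 0, Int.ofNat 0, Int.ofNat 2, Int.negSucc 1, Int.ofNat 0, Int.ofNat 2],
  [Int.ofNat 0, Int.ofNat 0, Int.ofNat 0, Int.negSucc 1, Int.ofNat 0, Int.ofNat 0, Int.ofNat 0, Int.ofNat 0, Int.negSucc 1, Int.negSucc 1, Int.ofNat 2, Int.ofNat 0, Int.ofNat 0, Int.ofNat 0, Int.ofNat 0, Int.ofNat 0, Int.negSucc 1, Int.ofNat 0, Int.ofNat 0, Int.negSucc 1, Int.negSucc 1, Int.ofNat 0, Int.ofNat 0, Int.ofNat 2],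
  [Int.ofNat 1, Int.ofNat 1, Int.ofNat 1, Int.negSucc 0, Int.ofNat 1, Int.ofNat 1, Int.ofNat 1, Int.ofNat 1, Int.negSucc 0, Int.negSucc 0, Int.ofNat 3, Int.ofNat 1, Int.ofNat 1, Int.ofNat 1, Int.ofNat 1, Int.ofNat 1, Int.negSucc 0, Int.ofNat 1, Int.ofNat 1, Int.negSucc 0, Int.negSucc 0, Int.ofNat 1, Int.ofNat 1, Int.negSucc 0],
  [Int.ofNat 1, Int.ofNat 1, Int.negSucc 0, Int.negSucc 0, Int.ofNat 1, Int.negSucc 0, Int.negSucc 0, Int.ofNat 1, Int.negSucc 0, Int.ofNat 1, Int.negSucc 2, Int.ofNat 1, Int.ofNat 1, Int.ofNat 1, Int.ofNat 1, Int.negSucc 0, Int.negSucc 0, Int.ofNat 1, Int.negSucc 0, Int.negSucc 0, Int.negSucc 0, Int.ofNat 1, Int.negSucc 0, Int.negSucc 0],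
  [Int.negSucc 0, Int.ofNat 1, Int.ofNat 1, Int.negSucc 0, Int.ofNat 1, Int.negSucc 0, Int.ofNat 1, Int.negSucc 0, Int.ofNat 1, Int.negSucc 0, Int.negSucc 0, Int.ofNat 1, Int.ofNat 1, Int.ofNat 1, Int.negSucc 0, Int.ofNat 1, Int.negSucc 0, Int.negSucc 0, Int.negSucc 2, Int.negSucc 0, Int.ofNat 1, Int.ofNat 1, Int.negSucc 0, Int.negSucc 0],
  [Int.negSucc 0, Int.ofNat 1, Int.negSucc 0, Int.negSucc 0, Int.ofNat 1, Int.ofNat 1, Int.negSucc 0, Int.negSucc 0, Int.ofNat 1, Int.ofNat 1, Int.ofNat 1, Int.ofNat 1, Int.ofNat 1, Int.ofNat 1, Int.negSucc 0, Int.negSucc 0, Int.negSucc 0, Int.negSucc 0, Int.ofNat 3, Int.negSucc 0, Int.ofNat 1, Int.ofNat 1, Int.ofNat 1, Int.negSucc 0],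
  [Int.ofNat 0, Int.negSucc 1, Int.ofNat 0, Int.ofNat 0, Int.ofNat 0, Int.ofNat 2, Int.ofNat 0, Int.ofNat 0, Int.negSucc 1, Int.ofNat 0, Int.ofNat 0, Int.negSucc 1, Int.negSucc 1, Int.ofNat 0, Int.ofNat 0, Int.negSucc 1, Int.negSucc 1, Int.ofNat 0, Int.ofNat 0, Int.ofNat 0, Int.ofNat 0, Int.ofNat 2, Int.ofNat 0, Int.ofNat 0],
  [Int.ofNat 0, Int.ofNat 0, Int.ofNat 0, Int.ofNat 0, Int.ofNat 0, Int.ofNat 2, Int.negSucc 1, Int.ofNat 2, Int.negSucc 1, Int.negSucc 1, Int.ofNat 0, Int.ofNat 0, Int.negSucc 1, Int.ofNat 0, Int.ofNat 0, Int.negSucc 1, Int.ofNat 0, Int.negSucc 1, Int.ofNat 0, Int.ofNat 0, Int.ofNat 0, Int.ofNat 0, Int.ofNat 0, Int.ofNat 0],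
  [Int.ofNat 0, Int.ofNat 0, Int.ofNat 0, Int.ofNat 0, Int.ofNat 0, Int.ofNat 2, Int.negSucc 1, Int.ofNat 2, Int.ofNat 0, Int.ofNat 0, Int.ofNat 2, Int.ofNat 2, Int.ofNat 0, Int.ofNat 0, Int.ofNat 0, Int.ofNat 0, Int.ofNat 0, Int.negSucc 1, Int.ofNat 2, Int.ofNat 0, Int.ofNat 2, Int.ofNat 0, Int.ofNat 0, Int.ofNat 0],
  [Int.ofNat 2, Int.ofNat 0, Int.ofNat 0, Int.ofNat 0, Int.ofNat 0, Int.ofNat 0, Int.ofNat 0, Int.ofNat 0, Int.ofNat 2, Int.negSucc 1, Int.ofNat 2, Int.ofNat 0, Int.ofNat 0, Int.ofNat 2, Int.ofNat 2, Int.ofNat 0, Int.ofNat 0, Int.ofNat 0, Int.ofNat 0, Int.ofNat 0, Int.negSucc 1, Int.ofNat 2, Int.ofNat 0, Int.ofNat 0],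
  [Int.negSucc 0, Int.ofNat 1, Int.ofNat 1, Int.negSucc 0, Int.negSucc 0, Int.negSucc 0, Int.negSucc 0, Int.negSucc 0, Int.ofNat 1, Int.negSucc 0, Int.ofNat 3, Int.negSucc 0, Int.negSucc 0, Int.ofNat 1, Int.ofNat 1, Int.ofNat 1, Int.negSucc 0, Int.negSucc 0, Int.negSucc 0, Int.negSucc 0, Int.negSucc 0, Int.ofNat 1, Int.negSucc 0, Int.ofNat 1],
  [Int.ofNat 1, Int.ofNat 1, Int.negSucc 0, Int.negSucc 0, Int.negSucc 0, Int.negSucc 0, Int.negSucc 0, Int.ofNat 1, Int.negSucc 0, Int.ofNat 3, Int.negSucc 0, Int.negSucc 0, Int.ofNat 1, Int.ofNat 1, Int.ofNat 1, Int.negSucc 0, Int.negSucc 0, Int.negSucc 0, Int.negSucc 0, Int.negSucc 0, Int.ofNat 1, Int.negSucc 0, Int.negSucc 0, Int.ofNat 1],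
  [Int.negSucc 0, Int.ofNat 1, Int.ofNat 1, Int.negSucc 0, Int.negSucc 0, Int.negSucc 0, Int.negSucc 0, Int.negSucc 0, Int.negSucc 0, Int.negSucc 2, Int.ofNat 1, Int.ofNat 1, Int.ofNat 1, Int.ofNat 1, Int.ofNat 1, Int.negSucc 0, Int.negSucc 0, Int.negSucc 0, Int.ofNat 1, Int.negSucc 0, Int.ofNat 1, Int.ofNat 1, Int.negSucc 0, Int.ofNat 1],
  [Int.ofNat 1, Int.negSucc 0, Int.negSucc 0, Int.ofNat 1, Int.ofNat 1, Int.negSucc 0, Int.ofNat 1, Int.negSucc 0, Int.ofNat 1, Int.ofNat 3, Int.ofNat 1, Int.ofNat 1, Int.negSucc 0, Int.negSucc 0, Int.ofNat 1, Int.negSucc 0, Int.ofNat 1, Int.negSucc 0, Int.negSucc 0, Int.negSucc 0, Int.ofNat 1, Int.ofNat 1, Int.negSucc 0, Int.ofNat 1],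
  [Int.ofNat 1, Int.negSucc 0, Int.negSucc 0, Int.ofNat 1, Int.negSucc 0, Int.ofNat 1, Int.ofNat 1, Int.ofNat 1, Int.ofNat 3, Int.ofNat 1, Int.ofNat 1, Int.ofNat 1, Int.negSucc 0, Int.ofNat 1, Int.negSucc 0, Int.negSucc 0, Int.negSucc 0, Int.negSucc 0, Int.ofNat 1, Int.negSucc 0, Int.negSucc 0, Int.negSucc 0, Int.ofNat 1, Int.ofNat 1],
  [Int.negSucc 0, Int.negSucc 0, Int.ofNat 1, Int.ofNat 1, Int.negSucc 0, Int.ofNat 1, Int.ofNat 1, Int.negSucc 0, Int.ofNat 3, Int.negSucc 0, Int.negSucc 0, Int.negSucc 0, Int.negSucc 0, Int.ofNat 1, Int.negSucc 0, Int.negSucc 0, Int.negSucc 0, Int.negSucc 0, Int.negSucc 0, Int.negSucc 0, Int.negSucc 0, Int.ofNat 1, Int.ofNat 1, Int.ofNat 1],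
  [Int.ofNat 1, Int.negSucc 0, Int.negSucc 0, Int.ofNat 1, Int.ofNat 1, Int.negSucc 0, Int.ofNat 1, Int.ofNat 1, Int.negSucc 0, Int.ofNat 3, Int.negSucc 0, Int.negSucc 0, Int.negSucc 0, Int.negSucc 0, Int.ofNat 1, Int.negSucc 0, Int.negSucc 0, Int.negSucc 0, Int.negSucc 0, Int.negSucc 0, Int.negSucc 0, Int.negSucc 0, Int.ofNat 1, Int.ofNat 1],
  [Int.negSucc 0, Int.ofNat 1, Int.ofNat 1, Int.ofNat 1, Int.ofNat 1, Int.negSucc 0, Int.ofNat 1, Int.ofNat 1, Int.ofNat 1, Int.ofNat 3, Int.negSucc 0, Int.ofNat 1, Int.ofNat 1, Int.negSucc 0, Int.ofNat 1, Int.negSucc 0, Int.negSucc 0, Int.negSucc 0, Int.ofNat 1, Int.negSucc 0, Int.negSucc 0, Int.negSucc 0, Int.ofNat 1, Int.negSucc 0],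
  [Int.ofNat 1, Int.ofNat 1, Int.negSucc 0, Int.ofNat 1, Int.ofNat 1, Int.ofNat 1, Int.ofNat 3, Int.negSucc 0, Int.ofNat 1, Int.ofNat 1, Int.negSucc 0, Int.ofNat 1, Int.negSucc 0, Int.negSucc 0, Int.negSucc 0, Int.ofNat 1, Int.negSucc 0, Int.negSucc 0, Int.negSucc 0, Int.ofNat 1, Int.negSucc 0, Int.ofNat 1, Int.ofNat 1, Int.negSucc 0],
  [Int.negSucc 0, Int.negSucc 0, Int.ofNat 1, Int.ofNat 1, Int.ofNat 1, Int.ofNat 1, Int.ofNat 1, Int.negSucc 2, Int.ofNat 1, Int.ofNat 1, Int.negSucc 0, Int.ofNat 1, Int.negSucc 0, Int.negSucc 0, Int.negSucc 0, Int.ofNat 1, Int.negSucc 0, Int.negSucc 0, Int.negSucc 0, Int.negSucc 0, Int.negSucc 0, Int.negSucc 0, Int.ofNat 1, Int.ofNat 1],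
  [Int.negSucc 0, Int.ofNat 1, Int.ofNat 1, Int.ofNat 1, Int.negSucc 0, Int.negSucc 2, Int.ofNat 1, Int.negSucc 0, Int.negSucc 0, Int.negSucc 0, Int.negSucc 0, Int.negSucc 0, Int.ofNat 1, Int.negSucc 0, Int.ofNat 1, Int.ofNat 1, Int.ofNat 1, Int.negSucc 0, Int.negSucc 0, Int.ofNat 1, Int.negSucc 0, Int.ofNat 1, Int.negSucc 0, Int.ofNat 1],
  [Int.ofNat 2, Int.ofNat 0, Int.ofNat 0, Int.ofNat 2, Int.ofNat 0, Int.negSucc 1, Int.ofNat 0, Int.negSucc 1, Int.ofNat 0, Int.ofNat 0, Int.ofNat 0, Int.ofNat 0, Int.ofNat 2, Int.ofNat 0, Int.ofNat 2, Int.ofNat 2, Int.ofNat 2, Int.ofNat 0, Int.ofNat 0, Int.ofNat 0, Int.ofNat 0, Int.ofNat 0, Int.ofNat 0, Int.ofNat 0],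
  [Int.ofNat 2, Int.ofNat 0, Int.ofNat 0, Int.ofNat 2, Int.ofNat 0, Int.ofNat 2, Int.ofNat 0, Int.negSucc 1, Int.ofNat 0, Int.ofNat 0, Int.ofNat 0, Int.ofNat 0, Int.ofNat 2, Int.ofNat 0, Int.ofNat 2, Int.negSucc 1, Int.ofNat 2, Int.ofNat 0, Int.ofNat 0, Int.ofNat 0, Int.ofNat 0, Int.ofNat 0, Int.ofNat 0, Int.ofNat 0],
  [Int.ofNat 0, Int.ofNat 2, Int.ofNat 0, Int.ofNat 0, Int.ofNat 2, Int.ofNat 0, Int.ofNat 0, Int.ofNat 2, Int.ofNat 2, Int.ofNat 0, Int.ofNat 0, Int.negSucc 1, Int.negSucc 1, Int.ofNat 0, Int.ofNat 0, Int.ofNat 0, Int.ofNat 0, Int.ofNat 2, Int.ofNat 0, Int.ofNat 0, Int.ofNat 2, Int.ofNat 0, Int.ofNat 0, Int.ofNat 0],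
  [Int.ofNat 0, Int.ofNat 0, Int.negSucc 1, Int.ofNat 0, Int.ofNat 2, Int.ofNat 0, Int.ofNat 0, Int.ofNat 0, Int.ofNat 2, Int.ofNat 0, Int.ofNat 0, Int.ofNat 0, Int.ofNat 0, Int.ofNat 2, Int.ofNat 0, Int.ofNat 0, Int.ofNat 0, Int.ofNat 2, Int.ofNat 0, Int.ofNat 0, Int.ofNat 2, Int.negSucc 1, Int.ofNat 2, Int.ofNat 0],
  [Int.ofNat 0, Int.ofNat 0, Int.ofNat 2, Int.ofNat 0, Int.ofNat 2, Int.ofNat 0, Int.ofNat 0, Int.ofNat 0, Int.ofNat 2, Int.ofNat 0, Int.ofNat 0, Int.ofNat 0, Int.ofNat 0, Int.ofNat 2, Int.ofNat 0, Int.ofNat 0, Int.ofNat 0, Int.ofNat 2, Int.ofNat 0, Int.ofNat 0, Int.ofNat 2, Int.ofNat 2, Int.ofNat 2, Int.ofNat 0],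
  [Int.ofNat 2, Int.ofNat 0, Int.ofNat 0, Int.ofNat 2, Int.ofNat 0, Int.ofNat 2, Int.ofNat 0, Int.ofNat 0, Int.ofNat 0, Int.ofNat 2, Int.ofNat 0, Int.ofNat 0, Int.ofNat 0, Int.ofNat 0, Int.ofNat 2, Int.ofNat 0, Int.ofNat 0, Int.ofNat 0, Int.ofNat 2, Int.ofNat 0, Int.ofNat 0, Int.ofNat 2, Int.ofNat 2, Int.ofNat 0],
  [Int.negSucc 0, Int.ofNat 1, Int.ofNat 1, Int.negSucc 0, Int.negSucc 0, Int.negSucc 0, Int.negSucc 0, Int.negSucc 0, Int.negSucc 0, Int.ofNat 1, Int.negSucc 0, Int.negSucc 0, Int.negSucc 0, Int.negSucc 0, Int.negSucc 0, Int.negSucc 0, Int.negSucc 0, Int.negSucc 2, Int.ofNat 1, Int.negSucc 0, Int.negSucc 0, Int.ofNat 1, Int.ofNat 1, Int.ofNat 1],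
  [Int.negSucc 0, Int.negSucc 0, Int.negSucc 0, Int.negSucc 0, Int.negSucc 0, Int.negSucc 0, Int.ofNat 1, Int.negSucc 0, Int.negSucc 0, Int.negSucc 0, Int.negSucc 0, Int.negSucc 0, Int.negSucc 0, Int.negSucc 0, Int.negSucc 2, Int.ofNat 1, Int.negSucc 0, Int.negSucc 0, Int.ofNat 1, Int.ofNat 1, Int.negSucc 0, Int.ofNat 1, Int.ofNat 1, Int.ofNat 1],
  [Int.ofNat 0, Int.ofNat 0, Int.ofNat 0, Int.ofNat 2, Int.ofNat 0, Int.ofNat 2, Int.ofNat 0, Int.negSucc 1, Int.ofNat 0, Int.ofNat 0, Int.ofNat 0, Int.ofNat 0, Int.ofNat 0, Int.ofNat 0, Int.ofNat 0, Int.ofNat 2, Int.ofNat 0, Int.ofNat 2, Int.ofNat 2, Int.ofNat 0, Int.ofNat 0, Int.ofNat 0, Int.ofNat 2, Int.negSucc 1],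
  [Int.ofNat 0, Int.ofNat 0, Int.ofNat 0, Int.ofNat 2, Int.ofNat 2, Int.negSucc 1, Int.ofNat 0, Int.ofNat 0, Int.ofNat 0, Int.ofNat 0, Int.ofNat 0, Int.ofNat 2, Int.ofNat 0, Int.ofNat 0, Int.ofNat 2, Int.ofNat 2, Int.ofNat 0, Int.ofNat 0, Int.ofNat 0, Int.ofNat 0, Int.ofNat 0, Int.ofNat 2, Int.ofNat 0, Int.negSucc 1],
  [Int.negSucc 0, Int.negSucc 0, Int.negSucc 0, Int.ofNat 1, Int.ofNat 1, Int.negSucc 2, Int.negSucc 0, Int.negSucc 0, Int.negSucc 0, Int.negSucc 0, Int.negSucc 0, Int.ofNat 1, Int.negSucc 0, Int.negSucc 0, Int.ofNat 1, Int.ofNat 1, Int.negSucc 0, Int.negSucc 0, Int.negSucc 0, Int.negSucc 0, Int.negSucc 0, Int.ofNat 1, Int.negSucc 0, Int.ofNat 1],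
  [Int.negSucc 0, Int.negSucc 0, Int.ofNat 1, Int.ofNat 1, Int.ofNat 1, Int.ofNat 3, Int.ofNat 1, Int.negSucc 0, Int.negSucc 0, Int.ofNat 1, Int.ofNat 1, Int.ofNat 1, Int.negSucc 0, Int.negSucc 0, Int.ofNat 1, Int.negSucc 0, Int.negSucc 0, Int.negSucc 0, Int.ofNat 1, Int.negSucc 0, Int.negSucc 0, Int.ofNat 1, Int.ofNat 1, Int.ofNat 1],
  [Int.ofNat 1, Int.ofNat 1, Int.ofNat 1, Int.ofNat 1, Int.negSucc 0, Int.negSucc 0, Int.ofNat 1, Int.ofNat 1, Int.negSucc 0, Int.negSucc 0, Int.ofNat 3, Int.negSucc 0, Int.ofNat 1, Int.ofNat 1, Int.negSucc 0, Int.negSucc 0, Int.negSucc 0, Int.ofNat 1, Int.ofNat 1, Int.negSucc 0, Int.negSucc 0, Int.negSucc 0, Int.ofNat 1, Int.ofNat 1],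
  [Int.ofNat 1, Int.ofNat 1, Int.negSucc 0, Int.ofNat 1, Int.negSucc 0, Int.ofNat 1, Int.negSucc 0, Int.ofNat 1, Int.negSucc 0, Int.ofNat 1, Int.negSucc 2, Int.negSucc 0, Int.ofNat 1, Int.ofNat 1, Int.negSucc 0, Int.ofNat 1, Int.negSucc 0, Int.ofNat 1, Int.negSucc 0, Int.negSucc 0, Int.negSucc 0, Int.negSucc 0, Int.negSucc 0, Int.ofNat 1],
  [Int.ofNat 0, Int.ofNat 0, Int.ofNat 2, Int.ofNat 0, Int.ofNat 0, Int.ofNat 0, Int.ofNat 0, Int.ofNat 2, Int.ofNat 0, Int.ofNat 2, Int.negSucc 1, Int.ofNat 0, Int.ofNat 2, Int.ofNat 2, Int.negSucc 1, Int.ofNat 2, Int.ofNat 0, Int.ofNat 0, Int.ofNat 0, Int.ofNat 0, Int.ofNat 0, Int.ofNat 0, Int.ofNat 0, Int.ofNat 0],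
  [Int.ofNat 0, Int.ofNat 0, Int.ofNat 0, Int.ofNat 0, Int.ofNat 2, Int.ofNat 0, Int.ofNat 0, Int.ofNat 0, Int.ofNat 0, Int.ofNat 2, Int.ofNat 2, Int.ofNat 0, Int.ofNat 0, Int.ofNat 2, Int.ofNat 0, Int.ofNat 2, Int.ofNat 2, Int.ofNat 0, Int.ofNat 0, Int.ofNat 0, Int.negSucc 1, Int.ofNat 0, Int.negSucc 1, Int.ofNat 0],
  [Int.ofNat 0, Int.ofNat 0, Int.ofNat 0, Int.ofNat 0, Int.ofNat 0, Int.ofNat 0, Int.ofNat 0, Int.ofNat 0, Int.ofNat 0, Int.ofNat 0, Int.ofNat 0, Int.ofNat 0, Int.ofNat 0, Int.ofNat 0, Int.ofNat 0, Int.ofNat 0, Int.ofNat 0, Int.ofNat 0, Int.ofNat 0, Int.ofNat 0, Int.negSucc 3, Int.ofNat 0, Int.negSucc 3, Int.ofNat 0],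
  [Int.negSucc 3, Int.ofNat 0, Int.negSucc 3, Int.ofNat 0, Int.ofNat 0, Int.ofNat 0, Int.ofNat 0, Int.ofNat 0, Int.ofNat 0, Int.ofNat 0, Int.ofNat 0, Int.ofNat 0, Int.ofNat 0, Int.ofNat 0, Int.ofNat 0, Int.ofNat 0, Int.ofNat 0, Int.ofNat 0, Int.ofNat 0, Int.ofNat 0, Int.ofNat 0, Int.ofNat 0, Int.ofNat 0, Int.ofNat 0],
  [Int.ofNat 0, Int.negSucc 3, Int.ofNat 0, Int.ofNat 0, Int.ofNat 0, Int.ofNat 0, Int.ofNat 0, Int.ofNat 0, Int.ofNat 0, Int.ofNat 0, Int.ofNat 0, Int.ofNat 0, Int.ofNat 0, Int.ofNat 0, Int.ofNat 0, Int.ofNat 0, Int.ofNat 0, Int.ofNat 0, Int.ofNat 0, Int.ofNat 0, Int.ofNat 0, Int.ofNat 0, Int.ofNat 0, Int.negSucc 3],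
  [Int.negSucc 3, Int.ofNat 0, Int.ofNat 0, Int.ofNat 0, Int.ofNat 0, Int.ofNat 0, Int.ofNat 0, Int.ofNat 0, Int.ofNat 0, Int.ofNat 0, Int.ofNat 0, Int.ofNat 0, Int.ofNat 0, Int.ofNat 0, Int.ofNat 0, Int.ofNat 0, Int.ofNat 0, Int.ofNat 0, Int.ofNat 0, Int.ofNat 0, Int.ofNat 0, Int.ofNat 0, Int.ofNat 0, Int.negSucc 3],
  [Int.ofNat 4, Int.ofNat 0, Int.ofNat 0, Int.ofNat 0, Int.ofNat 0, Int.ofNat 0, Int.ofNat 0, Int.ofNat 0, Int.ofNat 0, Int.ofNat 0, Int.ofNat 0, Int.ofNat 0, Int.ofNat 0, Int.ofNat 0, Int.ofNat 0, Int.ofNat 0, Int.ofNat 0, Int.ofNat 0, Int.ofNat 0, Int.ofNat 0, Int.ofNat 0, Int.ofNat 0, Int.ofNat 0, Int.negSucc 3],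
  [Int.negSucc 3, Int.ofNat 0, Int.ofNat 0, Int.ofNat 0, Int.ofNat 0, Int.ofNat 0, Int.ofNat 0, Int.ofNat 0, Int.ofNat 0, Int.ofNat 0, Int.ofNat 0, Int.ofNat 0, Int.ofNat 0, Int.ofNat 0, Int.ofNat 0, Int.ofNat 0, Int.ofNat 0, Int.ofNat 0, Int.ofNat 0, Int.ofNat 0, Int.ofNat 0, Int.ofNat 0, Int.ofNat 0, Int.negSucc 3],
  [Int.negSucc 3, Int.ofNat 0, Int.ofNat 0, Int.ofNat 0, Int.ofNat 0, Int.ofNat 0, Int.ofNat 0, Int.ofNat 0, Int.ofNat 0, Int.ofNat 0, Int.ofNat 0, Int.ofNat 0, Int.ofNat 0, Int.ofNat 0, Int.ofNat 0, Int.ofNat 0, Int.ofNat 0, Int.ofNat 0, Int.ofNat 0, Int.ofNat 0, Int.ofNat 0, Int.ofNat 0, Int.ofNat 0, Int.negSucc 3],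
  [Int.ofNat 4, Int.ofNat 0, Int.ofNat 0, Int.ofNat 0, Int.ofNat 0, Int.ofNat 0, Int.ofNat 0, Int.ofNat 0, Int.ofNat 0, Int.ofNat 0, Int.ofNat 0, Int.ofNat 0, Int.ofNat 0, Int.ofNat 0, Int.ofNat 0, Int.ofNat 0, Int.ofNat 0, Int.ofNat 0, Int.ofNat 0, Int.ofNat 0, Int.ofNat 0, Int.ofNat 0, Int.ofNat 0, Int.negSucc 3],
  [Int.ofNat 0, Int.ofNat 4, Int.ofNat 0, Int.ofNat 0, Int.ofNat 0, Int.ofNat 0, Int.ofNat 0, Int.ofNat 0, Int.ofNat 0, Int.ofNat 0, Int.ofNat 0, Int.ofNat 0, Int.ofNat 0, Int.ofNat 0, Int.ofNat 0, Int.ofNat 0, Int.ofNat 0, Int.ofNat 0, Int.ofNat 0, Int.ofNat 0, Int.ofNat 0, Int.ofNat 0, Int.ofNat 0, Int.negSucc 3],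
  [Int.ofNat 0, Int.negSucc 3, Int.ofNat 0, Int.ofNat 0, Int.ofNat 0, Int.ofNat 0, Int.ofNat 0, Int.ofNat 0, Int.ofNat 0, Int.ofNat 0, Int.ofNat 0, Int.ofNat 0, Int.ofNat 0, Int.ofNat 0, Int.ofNat 0, Int.ofNat 0, Int.ofNat 0, Int.ofNat 0, Int.ofNat 0, Int.ofNat 0, Int.ofNat 0, Int.ofNat 0, Int.ofNat 0, Int.ofNat 4],
  [Int.ofNat 0, Int.ofNat 0, Int.ofNat 0, Int.ofNat 0, Int.ofNat 0, Int.ofNat 0, Int.ofNat 0, Int.ofNat 0, Int.ofNat 0, Int.ofNat 0, Int.ofNat 0, Int.ofNat 0, Int.ofNat 0, Int.ofNat 0, Int.ofNat 0, Int.ofNat 0, Int.ofNat 0, Int.ofNat 0, Int.ofNat 0, Int.ofNat 0, Int.ofNat 0, Int.negSucc 3, Int.ofNat 0, Int.ofNat 4],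
  [Int.ofNat 2, Int.ofNat 2, Int.ofNat 2, Int.ofNat 0, Int.ofNat 0, Int.ofNat 0, Int.ofNat 2, Int.ofNat 2, Int.ofNat 0, Int.ofNat 0, Int.ofNat 0, Int.ofNat 0, Int.ofNat 0, Int.ofNat 0, Int.ofNat 0, Int.ofNat 0, Int.ofNat 0, Int.ofNat 0, Int.ofNat 0, Int.ofNat 2, Int.ofNat 0, Int.negSucc 1, Int.ofNat 0, Int.negSucc 1],
  [Int.ofNat 2, Int.ofNat 2, Int.ofNat 0, Int.ofNat 0, Int.ofNat 0, Int.ofNat 2, Int.ofNat 2, Int.ofNat 0, Int.ofNat 0, Int.ofNat 0, Int.ofNat 0, Int.ofNat 0, Int.ofNat 0, Int.ofNat 0, Int.ofNat 0, Int.ofNat 0, Int.ofNat 0, Int.ofNat 0, Int.ofNat 2, Int.ofNat 0, Int.negSucc 1, Int.ofNat 0, Int.ofNat 2, Int.negSucc 1],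
  [Int.negSucc 0, Int.negSucc 0, Int.ofNat 1, Int.negSucc 0, Int.negSucc 0, Int.ofNat 1, Int.ofNat 1, Int.negSucc 0, Int.negSucc 0, Int.ofNat 1, Int.ofNat 1, Int.negSucc 0, Int.negSucc 0, Int.negSucc 0, Int.negSucc 0, Int.ofNat 1, Int.negSucc 0, Int.negSucc 0, Int.ofNat 1, Int.negSucc 0, Int.negSucc 0, Int.negSucc 0, Int.ofNat 1, Int.ofNat 3],
  [Int.negSucc 0, Int.negSucc 0, Int.negSucc 0, Int.negSucc 0, Int.negSucc 0, Int.negSucc 0, Int.negSucc 0, Int.negSucc 0, Int.negSucc 0, Int.negSucc 0, Int.negSucc 0, Int.negSucc 0, Int.negSucc 0, Int.negSucc 0, Int.negSucc 0, Int.negSucc 0, Int.negSucc 0, Int.negSucc 0, Int.negSucc 0, Int.negSucc 0, Int.negSucc 0, Int.negSucc 0, Int.negSucc 0, Int.ofNat 3],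
  [Int.negSucc 0, Int.negSucc 0, Int.negSucc 0, Int.negSucc 0, Int.negSucc 0, Int.negSucc 0, Int.negSucc 0, Int.negSucc 0, Int.negSucc 0, Int.negSucc 0, Int.negSucc 0, Int.negSucc 0, Int.negSucc 0, Int.negSucc 0, Int.negSucc 0, Int.negSucc 0, Int.negSucc 0, Int.negSucc 0, Int.negSucc 0, Int.negSucc 0, Int.negSucc 0, Int.negSucc 0, Int.negSucc 0, Int.ofNat 3],
  [Int.ofNat 3, Int.negSucc 0, Int.negSucc 0, Int.negSucc 0, Int.negSucc 0, Int.negSucc 0, Int.negSucc 0, Int.negSucc 0, Int.negSucc 0, Int.negSucc 0, Int.negSucc 0, Int.negSucc 0, Int.negSucc 0, Int.negSucc 0, Int.negSucc 0, Int.negSucc 0, Int.negSucc 0, Int.negSucc 0, Int.negSucc 0, Int.negSucc 0, Int.negSucc 0, Int.negSucc 0, Int.negSucc 0, Int.negSucc 0],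
  [Int.negSucc 2, Int.negSucc 0, Int.ofNat 1, Int.negSucc 0, Int.negSucc 0, Int.negSucc 0, Int.negSucc 0, Int.ofNat 1, Int.negSucc 0, Int.ofNat 1, Int.ofNat 1, Int.ofNat 1, Int.negSucc 0, Int.negSucc 0, Int.negSucc 0, Int.negSucc 0, Int.negSucc 0, Int.negSucc 0, Int.ofNat 1, Int.negSucc 0, Int.negSucc 0, Int.ofNat 1, Int.negSucc 0, Int.negSucc 0],
  [Int.negSucc 0, Int.negSucc 2, Int.negSucc 0, Int.ofNat 1, Int.negSucc 0, Int.negSucc 0, Int.negSucc 0, Int.negSucc 0, Int.ofNat 1, Int.negSucc 0, Int.ofNat 1, Int.ofNat 1, Int.ofNat 1, Int.negSucc 0, Int.negSucc 0, Int.negSucc 0, Int.negSucc 0, Int.negSucc 0, Int.negSucc 0, Int.ofNat 1, Int.negSucc 0, Int.negSucc 0, Int.ofNat 1, Int.negSucc 0],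
  [Int.negSucc 1, Int.ofNat 0, Int.negSucc 1, Int.ofNat 2, Int.ofNat 0, Int.ofNat 0, Int.ofNat 0, Int.ofNat 0, Int.ofNat 0, Int.ofNat 0, Int.ofNat 2, Int.ofNat 0, Int.ofNat 0, Int.ofNat 0, Int.ofNat 0, Int.ofNat 0, Int.ofNat 0, Int.ofNat 0, Int.negSucc 1, Int.ofNat 2, Int.ofNat 0, Int.ofNat 0, Int.ofNat 2, Int.negSucc 1],
  [Int.ofNat 2, Int.ofNat 0, Int.ofNat 0, Int.ofNat 0, Int.ofNat 0, Int.ofNat 0, Int.ofNat 0, Int.ofNat 2, Int.ofNat 0, Int.ofNat 0, Int.ofNat 0, Int.ofNat 0, Int.ofNat 0, Int.ofNat 0, Int.ofNat 0, Int.negSucc 1, Int.ofNat 2, Int.ofNat 0, Int.ofNat 0, Int.ofNat 2, Int.negSucc 1, Int.ofNat 0, Int.negSucc 1, Int.negSucc 1],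
  [Int.negSucc 1, Int.ofNat 0, Int.ofNat 0, Int.ofNat 0, Int.ofNat 0, Int.ofNat 0, Int.negSucc 1, Int.ofNat 0, Int.ofNat 0, Int.ofNat 2, Int.ofNat 2, Int.ofNat 0, Int.ofNat 0, Int.ofNat 0, Int.ofNat 0, Int.ofNat 0, Int.ofNat 2, Int.ofNat 0, Int.ofNat 0, Int.ofNat 0, Int.ofNat 0, Int.negSucc 1, Int.negSucc 1, Int.ofNat 2],
  [Int.negSucc 1, Int.negSucc 1, Int.ofNat 0, Int.ofNat 0, Int.ofNat 0, Int.ofNat 0, Int.ofNat 0, Int.ofNat 2, Int.ofNat 0, Int.ofNat 0, Int.ofNat 0, Int.ofNat 0, Int.ofNat 2, Int.ofNat 2, Int.negSucc 1, Int.ofNat 0, Int.ofNat 0, Int.ofNat 0, Int.ofNat 0, Int.ofNat 0, Int.negSucc 1, Int.ofNat 0, Int.ofNat 0, Int.ofNat 2],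
  [Int.ofNat 1, Int.ofNat 1, Int.negSucc 0, Int.ofNat 1, Int.negSucc 0, Int.ofNat 1, Int.negSucc 0, Int.ofNat 1, Int.negSucc 0, Int.ofNat 1, Int.ofNat 1, Int.negSucc 0, Int.ofNat 1, Int.ofNat 1, Int.negSucc 0, Int.ofNat 1, Int.negSucc 0, Int.ofNat 1, Int.negSucc 0, Int.negSucc 0, Int.negSucc 0, Int.negSucc 0, Int.negSucc 0, Int.negSucc 2],
  [Int.ofNat 1, Int.ofNat 1, Int.ofNat 1, Int.ofNat 1, Int.negSucc 0, Int.negSucc 0, Int.ofNat 1, Int.ofNat 1, Int.negSucc 0, Int.negSucc 0, Int.negSucc 0, Int.negSucc 0, Int.ofNat 1, Int.ofNat 1, Int.negSucc 0, Int.negSucc 0, Int.negSucc 0, Int.ofNat 1, Int.ofNat 1, Int.negSucc 0, Int.negSucc 0, Int.negSucc 0, Int.ofNat 1, Int.negSucc 2],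
  [Int.ofNat 1, Int.negSucc 0, Int.negSucc 0, Int.ofNat 1, Int.ofNat 1, Int.negSucc 0, Int.negSucc 0, Int.ofNat 1, Int.ofNat 1, Int.negSucc 0, Int.negSucc 0, Int.ofNat 1, Int.negSucc 0, Int.negSucc 0, Int.negSucc 0, Int.ofNat 1, Int.negSucc 0, Int.ofNat 1, Int.negSucc 0, Int.negSucc 0, Int.ofNat 1, Int.ofNat 1, Int.ofNat 1, Int.negSucc 2],
  [Int.ofNat 1, Int.negSucc 0, Int.ofNat 1, Int.ofNat 1, Int.ofNat 1, Int.ofNat 1, Int.ofNat 1, Int.ofNat 1, Int.ofNat 1, Int.ofNat 1, Int.ofNat 1, Int.ofNat 1, Int.negSucc 0, Int.negSucc 0, Int.negSucc 0, Int.negSucc 0, Int.negSucc 0, Int.ofNat 1, Int.ofNat 1, Int.negSucc 0, Int.ofNat 1, Int.ofNat 1, Int.negSucc 0, Int.negSucc 2],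
  [Int.negSucc 1, Int.ofNat 0, Int.negSucc 1, Int.ofNat 0, Int.ofNat 2, Int.ofNat 0, Int.ofNat 0, Int.ofNat 0, Int.ofNat 0, Int.ofNat 0, Int.ofNat 0, Int.ofNat 0, Int.negSucc 1, Int.ofNat 0, Int.negSucc 1, Int.negSucc 1, Int.ofNat 0, Int.ofNat 0, Int.ofNat 0, Int.negSucc 1, Int.ofNat 0, Int.ofNat 0, Int.ofNat 0, Int.ofNat 2],
  [Int.negSucc 1, Int.ofNat 0, Int.ofNat 0, Int.ofNat 0, Int.negSucc 1, Int.ofNat 0, Int.ofNat 0, Int.ofNat 0, Int.ofNat 0, Int.negSucc 1, Int.ofNat 0, Int.negSucc 1, Int.ofNat 0, Int.ofNat 0, Int.ofNat 0, Int.negSucc 1, Int.ofNat 0, Int.ofNat 0, Int.ofNat 2, Int.ofNat 0, Int.ofNat 0, Int.ofNat 0, Int.negSucc 1, Int.ofNat 2],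
  [Int.ofNat 2, Int.ofNat 0, Int.ofNat 0, Int.ofNat 0, Int.ofNat 0, Int.ofNat 0, Int.ofNat 0, Int.ofNat 0, Int.ofNat 0, Int.ofNat 0, Int.ofNat 2, Int.negSucc 1, Int.ofNat 0, Int.ofNat 2, Int.ofNat 0, Int.ofNat 0, Int.ofNat 2, Int.ofNat 0, Int.ofNat 2, Int.ofNat 0, Int.ofNat 2, Int.ofNat 0, Int.ofNat 0, Int.negSucc 1],
  [Int.ofNat 2, Int.ofNat 0, Int.ofNat 0, Int.ofNat 2, Int.ofNat 0, Int.ofNat 0, Int.ofNat 0, Int.ofNat 0, Int.ofNat 0, Int.ofNat 0, Int.ofNat 0, Int.ofNat 0, Int.ofNat 0, Int.ofNat 2, Int.negSucc 1, Int.ofNat 0, Int.ofNat 2, Int.ofNat 0, Int.ofNat 0, Int.ofNat 2, Int.ofNat 0, Int.ofNat 2, Int.ofNat 0, Int.negSucc 1],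
  [Int.negSucc 1, Int.ofNat 0, Int.ofNat 0, Int.ofNat 2, Int.negSucc 1, Int.ofNat 0, Int.negSucc 1, Int.negSucc 1, Int.ofNat 0, Int.ofNat 0, Int.ofNat 0, Int.ofNat 0, Int.ofNat 0, Int.ofNat 0, Int.negSucc 1, Int.ofNat 0, Int.ofNat 0, Int.ofNat 0, Int.ofNat 0, Int.ofNat 0, Int.ofNat 0, Int.ofNat 0, Int.negSucc 1, Int.ofNat 2],
  [Int.ofNat 0, Int.ofNat 0, Int.ofNat 2, Int.negSucc 1, Int.ofNat 0, Int.negSucc 1, Int.negSucc 1, Int.ofNat 0, Int.ofNat 0, Int.ofNat 0, Int.ofNat 0, Int.ofNat 0, Int.ofNat 0, Int.negSucc 1, Int.ofNat 0, Int.ofNat 0, Int.ofNat 0, Int.ofNat 0, Int.ofNat 0, Int.ofNat 0, Int.ofNat 0, Int.negSucc 1, Int.negSucc 1, Int.ofNat 2],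
  [Int.ofNat 0, Int.ofNat 0, Int.negSucc 1, Int.negSucc 1, Int.ofNat 0, Int.negSucc 1, Int.negSucc 1, Int.ofNat 0, Int.ofNat 0, Int.ofNat 0, Int.ofNat 0, Int.ofNat 0, Int.ofNat 0, Int.negSucc 1, Int.ofNat 0, Int.ofNat 0, Int.ofNat 0, Int.ofNat 0, Int.ofNat 0, Int.ofNat 0, Int.ofNat 0, Int.ofNat 2, Int.negSucc 1, Int.ofNat 2],
  [Int.ofNat 0, Int.ofNat 0, Int.ofNat 2, Int.ofNat 2, Int.ofNat 0, Int.negSucc 1, Int.ofNat 2, Int.ofNat 0, Int.ofNat 0, Int.ofNat 0, Int.ofNat 0, Int.ofNat 0, Int.ofNat 0, Int.ofNat 2, Int.ofNat 0, Int.ofNat 0, Int.ofNat 0, Int.ofNat 0, Int.ofNat 0, Int.ofNat 0, Int.ofNat 0, Int.ofNat 2, Int.negSucc 1, Int.ofNat 2],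
  [Int.ofNat 0, Int.ofNat 2, Int.ofNat 0, Int.ofNat 2, Int.ofNat 0, Int.ofNat 0, Int.ofNat 0, Int.ofNat 0, Int.ofNat 0, Int.ofNat 0, Int.ofNat 2, Int.ofNat 0, Int.ofNat 2, Int.ofNat 0, Int.ofNat 0, Int.ofNat 0, Int.ofNat 0, Int.negSucc 1, Int.ofNat 2, Int.ofNat 0, Int.negSucc 1, Int.ofNat 0, Int.ofNat 0, Int.ofNat 2],
  [Int.ofNat 0, Int.ofNat 2, Int.ofNat 0, Int.ofNat 2, Int.ofNat 0, Int.ofNat 0, Int.ofNat 0, Int.ofNat 0, Int.ofNat 0, Int.ofNat 0, Int.negSucc 1, Int.ofNat 0, Int.ofNat 2, Int.ofNat 0, Int.ofNat 0, Int.ofNat 0, Int.ofNat 0, Int.negSucc 1, Int.negSucc 1, Int.ofNat 0, Int.negSucc 1, Int.ofNat 0, Int.ofNat 0, Int.ofNat 2],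
  [Int.ofNat 0, Int.ofNat 0, Int.ofNat 2, Int.ofNat 0, Int.ofNat 2, Int.ofNat 0, Int.ofNat 0, Int.ofNat 0, Int.ofNat 0, Int.ofNat 0, Int.ofNat 0, Int.negSucc 1, Int.ofNat 0, Int.ofNat 2, Int.ofNat 0, Int.ofNat 0, Int.ofNat 0, Int.ofNat 0, Int.negSucc 1, Int.negSucc 1, Int.ofNat 0, Int.negSucc 1, Int.ofNat 0, Int.ofNat 2],
  [Int.ofNat 2, Int.ofNat 2, Int.ofNat 0, Int.ofNat 0, Int.ofNat 0, Int.ofNat 0, Int.ofNat 2, Int.ofNat 2, Int.ofNat 2, Int.ofNat 0, Int.ofNat 0, Int.ofNat 0, Int.ofNat 2, Int.ofNat 0, Int.ofNat 0, Int.ofNat 0, Int.negSucc 1, Int.ofNat 0, Int.ofNat 0, Int.ofNat 0, Int.ofNat 0, Int.ofNat 0, Int.negSucc 1, Int.ofNat 0],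
  [Int.ofNat 0, Int.ofNat 0, Int.ofNat 0, Int.ofNat 2, Int.ofNat 2, Int.ofNat 2, Int.ofNat 0, Int.ofNat 0, Int.ofNat 0, Int.ofNat 2, Int.ofNat 0, Int.ofNat 0, Int.ofNat 0, Int.negSucc 1, Int.ofNat 0, Int.ofNat 0, Int.ofNat 0, Int.ofNat 0, Int.ofNat 0, Int.negSucc 1, Int.ofNat 2, Int.ofNat 2, Int.ofNat 0, Int.ofNat 0],
  [Int.ofNat 0, Int.ofNat 0, Int.ofNat 0, Int.ofNat 0, Int.ofNat 2, Int.ofNat 0, Int.ofNat 0, Int.ofNat 0, Int.ofNat 0, Int.ofNat 0, Int.negSucc 1, Int.ofNat 0, Int.ofNat 0, Int.negSucc 1, Int.negSucc 1, Int.negSucc 1, Int.ofNat 0, Int.negSucc 1, Int.ofNat 0, Int.negSucc 1, Int.ofNat 0, Int.ofNat 2, Int.ofNat 0, Int.ofNat 0],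
  [Int.ofNat 0, Int.ofNat 0, Int.ofNat 2, Int.ofNat 0, Int.ofNat 0, Int.ofNat 0, Int.ofNat 0, Int.negSucc 1, Int.ofNat 0, Int.negSucc 1, Int.ofNat 0, Int.negSucc 1, Int.ofNat 0, Int.ofNat 0, Int.ofNat 0, Int.negSucc 1, Int.ofNat 0, Int.negSucc 1, Int.ofNat 0, Int.ofNat 0, Int.ofNat 2, Int.ofNat 0, Int.negSucc 1, Int.ofNat 0],
  [Int.ofNat 1, Int.ofNat 1, Int.negSucc 0, Int.ofNat 1, Int.ofNat 1, Int.ofNat 1, Int.ofNat 1, Int.negSucc 0, Int.ofNat 1, Int.negSucc 0, Int.ofNat 1, Int.negSucc 0, Int.ofNat 1, Int.ofNat 1, Int.ofNat 1, Int.negSucc 0, Int.ofNat 1, Int.negSucc 0, Int.ofNat 1, Int.ofNat 1, Int.ofNat 3, Int.ofNat 1, Int.negSucc 0, Int.ofNat 1],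
  [Int.ofNat 1, Int.ofNat 1, Int.ofNat 1, Int.ofNat 1, Int.ofNat 1, Int.negSucc 0, Int.negSucc 0, Int.negSucc 0, Int.ofNat 1, Int.ofNat 1, Int.negSucc 0, Int.negSucc 0, Int.ofNat 1, Int.ofNat 1, Int.ofNat 1, Int.ofNat 1, Int.ofNat 1, Int.negSucc 0, Int.negSucc 0, Int.ofNat 1, Int.ofNat 3, Int.ofNat 1, Int.ofNat 1, Int.ofNat 1],
  [Int.negSucc 0, Int.ofNat 1, Int.negSucc 0, Int.ofNat 1, Int.ofNat 1, Int.negSucc 0, Int.ofNat 1, Int.ofNat 1, Int.negSucc 0, Int.ofNat 3, Int.ofNat 1, Int.negSucc 0, Int.ofNat 1, Int.ofNat 1, Int.negSucc 0, Int.negSucc 0, Int.ofNat 1, Int.ofNat 1, Int.ofNat 1, Int.ofNat 1, Int.ofNat 1, Int.ofNat 1, Int.ofNat 1, Int.ofNat 1],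
  [Int.ofNat 1, Int.ofNat 1, Int.negSucc 0, Int.negSucc 0, Int.ofNat 1, Int.ofNat 3, Int.ofNat 1, Int.ofNat 1, Int.ofNat 1, Int.negSucc 0, Int.ofNat 1, Int.negSucc 0, Int.ofNat 1, Int.ofNat 1, Int.ofNat 1, Int.ofNat 1, Int.ofNat 1, Int.ofNat 1, Int.negSucc 0, Int.ofNat 1, Int.negSucc 0, Int.ofNat 1, Int.ofNat 1, Int.negSucc 0],
  [Int.negSucc 0, Int.ofNat 1, Int.ofNat 1, Int.negSucc 0, Int.ofNat 1, Int.ofNat 3, Int.ofNat 1, Int.negSucc 0, Int.ofNat 1, Int.ofNat 1, Int.negSucc 0, Int.ofNat 1, Int.ofNat 1, Int.ofNat 1, Int.ofNat 1, Int.ofNat 1, Int.ofNat 1, Int.ofNat 1, Int.ofNat 1, Int.ofNat 1, Int.negSucc 0, Int.negSucc 0, Int.ofNat 1, Int.negSucc 0],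
  [Int.ofNat 1, Int.negSucc 0, Int.ofNat 1, Int.ofNat 1, Int.negSucc 0, Int.ofNat 1, Int.ofNat 3, Int.ofNat 1, Int.negSucc 0, Int.ofNat 1, Int.ofNat 1, Int.negSucc 0, Int.ofNat 1, Int.ofNat 1, Int.ofNat 1, Int.ofNat 1, Int.ofNat 1, Int.ofNat 1, Int.ofNat 1, Int.ofNat 1, Int.ofNat 1, Int.negSucc 0, Int.negSucc 0, Int.negSucc 0],
  [Int.negSucc 0, Int.ofNat 1, Int.negSucc 0, Int.negSucc 0, Int.negSucc 0, Int.negSucc 0, Int.ofNat 1, Int.negSucc 0, Int.negSucc 0, Int.negSucc 0, Int.negSucc 0, Int.negSucc 0, Int.ofNat 1, Int.ofNat 1, Int.negSucc 0, Int.negSucc 0, Int.ofNat 1, Int.negSucc 0, Int.ofNat 1, Int.negSucc 0, Int.negSucc 0, Int.negSucc 2, Int.negSucc 0, Int.ofNat 1],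
  [Int.negSucc 0, Int.negSucc 0, Int.negSucc 0, Int.ofNat 1, Int.negSucc 0, Int.negSucc 0, Int.negSucc 0, Int.negSucc 0, Int.negSucc 0, Int.ofNat 1, Int.ofNat 1, Int.negSucc 0, Int.negSucc 0, Int.ofNat 1, Int.negSucc 0, Int.ofNat 1, Int.negSucc 0, Int.negSucc 0, Int.negSucc 2, Int.negSucc 0, Int.negSucc 0, Int.ofNat 1, Int.negSucc 0, Int.ofNat 1],
  [Int.ofNat 0, Int.ofNat 0, Int.ofNat 0, Int.ofNat 2, Int.ofNat 0, Int.ofNat 0, Int.ofNat 0, Int.ofNat 0, Int.ofNat 2, Int.ofNat 0, Int.ofNat 0, Int.ofNat 2, Int.ofNat 2, Int.ofNat 2, Int.ofNat 0, Int.ofNat 0, Int.ofNat 0, Int.ofNat 0, Int.ofNat 0, Int.ofNat 0, Int.negSucc 1, Int.ofNat 2, Int.ofNat 0, Int.negSucc 1],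
  [Int.ofNat 0, Int.ofNat 0, Int.ofNat 0, Int.ofNat 2, Int.ofNat 0, Int.ofNat 0, Int.ofNat 0, Int.ofNat 0, Int.ofNat 2, Int.ofNat 2, Int.negSucc 1, Int.ofNat 0, Int.ofNat 0, Int.ofNat 0, Int.ofNat 0, Int.ofNat 0, Int.ofNat 2, Int.ofNat 0, Int.ofNat 0, Int.ofNat 2, Int.ofNat 2, Int.ofNat 0, Int.ofNat 0, Int.negSucc 1],
  [Int.negSucc 0, Int.negSucc 0, Int.negSucc 0, Int.ofNat 1, Int.negSucc 0, Int.negSucc 0, Int.negSucc 0, Int.negSucc 0, Int.ofNat 1, Int.ofNat 1, Int.negSucc 2, Int.negSucc 0, Int.negSucc 0, Int.negSucc 0, Int.negSucc 0, Int.negSucc 0, Int.ofNat 1, Int.negSucc 0, Int.negSucc 0, Int.ofNat 1, Int.ofNat 1, Int.negSucc 0, Int.negSucc 0, Int.ofNat 1],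
  [Int.negSucc 0, Int.negSucc 0, Int.ofNat 1, Int.ofNat 1, Int.negSucc 0, Int.ofNat 1, Int.ofNat 1, Int.negSucc 0, Int.ofNat 1, Int.negSucc 0, Int.ofNat 3, Int.negSucc 0, Int.negSucc 0, Int.negSucc 0, Int.negSucc 0, Int.ofNat 1, Int.ofNat 1, Int.negSucc 0, Int.ofNat 1, Int.ofNat 1, Int.ofNat 1, Int.negSucc 0, Int.ofNat 1, Int.ofNat 1],
  [Int.ofNat 1, Int.negSucc 0, Int.negSucc 0, Int.ofNat 1, Int.negSucc 0, Int.ofNat 1, Int.negSucc 0, Int.ofNat 1, Int.negSucc 0, Int.ofNat 1, Int.ofNat 1, Int.negSucc 0, Int.negSucc 0, Int.negSucc 0, Int.ofNat 1, Int.negSucc 0, Int.ofNat 1, Int.ofNat 1, Int.ofNat 3, Int.ofNat 1, Int.negSucc 0, Int.negSucc 0, Int.ofNat 1, Int.ofNat 1],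
  [Int.ofNat 1, Int.negSucc 0, Int.ofNat 1, Int.ofNat 1, Int.negSucc 0, Int.negSucc 0, Int.ofNat 1, Int.ofNat 1, Int.negSucc 0, Int.negSucc 0, Int.negSucc 0, Int.negSucc 0, Int.negSucc 0, Int.negSucc 0, Int.ofNat 1, Int.ofNat 1, Int.ofNat 1, Int.ofNat 1, Int.negSucc 2, Int.ofNat 1, Int.negSucc 0, Int.negSucc 0, Int.negSucc 0, Int.ofNat 1],
  [Int.ofNat 0, Int.ofNat 2, Int.ofNat 0, Int.ofNat 0, Int.ofNat 0, Int.negSucc 1, Int.ofNat 0, Int.ofNat 0, Int.ofNat 2, Int.ofNat 0, Int.ofNat 0, Int.ofNat 2, Int.ofNat 2, Int.ofNat 0, Int.ofNat 0, Int.ofNat 2, Int.ofNat 2, Int.ofNat 0, Int.ofNat 0, Int.ofNat 0, Int.ofNat 0, Int.negSucc 1, Int.ofNat 0, Int.ofNat 0],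
  [Int.ofNat 0, Int.ofNat 0, Int.ofNat 0, Int.ofNat 0, Int.ofNat 0, Int.negSucc 1, Int.ofNat 2, Int.negSucc 1, Int.ofNat 2, Int.ofNat 2, Int.ofNat 0, Int.ofNat 0, Int.ofNat 2, Int.ofNat 0, Int.ofNat 0, Int.ofNat 2, Int.ofNat 0, Int.ofNat 2, Int.ofNat 0, Int.ofNat 0, Int.ofNat 0, Int.ofNat 0, Int.ofNat 0, Int.ofNat 0],
  [Int.ofNat 0, Int.ofNat 0, Int.ofNat 0, Int.ofNat 0, Int.ofNat 0, Int.negSucc 1, Int.ofNat 2, Int.negSucc 1, Int.ofNat 0, Int.ofNat 0, Int.negSucc 1, Int.negSucc 1, Int.ofNat 0, Int.ofNat 0, Int.ofNat 0, Int.ofNat 0, Int.ofNat 0, Int.ofNat 2, Int.negSucc 1, Int.ofNat 0, Int.negSucc 1, Int.ofNat 0, Int.ofNat 0, Int.ofNat 0],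
  [Int.negSucc 1, Int.ofNat 0, Int.ofNat 0, Int.ofNat 0, Int.ofNat 0, Int.ofNat 0, Int.ofNat 0, Int.ofNat 0, Int.negSucc 1, Int.ofNat 2, Int.negSucc 1, Int.ofNat 0, Int.ofNat 0, Int.negSucc 1, Int.negSucc 1, Int.ofNat 0, Int.ofNat 0, Int.ofNat 0, Int.ofNat 0, Int.ofNat 0, Int.ofNat 2, Int.negSucc 1, Int.ofNat 0, Int.ofNat 0],
  [Int.ofNat 1, Int.negSucc 0, Int.negSucc 0, Int.ofNat 1, Int.ofNat 1, Int.ofNat 1, Int.ofNat 1, Int.ofNat 1, Int.negSucc 0, Int.ofNat 1, Int.negSucc 2, Int.ofNat 1, Int.ofNat 1, Int.negSucc 0, Int.negSucc 0, Int.negSucc 0, Int.ofNat 1, Int.ofNat 1, Int.ofNat 1, Int.ofNat 1, Int.ofNat 1, Int.negSucc 0, Int.ofNat 1, Int.negSucc 0],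
  [Int.negSucc 0, Int.negSucc 0, Int.ofNat 1, Int.ofNat 1, Int.ofNat 1, Int.ofNat 1, Int.ofNat 1, Int.negSucc 0, Int.ofNat 1, Int.negSucc 2, Int.ofNat 1, Int.ofNat 1, Int.negSucc 0, Int.negSucc 0, Int.negSucc 0, Int.ofNat 1, Int.ofNat 1, Int.ofNat 1, Int.ofNat 1, Int.ofNat 1, Int.negSucc 0, Int.ofNat 1, Int.ofNat 1, Int.negSucc 0],
  [Int.ofNat 1, Int.negSucc 0, Int.negSucc 0, Int.ofNat 1, Int.ofNat 1, Int.ofNat 1, Int.ofNat 1, Int.ofNat 1, Int.ofNat 1, Int.ofNat 3, Int.negSucc 0, Int.negSucc 0, Int.negSucc 0, Int.negSucc 0, Int.negSucc 0, Int.ofNat 1, Int.ofNat 1, Int.ofNat 1, Int.negSucc 0, Int.ofNat 1, Int.negSucc 0, Int.negSucc 0, Int.ofNat 1, Int.negSucc 0],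
  [Int.negSucc 0, Int.ofNat 1, Int.ofNat 1, Int.negSucc 0, Int.negSucc 0, Int.ofNat 1, Int.negSucc 0, Int.ofNat 1, Int.negSucc 0, Int.negSucc 2, Int.negSucc 0, Int.negSucc 0, Int.ofNat 1, Int.ofNat 1, Int.negSucc 0, Int.ofNat 1, Int.negSucc 0, Int.ofNat 1, Int.ofNat 1, Int.ofNat 1, Int.negSucc 0, Int.negSucc 0, Int.ofNat 1, Int.negSucc 0],
  [Int.negSucc 0, Int.ofNat 1, Int.ofNat 1, Int.negSucc 0, Int.ofNat 1, Int.negSucc 0, Int.negSucc 0, Int.negSucc 0, Int.negSucc 2, Int.negSucc 0, Int.negSucc 0, Int.negSucc 0, Int.ofNat 1, Int.negSucc 0, Int.ofNat 1, Int.ofNat 1, Int.ofNat 1, Int.ofNat 1, Int.negSucc 0, Int.ofNat 1, Int.ofNat 1, Int.ofNat 1, Int.negSucc 0, Int.negSucc 0],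
  [Int.ofNat 1, Int.ofNat 1, Int.negSucc 0, Int.negSucc 0, Int.ofNat 1, Int.negSucc 0, Int.negSucc 0, Int.ofNat 1, Int.negSucc 2, Int.ofNat 1, Int.ofNat 1, Int.ofNat 1, Int.ofNat 1, Int.negSucc 0, Int.ofNat 1, Int.ofNat 1, Int.ofNat 1, Int.ofNat 1, Int.ofNat 1, Int.ofNat 1, Int.ofNat 1, Int.negSucc 0, Int.negSucc 0, Int.negSucc 0],
  [Int.negSucc 0, Int.ofNat 1, Int.ofNat 1, Int.negSucc 0, Int.negSucc 0, Int.ofNat 1, Int.negSucc 0, Int.negSucc 0, Int.ofNat 1, Int.negSucc 2, Int.ofNat 1, Int.ofNat 1, Int.ofNat 1, Int.ofNat 1, Int.negSucc 0, Int.ofNat 1, Int.ofNat 1, Int.ofNat 1, Int.ofNat 1, Int.ofNat 1, Int.ofNat 1, Int.ofNat 1, Int.negSucc 0, Int.negSucc 0],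
  [Int.ofNat 1, Int.negSucc 0, Int.negSucc 0, Int.negSucc 0, Int.negSucc 0, Int.ofNat 1, Int.negSucc 0, Int.negSucc 0, Int.negSucc 0, Int.negSucc 2, Int.ofNat 1, Int.negSucc 0, Int.negSucc 0, Int.ofNat 1, Int.negSucc 0, Int.ofNat 1, Int.ofNat 1, Int.ofNat 1, Int.negSucc 0, Int.ofNat 1, Int.ofNat 1, Int.ofNat 1, Int.negSucc 0, Int.ofNat 1],
  [Int.negSucc 0, Int.negSucc 0, Int.ofNat 1, Int.negSucc 0, Int.negSucc 0, Int.negSucc 0, Int.negSucc 2, Int.ofNat 1, Int.negSucc 0, Int.negSucc 0, Int.ofNat 1, Int.negSucc 0, Int.ofNat 1, Int.ofNat 1, Int.ofNat 1, Int.negSucc 0, Int.ofNat 1, Int.ofNat 1, Int.ofNat 1, Int.negSucc 0, Int.ofNat 1, Int.negSucc 0, Int.negSucc 0, Int.ofNat 1],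
  [Int.ofNat 1, Int.ofNat 1, Int.negSucc 0, Int.negSucc 0, Int.negSucc 0, Int.negSucc 0, Int.negSucc 0, Int.ofNat 3, Int.negSucc 0, Int.negSucc 0, Int.ofNat 1, Int.negSucc 0, Int.ofNat 1, Int.ofNat 1, Int.ofNat 1, Int.negSucc 0, Int.ofNat 1, Int.ofNat 1, Int.ofNat 1, Int.ofNat 1, Int.ofNat 1, Int.ofNat 1, Int.negSucc 0, Int.negSucc 0],
  [Int.ofNat 1, Int.negSucc 0, Int.negSucc 0, Int.negSucc 0, Int.ofNat 1, Int.ofNat 3, Int.negSucc 0, Int.ofNat 1, Int.ofNat 1, Int.ofNat 1, Int.ofNat 1, Int.ofNat 1, Int.negSucc 0, Int.ofNat 1, Int.negSucc 0, Int.negSucc 0, Int.negSucc 0, Int.ofNat 1, Int.ofNat 1, Int.negSucc 0, Int.ofNat 1, Int.negSucc 0, Int.ofNat 1, Int.negSucc 0],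
  [Int.negSucc 1, Int.ofNat 0, Int.ofNat 0, Int.negSucc 1, Int.ofNat 0, Int.ofNat 2, Int.ofNat 0, Int.ofNat 2, Int.ofNat 0, Int.ofNat 0, Int.ofNat 0, Int.ofNat 0, Int.negSucc 1, Int.ofNat 0, Int.negSucc 1, Int.negSucc 1, Int.negSucc 1, Int.ofNat 0, Int.ofNat 0, Int.ofNat 0, Int.ofNat 0, Int.ofNat 0, Int.ofNat 0, Int.ofNat 0],
  [Int.negSucc 1, Int.ofNat 0, Int.ofNat 0, Int.negSucc 1, Int.ofNat 0, Int.negSucc 1, Int.ofNat 0, Int.ofNat 2, Int.ofNat 0, Int.ofNat 0, Int.ofNat 0, Int.ofNat 0, Int.negSucc 1, Int.ofNat 0, Int.negSucc 1, Int.ofNat 2, Int.negSucc 1, Int.ofNat 0, Int.ofNat 0, Int.ofNat 0, Int.ofNat 0, Int.ofNat 0, Int.ofNat 0, Int.ofNat 0],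
  [Int.ofNat 0, Int.negSucc 1, Int.ofNat 0, Int.ofNat 0, Int.negSucc 1, Int.ofNat 0, Int.ofNat 0, Int.negSucc 1, Int.negSucc 1, Int.ofNat 0, Int.ofNat 0, Int.ofNat 2, Int.ofNat 2, Int.ofNat 0, Int.ofNat 0, Int.ofNat 0, Int.ofNat 0, Int.negSucc 1, Int.ofNat 0, Int.ofNat 0, Int.negSucc 1, Int.ofNat 0, Int.ofNat 0, Int.ofNat 0],
  [Int.ofNat 0, Int.ofNat 0, Int.ofNat 2, Int.ofNat 0, Int.negSucc 1, Int.ofNat 0, Int.ofNat 0, Int.ofNat 0, Int.negSucc 1, Int.ofNat 0, Int.ofNat 0, Int.ofNat 0, Int.ofNat 0, Int.negSucc 1, Int.ofNat 0, Int.ofNat 0, Int.ofNat 0, Int.negSucc 1, Int.ofNat 0, Int.ofNat 0, Int.negSucc 1, Int.ofNat 2, Int.negSucc 1, Int.ofNat 0],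
  [Int.ofNat 0, Int.ofNat 0, Int.negSucc 1, Int.ofNat 0, Int.negSucc 1, Int.ofNat 0, Int.ofNat 0, Int.ofNat 0, Int.negSucc 1, Int.ofNat 0, Int.ofNat 0, Int.ofNat 0, Int.ofNat 0, Int.negSucc 1, Int.ofNat 0, Int.ofNat 0, Int.ofNat 0, Int.negSucc 1, Int.ofNat 0, Int.ofNat 0, Int.negSucc 1, Int.negSucc 1, Int.negSucc 1, Int.ofNat 0],
  [Int.negSucc 1, Int.ofNat 0, Int.ofNat 0, Int.negSucc 1, Int.ofNat 0, Int.negSucc 1, Int.ofNat 0, Int.ofNat 0, Int.ofNat 0, Int.negSucc 1, Int.ofNat 0, Int.ofNat 0, Int.ofNat 0, Int.ofNat 0, Int.negSucc 1, Int.ofNat 0, Int.ofNat 0, Int.ofNat 0, Int.negSucc 1, Int.ofNat 0, Int.ofNat 0, Int.negSucc 1, Int.negSucc 1, Int.ofNat 0],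
  [Int.ofNat 1, Int.negSucc 0, Int.negSucc 0, Int.ofNat 1, Int.ofNat 1, Int.ofNat 1, Int.ofNat 1, Int.ofNat 1, Int.ofNat 1, Int.negSucc 0, Int.ofNat 1, Int.ofNat 1, Int.ofNat 1, Int.ofNat 1, Int.ofNat 1, Int.ofNat 1, Int.ofNat 1, Int.ofNat 3, Int.negSucc 0, Int.ofNat 1, Int.ofNat 1, Int.negSucc 0, Int.negSucc 0, Int.negSucc 0],
  [Int.ofNat 1, Int.ofNat 1, Int.ofNat 1, Int.ofNat 1, Int.ofNat 1, Int.ofNat 1, Int.negSucc 0, Int.ofNat 1, Int.ofNat 1, Int.ofNat 1, Int.ofNat 1, Int.ofNat 1, Int.ofNat 1, Int.ofNat 1, Int.ofNat 3, Int.negSucc 0, Int.ofNat 1, Int.ofNat 1, Int.negSucc 0, Int.negSucc 0, Int.ofNat 1, Int.negSucc 0, Int.negSucc 0, Int.negSucc 0],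
  [Int.ofNat 0, Int.ofNat 0, Int.ofNat 0, Int.negSucc 1, Int.ofNat 0, Int.negSucc 1, Int.ofNat 0, Int.ofNat 2, Int.ofNat 0, Int.ofNat 0, Int.ofNat 0, Int.ofNat 0, Int.ofNat 0, Int.ofNat 0, Int.ofNat 0, Int.negSucc 1, Int.ofNat 0, Int.negSucc 1, Int.negSucc 1, Int.ofNat 0, Int.ofNat 0, Int.ofNat 0, Int.negSucc 1, Int.ofNat 2],
  [Int.ofNat 0, Int.ofNat 0, Int.ofNat 0, Int.negSucc 1, Int.negSucc 1, Int.ofNat 2, Int.ofNat 0, Int.ofNat 0, Int.ofNat 0, Int.ofNat 0, Int.ofNat 0, Int.negSucc 1, Int.ofNat 0, Int.ofNat 0, Int.negSucc 1, Int.negSucc 1, Int.ofNat 0, Int.ofNat 0, Int.ofNat 0, Int.ofNat 0, Int.ofNat 0, Int.negSucc 1, Int.ofNat 0, Int.ofNat 2],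
  [Int.ofNat 1, Int.ofNat 1, Int.ofNat 1, Int.negSucc 0, Int.negSucc 0, Int.ofNat 3, Int.ofNat 1, Int.ofNat 1, Int.ofNat 1, Int.ofNat 1, Int.ofNat 1, Int.negSucc 0, Int.ofNat 1, Int.ofNat 1, Int.negSucc 0, Int.negSucc 0, Int.ofNat 1, Int.ofNat 1, Int.ofNat 1, Int.ofNat 1, Int.ofNat 1, Int.negSucc 0, Int.ofNat 1, Int.negSucc 0],
  [Int.ofNat 1, Int.ofNat 1, Int.negSucc 0, Int.negSucc 0, Int.negSucc 0, Int.negSucc 2, Int.negSucc 0, Int.ofNat 1, Int.ofNat 1, Int.negSucc 0, Int.negSucc 0, Int.negSucc 0, Int.ofNat 1, Int.ofNat 1, Int.negSucc 0, Int.ofNat 1, Int.ofNat 1, Int.ofNat 1, Int.negSucc 0, Int.ofNat 1, Int.ofNat 1, Int.negSucc 0, Int.negSucc 0, Int.negSucc 0],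
  [Int.negSucc 0, Int.negSucc 0, Int.negSucc 0, Int.negSucc 0, Int.ofNat 1, Int.ofNat 1, Int.negSucc 0, Int.negSucc 0, Int.ofNat 1, Int.ofNat 1, Int.negSucc 2, Int.ofNat 1, Int.negSucc 0, Int.negSucc 0, Int.ofNat 1, Int.ofNat 1, Int.ofNat 1, Int.negSucc 0, Int.negSucc 0, Int.ofNat 1, Int.ofNat 1, Int.ofNat 1, Int.negSucc 0, Int.negSucc 0],
  [Int.negSucc 0, Int.negSucc 0, Int.ofNat 1, Int.negSucc 0, Int.ofNat 1, Int.negSucc 0, Int.ofNat 1, Int.negSucc 0, Int.ofNat 1, Int.negSucc 0, Int.ofNat 3, Int.ofNat 1, Int.negSucc 0, Int.negSucc 0, Int.ofNat 1, Int.negSucc 0, Int.ofNat 1, Int.negSucc 0, Int.ofNat 1, Int.ofNat 1, Int.ofNat 1, Int.ofNat 1, Int.ofNat 1, Int.negSucc 0],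
  [Int.ofNat 0, Int.ofNat 0, Int.negSucc 1, Int.ofNat 0, Int.ofNat 0, Int.ofNat 0, Int.ofNat 0, Int.negSucc 1, Int.ofNat 0, Int.negSucc 1, Int.ofNat 2, Int.ofNat 0, Int.negSucc 1, Int.negSucc 1, Int.ofNat 2, Int.negSucc 1, Int.ofNat 0, Int.ofNat 0, Int.ofNat 0, Int.ofNat 0, Int.ofNat 0, Int.ofNat 0, Int.ofNat 0, Int.ofNat 0],
  [Int.ofNat 0, Int.ofNat 0, Int.ofNat 0, Int.ofNat 0, Int.negSucc 1, Int.ofNat 0, Int.ofNat 0, Int.ofNat 0, Int.ofNat 0, Int.negSucc 1, Int.negSucc 1, Int.ofNat 0, Int.ofNat 0, Int.negSucc 1, Int.ofNat 0, Int.negSucc 1, Int.negSucc 1, Int.ofNat 0, Int.ofNat 0, Int.ofNat 0, Int.ofNat 2, Int.ofNat 0, Int.ofNat 2, Int.ofNat 0],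
  [Int.ofNat 0, Int.ofNat 0, Int.ofNat 0, Int.ofNat 0, Int.ofNat 0, Int.ofNat 0, Int.ofNat 0, Int.ofNat 0, Int.ofNat 0, Int.ofNat 0, Int.ofNat 0, Int.ofNat 0, Int.ofNat 0, Int.ofNat 0, Int.ofNat 0, Int.ofNat 0, Int.ofNat 0, Int.ofNat 0, Int.ofNat 0, Int.ofNat 0, Int.ofNat 4, Int.ofNat 0, Int.ofNat 4, Int.ofNat 0],
  [Int.ofNat 4, Int.ofNat 0, Int.ofNat 4, Int.ofNat 0, Int.ofNat 0, Int.ofNat 0, Int.ofNat 0, Int.ofNat 0, Int.ofNat 0, Int.ofNat 0, Int.ofNat 0, Int.ofNat 0, Int.ofNat 0, Int.ofNat 0, Int.ofNat 0, Int.ofNat 0, Int.ofNat 0, Int.ofNat 0, Int.ofNat 0, Int.ofNat 0, Int.ofNat 0, Int.ofNat 0, Int.ofNat 0, Int.ofNat 0],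
  [Int.ofNat 0, Int.ofNat 4, Int.ofNat 0, Int.ofNat 0, Int.ofNat 0, Int.ofNat 0, Int.ofNat 0, Int.ofNat 0, Int.ofNat 0, Int.ofNat 0, Int.ofNat 0, Int.ofNat 0, Int.ofNat 0, Int.ofNat 0, Int.ofNat 0, Int.ofNat 0, Int.ofNat 0, Int.ofNat 0, Int.ofNat 0, Int.ofNat 0, Int.ofNat 0, Int.ofNat 0, Int.ofNat 0, Int.ofNat 4],
  [Int.ofNat 4, Int.ofNat 0, Int.ofNat 0, Int.ofNat 0, Int.ofNat 0, Int.ofNat 0, Int.ofNat 0, Int.ofNat 0, Int.ofNat 0, Int.ofNat 0, Int.ofNat 0, Int.ofNat 0, Int.ofNat 0, Int.ofNat 0, Int.ofNat 0, Int.ofNat 0, Int.ofNat 0, Int.ofNat 0, Int.ofNat 0, Int.ofNat 0, Int.ofNat 0, Int.ofNat 0, Int.ofNat 0, Int.ofNat 4],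
  [Int.negSucc 3, Int.ofNat 0, Int.ofNat 0, Int.ofNat 0, Int.ofNat 0, Int.ofNat 0, Int.ofNat 0, Int.ofNat 0, Int.ofNat 0, Int.ofNat 0, Int.ofNat 0, Int.ofNat 0, Int.ofNat 0, Int.ofNat 0, Int.ofNat 0, Int.ofNat 0, Int.ofNat 0, Int.ofNat 0, Int.ofNat 0, Int.ofNat 0, Int.ofNat 0, Int.ofNat 0, Int.ofNat 0, Int.ofNat 4],
  [Int.ofNat 4, Int.ofNat 0, Int.ofNat 0, Int.ofNat 0, Int.ofNat 0, Int.ofNat 0, Int.ofNat 0, Int.ofNat 0, Int.ofNat 0, Int.ofNat 0, Int.ofNat 0, Int.ofNat 0, Int.ofNat 0, Int.ofNat 0, Int.ofNat 0, Int.ofNat 0, Int.ofNat 0, Int.ofNat 0, Int.ofNat 0, Int.ofNat 0, Int.ofNat 0, Int.ofNat 0, Int.ofNat 0, Int.ofNat 4],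
  [Int.ofNat 4, Int.ofNat 0, Int.ofNat 0, Int.ofNat 0, Int.ofNat 0, Int.ofNat 0, Int.ofNat 0, Int.ofNat 0, Int.ofNat 0, Int.ofNat 0, Int.ofNat 0, Int.ofNat 0, Int.ofNat 0, Int.ofNat 0, Int.ofNat 0, Int.ofNat 0, Int.ofNat 0, Int.ofNat 0, Int.ofNat 0, Int.ofNat 0, Int.ofNat 0, Int.ofNat 0, Int.ofNat 0, Int.ofNat 4],
  [Int.negSucc 3, Int.ofNat 0, Int.ofNat 0, Int.ofNat 0, Int.ofNat 0, Int.ofNat 0, Int.ofNat 0, Int.ofNat 0, Int.ofNat 0, Int.ofNat 0, Int.ofNat 0, Int.ofNat 0, Int.ofNat 0, Int.ofNat 0, Int.ofNat 0, Int.ofNat 0, Int.ofNat 0, Int.ofNat 0, Int.ofNat 0, Int.ofNat 0, Int.ofNat 0, Int.ofNat 0, Int.ofNat 0, Int.ofNat 4],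
  [Int.ofNat 0, Int.negSucc 3, Int.ofNat 0, Int.ofNat 0, Int.ofNat 0, Int.ofNat 0, Int.ofNat 0, Int.ofNat 0, Int.ofNat 0, Int.ofNat 0, Int.ofNat 0, Int.ofNat 0, Int.ofNat 0, Int.ofNat 0, Int.ofNat 0, Int.ofNat 0, Int.ofNat 0, Int.ofNat 0, Int.ofNat 0, Int.ofNat 0, Int.ofNat 0, Int.ofNat 0, Int.ofNat 0, Int.ofNat 4],
  [Int.ofNat 0, Int.ofNat 4, Int.ofNat 0, Int.ofNat 0, Int.ofNat 0, Int.ofNat 0, Int.ofNat 0, Int.ofNat 0, Int.ofNat 0, Int.ofNat 0, Int.ofNat 0, Int.ofNat 0, Int.ofNat 0, Int.ofNat 0, Int.ofNat 0, Int.ofNat 0, Int.ofNat 0, Int.ofNat 0, Int.ofNat 0, Int.ofNat 0, Int.ofNat 0, Int.ofNat 0, Int.ofNat 0, Int.negSucc 3],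
  [Int.ofNat 0, Int.ofNat 0, Int.ofNat 0, Int.ofNat 0, Int.ofNat 0, Int.ofNat 0, Int.ofNat 0, Int.ofNat 0, Int.ofNat 0, Int.ofNat 0, Int.ofNat 0, Int.ofNat 0, Int.ofNat 0, Int.ofNat 0, Int.ofNat 0, Int.ofNat 0, Int.ofNat 0, Int.ofNat 0, Int.ofNat 0, Int.ofNat 0, Int.ofNat 0, Int.ofNat 4, Int.ofNat 0, Int.negSucc 3],
  [Int.negSucc 1, Int.negSucc 1, Int.negSucc 1, Int.ofNat 0, Int.ofNat 0, Int.ofNat 0, Int.negSucc 1, Int.negSucc 1, Int.ofNat 0, Int.ofNat 0, Int.ofNat 0, Int.ofNat 0, Int.ofNat 0, Int.ofNat 0, Int.ofNat 0, Int.ofNat 0, Int.ofNat 0, Int.ofNat 0, Int.ofNat 0, Int.negSucc 1, Int.ofNat 0, Int.ofNat 2, Int.ofNat 0, Int.ofNat 2],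
  [Int.negSucc 1, Int.negSucc 1, Int.ofNat 0, Int.ofNat 0, Int.ofNat 0, Int.negSucc 1, Int.negSucc 1, Int.ofNat 0, Int.ofNat 0, Int.ofNat 0, Int.ofNat 0, Int.ofNat 0, Int.ofNat 0, Int.ofNat 0, Int.ofNat 0, Int.ofNat 0, Int.ofNat 0, Int.ofNat 0, Int.negSucc 1, Int.ofNat 0, Int.ofNat 2, Int.ofNat 0, Int.negSucc 1, Int.ofNat 2],
  [Int.ofNat 1, Int.ofNat 1, Int.negSucc 0, Int.ofNat 1, Int.ofNat 1, Int.negSucc 0, Int.negSucc 0, Int.ofNat 1, Int.ofNat 1, Int.negSucc 0, Int.negSucc 0, Int.ofNat 1, Int.ofNat 1, Int.ofNat 1, Int.ofNat 1, Int.negSucc 0, Int.ofNat 1, Int.ofNat 1, Int.negSucc 0, Int.ofNat 1, Int.ofNat 1, Int.ofNat 1, Int.negSucc 0, Int.negSucc 2],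
  [Int.ofNat 1, Int.ofNat 1, Int.ofNat 1, Int.ofNat 1, Int.ofNat 1, Int.ofNat 1, Int.ofNat 1, Int.ofNat 1, Int.ofNat 1, Int.ofNat 1, Int.ofNat 1, Int.ofNat 1, Int.ofNat 1, Int.ofNat 1, Int.ofNat 1, Int.ofNat 1, Int.ofNat 1, Int.ofNat 1, Int.ofNat 1, Int.ofNat 1, Int.ofNat 1, Int.ofNat 1, Int.ofNat 1, Int.negSucc 2],
  [Int.ofNat 1, Int.ofNat 1, Int.ofNat 1, Int.ofNat 1, Int.ofNat 1, Int.ofNat 1, Int.ofNat 1, Int.ofNat 1, Int.ofNat 1, Int.ofNat 1, Int.ofNat 1, Int.ofNat 1, Int.ofNat 1, Int.ofNat 1, Int.ofNat 1, Int.ofNat 1, Int.ofNat 1, Int.ofNat 1, Int.ofNat 1, Int.ofNat 1, Int.ofNat 1, Int.ofNat 1, Int.ofNat 1, Int.negSucc 2],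
  [Int.negSucc 2, Int.ofNat 1, Int.ofNat 1, Int.ofNat 1, Int.ofNat 1, Int.ofNat 1, Int.ofNat 1, Int.ofNat 1, Int.ofNat 1, Int.ofNat 1, Int.ofNat 1, Int.ofNat 1, Int.ofNat 1, Int.ofNat 1, Int.ofNat 1, Int.ofNat 1, Int.ofNat 1, Int.ofNat 1, Int.ofNat 1, Int.ofNat 1, Int.ofNat 1, Int.ofNat 1, Int.ofNat 1, Int.ofNat 1],
  [Int.ofNat 3, Int.ofNat 1, Int.negSucc 0, Int.ofNat 1, Int.ofNat 1, Int.ofNat 1, Int.ofNat 1, Int.negSucc 0, Int.ofNat 1, Int.negSucc 0, Int.negSucc 0, Int.negSucc 0, Int.ofNat 1, Int.ofNat 1, Int.ofNat 1, Int.ofNat 1, Int.ofNat 1, Int.ofNat 1, Int.negSucc 0, Int.ofNat 1, Int.ofNat 1, Int.negSucc 0, Int.ofNat 1, Int.ofNat 1],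
  [Int.ofNat 1, Int.ofNat 3, Int.ofNat 1, Int.negSucc 0, Int.ofNat 1, Int.ofNat 1, Int.ofNat 1, Int.ofNat 1, Int.negSucc 0, Int.ofNat 1, Int.negSucc 0, Int.negSucc 0, Int.negSucc 0, Int.ofNat 1, Int.ofNat 1, Int.ofNat 1, Int.ofNat 1, Int.ofNat 1, Int.ofNat 1, Int.negSucc 0, Int.ofNat 1, Int.ofNat 1, Int.negSucc 0, Int.ofNat 1],
  [Int.ofNat 2, Int.ofNat 0, Int.ofNat 2, Int.negSucc 1, Int.ofNat 0, Int.ofNat 0, Int.ofNat 0, Int.ofNat 0, Int.ofNat 0, Int.ofNat 0, Int.negSucc 1, Int.ofNat 0, Int.ofNat 0, Int.ofNat 0, Int.ofNat 0, Int.ofNat 0, Int.ofNat 0, Int.ofNat 0, Int.ofNat 2, Int.negSucc 1, Int.ofNat 0, Int.ofNat 0, Int.negSucc 1, Int.ofNat 2],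
  [Int.negSucc 1, Int.ofNat 0, Int.ofNat 0, Int.ofNat 0, Int.ofNat 0, Int.ofNat 0, Int.ofNat 0, Int.negSucc 1, Int.ofNat 0, Int.ofNat 0, Int.ofNat 0, Int.ofNat 0, Int.ofNat 0, Int.ofNat 0, Int.ofNat 0, Int.ofNat 2, Int.negSucc 1, Int.ofNat 0, Int.ofNat 0, Int.negSucc 1, Int.ofNat 2, Int.ofNat 0, Int.ofNat 2, Int.ofNat 2],
  [Int.ofNat 2, Int.ofNat 0, Int.ofNat 0, Int.ofNat 0, Int.ofNat 0, Int.ofNat 0, Int.ofNat 2, Int.ofNat 0, Int.ofNat 0, Int.negSucc 1, Int.negSucc 1, Int.ofNat 0, Int.ofNat 0, Int.ofNat 0, Int.ofNat 0, Int.ofNat 0, Int.negSucc 1, Int.ofNat 0, Int.ofNat 0, Int.ofNat 0, Int.ofNat 0, Int.ofNat 2, Int.ofNat 2, Int.negSucc 1],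
  [Int.ofNat 2, Int.ofNat 2, Int.ofNat 0, Int.ofNat 0, Int.ofNat 0, Int.ofNat 0, Int.ofNat 0, Int.negSucc 1, Int.ofNat 0, Int.ofNat 0, Int.ofNat 0, Int.ofNat 0, Int.negSucc 1, Int.negSucc 1, Int.ofNat 2, Int.ofNat 0, Int.ofNat 0, Int.ofNat 0, Int.ofNat 0, Int.ofNat 0, Int.ofNat 2, Int.ofNat 0, Int.ofNat 0, Int.negSucc 1],
  [Int.negSucc 0, Int.negSucc 0, Int.ofNat 1, Int.negSucc 0, Int.ofNat 1, Int.negSucc 0, Int.ofNat 1, Int.negSucc 0, Int.ofNat 1, Int.negSucc 0, Int.negSucc 0, Int.ofNat 1, Int.negSucc 0, Int.negSucc 0, Int.ofNat 1, Int.negSucc 0, Int.ofNat 1, Int.negSucc 0, Int.ofNat 1, Int.ofNat 1, Int.ofNat 1, Int.ofNat 1, Int.ofNat 1, Int.ofNat 3],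
  [Int.negSucc 0, Int.negSucc 0, Int.negSucc 0, Int.negSucc 0, Int.ofNat 1, Int.ofNat 1, Int.negSucc 0, Int.negSucc 0, Int.ofNat 1, Int.ofNat 1, Int.ofNat 1, Int.ofNat 1, Int.negSucc 0, Int.negSucc 0, Int.ofNat 1, Int.ofNat 1, Int.ofNat 1, Int.negSucc 0, Int.negSucc 0, Int.ofNat 1, Int.ofNat 1, Int.ofNat 1, Int.negSucc 0, Int.ofNat 3],
  [Int.negSucc 0, Int.ofNat 1, Int.ofNat 1, Int.negSucc 0, Int.negSucc 0, Int.ofNat 1, Int.ofNat 1, Int.negSucc 0, Int.negSucc 0, Int.ofNat 1, Int.ofNat 1, Int.negSucc 0, Int.ofNat 1, Int.ofNat 1, Int.ofNat 1, Int.negSucc 0, Int.ofNat 1, Int.negSucc 0, Int.ofNat 1, Int.ofNat 1, Int.negSucc 0, Int.negSucc 0, Int.negSucc 0, Int.ofNat 3],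
  [Int.negSucc 0, Int.ofNat 1, Int.negSucc 0, Int.negSucc 0, Int.negSucc 0, Int.negSucc 0, Int.negSucc 0, Int.negSucc 0, Int.negSucc 0, Int.negSucc 0, Int.negSucc 0, Int.negSucc 0, Int.ofNat 1, Int.ofNat 1, Int.ofNat 1, Int.ofNat 1, Int.ofNat 1, Int.negSucc 0, Int.negSucc 0, Int.ofNat 1, Int.negSucc 0, Int.negSucc 0, Int.ofNat 1, Int.ofNat 3],
  [Int.ofNat 2, Int.ofNat 0, Int.ofNat 2, Int.ofNat 0, Int.negSucc 1, Int.ofNat 0, Int.ofNat 0, Int.ofNat 0, Int.ofNat 0, Int.ofNat 0, Int.ofNat 0, Int.ofNat 0, Int.ofNat 2, Int.ofNat 0, Int.ofNat 2, Int.ofNat 2, Int.ofNat 0, Int.ofNat 0, Int.ofNat 0, Int.ofNat 2, Int.ofNat 0, Int.ofNat 0, Int.ofNat 0, Int.negSucc 1],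
  [Int.ofNat 2, Int.ofNat 0, Int.ofNat 0, Int.ofNat 0, Int.ofNat 2, Int.ofNat 0, Int.ofNat 0, Int.ofNat 0, Int.ofNat 0, Int.ofNat 2, Int.ofNat 0, Int.ofNat 2, Int.ofNat 0, Int.ofNat 0, Int.ofNat 0, Int.ofNat 2, Int.ofNat 0, Int.ofNat 0, Int.negSucc 1, Int.ofNat 0, Int.ofNat 0, Int.ofNat 0, Int.ofNat 2, Int.negSucc 1],
  [Int.negSucc 1, Int.ofNat 0, Int.ofNat 0, Int.ofNat 0, Int.ofNat 0, Int.ofNat 0, Int.ofNat 0, Int.ofNat 0, Int.ofNat 0, Int.ofNat 0, Int.negSucc 1, Int.ofNat 2, Int.ofNat 0, Int.negSucc 1, Int.ofNat 0, Int.ofNat 0, Int.negSucc 1, Int.ofNat 0, Int.negSucc 1, Int.ofNat 0, Int.negSucc 1, Int.ofNat 0, Int.ofNat 0, Int.ofNat 2],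
  [Int.negSucc 1, Int.ofNat 0, Int.ofNat 0, Int.negSucc 1, Int.ofNat 0, Int.ofNat 0, Int.ofNat 0, Int.ofNat 0, Int.ofNat 0, Int.ofNat 0, Int.ofNat 0, Int.ofNat 0, Int.ofNat 0, Int.negSucc 1, Int.ofNat 2, Int.ofNat 0, Int.negSucc 1, Int.ofNat 0, Int.ofNat 0, Int.negSucc 1, Int.ofNat 0, Int.negSucc 1, Int.ofNat 0, Int.ofNat 2],
  [Int.ofNat 2, Int.ofNat 0, Int.ofNat 0, Int.negSucc 1, Int.ofNat 2, Int.ofNat 0, Int.ofNat 2, Int.ofNat 2, Int.ofNat 0, Int.ofNat 0, Int.ofNat 0, Int.ofNat 0, Int.ofNat 0, Int.ofNat 0, Int.ofNat 2, Int.ofNat 0, Int.ofNat 0, Int.ofNat 0, Int.ofNat 0, Int.ofNat 0, Int.ofNat 0, Int.ofNat 0, Int.ofNat 2, Int.negSucc 1],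
  [Int.ofNat 0, Int.ofNat 0, Int.negSucc 1, Int.ofNat 2, Int.ofNat 0, Int.ofNat 2, Int.ofNat 2, Int.ofNat 0, Int.ofNat 0, Int.ofNat 0, Int.ofNat 0, Int.ofNat 0, Int.ofNat 0, Int.ofNat 2, Int.ofNat 0, Int.ofNat 0, Int.ofNat 0, Int.ofNat 0, Int.ofNat 0, Int.ofNat 0, Int.ofNat 0, Int.ofNat 2, Int.ofNat 2, Int.negSucc 1],
  [Int.ofNat 0, Int.ofNat 0, Int.ofNat 2, Int.ofNat 2, Int.ofNat 0, Int.ofNat 2, Int.ofNat 2, Int.ofNat 0, Int.ofNat 0, Int.ofNat 0, Int.ofNat 0, Int.ofNat 0, Int.ofNat 0, Int.ofNat 2, Int.ofNat 0, Int.ofNat 0, Int.ofNat 0, Int.ofNat 0, Int.ofNat 0, Int.ofNat 0, Int.ofNat 0, Int.negSucc 1, Int.ofNat 2, Int.negSucc 1],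
  [Int.ofNat 0, Int.ofNat 0, Int.negSucc 1, Int.negSucc 1, Int.ofNat 0, Int.ofNat 2, Int.negSucc 1, Int.ofNat 0, Int.ofNat 0, Int.ofNat 0, Int.ofNat 0, Int.ofNat 0, Int.ofNat 0, Int.negSucc 1, Int.ofNat 0, Int.ofNat 0, Int.ofNat 0, Int.ofNat 0, Int.ofNat 0, Int.ofNat 0, Int.ofNat 0, Int.negSucc 1, Int.ofNat 2, Int.negSucc 1],
  [Int.ofNat 0, Int.negSucc 1, Int.ofNat 0, Int.negSucc 1, Int.ofNat 0, Int.ofNat 0, Int.ofNat 0, Int.ofNat 0, Int.ofNat 0, Int.ofNat 0, Int.negSucc 1, Int.ofNat 0, Int.negSucc 1, Int.ofNat 0, Int.ofNat 0, Int.ofNat 0, Int.ofNat 0, Int.ofNat 2, Int.negSucc 1, Int.ofNat 0, Int.ofNat 2, Int.ofNat 0, Int.ofNat 0, Int.negSucc 1],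
  [Int.ofNat 0, Int.negSucc 1, Int.ofNat 0, Int.negSucc 1, Int.ofNat 0, Int.ofNat 0, Int.ofNat 0, Int.ofNat 0, Int.ofNat 0, Int.ofNat 0, Int.ofNat 2, Int.ofNat 0, Int.negSucc 1, Int.ofNat 0, Int.ofNat 0, Int.ofNat 0, Int.ofNat 0, Int.ofNat 2, Int.ofNat 2, Int.ofNat 0, Int.ofNat 2, Int.ofNat 0, Int.ofNat 0, Int.negSucc 1],
  [Int.ofNat 0, Int.ofNat 0, Int.negSucc 1, Int.ofNat 0, Int.negSucc 1, Int.ofNat 0, Int.ofNat 0, Int.ofNat 0, Int.ofNat 0, Int.ofNat 0, Int.ofNat 0, Int.ofNat 2, Int.ofNat 0, Int.negSucc 1, Int.ofNat 0, Int.ofNat 0, Int.ofNat 0, Int.ofNat 0, Int.ofNat 2, Int.ofNat 2, Int.ofNat 0, Int.ofNat 2, Int.ofNat 0, Int.negSucc 1],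
  [Int.negSucc 1, Int.negSucc 1, Int.ofNat 0, Int.ofNat 0, Int.ofNat 0, Int.ofNat 0, Int.negSucc 1, Int.negSucc 1, Int.negSucc 1, Int.ofNat 0, Int.ofNat 0, Int.ofNat 0, Int.negSucc 1, Int.ofNat 0, Int.ofNat 0, Int.ofNat 0, Int.ofNat 2, Int.ofNat 0, Int.ofNat 0, Int.ofNat 0, Int.ofNat 0, Int.ofNat 0, Int.ofNat 2, Int.ofNat 0],
  [Int.ofNat 0, Int.ofNat 0, Int.ofNat 0, Int.negSucc 1, Int.negSucc 1, Int.negSucc 1, Int.ofNat 0, Int.ofNat 0, Int.ofNat 0, Int.negSucc 1, Int.ofNat 0, Int.ofNat 0, Int.ofNat 0, Int.ofNat 2, Int.ofNat 0, Int.ofNat 0, Int.ofNat 0, Int.ofNat 0, Int.ofNat 0, Int.ofNat 2, Int.negSucc 1, Int.negSucc 1, Int.ofNat 0, Int.ofNat 0],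
  [Int.ofNat 0, Int.ofNat 0, Int.ofNat 0, Int.ofNat 0, Int.negSucc 1, Int.ofNat 0, Int.ofNat 0, Int.ofNat 0, Int.ofNat 0, Int.ofNat 0, Int.ofNat 2, Int.ofNat 0, Int.ofNat 0, Int.ofNat 2, Int.ofNat 2, Int.ofNat 2, Int.ofNat 0, Int.ofNat 2, Int.ofNat 0, Int.ofNat 2, Int.ofNat 0, Int.negSucc 1, Int.ofNat 0, Int.ofNat 0],
  [Int.ofNat 0, Int.ofNat 0, Int.negSucc 1, Int.ofNat 0, Int.ofNat 0, Int.ofNat 0, Int.ofNat 0, Int.ofNat 2, Int.ofNat 0, Int.ofNat 2, Int.ofNat 0, Int.ofNat 2, Int.ofNat 0, Int.ofNat 0, Int.ofNat 0, Int.ofNat 2, Int.ofNat 0, Int.ofNat 2, Int.ofNat 0, Int.ofNat 0, Int.negSucc 1, Int.ofNat 0, Int.ofNat 2, Int.ofNat 0],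
  [Int.negSucc 0, Int.negSucc 0, Int.ofNat 1, Int.negSucc 0, Int.negSucc 0, Int.negSucc 0, Int.negSucc 0, Int.ofNat 1, Int.negSucc 0, Int.ofNat 1, Int.negSucc 0, Int.ofNat 1, Int.negSucc 0, Int.negSucc 0, Int.negSucc 0, Int.ofNat 1, Int.negSucc 0, Int.ofNat 1, Int.negSucc 0, Int.negSucc 0, Int.negSucc 2, Int.negSucc 0, Int.ofNat 1, Int.negSucc 0],
  [Int.negSucc 0, Int.negSucc 0, Int.negSucc 0, Int.negSucc 0, Int.negSucc 0, Int.ofNat 1, Int.ofNat 1, Int.ofNat 1, Int.negSucc 0, Int.negSucc 0, Int.ofNat 1, Int.ofNat 1, Int.negSucc 0, Int.negSucc 0, Int.negSucc 0, Int.negSucc 0, Int.negSucc 0, Int.ofNat 1, Int.ofNat 1, Int.negSucc 0, Int.negSucc 2, Int.negSucc 0, Int.negSucc 0, Int.negSucc 0],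
  [Int.ofNat 1, Int.negSucc 0, Int.ofNat 1, Int.negSucc 0, Int.negSucc 0, Int.ofNat 1, Int.negSucc 0, Int.negSucc 0, Int.ofNat 1, Int.negSucc 2, Int.negSucc 0, Int.ofNat 1, Int.negSucc 0, Int.negSucc 0, Int.ofNat 1, Int.ofNat 1, Int.negSucc 0, Int.negSucc 0, Int.negSucc 0, Int.negSucc 0, Int.negSucc 0, Int.negSucc 0, Int.negSucc 0, Int.negSucc 0],
  [Int.negSucc 0, Int.negSucc 0, Int.ofNat 1, Int.ofNat 1, Int.negSucc 0, Int.negSucc 2, Int.negSucc 0, Int.negSucc 0, Int.negSucc 0, Int.ofNat 1, Int.negSucc 0, Int.ofNat 1, Int.negSucc 0, Int.negSucc 0, Int.negSucc 0, Int.negSucc 0, Int.negSucc 0, Int.negSucc 0, Int.ofNat 1, Int.negSucc 0, Int.ofNat 1, Int.negSucc 0, Int.negSucc 0, Int.ofNat 1],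
  [Int.ofNat 1, Int.negSucc 0, Int.negSucc 0, Int.ofNat 1, Int.negSucc 0, Int.negSucc 2, Int.negSucc 0, Int.ofNat 1, Int.negSucc 0, Int.negSucc 0, Int.ofNat 1, Int.negSucc 0, Int.negSucc 0, Int.negSucc 0, Int.negSucc 0, Int.negSucc 0, Int.negSucc 0, Int.negSucc 0, Int.negSucc 0, Int.negSucc 0, Int.ofNat 1, Int.ofNat 1, Int.negSucc 0, Int.ofNat 1],
  [Int.negSucc 0, Int.ofNat 1, Int.negSucc 0, Int.negSucc 0, Int.ofNat 1, Int.negSucc 0, Int.negSucc 2, Int.negSucc 0, Int.ofNat 1, Int.negSucc 0, Int.negSucc 0, Int.ofNat 1, Int.negSucc 0, Int.negSucc 0, Int.negSucc 0, Int.negSucc 0, Int.negSucc 0, Int.negSucc 0, Int.negSucc 0, Int.negSucc 0, Int.negSucc 0, Int.ofNat 1, Int.ofNat 1, Int.ofNat 1],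
  [Int.ofNat 1, Int.negSucc 0, Int.ofNat 1, Int.ofNat 1, Int.ofNat 1, Int.ofNat 1, Int.negSucc 0, Int.ofNat 1, Int.ofNat 1, Int.ofNat 1, Int.ofNat 1, Int.ofNat 1, Int.negSucc 0, Int.negSucc 0, Int.ofNat 1, Int.ofNat 1, Int.negSucc 0, Int.ofNat 1, Int.negSucc 0, Int.ofNat 1, Int.ofNat 1, Int.ofNat 3, Int.ofNat 1, Int.negSucc 0],
  [Int.ofNat 1, Int.ofNat 1, Int.ofNat 1, Int.negSucc 0, Int.ofNat 1, Int.ofNat 1, Int.ofNat 1, Int.ofNat 1, Int.ofNat 1, Int.negSucc 0, Int.negSucc 0, Int.ofNat 1, Int.ofNat 1, Int.negSucc 0, Int.ofNat 1, Int.negSucc 0, Int.ofNat 1, Int.ofNat 1, Int.ofNat 3, Int.ofNat 1, Int.ofNat 1, Int.negSucc 0, Int.ofNat 1, Int.negSucc 0],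
  [Int.ofNat 0, Int.ofNat 0, Int.ofNat 0, Int.negSucc 1, Int.ofNat 0, Int.ofNat 0, Int.ofNat 0, Int.ofNat 0, Int.negSucc 1, Int.ofNat 0, Int.ofNat 0, Int.negSucc 1, Int.negSucc 1, Int.negSucc 1, Int.ofNat 0, Int.ofNat 0, Int.ofNat 0, Int.ofNat 0, Int.ofNat 0, Int.ofNat 0, Int.ofNat 2, Int.negSucc 1, Int.ofNat 0, Int.ofNat 2],
  [Int.ofNat 0, Int.ofNat 0, Int.ofNat 0, Int.negSucc 1, Int.ofNat 0, Int.ofNat 0, Int.ofNat 0, Int.ofNat 0, Int.negSucc 1, Int.negSucc 1, Int.ofNat 2, Int.ofNat 0, Int.ofNat 0, Int.ofNat 0, Int.ofNat 0, Int.ofNat 0, Int.negSucc 1, Int.ofNat 0, Int.ofNat 0, Int.negSucc 1, Int.negSucc 1, Int.ofNat 0, Int.ofNat 0, Int.ofNat 2],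
  [Int.ofNat 1, Int.ofNat 1, Int.ofNat 1, Int.negSucc 0, Int.ofNat 1, Int.ofNat 1, Int.ofNat 1, Int.ofNat 1, Int.negSucc 0, Int.negSucc 0, Int.ofNat 3, Int.ofNat 1, Int.ofNat 1, Int.ofNat 1, Int.ofNat 1, Int.ofNat 1, Int.negSucc 0, Int.ofNat 1, Int.ofNat 1, Int.negSucc 0, Int.negSucc 0, Int.ofNat 1, Int.ofNat 1, Int.negSucc 0],
  [Int.ofNat 1, Int.ofNat 1, Int.negSucc 0, Int.negSucc 0, Int.ofNat 1, Int.negSucc 0, Int.negSucc 0, Int.ofNat 1, Int.negSucc 0, Int.ofNat 1, Int.negSucc 2, Int.ofNat 1, Int.ofNat 1, Int.ofNat 1, Int.ofNat 1, Int.negSucc 0, Int.negSucc 0, Int.ofNat 1, Int.negSucc 0, Int.negSucc 0, Int.negSucc 0, Int.ofNat 1, Int.negSucc 0, Int.negSucc 0],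
  [Int.negSucc 0, Int.ofNat 1, Int.ofNat 1, Int.negSucc 0, Int.ofNat 1, Int.negSucc 0, Int.ofNat 1, Int.negSucc 0, Int.ofNat 1, Int.negSucc 0, Int.negSucc 0, Int.ofNat 1, Int.ofNat 1, Int.ofNat 1, Int.negSucc 0, Int.ofNat 1, Int.negSucc 0, Int.negSucc 0, Int.negSucc 2, Int.negSucc 0, Int.ofNat 1, Int.ofNat 1, Int.negSucc 0, Int.negSucc 0],
  [Int.negSucc 0, Int.ofNat 1, Int.negSucc 0, Int.negSucc 0, Int.ofNat 1, Int.ofNat 1, Int.negSucc 0, Int.negSucc 0, Int.ofNat 1, Int.ofNat 1, Int.ofNat 1, Int.ofNat 1, Int.ofNat 1, Int.ofNat 1, Int.negSucc 0, Int.negSucc 0, Int.negSucc 0, Int.negSucc 0, Int.ofNat 3, Int.negSucc 0, Int.ofNat 1, Int.ofNat 1, Int.ofNat 1, Int.negSucc 0],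
  [Int.ofNat 0, Int.negSucc 1, Int.ofNat 0, Int.ofNat 0, Int.ofNat 0, Int.ofNat 2, Int.ofNat 0, Int.ofNat 0, Int.negSucc 1, Int.ofNat 0, Int.ofNat 0, Int.negSucc 1, Int.negSucc 1, Int.ofNat 0, Int.ofNat 0, Int.negSucc 1, Int.negSucc 1, Int.ofNat 0, Int.ofNat 0, Int.ofNat 0, Int.ofNat 0, Int.ofNat 2, Int.ofNat 0, Int.ofNat 0],
  [Int.ofNat 0, Int.ofNat 0, Int.ofNat 0, Int.ofNat 0, Int.ofNat 0, Int.ofNat 2, Int.negSucc 1, Int.ofNat 2, Int.negSucc 1, Int.negSucc 1, Int.ofNat 0, Int.ofNat 0, Int.negSucc 1, Int.ofNat 0, Int.ofNat 0, Int.negSucc 1, Int.ofNat 0, Int.negSucc 1, Int.ofNat 0, Int.ofNat 0, Int.ofNat 0, Int.ofNat 0, Int.ofNat 0, Int.ofNat 0],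
  [Int.ofNat 0, Int.ofNat 0, Int.ofNat 0, Int.ofNat 0, Int.ofNat 0, Int.ofNat 2, Int.negSucc 1, Int.ofNat 2, Int.ofNat 0, Int.ofNat 0, Int.ofNat 2, Int.ofNat 2, Int.ofNat 0, Int.ofNat 0, Int.ofNat 0, Int.ofNat 0, Int.ofNat 0, Int.negSucc 1, Int.ofNat 2, Int.ofNat 0, Int.ofNat 2, Int.ofNat 0, Int.ofNat 0, Int.ofNat 0],
  [Int.ofNat 2, Int.ofNat 0, Int.ofNat 0, Int.ofNat 0, Int.ofNat 0, Int.ofNat 0, Int.ofNat 0, Int.ofNat 0, Int.ofNat 2, Int.negSucc 1, Int.ofNat 2, Int.ofNat 0, Int.ofNat 0, Int.ofNat 2, Int.ofNat 2, Int.ofNat 0, Int.ofNat 0, Int.ofNat 0, Int.ofNat 0, Int.ofNat 0, Int.negSucc 1, Int.ofNat 2, Int.ofNat 0, Int.ofNat 0],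
  [Int.negSucc 0, Int.ofNat 1, Int.ofNat 1, Int.negSucc 0, Int.negSucc 0, Int.negSucc 0, Int.negSucc 0, Int.negSucc 0, Int.ofNat 1, Int.negSucc 0, Int.ofNat 3, Int.negSucc 0, Int.negSucc 0, Int.ofNat 1, Int.ofNat 1, Int.ofNat 1, Int.negSucc 0, Int.negSucc 0, Int.negSucc 0, Int.negSucc 0, Int.negSucc 0, Int.ofNat 1, Int.negSucc 0, Int.ofNat 1],
  [Int.ofNat 1, Int.ofNat 1, Int.negSucc 0, Int.negSucc 0, Int.negSucc 0, Int.negSucc 0, Int.negSucc 0, Int.ofNat 1, Int.negSucc 0, Int.ofNat 3, Int.negSucc 0, Int.negSucc 0, Int.ofNat 1, Int.ofNat 1, Int.ofNat 1, Int.negSucc 0, Int.negSucc 0, Int.negSucc 0, Int.negSucc 0, Int.negSucc 0, Int.ofNat 1, Int.negSucc 0, Int.negSucc 0, Int.ofNat 1],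
  [Int.negSucc 0, Int.ofNat 1, Int.ofNat 1, Int.negSucc 0, Int.negSucc 0, Int.negSucc 0, Int.negSucc 0, Int.negSucc 0, Int.negSucc 0, Int.negSucc 2, Int.ofNat 1, Int.ofNat 1, Int.ofNat 1, Int.ofNat 1, Int.ofNat 1, Int.negSucc 0, Int.negSucc 0, Int.negSucc 0, Int.ofNat 1, Int.negSucc 0, Int.ofNat 1, Int.ofNat 1, Int.negSucc 0, Int.ofNat 1],
  [Int.ofNat 1, Int.negSucc 0, Int.negSucc 0, Int.ofNat 1, Int.ofNat 1, Int.negSucc 0, Int.ofNat 1, Int.negSucc 0, Int.ofNat 1, Int.ofNat 3, Int.ofNat 1, Int.ofNat 1, Int.negSucc 0, Int.negSucc 0, Int.ofNat 1, Int.negSucc 0, Int.ofNat 1, Int.negSucc 0, Int.negSucc 0, Int.negSucc 0, Int.ofNat 1, Int.ofNat 1, Int.negSucc 0, Int.ofNat 1],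
  [Int.ofNat 1, Int.negSucc 0, Int.negSucc 0, Int.ofNat 1, Int.negSucc 0, Int.ofNat 1, Int.ofNat 1, Int.ofNat 1, Int.ofNat 3, Int.ofNat 1, Int.ofNat 1, Int.ofNat 1, Int.negSucc 0, Int.ofNat 1, Int.negSucc 0, Int.negSucc 0, Int.negSucc 0, Int.negSucc 0, Int.ofNat 1, Int.negSucc 0, Int.negSucc 0, Int.negSucc 0, Int.ofNat 1, Int.ofNat 1],
  [Int.negSucc 0, Int.negSucc 0, Int.ofNat 1, Int.ofNat 1, Int.negSucc 0, Int.ofNat 1, Int.ofNat 1, Int.negSucc 0, Int.ofNat 3, Int.negSucc 0, Int.negSucc 0, Int.negSucc 0, Int.negSucc 0, Int.ofNat 1, Int.negSucc 0, Int.negSucc 0, Int.negSucc 0, Int.negSucc 0, Int.negSucc 0, Int.negSucc 0, Int.negSucc 0, Int.ofNat 1, Int.ofNat 1, Int.ofNat 1],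
  [Int.ofNat 1, Int.negSucc 0, Int.negSucc 0, Int.ofNat 1, Int.ofNat 1, Int.negSucc 0, Int.ofNat 1, Int.ofNat 1, Int.negSucc 0, Int.ofNat 3, Int.negSucc 0, Int.negSucc 0, Int.negSucc 0, Int.negSucc 0, Int.ofNat 1, Int.negSucc 0, Int.negSucc 0, Int.negSucc 0, Int.negSucc 0, Int.negSucc 0, Int.negSucc 0, Int.negSucc 0, Int.ofNat 1, Int.ofNat 1],
  [Int.negSucc 0, Int.ofNat 1, Int.ofNat 1, Int.ofNat 1, Int.ofNat 1, Int.negSucc 0, Int.ofNat 1, Int.ofNat 1, Int.ofNat 1, Int.ofNat 3, Int.negSucc 0, Int.ofNat 1, Int.ofNat 1, Int.negSucc 0, Int.ofNat 1, Int.negSucc 0, Int.negSucc 0, Int.negSucc 0, Int.ofNat 1, Int.negSucc 0, Int.negSucc 0, Int.negSucc 0, Int.ofNat 1, Int.negSucc 0],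
  [Int.ofNat 1, Int.ofNat 1, Int.negSucc 0, Int.ofNat 1, Int.ofNat 1, Int.ofNat 1, Int.ofNat 3, Int.negSucc 0, Int.ofNat 1, Int.ofNat 1, Int.negSucc 0, Int.ofNat 1, Int.negSucc 0, Int.negSucc 0, Int.negSucc 0, Int.ofNat 1, Int.negSucc 0, Int.negSucc 0, Int.negSucc 0, Int.ofNat 1, Int.negSucc 0, Int.ofNat 1, Int.ofNat 1, Int.negSucc 0],
  [Int.negSucc 0, Int.negSucc 0, Int.ofNat 1, Int.ofNat 1, Int.ofNat 1, Int.ofNat 1, Int.ofNat 1, Int.negSucc 2, Int.ofNat 1, Int.ofNat 1, Int.negSucc 0, Int.ofNat 1, Int.negSucc 0, Int.negSucc 0, Int.negSucc 0, Int.ofNat 1, Int.negSucc 0, Int.negSucc 0, Int.negSucc 0, Int.negSucc 0, Int.negSucc 0, Int.negSucc 0, Int.ofNat 1, Int.ofNat 1],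
  [Int.negSucc 0, Int.ofNat 1, Int.ofNat 1, Int.ofNat 1, Int.negSucc 0, Int.negSucc 2, Int.ofNat 1, Int.negSucc 0, Int.negSucc 0, Int.negSucc 0, Int.negSucc 0, Int.negSucc 0, Int.ofNat 1, Int.negSucc 0, Int.ofNat 1, Int.ofNat 1, Int.ofNat 1, Int.negSucc 0, Int.negSucc 0, Int.ofNat 1, Int.negSucc 0, Int.ofNat 1, Int.negSucc 0, Int.ofNat 1],
  [Int.ofNat 2, Int.ofNat 0, Int.ofNat 0, Int.ofNat 2, Int.ofNat 0, Int.negSucc 1, Int.ofNat 0, Int.negSucc 1, Int.ofNat 0, Int.ofNat 0, Int.ofNat 0, Int.ofNat 0, Int.ofNat 2, Int.ofNat 0, Int.ofNat 2, Int.ofNat 2, Int.ofNat 2, Int.ofNat 0, Int.ofNat 0, Int.ofNat 0, Int.ofNat 0, Int.ofNat 0, Int.ofNat 0, Int.ofNat 0],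
  [Int.ofNat 2, Int.ofNat 0, Int.ofNat 0, Int.ofNat 2, Int.ofNat 0, Int.ofNat 2, Int.ofNat 0, Int.negSucc 1, Int.ofNat 0, Int.ofNat 0, Int.ofNat 0, Int.ofNat 0, Int.ofNat 2, Int.ofNat 0, Int.ofNat 2, Int.negSucc 1, Int.ofNat 2, Int.ofNat 0, Int.ofNat 0, Int.ofNat 0, Int.ofNat 0, Int.ofNat 0, Int.ofNat 0, Int.ofNat 0],
  [Int.ofNat 0, Int.ofNat 2, Int.ofNat 0, Int.ofNat 0, Int.ofNat 2, Int.ofNat 0, Int.ofNat 0, Int.ofNat 2, Int.ofNat 2, Int.ofNat 0, Int.ofNat 0, Int.negSucc 1, Int.negSucc 1, Int.ofNat 0, Int.ofNat 0, Int.ofNat 0, Int.ofNat 0, Int.ofNat 2, Int.ofNat 0, Int.ofNat 0, Int.ofNat 2, Int.ofNat 0, Int.ofNat 0, Int.ofNat 0],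
  [Int.ofNat 0, Int.ofNat 0, Int.negSucc 1, Int.ofNat 0, Int.ofNat 2, Int.ofNat 0, Int.ofNat 0, Int.ofNat 0, Int.ofNat 2, Int.ofNat 0, Int.ofNat 0, Int.ofNat 0, Int.ofNat 0, Int.ofNat 2, Int.ofNat 0, Int.ofNat 0, Int.ofNat 0, Int.ofNat 2, Int.ofNat 0, Int.ofNat 0, Int.ofNat 2, Int.negSucc 1, Int.ofNat 2, Int.ofNat 0],
  [Int.ofNat 0, Int.ofNat 0, Int.ofNat 2, Int.ofNat 0, Int.ofNat 2, Int.ofNat 0, Int.ofNat 0, Int.ofNat 0, Int.ofNat 2, Int.ofNat 0, Int.ofNat 0, Int.ofNat 0, Int.ofNat 0, Int.ofNat 2, Int.ofNat 0, Int.ofNat 0, Int.ofNat 0, Int.ofNat 2, Int.ofNat 0, Int.ofNat 0, Int.ofNat 2, Int.ofNat 2, Int.ofNat 2, Int.ofNat 0],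
  [Int.ofNat 2, Int.ofNat 0, Int.ofNat 0, Int.ofNat 2, Int.ofNat 0, Int.ofNat 2, Int.ofNat 0, Int.ofNat 0, Int.ofNat 0, Int.ofNat 2, Int.ofNat 0, Int.ofNat 0, Int.ofNat 0, Int.ofNat 0, Int.ofNat 2, Int.ofNat 0, Int.ofNat 0, Int.ofNat 0, Int.ofNat 2, Int.ofNat 0, Int.ofNat 0, Int.ofNat 2, Int.ofNat 2, Int.ofNat 0],
  [Int.negSucc 0, Int.ofNat 1, Int.ofNat 1, Int.negSucc 0, Int.negSucc 0, Int.negSucc 0, Int.negSucc 0, Int.negSucc 0, Int.negSucc 0, Int.ofNat 1, Int.negSucc 0, Int.negSucc 0, Int.negSucc 0, Int.negSucc 0, Int.negSucc 0, Int.negSucc 0, Int.negSucc 0, Int.negSucc 2, Int.ofNat 1, Int.negSucc 0, Int.negSucc 0, Int.ofNat 1, Int.ofNat 1, Int.ofNat 1],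
  [Int.negSucc 0, Int.negSucc 0, Int.negSucc 0, Int.negSucc 0, Int.negSucc 0, Int.negSucc 0, Int.ofNat 1, Int.negSucc 0, Int.negSucc 0, Int.negSucc 0, Int.negSucc 0, Int.negSucc 0, Int.negSucc 0, Int.negSucc 0, Int.negSucc 2, Int.ofNat 1, Int.negSucc 0, Int.negSucc 0, Int.ofNat 1, Int.ofNat 1, Int.negSucc 0, Int.ofNat 1, Int.ofNat 1, Int.ofNat 1],
  [Int.ofNat 0, Int.ofNat 0, Int.ofNat 0, Int.ofNat 2, Int.ofNat 0, Int.ofNat 2, Int.ofNat 0, Int.negSucc 1, Int.ofNat 0, Int.ofNat 0, Int.ofNat 0, Int.ofNat 0, Int.ofNat 0, Int.ofNat 0, Int.ofNat 0, Int.ofNat 2, Int.ofNat 0, Int.ofNat 2, Int.ofNat 2, Int.ofNat 0, Int.ofNat 0, Int.ofNat 0, Int.ofNat 2, Int.negSucc 1],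
  [Int.ofNat 0, Int.ofNat 0, Int.ofNat 0, Int.ofNat 2, Int.ofNat 2, Int.negSucc 1, Int.ofNat 0, Int.ofNat 0, Int.ofNat 0, Int.ofNat 0, Int.ofNat 0, Int.ofNat 2, Int.ofNat 0, Int.ofNat 0, Int.ofNat 2, Int.ofNat 2, Int.ofNat 0, Int.ofNat 0, Int.ofNat 0, Int.ofNat 0, Int.ofNat 0, Int.ofNat 2, Int.ofNat 0, Int.negSucc 1],
  [Int.negSucc 0, Int.negSucc 0, Int.negSucc 0, Int.ofNat 1, Int.ofNat 1, Int.negSucc 2, Int.negSucc 0, Int.negSucc 0, Int.negSucc 0, Int.negSucc 0, Int.negSucc 0, Int.ofNat 1, Int.negSucc 0, Int.negSucc 0, Int.ofNat 1, Int.ofNat 1, Int.negSucc 0, Int.negSucc 0, Int.negSucc 0, Int.negSucc 0, Int.negSucc 0, Int.ofNat 1, Int.negSucc 0, Int.ofNat 1],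
  [Int.negSucc 0, Int.negSucc 0, Int.ofNat 1, Int.ofNat 1, Int.ofNat 1, Int.ofNat 3, Int.ofNat 1, Int.negSucc 0, Int.negSucc 0, Int.ofNat 1, Int.ofNat 1, Int.ofNat 1, Int.negSucc 0, Int.negSucc 0, Int.ofNat 1, Int.negSucc 0, Int.negSucc 0, Int.negSucc 0, Int.ofNat 1, Int.negSucc 0, Int.negSucc 0, Int.ofNat 1, Int.ofNat 1, Int.ofNat 1],
  [Int.ofNat 1, Int.ofNat 1, Int.ofNat 1, Int.ofNat 1, Int.negSucc 0, Int.negSucc 0, Int.ofNat 1, Int.ofNat 1, Int.negSucc 0, Int.negSucc 0, Int.ofNat 3, Int.negSucc 0, Int.ofNat 1, Int.ofNat 1, Int.negSucc 0, Int.negSucc 0, Int.negSucc 0, Int.ofNat 1, Int.ofNat 1, Int.negSucc 0, Int.negSucc 0, Int.negSucc 0, Int.ofNat 1, Int.ofNat 1],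
  [Int.ofNat 1, Int.ofNat 1, Int.negSucc 0, Int.ofNat 1, Int.negSucc 0, Int.ofNat 1, Int.negSucc 0, Int.ofNat 1, Int.negSucc 0, Int.ofNat 1, Int.negSucc 2, Int.negSucc 0, Int.ofNat 1, Int.ofNat 1, Int.negSucc 0, Int.ofNat 1, Int.negSucc 0, Int.ofNat 1, Int.negSucc 0, Int.negSucc 0, Int.negSucc 0, Int.negSucc 0, Int.negSucc 0, Int.ofNat 1],
  [Int.ofNat 0, Int.ofNat 0, Int.ofNat 2, Int.ofNat 0, Int.ofNat 0, Int.ofNat 0, Int.ofNat 0, Int.ofNat 2, Int.ofNat 0, Int.ofNat 2, Int.negSucc 1, Int.ofNat 0, Int.ofNat 2, Int.ofNat 2, Int.negSucc 1, Int.ofNat 2, Int.ofNat 0, Int.ofNat 0, Int.ofNat 0, Int.ofNat 0, Int.ofNat 0, Int.ofNat 0, Int.ofNat 0, Int.ofNat 0],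
  [Int.ofNat 0, Int.ofNat 0, Int.ofNat 0, Int.ofNat 0, Int.ofNat 2, Int.ofNat 0, Int.ofNat 0, Int.ofNat 0, Int.ofNat 0, Int.ofNat 2, Int.ofNat 2, Int.ofNat 0, Int.ofNat 0, Int.ofNat 2, Int.ofNat 0, Int.ofNat 2, Int.ofNat 2, Int.ofNat 0, Int.ofNat 0, Int.ofNat 0, Int.negSucc 1, Int.ofNat 0, Int.negSucc 1, Int.ofNat 0],
  [Int.ofNat 0, Int.ofNat 0, Int.ofNat 0, Int.ofNat 0, Int.ofNat 0, Int.ofNat 0, Int.ofNat 0, Int.ofNat 0, Int.ofNat 0, Int.ofNat 0, Int.ofNat 0, Int.ofNat 0, Int.ofNat 0, Int.ofNat 0, Int.ofNat 0, Int.ofNat 0, Int.ofNat 0, Int.ofNat 0, Int.ofNat 0, Int.ofNat 0, Int.negSucc 3, Int.ofNat 0, Int.negSucc 3, Int.ofNat 0],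
  [Int.negSucc 3, Int.ofNat 0, Int.negSucc 3, Int.ofNat 0, Int.ofNat 0, Int.ofNat 0, Int.ofNat 0, Int.ofNat 0, Int.ofNat 0, Int.ofNat 0, Int.ofNat 0, Int.ofNat 0, Int.ofNat 0, Int.ofNat 0, Int.ofNat 0, Int.ofNat 0, Int.ofNat 0, Int.ofNat 0, Int.ofNat 0, Int.ofNat 0, Int.ofNat 0, Int.ofNat 0, Int.ofNat 0, Int.ofNat 0],
  [Int.ofNat 0, Int.negSucc 3, Int.ofNat 0, Int.ofNat 0, Int.ofNat 0, Int.ofNat 0, Int.ofNat 0, Int.ofNat 0, Int.ofNat 0, Int.ofNat 0, Int.ofNat 0, Int.ofNat 0, Int.ofNat 0, Int.ofNat 0, Int.ofNat 0, Int.ofNat 0, Int.ofNat 0, Int.ofNat 0, Int.ofNat 0, Int.ofNat 0, Int.ofNat 0, Int.ofNat 0, Int.ofNat 0, Int.negSucc 3],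
  [Int.negSucc 3, Int.ofNat 0, Int.ofNat 0, Int.ofNat 0, Int.ofNat 0, Int.ofNat 0, Int.ofNat 0, Int.ofNat 0, Int.ofNat 0, Int.ofNat 0, Int.ofNat 0, Int.ofNat 0, Int.ofNat 0, Int.ofNat 0, Int.ofNat 0, Int.ofNat 0, Int.ofNat 0, Int.ofNat 0, Int.ofNat 0, Int.ofNat 0, Int.ofNat 0, Int.ofNat 0, Int.ofNat 0, Int.negSucc 3],
  [Int.ofNat 4, Int.ofNat 0, Int.ofNat 0, Int.ofNat 0, Int.ofNat 0, Int.ofNat 0, Int.ofNat 0, Int.ofNat 0, Int.ofNat 0, Int.ofNat 0, Int.ofNat 0, Int.ofNat 0, Int.ofNat 0, Int.ofNat 0, Int.ofNat 0, Int.ofNat 0, Int.ofNat 0, Int.ofNat 0, Int.ofNat 0, Int.ofNat 0, Int.ofNat 0, Int.ofNat 0, Int.ofNat 0, Int.negSucc 3],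
  [Int.negSucc 3, Int.ofNat 0, Int.ofNat 0, Int.ofNat 0, Int.ofNat 0, Int.ofNat 0, Int.ofNat 0, Int.ofNat 0, Int.ofNat 0, Int.ofNat 0, Int.ofNat 0, Int.ofNat 0, Int.ofNat 0, Int.ofNat 0, Int.ofNat 0, Int.ofNat 0, Int.ofNat 0, Int.ofNat 0, Int.ofNat 0, Int.ofNat 0, Int.ofNat 0, Int.ofNat 0, Int.ofNat 0, Int.negSucc 3],
  [Int.negSucc 3, Int.ofNat 0, Int.ofNat 0, Int.ofNat 0, Int.ofNat 0, Int.ofNat 0, Int.ofNat 0, Int.ofNat 0, Int.ofNat 0, Int.ofNat 0, Int.ofNat 0, Int.ofNat 0, Int.ofNat 0, Int.ofNat 0, Int.ofNat 0, Int.ofNat 0, Int.ofNat 0, Int.ofNat 0, Int.ofNat 0, Int.ofNat 0, Int.ofNat 0, Int.ofNat 0, Int.ofNat 0, Int.negSucc 3],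
  [Int.ofNat 4, Int.ofNat 0, Int.ofNat 0, Int.ofNat 0, Int.ofNat 0, Int.ofNat 0, Int.ofNat 0, Int.ofNat 0, Int.ofNat 0, Int.ofNat 0, Int.ofNat 0, Int.ofNat 0, Int.ofNat 0, Int.ofNat 0, Int.ofNat 0, Int.ofNat 0, Int.ofNat 0, Int.ofNat 0, Int.ofNat 0, Int.ofNat 0, Int.ofNat 0, Int.ofNat 0, Int.ofNat 0, Int.negSucc 3],
  [Int.ofNat 0, Int.ofNat 4, Int.ofNat 0, Int.ofNat 0, Int.ofNat 0, Int.ofNat 0, Int.ofNat 0, Int.ofNat 0, Int.ofNat 0, Int.ofNat 0, Int.ofNat 0, Int.ofNat 0, Int.ofNat 0, Int.ofNat 0, Int.ofNat 0, Int.ofNat 0, Int.ofNat 0, Int.ofNat 0, Int.ofNat 0, Int.ofNat 0, Int.ofNat 0, Int.ofNat 0, Int.ofNat 0, Int.negSucc 3],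
  [Int.ofNat 0, Int.negSucc 3, Int.ofNat 0, Int.ofNat 0, Int.ofNat 0, Int.ofNat 0, Int.ofNat 0, Int.ofNat 0, Int.ofNat 0, Int.ofNat 0, Int.ofNat 0, Int.ofNat 0, Int.ofNat 0, Int.ofNat 0, Int.ofNat 0, Int.ofNat 0, Int.ofNat 0, Int.ofNat 0, Int.ofNat 0, Int.ofNat 0, Int.ofNat 0, Int.ofNat 0, Int.ofNat 0, Int.ofNat 4],
  [Int.ofNat 0, Int.ofNat 0, Int.ofNat 0, Int.ofNat 0, Int.ofNat 0, Int.ofNat 0, Int.ofNat 0, Int.ofNat 0, Int.ofNat 0, Int.ofNat 0, Int.ofNat 0, Int.ofNat 0, Int.ofNat 0, Int.ofNat 0, Int.ofNat 0, Int.ofNat 0, Int.ofNat 0, Int.ofNat 0, Int.ofNat 0, Int.ofNat 0, Int.ofNat 0, Int.negSucc 3, Int.ofNat 0, Int.ofNat 4],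
  [Int.ofNat 2, Int.ofNat 2, Int.ofNat 2, Int.ofNat 0, Int.ofNat 0, Int.ofNat 0, Int.ofNat 2, Int.ofNat 2, Int.ofNat 0, Int.ofNat 0, Int.ofNat 0, Int.ofNat 0, Int.ofNat 0, Int.ofNat 0, Int.ofNat 0, Int.ofNat 0, Int.ofNat 0, Int.ofNat 0, Int.ofNat 0, Int.ofNat 2, Int.ofNat 0, Int.negSucc 1, Int.ofNat 0, Int.negSucc 1],
  [Int.ofNat 2, Int.ofNat 2, Int.ofNat 0, Int.ofNat 0, Int.ofNat 0, Int.ofNat 2, Int.ofNat 2, Int.ofNat 0, Int.ofNat 0, Int.ofNat 0, Int.ofNat 0, Int.ofNat 0, Int.ofNat 0, Int.ofNat 0, Int.ofNat 0, Int.ofNat 0, Int.ofNat 0, Int.ofNat 0, Int.ofNat 2, Int.ofNat 0, Int.negSucc 1, Int.ofNat 0, Int.ofNat 2, Int.negSucc 1],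
  [Int.negSucc 0, Int.negSucc 0, Int.ofNat 1, Int.negSucc 0, Int.negSucc 0, Int.ofNat 1, Int.ofNat 1, Int.negSucc 0, Int.negSucc 0, Int.ofNat 1, Int.ofNat 1, Int.negSucc 0, Int.negSucc 0, Int.negSucc 0, Int.negSucc 0, Int.ofNat 1, Int.negSucc 0, Int.negSucc 0, Int.ofNat 1, Int.negSucc 0, Int.negSucc 0, Int.negSucc 0, Int.ofNat 1, Int.ofNat 3],
  [Int.negSucc 0, Int.negSucc 0, Int.negSucc 0, Int.negSucc 0, Int.negSucc 0, Int.negSucc 0, Int.negSucc 0, Int.negSucc 0, Int.negSucc 0, Int.negSucc 0, Int.negSucc 0, Int.negSucc 0, Int.negSucc 0, Int.negSucc 0, Int.negSucc 0, Int.negSucc 0, Int.negSucc 0, Int.negSucc 0, Int.negSucc 0, Int.negSucc 0, Int.negSucc 0, Int.negSucc 0, Int.negSucc 0, Int.ofNat 3],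
  [Int.negSucc 0, Int.negSucc 0, Int.negSucc 0, Int.negSucc 0, Int.negSucc 0, Int.negSucc 0, Int.negSucc 0, Int.negSucc 0, Int.negSucc 0, Int.negSucc 0, Int.negSucc 0, Int.negSucc 0, Int.negSucc 0, Int.negSucc 0, Int.negSucc 0, Int.negSucc 0, Int.negSucc 0, Int.negSucc 0, Int.negSucc 0, Int.negSucc 0, Int.negSucc 0, Int.negSucc 0, Int.negSucc 0, Int.ofNat 3],
  [Int.ofNat 3, Int.negSucc 0, Int.negSucc 0, Int.negSucc 0, Int.negSucc 0, Int.negSucc 0, Int.negSucc 0, Int.negSucc 0, Int.negSucc 0, Int.negSucc 0, Int.negSucc 0, Int.negSucc 0, Int.negSucc 0, Int.negSucc 0, Int.negSucc 0, Int.negSucc 0, Int.negSucc 0, Int.negSucc 0, Int.negSucc 0, Int.negSucc 0, Int.negSucc 0, Int.negSucc 0, Int.negSucc 0, Int.negSucc 0],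
  [Int.negSucc 2, Int.negSucc 0, Int.ofNat 1, Int.negSucc 0, Int.negSucc 0, Int.negSucc 0, Int.negSucc 0, Int.ofNat 1, Int.negSucc 0, Int.ofNat 1, Int.ofNat 1, Int.ofNat 1, Int.negSucc 0, Int.negSucc 0, Int.negSucc 0, Int.negSucc 0, Int.negSucc 0, Int.negSucc 0, Int.ofNat 1, Int.negSucc 0, Int.negSucc 0, Int.ofNat 1, Int.negSucc 0, Int.negSucc 0],
  [Int.negSucc 0, Int.negSucc 2, Int.negSucc 0, Int.ofNat 1, Int.negSucc 0, Int.negSucc 0, Int.negSucc 0, Int.negSucc 0, Int.ofNat 1, Int.negSucc 0, Int.ofNat 1, Int.ofNat 1, Int.ofNat 1, Int.negSucc 0, Int.negSucc 0, Int.negSucc 0, Int.negSucc 0, Int.negSucc 0, Int.negSucc 0, Int.ofNat 1, Int.negSucc 0, Int.negSucc 0, Int.ofNat 1, Int.negSucc 0],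
  [Int.negSucc 1, Int.ofNat 0, Int.negSucc 1, Int.ofNat 2, Int.ofNat 0, Int.ofNat 0, Int.ofNat 0, Int.ofNat 0, Int.ofNat 0, Int.ofNat 0, Int.ofNat 2, Int.ofNat 0, Int.ofNat 0, Int.ofNat 0, Int.ofNat 0, Int.ofNat 0, Int.ofNat 0, Int.ofNat 0, Int.negSucc 1, Int.ofNat 2, Int.ofNat 0, Int.ofNat 0, Int.ofNat 2, Int.negSucc 1],
  [Int.ofNat 2, Int.ofNat 0, Int.ofNat 0, Int.ofNat 0, Int.ofNat 0, Int.ofNat 0, Int.ofNat 0, Int.ofNat 2, Int.ofNat 0, Int.ofNat 0, Int.ofNat 0, Int.ofNat 0, Int.ofNat 0, Int.ofNat 0, Int.ofNat 0, Int.negSucc 1, Int.ofNat 2, Int.ofNat 0, Int.ofNat 0, Int.ofNat 2, Int.negSucc 1, Int.ofNat 0, Int.negSucc 1, Int.negSucc 1],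
  [Int.negSucc 1, Int.ofNat 0, Int.ofNat 0, Int.ofNat 0, Int.ofNat 0, Int.ofNat 0, Int.negSucc 1, Int.ofNat 0, Int.ofNat 0, Int.ofNat 2, Int.ofNat 2, Int.ofNat 0, Int.ofNat 0, Int.ofNat 0, Int.ofNat 0, Int.ofNat 0, Int.ofNat 2, Int.ofNat 0, Int.ofNat 0, Int.ofNat 0, Int.ofNat 0, Int.negSucc 1, Int.negSucc 1, Int.ofNat 2],
  [Int.negSucc 1, Int.negSucc 1, Int.ofNat 0, Int.ofNat 0, Int.ofNat 0, Int.ofNat 0, Int.ofNat 0, Int.ofNat 2, Int.ofNat 0, Int.ofNat 0, Int.ofNat 0, Int.ofNat 0, Int.ofNat 2, Int.ofNat 2, Int.negSucc 1, Int.ofNat 0, Int.ofNat 0, Int.ofNat 0, Int.ofNat 0, Int.ofNat 0, Int.negSucc 1, Int.ofNat 0, Int.ofNat 0, Int.ofNat 2],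
  [Int.ofNat 1, Int.ofNat 1, Int.negSucc 0, Int.ofNat 1, Int.negSucc 0, Int.ofNat 1, Int.negSucc 0, Int.ofNat 1, Int.negSucc 0, Int.ofNat 1, Int.ofNat 1, Int.negSucc 0, Int.ofNat 1, Int.ofNat 1, Int.negSucc 0, Int.ofNat 1, Int.negSucc 0, Int.ofNat 1, Int.negSucc 0, Int.negSucc 0, Int.negSucc 0, Int.negSucc 0, Int.negSucc 0, Int.negSucc 2],
  [Int.ofNat 1, Int.ofNat 1, Int.ofNat 1, Int.ofNat 1, Int.negSucc 0, Int.negSucc 0, Int.ofNat 1, Int.ofNat 1, Int.negSucc 0, Int.negSucc 0, Int.negSucc 0, Int.negSucc 0, Int.ofNat 1, Int.ofNat 1, Int.negSucc 0, Int.negSucc 0, Int.negSucc 0, Int.ofNat 1, Int.ofNat 1, Int.negSucc 0, Int.negSucc 0, Int.negSucc 0, Int.ofNat 1, Int.negSucc 2],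
  [Int.ofNat 1, Int.negSucc 0, Int.negSucc 0, Int.ofNat 1, Int.ofNat 1, Int.negSucc 0, Int.negSucc 0, Int.ofNat 1, Int.ofNat 1, Int.negSucc 0, Int.negSucc 0, Int.ofNat 1, Int.negSucc 0, Int.negSucc 0, Int.negSucc 0, Int.ofNat 1, Int.negSucc 0, Int.ofNat 1, Int.negSucc 0, Int.negSucc 0, Int.ofNat 1, Int.ofNat 1, Int.ofNat 1, Int.negSucc 2],
  [Int.ofNat 1, Int.negSucc 0, Int.ofNat 1, Int.ofNat 1, Int.ofNat 1, Int.ofNat 1, Int.ofNat 1, Int.ofNat 1, Int.ofNat 1, Int.ofNat 1, Int.ofNat 1, Int.ofNat 1, Int.negSucc 0, Int.negSucc 0, Int.negSucc 0, Int.negSucc 0, Int.negSucc 0, Int.ofNat 1, Int.ofNat 1, Int.negSucc 0, Int.ofNat 1, Int.ofNat 1, Int.negSucc 0, Int.negSucc 2],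
  [Int.negSucc 1, Int.ofNat 0, Int.negSucc 1, Int.ofNat 0, Int.ofNat 2, Int.ofNat 0, Int.ofNat 0, Int.ofNat 0, Int.ofNat 0, Int.ofNat 0, Int.ofNat 0, Int.ofNat 0, Int.negSucc 1, Int.ofNat 0, Int.negSucc 1, Int.negSucc 1, Int.ofNat 0, Int.ofNat 0, Int.ofNat 0, Int.negSucc 1, Int.ofNat 0, Int.ofNat 0, Int.ofNat 0, Int.ofNat 2],
  [Int.negSucc 1, Int.ofNat 0, Int.ofNat 0, Int.ofNat 0, Int.negSucc 1, Int.ofNat 0, Int.ofNat 0, Int.ofNat 0, Int.ofNat 0, Int.negSucc 1, Int.ofNat 0, Int.negSucc 1, Int.ofNat 0, Int.ofNat 0, Int.ofNat 0, Int.negSucc 1, Int.ofNat 0, Int.ofNat 0, Int.ofNat 2, Int.ofNat 0, Int.ofNat 0, Int.ofNat 0, Int.negSucc 1, Int.ofNat 2],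
  [Int.ofNat 2, Int.ofNat 0, Int.ofNat 0, Int.ofNat 0, Int.ofNat 0, Int.ofNat 0, Int.ofNat 0, Int.ofNat 0, Int.ofNat 0, Int.ofNat 0, Int.ofNat 2, Int.negSucc 1, Int.ofNat 0, Int.ofNat 2, Int.ofNat 0, Int.ofNat 0, Int.ofNat 2, Int.ofNat 0, Int.ofNat 2, Int.ofNat 0, Int.ofNat 2, Int.ofNat 0, Int.ofNat 0, Int.negSucc 1],
  [Int.ofNat 2, Int.ofNat 0, Int.ofNat 0, Int.ofNat 2, Int.ofNat 0, Int.ofNat 0, Int.ofNat 0, Int.ofNat 0, Int.ofNat 0, Int.ofNat 0, Int.ofNat 0, Int.ofNat 0, Int.ofNat 0, Int.ofNat 2, Int.negSucc 1, Int.ofNat 0, Int.ofNat 2, Int.ofNat 0, Int.ofNat 0, Int.ofNat 2, Int.ofNat 0, Int.ofNat 2, Int.ofNat 0, Int.negSucc 1],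
  [Int.negSucc 1, Int.ofNat 0, Int.ofNat 0, Int.ofNat 2, Int.negSucc 1, Int.ofNat 0, Int.negSucc 1, Int.negSucc 1, Int.ofNat 0, Int.ofNat 0, Int.ofNat 0, Int.ofNat 0, Int.ofNat 0, Int.ofNat 0, Int.negSucc 1, Int.ofNat 0, Int.ofNat 0, Int.ofNat 0, Int.ofNat 0, Int.ofNat 0, Int.ofNat 0, Int.ofNat 0, Int.negSucc 1, Int.ofNat 2],
  [Int.ofNat 0, Int.ofNat 0, Int.ofNat 2, Int.negSucc 1, Int.ofNat 0, Int.negSucc 1, Int.negSucc 1, Int.ofNat 0, Int.ofNat 0, Int.ofNat 0, Int.ofNat 0, Int.ofNat 0, Int.ofNat 0, Int.negSucc 1, Int.ofNat 0, Int.ofNat 0, Int.ofNat 0, Int.ofNat 0, Int.ofNat 0, Int.ofNat 0, Int.ofNat 0, Int.negSucc 1, Int.negSucc 1, Int.ofNat 2],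
  [Int.ofNat 0, Int.ofNat 0, Int.negSucc 1, Int.negSucc 1, Int.ofNat 0, Int.negSucc 1, Int.negSucc 1, Int.ofNat 0, Int.ofNat 0, Int.ofNat 0, Int.ofNat 0, Int.ofNat 0, Int.ofNat 0, Int.negSucc 1, Int.ofNat 0, Int.ofNat 0, Int.ofNat 0, Int.ofNat 0, Int.ofNat 0, Int.ofNat 0, Int.ofNat 0, Int.ofNat 2, Int.negSucc 1, Int.ofNat 2],
  [Int.ofNat 0, Int.ofNat 0, Int.ofNat 2, Int.ofNat 2, Int.ofNat 0, Int.negSucc 1, Int.ofNat 2, Int.ofNat 0, Int.ofNat 0, Int.ofNat 0, Int.ofNat 0, Int.ofNat 0, Int.ofNat 0, Int.ofNat 2, Int.ofNat 0, Int.ofNat 0, Int.ofNat 0, Int.ofNat 0, Int.ofNat 0, Int.ofNat 0, Int.ofNat 0, Int.ofNat 2, Int.negSucc 1, Int.ofNat 2],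
  [Int.ofNat 0, Int.ofNat 2, Int.ofNat 0, Int.ofNat 2, Int.ofNat 0, Int.ofNat 0, Int.ofNat 0, Int.ofNat 0, Int.ofNat 0, Int.ofNat 0, Int.ofNat 2, Int.ofNat 0, Int.ofNat 2, Int.ofNat 0, Int.ofNat 0, Int.ofNat 0, Int.ofNat 0, Int.negSucc 1, Int.ofNat 2, Int.ofNat 0, Int.negSucc 1, Int.ofNat 0, Int.ofNat 0, Int.ofNat 2],
  [Int.ofNat 0, Int.ofNat 2, Int.ofNat 0, Int.ofNat 2, Int.ofNat 0, Int.ofNat 0, Int.ofNat 0, Int.ofNat 0, Int.ofNat 0, Int.ofNat 0, Int.negSucc 1, Int.ofNat 0, Int.ofNat 2, Int.ofNat 0, Int.ofNat 0, Int.ofNat 0, Int.ofNat 0, Int.negSucc 1, Int.negSucc 1, Int.ofNat 0, Int.negSucc 1, Int.ofNat 0, Int.ofNat 0, Int.ofNat 2],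
  [Int.ofNat 0, Int.ofNat 0, Int.ofNat 2, Int.ofNat 0, Int.ofNat 2, Int.ofNat 0, Int.ofNat 0, Int.ofNat 0, Int.ofNat 0, Int.ofNat 0, Int.ofNat 0, Int.negSucc 1, Int.ofNat 0, Int.ofNat 2, Int.ofNat 0, Int.ofNat 0, Int.ofNat 0, Int.ofNat 0, Int.negSucc 1, Int.negSucc 1, Int.ofNat 0, Int.negSucc 1, Int.ofNat 0, Int.ofNat 2],
  [Int.ofNat 2, Int.ofNat 2, Int.ofNat 0, Int.ofNat 0, Int.ofNat 0, Int.ofNat 0, Int.ofNat 2, Int.ofNat 2, Int.ofNat 2, Int.ofNat 0, Int.ofNat 0, Int.ofNat 0, Int.ofNat 2, Int.ofNat 0, Int.ofNat 0, Int.ofNat 0, Int.negSucc 1, Int.ofNat 0, Int.ofNat 0, Int.ofNat 0, Int.ofNat 0, Int.ofNat 0, Int.negSucc 1, Int.ofNat 0],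
  [Int.ofNat 0, Int.ofNat 0, Int.ofNat 0, Int.ofNat 2, Int.ofNat 2, Int.ofNat 2, Int.ofNat 0, Int.ofNat 0, Int.ofNat 0, Int.ofNat 2, Int.ofNat 0, Int.ofNat 0, Int.ofNat 0, Int.negSucc 1, Int.ofNat 0, Int.ofNat 0, Int.ofNat 0, Int.ofNat 0, Int.ofNat 0, Int.negSucc 1, Int.ofNat 2, Int.ofNat 2, Int.ofNat 0, Int.ofNat 0],
  [Int.ofNat 0, Int.ofNat 0, Int.ofNat 0, Int.ofNat 0, Int.ofNat 2, Int.ofNat 0, Int.ofNat 0, Int.ofNat 0, Int.ofNat 0, Int.ofNat 0, Int.negSucc 1, Int.ofNat 0, Int.ofNat 0, Int.negSucc 1, Int.negSucc 1, Int.negSucc 1, Int.ofNat 0, Int.negSucc 1, Int.ofNat 0, Int.negSucc 1, Int.ofNat 0, Int.ofNat 2, Int.ofNat 0, Int.ofNat 0],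
  [Int.ofNat 0, Int.ofNat 0, Int.ofNat 2, Int.ofNat 0, Int.ofNat 0, Int.ofNat 0, Int.ofNat 0, Int.negSucc 1, Int.ofNat 0, Int.negSucc 1, Int.ofNat 0, Int.negSucc 1, Int.ofNat 0, Int.ofNat 0, Int.ofNat 0, Int.negSucc 1, Int.ofNat 0, Int.negSucc 1, Int.ofNat 0, Int.ofNat 0, Int.ofNat 2, Int.ofNat 0, Int.negSucc 1, Int.ofNat 0],
  [Int.ofNat 1, Int.ofNat 1, Int.negSucc 0, Int.ofNat 1, Int.ofNat 1, Int.ofNat 1, Int.ofNat 1, Int.negSucc 0, Int.ofNat 1, Int.negSucc 0, Int.ofNat 1, Int.negSucc 0, Int.ofNat 1, Int.ofNat 1, Int.ofNat 1, Int.negSucc 0, Int.ofNat 1, Int.negSucc 0, Int.ofNat 1, Int.ofNat 1, Int.ofNat 3, Int.ofNat 1, Int.negSucc 0, Int.ofNat 1],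
  [Int.ofNat 1, Int.ofNat 1, Int.ofNat 1, Int.ofNat 1, Int.ofNat 1, Int.negSucc 0, Int.negSucc 0, Int.negSucc 0, Int.ofNat 1, Int.ofNat 1, Int.negSucc 0, Int.negSucc 0, Int.ofNat 1, Int.ofNat 1, Int.ofNat 1, Int.ofNat 1, Int.ofNat 1, Int.negSucc 0, Int.negSucc 0, Int.ofNat 1, Int.ofNat 3, Int.ofNat 1, Int.ofNat 1, Int.ofNat 1],
  [Int.negSucc 0, Int.ofNat 1, Int.negSucc 0, Int.ofNat 1, Int.ofNat 1, Int.negSucc 0, Int.ofNat 1, Int.ofNat 1, Int.negSucc 0, Int.ofNat 3, Int.ofNat 1, Int.negSucc 0, Int.ofNat 1, Int.ofNat 1, Int.negSucc 0, Int.negSucc 0, Int.ofNat 1, Int.ofNat 1, Int.ofNat 1, Int.ofNat 1, Int.ofNat 1, Int.ofNat 1, Int.ofNat 1, Int.ofNat 1],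
  [Int.ofNat 1, Int.ofNat 1, Int.negSucc 0, Int.negSucc 0, Int.ofNat 1, Int.ofNat 3, Int.ofNat 1, Int.ofNat 1, Int.ofNat 1, Int.negSucc 0, Int.ofNat 1, Int.negSucc 0, Int.ofNat 1, Int.ofNat 1, Int.ofNat 1, Int.ofNat 1, Int.ofNat 1, Int.ofNat 1, Int.negSucc 0, Int.ofNat 1, Int.negSucc 0, Int.ofNat 1, Int.ofNat 1, Int.negSucc 0],
  [Int.negSucc 0, Int.ofNat 1, Int.ofNat 1, Int.negSucc 0, Int.ofNat 1, Int.ofNat 3, Int.ofNat 1, Int.negSucc 0, Int.ofNat 1, Int.ofNat 1, Int.negSucc 0, Int.ofNat 1, Int.ofNat 1, Int.ofNat 1, Int.ofNat 1, Int.ofNat 1, Int.ofNat 1, Int.ofNat 1, Int.ofNat 1, Int.ofNat 1, Int.negSucc 0, Int.negSucc 0, Int.ofNat 1, Int.negSucc 0],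
  [Int.ofNat 1, Int.negSucc 0, Int.ofNat 1, Int.ofNat 1, Int.negSucc 0, Int.ofNat 1, Int.ofNat 3, Int.ofNat 1, Int.negSucc 0, Int.ofNat 1, Int.ofNat 1, Int.negSucc 0, Int.ofNat 1, Int.ofNat 1, Int.ofNat 1, Int.ofNat 1, Int.ofNat 1, Int.ofNat 1, Int.ofNat 1, Int.ofNat 1, Int.ofNat 1, Int.negSucc 0, Int.negSucc 0, Int.negSucc 0],
  [Int.negSucc 0, Int.ofNat 1, Int.negSucc 0, Int.negSucc 0, Int.negSucc 0, Int.negSucc 0, Int.ofNat 1, Int.negSucc 0, Int.negSucc 0, Int.negSucc 0, Int.negSucc 0, Int.negSucc 0, Int.ofNat 1, Int.ofNat 1, Int.negSucc 0, Int.negSucc 0, Int.ofNat 1, Int.negSucc 0, Int.ofNat 1, Int.negSucc 0, Int.negSucc 0, Int.negSucc 2, Int.negSucc 0, Int.ofNat 1],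
  [Int.negSucc 0, Int.negSucc 0, Int.negSucc 0, Int.ofNat 1, Int.negSucc 0, Int.negSucc 0, Int.negSucc 0, Int.negSucc 0, Int.negSucc 0, Int.ofNat 1, Int.ofNat 1, Int.negSucc 0, Int.negSucc 0, Int.ofNat 1, Int.negSucc 0, Int.ofNat 1, Int.negSucc 0, Int.negSucc 0, Int.negSucc 2, Int.negSucc 0, Int.negSucc 0, Int.ofNat 1, Int.negSucc 0, Int.ofNat 1],
  [Int.ofNat 0, Int.ofNat 0, Int.ofNat 0, Int.ofNat 2, Int.ofNat 0, Int.ofNat 0, Int.ofNat 0, Int.ofNat 0, Int.ofNat 2, Int.ofNat 0, Int.ofNat 0, Int.ofNat 2, Int.ofNat 2, Int.ofNat 2, Int.ofNat 0, Int.ofNat 0, Int.ofNat 0, Int.ofNat 0, Int.ofNat 0, Int.ofNat 0, Int.negSucc 1, Int.ofNat 2, Int.ofNat 0, Int.negSucc 1],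
  [Int.ofNat 0, Int.ofNat 0, Int.ofNat 0, Int.ofNat 2, Int.ofNat 0, Int.ofNat 0, Int.ofNat 0, Int.ofNat 0, Int.ofNat 2, Int.ofNat 2, Int.negSucc 1, Int.ofNat 0, Int.ofNat 0, Int.ofNat 0, Int.ofNat 0, Int.ofNat 0, Int.ofNat 2, Int.ofNat 0, Int.ofNat 0, Int.ofNat 2, Int.ofNat 2, Int.ofNat 0, Int.ofNat 0, Int.negSucc 1],
  [Int.negSucc 0, Int.negSucc 0, Int.negSucc 0, Int.ofNat 1, Int.negSucc 0, Int.negSucc 0, Int.negSucc 0, Int.negSucc 0, Int.ofNat 1, Int.ofNat 1, Int.negSucc 2, Int.negSucc 0, Int.negSucc 0, Int.negSucc 0, Int.negSucc 0, Int.negSucc 0, Int.ofNat 1, Int.negSucc 0, Int.negSucc 0, Int.ofNat 1, Int.ofNat 1, Int.negSucc 0, Int.negSucc 0, Int.ofNat 1],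
  [Int.negSucc 0, Int.negSucc 0, Int.ofNat 1, Int.ofNat 1, Int.negSucc 0, Int.ofNat 1, Int.ofNat 1, Int.negSucc 0, Int.ofNat 1, Int.negSucc 0, Int.ofNat 3, Int.negSucc 0, Int.negSucc 0, Int.negSucc 0, Int.negSucc 0, Int.ofNat 1, Int.ofNat 1, Int.negSucc 0, Int.ofNat 1, Int.ofNat 1, Int.ofNat 1, Int.negSucc 0, Int.ofNat 1, Int.ofNat 1],
  [Int.ofNat 1, Int.negSucc 0, Int.negSucc 0, Int.ofNat 1, Int.negSucc 0, Int.ofNat 1, Int.negSucc 0, Int.ofNat 1, Int.negSucc 0, Int.ofNat 1, Int.ofNat 1, Int.negSucc 0, Int.negSucc 0, Int.negSucc 0, Int.ofNat 1, Int.negSucc 0, Int.ofNat 1, Int.ofNat 1, Int.ofNat 3, Int.ofNat 1, Int.negSucc 0, Int.negSucc 0, Int.ofNat 1, Int.ofNat 1],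
  [Int.ofNat 1, Int.negSucc 0, Int.ofNat 1, Int.ofNat 1, Int.negSucc 0, Int.negSucc 0, Int.ofNat 1, Int.ofNat 1, Int.negSucc 0, Int.negSucc 0, Int.negSucc 0, Int.negSucc 0, Int.negSucc 0, Int.negSucc 0, Int.ofNat 1, Int.ofNat 1, Int.ofNat 1, Int.ofNat 1, Int.negSucc 2, Int.ofNat 1, Int.negSucc 0, Int.negSucc 0, Int.negSucc 0, Int.ofNat 1],
  [Int.ofNat 0, Int.ofNat 2, Int.ofNat 0, Int.ofNat 0, Int.ofNat 0, Int.negSucc 1, Int.ofNat 0, Int.ofNat 0, Int.ofNat 2, Int.ofNat 0, Int.ofNat 0, Int.ofNat 2, Int.ofNat 2, Int.ofNat 0, Int.ofNat 0, Int.ofNat 2, Int.ofNat 2, Int.ofNat 0, Int.ofNat 0, Int.ofNat 0, Int.ofNat 0, Int.negSucc 1, Int.ofNat 0, Int.ofNat 0],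
  [Int.ofNat 0, Int.ofNat 0, Int.ofNat 0, Int.ofNat 0, Int.ofNat 0, Int.negSucc 1, Int.ofNat 2, Int.negSucc 1, Int.ofNat 2, Int.ofNat 2, Int.ofNat 0, Int.ofNat 0, Int.ofNat 2, Int.ofNat 0, Int.ofNat 0, Int.ofNat 2, Int.ofNat 0, Int.ofNat 2, Int.ofNat 0, Int.ofNat 0, Int.ofNat 0, Int.ofNat 0, Int.ofNat 0, Int.ofNat 0],
  [Int.ofNat 0, Int.ofNat 0, Int.ofNat 0, Int.ofNat 0, Int.ofNat 0, Int.negSucc 1, Int.ofNat 2, Int.negSucc 1, Int.ofNat 0, Int.ofNat 0, Int.negSucc 1, Int.negSucc 1, Int.ofNat 0, Int.ofNat 0, Int.ofNat 0, Int.ofNat 0, Int.ofNat 0, Int.ofNat 2, Int.negSucc 1, Int.ofNat 0, Int.negSucc 1, Int.ofNat 0, Int.ofNat 0, Int.ofNat 0],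
  [Int.negSucc 1, Int.ofNat 0, Int.ofNat 0, Int.ofNat 0, Int.ofNat 0, Int.ofNat 0, Int.ofNat 0, Int.ofNat 0, Int.negSucc 1, Int.ofNat 2, Int.negSucc 1, Int.ofNat 0, Int.ofNat 0, Int.negSucc 1, Int.negSucc 1, Int.ofNat 0, Int.ofNat 0, Int.ofNat 0, Int.ofNat 0, Int.ofNat 0, Int.ofNat 2, Int.negSucc 1, Int.ofNat 0, Int.ofNat 0],
  [Int.ofNat 1, Int.negSucc 0, Int.negSucc 0, Int.ofNat 1, Int.ofNat 1, Int.ofNat 1, Int.ofNat 1, Int.ofNat 1, Int.negSucc 0, Int.ofNat 1, Int.negSucc 2, Int.ofNat 1, Int.ofNat 1, Int.negSucc 0, Int.negSucc 0, Int.negSucc 0, Int.ofNat 1, Int.ofNat 1, Int.ofNat 1, Int.ofNat 1, Int.ofNat 1, Int.negSucc 0, Int.ofNat 1, Int.negSucc 0],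
  [Int.negSucc 0, Int.negSucc 0, Int.ofNat 1, Int.ofNat 1, Int.ofNat 1, Int.ofNat 1, Int.ofNat 1, Int.negSucc 0, Int.ofNat 1, Int.negSucc 2, Int.ofNat 1, Int.ofNat 1, Int.negSucc 0, Int.negSucc 0, Int.negSucc 0, Int.ofNat 1, Int.ofNat 1, Int.ofNat 1, Int.ofNat 1, Int.ofNat 1, Int.negSucc 0, Int.ofNat 1, Int.ofNat 1, Int.negSucc 0],
  [Int.ofNat 1, Int.negSucc 0, Int.negSucc 0, Int.ofNat 1, Int.ofNat 1, Int.ofNat 1, Int.ofNat 1, Int.ofNat 1, Int.ofNat 1, Int.ofNat 3, Int.negSucc 0, Int.negSucc 0, Int.negSucc 0, Int.negSucc 0, Int.negSucc 0, Int.ofNat 1, Int.ofNat 1, Int.ofNat 1, Int.negSucc 0, Int.ofNat 1, Int.negSucc 0, Int.negSucc 0, Int.ofNat 1, Int.negSucc 0],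
  [Int.negSucc 0, Int.ofNat 1, Int.ofNat 1, Int.negSucc 0, Int.negSucc 0, Int.ofNat 1, Int.negSucc 0, Int.ofNat 1, Int.negSucc 0, Int.negSucc 2, Int.negSucc 0, Int.negSucc 0, Int.ofNat 1, Int.ofNat 1, Int.negSucc 0, Int.ofNat 1, Int.negSucc 0, Int.ofNat 1, Int.ofNat 1, Int.ofNat 1, Int.negSucc 0, Int.negSucc 0, Int.ofNat 1, Int.negSucc 0],
  [Int.negSucc 0, Int.ofNat 1, Int.ofNat 1, Int.negSucc 0, Int.ofNat 1, Int.negSucc 0, Int.negSucc 0, Int.negSucc 0, Int.negSucc 2, Int.negSucc 0, Int.negSucc 0, Int.negSucc 0, Int.ofNat 1, Int.negSucc 0, Int.ofNat 1, Int.ofNat 1, Int.ofNat 1, Int.ofNat 1, Int.negSucc 0, Int.ofNat 1, Int.ofNat 1, Int.ofNat 1, Int.negSucc 0, Int.negSucc 0],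
  [Int.ofNat 1, Int.ofNat 1, Int.negSucc 0, Int.negSucc 0, Int.ofNat 1, Int.negSucc 0, Int.negSucc 0, Int.ofNat 1, Int.negSucc 2, Int.ofNat 1, Int.ofNat 1, Int.ofNat 1, Int.ofNat 1, Int.negSucc 0, Int.ofNat 1, Int.ofNat 1, Int.ofNat 1, Int.ofNat 1, Int.ofNat 1, Int.ofNat 1, Int.ofNat 1, Int.negSucc 0, Int.negSucc 0, Int.negSucc 0],
  [Int.negSucc 0, Int.ofNat 1, Int.ofNat 1, Int.negSucc 0, Int.negSucc 0, Int.ofNat 1, Int.negSucc 0, Int.negSucc 0, Int.ofNat 1, Int.negSucc 2, Int.ofNat 1, Int.ofNat 1, Int.ofNat 1, Int.ofNat 1, Int.negSucc 0, Int.ofNat 1, Int.ofNat 1, Int.ofNat 1, Int.ofNat 1, Int.ofNat 1, Int.ofNat 1, Int.ofNat 1, Int.negSucc 0, Int.negSucc 0],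
  [Int.ofNat 1, Int.negSucc 0, Int.negSucc 0, Int.negSucc 0, Int.negSucc 0, Int.ofNat 1, Int.negSucc 0, Int.negSucc 0, Int.negSucc 0, Int.negSucc 2, Int.ofNat 1, Int.negSucc 0, Int.negSucc 0, Int.ofNat 1, Int.negSucc 0, Int.ofNat 1, Int.ofNat 1, Int.ofNat 1, Int.negSucc 0, Int.ofNat 1, Int.ofNat 1, Int.ofNat 1, Int.negSucc 0, Int.ofNat 1],
  [Int.negSucc 0, Int.negSucc 0, Int.ofNat 1, Int.negSucc 0, Int.negSucc 0, Int.negSucc 0, Int.negSucc 2, Int.ofNat 1, Int.negSucc 0, Int.negSucc 0, Int.ofNat 1, Int.negSucc 0, Int.ofNat 1, Int.ofNat 1, Int.ofNat 1, Int.negSucc 0, Int.ofNat 1, Int.ofNat 1, Int.ofNat 1, Int.negSucc 0, Int.ofNat 1, Int.negSucc 0, Int.negSucc 0, Int.ofNat 1],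
  [Int.ofNat 1, Int.ofNat 1, Int.negSucc 0, Int.negSucc 0, Int.negSucc 0, Int.negSucc 0, Int.negSucc 0, Int.ofNat 3, Int.negSucc 0, Int.negSucc 0, Int.ofNat 1, Int.negSucc 0, Int.ofNat 1, Int.ofNat 1, Int.ofNat 1, Int.negSucc 0, Int.ofNat 1, Int.ofNat 1, Int.ofNat 1, Int.ofNat 1, Int.ofNat 1, Int.ofNat 1, Int.negSucc 0, Int.negSucc 0],
  [Int.ofNat 1, Int.negSucc 0, Int.negSucc 0, Int.negSucc 0, Int.ofNat 1, Int.ofNat 3, Int.negSucc 0, Int.ofNat 1, Int.ofNat 1, Int.ofNat 1, Int.ofNat 1, Int.ofNat 1, Int.negSucc 0, Int.ofNat 1, Int.negSucc 0, Int.negSucc 0, Int.negSucc 0, Int.ofNat 1, Int.ofNat 1, Int.negSucc 0, Int.ofNat 1, Int.negSucc 0, Int.ofNat 1, Int.negSucc 0],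
  [Int.negSucc 1, Int.ofNat 0, Int.ofNat 0, Int.negSucc 1, Int.ofNat 0, Int.ofNat 2, Int.ofNat 0, Int.ofNat 2, Int.ofNat 0, Int.ofNat 0, Int.ofNat 0, Int.ofNat 0, Int.negSucc 1, Int.ofNat 0, Int.negSucc 1, Int.negSucc 1, Int.negSucc 1, Int.ofNat 0, Int.ofNat 0, Int.ofNat 0, Int.ofNat 0, Int.ofNat 0, Int.ofNat 0, Int.ofNat 0],
  [Int.negSucc 1, Int.ofNat 0, Int.ofNat 0, Int.negSucc 1, Int.ofNat 0, Int.negSucc 1, Int.ofNat 0, Int.ofNat 2, Int.ofNat 0, Int.ofNat 0, Int.ofNat 0, Int.ofNat 0, Int.negSucc 1, Int.ofNat 0, Int.negSucc 1, Int.ofNat 2, Int.negSucc 1, Int.ofNat 0, Int.ofNat 0, Int.ofNat 0, Int.ofNat 0, Int.ofNat 0, Int.ofNat 0, Int.ofNat 0],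
  [Int.ofNat 0, Int.negSucc 1, Int.ofNat 0, Int.ofNat 0, Int.negSucc 1, Int.ofNat 0, Int.ofNat 0, Int.negSucc 1, Int.negSucc 1, Int.ofNat 0, Int.ofNat 0, Int.ofNat 2, Int.ofNat 2, Int.ofNat 0, Int.ofNat 0, Int.ofNat 0, Int.ofNat 0, Int.negSucc 1, Int.ofNat 0, Int.ofNat 0, Int.negSucc 1, Int.ofNat 0, Int.ofNat 0, Int.ofNat 0],
  [Int.ofNat 0, Int.ofNat 0, Int.ofNat 2, Int.ofNat 0, Int.negSucc 1, Int.ofNat 0, Int.ofNat 0, Int.ofNat 0, Int.negSucc 1, Int.ofNat 0, Int.ofNat 0, Int.ofNat 0, Int.ofNat 0, Int.negSucc 1, Int.ofNat 0, Int.ofNat 0, Int.ofNat 0, Int.negSucc 1, Int.ofNat 0, Int.ofNat 0, Int.negSucc 1, Int.ofNat 2, Int.negSucc 1, Int.ofNat 0],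
  [Int.ofNat 0, Int.ofNat 0, Int.negSucc 1, Int.ofNat 0, Int.negSucc 1, Int.ofNat 0, Int.ofNat 0, Int.ofNat 0, Int.negSucc 1, Int.ofNat 0, Int.ofNat 0, Int.ofNat 0, Int.ofNat 0, Int.negSucc 1, Int.ofNat 0, Int.ofNat 0, Int.ofNat 0, Int.negSucc 1, Int.ofNat 0, Int.ofNat 0, Int.negSucc 1, Int.negSucc 1, Int.negSucc 1, Int.ofNat 0],
  [Int.negSucc 1, Int.ofNat 0, Int.ofNat 0, Int.negSucc 1, Int.ofNat 0, Int.negSucc 1, Int.ofNat 0, Int.ofNat 0, Int.ofNat 0, Int.negSucc 1, Int.ofNat 0, Int.ofNat 0, Int.ofNat 0, Int.ofNat 0, Int.negSucc 1, Int.ofNat 0, Int.ofNat 0, Int.ofNat 0, Int.negSucc 1, Int.ofNat 0, Int.ofNat 0, Int.negSucc 1, Int.negSucc 1, Int.ofNat 0],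
  [Int.ofNat 1, Int.negSucc 0, Int.negSucc 0, Int.ofNat 1, Int.ofNat 1, Int.ofNat 1, Int.ofNat 1, Int.ofNat 1, Int.ofNat 1, Int.negSucc 0, Int.ofNat 1, Int.ofNat 1, Int.ofNat 1, Int.ofNat 1, Int.ofNat 1, Int.ofNat 1, Int.ofNat 1, Int.ofNat 3, Int.negSucc 0, Int.ofNat 1, Int.ofNat 1, Int.negSucc 0, Int.negSucc 0, Int.negSucc 0],
  [Int.ofNat 1, Int.ofNat 1, Int.ofNat 1, Int.ofNat 1, Int.ofNat 1, Int.ofNat 1, Int.negSucc 0, Int.ofNat 1, Int.ofNat 1, Int.ofNat 1, Int.ofNat 1, Int.ofNat 1, Int.ofNat 1, Int.ofNat 1, Int.ofNat 3, Int.negSucc 0, Int.ofNat 1, Int.ofNat 1, Int.negSucc 0, Int.negSucc 0, Int.ofNat 1, Int.negSucc 0, Int.negSucc 0, Int.negSucc 0],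
  [Int.ofNat 0, Int.ofNat 0, Int.ofNat 0, Int.negSucc 1, Int.ofNat 0, Int.negSucc 1, Int.ofNat 0, Int.ofNat 2, Int.ofNat 0, Int.ofNat 0, Int.ofNat 0, Int.ofNat 0, Int.ofNat 0, Int.ofNat 0, Int.ofNat 0, Int.negSucc 1, Int.ofNat 0, Int.negSucc 1, Int.negSucc 1, Int.ofNat 0, Int.ofNat 0, Int.ofNat 0, Int.negSucc 1, Int.ofNat 2],
  [Int.ofNat 0, Int.ofNat 0, Int.ofNat 0, Int.negSucc 1, Int.negSucc 1, Int.ofNat 2, Int.ofNat 0, Int.ofNat 0, Int.ofNat 0, Int.ofNat 0, Int.ofNat 0, Int.negSucc 1, Int.ofNat 0, Int.ofNat 0, Int.negSucc 1, Int.negSucc 1, Int.ofNat 0, Int.ofNat 0, Int.ofNat 0, Int.ofNat 0, Int.ofNat 0, Int.negSucc 1, Int.ofNat 0, Int.ofNat 2],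
  [Int.ofNat 1, Int.ofNat 1, Int.ofNat 1, Int.negSucc 0, Int.negSucc 0, Int.ofNat 3, Int.ofNat 1, Int.ofNat 1, Int.ofNat 1, Int.ofNat 1, Int.ofNat 1, Int.negSucc 0, Int.ofNat 1, Int.ofNat 1, Int.negSucc 0, Int.negSucc 0, Int.ofNat 1, Int.ofNat 1, Int.ofNat 1, Int.ofNat 1, Int.ofNat 1, Int.negSucc 0, Int.ofNat 1, Int.negSucc 0],
  [Int.ofNat 1, Int.ofNat 1, Int.negSucc 0, Int.negSucc 0, Int.negSucc 0, Int.negSucc 2, Int.negSucc 0, Int.ofNat 1, Int.ofNat 1, Int.negSucc 0, Int.negSucc 0, Int.negSucc 0, Int.ofNat 1, Int.ofNat 1, Int.negSucc 0, Int.ofNat 1, Int.ofNat 1, Int.ofNat 1, Int.negSucc 0, Int.ofNat 1, Int.ofNat 1, Int.negSucc 0, Int.negSucc 0, Int.negSucc 0],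
  [Int.negSucc 0, Int.negSucc 0, Int.negSucc 0, Int.negSucc 0, Int.ofNat 1, Int.ofNat 1, Int.negSucc 0, Int.negSucc 0, Int.ofNat 1, Int.ofNat 1, Int.negSucc 2, Int.ofNat 1, Int.negSucc 0, Int.negSucc 0, Int.ofNat 1, Int.ofNat 1, Int.ofNat 1, Int.negSucc 0, Int.negSucc 0, Int.ofNat 1, Int.ofNat 1, Int.ofNat 1, Int.negSucc 0, Int.negSucc 0],
  [Int.negSucc 0, Int.negSucc 0, Int.ofNat 1, Int.negSucc 0, Int.ofNat 1, Int.negSucc 0, Int.ofNat 1, Int.negSucc 0, Int.ofNat 1, Int.negSucc 0, Int.ofNat 3, Int.ofNat 1, Int.negSucc 0, Int.negSucc 0, Int.ofNat 1, Int.negSucc 0, Int.ofNat 1, Int.negSucc 0, Int.ofNat 1, Int.ofNat 1, Int.ofNat 1, Int.ofNat 1, Int.ofNat 1, Int.negSucc 0],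
  [Int.ofNat 0, Int.ofNat 0, Int.negSucc 1, Int.ofNat 0, Int.ofNat 0, Int.ofNat 0, Int.ofNat 0, Int.negSucc 1, Int.ofNat 0, Int.negSucc 1, Int.ofNat 2, Int.ofNat 0, Int.negSucc 1, Int.negSucc 1, Int.ofNat 2, Int.negSucc 1, Int.ofNat 0, Int.ofNat 0, Int.ofNat 0, Int.ofNat 0, Int.ofNat 0, Int.ofNat 0, Int.ofNat 0, Int.ofNat 0],
  [Int.ofNat 0, Int.ofNat 0, Int.ofNat 0, Int.ofNat 0, Int.negSucc 1, Int.ofNat 0, Int.ofNat 0, Int.ofNat 0, Int.ofNat 0, Int.negSucc 1, Int.negSucc 1, Int.ofNat 0, Int.ofNat 0, Int.negSucc 1, Int.ofNat 0, Int.negSucc 1, Int.negSucc 1, Int.ofNat 0, Int.ofNat 0, Int.ofNat 0, Int.ofNat 2, Int.ofNat 0, Int.ofNat 2, Int.ofNat 0],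
  [Int.ofNat 0, Int.ofNat 0, Int.ofNat 0, Int.ofNat 0, Int.ofNat 0, Int.ofNat 0, Int.ofNat 0, Int.ofNat 0, Int.ofNat 0, Int.ofNat 0, Int.ofNat 0, Int.ofNat 0, Int.ofNat 0, Int.ofNat 0, Int.ofNat 0, Int.ofNat 0, Int.ofNat 0, Int.ofNat 0, Int.ofNat 0, Int.ofNat 0, Int.ofNat 4, Int.ofNat 0, Int.ofNat 4, Int.ofNat 0],
  [Int.ofNat 4, Int.ofNat 0, Int.ofNat 4, Int.ofNat 0, Int.ofNat 0, Int.ofNat 0, Int.ofNat 0, Int.ofNat 0, Int.ofNat 0, Int.ofNat 0, Int.ofNat 0, Int.ofNat 0, Int.ofNat 0, Int.ofNat 0, Int.ofNat 0, Int.ofNat 0, Int.ofNat 0, Int.ofNat 0, Int.ofNat 0, Int.ofNat 0, Int.ofNat 0, Int.ofNat 0, Int.ofNat 0, Int.ofNat 0],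
  [Int.ofNat 0, Int.ofNat 4, Int.ofNat 0, Int.ofNat 0, Int.ofNat 0, Int.ofNat 0, Int.ofNat 0, Int.ofNat 0, Int.ofNat 0, Int.ofNat 0, Int.ofNat 0, Int.ofNat 0, Int.ofNat 0, Int.ofNat 0, Int.ofNat 0, Int.ofNat 0, Int.ofNat 0, Int.ofNat 0, Int.ofNat 0, Int.ofNat 0, Int.ofNat 0, Int.ofNat 0, Int.ofNat 0, Int.ofNat 4],
  [Int.ofNat 4, Int.ofNat 0, Int.ofNat 0, Int.ofNat 0, Int.ofNat 0, Int.ofNat 0, Int.ofNat 0, Int.ofNat 0, Int.ofNat 0, Int.ofNat 0, Int.ofNat 0, Int.ofNat 0, Int.ofNat 0, Int.ofNat 0, Int.ofNat 0, Int.ofNat 0, Int.ofNat 0, Int.ofNat 0, Int.ofNat 0, Int.ofNat 0, Int.ofNat 0, Int.ofNat 0, Int.ofNat 0, Int.ofNat 4],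
  [Int.negSucc 3, Int.ofNat 0, Int.ofNat 0, Int.ofNat 0, Int.ofNat 0, Int.ofNat 0, Int.ofNat 0, Int.ofNat 0, Int.ofNat 0, Int.ofNat 0, Int.ofNat 0, Int.ofNat 0, Int.ofNat 0, Int.ofNat 0, Int.ofNat 0, Int.ofNat 0, Int.ofNat 0, Int.ofNat 0, Int.ofNat 0, Int.ofNat 0, Int.ofNat 0, Int.ofNat 0, Int.ofNat 0, Int.ofNat 4],
  [Int.ofNat 4, Int.ofNat 0, Int.ofNat 0, Int.ofNat 0, Int.ofNat 0, Int.ofNat 0, Int.ofNat 0, Int.ofNat 0, Int.ofNat 0, Int.ofNat 0, Int.ofNat 0, Int.ofNat 0, Int.ofNat 0, Int.ofNat 0, Int.ofNat 0, Int.ofNat 0, Int.ofNat 0, Int.ofNat 0, Int.ofNat 0, Int.ofNat 0, Int.ofNat 0, Int.ofNat 0, Int.ofNat 0, Int.ofNat 4],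
  [Int.ofNat 4, Int.ofNat 0, Int.ofNat 0, Int.ofNat 0, Int.ofNat 0, Int.ofNat 0, Int.ofNat 0, Int.ofNat 0, Int.ofNat 0, Int.ofNat 0, Int.ofNat 0, Int.ofNat 0, Int.ofNat 0, Int.ofNat 0, Int.ofNat 0, Int.ofNat 0, Int.ofNat 0, Int.ofNat 0, Int.ofNat 0, Int.ofNat 0, Int.ofNat 0, Int.ofNat 0, Int.ofNat 0, Int.ofNat 4],
  [Int.negSucc 3, Int.ofNat 0, Int.ofNat 0, Int.ofNat 0, Int.ofNat 0, Int.ofNat 0, Int.ofNat 0, Int.ofNat 0, Int.ofNat 0, Int.ofNat 0, Int.ofNat 0, Int.ofNat 0, Int.ofNat 0, Int.ofNat 0, Int.ofNat 0, Int.ofNat 0, Int.ofNat 0, Int.ofNat 0, Int.ofNat 0, Int.ofNat 0, Int.ofNat 0, Int.ofNat 0, Int.ofNat 0, Int.ofNat 4],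
  [Int.ofNat 0, Int.negSucc 3, Int.ofNat 0, Int.ofNat 0, Int.ofNat 0, Int.ofNat 0, Int.ofNat 0, Int.ofNat 0, Int.ofNat 0, Int.ofNat 0, Int.ofNat 0, Int.ofNat 0, Int.ofNat 0, Int.ofNat 0, Int.ofNat 0, Int.ofNat 0, Int.ofNat 0, Int.ofNat 0, Int.ofNat 0, Int.ofNat 0, Int.ofNat 0, Int.ofNat 0, Int.ofNat 0, Int.ofNat 4],
  [Int.ofNat 0, Int.ofNat 4, Int.ofNat 0, Int.ofNat 0, Int.ofNat 0, Int.ofNat 0, Int.ofNat 0, Int.ofNat 0, Int.ofNat 0, Int.ofNat 0, Int.ofNat 0, Int.ofNat 0, Int.ofNat 0, Int.ofNat 0, Int.ofNat 0, Int.ofNat 0, Int.ofNat 0, Int.ofNat 0, Int.ofNat 0, Int.ofNat 0, Int.ofNat 0, Int.ofNat 0, Int.ofNat 0, Int.negSucc 3],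
  [Int.ofNat 0, Int.ofNat 0, Int.ofNat 0, Int.ofNat 0, Int.ofNat 0, Int.ofNat 0, Int.ofNat 0, Int.ofNat 0, Int.ofNat 0, Int.ofNat 0, Int.ofNat 0, Int.ofNat 0, Int.ofNat 0, Int.ofNat 0, Int.ofNat 0, Int.ofNat 0, Int.ofNat 0, Int.ofNat 0, Int.ofNat 0, Int.ofNat 0, Int.ofNat 0, Int.ofNat 4, Int.ofNat 0, Int.negSucc 3],
  [Int.negSucc 1, Int.negSucc 1, Int.negSucc 1, Int.ofNat 0, Int.ofNat 0, Int.ofNat 0, Int.negSucc 1, Int.negSucc 1, Int.ofNat 0, Int.ofNat 0, Int.ofNat 0, Int.ofNat 0, Int.ofNat 0, Int.ofNat 0, Int.ofNat 0, Int.ofNat 0, Int.ofNat 0, Int.ofNat 0, Int.ofNat 0, Int.negSucc 1, Int.ofNat 0, Int.ofNat 2, Int.ofNat 0, Int.ofNat 2],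
  [Int.negSucc 1, Int.negSucc 1, Int.ofNat 0, Int.ofNat 0, Int.ofNat 0, Int.negSucc 1, Int.negSucc 1, Int.ofNat 0, Int.ofNat 0, Int.ofNat 0, Int.ofNat 0, Int.ofNat 0, Int.ofNat 0, Int.ofNat 0, Int.ofNat 0, Int.ofNat 0, Int.ofNat 0, Int.ofNat 0, Int.negSucc 1, Int.ofNat 0, Int.ofNat 2, Int.ofNat 0, Int.negSucc 1, Int.ofNat 2],
  [Int.ofNat 1, Int.ofNat 1, Int.negSucc 0, Int.ofNat 1, Int.ofNat 1, Int.negSucc 0, Int.negSucc 0, Int.ofNat 1, Int.ofNat 1, Int.negSucc 0, Int.negSucc 0, Int.ofNat 1, Int.ofNat 1, Int.ofNat 1, Int.ofNat 1, Int.negSucc 0, Int.ofNat 1, Int.ofNat 1, Int.negSucc 0, Int.ofNat 1, Int.ofNat 1, Int.ofNat 1, Int.negSucc 0, Int.negSucc 2],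
  [Int.ofNat 1, Int.ofNat 1, Int.ofNat 1, Int.ofNat 1, Int.ofNat 1, Int.ofNat 1, Int.ofNat 1, Int.ofNat 1, Int.ofNat 1, Int.ofNat 1, Int.ofNat 1, Int.ofNat 1, Int.ofNat 1, Int.ofNat 1, Int.ofNat 1, Int.ofNat 1, Int.ofNat 1, Int.ofNat 1, Int.ofNat 1, Int.ofNat 1, Int.ofNat 1, Int.ofNat 1, Int.ofNat 1, Int.negSucc 2],
  [Int.ofNat 1, Int.ofNat 1, Int.ofNat 1, Int.ofNat 1, Int.ofNat 1, Int.ofNat 1, Int.ofNat 1, Int.ofNat 1, Int.ofNat 1, Int.ofNat 1, Int.ofNat 1, Int.ofNat 1, Int.ofNat 1, Int.ofNat 1, Int.ofNat 1, Int.ofNat 1, Int.ofNat 1, Int.ofNat 1, Int.ofNat 1, Int.ofNat 1, Int.ofNat 1, Int.ofNat 1, Int.ofNat 1, Int.negSucc 2],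
  [Int.negSucc 2, Int.ofNat 1, Int.ofNat 1, Int.ofNat 1, Int.ofNat 1, Int.ofNat 1, Int.ofNat 1, Int.ofNat 1, Int.ofNat 1, Int.ofNat 1, Int.ofNat 1, Int.ofNat 1, Int.ofNat 1, Int.ofNat 1, Int.ofNat 1, Int.ofNat 1, Int.ofNat 1, Int.ofNat 1, Int.ofNat 1, Int.ofNat 1, Int.ofNat 1, Int.ofNat 1, Int.ofNat 1, Int.ofNat 1],
  [Int.ofNat 3, Int.ofNat 1, Int.negSucc 0, Int.ofNat 1, Int.ofNat 1, Int.ofNat 1, Int.ofNat 1, Int.negSucc 0, Int.ofNat 1, Int.negSucc 0, Int.negSucc 0, Int.negSucc 0, Int.ofNat 1, Int.ofNat 1, Int.ofNat 1, Int.ofNat 1, Int.ofNat 1, Int.ofNat 1, Int.negSucc 0, Int.ofNat 1, Int.ofNat 1, Int.negSucc 0, Int.ofNat 1, Int.ofNat 1],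
  [Int.ofNat 1, Int.ofNat 3, Int.ofNat 1, Int.negSucc 0, Int.ofNat 1, Int.ofNat 1, Int.ofNat 1, Int.ofNat 1, Int.negSucc 0, Int.ofNat 1, Int.negSucc 0, Int.negSucc 0, Int.negSucc 0, Int.ofNat 1, Int.ofNat 1, Int.ofNat 1, Int.ofNat 1, Int.ofNat 1, Int.ofNat 1, Int.negSucc 0, Int.ofNat 1, Int.ofNat 1, Int.negSucc 0, Int.ofNat 1],
  [Int.ofNat 2, Int.ofNat 0, Int.ofNat 2, Int.negSucc 1, Int.ofNat 0, Int.ofNat 0, Int.ofNat 0, Int.ofNat 0, Int.ofNat 0, Int.ofNat 0, Int.negSucc 1, Int.ofNat 0, Int.ofNat 0, Int.ofNat 0, Int.ofNat 0, Int.ofNat 0, Int.ofNat 0, Int.ofNat 0, Int.ofNat 2, Int.negSucc 1, Int.ofNat 0, Int.ofNat 0, Int.negSucc 1, Int.ofNat 2],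
  [Int.negSucc 1, Int.ofNat 0, Int.ofNat 0, Int.ofNat 0, Int.ofNat 0, Int.ofNat 0, Int.ofNat 0, Int.negSucc 1, Int.ofNat 0, Int.ofNat 0, Int.ofNat 0, Int.ofNat 0, Int.ofNat 0, Int.ofNat 0, Int.ofNat 0, Int.ofNat 2, Int.negSucc 1, Int.ofNat 0, Int.ofNat 0, Int.negSucc 1, Int.ofNat 2, Int.ofNat 0, Int.ofNat 2, Int.ofNat 2],
  [Int.ofNat 2, Int.ofNat 0, Int.ofNat 0, Int.ofNat 0, Int.ofNat 0, Int.ofNat 0, Int.ofNat 2, Int.ofNat 0, Int.ofNat 0, Int.negSucc 1, Int.negSucc 1, Int.ofNat 0, Int.ofNat 0, Int.ofNat 0, Int.ofNat 0, Int.ofNat 0, Int.negSucc 1, Int.ofNat 0, Int.ofNat 0, Int.ofNat 0, Int.ofNat 0, Int.ofNat 2, Int.ofNat 2, Int.negSucc 1],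
  [Int.ofNat 2, Int.ofNat 2, Int.ofNat 0, Int.ofNat 0, Int.ofNat 0, Int.ofNat 0, Int.ofNat 0, Int.negSucc 1, Int.ofNat 0, Int.ofNat 0, Int.ofNat 0, Int.ofNat 0, Int.negSucc 1, Int.negSucc 1, Int.ofNat 2, Int.ofNat 0, Int.ofNat 0, Int.ofNat 0, Int.ofNat 0, Int.ofNat 0, Int.ofNat 2, Int.ofNat 0, Int.ofNat 0, Int.negSucc 1],
  [Int.negSucc 0, Int.negSucc 0, Int.ofNat 1, Int.negSucc 0, Int.ofNat 1, Int.negSucc 0, Int.ofNat 1, Int.negSucc 0, Int.ofNat 1, Int.negSucc 0, Int.negSucc 0, Int.ofNat 1, Int.negSucc 0, Int.negSucc 0, Int.ofNat 1, Int.negSucc 0, Int.ofNat 1, Int.negSucc 0, Int.ofNat 1, Int.ofNat 1, Int.ofNat 1, Int.ofNat 1, Int.ofNat 1, Int.ofNat 3],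
  [Int.negSucc 0, Int.negSucc 0, Int.negSucc 0, Int.negSucc 0, Int.ofNat 1, Int.ofNat 1, Int.negSucc 0, Int.negSucc 0, Int.ofNat 1, Int.ofNat 1, Int.ofNat 1, Int.ofNat 1, Int.negSucc 0, Int.negSucc 0, Int.ofNat 1, Int.ofNat 1, Int.ofNat 1, Int.negSucc 0, Int.negSucc 0, Int.ofNat 1, Int.ofNat 1, Int.ofNat 1, Int.negSucc 0, Int.ofNat 3],
  [Int.negSucc 0, Int.ofNat 1, Int.ofNat 1, Int.negSucc 0, Int.negSucc 0, Int.ofNat 1, Int.ofNat 1, Int.negSucc 0, Int.negSucc 0, Int.ofNat 1, Int.ofNat 1, Int.negSucc 0, Int.ofNat 1, Int.ofNat 1, Int.ofNat 1, Int.negSucc 0, Int.ofNat 1, Int.negSucc 0, Int.ofNat 1, Int.ofNat 1, Int.negSucc 0, Int.negSucc 0, Int.negSucc 0, Int.ofNat 3],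
  [Int.negSucc 0, Int.ofNat 1, Int.negSucc 0, Int.negSucc 0, Int.negSucc 0, Int.negSucc 0, Int.negSucc 0, Int.negSucc 0, Int.negSucc 0, Int.negSucc 0, Int.negSucc 0, Int.negSucc 0, Int.ofNat 1, Int.ofNat 1, Int.ofNat 1, Int.ofNat 1, Int.ofNat 1, Int.negSucc 0, Int.negSucc 0, Int.ofNat 1, Int.negSucc 0, Int.negSucc 0, Int.ofNat 1, Int.ofNat 3],
  [Int.ofNat 2, Int.ofNat 0, Int.ofNat 2, Int.ofNat 0, Int.negSucc 1, Int.ofNat 0, Int.ofNat 0, Int.ofNat 0, Int.ofNat 0, Int.ofNat 0, Int.ofNat 0, Int.ofNat 0, Int.ofNat 2, Int.ofNat 0, Int.ofNat 2, Int.ofNat 2, Int.ofNat 0, Int.ofNat 0, Int.ofNat 0, Int.ofNat 2, Int.ofNat 0, Int.ofNat 0, Int.ofNat 0, Int.negSucc 1],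
  [Int.ofNat 2, Int.ofNat 0, Int.ofNat 0, Int.ofNat 0, Int.ofNat 2, Int.ofNat 0, Int.ofNat 0, Int.ofNat 0, Int.ofNat 0, Int.ofNat 2, Int.ofNat 0, Int.ofNat 2, Int.ofNat 0, Int.ofNat 0, Int.ofNat 0, Int.ofNat 2, Int.ofNat 0, Int.ofNat 0, Int.negSucc 1, Int.ofNat 0, Int.ofNat 0, Int.ofNat 0, Int.ofNat 2, Int.negSucc 1],
  [Int.negSucc 1, Int.ofNat 0, Int.ofNat 0, Int.ofNat 0, Int.ofNat 0, Int.ofNat 0, Int.ofNat 0, Int.ofNat 0, Int.ofNat 0, Int.ofNat 0, Int.negSucc 1, Int.ofNat 2, Int.ofNat 0, Int.negSucc 1, Int.ofNat 0, Int.ofNat 0, Int.negSucc 1, Int.ofNat 0, Int.negSucc 1, Int.ofNat 0, Int.negSucc 1, Int.ofNat 0, Int.ofNat 0, Int.ofNat 2],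
  [Int.negSucc 1, Int.ofNat 0, Int.ofNat 0, Int.negSucc 1, Int.ofNat 0, Int.ofNat 0, Int.ofNat 0, Int.ofNat 0, Int.ofNat 0, Int.ofNat 0, Int.ofNat 0, Int.ofNat 0, Int.ofNat 0, Int.negSucc 1, Int.ofNat 2, Int.ofNat 0, Int.negSucc 1, Int.ofNat 0, Int.ofNat 0, Int.negSucc 1, Int.ofNat 0, Int.negSucc 1, Int.ofNat 0, Int.ofNat 2],
  [Int.ofNat 2, Int.ofNat 0, Int.ofNat 0, Int.negSucc 1, Int.ofNat 2, Int.ofNat 0, Int.ofNat 2, Int.ofNat 2, Int.ofNat 0, Int.ofNat 0, Int.ofNat 0, Int.ofNat 0, Int.ofNat 0, Int.ofNat 0, Int.ofNat 2, Int.ofNat 0, Int.ofNat 0, Int.ofNat 0, Int.ofNat 0, Int.ofNat 0, Int.ofNat 0, Int.ofNat 0, Int.ofNat 2, Int.negSucc 1],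
  [Int.ofNat 0, Int.ofNat 0, Int.negSucc 1, Int.ofNat 2, Int.ofNat 0, Int.ofNat 2, Int.ofNat 2, Int.ofNat 0, Int.ofNat 0, Int.ofNat 0, Int.ofNat 0, Int.ofNat 0, Int.ofNat 0, Int.ofNat 2, Int.ofNat 0, Int.ofNat 0, Int.ofNat 0, Int.ofNat 0, Int.ofNat 0, Int.ofNat 0, Int.ofNat 0, Int.ofNat 2, Int.ofNat 2, Int.negSucc 1],
  [Int.ofNat 0, Int.ofNat 0, Int.ofNat 2, Int.ofNat 2, Int.ofNat 0, Int.ofNat 2, Int.ofNat 2, Int.ofNat 0, Int.ofNat 0, Int.ofNat 0, Int.ofNat 0, Int.ofNat 0, Int.ofNat 0, Int.ofNat 2, Int.ofNat 0, Int.ofNat 0, Int.ofNat 0, Int.ofNat 0, Int.ofNat 0, Int.ofNat 0, Int.ofNat 0, Int.negSucc 1, Int.ofNat 2, Int.negSucc 1],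
  [Int.ofNat 0, Int.ofNat 0, Int.negSucc 1, Int.negSucc 1, Int.ofNat 0, Int.ofNat 2, Int.negSucc 1, Int.ofNat 0, Int.ofNat 0, Int.ofNat 0, Int.ofNat 0, Int.ofNat 0, Int.ofNat 0, Int.negSucc 1, Int.ofNat 0, Int.ofNat 0, Int.ofNat 0, Int.ofNat 0, Int.ofNat 0, Int.ofNat 0, Int.ofNat 0, Int.negSucc 1, Int.ofNat 2, Int.negSucc 1],
  [Int.ofNat 0, Int.negSucc 1, Int.ofNat 0, Int.negSucc 1, Int.ofNat 0, Int.ofNat 0, Int.ofNat 0, Int.ofNat 0, Int.ofNat 0, Int.ofNat 0, Int.negSucc 1, Int.ofNat 0, Int.negSucc 1, Int.ofNat 0, Int.ofNat 0, Int.ofNat 0, Int.ofNat 0, Int.ofNat 2, Int.negSucc 1, Int.ofNat 0, Int.ofNat 2, Int.ofNat 0, Int.ofNat 0, Int.negSucc 1],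
  [Int.ofNat 0, Int.negSucc 1, Int.ofNat 0, Int.negSucc 1, Int.ofNat 0, Int.ofNat 0, Int.ofNat 0, Int.ofNat 0, Int.ofNat 0, Int.ofNat 0, Int.ofNat 2, Int.ofNat 0, Int.negSucc 1, Int.ofNat 0, Int.ofNat 0, Int.ofNat 0, Int.ofNat 0, Int.ofNat 2, Int.ofNat 2, Int.ofNat 0, Int.ofNat 2, Int.ofNat 0, Int.ofNat 0, Int.negSucc 1],
  [Int.ofNat 0, Int.ofNat 0, Int.negSucc 1, Int.ofNat 0, Int.negSucc 1, Int.ofNat 0, Int.ofNat 0, Int.ofNat 0, Int.ofNat 0, Int.ofNat 0, Int.ofNat 0, Int.ofNat 2, Int.ofNat 0, Int.negSucc 1, Int.ofNat 0, Int.ofNat 0, Int.ofNat 0, Int.ofNat 0, Int.ofNat 2, Int.ofNat 2, Int.ofNat 0, Int.ofNat 2, Int.ofNat 0, Int.negSucc 1],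
  [Int.negSucc 1, Int.negSucc 1, Int.ofNat 0, Int.ofNat 0, Int.ofNat 0, Int.ofNat 0, Int.negSucc 1, Int.negSucc 1, Int.negSucc 1, Int.ofNat 0, Int.ofNat 0, Int.ofNat 0, Int.negSucc 1, Int.ofNat 0, Int.ofNat 0, Int.ofNat 0, Int.ofNat 2, Int.ofNat 0, Int.ofNat 0, Int.ofNat 0, Int.ofNat 0, Int.ofNat 0, Int.ofNat 2, Int.ofNat 0],
  [Int.ofNat 0, Int.ofNat 0, Int.ofNat 0, Int.negSucc 1, Int.negSucc 1, Int.negSucc 1, Int.ofNat 0, Int.ofNat 0, Int.ofNat 0, Int.negSucc 1, Int.ofNat 0, Int.ofNat 0, Int.ofNat 0, Int.ofNat 2, Int.ofNat 0, Int.ofNat 0, Int.ofNat 0, Int.ofNat 0, Int.ofNat 0, Int.ofNat 2, Int.negSucc 1, Int.negSucc 1, Int.ofNat 0, Int.ofNat 0],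
  [Int.ofNat 0, Int.ofNat 0, Int.ofNat 0, Int.ofNat 0, Int.negSucc 1, Int.ofNat 0, Int.ofNat 0, Int.ofNat 0, Int.ofNat 0, Int.ofNat 0, Int.ofNat 2, Int.ofNat 0, Int.ofNat 0, Int.ofNat 2, Int.ofNat 2, Int.ofNat 2, Int.ofNat 0, Int.ofNat 2, Int.ofNat 0, Int.ofNat 2, Int.ofNat 0, Int.negSucc 1, Int.ofNat 0, Int.ofNat 0],
  [Int.ofNat 0, Int.ofNat 0, Int.negSucc 1, Int.ofNat 0, Int.ofNat 0, Int.ofNat 0, Int.ofNat 0, Int.ofNat 2, Int.ofNat 0, Int.ofNat 2, Int.ofNat 0, Int.ofNat 2, Int.ofNat 0, Int.ofNat 0, Int.ofNat 0, Int.ofNat 2, Int.ofNat 0, Int.ofNat 2, Int.ofNat 0, Int.ofNat 0, Int.negSucc 1, Int.ofNat 0, Int.ofNat 2, Int.ofNat 0],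
  [Int.negSucc 0, Int.negSucc 0, Int.ofNat 1, Int.negSucc 0, Int.negSucc 0, Int.negSucc 0, Int.negSucc 0, Int.ofNat 1, Int.negSucc 0, Int.ofNat 1, Int.negSucc 0, Int.ofNat 1, Int.negSucc 0, Int.negSucc 0, Int.negSucc 0, Int.ofNat 1, Int.negSucc 0, Int.ofNat 1, Int.negSucc 0, Int.negSucc 0, Int.negSucc 2, Int.negSucc 0, Int.ofNat 1, Int.negSucc 0],
  [Int.negSucc 0, Int.negSucc 0, Int.negSucc 0, Int.negSucc 0, Int.negSucc 0, Int.ofNat 1, Int.ofNat 1, Int.ofNat 1, Int.negSucc 0, Int.negSucc 0, Int.ofNat 1, Int.ofNat 1, Int.negSucc 0, Int.negSucc 0, Int.negSucc 0, Int.negSucc 0, Int.negSucc 0, Int.ofNat 1, Int.ofNat 1, Int.negSucc 0, Int.negSucc 2, Int.negSucc 0, Int.negSucc 0, Int.negSucc 0],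
  [Int.ofNat 1, Int.negSucc 0, Int.ofNat 1, Int.negSucc 0, Int.negSucc 0, Int.ofNat 1, Int.negSucc 0, Int.negSucc 0, Int.ofNat 1, Int.negSucc 2, Int.negSucc 0, Int.ofNat 1, Int.negSucc 0, Int.negSucc 0, Int.ofNat 1, Int.ofNat 1, Int.negSucc 0, Int.negSucc 0, Int.negSucc 0, Int.negSucc 0, Int.negSucc 0, Int.negSucc 0, Int.negSucc 0, Int.negSucc 0],
  [Int.negSucc 0, Int.negSucc 0, Int.ofNat 1, Int.ofNat 1, Int.negSucc 0, Int.negSucc 2, Int.negSucc 0, Int.negSucc 0, Int.negSucc 0, Int.ofNat 1, Int.negSucc 0, Int.ofNat 1, Int.negSucc 0, Int.negSucc 0, Int.negSucc 0, Int.negSucc 0, Int.negSucc 0, Int.negSucc 0, Int.ofNat 1, Int.negSucc 0, Int.ofNat 1, Int.negSucc 0, Int.negSucc 0, Int.ofNat 1],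
  [Int.ofNat 1, Int.negSucc 0, Int.negSucc 0, Int.ofNat 1, Int.negSucc 0, Int.negSucc 2, Int.negSucc 0, Int.ofNat 1, Int.negSucc 0, Int.negSucc 0, Int.ofNat 1, Int.negSucc 0, Int.negSucc 0, Int.negSucc 0, Int.negSucc 0, Int.negSucc 0, Int.negSucc 0, Int.negSucc 0, Int.negSucc 0, Int.negSucc 0, Int.ofNat 1, Int.ofNat 1, Int.negSucc 0, Int.ofNat 1],
  [Int.negSucc 0, Int.ofNat 1, Int.negSucc 0, Int.negSucc 0, Int.ofNat 1, Int.negSucc 0, Int.negSucc 2, Int.negSucc 0, Int.ofNat 1, Int.negSucc 0, Int.negSucc 0, Int.ofNat 1, Int.negSucc 0, Int.negSucc 0, Int.negSucc 0, Int.negSucc 0, Int.negSucc 0, Int.negSucc 0, Int.negSucc 0, Int.negSucc 0, Int.negSucc 0, Int.ofNat 1, Int.ofNat 1, Int.ofNat 1],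
  [Int.ofNat 1, Int.negSucc 0, Int.ofNat 1, Int.ofNat 1, Int.ofNat 1, Int.ofNat 1, Int.negSucc 0, Int.ofNat 1, Int.ofNat 1, Int.ofNat 1, Int.ofNat 1, Int.ofNat 1, Int.negSucc 0, Int.negSucc 0, Int.ofNat 1, Int.ofNat 1, Int.negSucc 0, Int.ofNat 1, Int.negSucc 0, Int.ofNat 1, Int.ofNat 1, Int.ofNat 3, Int.ofNat 1, Int.negSucc 0],
  [Int.ofNat 1, Int.ofNat 1, Int.ofNat 1, Int.negSucc 0, Int.ofNat 1, Int.ofNat 1, Int.ofNat 1, Int.ofNat 1, Int.ofNat 1, Int.negSucc 0, Int.negSucc 0, Int.ofNat 1, Int.ofNat 1, Int.negSucc 0, Int.ofNat 1, Int.negSucc 0, Int.ofNat 1, Int.ofNat 1, Int.ofNat 3, Int.ofNat 1, Int.ofNat 1, Int.negSucc 0, Int.ofNat 1, Int.negSucc 0],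
  [Int.ofNat 0, Int.ofNat 0, Int.ofNat 0, Int.negSucc 1, Int.ofNat 0, Int.ofNat 0, Int.ofNat 0, Int.ofNat 0, Int.negSucc 1, Int.ofNat 0, Int.ofNat 0, Int.negSucc 1, Int.negSucc 1, Int.negSucc 1, Int.ofNat 0, Int.ofNat 0, Int.ofNat 0, Int.ofNat 0, Int.ofNat 0, Int.ofNat 0, Int.ofNat 2, Int.negSucc 1, Int.ofNat 0, Int.ofNat 2],
  [Int.ofNat 0, Int.ofNat 0, Int.ofNat 0, Int.negSucc 1, Int.ofNat 0, Int.ofNat 0, Int.ofNat 0, Int.ofNat 0, Int.negSucc 1, Int.negSucc 1, Int.ofNat 2, Int.ofNat 0, Int.ofNat 0, Int.ofNat 0, Int.ofNat 0, Int.ofNat 0, Int.negSucc 1, Int.ofNat 0, Int.ofNat 0, Int.negSucc 1, Int.negSucc 1, Int.ofNat 0, Int.ofNat 0, Int.ofNat 2],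
  [Int.ofNat 1, Int.ofNat 1, Int.ofNat 1, Int.negSucc 0, Int.ofNat 1, Int.ofNat 1, Int.ofNat 1, Int.ofNat 1, Int.negSucc 0, Int.negSucc 0, Int.ofNat 3, Int.ofNat 1, Int.ofNat 1, Int.ofNat 1, Int.ofNat 1, Int.ofNat 1, Int.negSucc 0, Int.ofNat 1, Int.ofNat 1, Int.negSucc 0, Int.negSucc 0, Int.ofNat 1, Int.ofNat 1, Int.negSucc 0],
  [Int.ofNat 1, Int.ofNat 1, Int.negSucc 0, Int.negSucc 0, Int.ofNat 1, Int.negSucc 0, Int.negSucc 0, Int.ofNat 1, Int.negSucc 0, Int.ofNat 1, Int.negSucc 2, Int.ofNat 1, Int.ofNat 1, Int.ofNat 1, Int.ofNat 1, Int.negSucc 0, Int.negSucc 0, Int.ofNat 1, Int.negSucc 0, Int.negSucc 0, Int.negSucc 0, Int.ofNat 1, Int.negSucc 0, Int.negSucc 0],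
  [Int.negSucc 0, Int.ofNat 1, Int.ofNat 1, Int.negSucc 0, Int.ofNat 1, Int.negSucc 0, Int.ofNat 1, Int.negSucc 0, Int.ofNat 1, Int.negSucc 0, Int.negSucc 0, Int.ofNat 1, Int.ofNat 1, Int.ofNat 1, Int.negSucc 0, Int.ofNat 1, Int.negSucc 0, Int.negSucc 0, Int.negSucc 2, Int.negSucc 0, Int.ofNat 1, Int.ofNat 1, Int.negSucc 0, Int.negSucc 0],
  [Int.negSucc 0, Int.ofNat 1, Int.negSucc 0, Int.negSucc 0, Int.ofNat 1, Int.ofNat 1, Int.negSucc 0, Int.negSucc 0, Int.ofNat 1, Int.ofNat 1, Int.ofNat 1, Int.ofNat 1, Int.ofNat 1, Int.ofNat 1, Int.negSucc 0, Int.negSucc 0, Int.negSucc 0, Int.negSucc 0, Int.ofNat 3, Int.negSucc 0, Int.ofNat 1, Int.ofNat 1, Int.ofNat 1, Int.negSucc 0],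
  [Int.ofNat 0, Int.negSucc 1, Int.ofNat 0, Int.ofNat 0, Int.ofNat 0, Int.ofNat 2, Int.ofNat 0, Int.ofNat 0, Int.negSucc 1, Int.ofNat 0, Int.ofNat 0, Int.negSucc 1, Int.negSucc 1, Int.ofNat 0, Int.ofNat 0, Int.negSucc 1, Int.negSucc 1, Int.ofNat 0, Int.ofNat 0, Int.ofNat 0, Int.ofNat 0, Int.ofNat 2, Int.ofNat 0, Int.ofNat 0],
  [Int.ofNat 0, Int.ofNat 0, Int.ofNat 0, Int.ofNat 0, Int.ofNat 0, Int.ofNat 2, Int.negSucc 1, Int.ofNat 2, Int.negSucc 1, Int.negSucc 1, Int.ofNat 0, Int.ofNat 0, Int.negSucc 1, Int.ofNat 0, Int.ofNat 0, Int.negSucc 1, Int.ofNat 0, Int.negSucc 1, Int.ofNat 0, Int.ofNat 0, Int.ofNat 0, Int.ofNat 0, Int.ofNat 0, Int.ofNat 0],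
  [Int.ofNat 0, Int.ofNat 0, Int.ofNat 0, Int.ofNat 0, Int.ofNat 0, Int.ofNat 2, Int.negSucc 1, Int.ofNat 2, Int.ofNat 0, Int.ofNat 0, Int.ofNat 2, Int.ofNat 2, Int.ofNat 0, Int.ofNat 0, Int.ofNat 0, Int.ofNat 0, Int.ofNat 0, Int.negSucc 1, Int.ofNat 2, Int.ofNat 0, Int.ofNat 2, Int.ofNat 0, Int.ofNat 0, Int.ofNat 0],
  [Int.ofNat 2, Int.ofNat 0, Int.ofNat 0, Int.ofNat 0, Int.ofNat 0, Int.ofNat 0, Int.ofNat 0, Int.ofNat 0, Int.ofNat 2, Int.negSucc 1, Int.ofNat 2, Int.ofNat 0, Int.ofNat 0, Int.ofNat 2, Int.ofNat 2, Int.ofNat 0, Int.ofNat 0, Int.ofNat 0, Int.ofNat 0, Int.ofNat 0, Int.negSucc 1, Int.ofNat 2, Int.ofNat 0, Int.ofNat 0],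
  [Int.negSucc 0, Int.ofNat 1, Int.ofNat 1, Int.negSucc 0, Int.negSucc 0, Int.negSucc 0, Int.negSucc 0, Int.negSucc 0, Int.ofNat 1, Int.negSucc 0, Int.ofNat 3, Int.negSucc 0, Int.negSucc 0, Int.ofNat 1, Int.ofNat 1, Int.ofNat 1, Int.negSucc 0, Int.negSucc 0, Int.negSucc 0, Int.negSucc 0, Int.negSucc 0, Int.ofNat 1, Int.negSucc 0, Int.ofNat 1],
  [Int.ofNat 1, Int.ofNat 1, Int.negSucc 0, Int.negSucc 0, Int.negSucc 0, Int.negSucc 0, Int.negSucc 0, Int.ofNat 1, Int.negSucc 0, Int.ofNat 3, Int.negSucc 0, Int.negSucc 0, Int.ofNat 1, Int.ofNat 1, Int.ofNat 1, Int.negSucc 0, Int.negSucc 0, Int.negSucc 0, Int.negSucc 0, Int.negSucc 0, Int.ofNat 1, Int.negSucc 0, Int.negSucc 0, Int.ofNat 1],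
  [Int.negSucc 0, Int.ofNat 1, Int.ofNat 1, Int.negSucc 0, Int.negSucc 0, Int.negSucc 0, Int.negSucc 0, Int.negSucc 0, Int.negSucc 0, Int.negSucc 2, Int.ofNat 1, Int.ofNat 1, Int.ofNat 1, Int.ofNat 1, Int.ofNat 1, Int.negSucc 0, Int.negSucc 0, Int.negSucc 0, Int.ofNat 1, Int.negSucc 0, Int.ofNat 1, Int.ofNat 1, Int.negSucc 0, Int.ofNat 1]]

set_option maxRecDepth 100000 in
theorem c1te7_chk : pmChk (List.replicate 14 [7, 0, 26, 25]).flatten nxL c1te7M 0 0 = true := by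
  decide +kernel

theorem c1te7_ne : wE letE2 (List.replicate 14 [7, 0, 26, 25]).flatten ≠ 1 ∧ wE letE2 (List.replicate 14 [7, 0, 26, 25]).flatten ≠ negElt :=
  ne_pm_of_chk nxL_mem c1te7_chk

set_option maxRecDepth 100000 in
def c1te8M : List (List ℤ) :=
  [[Int.ofNat 4, Int.ofNat 0, Int.ofNat 0, Int.ofNat 0, Int.ofNat 0, Int.ofNat 0, Int.ofNat 0, Int.ofNat 0, Int.ofNat 0, Int.ofNat 0, Int.ofNat 0, Int.ofNat 0, Int.ofNat 0, Int.ofNat 0, Int.ofNat 0, Int.ofNat 0, Int.ofNat 0, Int.ofNat 0, Int.ofNat 0, Int.ofNat 0, Int.ofNat 0, Int.ofNat 0, Int.ofNat 0, Int.ofNat 4],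
  [Int.ofNat 4, Int.ofNat 0, Int.ofNat 0, Int.ofNat 0, Int.ofNat 0, Int.ofNat 0, Int.ofNat 0, Int.ofNat 0, Int.ofNat 0, Int.ofNat 0, Int.ofNat 0, Int.ofNat 0, Int.ofNat 0, Int.ofNat 0, Int.ofNat 0, Int.ofNat 0, Int.ofNat 0, Int.ofNat 0, Int.ofNat 0, Int.ofNat 0, Int.ofNat 0, Int.ofNat 0, Int.ofNat 0, Int.ofNat 4],
  [Int.negSucc 3, Int.ofNat 0, Int.ofNat 0, Int.ofNat 0, Int.ofNat 0, Int.ofNat 0, Int.ofNat 0, Int.ofNat 0, Int.ofNat 0, Int.ofNat 0, Int.ofNat 0, Int.ofNat 0, Int.ofNat 0, Int.ofNat 0, Int.ofNat 0, Int.ofNat 0, Int.ofNat 0, Int.ofNat 0, Int.ofNat 0, Int.ofNat 0, Int.ofNat 0, Int.ofNat 0, Int.ofNat 0, Int.ofNat 4],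
  [Int.ofNat 0, Int.negSucc 3, Int.ofNat 0, Int.ofNat 0, Int.ofNat 0, Int.ofNat 0, Int.ofNat 0, Int.ofNat 0, Int.ofNat 0, Int.ofNat 0, Int.ofNat 0, Int.ofNat 0, Int.ofNat 0, Int.ofNat 0, Int.ofNat 0, Int.ofNat 0, Int.ofNat 0, Int.ofNat 0, Int.ofNat 0, Int.ofNat 0, Int.ofNat 0, Int.ofNat 0, Int.ofNat 0, Int.ofNat 4],
  [Int.ofNat 0, Int.ofNat 4, Int.ofNat 0, Int.ofNat 0, Int.ofNat 0, Int.ofNat 0, Int.ofNat 0, Int.ofNat 0, Int.ofNat 0, Int.ofNat 0, Int.ofNat 0, Int.ofNat 0, Int.ofNat 0, Int.ofNat 0, Int.ofNat 0, Int.ofNat 0, Int.ofNat 0, Int.ofNat 0, Int.ofNat 0, Int.ofNat 0, Int.ofNat 0, Int.ofNat 0, Int.ofNat 0, Int.negSucc 3],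
  [Int.ofNat 0, Int.ofNat 0, Int.ofNat 0, Int.ofNat 0, Int.ofNat 0, Int.ofNat 0, Int.ofNat 0, Int.ofNat 0, Int.ofNat 0, Int.ofNat 0, Int.ofNat 0, Int.ofNat 0, Int.ofNat 0, Int.ofNat 0, Int.ofNat 0, Int.ofNat 0, Int.ofNat 0, Int.ofNat 0, Int.ofNat 0, Int.ofNat 0, Int.ofNat 0, Int.ofNat 4, Int.ofNat 0, Int.negSucc 3],
  [Int.negSucc 1, Int.negSucc 1, Int.negSucc 1, Int.ofNat 0, Int.ofNat 0, Int.ofNat 0, Int.negSucc 1, Int.negSucc 1, Int.ofNat 0, Int.ofNat 0, Int.ofNat 0, Int.ofNat 0, Int.ofNat 0, Int.ofNat 0, Int.ofNat 0, Int.ofNat 0, Int.ofNat 0, Int.ofNat 0, Int.ofNat 0, Int.negSucc 1, Int.ofNat 0, Int.ofNat 2, Int.ofNat 0, Int.ofNat 2],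
  [Int.negSucc 1, Int.negSucc 1, Int.ofNat 0, Int.ofNat 0, Int.ofNat 0, Int.negSucc 1, Int.negSucc 1, Int.ofNat 0, Int.ofNat 0, Int.ofNat 0, Int.ofNat 0, Int.ofNat 0, Int.ofNat 0, Int.ofNat 0, Int.ofNat 0, Int.ofNat 0, Int.ofNat 0, Int.ofNat 0, Int.negSucc 1, Int.ofNat 0, Int.ofNat 2, Int.ofNat 0, Int.negSucc 1, Int.ofNat 2],
  [Int.ofNat 1, Int.ofNat 1, Int.negSucc 0, Int.ofNat 1, Int.ofNat 1, Int.negSucc 0, Int.negSucc 0, Int.ofNat 1, Int.ofNat 1, Int.negSucc 0, Int.negSucc 0, Int.ofNat 1, Int.ofNat 1, Int.ofNat 1, Int.ofNat 1, Int.negSucc 0, Int.ofNat 1, Int.ofNat 1, Int.negSucc 0, Int.ofNat 1, Int.ofNat 1, Int.ofNat 1, Int.negSucc 0, Int.negSucc 2],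
  [Int.ofNat 1, Int.ofNat 1, Int.ofNat 1, Int.ofNat 1, Int.ofNat 1, Int.ofNat 1, Int.ofNat 1, Int.ofNat 1, Int.ofNat 1, Int.ofNat 1, Int.ofNat 1, Int.ofNat 1, Int.ofNat 1, Int.ofNat 1, Int.ofNat 1, Int.ofNat 1, Int.ofNat 1, Int.ofNat 1, Int.ofNat 1, Int.ofNat 1, Int.ofNat 1, Int.ofNat 1, Int.ofNat 1, Int.negSucc 2],
  [Int.ofNat 1, Int.ofNat 1, Int.ofNat 1, Int.ofNat 1, Int.ofNat 1, Int.ofNat 1, Int.ofNat 1, Int.ofNat 1, Int.ofNat 1, Int.ofNat 1, Int.ofNat 1, Int.ofNat 1, Int.ofNat 1, Int.ofNat 1, Int.ofNat 1, Int.ofNat 1, Int.ofNat 1, Int.ofNat 1, Int.ofNat 1, Int.ofNat 1, Int.ofNat 1, Int.ofNat 1, Int.ofNat 1, Int.negSucc 2],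
  [Int.negSucc 2, Int.ofNat 1, Int.ofNat 1, Int.ofNat 1, Int.ofNat 1, Int.ofNat 1, Int.ofNat 1, Int.ofNat 1, Int.ofNat 1, Int.ofNat 1, Int.ofNat 1, Int.ofNat 1, Int.ofNat 1, Int.ofNat 1, Int.ofNat 1, Int.ofNat 1, Int.ofNat 1, Int.ofNat 1, Int.ofNat 1, Int.ofNat 1, Int.ofNat 1, Int.ofNat 1, Int.ofNat 1, Int.ofNat 1],
  [Int.ofNat 3, Int.ofNat 1, Int.negSucc 0, Int.ofNat 1, Int.ofNat 1, Int.ofNat 1, Int.ofNat 1, Int.negSucc 0, Int.ofNat 1, Int.negSucc 0, Int.negSucc 0, Int.negSucc 0, Int.ofNat 1, Int.ofNat 1, Int.ofNat 1, Int.ofNat 1, Int.ofNat 1, Int.ofNat 1, Int.negSucc 0, Int.ofNat 1, Int.ofNat 1, Int.negSucc 0, Int.ofNat 1, Int.ofNat 1],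
  [Int.ofNat 1, Int.ofNat 3, Int.ofNat 1, Int.negSucc 0, Int.ofNat 1, Int.ofNat 1, Int.ofNat 1, Int.ofNat 1, Int.negSucc 0, Int.ofNat 1, Int.negSucc 0, Int.negSucc 0, Int.negSucc 0, Int.ofNat 1, Int.ofNat 1, Int.ofNat 1, Int.ofNat 1, Int.ofNat 1, Int.ofNat 1, Int.negSucc 0, Int.ofNat 1, Int.ofNat 1, Int.negSucc 0, Int.ofNat 1],
  [Int.ofNat 2, Int.ofNat 0, Int.ofNat 2, Int.negSucc 1, Int.ofNat 0, Int.ofNat 0, Int.ofNat 0, Int.ofNat 0, Int.ofNat 0, Int.ofNat 0, Int.negSucc 1, Int.ofNat 0, Int.ofNat 0, Int.ofNat 0, Int.ofNat 0, Int.ofNat 0, Int.ofNat 0, Int.ofNat 0, Int.ofNat 2, Int.negSucc 1, Int.ofNat 0, Int.ofNat 0, Int.negSucc 1, Int.ofNat 2],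
  [Int.negSucc 1, Int.ofNat 0, Int.ofNat 0, Int.ofNat 0, Int.ofNat 0, Int.ofNat 0, Int.ofNat 0, Int.negSucc 1, Int.ofNat 0, Int.ofNat 0, Int.ofNat 0, Int.ofNat 0, Int.ofNat 0, Int.ofNat 0, Int.ofNat 0, Int.ofNat 2, Int.negSucc 1, Int.ofNat 0, Int.ofNat 0, Int.negSucc 1, Int.ofNat 2, Int.ofNat 0, Int.ofNat 2, Int.ofNat 2],
  [Int.ofNat 2, Int.ofNat 0, Int.ofNat 0, Int.ofNat 0, Int.ofNat 0, Int.ofNat 0, Int.ofNat 2, Int.ofNat 0, Int.ofNat 0, Int.negSucc 1, Int.negSucc 1, Int.ofNat 0, Int.ofNat 0, Int.ofNat 0, Int.ofNat 0, Int.ofNat 0, Int.negSucc 1, Int.ofNat 0, Int.ofNat 0, Int.ofNat 0, Int.ofNat 0, Int.ofNat 2, Int.ofNat 2, Int.negSucc 1],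
  [Int.ofNat 2, Int.ofNat 2, Int.ofNat 0, Int.ofNat 0, Int.ofNat 0, Int.ofNat 0, Int.ofNat 0, Int.negSucc 1, Int.ofNat 0, Int.ofNat 0, Int.ofNat 0, Int.ofNat 0, Int.negSucc 1, Int.negSucc 1, Int.ofNat 2, Int.ofNat 0, Int.ofNat 0, Int.ofNat 0, Int.ofNat 0, Int.ofNat 0, Int.ofNat 2, Int.ofNat 0, Int.ofNat 0, Int.negSucc 1],
  [Int.negSucc 0, Int.negSucc 0, Int.ofNat 1, Int.negSucc 0, Int.ofNat 1, Int.negSucc 0, Int.ofNat 1, Int.negSucc 0, Int.ofNat 1, Int.negSucc 0, Int.negSucc 0, Int.ofNat 1, Int.negSucc 0, Int.negSucc 0, Int.ofNat 1, Int.negSucc 0, Int.ofNat 1, Int.negSucc 0, Int.ofNat 1, Int.ofNat 1, Int.ofNat 1, Int.ofNat 1, Int.ofNat 1, Int.ofNat 3],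
  [Int.negSucc 0, Int.negSucc 0, Int.negSucc 0, Int.negSucc 0, Int.ofNat 1, Int.ofNat 1, Int.negSucc 0, Int.negSucc 0, Int.ofNat 1, Int.ofNat 1, Int.ofNat 1, Int.ofNat 1, Int.negSucc 0, Int.negSucc 0, Int.ofNat 1, Int.ofNat 1, Int.ofNat 1, Int.negSucc 0, Int.negSucc 0, Int.ofNat 1, Int.ofNat 1, Int.ofNat 1, Int.negSucc 0, Int.ofNat 3],
  [Int.ofNat 1, Int.negSucc 0, Int.negSucc 0, Int.ofNat 1, Int.ofNat 1, Int.ofNat 1, Int.ofNat 1, Int.negSucc 0, Int.negSucc 0, Int.negSucc 0, Int.negSucc 0, Int.negSucc 0, Int.ofNat 1, Int.ofNat 1, Int.ofNat 1, Int.ofNat 1, Int.negSucc 0, Int.negSucc 0, Int.negSucc 0, Int.ofNat 1, Int.negSucc 0, Int.ofNat 1, Int.ofNat 1, Int.ofNat 3],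
  [Int.ofNat 1, Int.negSucc 0, Int.ofNat 1, Int.ofNat 1, Int.ofNat 1, Int.negSucc 0, Int.negSucc 0, Int.negSucc 0, Int.negSucc 0, Int.ofNat 1, Int.ofNat 1, Int.negSucc 0, Int.ofNat 1, Int.ofNat 1, Int.ofNat 1, Int.negSucc 0, Int.negSucc 0, Int.negSucc 0, Int.ofNat 1, Int.ofNat 1, Int.negSucc 0, Int.ofNat 1, Int.negSucc 0, Int.ofNat 3],
  [Int.ofNat 1, Int.ofNat 3, Int.ofNat 1, Int.ofNat 1, Int.ofNat 1, Int.negSucc 0, Int.negSucc 0, Int.negSucc 0, Int.negSucc 0, Int.ofNat 1, Int.ofNat 1, Int.negSucc 0, Int.ofNat 1, Int.ofNat 1, Int.ofNat 1, Int.negSucc 0, Int.negSucc 0, Int.negSucc 0, Int.ofNat 1, Int.ofNat 1, Int.negSucc 0, Int.ofNat 1, Int.negSucc 0, Int.negSucc 0],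
  [Int.ofNat 1, Int.ofNat 1, Int.negSucc 0, Int.ofNat 1, Int.ofNat 1, Int.ofNat 1, Int.ofNat 3, Int.negSucc 0, Int.negSucc 0, Int.ofNat 1, Int.negSucc 0, Int.ofNat 1, Int.negSucc 0, Int.ofNat 1, Int.negSucc 0, Int.negSucc 0, Int.ofNat 1, Int.negSucc 0, Int.ofNat 1, Int.negSucc 0, Int.ofNat 1, Int.negSucc 0, Int.ofNat 1, Int.negSucc 0],
  [Int.negSucc 0, Int.negSucc 0, Int.ofNat 1, Int.ofNat 1, Int.negSucc 0, Int.ofNat 1, Int.ofNat 3, Int.negSucc 0, Int.negSucc 0, Int.ofNat 1, Int.negSucc 0, Int.ofNat 1, Int.negSucc 0, Int.negSucc 0, Int.negSucc 0, Int.negSucc 0, Int.negSucc 0, Int.negSucc 0, Int.ofNat 1, Int.negSucc 0, Int.ofNat 1, Int.negSucc 0, Int.negSucc 0, Int.ofNat 1],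
  [Int.ofNat 1, Int.negSucc 0, Int.negSucc 0, Int.negSucc 0, Int.negSucc 0, Int.ofNat 1, Int.ofNat 1, Int.negSucc 0, Int.ofNat 1, Int.ofNat 3, Int.negSucc 0, Int.negSucc 0, Int.ofNat 1, Int.negSucc 0, Int.ofNat 1, Int.negSucc 0, Int.negSucc 0, Int.negSucc 0, Int.negSucc 0, Int.negSucc 0, Int.negSucc 0, Int.ofNat 1, Int.negSucc 0, Int.ofNat 1],
  [Int.negSucc 0, Int.ofNat 1, Int.ofNat 1, Int.negSucc 0, Int.ofNat 1, Int.ofNat 1, Int.ofNat 1, Int.negSucc 0, Int.ofNat 1, Int.ofNat 3, Int.negSucc 0, Int.negSucc 0, Int.ofNat 1, Int.ofNat 1, Int.ofNat 1, Int.negSucc 0, Int.ofNat 1, Int.negSucc 0, Int.negSucc 0, Int.negSucc 0, Int.negSucc 0, Int.ofNat 1, Int.ofNat 1, Int.negSucc 0],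
  [Int.ofNat 1, Int.ofNat 1, Int.negSucc 0, Int.ofNat 1, Int.ofNat 1, Int.ofNat 1, Int.negSucc 0, Int.ofNat 1, Int.ofNat 3, Int.negSucc 0, Int.negSucc 0, Int.ofNat 1, Int.ofNat 1, Int.ofNat 1, Int.negSucc 0, Int.ofNat 1, Int.negSucc 0, Int.negSucc 0, Int.negSucc 0, Int.negSucc 0, Int.ofNat 1, Int.ofNat 1, Int.negSucc 0, Int.negSucc 0],
  [Int.negSucc 0, Int.ofNat 1, Int.ofNat 1, Int.ofNat 1, Int.ofNat 1, Int.ofNat 1, Int.negSucc 0, Int.negSucc 0, Int.ofNat 3, Int.ofNat 1, Int.ofNat 1, Int.negSucc 0, Int.ofNat 1, Int.ofNat 1, Int.negSucc 0, Int.ofNat 1, Int.negSucc 0, Int.negSucc 0, Int.ofNat 1, Int.negSucc 0, Int.ofNat 1, Int.negSucc 0, Int.negSucc 0, Int.negSucc 0],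
  [Int.ofNat 1, Int.negSucc 0, Int.negSucc 0, Int.negSucc 0, Int.negSucc 0, Int.ofNat 1, Int.ofNat 1, Int.negSucc 0, Int.negSucc 2, Int.negSucc 0, Int.ofNat 1, Int.negSucc 0, Int.negSucc 0, Int.negSucc 0, Int.negSucc 0, Int.ofNat 1, Int.ofNat 1, Int.negSucc 0, Int.negSucc 0, Int.negSucc 0, Int.ofNat 1, Int.negSucc 0, Int.negSucc 0, Int.negSucc 0],
  [Int.ofNat 1, Int.negSucc 0, Int.negSucc 0, Int.negSucc 0, Int.negSucc 0, Int.ofNat 1, Int.negSucc 0, Int.ofNat 1, Int.negSucc 0, Int.ofNat 1, Int.negSucc 0, Int.negSucc 0, Int.negSucc 0, Int.negSucc 2, Int.negSucc 0, Int.ofNat 1, Int.negSucc 0, Int.negSucc 0, Int.ofNat 1, Int.negSucc 0, Int.ofNat 1, Int.negSucc 0, Int.negSucc 0, Int.negSucc 0],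
  [Int.negSucc 0, Int.negSucc 0, Int.ofNat 1, Int.negSucc 0, Int.negSucc 0, Int.ofNat 1, Int.negSucc 0, Int.negSucc 0, Int.negSucc 0, Int.negSucc 0, Int.ofNat 1, Int.ofNat 1, Int.negSucc 0, Int.negSucc 2, Int.negSucc 0, Int.ofNat 1, Int.negSucc 0, Int.negSucc 0, Int.negSucc 0, Int.negSucc 0, Int.ofNat 1, Int.ofNat 1, Int.negSucc 0, Int.negSucc 0],
  [Int.negSucc 0, Int.negSucc 0, Int.negSucc 0, Int.ofNat 1, Int.negSucc 0, Int.negSucc 0, Int.ofNat 1, Int.negSucc 0, Int.negSucc 0, Int.negSucc 0, Int.negSucc 0, Int.ofNat 1, Int.ofNat 1, Int.negSucc 0, Int.negSucc 2, Int.negSucc 0, Int.ofNat 1, Int.negSucc 0, Int.negSucc 0, Int.negSucc 0, Int.negSucc 0, Int.ofNat 1, Int.ofNat 1, Int.negSucc 0],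
  [Int.negSucc 0, Int.negSucc 0, Int.negSucc 0, Int.ofNat 3, Int.negSucc 0, Int.ofNat 1, Int.ofNat 1, Int.negSucc 0, Int.negSucc 0, Int.ofNat 1, Int.ofNat 1, Int.ofNat 1, Int.ofNat 1, Int.negSucc 0, Int.negSucc 0, Int.ofNat 1, Int.ofNat 1, Int.ofNat 1, Int.negSucc 0, Int.negSucc 0, Int.ofNat 1, Int.ofNat 1, Int.ofNat 1, Int.negSucc 0],
  [Int.ofNat 3, Int.negSucc 0, Int.ofNat 1, Int.ofNat 1, Int.negSucc 0, Int.negSucc 0, Int.ofNat 1, Int.ofNat 1, Int.ofNat 1, Int.ofNat 1, Int.negSucc 0, Int.negSucc 0, Int.ofNat 1, Int.ofNat 1, Int.ofNat 1, Int.negSucc 0, Int.negSucc 0, Int.ofNat 1, Int.ofNat 1, Int.ofNat 1, Int.negSucc 0, Int.negSucc 0, Int.negSucc 0, Int.negSucc 0],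
  [Int.negSucc 1, Int.ofNat 2, Int.ofNat 0, Int.ofNat 0, Int.ofNat 0, Int.negSucc 1, Int.ofNat 0, Int.ofNat 0, Int.ofNat 0, Int.ofNat 2, Int.ofNat 0, Int.negSucc 1, Int.ofNat 0, Int.ofNat 2, Int.ofNat 0, Int.ofNat 0, Int.ofNat 0, Int.ofNat 0, Int.ofNat 0, Int.ofNat 0, Int.ofNat 0, Int.negSucc 1, Int.ofNat 0, Int.ofNat 2],
  [Int.negSucc 1, Int.ofNat 0, Int.ofNat 0, Int.ofNat 0, Int.ofNat 0, Int.ofNat 0, Int.ofNat 0, Int.ofNat 0, Int.ofNat 0, Int.ofNat 2, Int.ofNat 0, Int.ofNat 0, Int.ofNat 2, Int.ofNat 0, Int.ofNat 0, Int.ofNat 0, Int.ofNat 0, Int.ofNat 0, Int.ofNat 2, Int.negSucc 1, Int.negSucc 1, Int.negSucc 1, Int.ofNat 0, Int.ofNat 2],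
  [Int.ofNat 2, Int.ofNat 0, Int.ofNat 0, Int.ofNat 0, Int.ofNat 0, Int.ofNat 0, Int.ofNat 2, Int.ofNat 2, Int.negSucc 1, Int.ofNat 2, Int.ofNat 0, Int.negSucc 1, Int.ofNat 0, Int.ofNat 0, Int.ofNat 0, Int.ofNat 0, Int.ofNat 0, Int.ofNat 0, Int.ofNat 0, Int.ofNat 0, Int.negSucc 1, Int.ofNat 0, Int.ofNat 0, Int.negSucc 1],
  [Int.ofNat 2, Int.ofNat 0, Int.ofNat 0, Int.ofNat 0, Int.ofNat 0, Int.ofNat 0, Int.negSucc 1, Int.ofNat 2, Int.negSucc 1, Int.negSucc 1, Int.ofNat 0, Int.negSucc 1, Int.ofNat 0, Int.ofNat 0, Int.ofNat 0, Int.ofNat 0, Int.ofNat 0, Int.ofNat 0, Int.ofNat 0, Int.ofNat 0, Int.negSucc 1, Int.ofNat 0, Int.ofNat 0, Int.negSucc 1],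
  [Int.ofNat 0, Int.ofNat 0, Int.negSucc 1, Int.negSucc 1, Int.ofNat 0, Int.negSucc 1, Int.ofNat 0, Int.ofNat 0, Int.ofNat 0, Int.negSucc 1, Int.ofNat 0, Int.ofNat 2, Int.ofNat 0, Int.ofNat 0, Int.ofNat 0, Int.ofNat 0, Int.ofNat 0, Int.ofNat 0, Int.negSucc 1, Int.ofNat 0, Int.ofNat 2, Int.ofNat 0, Int.ofNat 0, Int.negSucc 1],
  [Int.negSucc 1, Int.ofNat 0, Int.ofNat 2, Int.ofNat 0, Int.ofNat 0, Int.negSucc 1, Int.ofNat 0, Int.ofNat 0, Int.ofNat 2, Int.negSucc 1, Int.ofNat 0, Int.negSucc 1, Int.ofNat 0, Int.ofNat 0, Int.negSucc 1, Int.negSucc 1, Int.ofNat 0, Int.ofNat 0, Int.ofNat 0, Int.ofNat 0, Int.ofNat 0, Int.ofNat 0, Int.ofNat 0, Int.ofNat 0],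
  [Int.ofNat 2, Int.ofNat 0, Int.negSucc 1, Int.ofNat 0, Int.ofNat 0, Int.negSucc 1, Int.ofNat 0, Int.ofNat 0, Int.ofNat 2, Int.ofNat 2, Int.ofNat 0, Int.ofNat 2, Int.ofNat 0, Int.ofNat 0, Int.negSucc 1, Int.negSucc 1, Int.ofNat 0, Int.ofNat 0, Int.ofNat 0, Int.ofNat 0, Int.ofNat 0, Int.ofNat 0, Int.ofNat 0, Int.ofNat 0],
  [Int.ofNat 0, Int.ofNat 2, Int.ofNat 0, Int.negSucc 1, Int.ofNat 0, Int.ofNat 0, Int.negSucc 1, Int.ofNat 0, Int.ofNat 0, Int.ofNat 2, Int.ofNat 2, Int.ofNat 0, Int.ofNat 2, Int.ofNat 0, Int.ofNat 0, Int.negSucc 1, Int.negSucc 1, Int.ofNat 0, Int.ofNat 0, Int.ofNat 0, Int.ofNat 0, Int.ofNat 0, Int.ofNat 0, Int.ofNat 0],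
  [Int.ofNat 1, Int.negSucc 0, Int.ofNat 1, Int.negSucc 0, Int.ofNat 1, Int.ofNat 1, Int.negSucc 0, Int.ofNat 1, Int.negSucc 0, Int.ofNat 1, Int.ofNat 1, Int.negSucc 0, Int.ofNat 1, Int.ofNat 1, Int.ofNat 1, Int.negSucc 2, Int.negSucc 0, Int.ofNat 1, Int.negSucc 0, Int.ofNat 1, Int.negSucc 0, Int.ofNat 1, Int.ofNat 1, Int.ofNat 1],
  [Int.negSucc 0, Int.ofNat 1, Int.ofNat 1, Int.negSucc 0, Int.ofNat 1, Int.negSucc 0, Int.ofNat 1, Int.ofNat 1, Int.negSucc 0, Int.ofNat 1, Int.ofNat 1, Int.ofNat 1, Int.negSucc 2, Int.negSucc 0, Int.ofNat 1, Int.negSucc 0, Int.ofNat 1, Int.negSucc 0, Int.ofNat 1, Int.ofNat 1, Int.ofNat 1, Int.negSucc 0, Int.ofNat 1, Int.ofNat 1],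
  [Int.ofNat 2, Int.ofNat 0, Int.ofNat 0, Int.ofNat 0, Int.ofNat 0, Int.ofNat 0, Int.ofNat 0, Int.ofNat 0, Int.ofNat 0, Int.ofNat 0, Int.ofNat 0, Int.ofNat 2, Int.negSucc 1, Int.negSucc 1, Int.ofNat 2, Int.negSucc 1, Int.ofNat 0, Int.ofNat 0, Int.ofNat 2, Int.ofNat 0, Int.ofNat 0, Int.negSucc 1, Int.ofNat 0, Int.ofNat 0],
  [Int.ofNat 2, Int.ofNat 0, Int.ofNat 0, Int.ofNat 0, Int.ofNat 2, Int.ofNat 0, Int.ofNat 0, Int.ofNat 0, Int.negSucc 1, Int.negSucc 1, Int.ofNat 0, Int.ofNat 0, Int.ofNat 0, Int.ofNat 0, Int.ofNat 0, Int.negSucc 1, Int.ofNat 0, Int.ofNat 2, Int.ofNat 0, Int.ofNat 2, Int.negSucc 1, Int.ofNat 0, Int.ofNat 0, Int.ofNat 0],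
  [Int.negSucc 0, Int.ofNat 1, Int.ofNat 1, Int.negSucc 0, Int.ofNat 1, Int.negSucc 0, Int.negSucc 0, Int.negSucc 0, Int.negSucc 0, Int.ofNat 1, Int.ofNat 3, Int.ofNat 1, Int.ofNat 1, Int.negSucc 0, Int.negSucc 0, Int.ofNat 1, Int.negSucc 0, Int.ofNat 1, Int.ofNat 1, Int.ofNat 1, Int.ofNat 1, Int.negSucc 0, Int.negSucc 0, Int.ofNat 1],
  [Int.negSucc 0, Int.ofNat 1, Int.negSucc 0, Int.negSucc 0, Int.ofNat 1, Int.ofNat 1, Int.ofNat 1, Int.negSucc 0, Int.negSucc 0, Int.negSucc 0, Int.negSucc 2, Int.ofNat 1, Int.ofNat 1, Int.negSucc 0, Int.negSucc 0, Int.negSucc 0, Int.negSucc 0, Int.ofNat 1, Int.negSucc 0, Int.ofNat 1, Int.ofNat 1, Int.negSucc 0, Int.ofNat 1, Int.ofNat 1],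
  [Int.ofNat 1, Int.ofNat 1, Int.negSucc 0, Int.negSucc 0, Int.ofNat 1, Int.negSucc 0, Int.negSucc 0, Int.negSucc 0, Int.ofNat 1, Int.ofNat 1, Int.negSucc 0, Int.ofNat 1, Int.ofNat 1, Int.negSucc 0, Int.negSucc 2, Int.ofNat 1, Int.negSucc 0, Int.negSucc 0, Int.negSucc 0, Int.negSucc 0, Int.ofNat 1, Int.ofNat 1, Int.negSucc 0, Int.ofNat 1],
  [Int.ofNat 1, Int.ofNat 1, Int.ofNat 1, Int.negSucc 0, Int.ofNat 1, Int.ofNat 1, Int.ofNat 1, Int.negSucc 0, Int.ofNat 1, Int.negSucc 0, Int.ofNat 1, Int.ofNat 1, Int.ofNat 1, Int.negSucc 0, Int.negSucc 2, Int.negSucc 0, Int.negSucc 0, Int.negSucc 0, Int.ofNat 1, Int.negSucc 0, Int.ofNat 1, Int.ofNat 1, Int.ofNat 1, Int.ofNat 1],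
  [Int.ofNat 1, Int.ofNat 1, Int.ofNat 1, Int.ofNat 1, Int.ofNat 1, Int.ofNat 3, Int.ofNat 1, Int.negSucc 0, Int.negSucc 0, Int.negSucc 0, Int.ofNat 1, Int.negSucc 0, Int.negSucc 0, Int.negSucc 0, Int.negSucc 0, Int.negSucc 0, Int.negSucc 0, Int.ofNat 1, Int.negSucc 0, Int.negSucc 0, Int.ofNat 1, Int.ofNat 1, Int.ofNat 1, Int.ofNat 1],
  [Int.ofNat 1, Int.negSucc 0, Int.ofNat 1, Int.ofNat 1, Int.ofNat 1, Int.ofNat 1, Int.ofNat 1, Int.ofNat 3, Int.negSucc 0, Int.negSucc 0, Int.negSucc 0, Int.negSucc 0, Int.negSucc 0, Int.negSucc 0, Int.ofNat 1, Int.negSucc 0, Int.negSucc 0, Int.negSucc 0, Int.ofNat 1, Int.ofNat 1, Int.ofNat 1, Int.ofNat 1, Int.negSucc 0, Int.ofNat 1],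
  [Int.ofNat 0, Int.ofNat 2, Int.ofNat 0, Int.ofNat 0, Int.ofNat 2, Int.ofNat 0, Int.negSucc 1, Int.ofNat 0, Int.ofNat 0, Int.ofNat 0, Int.ofNat 0, Int.ofNat 0, Int.ofNat 0, Int.ofNat 0, Int.ofNat 0, Int.ofNat 0, Int.ofNat 0, Int.negSucc 1, Int.ofNat 2, Int.negSucc 1, Int.ofNat 2, Int.negSucc 1, Int.ofNat 0, Int.ofNat 0],
  [Int.ofNat 2, Int.negSucc 1, Int.ofNat 0, Int.ofNat 0, Int.ofNat 2, Int.ofNat 0, Int.ofNat 0, Int.ofNat 2, Int.ofNat 0, Int.negSucc 1, Int.ofNat 0, Int.ofNat 0, Int.ofNat 0, Int.ofNat 0, Int.ofNat 0, Int.ofNat 0, Int.ofNat 0, Int.ofNat 0, Int.ofNat 0, Int.ofNat 0, Int.negSucc 1, Int.ofNat 2, Int.negSucc 1, Int.ofNat 0],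
  [Int.negSucc 1, Int.ofNat 2, Int.ofNat 0, Int.ofNat 0, Int.ofNat 2, Int.ofNat 0, Int.negSucc 1, Int.ofNat 0, Int.ofNat 0, Int.ofNat 0, Int.ofNat 2, Int.ofNat 0, Int.ofNat 0, Int.ofNat 0, Int.ofNat 0, Int.ofNat 2, Int.ofNat 0, Int.ofNat 0, Int.ofNat 0, Int.negSucc 1, Int.ofNat 0, Int.ofNat 0, Int.negSucc 1, Int.ofNat 0],
  [Int.ofNat 2, Int.ofNat 0, Int.ofNat 0, Int.ofNat 2, Int.ofNat 0, Int.negSucc 1, Int.ofNat 0, Int.ofNat 0, Int.ofNat 0, Int.ofNat 2, Int.ofNat 0, Int.ofNat 0, Int.ofNat 0, Int.ofNat 0, Int.ofNat 2, Int.ofNat 0, Int.ofNat 0, Int.ofNat 0, Int.negSucc 1, Int.ofNat 0, Int.ofNat 0, Int.negSucc 1, Int.negSucc 1, Int.ofNat 0],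
  [Int.negSucc 1, Int.ofNat 0, Int.ofNat 0, Int.ofNat 2, Int.ofNat 0, Int.negSucc 1, Int.ofNat 0, Int.ofNat 0, Int.ofNat 0, Int.negSucc 1, Int.ofNat 0, Int.ofNat 0, Int.ofNat 0, Int.ofNat 0, Int.ofNat 2, Int.ofNat 0, Int.ofNat 0, Int.ofNat 0, Int.ofNat 2, Int.ofNat 0, Int.ofNat 0, Int.ofNat 2, Int.negSucc 1, Int.ofNat 0],
  [Int.ofNat 2, Int.ofNat 0, Int.ofNat 0, Int.negSucc 1, Int.ofNat 0, Int.negSucc 1, Int.ofNat 0, Int.ofNat 0, Int.ofNat 0, Int.ofNat 2, Int.ofNat 0, Int.ofNat 0, Int.ofNat 0, Int.ofNat 0, Int.ofNat 2, Int.ofNat 0, Int.ofNat 0, Int.ofNat 0, Int.negSucc 1, Int.ofNat 0, Int.ofNat 0, Int.ofNat 2, Int.negSucc 1, Int.ofNat 0],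
  [Int.ofNat 2, Int.ofNat 0, Int.negSucc 1, Int.negSucc 1, Int.ofNat 0, Int.ofNat 0, Int.ofNat 0, Int.ofNat 0, Int.ofNat 2, Int.ofNat 0, Int.ofNat 2, Int.ofNat 2, Int.ofNat 0, Int.ofNat 0, Int.ofNat 0, Int.ofNat 0, Int.ofNat 0, Int.negSucc 1, Int.ofNat 0, Int.ofNat 0, Int.negSucc 1, Int.ofNat 0, Int.ofNat 0, Int.ofNat 0],
  [Int.negSucc 1, Int.ofNat 0, Int.ofNat 2, Int.negSucc 1, Int.ofNat 0, Int.ofNat 0, Int.ofNat 0, Int.ofNat 0, Int.ofNat 2, Int.ofNat 0, Int.negSucc 1, Int.negSucc 1, Int.ofNat 0, Int.ofNat 0, Int.ofNat 0, Int.ofNat 0, Int.ofNat 0, Int.negSucc 1, Int.ofNat 0, Int.ofNat 0, Int.negSucc 1, Int.ofNat 0, Int.ofNat 0, Int.ofNat 0],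
  [Int.ofNat 0, Int.negSucc 1, Int.ofNat 0, Int.ofNat 2, Int.negSucc 1, Int.ofNat 0, Int.ofNat 0, Int.ofNat 0, Int.ofNat 0, Int.ofNat 2, Int.ofNat 0, Int.negSucc 1, Int.negSucc 1, Int.ofNat 0, Int.ofNat 0, Int.ofNat 0, Int.ofNat 0, Int.ofNat 0, Int.negSucc 1, Int.ofNat 0, Int.ofNat 0, Int.negSucc 1, Int.ofNat 0, Int.ofNat 0],
  [Int.negSucc 0, Int.ofNat 1, Int.negSucc 0, Int.ofNat 1, Int.negSucc 0, Int.negSucc 0, Int.ofNat 1, Int.ofNat 1, Int.ofNat 3, Int.ofNat 1, Int.negSucc 0, Int.ofNat 1, Int.ofNat 1, Int.ofNat 1, Int.negSucc 0, Int.negSucc 0, Int.ofNat 1, Int.negSucc 0, Int.ofNat 1, Int.ofNat 1, Int.negSucc 0, Int.negSucc 0, Int.ofNat 1, Int.negSucc 0],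
  [Int.ofNat 1, Int.negSucc 0, Int.negSucc 0, Int.ofNat 1, Int.ofNat 1, Int.ofNat 3, Int.ofNat 1, Int.negSucc 0, Int.ofNat 1, Int.ofNat 1, Int.ofNat 1, Int.negSucc 0, Int.negSucc 0, Int.ofNat 1, Int.negSucc 0, Int.ofNat 1, Int.ofNat 1, Int.negSucc 0, Int.negSucc 0, Int.ofNat 1, Int.negSucc 0, Int.ofNat 1, Int.negSucc 0, Int.negSucc 0],
  [Int.negSucc 1, Int.ofNat 0, Int.ofNat 0, Int.ofNat 0, Int.ofNat 0, Int.ofNat 2, Int.ofNat 0, Int.negSucc 1, Int.ofNat 2, Int.ofNat 0, Int.ofNat 0, Int.ofNat 0, Int.ofNat 0, Int.ofNat 0, Int.negSucc 1, Int.ofNat 0, Int.ofNat 0, Int.negSucc 1, Int.ofNat 0, Int.ofNat 0, Int.negSucc 1, Int.ofNat 0, Int.negSucc 1, Int.ofNat 0],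
  [Int.negSucc 1, Int.ofNat 0, Int.ofNat 0, Int.ofNat 0, Int.ofNat 0, Int.negSucc 1, Int.ofNat 0, Int.ofNat 0, Int.ofNat 0, Int.ofNat 0, Int.negSucc 1, Int.negSucc 1, Int.ofNat 0, Int.ofNat 0, Int.negSucc 1, Int.ofNat 0, Int.ofNat 2, Int.negSucc 1, Int.ofNat 0, Int.ofNat 0, Int.ofNat 0, Int.ofNat 2, Int.ofNat 0, Int.ofNat 0],
  [Int.ofNat 1, Int.negSucc 0, Int.negSucc 0, Int.ofNat 3, Int.negSucc 0, Int.ofNat 1, Int.negSucc 0, Int.negSucc 0, Int.ofNat 1, Int.ofNat 1, Int.negSucc 0, Int.negSucc 0, Int.ofNat 1, Int.negSucc 0, Int.ofNat 1, Int.ofNat 1, Int.ofNat 1, Int.ofNat 1, Int.ofNat 1, Int.negSucc 0, Int.ofNat 1, Int.ofNat 1, Int.negSucc 0, Int.negSucc 0],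
  [Int.ofNat 1, Int.negSucc 0, Int.ofNat 1, Int.ofNat 3, Int.negSucc 0, Int.negSucc 0, Int.ofNat 1, Int.negSucc 0, Int.ofNat 1, Int.negSucc 0, Int.ofNat 1, Int.negSucc 0, Int.ofNat 1, Int.negSucc 0, Int.ofNat 1, Int.negSucc 0, Int.ofNat 1, Int.ofNat 1, Int.negSucc 0, Int.negSucc 0, Int.ofNat 1, Int.ofNat 1, Int.ofNat 1, Int.negSucc 0],
  [Int.ofNat 1, Int.ofNat 1, Int.negSucc 0, Int.ofNat 1, Int.ofNat 1, Int.ofNat 1, Int.ofNat 1, Int.ofNat 3, Int.negSucc 0, Int.ofNat 1, Int.negSucc 0, Int.negSucc 0, Int.negSucc 0, Int.negSucc 0, Int.ofNat 1, Int.negSucc 0, Int.negSucc 0, Int.ofNat 1, Int.negSucc 0, Int.ofNat 1, Int.ofNat 1, Int.negSucc 0, Int.ofNat 1, Int.negSucc 0],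
  [Int.negSucc 0, Int.ofNat 1, Int.negSucc 0, Int.negSucc 0, Int.ofNat 1, Int.ofNat 1, Int.ofNat 1, Int.negSucc 0, Int.ofNat 1, Int.ofNat 1, Int.negSucc 0, Int.negSucc 0, Int.negSucc 0, Int.ofNat 3, Int.negSucc 0, Int.ofNat 1, Int.negSucc 0, Int.ofNat 1, Int.ofNat 1, Int.ofNat 1, Int.negSucc 0, Int.negSucc 0, Int.ofNat 1, Int.ofNat 1],
  [Int.ofNat 1, Int.ofNat 1, Int.ofNat 1, Int.negSucc 0, Int.ofNat 1, Int.ofNat 1, Int.ofNat 1, Int.ofNat 1, Int.ofNat 1, Int.negSucc 0, Int.ofNat 1, Int.ofNat 1, Int.negSucc 0, Int.ofNat 3, Int.negSucc 0, Int.ofNat 1, Int.negSucc 0, Int.ofNat 1, Int.negSucc 0, Int.ofNat 1, Int.negSucc 0, Int.ofNat 1, Int.ofNat 1, Int.ofNat 1],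
  [Int.ofNat 1, Int.ofNat 1, Int.ofNat 1, Int.ofNat 1, Int.negSucc 0, Int.ofNat 1, Int.ofNat 1, Int.ofNat 1, Int.ofNat 1, Int.ofNat 1, Int.negSucc 0, Int.ofNat 1, Int.ofNat 1, Int.negSucc 0, Int.ofNat 3, Int.negSucc 0, Int.ofNat 1, Int.negSucc 0, Int.ofNat 1, Int.negSucc 0, Int.ofNat 1, Int.negSucc 0, Int.ofNat 1, Int.ofNat 1],
  [Int.ofNat 1, Int.ofNat 1, Int.ofNat 1, Int.negSucc 0, Int.negSucc 0, Int.negSucc 0, Int.ofNat 1, Int.ofNat 1, Int.negSucc 0, Int.ofNat 1, Int.negSucc 0, Int.negSucc 0, Int.negSucc 0, Int.negSucc 0, Int.ofNat 1, Int.negSucc 0, Int.ofNat 1, Int.negSucc 2, Int.negSucc 0, Int.negSucc 0, Int.ofNat 1, Int.negSucc 0, Int.ofNat 1, Int.ofNat 1],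
  [Int.negSucc 0, Int.negSucc 0, Int.negSucc 0, Int.ofNat 1, Int.ofNat 1, Int.negSucc 0, Int.ofNat 1, Int.negSucc 0, Int.negSucc 0, Int.negSucc 0, Int.negSucc 0, Int.ofNat 1, Int.negSucc 0, Int.ofNat 1, Int.negSucc 2, Int.negSucc 0, Int.negSucc 0, Int.ofNat 1, Int.negSucc 0, Int.ofNat 1, Int.ofNat 1, Int.ofNat 1, Int.ofNat 1, Int.ofNat 1],
  [Int.ofNat 0, Int.ofNat 0, Int.ofNat 0, Int.ofNat 2, Int.ofNat 0, Int.ofNat 0, Int.ofNat 0, Int.negSucc 1, Int.ofNat 0, Int.ofNat 0, Int.ofNat 0, Int.ofNat 2, Int.ofNat 0, Int.ofNat 0, Int.negSucc 1, Int.ofNat 0, Int.negSucc 1, Int.ofNat 2, Int.ofNat 0, Int.ofNat 0, Int.ofNat 2, Int.ofNat 0, Int.ofNat 0, Int.negSucc 1],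
  [Int.ofNat 0, Int.ofNat 0, Int.ofNat 0, Int.ofNat 2, Int.ofNat 0, Int.negSucc 1, Int.ofNat 0, Int.ofNat 0, Int.ofNat 0, Int.ofNat 0, Int.ofNat 2, Int.ofNat 2, Int.ofNat 0, Int.negSucc 1, Int.ofNat 0, Int.ofNat 0, Int.ofNat 0, Int.negSucc 1, Int.ofNat 0, Int.ofNat 2, Int.ofNat 0, Int.ofNat 0, Int.ofNat 0, Int.negSucc 1],
  [Int.negSucc 0, Int.negSucc 0, Int.negSucc 0, Int.ofNat 3, Int.ofNat 1, Int.negSucc 0, Int.negSucc 0, Int.negSucc 0, Int.negSucc 0, Int.negSucc 0, Int.ofNat 1, Int.ofNat 1, Int.negSucc 0, Int.negSucc 0, Int.ofNat 1, Int.negSucc 0, Int.ofNat 1, Int.negSucc 0, Int.negSucc 0, Int.ofNat 1, Int.negSucc 0, Int.negSucc 0, Int.ofNat 1, Int.ofNat 1],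
  [Int.negSucc 0, Int.negSucc 0, Int.ofNat 1, Int.ofNat 3, Int.ofNat 1, Int.ofNat 1, Int.ofNat 1, Int.negSucc 0, Int.negSucc 0, Int.ofNat 1, Int.negSucc 0, Int.ofNat 1, Int.negSucc 0, Int.negSucc 0, Int.ofNat 1, Int.ofNat 1, Int.ofNat 1, Int.negSucc 0, Int.ofNat 1, Int.ofNat 1, Int.negSucc 0, Int.negSucc 0, Int.negSucc 0, Int.ofNat 1],
  [Int.ofNat 1, Int.negSucc 0, Int.ofNat 1, Int.negSucc 0, Int.negSucc 0, Int.ofNat 1, Int.ofNat 1, Int.ofNat 3, Int.negSucc 0, Int.negSucc 0, Int.ofNat 1, Int.negSucc 0, Int.ofNat 1, Int.negSucc 0, Int.negSucc 0, Int.ofNat 1, Int.negSucc 0, Int.negSucc 0, Int.negSucc 0, Int.ofNat 1, Int.ofNat 1, Int.ofNat 1, Int.ofNat 1, Int.ofNat 1],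
  [Int.ofNat 1, Int.negSucc 0, Int.negSucc 0, Int.negSucc 0, Int.negSucc 0, Int.negSucc 0, Int.negSucc 0, Int.ofNat 3, Int.negSucc 0, Int.ofNat 1, Int.negSucc 0, Int.negSucc 0, Int.ofNat 1, Int.negSucc 0, Int.negSucc 0, Int.negSucc 0, Int.negSucc 0, Int.negSucc 0, Int.ofNat 1, Int.ofNat 1, Int.ofNat 1, Int.ofNat 1, Int.negSucc 0, Int.ofNat 1],
  [Int.negSucc 0, Int.ofNat 1, Int.ofNat 1, Int.ofNat 1, Int.ofNat 1, Int.ofNat 1, Int.negSucc 2, Int.ofNat 1, Int.negSucc 0, Int.ofNat 1, Int.negSucc 0, Int.negSucc 0, Int.ofNat 1, Int.ofNat 1, Int.ofNat 1, Int.negSucc 0, Int.ofNat 1, Int.ofNat 1, Int.ofNat 1, Int.negSucc 0, Int.ofNat 1, Int.negSucc 0, Int.ofNat 1, Int.negSucc 0],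
  [Int.negSucc 0, Int.ofNat 1, Int.negSucc 2, Int.ofNat 1, Int.ofNat 1, Int.negSucc 0, Int.ofNat 1, Int.ofNat 1, Int.ofNat 1, Int.ofNat 1, Int.ofNat 1, Int.negSucc 0, Int.negSucc 0, Int.ofNat 1, Int.ofNat 1, Int.negSucc 0, Int.ofNat 1, Int.negSucc 0, Int.ofNat 1, Int.ofNat 1, Int.negSucc 0, Int.ofNat 1, Int.ofNat 1, Int.negSucc 0],
  [Int.negSucc 0, Int.negSucc 2, Int.ofNat 1, Int.ofNat 1, Int.negSucc 0, Int.negSucc 0, Int.negSucc 0, Int.negSucc 0, Int.ofNat 1, Int.ofNat 1, Int.ofNat 1, Int.negSucc 0, Int.negSucc 0, Int.negSucc 0, Int.ofNat 1, Int.negSucc 0, Int.negSucc 0, Int.negSucc 0, Int.ofNat 1, Int.negSucc 0, Int.negSucc 0, Int.negSucc 0, Int.negSucc 0, Int.negSucc 0],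
  [Int.negSucc 0, Int.negSucc 0, Int.negSucc 0, Int.negSucc 0, Int.negSucc 2, Int.ofNat 1, Int.ofNat 1, Int.negSucc 0, Int.negSucc 0, Int.negSucc 0, Int.negSucc 0, Int.ofNat 1, Int.ofNat 1, Int.ofNat 1, Int.negSucc 0, Int.negSucc 0, Int.negSucc 0, Int.ofNat 1, Int.negSucc 0, Int.negSucc 0, Int.negSucc 0, Int.ofNat 1, Int.negSucc 0, Int.negSucc 0],
  [Int.negSucc 0, Int.negSucc 0, Int.negSucc 0, Int.negSucc 0, Int.negSucc 0, Int.ofNat 1, Int.ofNat 1, Int.negSucc 0, Int.negSucc 0, Int.ofNat 1, Int.ofNat 1, Int.ofNat 1, Int.ofNat 1, Int.ofNat 3, Int.negSucc 0, Int.ofNat 1, Int.ofNat 1, Int.ofNat 1, Int.negSucc 0, Int.negSucc 0, Int.ofNat 1, Int.ofNat 1, Int.ofNat 1, Int.negSucc 0],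
  [Int.negSucc 0, Int.negSucc 0, Int.negSucc 0, Int.negSucc 0, Int.ofNat 1, Int.ofNat 1, Int.negSucc 0, Int.negSucc 0, Int.ofNat 1, Int.ofNat 1, Int.ofNat 1, Int.ofNat 1, Int.ofNat 3, Int.negSucc 0, Int.ofNat 1, Int.ofNat 1, Int.ofNat 1, Int.negSucc 0, Int.negSucc 0, Int.ofNat 1, Int.ofNat 1, Int.ofNat 1, Int.negSucc 0, Int.negSucc 0],
  [Int.ofNat 1, Int.negSucc 0, Int.ofNat 1, Int.negSucc 0, Int.ofNat 1, Int.ofNat 1, Int.negSucc 0, Int.ofNat 1, Int.ofNat 1, Int.negSucc 0, Int.negSucc 0, Int.negSucc 0, Int.ofNat 3, Int.negSucc 0, Int.ofNat 1, Int.ofNat 1, Int.ofNat 1, Int.negSucc 0, Int.ofNat 1, Int.ofNat 1, Int.ofNat 1, Int.negSucc 0, Int.negSucc 0, Int.negSucc 0],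
  [Int.negSucc 0, Int.ofNat 1, Int.negSucc 0, Int.ofNat 1, Int.negSucc 0, Int.ofNat 1, Int.ofNat 1, Int.ofNat 1, Int.negSucc 0, Int.ofNat 1, Int.negSucc 0, Int.negSucc 0, Int.negSucc 2, Int.ofNat 1, Int.ofNat 1, Int.ofNat 1, Int.negSucc 0, Int.negSucc 0, Int.negSucc 0, Int.ofNat 1, Int.ofNat 1, Int.negSucc 0, Int.negSucc 0, Int.negSucc 0],
  [Int.negSucc 0, Int.negSucc 0, Int.negSucc 0, Int.ofNat 1, Int.ofNat 1, Int.negSucc 0, Int.negSucc 0, Int.ofNat 1, Int.ofNat 1, Int.negSucc 0, Int.negSucc 0, Int.ofNat 1, Int.ofNat 1, Int.negSucc 0, Int.ofNat 1, Int.ofNat 1, Int.negSucc 2, Int.negSucc 0, Int.ofNat 1, Int.negSucc 0, Int.ofNat 1, Int.ofNat 1, Int.negSucc 0, Int.negSucc 0],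
  [Int.ofNat 1, Int.negSucc 0, Int.ofNat 1, Int.ofNat 1, Int.ofNat 1, Int.negSucc 0, Int.negSucc 0, Int.negSucc 0, Int.ofNat 1, Int.ofNat 1, Int.ofNat 1, Int.negSucc 0, Int.ofNat 1, Int.negSucc 0, Int.ofNat 1, Int.ofNat 1, Int.negSucc 2, Int.negSucc 0, Int.negSucc 0, Int.negSucc 0, Int.ofNat 1, Int.negSucc 0, Int.negSucc 0, Int.negSucc 0],
  [Int.negSucc 0, Int.ofNat 1, Int.negSucc 0, Int.ofNat 1, Int.ofNat 1, Int.ofNat 1, Int.negSucc 0, Int.negSucc 0, Int.negSucc 0, Int.ofNat 1, Int.ofNat 1, Int.ofNat 1, Int.negSucc 0, Int.ofNat 1, Int.negSucc 0, Int.ofNat 1, Int.ofNat 1, Int.negSucc 2, Int.negSucc 0, Int.negSucc 0, Int.negSucc 0, Int.ofNat 1, Int.negSucc 0, Int.negSucc 0],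
  [Int.ofNat 0, Int.negSucc 1, Int.ofNat 0, Int.ofNat 2, Int.ofNat 0, Int.ofNat 2, Int.ofNat 0, Int.ofNat 0, Int.ofNat 0, Int.ofNat 0, Int.ofNat 0, Int.ofNat 2, Int.ofNat 0, Int.ofNat 0, Int.ofNat 0, Int.ofNat 0, Int.ofNat 0, Int.negSucc 1, Int.ofNat 0, Int.ofNat 0, Int.negSucc 1, Int.ofNat 2, Int.negSucc 1, Int.ofNat 0],
  [Int.ofNat 2, Int.ofNat 0, Int.ofNat 2, Int.ofNat 0, Int.ofNat 0, Int.ofNat 0, Int.ofNat 0, Int.ofNat 0, Int.ofNat 2, Int.ofNat 0, Int.ofNat 0, Int.ofNat 0, Int.ofNat 0, Int.ofNat 0, Int.negSucc 1, Int.ofNat 0, Int.ofNat 0, Int.negSucc 1, Int.ofNat 2, Int.negSucc 1, Int.ofNat 0, Int.negSucc 1, Int.ofNat 0, Int.ofNat 0],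
  [Int.ofNat 0, Int.ofNat 2, Int.ofNat 0, Int.ofNat 2, Int.ofNat 0, Int.ofNat 2, Int.ofNat 2, Int.ofNat 2, Int.ofNat 0, Int.ofNat 0, Int.ofNat 0, Int.negSucc 1, Int.negSucc 1, Int.ofNat 0, Int.ofNat 0, Int.ofNat 0, Int.ofNat 0, Int.ofNat 0, Int.ofNat 0, Int.ofNat 0, Int.ofNat 0, Int.ofNat 0, Int.ofNat 0, Int.ofNat 2],
  [Int.ofNat 0, Int.ofNat 2, Int.ofNat 0, Int.ofNat 2, Int.ofNat 0, Int.ofNat 2, Int.ofNat 0, Int.ofNat 0, Int.negSucc 1, Int.ofNat 0, Int.ofNat 0, Int.ofNat 0, Int.ofNat 0, Int.ofNat 0, Int.ofNat 0, Int.ofNat 0, Int.ofNat 0, Int.ofNat 0, Int.ofNat 2, Int.negSucc 1, Int.ofNat 0, Int.ofNat 2, Int.ofNat 0, Int.ofNat 2],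
  [Int.ofNat 2, Int.ofNat 0, Int.ofNat 2, Int.ofNat 0, Int.ofNat 0, Int.ofNat 0, Int.ofNat 0, Int.ofNat 0, Int.negSucc 1, Int.ofNat 0, Int.ofNat 0, Int.ofNat 0, Int.ofNat 0, Int.ofNat 0, Int.negSucc 1, Int.ofNat 0, Int.ofNat 0, Int.negSucc 1, Int.ofNat 2, Int.negSucc 1, Int.ofNat 0, Int.ofNat 2, Int.ofNat 0, Int.ofNat 0],
  [Int.ofNat 2, Int.ofNat 0, Int.negSucc 1, Int.ofNat 0, Int.ofNat 0, Int.ofNat 0, Int.ofNat 0, Int.ofNat 0, Int.negSucc 1, Int.ofNat 0, Int.ofNat 0, Int.ofNat 0, Int.ofNat 0, Int.ofNat 0, Int.negSucc 1, Int.ofNat 0, Int.ofNat 0, Int.negSucc 1, Int.negSucc 1, Int.negSucc 1, Int.ofNat 0, Int.ofNat 2, Int.ofNat 0, Int.ofNat 0],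
  [Int.ofNat 0, Int.ofNat 0, Int.ofNat 0, Int.negSucc 1, Int.negSucc 1, Int.ofNat 0, Int.ofNat 2, Int.ofNat 0, Int.ofNat 0, Int.ofNat 0, Int.ofNat 0, Int.ofNat 0, Int.ofNat 0, Int.ofNat 0, Int.negSucc 1, Int.negSucc 1, Int.negSucc 1, Int.ofNat 0, Int.ofNat 0, Int.negSucc 1, Int.ofNat 2, Int.ofNat 0, Int.ofNat 0, Int.ofNat 0],
  [Int.ofNat 0, Int.ofNat 0, Int.ofNat 0, Int.negSucc 1, Int.ofNat 0, Int.ofNat 0, Int.negSucc 1, Int.ofNat 0, Int.ofNat 2, Int.ofNat 0, Int.negSucc 1, Int.ofNat 0, Int.ofNat 0, Int.ofNat 0, Int.ofNat 0, Int.negSucc 1, Int.ofNat 0, Int.negSucc 1, Int.negSucc 1, Int.ofNat 2, Int.ofNat 0, Int.ofNat 0, Int.ofNat 0, Int.ofNat 0],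
  [Int.ofNat 0, Int.ofNat 0, Int.ofNat 0, Int.negSucc 1, Int.ofNat 0, Int.ofNat 0, Int.negSucc 1, Int.ofNat 0, Int.ofNat 2, Int.ofNat 0, Int.ofNat 2, Int.ofNat 0, Int.ofNat 0, Int.ofNat 0, Int.ofNat 0, Int.negSucc 1, Int.ofNat 0, Int.negSucc 1, Int.ofNat 2, Int.ofNat 2, Int.ofNat 0, Int.ofNat 0, Int.ofNat 0, Int.ofNat 0],
  [Int.ofNat 0, Int.ofNat 0, Int.ofNat 0, Int.ofNat 0, Int.negSucc 1, Int.ofNat 0, Int.ofNat 0, Int.negSucc 1, Int.ofNat 0, Int.ofNat 2, Int.ofNat 0, Int.ofNat 2, Int.ofNat 0, Int.ofNat 0, Int.ofNat 0, Int.ofNat 0, Int.negSucc 1, Int.ofNat 0, Int.negSucc 1, Int.ofNat 2, Int.ofNat 2, Int.ofNat 0, Int.ofNat 0, Int.ofNat 0],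
  [Int.ofNat 0, Int.ofNat 0, Int.ofNat 0, Int.ofNat 0, Int.ofNat 0, Int.ofNat 0, Int.ofNat 0, Int.negSucc 1, Int.ofNat 0, Int.ofNat 0, Int.negSucc 1, Int.ofNat 2, Int.ofNat 0, Int.ofNat 2, Int.ofNat 0, Int.negSucc 1, Int.ofNat 0, Int.ofNat 0, Int.negSucc 1, Int.ofNat 2, Int.ofNat 0, Int.ofNat 0, Int.ofNat 2, Int.ofNat 0],
  [Int.ofNat 0, Int.ofNat 0, Int.ofNat 0, Int.ofNat 0, Int.negSucc 1, Int.ofNat 0, Int.ofNat 0, Int.negSucc 1, Int.ofNat 2, Int.ofNat 0, Int.ofNat 2, Int.ofNat 0, Int.negSucc 1, Int.ofNat 0, Int.ofNat 0, Int.negSucc 1, Int.ofNat 2, Int.ofNat 0, Int.ofNat 0, Int.ofNat 2, Int.ofNat 0, Int.ofNat 0, Int.ofNat 0, Int.ofNat 0],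
  [Int.ofNat 0, Int.ofNat 0, Int.ofNat 0, Int.ofNat 0, Int.negSucc 1, Int.ofNat 0, Int.ofNat 0, Int.negSucc 1, Int.ofNat 2, Int.ofNat 0, Int.ofNat 2, Int.ofNat 0, Int.negSucc 1, Int.ofNat 0, Int.ofNat 0, Int.negSucc 1, Int.ofNat 2, Int.ofNat 0, Int.ofNat 0, Int.ofNat 2, Int.ofNat 0, Int.ofNat 0, Int.ofNat 0, Int.ofNat 0],
  [Int.ofNat 0, Int.ofNat 0, Int.negSucc 1, Int.ofNat 0, Int.ofNat 0, Int.negSucc 1, Int.ofNat 0, Int.ofNat 2, Int.negSucc 1, Int.ofNat 0, Int.ofNat 0, Int.ofNat 0, Int.ofNat 0, Int.ofNat 2, Int.ofNat 0, Int.negSucc 1, Int.ofNat 2, Int.ofNat 0, Int.ofNat 0, Int.ofNat 0, Int.ofNat 0, Int.ofNat 0, Int.ofNat 2, Int.ofNat 0],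
  [Int.negSucc 0, Int.negSucc 0, Int.ofNat 1, Int.ofNat 1, Int.negSucc 2, Int.negSucc 0, Int.negSucc 0, Int.ofNat 1, Int.negSucc 0, Int.ofNat 1, Int.ofNat 1, Int.ofNat 1, Int.ofNat 1, Int.negSucc 0, Int.ofNat 1, Int.negSucc 0, Int.negSucc 0, Int.ofNat 1, Int.ofNat 1, Int.negSucc 0, Int.ofNat 1, Int.negSucc 0, Int.negSucc 0, Int.negSucc 0],
  [Int.negSucc 0, Int.negSucc 0, Int.negSucc 0, Int.ofNat 1, Int.negSucc 2, Int.ofNat 1, Int.ofNat 1, Int.ofNat 1, Int.negSucc 0, Int.negSucc 0, Int.negSucc 0, Int.ofNat 1, Int.ofNat 1, Int.negSucc 0, Int.ofNat 1, Int.ofNat 1, Int.negSucc 0, Int.ofNat 1, Int.negSucc 0, Int.negSucc 0, Int.ofNat 1, Int.negSucc 0, Int.ofNat 1, Int.negSucc 0],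
  [Int.negSucc 0, Int.ofNat 1, Int.negSucc 0, Int.negSucc 0, Int.ofNat 1, Int.ofNat 1, Int.negSucc 0, Int.ofNat 1, Int.ofNat 1, Int.ofNat 1, Int.negSucc 0, Int.negSucc 0, Int.negSucc 2, Int.negSucc 0, Int.negSucc 0, Int.ofNat 1, Int.negSucc 0, Int.negSucc 0, Int.ofNat 1, Int.ofNat 1, Int.ofNat 1, Int.ofNat 1, Int.negSucc 0, Int.negSucc 0],
  [Int.negSucc 0, Int.ofNat 1, Int.ofNat 1, Int.negSucc 0, Int.ofNat 1, Int.negSucc 0, Int.ofNat 1, Int.ofNat 1, Int.ofNat 1, Int.negSucc 0, Int.ofNat 1, Int.negSucc 0, Int.negSucc 2, Int.negSucc 0, Int.negSucc 0, Int.negSucc 0, Int.negSucc 0, Int.negSucc 0, Int.negSucc 0, Int.ofNat 1, Int.ofNat 1, Int.ofNat 1, Int.ofNat 1, Int.negSucc 0],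
  [Int.ofNat 1, Int.negSucc 0, Int.negSucc 0, Int.ofNat 1, Int.ofNat 1, Int.ofNat 1, Int.negSucc 0, Int.negSucc 0, Int.ofNat 3, Int.negSucc 0, Int.ofNat 1, Int.ofNat 1, Int.negSucc 0, Int.negSucc 0, Int.ofNat 1, Int.negSucc 0, Int.negSucc 0, Int.ofNat 1, Int.ofNat 1, Int.negSucc 0, Int.ofNat 1, Int.negSucc 0, Int.ofNat 1, Int.ofNat 1],
  [Int.ofNat 1, Int.ofNat 1, Int.negSucc 0, Int.ofNat 1, Int.negSucc 0, Int.negSucc 0, Int.negSucc 0, Int.ofNat 1, Int.negSucc 0, Int.negSucc 0, Int.negSucc 0, Int.negSucc 0, Int.ofNat 3, Int.negSucc 0, Int.ofNat 1, Int.negSucc 0, Int.negSucc 0, Int.ofNat 1, Int.ofNat 1, Int.ofNat 1, Int.ofNat 1, Int.ofNat 1, Int.ofNat 1, Int.ofNat 1],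
  [Int.ofNat 0, Int.ofNat 0, Int.ofNat 2, Int.ofNat 0, Int.ofNat 0, Int.negSucc 1, Int.negSucc 1, Int.ofNat 0, Int.negSucc 1, Int.ofNat 0, Int.ofNat 0, Int.negSucc 1, Int.ofNat 2, Int.ofNat 0, Int.ofNat 0, Int.ofNat 0, Int.ofNat 0, Int.ofNat 0, Int.ofNat 0, Int.ofNat 0, Int.ofNat 2, Int.ofNat 0, Int.ofNat 2, Int.ofNat 0],
  [Int.ofNat 2, Int.ofNat 0, Int.ofNat 2, Int.ofNat 0, Int.ofNat 0, Int.ofNat 2, Int.ofNat 0, Int.ofNat 0, Int.negSucc 1, Int.negSucc 1, Int.ofNat 0, Int.negSucc 1, Int.ofNat 0, Int.ofNat 0, Int.negSucc 1, Int.ofNat 2, Int.ofNat 0, Int.ofNat 0, Int.ofNat 0, Int.ofNat 0, Int.ofNat 0, Int.ofNat 0, Int.ofNat 0, Int.ofNat 0],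
  [Int.ofNat 0, Int.ofNat 2, Int.ofNat 0, Int.ofNat 0, Int.ofNat 0, Int.ofNat 2, Int.ofNat 0, Int.ofNat 0, Int.ofNat 0, Int.negSucc 1, Int.ofNat 0, Int.ofNat 0, Int.ofNat 2, Int.ofNat 0, Int.negSucc 1, Int.ofNat 2, Int.ofNat 0, Int.ofNat 0, Int.ofNat 2, Int.ofNat 0, Int.ofNat 0, Int.ofNat 0, Int.ofNat 0, Int.ofNat 2],
  [Int.ofNat 2, Int.ofNat 0, Int.ofNat 0, Int.ofNat 0, Int.ofNat 2, Int.ofNat 0, Int.ofNat 0, Int.ofNat 0, Int.negSucc 1, Int.ofNat 0, Int.ofNat 0, Int.ofNat 2, Int.ofNat 0, Int.negSucc 1, Int.ofNat 2, Int.ofNat 0, Int.ofNat 0, Int.ofNat 2, Int.ofNat 0, Int.ofNat 0, Int.ofNat 0, Int.ofNat 0, Int.ofNat 0, Int.ofNat 2],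
  [Int.negSucc 1, Int.ofNat 0, Int.ofNat 0, Int.ofNat 0, Int.ofNat 2, Int.ofNat 0, Int.ofNat 0, Int.ofNat 0, Int.negSucc 1, Int.ofNat 0, Int.ofNat 0, Int.negSucc 1, Int.ofNat 0, Int.negSucc 1, Int.ofNat 2, Int.ofNat 0, Int.ofNat 0, Int.ofNat 2, Int.ofNat 0, Int.ofNat 0, Int.ofNat 0, Int.ofNat 0, Int.ofNat 0, Int.ofNat 2],
  [Int.ofNat 2, Int.ofNat 0, Int.ofNat 0, Int.ofNat 0, Int.negSucc 1, Int.ofNat 0, Int.ofNat 0, Int.ofNat 0, Int.ofNat 2, Int.ofNat 0, Int.ofNat 0, Int.negSucc 1, Int.ofNat 0, Int.ofNat 2, Int.ofNat 2, Int.ofNat 0, Int.ofNat 0, Int.ofNat 2, Int.ofNat 0, Int.ofNat 0, Int.ofNat 0, Int.ofNat 0, Int.ofNat 0, Int.ofNat 2],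
  [Int.ofNat 2, Int.ofNat 0, Int.ofNat 0, Int.ofNat 0, Int.ofNat 0, Int.ofNat 0, Int.negSucc 1, Int.ofNat 0, Int.ofNat 0, Int.ofNat 0, Int.ofNat 0, Int.ofNat 2, Int.ofNat 2, Int.ofNat 2, Int.ofNat 0, Int.ofNat 0, Int.ofNat 0, Int.ofNat 0, Int.ofNat 0, Int.ofNat 2, Int.ofNat 0, Int.ofNat 0, Int.negSucc 1, Int.ofNat 2],
  [Int.negSucc 1, Int.ofNat 0, Int.ofNat 0, Int.ofNat 0, Int.ofNat 0, Int.ofNat 0, Int.negSucc 1, Int.ofNat 0, Int.ofNat 0, Int.ofNat 0, Int.ofNat 0, Int.negSucc 1, Int.ofNat 2, Int.ofNat 2, Int.ofNat 0, Int.ofNat 0, Int.ofNat 0, Int.ofNat 0, Int.ofNat 0, Int.ofNat 2, Int.ofNat 0, Int.ofNat 0, Int.negSucc 1, Int.ofNat 2],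
  [Int.negSucc 1, Int.negSucc 1, Int.ofNat 0, Int.ofNat 0, Int.ofNat 0, Int.ofNat 0, Int.ofNat 0, Int.negSucc 1, Int.ofNat 0, Int.ofNat 0, Int.ofNat 0, Int.ofNat 0, Int.negSucc 1, Int.ofNat 2, Int.ofNat 2, Int.ofNat 0, Int.ofNat 0, Int.ofNat 0, Int.ofNat 0, Int.ofNat 0, Int.ofNat 2, Int.ofNat 0, Int.ofNat 0, Int.ofNat 2],
  [Int.ofNat 1, Int.ofNat 1, Int.negSucc 0, Int.negSucc 0, Int.negSucc 0, Int.negSucc 0, Int.ofNat 1, Int.negSucc 0, Int.ofNat 1, Int.negSucc 0, Int.negSucc 0, Int.ofNat 1, Int.negSucc 0, Int.ofNat 1, Int.ofNat 1, Int.negSucc 0, Int.negSucc 0, Int.negSucc 0, Int.ofNat 1, Int.ofNat 1, Int.ofNat 1, Int.ofNat 1, Int.negSucc 0, Int.negSucc 2],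
  [Int.negSucc 0, Int.negSucc 0, Int.negSucc 0, Int.ofNat 1, Int.negSucc 0, Int.ofNat 1, Int.negSucc 0, Int.negSucc 0, Int.ofNat 1, Int.negSucc 0, Int.ofNat 1, Int.ofNat 1, Int.negSucc 0, Int.negSucc 0, Int.negSucc 0, Int.ofNat 1, Int.ofNat 1, Int.ofNat 1, Int.ofNat 1, Int.negSucc 0, Int.ofNat 1, Int.ofNat 1, Int.negSucc 0, Int.negSucc 2],
  [Int.negSucc 1, Int.negSucc 1, Int.negSucc 1, Int.ofNat 0, Int.ofNat 0, Int.ofNat 0, Int.ofNat 0, Int.ofNat 0, Int.ofNat 0, Int.negSucc 1, Int.ofNat 0, Int.ofNat 0, Int.negSucc 1, Int.ofNat 0, Int.negSucc 1, Int.ofNat 0, Int.ofNat 2, Int.ofNat 0, Int.ofNat 0, Int.ofNat 0, Int.ofNat 0, Int.ofNat 2, Int.ofNat 0, Int.ofNat 0],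
  [Int.negSucc 1, Int.ofNat 0, Int.ofNat 0, Int.ofNat 0, Int.ofNat 0, Int.ofNat 0, Int.negSucc 1, Int.ofNat 0, Int.negSucc 1, Int.ofNat 0, Int.ofNat 0, Int.ofNat 0, Int.negSucc 1, Int.ofNat 2, Int.ofNat 0, Int.ofNat 0, Int.ofNat 0, Int.negSucc 1, Int.negSucc 1, Int.ofNat 0, Int.ofNat 2, Int.ofNat 0, Int.ofNat 0, Int.ofNat 0],
  [Int.ofNat 1, Int.negSucc 0, Int.negSucc 0, Int.ofNat 1, Int.negSucc 0, Int.ofNat 1, Int.negSucc 0, Int.ofNat 1, Int.ofNat 1, Int.negSucc 0, Int.negSucc 0, Int.ofNat 3, Int.ofNat 1, Int.ofNat 1, Int.ofNat 1, Int.negSucc 0, Int.negSucc 0, Int.negSucc 0, Int.ofNat 1, Int.ofNat 1, Int.ofNat 1, Int.ofNat 1, Int.negSucc 0, Int.negSucc 0],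
  [Int.ofNat 1, Int.negSucc 0, Int.ofNat 1, Int.ofNat 1, Int.negSucc 0, Int.negSucc 0, Int.ofNat 1, Int.ofNat 1, Int.ofNat 1, Int.ofNat 1, Int.ofNat 1, Int.ofNat 3, Int.ofNat 1, Int.ofNat 1, Int.ofNat 1, Int.ofNat 1, Int.negSucc 0, Int.negSucc 0, Int.negSucc 0, Int.ofNat 1, Int.ofNat 1, Int.ofNat 1, Int.ofNat 1, Int.negSucc 0],
  [Int.ofNat 1, Int.negSucc 0, Int.ofNat 3, Int.ofNat 1, Int.ofNat 1, Int.ofNat 1, Int.ofNat 1, Int.ofNat 1, Int.negSucc 0, Int.ofNat 1, Int.ofNat 1, Int.ofNat 1, Int.ofNat 1, Int.negSucc 0, Int.negSucc 0, Int.negSucc 0, Int.ofNat 1, Int.ofNat 1, Int.ofNat 1, Int.ofNat 1, Int.ofNat 1, Int.negSucc 0, Int.ofNat 1, Int.negSucc 0],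
  [Int.negSucc 0, Int.ofNat 1, Int.ofNat 1, Int.negSucc 0, Int.ofNat 1, Int.ofNat 1, Int.ofNat 1, Int.negSucc 0, Int.ofNat 1, Int.ofNat 1, Int.ofNat 1, Int.ofNat 3, Int.negSucc 0, Int.ofNat 1, Int.ofNat 1, Int.ofNat 1, Int.ofNat 1, Int.ofNat 1, Int.negSucc 0, Int.ofNat 1, Int.negSucc 0, Int.ofNat 1, Int.negSucc 0, Int.ofNat 1],
  [Int.ofNat 1, Int.ofNat 1, Int.negSucc 0, Int.negSucc 0, Int.ofNat 1, Int.ofNat 1, Int.ofNat 1, Int.ofNat 1, Int.ofNat 1, Int.negSucc 0, Int.negSucc 0, Int.negSucc 2, Int.negSucc 0, Int.ofNat 1, Int.ofNat 1, Int.ofNat 1, Int.ofNat 1, Int.ofNat 1, Int.ofNat 1, Int.ofNat 1, Int.negSucc 0, Int.negSucc 0, Int.negSucc 0, Int.ofNat 1],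
  [Int.negSucc 0, Int.ofNat 1, Int.ofNat 1, Int.negSucc 0, Int.negSucc 0, Int.ofNat 1, Int.ofNat 1, Int.ofNat 1, Int.ofNat 1, Int.ofNat 1, Int.negSucc 0, Int.negSucc 0, Int.negSucc 2, Int.negSucc 0, Int.ofNat 1, Int.ofNat 1, Int.ofNat 1, Int.ofNat 1, Int.ofNat 1, Int.ofNat 1, Int.ofNat 1, Int.negSucc 0, Int.negSucc 0, Int.ofNat 1],
  [Int.ofNat 2, Int.ofNat 0, Int.ofNat 0, Int.negSucc 1, Int.ofNat 0, Int.ofNat 0, Int.ofNat 0, Int.ofNat 0, Int.ofNat 2, Int.ofNat 0, Int.negSucc 1, Int.ofNat 0, Int.negSucc 1, Int.ofNat 0, Int.ofNat 0, Int.ofNat 0, Int.ofNat 2, Int.ofNat 0, Int.ofNat 2, Int.ofNat 0, Int.ofNat 0, Int.negSucc 1, Int.ofNat 0, Int.ofNat 0],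
  [Int.negSucc 1, Int.ofNat 0, Int.ofNat 0, Int.ofNat 0, Int.ofNat 0, Int.ofNat 2, Int.ofNat 0, Int.negSucc 1, Int.ofNat 0, Int.negSucc 1, Int.ofNat 0, Int.ofNat 0, Int.ofNat 0, Int.ofNat 2, Int.ofNat 0, Int.ofNat 2, Int.ofNat 0, Int.ofNat 0, Int.negSucc 1, Int.ofNat 0, Int.ofNat 2, Int.ofNat 0, Int.ofNat 0, Int.ofNat 0],
  [Int.ofNat 1, Int.negSucc 0, Int.negSucc 0, Int.negSucc 0, Int.negSucc 0, Int.ofNat 1, Int.ofNat 1, Int.negSucc 0, Int.ofNat 1, Int.negSucc 2, Int.negSucc 0, Int.ofNat 1, Int.ofNat 1, Int.ofNat 1, Int.negSucc 0, Int.ofNat 1, Int.negSucc 0, Int.negSucc 0, Int.negSucc 0, Int.ofNat 1, Int.ofNat 1, Int.ofNat 1, Int.negSucc 0, Int.negSucc 0],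
  [Int.ofNat 1, Int.ofNat 1, Int.negSucc 0, Int.negSucc 0, Int.negSucc 0, Int.negSucc 0, Int.negSucc 0, Int.negSucc 0, Int.ofNat 1, Int.ofNat 1, Int.ofNat 1, Int.negSucc 0, Int.negSucc 2, Int.negSucc 0, Int.negSucc 0, Int.ofNat 1, Int.ofNat 1, Int.negSucc 0, Int.negSucc 0, Int.ofNat 1, Int.ofNat 1, Int.ofNat 1, Int.ofNat 1, Int.negSucc 0],
  [Int.negSucc 0, Int.negSucc 0, Int.ofNat 1, Int.ofNat 1, Int.negSucc 0, Int.ofNat 1, Int.negSucc 0, Int.negSucc 0, Int.ofNat 3, Int.negSucc 0, Int.negSucc 0, Int.ofNat 1, Int.negSucc 0, Int.negSucc 0, Int.ofNat 1, Int.negSucc 0, Int.ofNat 1, Int.ofNat 1, Int.ofNat 1, Int.ofNat 1, Int.negSucc 0, Int.ofNat 1, Int.ofNat 1, Int.ofNat 1],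
  [Int.negSucc 0, Int.negSucc 0, Int.negSucc 0, Int.ofNat 1, Int.negSucc 0, Int.negSucc 0, Int.ofNat 1, Int.negSucc 0, Int.ofNat 3, Int.ofNat 1, Int.ofNat 1, Int.ofNat 1, Int.negSucc 0, Int.negSucc 0, Int.ofNat 1, Int.ofNat 1, Int.ofNat 1, Int.ofNat 1, Int.negSucc 0, Int.ofNat 1, Int.negSucc 0, Int.ofNat 1, Int.negSucc 0, Int.ofNat 1],
  [Int.ofNat 1, Int.negSucc 0, Int.negSucc 0, Int.ofNat 3, Int.negSucc 0, Int.ofNat 1, Int.ofNat 1, Int.ofNat 1, Int.negSucc 0, Int.ofNat 1, Int.negSucc 0, Int.negSucc 0, Int.negSucc 0, Int.ofNat 1, Int.ofNat 1, Int.negSucc 0, Int.negSucc 0, Int.negSucc 0, Int.negSucc 0, Int.ofNat 1, Int.ofNat 1, Int.ofNat 1, Int.ofNat 1, Int.ofNat 1],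
  [Int.ofNat 1, Int.negSucc 0, Int.ofNat 1, Int.ofNat 3, Int.negSucc 0, Int.negSucc 0, Int.negSucc 0, Int.ofNat 1, Int.negSucc 0, Int.negSucc 0, Int.ofNat 1, Int.negSucc 0, Int.negSucc 0, Int.ofNat 1, Int.ofNat 1, Int.ofNat 1, Int.negSucc 0, Int.negSucc 0, Int.ofNat 1, Int.ofNat 1, Int.ofNat 1, Int.ofNat 1, Int.negSucc 0, Int.ofNat 1],
  [Int.ofNat 0, Int.ofNat 2, Int.ofNat 0, Int.ofNat 2, Int.ofNat 0, Int.negSucc 1, Int.negSucc 1, Int.ofNat 0, Int.ofNat 0, Int.negSucc 1, Int.ofNat 0, Int.ofNat 0, Int.ofNat 0, Int.ofNat 2, Int.ofNat 0, Int.ofNat 0, Int.ofNat 0, Int.negSucc 1, Int.ofNat 2, Int.ofNat 0, Int.ofNat 0, Int.ofNat 0, Int.ofNat 0, Int.ofNat 0],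
  [Int.ofNat 0, Int.ofNat 2, Int.negSucc 1, Int.ofNat 2, Int.ofNat 0, Int.ofNat 0, Int.ofNat 2, Int.negSucc 1, Int.ofNat 0, Int.ofNat 0, Int.ofNat 0, Int.ofNat 0, Int.ofNat 0, Int.negSucc 1, Int.negSucc 1, Int.ofNat 0, Int.ofNat 2, Int.ofNat 0, Int.ofNat 0, Int.ofNat 0, Int.ofNat 0, Int.ofNat 0, Int.ofNat 0, Int.ofNat 0],
  [Int.ofNat 0, Int.negSucc 1, Int.ofNat 2, Int.ofNat 2, Int.ofNat 0, Int.ofNat 0, Int.ofNat 2, Int.negSucc 1, Int.ofNat 0, Int.ofNat 0, Int.ofNat 0, Int.ofNat 0, Int.ofNat 0, Int.negSucc 1, Int.negSucc 1, Int.ofNat 0, Int.ofNat 2, Int.ofNat 0, Int.ofNat 0, Int.ofNat 0, Int.ofNat 0, Int.ofNat 0, Int.ofNat 0, Int.ofNat 0],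
  [Int.ofNat 0, Int.ofNat 0, Int.ofNat 0, Int.ofNat 0, Int.negSucc 1, Int.ofNat 2, Int.ofNat 2, Int.ofNat 0, Int.ofNat 0, Int.ofNat 2, Int.negSucc 1, Int.ofNat 0, Int.ofNat 0, Int.ofNat 0, Int.ofNat 0, Int.ofNat 0, Int.negSucc 1, Int.negSucc 1, Int.ofNat 0, Int.ofNat 2, Int.ofNat 0, Int.ofNat 0, Int.ofNat 0, Int.ofNat 0],
  [Int.ofNat 0, Int.ofNat 0, Int.ofNat 0, Int.ofNat 0, Int.ofNat 0, Int.ofNat 2, Int.ofNat 0, Int.negSucc 1, Int.ofNat 0, Int.ofNat 2, Int.negSucc 1, Int.ofNat 0, Int.ofNat 0, Int.ofNat 2, Int.ofNat 0, Int.ofNat 0, Int.ofNat 0, Int.negSucc 1, Int.ofNat 0, Int.ofNat 0, Int.ofNat 0, Int.negSucc 1, Int.ofNat 2, Int.ofNat 0],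
  [Int.ofNat 0, Int.ofNat 0, Int.ofNat 0, Int.ofNat 0, Int.ofNat 2, Int.ofNat 0, Int.negSucc 1, Int.ofNat 0, Int.ofNat 2, Int.negSucc 1, Int.ofNat 0, Int.ofNat 0, Int.ofNat 2, Int.ofNat 0, Int.ofNat 0, Int.ofNat 0, Int.negSucc 1, Int.ofNat 0, Int.ofNat 0, Int.ofNat 0, Int.negSucc 1, Int.ofNat 2, Int.ofNat 0, Int.ofNat 0],
  [Int.ofNat 0, Int.ofNat 0, Int.ofNat 0, Int.ofNat 0, Int.ofNat 2, Int.ofNat 0, Int.negSucc 1, Int.ofNat 0, Int.ofNat 2, Int.ofNat 2, Int.ofNat 0, Int.ofNat 0, Int.ofNat 2, Int.ofNat 0, Int.ofNat 0, Int.ofNat 0, Int.negSucc 1, Int.ofNat 0, Int.ofNat 0, Int.ofNat 0, Int.negSucc 1, Int.negSucc 1, Int.ofNat 0, Int.ofNat 0],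
  [Int.ofNat 0, Int.ofNat 0, Int.ofNat 0, Int.ofNat 0, Int.negSucc 1, Int.ofNat 0, Int.ofNat 2, Int.ofNat 0, Int.negSucc 1, Int.negSucc 1, Int.ofNat 0, Int.ofNat 0, Int.negSucc 1, Int.ofNat 0, Int.ofNat 0, Int.ofNat 0, Int.ofNat 2, Int.ofNat 0, Int.ofNat 0, Int.ofNat 0, Int.negSucc 1, Int.negSucc 1, Int.ofNat 0, Int.ofNat 0],
  [Int.ofNat 0, Int.ofNat 0, Int.ofNat 0, Int.ofNat 0, Int.ofNat 0, Int.ofNat 0, Int.negSucc 1, Int.negSucc 1, Int.negSucc 1, Int.ofNat 2, Int.negSucc 1, Int.ofNat 0, Int.ofNat 0, Int.negSucc 1, Int.ofNat 0, Int.ofNat 0, Int.negSucc 1, Int.ofNat 0, Int.ofNat 2, Int.ofNat 0, Int.ofNat 0, Int.ofNat 0, Int.ofNat 0, Int.ofNat 0],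
  [Int.ofNat 0, Int.ofNat 0, Int.ofNat 0, Int.ofNat 0, Int.ofNat 0, Int.ofNat 0, Int.negSucc 1, Int.ofNat 2, Int.negSucc 1, Int.negSucc 1, Int.ofNat 2, Int.ofNat 0, Int.ofNat 0, Int.negSucc 1, Int.ofNat 0, Int.ofNat 0, Int.negSucc 1, Int.ofNat 0, Int.negSucc 1, Int.ofNat 0, Int.ofNat 0, Int.ofNat 0, Int.ofNat 0, Int.ofNat 0],
  [Int.ofNat 0, Int.ofNat 0, Int.ofNat 0, Int.ofNat 0, Int.ofNat 0, Int.ofNat 0, Int.ofNat 0, Int.negSucc 1, Int.ofNat 2, Int.negSucc 1, Int.negSucc 1, Int.ofNat 2, Int.ofNat 0, Int.ofNat 0, Int.negSucc 1, Int.ofNat 0, Int.ofNat 0, Int.negSucc 1, Int.ofNat 0, Int.negSucc 1, Int.ofNat 0, Int.ofNat 0, Int.ofNat 0, Int.ofNat 0],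
  [Int.ofNat 0, Int.ofNat 0, Int.ofNat 0, Int.ofNat 2, Int.ofNat 0, Int.ofNat 2, Int.ofNat 2, Int.ofNat 0, Int.ofNat 0, Int.ofNat 0, Int.ofNat 0, Int.ofNat 0, Int.negSucc 1, Int.ofNat 0, Int.ofNat 0, Int.ofNat 2, Int.ofNat 0, Int.ofNat 0, Int.negSucc 1, Int.ofNat 0, Int.ofNat 2, Int.ofNat 2, Int.ofNat 0, Int.ofNat 0],
  [Int.ofNat 2, Int.ofNat 0, Int.ofNat 2, Int.ofNat 2, Int.ofNat 0, Int.ofNat 0, Int.ofNat 0, Int.ofNat 0, Int.ofNat 0, Int.negSucc 1, Int.ofNat 0, Int.ofNat 0, Int.ofNat 2, Int.ofNat 0, Int.ofNat 0, Int.negSucc 1, Int.ofNat 0, Int.ofNat 2, Int.ofNat 2, Int.ofNat 0, Int.ofNat 0, Int.ofNat 0, Int.ofNat 0, Int.ofNat 0],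
  [Int.ofNat 0, Int.ofNat 2, Int.ofNat 0, Int.ofNat 0, Int.ofNat 0, Int.negSucc 1, Int.ofNat 0, Int.ofNat 0, Int.negSucc 1, Int.ofNat 0, Int.ofNat 2, Int.negSucc 1, Int.ofNat 0, Int.ofNat 0, Int.negSucc 1, Int.ofNat 0, Int.ofNat 0, Int.ofNat 0, Int.ofNat 0, Int.ofNat 0, Int.ofNat 2, Int.ofNat 0, Int.ofNat 0, Int.ofNat 2],
  [Int.ofNat 0, Int.ofNat 0, Int.ofNat 0, Int.ofNat 0, Int.ofNat 0, Int.ofNat 0, Int.ofNat 0, Int.ofNat 2, Int.ofNat 0, Int.ofNat 0, Int.ofNat 2, Int.ofNat 0, Int.ofNat 0, Int.ofNat 0, Int.ofNat 0, Int.ofNat 0, Int.negSucc 1, Int.negSucc 1, Int.ofNat 2, Int.negSucc 1, Int.ofNat 0, Int.negSucc 1, Int.ofNat 0, Int.ofNat 2],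
  [Int.ofNat 1, Int.ofNat 1, Int.ofNat 1, Int.ofNat 1, Int.ofNat 1, Int.ofNat 1, Int.ofNat 1, Int.ofNat 3, Int.negSucc 0, Int.negSucc 0, Int.ofNat 1, Int.negSucc 0, Int.negSucc 0, Int.ofNat 1, Int.ofNat 1, Int.negSucc 0, Int.negSucc 0, Int.negSucc 0, Int.ofNat 1, Int.negSucc 0, Int.negSucc 0, Int.negSucc 0, Int.ofNat 1, Int.negSucc 0],
  [Int.ofNat 1, Int.ofNat 1, Int.negSucc 0, Int.ofNat 1, Int.ofNat 1, Int.negSucc 0, Int.negSucc 0, Int.ofNat 3, Int.negSucc 0, Int.ofNat 1, Int.negSucc 0, Int.negSucc 0, Int.negSucc 0, Int.ofNat 1, Int.ofNat 1, Int.ofNat 1, Int.negSucc 0, Int.negSucc 0, Int.negSucc 0, Int.negSucc 0, Int.negSucc 0, Int.negSucc 0, Int.negSucc 0, Int.negSucc 0],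
  [Int.negSucc 0, Int.negSucc 0, Int.negSucc 0, Int.negSucc 0, Int.ofNat 1, Int.negSucc 0, Int.negSucc 0, Int.ofNat 1, Int.negSucc 0, Int.negSucc 0, Int.ofNat 1, Int.ofNat 3, Int.ofNat 1, Int.ofNat 1, Int.negSucc 0, Int.negSucc 0, Int.negSucc 0, Int.negSucc 0, Int.ofNat 1, Int.negSucc 0, Int.ofNat 1, Int.ofNat 1, Int.negSucc 0, Int.negSucc 0],
  [Int.negSucc 0, Int.negSucc 0, Int.ofNat 3, Int.negSucc 0, Int.negSucc 0, Int.negSucc 0, Int.negSucc 0, Int.ofNat 1, Int.ofNat 1, Int.negSucc 0, Int.negSucc 0, Int.negSucc 0, Int.ofNat 1, Int.ofNat 1, Int.ofNat 1, Int.negSucc 0, Int.ofNat 1, Int.ofNat 1, Int.negSucc 0, Int.negSucc 0, Int.negSucc 0, Int.ofNat 1, Int.negSucc 0, Int.negSucc 0],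
  [Int.ofNat 1, Int.negSucc 0, Int.negSucc 2, Int.negSucc 0, Int.negSucc 0, Int.negSucc 0, Int.negSucc 0, Int.negSucc 0, Int.ofNat 1, Int.ofNat 1, Int.ofNat 1, Int.ofNat 1, Int.ofNat 1, Int.ofNat 1, Int.ofNat 1, Int.negSucc 0, Int.ofNat 1, Int.ofNat 1, Int.ofNat 1, Int.negSucc 0, Int.negSucc 0, Int.negSucc 0, Int.negSucc 0, Int.negSucc 0],
  [Int.negSucc 0, Int.ofNat 1, Int.negSucc 0, Int.negSucc 2, Int.negSucc 0, Int.negSucc 0, Int.negSucc 0, Int.negSucc 0, Int.negSucc 0, Int.ofNat 1, Int.ofNat 1, Int.ofNat 1, Int.ofNat 1, Int.ofNat 1, Int.ofNat 1, Int.ofNat 1, Int.negSucc 0, Int.ofNat 1, Int.ofNat 1, Int.ofNat 1, Int.negSucc 0, Int.negSucc 0, Int.negSucc 0, Int.negSucc 0],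
  [Int.ofNat 0, Int.negSucc 1, Int.ofNat 0, Int.negSucc 1, Int.ofNat 0, Int.ofNat 0, Int.ofNat 0, Int.ofNat 0, Int.negSucc 1, Int.ofNat 0, Int.ofNat 0, Int.ofNat 0, Int.ofNat 0, Int.ofNat 2, Int.ofNat 2, Int.ofNat 0, Int.ofNat 0, Int.ofNat 2, Int.ofNat 0, Int.ofNat 2, Int.negSucc 1, Int.ofNat 0, Int.ofNat 0, Int.ofNat 0],
  [Int.negSucc 1, Int.ofNat 0, Int.ofNat 0, Int.ofNat 0, Int.ofNat 0, Int.negSucc 1, Int.ofNat 0, Int.ofNat 0, Int.ofNat 0, Int.ofNat 0, Int.ofNat 2, Int.ofNat 2, Int.ofNat 0, Int.ofNat 0, Int.ofNat 2, Int.ofNat 0, Int.ofNat 2, Int.negSucc 1, Int.ofNat 0, Int.ofNat 0, Int.ofNat 0, Int.negSucc 1, Int.ofNat 0, Int.ofNat 0],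
  [Int.ofNat 1, Int.negSucc 0, Int.negSucc 0, Int.ofNat 1, Int.negSucc 0, Int.negSucc 0, Int.ofNat 1, Int.ofNat 1, Int.negSucc 0, Int.negSucc 0, Int.ofNat 1, Int.ofNat 1, Int.negSucc 0, Int.negSucc 0, Int.ofNat 3, Int.negSucc 0, Int.ofNat 1, Int.negSucc 0, Int.negSucc 0, Int.ofNat 1, Int.negSucc 0, Int.negSucc 0, Int.negSucc 0, Int.negSucc 0],
  [Int.ofNat 1, Int.ofNat 1, Int.negSucc 0, Int.ofNat 1, Int.negSucc 0, Int.ofNat 1, Int.negSucc 0, Int.ofNat 1, Int.negSucc 0, Int.negSucc 0, Int.negSucc 0, Int.negSucc 0, Int.negSucc 0, Int.ofNat 1, Int.negSucc 0, Int.negSucc 0, Int.negSucc 0, Int.ofNat 3, Int.negSucc 0, Int.ofNat 1, Int.negSucc 0, Int.negSucc 0, Int.ofNat 1, Int.negSucc 0],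
  [Int.negSucc 0, Int.negSucc 0, Int.ofNat 1, Int.negSucc 0, Int.negSucc 0, Int.negSucc 0, Int.negSucc 0, Int.ofNat 1, Int.ofNat 1, Int.ofNat 1, Int.ofNat 1, Int.ofNat 1, Int.ofNat 1, Int.ofNat 1, Int.negSucc 2, Int.ofNat 1, Int.negSucc 0, Int.ofNat 1, Int.ofNat 1, Int.ofNat 1, Int.ofNat 1, Int.negSucc 0, Int.ofNat 1, Int.ofNat 1],
  [Int.negSucc 0, Int.negSucc 0, Int.negSucc 0, Int.negSucc 0, Int.negSucc 0, Int.ofNat 1, Int.ofNat 1, Int.ofNat 1, Int.ofNat 1, Int.negSucc 0, Int.negSucc 0, Int.ofNat 1, Int.ofNat 1, Int.ofNat 1, Int.negSucc 2, Int.negSucc 0, Int.negSucc 0, Int.ofNat 1, Int.negSucc 0, Int.ofNat 1, Int.ofNat 1, Int.negSucc 0, Int.negSucc 0, Int.ofNat 1],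
  [Int.ofNat 1, Int.ofNat 1, Int.negSucc 0, Int.ofNat 1, Int.ofNat 1, Int.negSucc 2, Int.negSucc 0, Int.negSucc 0, Int.negSucc 0, Int.ofNat 1, Int.negSucc 0, Int.negSucc 0, Int.negSucc 0, Int.negSucc 0, Int.negSucc 0, Int.ofNat 1, Int.negSucc 0, Int.ofNat 1, Int.ofNat 1, Int.negSucc 0, Int.ofNat 1, Int.ofNat 1, Int.negSucc 0, Int.ofNat 1],
  [Int.ofNat 1, Int.ofNat 1, Int.ofNat 1, Int.ofNat 1, Int.ofNat 1, Int.ofNat 3, Int.ofNat 1, Int.negSucc 0, Int.negSucc 0, Int.negSucc 0, Int.ofNat 1, Int.negSucc 0, Int.negSucc 0, Int.negSucc 0, Int.negSucc 0, Int.negSucc 0, Int.negSucc 0, Int.ofNat 1, Int.negSucc 0, Int.negSucc 0, Int.ofNat 1, Int.ofNat 1, Int.ofNat 1, Int.ofNat 1],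
  [Int.ofNat 1, Int.ofNat 1, Int.ofNat 1, Int.negSucc 0, Int.ofNat 1, Int.ofNat 1, Int.ofNat 1, Int.negSucc 0, Int.ofNat 1, Int.negSucc 0, Int.ofNat 1, Int.ofNat 1, Int.ofNat 1, Int.negSucc 0, Int.negSucc 2, Int.negSucc 0, Int.negSucc 0, Int.negSucc 0, Int.ofNat 1, Int.negSucc 0, Int.ofNat 1, Int.ofNat 1, Int.ofNat 1, Int.ofNat 1],
  [Int.ofNat 1, Int.ofNat 1, Int.ofNat 1, Int.negSucc 0, Int.ofNat 1, Int.ofNat 1, Int.ofNat 1, Int.ofNat 1, Int.negSucc 0, Int.ofNat 1, Int.negSucc 0, Int.negSucc 0, Int.ofNat 1, Int.negSucc 0, Int.negSucc 0, Int.negSucc 0, Int.negSucc 0, Int.ofNat 1, Int.ofNat 1, Int.ofNat 1, Int.ofNat 1, Int.ofNat 1, Int.negSucc 2, Int.ofNat 1],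
  [Int.ofNat 1, Int.ofNat 1, Int.ofNat 1, Int.negSucc 0, Int.ofNat 3, Int.ofNat 1, Int.negSucc 0, Int.negSucc 0, Int.negSucc 0, Int.ofNat 1, Int.negSucc 0, Int.negSucc 0, Int.ofNat 1, Int.ofNat 1, Int.negSucc 0, Int.negSucc 0, Int.ofNat 1, Int.ofNat 1, Int.ofNat 1, Int.negSucc 0, Int.ofNat 1, Int.negSucc 0, Int.negSucc 0, Int.ofNat 1],
  [Int.ofNat 1, Int.negSucc 0, Int.negSucc 0, Int.ofNat 1, Int.ofNat 1, Int.ofNat 1, Int.negSucc 0, Int.ofNat 3, Int.ofNat 1, Int.negSucc 0, Int.negSucc 0, Int.negSucc 0, Int.ofNat 1, Int.negSucc 0, Int.negSucc 0, Int.ofNat 1, Int.ofNat 1, Int.negSucc 0, Int.negSucc 0, Int.ofNat 1, Int.ofNat 1, Int.ofNat 1, Int.negSucc 0, Int.ofNat 1],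
  [Int.negSucc 0, Int.ofNat 1, Int.ofNat 1, Int.ofNat 1, Int.ofNat 1, Int.ofNat 1, Int.negSucc 2, Int.ofNat 1, Int.ofNat 1, Int.negSucc 0, Int.negSucc 0, Int.negSucc 0, Int.ofNat 1, Int.negSucc 0, Int.negSucc 0, Int.ofNat 1, Int.ofNat 1, Int.negSucc 0, Int.negSucc 0, Int.negSucc 0, Int.ofNat 1, Int.negSucc 0, Int.negSucc 0, Int.negSucc 0],
  [Int.ofNat 1, Int.ofNat 1, Int.ofNat 1, Int.ofNat 1, Int.ofNat 1, Int.negSucc 2, Int.ofNat 1, Int.ofNat 1, Int.negSucc 0, Int.negSucc 0, Int.negSucc 0, Int.ofNat 1, Int.negSucc 0, Int.negSucc 0, Int.ofNat 1, Int.ofNat 1, Int.negSucc 0, Int.negSucc 0, Int.negSucc 0, Int.ofNat 1, Int.negSucc 0, Int.negSucc 0, Int.negSucc 0, Int.negSucc 0],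
  [Int.negSucc 0, Int.ofNat 1, Int.negSucc 0, Int.ofNat 1, Int.ofNat 1, Int.negSucc 2, Int.ofNat 1, Int.negSucc 0, Int.negSucc 0, Int.ofNat 1, Int.ofNat 1, Int.negSucc 0, Int.negSucc 0, Int.negSucc 0, Int.ofNat 1, Int.ofNat 1, Int.negSucc 0, Int.negSucc 0, Int.ofNat 1, Int.ofNat 1, Int.negSucc 0, Int.ofNat 1, Int.negSucc 0, Int.negSucc 0],
  [Int.ofNat 1, Int.negSucc 0, Int.ofNat 1, Int.negSucc 0, Int.negSucc 0, Int.negSucc 2, Int.negSucc 0, Int.negSucc 0, Int.ofNat 1, Int.negSucc 0, Int.ofNat 1, Int.negSucc 0, Int.ofNat 1, Int.ofNat 1, Int.ofNat 1, Int.ofNat 1, Int.ofNat 1, Int.negSucc 0, Int.negSucc 0, Int.ofNat 1, Int.negSucc 0, Int.ofNat 1, Int.negSucc 0, Int.negSucc 0],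
  [Int.ofNat 1, Int.ofNat 1, Int.negSucc 0, Int.negSucc 0, Int.negSucc 0, Int.ofNat 1, Int.negSucc 0, Int.negSucc 0, Int.negSucc 0, Int.ofNat 1, Int.ofNat 1, Int.ofNat 1, Int.ofNat 1, Int.ofNat 1, Int.ofNat 1, Int.ofNat 1, Int.ofNat 1, Int.negSucc 0, Int.negSucc 0, Int.negSucc 0, Int.negSucc 2, Int.negSucc 0, Int.negSucc 0, Int.negSucc 0],
  [Int.negSucc 0, Int.ofNat 1, Int.ofNat 1, Int.negSucc 0, Int.negSucc 0, Int.ofNat 1, Int.negSucc 0, Int.ofNat 1, Int.negSucc 0, Int.negSucc 0, Int.negSucc 0, Int.negSucc 0, Int.ofNat 1, Int.ofNat 1, Int.ofNat 1, Int.ofNat 1, Int.ofNat 1, Int.negSucc 0, Int.ofNat 1, Int.negSucc 0, Int.negSucc 2, Int.ofNat 1, Int.negSucc 0, Int.negSucc 0],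
  [Int.negSucc 0, Int.negSucc 0, Int.ofNat 1, Int.ofNat 1, Int.negSucc 0, Int.negSucc 0, Int.ofNat 1, Int.negSucc 0, Int.ofNat 1, Int.negSucc 0, Int.negSucc 0, Int.negSucc 0, Int.negSucc 0, Int.ofNat 1, Int.ofNat 1, Int.ofNat 1, Int.ofNat 1, Int.ofNat 1, Int.negSucc 0, Int.ofNat 1, Int.negSucc 0, Int.negSucc 2, Int.ofNat 1, Int.negSucc 0],
  [Int.ofNat 0, Int.ofNat 0, Int.negSucc 1, Int.ofNat 0, Int.negSucc 1, Int.negSucc 1, Int.ofNat 2, Int.ofNat 0, Int.ofNat 2, Int.ofNat 0, Int.ofNat 0, Int.ofNat 0, Int.ofNat 0, Int.ofNat 0, Int.ofNat 0, Int.ofNat 2, Int.ofNat 0, Int.ofNat 0, Int.ofNat 0, Int.ofNat 2, Int.ofNat 0, Int.negSucc 1, Int.ofNat 0, Int.ofNat 0],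
  [Int.ofNat 0, Int.negSucc 1, Int.negSucc 1, Int.ofNat 2, Int.ofNat 0, Int.ofNat 2, Int.ofNat 0, Int.ofNat 0, Int.ofNat 0, Int.ofNat 0, Int.ofNat 0, Int.ofNat 0, Int.ofNat 2, Int.ofNat 0, Int.ofNat 0, Int.ofNat 0, Int.ofNat 2, Int.ofNat 0, Int.negSucc 1, Int.ofNat 0, Int.ofNat 0, Int.ofNat 0, Int.negSucc 1, Int.ofNat 0],
  [Int.negSucc 1, Int.ofNat 0, Int.ofNat 0, Int.ofNat 0, Int.ofNat 0, Int.ofNat 0, Int.ofNat 0, Int.ofNat 0, Int.ofNat 0, Int.ofNat 0, Int.ofNat 0, Int.ofNat 0, Int.ofNat 2, Int.ofNat 0, Int.negSucc 1, Int.ofNat 0, Int.ofNat 2, Int.negSucc 1, Int.negSucc 1, Int.ofNat 0, Int.ofNat 0, Int.ofNat 0, Int.negSucc 1, Int.negSucc 1],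
  [Int.negSucc 1, Int.ofNat 0, Int.ofNat 0, Int.ofNat 0, Int.negSucc 1, Int.ofNat 0, Int.ofNat 0, Int.ofNat 0, Int.ofNat 2, Int.ofNat 0, Int.ofNat 0, Int.negSucc 1, Int.ofNat 0, Int.ofNat 2, Int.negSucc 1, Int.ofNat 0, Int.ofNat 0, Int.negSucc 1, Int.ofNat 0, Int.ofNat 0, Int.ofNat 0, Int.ofNat 0, Int.ofNat 0, Int.negSucc 1],
  [Int.ofNat 0, Int.negSucc 1, Int.negSucc 1, Int.ofNat 2, Int.negSucc 1, Int.ofNat 2, Int.ofNat 0, Int.ofNat 0, Int.ofNat 2, Int.ofNat 0, Int.ofNat 0, Int.negSucc 1, Int.ofNat 0, Int.ofNat 2, Int.ofNat 0, Int.ofNat 0, Int.ofNat 0, Int.ofNat 0, Int.ofNat 0, Int.ofNat 0, Int.ofNat 0, Int.ofNat 0, Int.ofNat 0, Int.ofNat 0],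
  [Int.ofNat 0, Int.negSucc 1, Int.ofNat 2, Int.ofNat 2, Int.negSucc 1, Int.negSucc 1, Int.ofNat 0, Int.ofNat 0, Int.ofNat 2, Int.ofNat 0, Int.ofNat 0, Int.negSucc 1, Int.ofNat 0, Int.ofNat 2, Int.ofNat 0, Int.ofNat 0, Int.ofNat 0, Int.ofNat 0, Int.ofNat 0, Int.ofNat 0, Int.ofNat 0, Int.ofNat 0, Int.ofNat 0, Int.ofNat 0],
  [Int.ofNat 0, Int.ofNat 0, Int.negSucc 1, Int.ofNat 2, Int.ofNat 0, Int.ofNat 0, Int.ofNat 0, Int.ofNat 2, Int.negSucc 1, Int.ofNat 0, Int.ofNat 2, Int.ofNat 0, Int.ofNat 0, Int.negSucc 1, Int.ofNat 0, Int.ofNat 0, Int.ofNat 0, Int.ofNat 0, Int.ofNat 0, Int.ofNat 2, Int.ofNat 0, Int.negSucc 1, Int.ofNat 0, Int.ofNat 0],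
  [Int.ofNat 0, Int.ofNat 0, Int.ofNat 0, Int.ofNat 0, Int.ofNat 0, Int.ofNat 0, Int.ofNat 2, Int.negSucc 1, Int.ofNat 0, Int.ofNat 0, Int.ofNat 0, Int.negSucc 1, Int.negSucc 1, Int.ofNat 2, Int.ofNat 0, Int.ofNat 2, Int.ofNat 2, Int.ofNat 0, Int.ofNat 0, Int.ofNat 0, Int.negSucc 1, Int.ofNat 0, Int.ofNat 0, Int.ofNat 0],
  [Int.ofNat 0, Int.ofNat 0, Int.ofNat 0, Int.ofNat 0, Int.ofNat 0, Int.ofNat 0, Int.ofNat 2, Int.ofNat 2, Int.ofNat 0, Int.ofNat 0, Int.ofNat 0, Int.ofNat 2, Int.negSucc 1, Int.ofNat 2, Int.ofNat 0, Int.ofNat 2, Int.ofNat 2, Int.ofNat 0, Int.ofNat 0, Int.ofNat 0, Int.negSucc 1, Int.ofNat 0, Int.ofNat 0, Int.ofNat 0],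
  [Int.ofNat 0, Int.ofNat 0, Int.ofNat 0, Int.ofNat 0, Int.ofNat 0, Int.ofNat 0, Int.ofNat 0, Int.ofNat 2, Int.ofNat 2, Int.ofNat 0, Int.ofNat 0, Int.ofNat 0, Int.ofNat 2, Int.negSucc 1, Int.ofNat 2, Int.ofNat 0, Int.ofNat 2, Int.ofNat 2, Int.ofNat 0, Int.ofNat 0, Int.ofNat 0, Int.negSucc 1, Int.ofNat 0, Int.ofNat 0],
  [Int.ofNat 0, Int.ofNat 0, Int.ofNat 0, Int.negSucc 1, Int.ofNat 0, Int.negSucc 1, Int.ofNat 0, Int.ofNat 2, Int.ofNat 0, Int.ofNat 0, Int.ofNat 0, Int.negSucc 1, Int.ofNat 0, Int.negSucc 1, Int.ofNat 0, Int.ofNat 0, Int.ofNat 2, Int.ofNat 0, Int.negSucc 1, Int.ofNat 0, Int.ofNat 0, Int.negSucc 1, Int.ofNat 0, Int.ofNat 0],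
  [Int.negSucc 1, Int.ofNat 0, Int.negSucc 1, Int.ofNat 0, Int.ofNat 2, Int.ofNat 0, Int.ofNat 0, Int.ofNat 0, Int.negSucc 1, Int.ofNat 0, Int.negSucc 1, Int.ofNat 0, Int.ofNat 0, Int.ofNat 2, Int.ofNat 0, Int.negSucc 1, Int.ofNat 0, Int.ofNat 0, Int.negSucc 1, Int.ofNat 0, Int.ofNat 0, Int.ofNat 0, Int.ofNat 0, Int.ofNat 0],
  [Int.ofNat 0, Int.negSucc 1, Int.ofNat 0, Int.ofNat 0, Int.ofNat 0, Int.ofNat 0, Int.ofNat 0, Int.ofNat 0, Int.ofNat 0, Int.ofNat 2, Int.ofNat 0, Int.ofNat 2, Int.ofNat 2, Int.ofNat 0, Int.ofNat 0, Int.ofNat 0, Int.negSucc 1, Int.ofNat 0, Int.ofNat 0, Int.ofNat 0, Int.ofNat 2, Int.ofNat 0, Int.negSucc 1, Int.negSucc 1],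
  [Int.ofNat 0, Int.ofNat 0, Int.ofNat 0, Int.ofNat 0, Int.ofNat 0, Int.ofNat 0, Int.ofNat 0, Int.ofNat 0, Int.ofNat 2, Int.ofNat 0, Int.ofNat 2, Int.ofNat 0, Int.ofNat 2, Int.negSucc 1, Int.negSucc 1, Int.ofNat 0, Int.ofNat 0, Int.ofNat 0, Int.negSucc 1, Int.ofNat 2, Int.ofNat 0, Int.ofNat 0, Int.ofNat 0, Int.negSucc 1],
  [Int.negSucc 0, Int.negSucc 0, Int.negSucc 0, Int.ofNat 1, Int.ofNat 1, Int.ofNat 1, Int.negSucc 0, Int.negSucc 0, Int.ofNat 1, Int.negSucc 0, Int.ofNat 1, Int.negSucc 0, Int.ofNat 1, Int.negSucc 0, Int.negSucc 0, Int.negSucc 0, Int.ofNat 1, Int.ofNat 1, Int.negSucc 2, Int.ofNat 1, Int.negSucc 0, Int.negSucc 0, Int.ofNat 1, Int.ofNat 1],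
  [Int.negSucc 0, Int.negSucc 0, Int.ofNat 1, Int.ofNat 1, Int.ofNat 1, Int.negSucc 0, Int.ofNat 1, Int.negSucc 0, Int.ofNat 1, Int.ofNat 1, Int.negSucc 0, Int.negSucc 0, Int.ofNat 1, Int.negSucc 0, Int.negSucc 0, Int.ofNat 1, Int.ofNat 1, Int.ofNat 1, Int.ofNat 3, Int.ofNat 1, Int.negSucc 0, Int.negSucc 0, Int.negSucc 0, Int.ofNat 1],
  [Int.ofNat 1, Int.ofNat 1, Int.ofNat 3, Int.ofNat 1, Int.negSucc 0, Int.negSucc 0, Int.ofNat 1, Int.ofNat 1, Int.negSucc 0, Int.ofNat 1, Int.ofNat 1, Int.negSucc 0, Int.ofNat 1, Int.negSucc 0, Int.negSucc 0, Int.negSucc 0, Int.negSucc 0, Int.negSucc 0, Int.negSucc 0, Int.ofNat 1, Int.ofNat 1, Int.negSucc 0, Int.ofNat 1, Int.ofNat 1],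
  [Int.ofNat 1, Int.ofNat 1, Int.negSucc 2, Int.ofNat 1, Int.negSucc 0, Int.ofNat 1, Int.negSucc 0, Int.ofNat 1, Int.negSucc 0, Int.negSucc 0, Int.negSucc 0, Int.negSucc 0, Int.ofNat 1, Int.negSucc 0, Int.negSucc 0, Int.ofNat 1, Int.negSucc 0, Int.negSucc 0, Int.ofNat 1, Int.ofNat 1, Int.ofNat 1, Int.negSucc 0, Int.negSucc 0, Int.ofNat 1],
  [Int.negSucc 0, Int.negSucc 0, Int.ofNat 3, Int.ofNat 1, Int.ofNat 1, Int.ofNat 1, Int.negSucc 0, Int.ofNat 1, Int.negSucc 0, Int.negSucc 0, Int.negSucc 0, Int.negSucc 0, Int.ofNat 1, Int.ofNat 1, Int.negSucc 0, Int.ofNat 1, Int.ofNat 1, Int.negSucc 0, Int.ofNat 1, Int.ofNat 1, Int.ofNat 1, Int.negSucc 0, Int.ofNat 1, Int.negSucc 0],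
  [Int.negSucc 0, Int.ofNat 1, Int.negSucc 0, Int.ofNat 1, Int.ofNat 3, Int.negSucc 0, Int.negSucc 0, Int.ofNat 1, Int.ofNat 1, Int.ofNat 1, Int.ofNat 1, Int.ofNat 1, Int.negSucc 0, Int.negSucc 0, Int.negSucc 0, Int.ofNat 1, Int.ofNat 1, Int.negSucc 0, Int.ofNat 1, Int.ofNat 1, Int.negSucc 0, Int.ofNat 1, Int.negSucc 0, Int.negSucc 0],
  [Int.ofNat 0, Int.negSucc 1, Int.ofNat 0, Int.ofNat 2, Int.ofNat 2, Int.ofNat 0, Int.negSucc 1, Int.ofNat 0, Int.ofNat 0, Int.ofNat 0, Int.ofNat 0, Int.ofNat 0, Int.negSucc 1, Int.negSucc 1, Int.ofNat 0, Int.ofNat 0, Int.ofNat 0, Int.ofNat 0, Int.ofNat 0, Int.ofNat 0, Int.negSucc 1, Int.ofNat 0, Int.negSucc 1, Int.ofNat 0],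
  [Int.negSucc 1, Int.ofNat 0, Int.negSucc 1, Int.ofNat 0, Int.negSucc 1, Int.ofNat 0, Int.ofNat 2, Int.ofNat 2, Int.ofNat 0, Int.negSucc 1, Int.ofNat 0, Int.ofNat 0, Int.ofNat 0, Int.ofNat 0, Int.ofNat 0, Int.negSucc 1, Int.negSucc 1, Int.ofNat 0, Int.ofNat 0, Int.ofNat 0, Int.ofNat 0, Int.ofNat 0, Int.ofNat 0, Int.ofNat 0],
  [Int.ofNat 0, Int.negSucc 1, Int.ofNat 0, Int.ofNat 0, Int.ofNat 0, Int.ofNat 0, Int.ofNat 0, Int.ofNat 0, Int.ofNat 0, Int.ofNat 0, Int.ofNat 2, Int.ofNat 0, Int.ofNat 0, Int.ofNat 2, Int.ofNat 0, Int.ofNat 0, Int.ofNat 0, Int.ofNat 0, Int.ofNat 0, Int.negSucc 1, Int.ofNat 2, Int.negSucc 1, Int.ofNat 2, Int.negSucc 1],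
  [Int.negSucc 1, Int.ofNat 0, Int.ofNat 0, Int.ofNat 0, Int.ofNat 0, Int.ofNat 0, Int.ofNat 0, Int.ofNat 0, Int.ofNat 0, Int.ofNat 2, Int.ofNat 0, Int.ofNat 0, Int.ofNat 2, Int.ofNat 0, Int.ofNat 0, Int.ofNat 0, Int.ofNat 0, Int.ofNat 0, Int.negSucc 1, Int.ofNat 2, Int.negSucc 1, Int.ofNat 2, Int.ofNat 0, Int.negSucc 1],
  [Int.ofNat 2, Int.ofNat 0, Int.ofNat 0, Int.ofNat 0, Int.ofNat 0, Int.ofNat 0, Int.ofNat 0, Int.ofNat 0, Int.ofNat 0, Int.negSucc 1, Int.ofNat 0, Int.ofNat 0, Int.ofNat 2, Int.ofNat 0, Int.ofNat 0, Int.ofNat 0, Int.ofNat 0, Int.ofNat 0, Int.ofNat 2, Int.ofNat 2, Int.negSucc 1, Int.negSucc 1, Int.ofNat 0, Int.negSucc 1],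
  [Int.negSucc 1, Int.ofNat 0, Int.ofNat 0, Int.ofNat 0, Int.ofNat 0, Int.ofNat 0, Int.ofNat 0, Int.ofNat 0, Int.ofNat 0, Int.ofNat 2, Int.ofNat 0, Int.ofNat 0, Int.negSucc 1, Int.ofNat 0, Int.ofNat 0, Int.ofNat 0, Int.ofNat 0, Int.ofNat 0, Int.negSucc 1, Int.ofNat 2, Int.negSucc 1, Int.negSucc 1, Int.ofNat 0, Int.negSucc 1],
  [Int.negSucc 1, Int.ofNat 0, Int.negSucc 1, Int.ofNat 0, Int.ofNat 0, Int.ofNat 0, Int.ofNat 0, Int.negSucc 1, Int.ofNat 2, Int.ofNat 0, Int.negSucc 1, Int.ofNat 0, Int.ofNat 0, Int.ofNat 0, Int.ofNat 2, Int.ofNat 0, Int.negSucc 1, Int.ofNat 0, Int.ofNat 0, Int.ofNat 0, Int.ofNat 0, Int.ofNat 0, Int.ofNat 0, Int.negSucc 1],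
  [Int.ofNat 2, Int.ofNat 0, Int.ofNat 2, Int.ofNat 0, Int.ofNat 0, Int.ofNat 0, Int.ofNat 0, Int.ofNat 2, Int.ofNat 2, Int.ofNat 0, Int.ofNat 2, Int.ofNat 0, Int.ofNat 0, Int.ofNat 0, Int.ofNat 2, Int.ofNat 0, Int.negSucc 1, Int.ofNat 0, Int.ofNat 0, Int.ofNat 0, Int.ofNat 0, Int.ofNat 0, Int.ofNat 0, Int.negSucc 1],
  [Int.ofNat 0, Int.ofNat 2, Int.ofNat 0, Int.ofNat 2, Int.ofNat 0, Int.ofNat 0, Int.ofNat 0, Int.ofNat 0, Int.ofNat 2, Int.ofNat 2, Int.ofNat 0, Int.ofNat 2, Int.ofNat 0, Int.ofNat 0, Int.ofNat 0, Int.ofNat 2, Int.ofNat 0, Int.negSucc 1, Int.ofNat 0, Int.ofNat 0, Int.ofNat 0, Int.ofNat 0, Int.ofNat 0, Int.negSucc 1],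
  [Int.ofNat 0, Int.negSucc 1, Int.ofNat 0, Int.ofNat 2, Int.ofNat 0, Int.ofNat 0, Int.ofNat 0, Int.ofNat 0, Int.ofNat 0, Int.ofNat 0, Int.negSucc 1, Int.ofNat 0, Int.negSucc 1, Int.ofNat 0, Int.ofNat 0, Int.ofNat 0, Int.ofNat 0, Int.negSucc 1, Int.negSucc 1, Int.ofNat 0, Int.negSucc 1, Int.ofNat 0, Int.ofNat 0, Int.ofNat 2],
  [Int.ofNat 2, Int.ofNat 0, Int.ofNat 0, Int.ofNat 0, Int.ofNat 0, Int.ofNat 0, Int.ofNat 0, Int.negSucc 1, Int.ofNat 0, Int.negSucc 1, Int.ofNat 0, Int.ofNat 0, Int.ofNat 0, Int.ofNat 0, Int.negSucc 1, Int.negSucc 1, Int.ofNat 0, Int.negSucc 1, Int.ofNat 0, Int.ofNat 0, Int.ofNat 0, Int.negSucc 1, Int.ofNat 0, Int.ofNat 2],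
  [Int.ofNat 0, Int.ofNat 2, Int.ofNat 2, Int.ofNat 2, Int.ofNat 0, Int.ofNat 2, Int.ofNat 2, Int.ofNat 0, Int.ofNat 0, Int.ofNat 0, Int.ofNat 2, Int.ofNat 0, Int.ofNat 0, Int.ofNat 0, Int.ofNat 0, Int.ofNat 0, Int.ofNat 0, Int.ofNat 0, Int.ofNat 0, Int.ofNat 2, Int.ofNat 2, Int.ofNat 0, Int.ofNat 0, Int.ofNat 0],
  [Int.ofNat 0, Int.ofNat 2, Int.ofNat 0, Int.ofNat 2, Int.ofNat 0, Int.ofNat 0, Int.ofNat 2, Int.ofNat 2, Int.ofNat 0, Int.ofNat 0, Int.ofNat 2, Int.ofNat 0, Int.ofNat 0, Int.ofNat 0, Int.ofNat 0, Int.ofNat 0, Int.ofNat 0, Int.ofNat 0, Int.ofNat 2, Int.ofNat 0, Int.ofNat 0, Int.ofNat 2, Int.ofNat 2, Int.ofNat 0],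
  [Int.ofNat 1, Int.negSucc 0, Int.ofNat 1, Int.ofNat 1, Int.negSucc 0, Int.negSucc 0, Int.negSucc 0, Int.negSucc 0, Int.negSucc 0, Int.negSucc 0, Int.ofNat 1, Int.negSucc 0, Int.negSucc 0, Int.negSucc 0, Int.negSucc 0, Int.negSucc 0, Int.negSucc 0, Int.negSucc 0, Int.ofNat 1, Int.negSucc 2, Int.negSucc 0, Int.negSucc 0, Int.ofNat 1, Int.ofNat 1],
  [Int.ofNat 1, Int.negSucc 0, Int.negSucc 0, Int.ofNat 1, Int.negSucc 0, Int.ofNat 1, Int.ofNat 1, Int.negSucc 0, Int.negSucc 0, Int.ofNat 1, Int.negSucc 0, Int.negSucc 0, Int.negSucc 0, Int.negSucc 0, Int.negSucc 0, Int.ofNat 1, Int.negSucc 0, Int.negSucc 0, Int.negSucc 0, Int.negSucc 2, Int.negSucc 0, Int.negSucc 0, Int.negSucc 0, Int.ofNat 1],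
  [Int.negSucc 0, Int.negSucc 0, Int.negSucc 0, Int.negSucc 0, Int.negSucc 0, Int.ofNat 1, Int.negSucc 0, Int.ofNat 1, Int.ofNat 1, Int.negSucc 0, Int.negSucc 0, Int.negSucc 0, Int.ofNat 1, Int.negSucc 0, Int.negSucc 0, Int.negSucc 0, Int.negSucc 2, Int.negSucc 0, Int.ofNat 1, Int.negSucc 0, Int.ofNat 1, Int.negSucc 0, Int.negSucc 0, Int.ofNat 1],
  [Int.ofNat 1, Int.negSucc 0, Int.negSucc 0, Int.negSucc 0, Int.negSucc 0, Int.negSucc 0, Int.negSucc 0, Int.negSucc 0, Int.ofNat 1, Int.ofNat 1, Int.negSucc 2, Int.negSucc 0, Int.negSucc 0, Int.ofNat 1, Int.ofNat 1, Int.negSucc 0, Int.negSucc 0, Int.negSucc 0, Int.negSucc 0, Int.negSucc 0, Int.ofNat 1, Int.ofNat 1, Int.negSucc 0, Int.negSucc 0],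
  [Int.negSucc 0, Int.negSucc 0, Int.ofNat 1, Int.negSucc 0, Int.negSucc 0, Int.negSucc 0, Int.negSucc 0, Int.ofNat 1, Int.ofNat 1, Int.negSucc 0, Int.ofNat 3, Int.ofNat 1, Int.negSucc 0, Int.ofNat 1, Int.ofNat 1, Int.negSucc 0, Int.negSucc 0, Int.negSucc 0, Int.ofNat 1, Int.negSucc 0, Int.ofNat 1, Int.negSucc 0, Int.negSucc 0, Int.negSucc 0],
  [Int.negSucc 0, Int.negSucc 0, Int.negSucc 0, Int.ofNat 1, Int.negSucc 0, Int.negSucc 0, Int.negSucc 0, Int.negSucc 0, Int.ofNat 1, Int.ofNat 1, Int.negSucc 0, Int.ofNat 3, Int.ofNat 1, Int.negSucc 0, Int.ofNat 1, Int.ofNat 1, Int.negSucc 0, Int.negSucc 0, Int.negSucc 0, Int.ofNat 1, Int.negSucc 0, Int.ofNat 1, Int.negSucc 0, Int.negSucc 0],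
  [Int.negSucc 0, Int.negSucc 0, Int.negSucc 0, Int.ofNat 1, Int.ofNat 1, Int.negSucc 0, Int.negSucc 0, Int.negSucc 0, Int.negSucc 0, Int.ofNat 1, Int.negSucc 0, Int.ofNat 1, Int.negSucc 0, Int.ofNat 1, Int.ofNat 1, Int.ofNat 1, Int.ofNat 1, Int.negSucc 0, Int.negSucc 2, Int.ofNat 1, Int.negSucc 0, Int.ofNat 1, Int.ofNat 1, Int.negSucc 0],
  [Int.ofNat 1, Int.ofNat 1, Int.negSucc 0, Int.negSucc 0, Int.negSucc 0, Int.negSucc 0, Int.ofNat 1, Int.negSucc 0, Int.ofNat 1, Int.negSucc 0, Int.ofNat 1, Int.ofNat 1, Int.ofNat 1, Int.ofNat 1, Int.negSucc 0, Int.negSucc 2, Int.ofNat 1, Int.negSucc 0, Int.ofNat 1, Int.ofNat 1, Int.negSucc 0, Int.negSucc 0, Int.negSucc 0, Int.negSucc 0],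
  [Int.negSucc 0, Int.negSucc 0, Int.ofNat 1, Int.ofNat 1, Int.negSucc 0, Int.ofNat 1, Int.ofNat 1, Int.negSucc 0, Int.negSucc 0, Int.ofNat 1, Int.ofNat 3, Int.negSucc 0, Int.negSucc 0, Int.ofNat 1, Int.ofNat 1, Int.negSucc 0, Int.ofNat 1, Int.ofNat 1, Int.negSucc 0, Int.ofNat 1, Int.ofNat 1, Int.negSucc 0, Int.negSucc 0, Int.ofNat 1],
  [Int.negSucc 0, Int.ofNat 1, Int.negSucc 0, Int.ofNat 1, Int.negSucc 0, Int.negSucc 0, Int.ofNat 1, Int.ofNat 3, Int.negSucc 0, Int.ofNat 1, Int.ofNat 1, Int.ofNat 1, Int.ofNat 1, Int.ofNat 1, Int.negSucc 0, Int.negSucc 0, Int.negSucc 0, Int.ofNat 1, Int.negSucc 0, Int.negSucc 0, Int.negSucc 0, Int.ofNat 1, Int.ofNat 1, Int.ofNat 1],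
  [Int.ofNat 1, Int.negSucc 0, Int.ofNat 1, Int.ofNat 1, Int.negSucc 0, Int.negSucc 0, Int.negSucc 0, Int.ofNat 1, Int.negSucc 0, Int.ofNat 1, Int.ofNat 1, Int.ofNat 1, Int.ofNat 1, Int.ofNat 1, Int.negSucc 0, Int.negSucc 0, Int.negSucc 0, Int.ofNat 1, Int.negSucc 0, Int.negSucc 2, Int.negSucc 0, Int.negSucc 0, Int.ofNat 1, Int.negSucc 0],
  [Int.ofNat 1, Int.negSucc 0, Int.negSucc 0, Int.ofNat 1, Int.negSucc 0, Int.ofNat 1, Int.ofNat 1, Int.ofNat 1, Int.negSucc 0, Int.negSucc 0, Int.negSucc 0, Int.ofNat 1, Int.ofNat 1, Int.ofNat 1, Int.negSucc 0, Int.ofNat 1, Int.negSucc 0, Int.ofNat 1, Int.ofNat 1, Int.negSucc 2, Int.negSucc 0, Int.negSucc 0, Int.negSucc 0, Int.negSucc 0],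
  [Int.negSucc 2, Int.ofNat 1, Int.ofNat 1, Int.negSucc 0, Int.negSucc 0, Int.negSucc 0, Int.negSucc 0, Int.ofNat 1, Int.negSucc 0, Int.ofNat 1, Int.negSucc 0, Int.negSucc 0, Int.negSucc 0, Int.negSucc 0, Int.negSucc 0, Int.ofNat 1, Int.ofNat 1, Int.ofNat 1, Int.ofNat 1, Int.ofNat 1, Int.ofNat 1, Int.ofNat 1, Int.negSucc 0, Int.negSucc 0],
  [Int.negSucc 2, Int.ofNat 1, Int.negSucc 0, Int.negSucc 0, Int.negSucc 0, Int.ofNat 1, Int.ofNat 1, Int.ofNat 1, Int.negSucc 0, Int.negSucc 0, Int.ofNat 1, Int.negSucc 0, Int.negSucc 0, Int.negSucc 0, Int.negSucc 0, Int.negSucc 0, Int.ofNat 1, Int.ofNat 1, Int.negSucc 0, Int.ofNat 1, Int.ofNat 1, Int.ofNat 1, Int.ofNat 1, Int.negSucc 0],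
  [Int.ofNat 1, Int.negSucc 2, Int.negSucc 0, Int.negSucc 0, Int.negSucc 0, Int.ofNat 1, Int.negSucc 0, Int.negSucc 0, Int.ofNat 1, Int.negSucc 0, Int.ofNat 1, Int.ofNat 1, Int.ofNat 1, Int.negSucc 0, Int.negSucc 0, Int.negSucc 0, Int.ofNat 1, Int.ofNat 1, Int.ofNat 1, Int.negSucc 0, Int.ofNat 1, Int.negSucc 0, Int.ofNat 1, Int.negSucc 0],
  [Int.ofNat 1, Int.ofNat 1, Int.negSucc 0, Int.negSucc 0, Int.negSucc 0, Int.negSucc 0, Int.negSucc 2, Int.ofNat 1, Int.ofNat 1, Int.ofNat 1, Int.negSucc 0, Int.negSucc 0, Int.ofNat 1, Int.negSucc 0, Int.ofNat 1, Int.negSucc 0, Int.negSucc 0, Int.ofNat 1, Int.negSucc 0, Int.ofNat 1, Int.ofNat 1, Int.ofNat 1, Int.negSucc 0, Int.negSucc 0],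
  [Int.negSucc 0, Int.negSucc 0, Int.ofNat 1, Int.negSucc 0, Int.ofNat 1, Int.negSucc 0, Int.negSucc 2, Int.ofNat 1, Int.ofNat 1, Int.ofNat 1, Int.negSucc 0, Int.negSucc 0, Int.ofNat 1, Int.ofNat 1, Int.ofNat 1, Int.negSucc 0, Int.ofNat 1, Int.ofNat 1, Int.negSucc 0, Int.ofNat 1, Int.ofNat 1, Int.ofNat 1, Int.ofNat 1, Int.ofNat 1],
  [Int.ofNat 1, Int.ofNat 1, Int.ofNat 1, Int.negSucc 0, Int.negSucc 0, Int.ofNat 1, Int.negSucc 0, Int.ofNat 1, Int.negSucc 0, Int.negSucc 2, Int.ofNat 1, Int.ofNat 1, Int.ofNat 1, Int.negSucc 0, Int.negSucc 0, Int.ofNat 1, Int.ofNat 1, Int.ofNat 1, Int.negSucc 0, Int.ofNat 1, Int.ofNat 1, Int.negSucc 0, Int.ofNat 1, Int.ofNat 1],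
  [Int.ofNat 1, Int.ofNat 1, Int.ofNat 1, Int.negSucc 0, Int.negSucc 0, Int.ofNat 1, Int.negSucc 0, Int.ofNat 1, Int.negSucc 0, Int.negSucc 2, Int.ofNat 1, Int.ofNat 1, Int.ofNat 1, Int.negSucc 0, Int.negSucc 0, Int.ofNat 1, Int.ofNat 1, Int.ofNat 1, Int.negSucc 0, Int.ofNat 1, Int.ofNat 1, Int.negSucc 0, Int.ofNat 1, Int.ofNat 1],
  [Int.ofNat 1, Int.ofNat 1, Int.negSucc 0, Int.negSucc 0, Int.ofNat 1, Int.negSucc 0, Int.ofNat 1, Int.negSucc 0, Int.negSucc 2, Int.ofNat 1, Int.ofNat 1, Int.ofNat 1, Int.negSucc 0, Int.negSucc 0, Int.ofNat 1, Int.ofNat 1, Int.ofNat 1, Int.negSucc 0, Int.ofNat 1, Int.ofNat 1, Int.negSucc 0, Int.ofNat 1, Int.ofNat 1, Int.ofNat 1],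
  [Int.negSucc 0, Int.ofNat 1, Int.ofNat 1, Int.negSucc 0, Int.ofNat 1, Int.negSucc 0, Int.ofNat 1, Int.ofNat 1, Int.negSucc 2, Int.negSucc 0, Int.negSucc 0, Int.negSucc 0, Int.negSucc 0, Int.negSucc 0, Int.ofNat 1, Int.ofNat 1, Int.ofNat 1, Int.negSucc 0, Int.negSucc 0, Int.ofNat 1, Int.negSucc 0, Int.negSucc 0, Int.ofNat 1, Int.ofNat 1],
  [Int.ofNat 1, Int.negSucc 0, Int.negSucc 0, Int.ofNat 1, Int.negSucc 0, Int.negSucc 0, Int.negSucc 0, Int.ofNat 1, Int.ofNat 3, Int.ofNat 1, Int.negSucc 0, Int.negSucc 0, Int.ofNat 1, Int.ofNat 1, Int.ofNat 1, Int.ofNat 1, Int.negSucc 0, Int.negSucc 0, Int.ofNat 1, Int.ofNat 1, Int.negSucc 0, Int.negSucc 0, Int.ofNat 1, Int.ofNat 1],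
  [Int.ofNat 1, Int.negSucc 0, Int.ofNat 1, Int.ofNat 1, Int.negSucc 0, Int.negSucc 0, Int.negSucc 0, Int.negSucc 0, Int.ofNat 1, Int.negSucc 0, Int.negSucc 0, Int.ofNat 1, Int.ofNat 1, Int.ofNat 3, Int.ofNat 1, Int.ofNat 1, Int.ofNat 1, Int.ofNat 1, Int.negSucc 0, Int.negSucc 0, Int.negSucc 0, Int.ofNat 1, Int.negSucc 0, Int.ofNat 1],
  [Int.negSucc 0, Int.negSucc 0, Int.negSucc 0, Int.ofNat 1, Int.negSucc 0, Int.negSucc 0, Int.negSucc 0, Int.ofNat 1, Int.ofNat 1, Int.ofNat 1, Int.ofNat 1, Int.negSucc 0, Int.ofNat 1, Int.ofNat 3, Int.ofNat 1, Int.ofNat 1, Int.ofNat 1, Int.ofNat 1, Int.ofNat 1, Int.negSucc 0, Int.negSucc 0, Int.negSucc 0, Int.negSucc 0, Int.ofNat 1],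
  [Int.negSucc 0, Int.negSucc 0, Int.negSucc 0, Int.negSucc 0, Int.ofNat 1, Int.negSucc 0, Int.negSucc 0, Int.negSucc 0, Int.ofNat 1, Int.ofNat 1, Int.ofNat 1, Int.ofNat 1, Int.negSucc 0, Int.ofNat 1, Int.ofNat 3, Int.ofNat 1, Int.ofNat 1, Int.ofNat 1, Int.ofNat 1, Int.ofNat 1, Int.negSucc 0, Int.negSucc 0, Int.negSucc 0, Int.ofNat 1],
  [Int.ofNat 0, Int.ofNat 0, Int.ofNat 0, Int.negSucc 1, Int.ofNat 0, Int.negSucc 1, Int.ofNat 0, Int.ofNat 0, Int.ofNat 0, Int.ofNat 0, Int.ofNat 0, Int.ofNat 0, Int.negSucc 1, Int.ofNat 0, Int.ofNat 2, Int.ofNat 0, Int.ofNat 0, Int.ofNat 0, Int.ofNat 0, Int.ofNat 2, Int.negSucc 1, Int.ofNat 0, Int.negSucc 1, Int.negSucc 1],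
  [Int.negSucc 1, Int.ofNat 0, Int.negSucc 1, Int.ofNat 0, Int.ofNat 0, Int.ofNat 0, Int.ofNat 0, Int.ofNat 0, Int.ofNat 0, Int.negSucc 1, Int.ofNat 0, Int.ofNat 2, Int.ofNat 0, Int.ofNat 0, Int.ofNat 0, Int.ofNat 0, Int.ofNat 2, Int.negSucc 1, Int.ofNat 0, Int.negSucc 1, Int.ofNat 0, Int.ofNat 0, Int.ofNat 0, Int.negSucc 1],
  [Int.negSucc 0, Int.negSucc 2, Int.negSucc 0, Int.ofNat 1, Int.negSucc 0, Int.ofNat 1, Int.ofNat 1, Int.ofNat 1, Int.negSucc 0, Int.negSucc 0, Int.ofNat 1, Int.ofNat 1, Int.negSucc 0, Int.negSucc 0, Int.ofNat 1, Int.ofNat 1, Int.ofNat 1, Int.negSucc 0, Int.negSucc 0, Int.negSucc 0, Int.ofNat 1, Int.ofNat 1, Int.negSucc 0, Int.negSucc 0],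
  [Int.negSucc 0, Int.ofNat 1, Int.negSucc 0, Int.ofNat 1, Int.negSucc 0, Int.ofNat 1, Int.negSucc 0, Int.ofNat 1, Int.negSucc 0, Int.negSucc 0, Int.ofNat 1, Int.negSucc 0, Int.negSucc 0, Int.ofNat 1, Int.negSucc 0, Int.ofNat 1, Int.negSucc 0, Int.ofNat 1, Int.negSucc 2, Int.ofNat 1, Int.ofNat 1, Int.ofNat 1, Int.negSucc 0, Int.negSucc 0],
  [Int.ofNat 0, Int.negSucc 1, Int.ofNat 0, Int.ofNat 0, Int.ofNat 0, Int.ofNat 0, Int.negSucc 1, Int.ofNat 0, Int.ofNat 2, Int.negSucc 1, Int.ofNat 0, Int.ofNat 2, Int.ofNat 2, Int.ofNat 2, Int.negSucc 1, Int.ofNat 0, Int.ofNat 0, Int.ofNat 0, Int.ofNat 0, Int.ofNat 0, Int.ofNat 0, Int.ofNat 0, Int.ofNat 0, Int.ofNat 0],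
  [Int.ofNat 0, Int.negSucc 1, Int.ofNat 0, Int.ofNat 0, Int.ofNat 0, Int.ofNat 0, Int.ofNat 2, Int.ofNat 0, Int.ofNat 2, Int.ofNat 2, Int.ofNat 0, Int.ofNat 2, Int.ofNat 2, Int.ofNat 2, Int.negSucc 1, Int.ofNat 0, Int.ofNat 0, Int.ofNat 0, Int.ofNat 0, Int.ofNat 0, Int.ofNat 0, Int.ofNat 0, Int.ofNat 0, Int.ofNat 0],
  [Int.ofNat 0, Int.ofNat 0, Int.ofNat 2, Int.ofNat 2, Int.negSucc 1, Int.ofNat 2, Int.ofNat 0, Int.ofNat 0, Int.ofNat 0, Int.ofNat 0, Int.ofNat 2, Int.ofNat 0, Int.ofNat 0, Int.ofNat 0, Int.ofNat 0, Int.ofNat 0, Int.ofNat 0, Int.ofNat 2, Int.ofNat 2, Int.ofNat 0, Int.ofNat 0, Int.negSucc 1, Int.ofNat 0, Int.ofNat 0],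
  [Int.ofNat 0, Int.ofNat 0, Int.ofNat 0, Int.ofNat 0, Int.ofNat 2, Int.ofNat 0, Int.ofNat 0, Int.ofNat 0, Int.ofNat 0, Int.ofNat 2, Int.ofNat 0, Int.ofNat 2, Int.negSucc 1, Int.ofNat 0, Int.ofNat 2, Int.ofNat 2, Int.ofNat 2, Int.negSucc 1, Int.ofNat 0, Int.ofNat 0, Int.ofNat 0, Int.ofNat 0, Int.ofNat 0, Int.ofNat 0],
  [Int.ofNat 0, Int.ofNat 0, Int.ofNat 0, Int.ofNat 0, Int.ofNat 2, Int.ofNat 0, Int.ofNat 0, Int.ofNat 0, Int.ofNat 0, Int.negSucc 1, Int.ofNat 0, Int.negSucc 1, Int.negSucc 1, Int.ofNat 0, Int.ofNat 2, Int.ofNat 2, Int.ofNat 2, Int.negSucc 1, Int.ofNat 0, Int.ofNat 0, Int.ofNat 0, Int.ofNat 0, Int.ofNat 0, Int.ofNat 0],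
  [Int.ofNat 0, Int.ofNat 0, Int.ofNat 0, Int.ofNat 0, Int.ofNat 0, Int.ofNat 2, Int.ofNat 0, Int.ofNat 0, Int.ofNat 0, Int.ofNat 0, Int.negSucc 1, Int.ofNat 0, Int.negSucc 1, Int.negSucc 1, Int.ofNat 0, Int.ofNat 2, Int.ofNat 2, Int.ofNat 2, Int.negSucc 1, Int.ofNat 0, Int.ofNat 0, Int.ofNat 0, Int.ofNat 0, Int.ofNat 0],
  [Int.ofNat 0, Int.ofNat 0, Int.ofNat 0, Int.negSucc 1, Int.ofNat 0, Int.ofNat 0, Int.ofNat 0, Int.ofNat 0, Int.ofNat 2, Int.ofNat 0, Int.negSucc 1, Int.ofNat 2, Int.ofNat 0, Int.negSucc 1, Int.negSucc 1, Int.ofNat 2, Int.ofNat 2, Int.ofNat 0, Int.ofNat 0, Int.ofNat 0, Int.ofNat 0, Int.ofNat 0, Int.ofNat 0, Int.ofNat 0],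
  [Int.negSucc 1, Int.ofNat 0, Int.ofNat 0, Int.ofNat 0, Int.ofNat 0, Int.ofNat 2, Int.ofNat 0, Int.negSucc 1, Int.ofNat 2, Int.ofNat 0, Int.negSucc 1, Int.negSucc 1, Int.ofNat 2, Int.ofNat 2, Int.ofNat 0, Int.ofNat 0, Int.ofNat 0, Int.ofNat 0, Int.ofNat 0, Int.ofNat 0, Int.ofNat 0, Int.ofNat 0, Int.ofNat 0, Int.ofNat 0],
  [Int.ofNat 1, Int.negSucc 0, Int.negSucc 0, Int.negSucc 0, Int.negSucc 0, Int.ofNat 1, Int.ofNat 1, Int.negSucc 0, Int.ofNat 1, Int.ofNat 1, Int.negSucc 0, Int.negSucc 2, Int.ofNat 1, Int.ofNat 1, Int.negSucc 0, Int.ofNat 1, Int.negSucc 0, Int.negSucc 0, Int.negSucc 0, Int.ofNat 1, Int.ofNat 1, Int.ofNat 1, Int.negSucc 0, Int.negSucc 0],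
  [Int.ofNat 1, Int.ofNat 1, Int.negSucc 0, Int.negSucc 0, Int.negSucc 0, Int.negSucc 0, Int.negSucc 0, Int.negSucc 0, Int.ofNat 1, Int.ofNat 1, Int.ofNat 1, Int.negSucc 0, Int.ofNat 1, Int.negSucc 0, Int.negSucc 0, Int.ofNat 1, Int.ofNat 1, Int.negSucc 0, Int.negSucc 0, Int.negSucc 2, Int.ofNat 1, Int.ofNat 1, Int.ofNat 1, Int.negSucc 0],
  [Int.negSucc 0, Int.negSucc 0, Int.ofNat 1, Int.ofNat 1, Int.negSucc 0, Int.ofNat 1, Int.ofNat 1, Int.ofNat 1, Int.ofNat 1, Int.negSucc 0, Int.negSucc 0, Int.negSucc 0, Int.ofNat 1, Int.negSucc 0, Int.ofNat 1, Int.negSucc 0, Int.ofNat 1, Int.ofNat 1, Int.negSucc 0, Int.negSucc 0, Int.negSucc 0, Int.ofNat 3, Int.ofNat 1, Int.ofNat 1],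
  [Int.negSucc 0, Int.negSucc 0, Int.negSucc 0, Int.ofNat 1, Int.negSucc 0, Int.negSucc 0, Int.negSucc 0, Int.ofNat 1, Int.ofNat 1, Int.ofNat 1, Int.ofNat 1, Int.negSucc 0, Int.ofNat 1, Int.negSucc 0, Int.ofNat 1, Int.ofNat 1, Int.ofNat 1, Int.ofNat 1, Int.ofNat 1, Int.negSucc 0, Int.negSucc 0, Int.ofNat 3, Int.negSucc 0, Int.ofNat 1],
  [Int.negSucc 0, Int.ofNat 1, Int.ofNat 1, Int.ofNat 1, Int.negSucc 0, Int.ofNat 1, Int.ofNat 1, Int.ofNat 1, Int.negSucc 0, Int.ofNat 1, Int.negSucc 0, Int.negSucc 0, Int.negSucc 0, Int.ofNat 3, Int.ofNat 1, Int.negSucc 0, Int.negSucc 0, Int.negSucc 0, Int.ofNat 1, Int.ofNat 1, Int.negSucc 0, Int.negSucc 0, Int.ofNat 1, Int.ofNat 1],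
  [Int.negSucc 0, Int.ofNat 1, Int.negSucc 0, Int.ofNat 1, Int.negSucc 0, Int.negSucc 0, Int.negSucc 0, Int.ofNat 1, Int.negSucc 0, Int.negSucc 0, Int.ofNat 1, Int.negSucc 0, Int.negSucc 0, Int.ofNat 3, Int.ofNat 1, Int.ofNat 1, Int.negSucc 0, Int.negSucc 0, Int.negSucc 0, Int.ofNat 1, Int.negSucc 0, Int.negSucc 0, Int.negSucc 0, Int.ofNat 1],
  [Int.ofNat 1, Int.negSucc 0, Int.ofNat 1, Int.ofNat 1, Int.negSucc 0, Int.negSucc 0, Int.negSucc 0, Int.ofNat 1, Int.ofNat 1, Int.negSucc 0, Int.ofNat 1, Int.ofNat 1, Int.ofNat 1, Int.ofNat 3, Int.ofNat 1, Int.ofNat 1, Int.negSucc 0, Int.negSucc 0, Int.ofNat 1, Int.ofNat 1, Int.negSucc 0, Int.negSucc 0, Int.negSucc 0, Int.negSucc 0],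
  [Int.ofNat 1, Int.ofNat 1, Int.negSucc 0, Int.ofNat 1, Int.ofNat 1, Int.negSucc 0, Int.negSucc 0, Int.negSucc 0, Int.negSucc 0, Int.ofNat 1, Int.ofNat 1, Int.ofNat 1, Int.ofNat 1, Int.negSucc 0, Int.negSucc 0, Int.ofNat 1, Int.ofNat 3, Int.ofNat 1, Int.negSucc 0, Int.negSucc 0, Int.ofNat 1, Int.negSucc 0, Int.ofNat 1, Int.negSucc 0],
  [Int.negSucc 0, Int.negSucc 0, Int.ofNat 1, Int.ofNat 1, Int.negSucc 0, Int.negSucc 0, Int.ofNat 1, Int.ofNat 1, Int.negSucc 0, Int.negSucc 0, Int.negSucc 0, Int.ofNat 1, Int.ofNat 1, Int.negSucc 2, Int.negSucc 0, Int.negSucc 0, Int.ofNat 1, Int.ofNat 1, Int.negSucc 0, Int.ofNat 1, Int.negSucc 0, Int.ofNat 1, Int.negSucc 0, Int.ofNat 1],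
  [Int.negSucc 0, Int.ofNat 1, Int.negSucc 0, Int.negSucc 0, Int.negSucc 0, Int.ofNat 1, Int.ofNat 1, Int.negSucc 0, Int.negSucc 0, Int.ofNat 1, Int.ofNat 1, Int.negSucc 0, Int.negSucc 0, Int.negSucc 0, Int.ofNat 1, Int.ofNat 1, Int.negSucc 2, Int.negSucc 0, Int.negSucc 0, Int.ofNat 1, Int.ofNat 1, Int.negSucc 0, Int.ofNat 1, Int.ofNat 1],
  [Int.ofNat 1, Int.negSucc 0, Int.ofNat 1, Int.negSucc 0, Int.ofNat 1, Int.ofNat 1, Int.ofNat 1, Int.negSucc 0, Int.ofNat 1, Int.negSucc 0, Int.negSucc 0, Int.ofNat 1, Int.ofNat 1, Int.ofNat 1, Int.ofNat 1, Int.negSucc 0, Int.negSucc 0, Int.negSucc 0, Int.ofNat 1, Int.ofNat 1, Int.negSucc 0, Int.negSucc 0, Int.ofNat 3, Int.negSucc 0],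
  [Int.negSucc 0, Int.ofNat 1, Int.negSucc 0, Int.ofNat 1, Int.ofNat 1, Int.ofNat 1, Int.negSucc 0, Int.ofNat 1, Int.negSucc 0, Int.negSucc 0, Int.ofNat 1, Int.ofNat 1, Int.ofNat 1, Int.ofNat 1, Int.negSucc 0, Int.negSucc 0, Int.negSucc 0, Int.ofNat 1, Int.ofNat 1, Int.negSucc 0, Int.negSucc 0, Int.ofNat 3, Int.ofNat 1, Int.negSucc 0],
  [Int.ofNat 1, Int.ofNat 1, Int.ofNat 1, Int.ofNat 1, Int.ofNat 1, Int.ofNat 1, Int.negSucc 0, Int.negSucc 0, Int.negSucc 0, Int.ofNat 1, Int.negSucc 0, Int.negSucc 0, Int.ofNat 1, Int.ofNat 1, Int.negSucc 0, Int.negSucc 0, Int.negSucc 0, Int.ofNat 1, Int.negSucc 0, Int.negSucc 0, Int.negSucc 0, Int.negSucc 2, Int.ofNat 1, Int.negSucc 0],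
  [Int.negSucc 0, Int.negSucc 0, Int.negSucc 0, Int.negSucc 0, Int.negSucc 0, Int.ofNat 1, Int.ofNat 1, Int.negSucc 0, Int.ofNat 1, Int.negSucc 0, Int.negSucc 0, Int.negSucc 0, Int.negSucc 0, Int.negSucc 0, Int.negSucc 0, Int.negSucc 0, Int.ofNat 1, Int.ofNat 1, Int.ofNat 1, Int.negSucc 0, Int.negSucc 0, Int.negSucc 2, Int.ofNat 1, Int.negSucc 0],
  [Int.negSucc 0, Int.negSucc 0, Int.ofNat 1, Int.negSucc 0, Int.negSucc 0, Int.negSucc 0, Int.negSucc 0, Int.negSucc 0, Int.negSucc 0, Int.ofNat 1, Int.negSucc 2, Int.negSucc 0, Int.negSucc 0, Int.ofNat 1, Int.negSucc 0, Int.negSucc 0, Int.negSucc 0, Int.ofNat 1, Int.ofNat 1, Int.ofNat 1, Int.ofNat 1, Int.negSucc 0, Int.negSucc 0, Int.negSucc 0],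
  [Int.ofNat 1, Int.negSucc 0, Int.negSucc 0, Int.negSucc 0, Int.negSucc 0, Int.negSucc 0, Int.negSucc 0, Int.ofNat 1, Int.negSucc 0, Int.negSucc 0, Int.ofNat 3, Int.ofNat 1, Int.negSucc 0, Int.ofNat 1, Int.negSucc 0, Int.negSucc 0, Int.negSucc 0, Int.ofNat 1, Int.negSucc 0, Int.ofNat 1, Int.ofNat 1, Int.ofNat 1, Int.negSucc 0, Int.negSucc 0],
  [Int.negSucc 0, Int.ofNat 1, Int.negSucc 0, Int.negSucc 0, Int.negSucc 0, Int.negSucc 0, Int.negSucc 0, Int.negSucc 0, Int.ofNat 1, Int.negSucc 0, Int.negSucc 0, Int.ofNat 3, Int.ofNat 1, Int.negSucc 0, Int.ofNat 1, Int.negSucc 0, Int.negSucc 0, Int.negSucc 0, Int.ofNat 1, Int.negSucc 0, Int.ofNat 1, Int.ofNat 1, Int.ofNat 1, Int.negSucc 0],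
  [Int.ofNat 0, Int.negSucc 1, Int.ofNat 0, Int.ofNat 0, Int.ofNat 0, Int.ofNat 0, Int.ofNat 0, Int.ofNat 0, Int.negSucc 1, Int.ofNat 0, Int.ofNat 0, Int.ofNat 0, Int.negSucc 1, Int.ofNat 0, Int.ofNat 2, Int.ofNat 0, Int.ofNat 0, Int.ofNat 0, Int.negSucc 1, Int.ofNat 0, Int.ofNat 2, Int.ofNat 2, Int.ofNat 2, Int.ofNat 0],
  [Int.ofNat 0, Int.ofNat 0, Int.ofNat 0, Int.ofNat 0, Int.ofNat 0, Int.negSucc 1, Int.ofNat 0, Int.ofNat 0, Int.ofNat 0, Int.negSucc 1, Int.ofNat 0, Int.ofNat 2, Int.ofNat 0, Int.ofNat 0, Int.ofNat 0, Int.negSucc 1, Int.ofNat 0, Int.ofNat 2, Int.ofNat 2, Int.ofNat 2, Int.ofNat 0, Int.negSucc 1, Int.ofNat 0, Int.ofNat 0],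
  [Int.ofNat 0, Int.ofNat 0, Int.ofNat 0, Int.ofNat 0, Int.ofNat 0, Int.negSucc 1, Int.ofNat 0, Int.ofNat 0, Int.negSucc 1, Int.ofNat 0, Int.ofNat 2, Int.ofNat 0, Int.negSucc 1, Int.ofNat 0, Int.ofNat 0, Int.ofNat 0, Int.ofNat 0, Int.ofNat 2, Int.ofNat 0, Int.ofNat 2, Int.ofNat 2, Int.negSucc 1, Int.ofNat 0, Int.ofNat 0],
  [Int.ofNat 0, Int.ofNat 0, Int.ofNat 0, Int.ofNat 0, Int.ofNat 0, Int.ofNat 0, Int.ofNat 0, Int.ofNat 2, Int.negSucc 1, Int.ofNat 0, Int.ofNat 2, Int.ofNat 2, Int.ofNat 0, Int.ofNat 0, Int.ofNat 0, Int.ofNat 0, Int.negSucc 1, Int.ofNat 0, Int.ofNat 0, Int.ofNat 0, Int.negSucc 1, Int.negSucc 1, Int.ofNat 2, Int.ofNat 0],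
  [Int.ofNat 0, Int.ofNat 0, Int.ofNat 0, Int.ofNat 0, Int.ofNat 0, Int.ofNat 0, Int.ofNat 0, Int.ofNat 2, Int.negSucc 1, Int.ofNat 0, Int.ofNat 2, Int.ofNat 2, Int.ofNat 0, Int.ofNat 0, Int.ofNat 0, Int.ofNat 0, Int.negSucc 1, Int.ofNat 0, Int.ofNat 0, Int.ofNat 0, Int.negSucc 1, Int.negSucc 1, Int.ofNat 2, Int.ofNat 0],
  [Int.ofNat 0, Int.ofNat 0, Int.ofNat 0, Int.ofNat 0, Int.ofNat 0, Int.ofNat 0, Int.ofNat 0, Int.ofNat 2, Int.negSucc 1, Int.ofNat 0, Int.negSucc 1, Int.ofNat 2, Int.ofNat 0, Int.ofNat 0, Int.ofNat 0, Int.ofNat 0, Int.negSucc 1, Int.ofNat 0, Int.ofNat 0, Int.ofNat 0, Int.negSucc 1, Int.negSucc 1, Int.negSucc 1, Int.ofNat 0],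
  [Int.negSucc 1, Int.negSucc 1, Int.ofNat 2, Int.negSucc 1, Int.ofNat 0, Int.ofNat 0, Int.negSucc 1, Int.ofNat 0, Int.ofNat 0, Int.negSucc 1, Int.ofNat 0, Int.ofNat 2, Int.ofNat 0, Int.ofNat 0, Int.ofNat 0, Int.ofNat 0, Int.ofNat 0, Int.ofNat 0, Int.ofNat 0, Int.ofNat 0, Int.ofNat 0, Int.ofNat 0, Int.negSucc 1, Int.ofNat 0],
  [Int.ofNat 0, Int.negSucc 1, Int.ofNat 2, Int.ofNat 0, Int.ofNat 0, Int.negSucc 1, Int.ofNat 0, Int.ofNat 0, Int.ofNat 0, Int.ofNat 0, Int.ofNat 0, Int.ofNat 2, Int.ofNat 0, Int.ofNat 0, Int.ofNat 0, Int.negSucc 1, Int.ofNat 0, Int.ofNat 0, Int.ofNat 0, Int.negSucc 1, Int.ofNat 0, Int.ofNat 0, Int.negSucc 1, Int.negSucc 1],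
  [Int.ofNat 0, Int.negSucc 1, Int.negSucc 1, Int.ofNat 0, Int.ofNat 0, Int.negSucc 1, Int.ofNat 0, Int.ofNat 0, Int.ofNat 0, Int.ofNat 0, Int.ofNat 0, Int.negSucc 1, Int.ofNat 0, Int.ofNat 0, Int.ofNat 0, Int.negSucc 1, Int.ofNat 0, Int.ofNat 0, Int.ofNat 0, Int.negSucc 1, Int.ofNat 0, Int.ofNat 0, Int.negSucc 1, Int.negSucc 1],
  [Int.negSucc 1, Int.ofNat 0, Int.negSucc 1, Int.negSucc 1, Int.ofNat 0, Int.ofNat 0, Int.negSucc 1, Int.ofNat 0, Int.ofNat 0, Int.ofNat 0, Int.ofNat 0, Int.ofNat 0, Int.negSucc 1, Int.ofNat 0, Int.ofNat 0, Int.ofNat 0, Int.negSucc 1, Int.ofNat 0, Int.ofNat 0, Int.ofNat 0, Int.negSucc 1, Int.ofNat 0, Int.ofNat 0, Int.negSucc 1],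
  [Int.negSucc 0, Int.negSucc 2, Int.negSucc 0, Int.negSucc 0, Int.ofNat 1, Int.ofNat 1, Int.negSucc 0, Int.ofNat 1, Int.ofNat 1, Int.ofNat 1, Int.ofNat 1, Int.ofNat 1, Int.negSucc 0, Int.ofNat 1, Int.ofNat 1, Int.ofNat 1, Int.negSucc 0, Int.ofNat 1, Int.ofNat 1, Int.ofNat 1, Int.negSucc 0, Int.ofNat 1, Int.ofNat 1, Int.negSucc 0],
  [Int.negSucc 0, Int.ofNat 1, Int.ofNat 1, Int.negSucc 0, Int.ofNat 1, Int.ofNat 1, Int.ofNat 1, Int.ofNat 1, Int.ofNat 1, Int.negSucc 0, Int.ofNat 1, Int.ofNat 1, Int.ofNat 1, Int.negSucc 0, Int.ofNat 1, Int.ofNat 1, Int.ofNat 1, Int.negSucc 0, Int.ofNat 1, Int.ofNat 1, Int.negSucc 0, Int.negSucc 2, Int.negSucc 0, Int.negSucc 0],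
  [Int.ofNat 1, Int.negSucc 0, Int.negSucc 0, Int.negSucc 0, Int.ofNat 1, Int.ofNat 1, Int.ofNat 1, Int.ofNat 1, Int.negSucc 0, Int.negSucc 0, Int.ofNat 1, Int.negSucc 0, Int.negSucc 0, Int.negSucc 0, Int.ofNat 1, Int.ofNat 1, Int.ofNat 1, Int.negSucc 0, Int.negSucc 0, Int.ofNat 1, Int.negSucc 0, Int.negSucc 2, Int.negSucc 0, Int.ofNat 1],
  [Int.ofNat 1, Int.ofNat 1, Int.ofNat 1, Int.negSucc 0, Int.negSucc 0, Int.ofNat 1, Int.negSucc 0, Int.ofNat 1, Int.negSucc 0, Int.negSucc 0, Int.negSucc 0, Int.negSucc 0, Int.negSucc 0, Int.ofNat 1, Int.negSucc 0, Int.ofNat 1, Int.negSucc 0, Int.ofNat 1, Int.negSucc 0, Int.negSucc 0, Int.negSucc 2, Int.ofNat 1, Int.ofNat 1, Int.ofNat 1],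
  [Int.ofNat 1, Int.ofNat 1, Int.ofNat 1, Int.negSucc 0, Int.negSucc 0, Int.ofNat 1, Int.negSucc 0, Int.ofNat 1, Int.ofNat 1, Int.ofNat 1, Int.ofNat 1, Int.ofNat 1, Int.ofNat 1, Int.ofNat 1, Int.negSucc 0, Int.ofNat 3, Int.negSucc 0, Int.ofNat 1, Int.ofNat 1, Int.negSucc 0, Int.negSucc 0, Int.ofNat 1, Int.ofNat 1, Int.ofNat 1],
  [Int.ofNat 1, Int.ofNat 1, Int.negSucc 0, Int.negSucc 0, Int.negSucc 0, Int.negSucc 0, Int.ofNat 1, Int.ofNat 1, Int.ofNat 1, Int.negSucc 0, Int.negSucc 0, Int.ofNat 1, Int.ofNat 1, Int.ofNat 1, Int.negSucc 0, Int.negSucc 2, Int.negSucc 0, Int.ofNat 1, Int.negSucc 0, Int.negSucc 0, Int.negSucc 0, Int.ofNat 1, Int.negSucc 0, Int.ofNat 1],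
  [Int.negSucc 0, Int.ofNat 1, Int.negSucc 0, Int.ofNat 1, Int.negSucc 0, Int.negSucc 0, Int.negSucc 0, Int.negSucc 0, Int.negSucc 0, Int.ofNat 1, Int.negSucc 0, Int.ofNat 1, Int.negSucc 0, Int.ofNat 1, Int.negSucc 0, Int.negSucc 0, Int.ofNat 1, Int.ofNat 1, Int.ofNat 1, Int.negSucc 2, Int.ofNat 1, Int.ofNat 1, Int.negSucc 0, Int.ofNat 1],
  [Int.negSucc 0, Int.ofNat 1, Int.ofNat 1, Int.ofNat 1, Int.negSucc 0, Int.ofNat 1, Int.ofNat 1, Int.negSucc 0, Int.negSucc 0, Int.negSucc 0, Int.ofNat 1, Int.ofNat 1, Int.negSucc 0, Int.ofNat 1, Int.negSucc 0, Int.ofNat 1, Int.ofNat 1, Int.ofNat 1, Int.negSucc 0, Int.negSucc 2, Int.ofNat 1, Int.ofNat 1, Int.ofNat 1, Int.ofNat 1],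
  [Int.ofNat 2, Int.ofNat 0, Int.ofNat 0, Int.ofNat 0, Int.negSucc 1, Int.ofNat 0, Int.ofNat 2, Int.ofNat 0, Int.ofNat 0, Int.negSucc 1, Int.ofNat 0, Int.ofNat 2, Int.ofNat 0, Int.ofNat 0, Int.negSucc 1, Int.ofNat 0, Int.ofNat 0, Int.ofNat 0, Int.ofNat 0, Int.negSucc 1, Int.ofNat 0, Int.ofNat 2, Int.ofNat 0, Int.ofNat 0],
  [Int.ofNat 2, Int.ofNat 0, Int.ofNat 2, Int.ofNat 0, Int.ofNat 0, Int.ofNat 2, Int.ofNat 0, Int.ofNat 0, Int.ofNat 0, Int.ofNat 0, Int.ofNat 0, Int.negSucc 1, Int.ofNat 0, Int.negSucc 1, Int.ofNat 0, Int.ofNat 0, Int.ofNat 0, Int.ofNat 2, Int.negSucc 1, Int.ofNat 0, Int.ofNat 0, Int.ofNat 0, Int.negSucc 1, Int.ofNat 0],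
  [Int.ofNat 0, Int.ofNat 2, Int.ofNat 0, Int.negSucc 1, Int.ofNat 2, Int.ofNat 0, Int.ofNat 0, Int.ofNat 0, Int.ofNat 2, Int.ofNat 0, Int.ofNat 0, Int.ofNat 0, Int.ofNat 2, Int.ofNat 0, Int.negSucc 1, Int.ofNat 0, Int.ofNat 2, Int.ofNat 0, Int.ofNat 0, Int.ofNat 0, Int.ofNat 0, Int.ofNat 0, Int.ofNat 0, Int.ofNat 2],
  [Int.ofNat 0, Int.ofNat 0, Int.ofNat 0, Int.ofNat 0, Int.ofNat 2, Int.ofNat 0, Int.negSucc 1, Int.ofNat 2, Int.ofNat 0, Int.ofNat 0, Int.ofNat 0, Int.ofNat 2, Int.ofNat 0, Int.ofNat 0, Int.ofNat 0, Int.ofNat 2, Int.ofNat 0, Int.negSucc 1, Int.ofNat 0, Int.ofNat 2, Int.ofNat 0, Int.ofNat 0, Int.ofNat 0, Int.ofNat 2],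
  [Int.ofNat 1, Int.ofNat 1, Int.ofNat 1, Int.ofNat 1, Int.ofNat 1, Int.ofNat 1, Int.negSucc 2, Int.ofNat 1, Int.negSucc 0, Int.negSucc 0, Int.negSucc 0, Int.ofNat 1, Int.negSucc 0, Int.negSucc 0, Int.ofNat 1, Int.ofNat 1, Int.negSucc 0, Int.negSucc 0, Int.negSucc 0, Int.ofNat 1, Int.negSucc 0, Int.negSucc 0, Int.negSucc 0, Int.negSucc 0],
  [Int.ofNat 1, Int.ofNat 1, Int.ofNat 1, Int.ofNat 1, Int.ofNat 1, Int.negSucc 2, Int.ofNat 1, Int.negSucc 0, Int.negSucc 0, Int.negSucc 0, Int.ofNat 1, Int.negSucc 0, Int.negSucc 0, Int.ofNat 1, Int.ofNat 1, Int.negSucc 0, Int.negSucc 0, Int.negSucc 0, Int.ofNat 1, Int.negSucc 0, Int.negSucc 0, Int.negSucc 0, Int.ofNat 1, Int.negSucc 0],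
  [Int.negSucc 0, Int.ofNat 1, Int.negSucc 0, Int.ofNat 1, Int.ofNat 1, Int.negSucc 2, Int.ofNat 1, Int.ofNat 1, Int.negSucc 0, Int.ofNat 1, Int.negSucc 0, Int.ofNat 1, Int.negSucc 0, Int.ofNat 1, Int.ofNat 1, Int.negSucc 0, Int.negSucc 0, Int.negSucc 0, Int.negSucc 0, Int.negSucc 0, Int.negSucc 0, Int.ofNat 1, Int.ofNat 1, Int.negSucc 0],
  [Int.ofNat 1, Int.negSucc 0, Int.ofNat 1, Int.negSucc 0, Int.negSucc 0, Int.negSucc 2, Int.negSucc 0, Int.ofNat 1, Int.ofNat 1, Int.negSucc 0, Int.negSucc 0, Int.ofNat 1, Int.ofNat 1, Int.negSucc 0, Int.ofNat 1, Int.negSucc 0, Int.ofNat 1, Int.negSucc 0, Int.ofNat 1, Int.negSucc 0, Int.negSucc 0, Int.ofNat 1, Int.ofNat 1, Int.negSucc 0],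
  [Int.ofNat 1, Int.ofNat 1, Int.ofNat 1, Int.negSucc 0, Int.negSucc 0, Int.negSucc 0, Int.negSucc 0, Int.negSucc 0, Int.negSucc 0, Int.ofNat 1, Int.ofNat 1, Int.ofNat 1, Int.negSucc 0, Int.ofNat 1, Int.negSucc 0, Int.negSucc 0, Int.ofNat 1, Int.ofNat 1, Int.negSucc 0, Int.negSucc 0, Int.negSucc 2, Int.ofNat 1, Int.ofNat 1, Int.negSucc 0],
  [Int.negSucc 0, Int.ofNat 1, Int.negSucc 0, Int.negSucc 0, Int.negSucc 0, Int.negSucc 0, Int.negSucc 0, Int.ofNat 1, Int.negSucc 0, Int.negSucc 0, Int.negSucc 0, Int.negSucc 0, Int.negSucc 0, Int.ofNat 1, Int.negSucc 0, Int.negSucc 0, Int.ofNat 1, Int.ofNat 1, Int.ofNat 1, Int.negSucc 0, Int.negSucc 2, Int.negSucc 0, Int.ofNat 1, Int.negSucc 0],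
  [Int.ofNat 1, Int.negSucc 0, Int.ofNat 1, Int.negSucc 0, Int.negSucc 0, Int.negSucc 0, Int.negSucc 0, Int.negSucc 0, Int.ofNat 1, Int.negSucc 0, Int.negSucc 0, Int.negSucc 0, Int.negSucc 0, Int.negSucc 0, Int.ofNat 1, Int.negSucc 0, Int.negSucc 0, Int.ofNat 1, Int.ofNat 1, Int.ofNat 1, Int.negSucc 0, Int.negSucc 2, Int.negSucc 0, Int.negSucc 0],
  [Int.negSucc 0, Int.ofNat 1, Int.negSucc 0, Int.negSucc 0, Int.ofNat 1, Int.negSucc 0, Int.ofNat 1, Int.ofNat 1, Int.ofNat 1, Int.ofNat 1, Int.ofNat 1, Int.negSucc 0, Int.negSucc 0, Int.ofNat 1, Int.ofNat 1, Int.ofNat 1, Int.ofNat 1, Int.ofNat 1, Int.ofNat 1, Int.ofNat 3, Int.ofNat 1, Int.negSucc 0, Int.ofNat 1, Int.ofNat 1],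
  [Int.negSucc 0, Int.ofNat 1, Int.negSucc 0, Int.ofNat 1, Int.ofNat 1, Int.ofNat 1, Int.ofNat 1, Int.ofNat 1, Int.negSucc 0, Int.negSucc 0, Int.ofNat 1, Int.ofNat 1, Int.ofNat 1, Int.ofNat 1, Int.ofNat 1, Int.ofNat 1, Int.ofNat 3, Int.ofNat 1, Int.negSucc 0, Int.ofNat 1, Int.negSucc 0, Int.ofNat 1, Int.negSucc 0, Int.ofNat 1],
  [Int.ofNat 1, Int.negSucc 0, Int.ofNat 1, Int.negSucc 0, Int.negSucc 0, Int.negSucc 0, Int.negSucc 0, Int.negSucc 0, Int.negSucc 0, Int.negSucc 0, Int.ofNat 1, Int.ofNat 1, Int.ofNat 1, Int.negSucc 0, Int.negSucc 0, Int.ofNat 1, Int.ofNat 1, Int.negSucc 0, Int.negSucc 0, Int.negSucc 0, Int.negSucc 0, Int.negSucc 0, Int.negSucc 2, Int.negSucc 0],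
  [Int.ofNat 1, Int.negSucc 0, Int.negSucc 0, Int.negSucc 0, Int.negSucc 0, Int.negSucc 0, Int.ofNat 1, Int.ofNat 1, Int.ofNat 1, Int.negSucc 0, Int.negSucc 0, Int.negSucc 0, Int.negSucc 0, Int.ofNat 1, Int.negSucc 2, Int.ofNat 1, Int.negSucc 0, Int.negSucc 0, Int.negSucc 0, Int.ofNat 1, Int.negSucc 0, Int.negSucc 0, Int.negSucc 0, Int.negSucc 0],
  [Int.negSucc 1, Int.ofNat 0, Int.ofNat 0, Int.ofNat 2, Int.ofNat 0, Int.ofNat 2, Int.ofNat 0, Int.ofNat 0, Int.ofNat 2, Int.ofNat 0, Int.ofNat 0, Int.ofNat 0, Int.ofNat 0, Int.ofNat 2, Int.ofNat 0, Int.ofNat 2, Int.ofNat 0, Int.ofNat 2, Int.ofNat 0, Int.ofNat 0, Int.ofNat 0, Int.negSucc 1, Int.ofNat 0, Int.ofNat 0],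
  [Int.negSucc 1, Int.ofNat 0, Int.ofNat 0, Int.ofNat 2, Int.ofNat 0, Int.negSucc 1, Int.ofNat 0, Int.ofNat 0, Int.ofNat 2, Int.ofNat 0, Int.ofNat 0, Int.ofNat 0, Int.ofNat 0, Int.ofNat 2, Int.ofNat 0, Int.negSucc 1, Int.ofNat 0, Int.ofNat 2, Int.ofNat 0, Int.ofNat 0, Int.ofNat 0, Int.negSucc 1, Int.ofNat 0, Int.ofNat 0],
  [Int.ofNat 0, Int.ofNat 0, Int.ofNat 0, Int.ofNat 2, Int.ofNat 0, Int.ofNat 0, Int.negSucc 1, Int.ofNat 2, Int.negSucc 1, Int.ofNat 0, Int.ofNat 2, Int.ofNat 0, Int.negSucc 1, Int.ofNat 0, Int.ofNat 2, Int.ofNat 0, Int.ofNat 0, Int.ofNat 0, Int.ofNat 0, Int.ofNat 0, Int.negSucc 1, Int.ofNat 0, Int.ofNat 0, Int.ofNat 0],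
  [Int.ofNat 0, Int.ofNat 0, Int.ofNat 0, Int.ofNat 0, Int.ofNat 0, Int.ofNat 0, Int.ofNat 0, Int.ofNat 0, Int.negSucc 1, Int.ofNat 0, Int.ofNat 0, Int.ofNat 0, Int.ofNat 0, Int.ofNat 2, Int.ofNat 0, Int.ofNat 2, Int.ofNat 2, Int.ofNat 0, Int.ofNat 2, Int.negSucc 1, Int.negSucc 1, Int.negSucc 1, Int.ofNat 0, Int.ofNat 0],
  [Int.ofNat 0, Int.ofNat 0, Int.ofNat 0, Int.ofNat 0, Int.ofNat 0, Int.ofNat 0, Int.ofNat 0, Int.ofNat 0, Int.negSucc 1, Int.ofNat 0, Int.ofNat 0, Int.ofNat 0, Int.ofNat 0, Int.ofNat 2, Int.ofNat 0, Int.ofNat 2, Int.ofNat 2, Int.ofNat 0, Int.negSucc 1, Int.negSucc 1, Int.negSucc 1, Int.ofNat 2, Int.ofNat 0, Int.ofNat 0],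
  [Int.ofNat 0, Int.ofNat 0, Int.ofNat 0, Int.ofNat 0, Int.ofNat 0, Int.ofNat 0, Int.ofNat 0, Int.ofNat 0, Int.ofNat 0, Int.negSucc 1, Int.ofNat 0, Int.ofNat 0, Int.ofNat 0, Int.ofNat 0, Int.ofNat 2, Int.ofNat 0, Int.ofNat 2, Int.ofNat 2, Int.ofNat 0, Int.negSucc 1, Int.negSucc 1, Int.negSucc 1, Int.ofNat 2, Int.ofNat 0],
  [Int.ofNat 0, Int.ofNat 0, Int.ofNat 0, Int.negSucc 1, Int.negSucc 1, Int.negSucc 1, Int.ofNat 2, Int.ofNat 2, Int.ofNat 0, Int.ofNat 0, Int.ofNat 2, Int.ofNat 0, Int.ofNat 0, Int.negSucc 1, Int.ofNat 0, Int.ofNat 2, Int.ofNat 0, Int.ofNat 0, Int.ofNat 0, Int.ofNat 0, Int.ofNat 0, Int.ofNat 0, Int.ofNat 0, Int.ofNat 0],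
  [Int.negSucc 1, Int.negSucc 1, Int.negSucc 1, Int.ofNat 2, Int.ofNat 2, Int.ofNat 0, Int.ofNat 0, Int.ofNat 2, Int.ofNat 0, Int.ofNat 0, Int.negSucc 1, Int.ofNat 0, Int.ofNat 2, Int.ofNat 0, Int.ofNat 0, Int.ofNat 0, Int.ofNat 0, Int.ofNat 0, Int.ofNat 0, Int.ofNat 0, Int.ofNat 0, Int.ofNat 0, Int.ofNat 0, Int.ofNat 0],
  [Int.negSucc 0, Int.negSucc 0, Int.negSucc 0, Int.ofNat 1, Int.ofNat 1, Int.negSucc 0, Int.negSucc 0, Int.ofNat 1, Int.negSucc 0, Int.ofNat 1, Int.negSucc 0, Int.negSucc 0, Int.ofNat 1, Int.negSucc 0, Int.negSucc 0, Int.ofNat 1, Int.negSucc 0, Int.negSucc 0, Int.negSucc 0, Int.negSucc 0, Int.ofNat 1, Int.negSucc 0, Int.negSucc 0, Int.negSucc 2],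
  [Int.negSucc 0, Int.negSucc 0, Int.ofNat 1, Int.ofNat 1, Int.negSucc 0, Int.ofNat 1, Int.negSucc 0, Int.negSucc 0, Int.ofNat 1, Int.negSucc 0, Int.ofNat 1, Int.negSucc 0, Int.ofNat 1, Int.negSucc 0, Int.negSucc 0, Int.ofNat 1, Int.negSucc 0, Int.negSucc 0, Int.negSucc 0, Int.negSucc 0, Int.negSucc 0, Int.negSucc 0, Int.negSucc 0, Int.negSucc 2],
  [Int.negSucc 0, Int.negSucc 0, Int.negSucc 2, Int.ofNat 1, Int.ofNat 1, Int.ofNat 1, Int.ofNat 1, Int.ofNat 1, Int.ofNat 1, Int.negSucc 0, Int.ofNat 1, Int.negSucc 0, Int.ofNat 1, Int.ofNat 1, Int.negSucc 0, Int.ofNat 1, Int.ofNat 1, Int.negSucc 0, Int.negSucc 0, Int.ofNat 1, Int.negSucc 0, Int.ofNat 1, Int.ofNat 1, Int.ofNat 1],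
  [Int.negSucc 0, Int.negSucc 0, Int.ofNat 3, Int.ofNat 1, Int.ofNat 1, Int.negSucc 0, Int.negSucc 0, Int.ofNat 1, Int.ofNat 1, Int.ofNat 1, Int.negSucc 0, Int.negSucc 0, Int.ofNat 1, Int.ofNat 1, Int.negSucc 0, Int.negSucc 0, Int.ofNat 1, Int.negSucc 0, Int.ofNat 1, Int.ofNat 1, Int.negSucc 0, Int.ofNat 1, Int.negSucc 0, Int.ofNat 1],
  [Int.ofNat 1, Int.ofNat 1, Int.ofNat 1, Int.ofNat 1, Int.negSucc 0, Int.negSucc 0, Int.ofNat 1, Int.ofNat 1, Int.negSucc 0, Int.negSucc 0, Int.ofNat 3, Int.negSucc 0, Int.ofNat 1, Int.ofNat 1, Int.negSucc 0, Int.negSucc 0, Int.negSucc 0, Int.ofNat 1, Int.ofNat 1, Int.negSucc 0, Int.negSucc 0, Int.negSucc 0, Int.ofNat 1, Int.ofNat 1],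
  [Int.ofNat 1, Int.ofNat 1, Int.negSucc 0, Int.ofNat 1, Int.negSucc 0, Int.ofNat 1, Int.negSucc 0, Int.ofNat 1, Int.negSucc 0, Int.ofNat 1, Int.negSucc 2, Int.negSucc 0, Int.ofNat 1, Int.ofNat 1, Int.negSucc 0, Int.ofNat 1, Int.negSucc 0, Int.ofNat 1, Int.negSucc 0, Int.negSucc 0, Int.negSucc 0, Int.negSucc 0, Int.negSucc 0, Int.ofNat 1],
  [Int.ofNat 0, Int.ofNat 0, Int.ofNat 2, Int.ofNat 0, Int.ofNat 0, Int.ofNat 0, Int.ofNat 0, Int.ofNat 2, Int.ofNat 0, Int.ofNat 2, Int.negSucc 1, Int.ofNat 0, Int.ofNat 2, Int.ofNat 2, Int.negSucc 1, Int.ofNat 2, Int.ofNat 0, Int.ofNat 0, Int.ofNat 0, Int.ofNat 0, Int.ofNat 0, Int.ofNat 0, Int.ofNat 0, Int.ofNat 0],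
  [Int.ofNat 0, Int.ofNat 0, Int.ofNat 0, Int.ofNat 0, Int.ofNat 2, Int.ofNat 0, Int.ofNat 0, Int.ofNat 0, Int.ofNat 0, Int.ofNat 2, Int.ofNat 2, Int.ofNat 0, Int.ofNat 0, Int.ofNat 2, Int.ofNat 0, Int.ofNat 2, Int.ofNat 2, Int.ofNat 0, Int.ofNat 0, Int.ofNat 0, Int.negSucc 1, Int.ofNat 0, Int.negSucc 1, Int.ofNat 0],
  [Int.ofNat 0, Int.ofNat 0, Int.ofNat 0, Int.ofNat 0, Int.ofNat 0, Int.ofNat 0, Int.ofNat 0, Int.ofNat 0, Int.ofNat 0, Int.ofNat 0, Int.ofNat 0, Int.ofNat 0, Int.ofNat 0, Int.ofNat 0, Int.ofNat 0, Int.ofNat 0, Int.ofNat 0, Int.ofNat 0, Int.ofNat 0, Int.ofNat 0, Int.negSucc 3, Int.ofNat 0, Int.negSucc 3, Int.ofNat 0],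
  [Int.negSucc 3, Int.ofNat 0, Int.negSucc 3, Int.ofNat 0, Int.ofNat 0, Int.ofNat 0, Int.ofNat 0, Int.ofNat 0, Int.ofNat 0, Int.ofNat 0, Int.ofNat 0, Int.ofNat 0, Int.ofNat 0, Int.ofNat 0, Int.ofNat 0, Int.ofNat 0, Int.ofNat 0, Int.ofNat 0, Int.ofNat 0, Int.ofNat 0, Int.ofNat 0, Int.ofNat 0, Int.ofNat 0, Int.ofNat 0],
  [Int.ofNat 0, Int.negSucc 3, Int.ofNat 0, Int.ofNat 0, Int.ofNat 0, Int.ofNat 0, Int.ofNat 0, Int.ofNat 0, Int.ofNat 0, Int.ofNat 0, Int.ofNat 0, Int.ofNat 0, Int.ofNat 0, Int.ofNat 0, Int.ofNat 0, Int.ofNat 0, Int.ofNat 0, Int.ofNat 0, Int.ofNat 0, Int.ofNat 0, Int.ofNat 0, Int.ofNat 0, Int.ofNat 0, Int.negSucc 3],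
  [Int.negSucc 3, Int.ofNat 0, Int.ofNat 0, Int.ofNat 0, Int.ofNat 0, Int.ofNat 0, Int.ofNat 0, Int.ofNat 0, Int.ofNat 0, Int.ofNat 0, Int.ofNat 0, Int.ofNat 0, Int.ofNat 0, Int.ofNat 0, Int.ofNat 0, Int.ofNat 0, Int.ofNat 0, Int.ofNat 0, Int.ofNat 0, Int.ofNat 0, Int.ofNat 0, Int.ofNat 0, Int.ofNat 0, Int.negSucc 3],
  [Int.ofNat 4, Int.ofNat 0, Int.ofNat 0, Int.ofNat 0, Int.ofNat 0, Int.ofNat 0, Int.ofNat 0, Int.ofNat 0, Int.ofNat 0, Int.ofNat 0, Int.ofNat 0, Int.ofNat 0, Int.ofNat 0, Int.ofNat 0, Int.ofNat 0, Int.ofNat 0, Int.ofNat 0, Int.ofNat 0, Int.ofNat 0, Int.ofNat 0, Int.ofNat 0, Int.ofNat 0, Int.ofNat 0, Int.negSucc 3],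
  [Int.negSucc 3, Int.ofNat 0, Int.ofNat 0, Int.ofNat 0, Int.ofNat 0, Int.ofNat 0, Int.ofNat 0, Int.ofNat 0, Int.ofNat 0, Int.ofNat 0, Int.ofNat 0, Int.ofNat 0, Int.ofNat 0, Int.ofNat 0, Int.ofNat 0, Int.ofNat 0, Int.ofNat 0, Int.ofNat 0, Int.ofNat 0, Int.ofNat 0, Int.ofNat 0, Int.ofNat 0, Int.ofNat 0, Int.negSucc 3],
  [Int.negSucc 3, Int.ofNat 0, Int.ofNat 0, Int.ofNat 0, Int.ofNat 0, Int.ofNat 0, Int.ofNat 0, Int.ofNat 0, Int.ofNat 0, Int.ofNat 0, Int.ofNat 0, Int.ofNat 0, Int.ofNat 0, Int.ofNat 0, Int.ofNat 0, Int.ofNat 0, Int.ofNat 0, Int.ofNat 0, Int.ofNat 0, Int.ofNat 0, Int.ofNat 0, Int.ofNat 0, Int.ofNat 0, Int.negSucc 3],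
  [Int.ofNat 4, Int.ofNat 0, Int.ofNat 0, Int.ofNat 0, Int.ofNat 0, Int.ofNat 0, Int.ofNat 0, Int.ofNat 0, Int.ofNat 0, Int.ofNat 0, Int.ofNat 0, Int.ofNat 0, Int.ofNat 0, Int.ofNat 0, Int.ofNat 0, Int.ofNat 0, Int.ofNat 0, Int.ofNat 0, Int.ofNat 0, Int.ofNat 0, Int.ofNat 0, Int.ofNat 0, Int.ofNat 0, Int.negSucc 3],
  [Int.ofNat 0, Int.ofNat 4, Int.ofNat 0, Int.ofNat 0, Int.ofNat 0, Int.ofNat 0, Int.ofNat 0, Int.ofNat 0, Int.ofNat 0, Int.ofNat 0, Int.ofNat 0, Int.ofNat 0, Int.ofNat 0, Int.ofNat 0, Int.ofNat 0, Int.ofNat 0, Int.ofNat 0, Int.ofNat 0, Int.ofNat 0, Int.ofNat 0, Int.ofNat 0, Int.ofNat 0, Int.ofNat 0, Int.negSucc 3],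
  [Int.ofNat 0, Int.negSucc 3, Int.ofNat 0, Int.ofNat 0, Int.ofNat 0, Int.ofNat 0, Int.ofNat 0, Int.ofNat 0, Int.ofNat 0, Int.ofNat 0, Int.ofNat 0, Int.ofNat 0, Int.ofNat 0, Int.ofNat 0, Int.ofNat 0, Int.ofNat 0, Int.ofNat 0, Int.ofNat 0, Int.ofNat 0, Int.ofNat 0, Int.ofNat 0, Int.ofNat 0, Int.ofNat 0, Int.ofNat 4],
  [Int.ofNat 0, Int.ofNat 0, Int.ofNat 0, Int.ofNat 0, Int.ofNat 0, Int.ofNat 0, Int.ofNat 0, Int.ofNat 0, Int.ofNat 0, Int.ofNat 0, Int.ofNat 0, Int.ofNat 0, Int.ofNat 0, Int.ofNat 0, Int.ofNat 0, Int.ofNat 0, Int.ofNat 0, Int.ofNat 0, Int.ofNat 0, Int.ofNat 0, Int.ofNat 0, Int.negSucc 3, Int.ofNat 0, Int.ofNat 4],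
  [Int.ofNat 2, Int.ofNat 2, Int.ofNat 2, Int.ofNat 0, Int.ofNat 0, Int.ofNat 0, Int.ofNat 2, Int.ofNat 2, Int.ofNat 0, Int.ofNat 0, Int.ofNat 0, Int.ofNat 0, Int.ofNat 0, Int.ofNat 0, Int.ofNat 0, Int.ofNat 0, Int.ofNat 0, Int.ofNat 0, Int.ofNat 0, Int.ofNat 2, Int.ofNat 0, Int.negSucc 1, Int.ofNat 0, Int.negSucc 1],
  [Int.ofNat 2, Int.ofNat 2, Int.ofNat 0, Int.ofNat 0, Int.ofNat 0, Int.ofNat 2, Int.ofNat 2, Int.ofNat 0, Int.ofNat 0, Int.ofNat 0, Int.ofNat 0, Int.ofNat 0, Int.ofNat 0, Int.ofNat 0, Int.ofNat 0, Int.ofNat 0, Int.ofNat 0, Int.ofNat 0, Int.ofNat 2, Int.ofNat 0, Int.negSucc 1, Int.ofNat 0, Int.ofNat 2, Int.negSucc 1],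
  [Int.negSucc 0, Int.negSucc 0, Int.ofNat 1, Int.negSucc 0, Int.negSucc 0, Int.ofNat 1, Int.ofNat 1, Int.negSucc 0, Int.negSucc 0, Int.ofNat 1, Int.ofNat 1, Int.negSucc 0, Int.negSucc 0, Int.negSucc 0, Int.negSucc 0, Int.ofNat 1, Int.negSucc 0, Int.negSucc 0, Int.ofNat 1, Int.negSucc 0, Int.negSucc 0, Int.negSucc 0, Int.ofNat 1, Int.ofNat 3],
  [Int.negSucc 0, Int.negSucc 0, Int.negSucc 0, Int.negSucc 0, Int.negSucc 0, Int.negSucc 0, Int.negSucc 0, Int.negSucc 0, Int.negSucc 0, Int.negSucc 0, Int.negSucc 0, Int.negSucc 0, Int.negSucc 0, Int.negSucc 0, Int.negSucc 0, Int.negSucc 0, Int.negSucc 0, Int.negSucc 0, Int.negSucc 0, Int.negSucc 0, Int.negSucc 0, Int.negSucc 0, Int.negSucc 0, Int.ofNat 3],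
  [Int.negSucc 0, Int.negSucc 0, Int.negSucc 0, Int.negSucc 0, Int.negSucc 0, Int.negSucc 0, Int.negSucc 0, Int.negSucc 0, Int.negSucc 0, Int.negSucc 0, Int.negSucc 0, Int.negSucc 0, Int.negSucc 0, Int.negSucc 0, Int.negSucc 0, Int.negSucc 0, Int.negSucc 0, Int.negSucc 0, Int.negSucc 0, Int.negSucc 0, Int.negSucc 0, Int.negSucc 0, Int.negSucc 0, Int.ofNat 3],
  [Int.ofNat 3, Int.negSucc 0, Int.negSucc 0, Int.negSucc 0, Int.negSucc 0, Int.negSucc 0, Int.negSucc 0, Int.negSucc 0, Int.negSucc 0, Int.negSucc 0, Int.negSucc 0, Int.negSucc 0, Int.negSucc 0, Int.negSucc 0, Int.negSucc 0, Int.negSucc 0, Int.negSucc 0, Int.negSucc 0, Int.negSucc 0, Int.negSucc 0, Int.negSucc 0, Int.negSucc 0, Int.negSucc 0, Int.negSucc 0],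
  [Int.negSucc 2, Int.negSucc 0, Int.ofNat 1, Int.negSucc 0, Int.negSucc 0, Int.negSucc 0, Int.negSucc 0, Int.ofNat 1, Int.negSucc 0, Int.ofNat 1, Int.ofNat 1, Int.ofNat 1, Int.negSucc 0, Int.negSucc 0, Int.negSucc 0, Int.negSucc 0, Int.negSucc 0, Int.negSucc 0, Int.ofNat 1, Int.negSucc 0, Int.negSucc 0, Int.ofNat 1, Int.negSucc 0, Int.negSucc 0],
  [Int.negSucc 0, Int.negSucc 2, Int.negSucc 0, Int.ofNat 1, Int.negSucc 0, Int.negSucc 0, Int.negSucc 0, Int.negSucc 0, Int.ofNat 1, Int.negSucc 0, Int.ofNat 1, Int.ofNat 1, Int.ofNat 1, Int.negSucc 0, Int.negSucc 0, Int.negSucc 0, Int.negSucc 0, Int.negSucc 0, Int.negSucc 0, Int.ofNat 1, Int.negSucc 0, Int.negSucc 0, Int.ofNat 1, Int.negSucc 0],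
  [Int.negSucc 1, Int.ofNat 0, Int.negSucc 1, Int.ofNat 2, Int.ofNat 0, Int.ofNat 0, Int.ofNat 0, Int.ofNat 0, Int.ofNat 0, Int.ofNat 0, Int.ofNat 2, Int.ofNat 0, Int.ofNat 0, Int.ofNat 0, Int.ofNat 0, Int.ofNat 0, Int.ofNat 0, Int.ofNat 0, Int.negSucc 1, Int.ofNat 2, Int.ofNat 0, Int.ofNat 0, Int.ofNat 2, Int.negSucc 1],
  [Int.ofNat 2, Int.ofNat 0, Int.ofNat 0, Int.ofNat 0, Int.ofNat 0, Int.ofNat 0, Int.ofNat 0, Int.ofNat 2, Int.ofNat 0, Int.ofNat 0, Int.ofNat 0, Int.ofNat 0, Int.ofNat 0, Int.ofNat 0, Int.ofNat 0, Int.negSucc 1, Int.ofNat 2, Int.ofNat 0, Int.ofNat 0, Int.ofNat 2, Int.negSucc 1, Int.ofNat 0, Int.negSucc 1, Int.negSucc 1],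
  [Int.negSucc 1, Int.ofNat 0, Int.ofNat 0, Int.ofNat 0, Int.ofNat 0, Int.ofNat 0, Int.negSucc 1, Int.ofNat 0, Int.ofNat 0, Int.ofNat 2, Int.ofNat 2, Int.ofNat 0, Int.ofNat 0, Int.ofNat 0, Int.ofNat 0, Int.ofNat 0, Int.ofNat 2, Int.ofNat 0, Int.ofNat 0, Int.ofNat 0, Int.ofNat 0, Int.negSucc 1, Int.negSucc 1, Int.ofNat 2],
  [Int.negSucc 1, Int.negSucc 1, Int.ofNat 0, Int.ofNat 0, Int.ofNat 0, Int.ofNat 0, Int.ofNat 0, Int.ofNat 2, Int.ofNat 0, Int.ofNat 0, Int.ofNat 0, Int.ofNat 0, Int.ofNat 2, Int.ofNat 2, Int.negSucc 1, Int.ofNat 0, Int.ofNat 0, Int.ofNat 0, Int.ofNat 0, Int.ofNat 0, Int.negSucc 1, Int.ofNat 0, Int.ofNat 0, Int.ofNat 2],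
  [Int.ofNat 1, Int.ofNat 1, Int.negSucc 0, Int.ofNat 1, Int.negSucc 0, Int.ofNat 1, Int.negSucc 0, Int.ofNat 1, Int.negSucc 0, Int.ofNat 1, Int.ofNat 1, Int.negSucc 0, Int.ofNat 1, Int.ofNat 1, Int.negSucc 0, Int.ofNat 1, Int.negSucc 0, Int.ofNat 1, Int.negSucc 0, Int.negSucc 0, Int.negSucc 0, Int.negSucc 0, Int.negSucc 0, Int.negSucc 2],
  [Int.ofNat 1, Int.ofNat 1, Int.ofNat 1, Int.ofNat 1, Int.negSucc 0, Int.negSucc 0, Int.ofNat 1, Int.ofNat 1, Int.negSucc 0, Int.negSucc 0, Int.negSucc 0, Int.negSucc 0, Int.ofNat 1, Int.ofNat 1, Int.negSucc 0, Int.negSucc 0, Int.negSucc 0, Int.ofNat 1, Int.ofNat 1, Int.negSucc 0, Int.negSucc 0, Int.negSucc 0, Int.ofNat 1, Int.negSucc 2],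
  [Int.negSucc 0, Int.ofNat 1, Int.ofNat 1, Int.negSucc 0, Int.negSucc 0, Int.negSucc 0, Int.negSucc 0, Int.ofNat 1, Int.ofNat 1, Int.ofNat 1, Int.ofNat 1, Int.ofNat 1, Int.negSucc 0, Int.negSucc 0, Int.negSucc 0, Int.negSucc 0, Int.ofNat 1, Int.ofNat 1, Int.ofNat 1, Int.negSucc 0, Int.ofNat 1, Int.negSucc 0, Int.negSucc 0, Int.negSucc 2],
  [Int.negSucc 0, Int.ofNat 1, Int.negSucc 0, Int.negSucc 0, Int.negSucc 0, Int.ofNat 1, Int.ofNat 1, Int.ofNat 1, Int.ofNat 1, Int.negSucc 0, Int.negSucc 0, Int.ofNat 1, Int.negSucc 0, Int.negSucc 0, Int.negSucc 0, Int.ofNat 1, Int.ofNat 1, Int.ofNat 1, Int.negSucc 0, Int.negSucc 0, Int.ofNat 1, Int.negSucc 0, Int.ofNat 1, Int.negSucc 2],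
  [Int.negSucc 0, Int.negSucc 2, Int.negSucc 0, Int.negSucc 0, Int.negSucc 0, Int.ofNat 1, Int.ofNat 1, Int.ofNat 1, Int.ofNat 1, Int.negSucc 0, Int.negSucc 0, Int.ofNat 1, Int.negSucc 0, Int.negSucc 0, Int.negSucc 0, Int.ofNat 1, Int.ofNat 1, Int.ofNat 1, Int.negSucc 0, Int.negSucc 0, Int.ofNat 1, Int.negSucc 0, Int.ofNat 1, Int.ofNat 1],
  [Int.negSucc 0, Int.negSucc 0, Int.ofNat 1, Int.negSucc 0, Int.negSucc 0, Int.negSucc 0, Int.negSucc 2, Int.ofNat 1, Int.ofNat 1, Int.negSucc 0, Int.ofNat 1, Int.negSucc 0, Int.ofNat 1, Int.negSucc 0, Int.ofNat 1, Int.ofNat 1, Int.negSucc 0, Int.ofNat 1, Int.negSucc 0, Int.ofNat 1, Int.negSucc 0, Int.ofNat 1, Int.negSucc 0, Int.ofNat 1],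
  [Int.ofNat 1, Int.ofNat 1, Int.negSucc 0, Int.negSucc 0, Int.ofNat 1, Int.negSucc 0, Int.negSucc 2, Int.ofNat 1, Int.ofNat 1, Int.negSucc 0, Int.ofNat 1, Int.negSucc 0, Int.ofNat 1, Int.ofNat 1, Int.ofNat 1, Int.ofNat 1, Int.ofNat 1, Int.ofNat 1, Int.negSucc 0, Int.ofNat 1, Int.negSucc 0, Int.ofNat 1, Int.ofNat 1, Int.negSucc 0],
  [Int.negSucc 0, Int.ofNat 1, Int.ofNat 1, Int.ofNat 1, Int.ofNat 1, Int.negSucc 0, Int.negSucc 0, Int.ofNat 1, Int.negSucc 0, Int.negSucc 2, Int.ofNat 1, Int.ofNat 1, Int.negSucc 0, Int.ofNat 1, Int.negSucc 0, Int.ofNat 1, Int.ofNat 1, Int.ofNat 1, Int.ofNat 1, Int.ofNat 1, Int.ofNat 1, Int.negSucc 0, Int.ofNat 1, Int.negSucc 0],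
  [Int.ofNat 1, Int.negSucc 0, Int.negSucc 0, Int.ofNat 1, Int.negSucc 0, Int.negSucc 0, Int.negSucc 0, Int.ofNat 1, Int.negSucc 0, Int.negSucc 2, Int.ofNat 1, Int.ofNat 1, Int.negSucc 0, Int.negSucc 0, Int.negSucc 0, Int.ofNat 1, Int.negSucc 0, Int.ofNat 1, Int.ofNat 1, Int.ofNat 1, Int.ofNat 1, Int.negSucc 0, Int.negSucc 0, Int.ofNat 1],
  [Int.negSucc 0, Int.negSucc 0, Int.ofNat 1, Int.negSucc 0, Int.negSucc 0, Int.negSucc 0, Int.ofNat 1, Int.negSucc 0, Int.negSucc 2, Int.ofNat 1, Int.ofNat 1, Int.negSucc 0, Int.negSucc 0, Int.negSucc 0, Int.ofNat 1, Int.negSucc 0, Int.ofNat 1, Int.ofNat 1, Int.ofNat 1, Int.ofNat 1, Int.negSucc 0, Int.negSucc 0, Int.ofNat 1, Int.ofNat 1],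
  [Int.ofNat 1, Int.negSucc 0, Int.negSucc 0, Int.negSucc 0, Int.negSucc 0, Int.negSucc 0, Int.ofNat 1, Int.ofNat 1, Int.negSucc 2, Int.negSucc 0, Int.negSucc 0, Int.ofNat 1, Int.negSucc 0, Int.negSucc 0, Int.ofNat 1, Int.negSucc 0, Int.ofNat 1, Int.ofNat 1, Int.negSucc 0, Int.ofNat 1, Int.negSucc 0, Int.ofNat 1, Int.ofNat 1, Int.ofNat 1],
  [Int.negSucc 0, Int.ofNat 1, Int.ofNat 1, Int.ofNat 1, Int.ofNat 1, Int.negSucc 0, Int.negSucc 0, Int.ofNat 1, Int.ofNat 3, Int.ofNat 1, Int.negSucc 0, Int.ofNat 1, Int.ofNat 1, Int.ofNat 1, Int.ofNat 1, Int.negSucc 0, Int.negSucc 0, Int.ofNat 1, Int.ofNat 1, Int.ofNat 1, Int.negSucc 0, Int.ofNat 1, Int.ofNat 1, Int.ofNat 1],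
  [Int.negSucc 0, Int.ofNat 1, Int.ofNat 1, Int.ofNat 1, Int.ofNat 1, Int.negSucc 0, Int.ofNat 1, Int.negSucc 0, Int.ofNat 1, Int.negSucc 0, Int.ofNat 1, Int.ofNat 1, Int.ofNat 1, Int.ofNat 3, Int.ofNat 1, Int.negSucc 0, Int.ofNat 1, Int.ofNat 1, Int.negSucc 0, Int.ofNat 1, Int.negSucc 0, Int.ofNat 1, Int.ofNat 1, Int.ofNat 1],
  [Int.ofNat 1, Int.ofNat 1, Int.negSucc 0, Int.ofNat 1, Int.ofNat 1, Int.negSucc 0, Int.ofNat 1, Int.ofNat 1, Int.ofNat 1, Int.ofNat 1, Int.negSucc 0, Int.negSucc 0, Int.ofNat 1, Int.ofNat 3, Int.ofNat 1, Int.negSucc 0, Int.ofNat 1, Int.ofNat 1, Int.ofNat 1, Int.ofNat 1, Int.negSucc 0, Int.negSucc 0, Int.ofNat 1, Int.ofNat 1],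
  [Int.ofNat 1, Int.ofNat 1, Int.ofNat 1, Int.negSucc 0, Int.ofNat 1, Int.ofNat 1, Int.negSucc 0, Int.ofNat 1, Int.ofNat 1, Int.ofNat 1, Int.ofNat 1, Int.negSucc 0, Int.negSucc 0, Int.ofNat 1, Int.ofNat 3, Int.ofNat 1, Int.negSucc 0, Int.ofNat 1, Int.ofNat 1, Int.ofNat 1, Int.ofNat 1, Int.negSucc 0, Int.negSucc 0, Int.ofNat 1],
  [Int.ofNat 1, Int.ofNat 1, Int.ofNat 1, Int.negSucc 2, Int.ofNat 1, Int.negSucc 0, Int.negSucc 0, Int.ofNat 1, Int.ofNat 1, Int.negSucc 0, Int.negSucc 0, Int.negSucc 0, Int.negSucc 0, Int.ofNat 1, Int.ofNat 1, Int.negSucc 0, Int.negSucc 0, Int.negSucc 0, Int.ofNat 1, Int.ofNat 1, Int.negSucc 0, Int.negSucc 0, Int.negSucc 0, Int.ofNat 1],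
  [Int.negSucc 2, Int.ofNat 1, Int.negSucc 0, Int.negSucc 0, Int.ofNat 1, Int.ofNat 1, Int.negSucc 0, Int.negSucc 0, Int.negSucc 0, Int.negSucc 0, Int.ofNat 1, Int.ofNat 1, Int.negSucc 0, Int.negSucc 0, Int.negSucc 0, Int.ofNat 1, Int.ofNat 1, Int.negSucc 0, Int.negSucc 0, Int.negSucc 0, Int.ofNat 1, Int.ofNat 1, Int.ofNat 1, Int.ofNat 1],
  [Int.ofNat 2, Int.negSucc 1, Int.ofNat 0, Int.ofNat 0, Int.ofNat 0, Int.ofNat 2, Int.ofNat 0, Int.ofNat 0, Int.ofNat 0, Int.negSucc 1, Int.ofNat 0, Int.ofNat 2, Int.ofNat 0, Int.negSucc 1, Int.ofNat 0, Int.ofNat 0, Int.ofNat 0, Int.ofNat 0, Int.ofNat 0, Int.ofNat 0, Int.ofNat 0, Int.ofNat 2, Int.ofNat 0, Int.negSucc 1],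
  [Int.ofNat 2, Int.ofNat 0, Int.ofNat 0, Int.ofNat 0, Int.ofNat 0, Int.ofNat 0, Int.ofNat 0, Int.ofNat 0, Int.ofNat 0, Int.negSucc 1, Int.ofNat 0, Int.ofNat 0, Int.negSucc 1, Int.ofNat 0, Int.ofNat 0, Int.ofNat 0, Int.ofNat 0, Int.ofNat 0, Int.negSucc 1, Int.ofNat 2, Int.ofNat 2, Int.ofNat 2, Int.ofNat 0, Int.negSucc 1],
  [Int.negSucc 1, Int.ofNat 0, Int.ofNat 0, Int.ofNat 0, Int.ofNat 0, Int.ofNat 0, Int.negSucc 1, Int.negSucc 1, Int.ofNat 2, Int.negSucc 1, Int.ofNat 0, Int.ofNat 2, Int.ofNat 0, Int.ofNat 0, Int.ofNat 0, Int.ofNat 0, Int.ofNat 0, Int.ofNat 0, Int.ofNat 0, Int.ofNat 0, Int.ofNat 2, Int.ofNat 0, Int.ofNat 0, Int.ofNat 2],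
  [Int.negSucc 1, Int.ofNat 0, Int.ofNat 0, Int.ofNat 0, Int.ofNat 0, Int.ofNat 0, Int.ofNat 2, Int.negSucc 1, Int.ofNat 2, Int.ofNat 2, Int.ofNat 0, Int.ofNat 2, Int.ofNat 0, Int.ofNat 0, Int.ofNat 0, Int.ofNat 0, Int.ofNat 0, Int.ofNat 0, Int.ofNat 0, Int.ofNat 0, Int.ofNat 2, Int.ofNat 0, Int.ofNat 0, Int.ofNat 2],
  [Int.ofNat 0, Int.ofNat 0, Int.ofNat 2, Int.ofNat 2, Int.ofNat 0, Int.ofNat 2, Int.ofNat 0, Int.ofNat 0, Int.ofNat 0, Int.ofNat 2, Int.ofNat 0, Int.negSucc 1, Int.ofNat 0, Int.ofNat 0, Int.ofNat 0, Int.ofNat 0, Int.ofNat 0, Int.ofNat 0, Int.ofNat 2, Int.ofNat 0, Int.negSucc 1, Int.ofNat 0, Int.ofNat 0, Int.ofNat 2],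
  [Int.ofNat 2, Int.ofNat 0, Int.negSucc 1, Int.ofNat 0, Int.ofNat 0, Int.ofNat 2, Int.ofNat 0, Int.ofNat 0, Int.negSucc 1, Int.ofNat 2, Int.ofNat 0, Int.ofNat 2, Int.ofNat 0, Int.ofNat 0, Int.ofNat 2, Int.ofNat 2, Int.ofNat 0, Int.ofNat 0, Int.ofNat 0, Int.ofNat 0, Int.ofNat 0, Int.ofNat 0, Int.ofNat 0, Int.ofNat 0],
  [Int.negSucc 1, Int.ofNat 0, Int.ofNat 2, Int.ofNat 0, Int.ofNat 0, Int.ofNat 2, Int.ofNat 0, Int.ofNat 0, Int.negSucc 1, Int.negSucc 1, Int.ofNat 0, Int.negSucc 1, Int.ofNat 0, Int.ofNat 0, Int.ofNat 2, Int.ofNat 2, Int.ofNat 0, Int.ofNat 0, Int.ofNat 0, Int.ofNat 0, Int.ofNat 0, Int.ofNat 0, Int.ofNat 0, Int.ofNat 0],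
  [Int.ofNat 0, Int.negSucc 1, Int.ofNat 0, Int.ofNat 2, Int.ofNat 0, Int.ofNat 0, Int.ofNat 2, Int.ofNat 0, Int.ofNat 0, Int.negSucc 1, Int.negSucc 1, Int.ofNat 0, Int.negSucc 1, Int.ofNat 0, Int.ofNat 0, Int.ofNat 2, Int.ofNat 2, Int.ofNat 0, Int.ofNat 0, Int.ofNat 0, Int.ofNat 0, Int.ofNat 0, Int.ofNat 0, Int.ofNat 0],
  [Int.negSucc 0, Int.ofNat 1, Int.negSucc 0, Int.ofNat 1, Int.negSucc 0, Int.negSucc 0, Int.ofNat 1, Int.negSucc 0, Int.ofNat 1, Int.negSucc 0, Int.negSucc 0, Int.ofNat 1, Int.negSucc 0, Int.negSucc 0, Int.negSucc 0, Int.ofNat 3, Int.ofNat 1, Int.negSucc 0, Int.ofNat 1, Int.negSucc 0, Int.ofNat 1, Int.negSucc 0, Int.negSucc 0, Int.negSucc 0],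
  [Int.ofNat 1, Int.negSucc 0, Int.negSucc 0, Int.ofNat 1, Int.negSucc 0, Int.ofNat 1, Int.negSucc 0, Int.negSucc 0, Int.ofNat 1, Int.negSucc 0, Int.negSucc 0, Int.negSucc 0, Int.ofNat 3, Int.ofNat 1, Int.negSucc 0, Int.ofNat 1, Int.negSucc 0, Int.ofNat 1, Int.negSucc 0, Int.negSucc 0, Int.negSucc 0, Int.ofNat 1, Int.negSucc 0, Int.negSucc 0],
  [Int.negSucc 1, Int.ofNat 0, Int.ofNat 0, Int.ofNat 0, Int.ofNat 0, Int.ofNat 0, Int.ofNat 0, Int.ofNat 0, Int.ofNat 0, Int.ofNat 0, Int.ofNat 0, Int.negSucc 1, Int.ofNat 2, Int.ofNat 2, Int.negSucc 1, Int.ofNat 2, Int.ofNat 0, Int.ofNat 0, Int.negSucc 1, Int.ofNat 0, Int.ofNat 0, Int.ofNat 2, Int.ofNat 0, Int.ofNat 0],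
  [Int.negSucc 1, Int.ofNat 0, Int.ofNat 0, Int.ofNat 0, Int.negSucc 1, Int.ofNat 0, Int.ofNat 0, Int.ofNat 0, Int.ofNat 2, Int.ofNat 2, Int.ofNat 0, Int.ofNat 0, Int.ofNat 0, Int.ofNat 0, Int.ofNat 0, Int.ofNat 2, Int.ofNat 0, Int.negSucc 1, Int.ofNat 0, Int.negSucc 1, Int.ofNat 2, Int.ofNat 0, Int.ofNat 0, Int.ofNat 0],
  [Int.ofNat 1, Int.negSucc 0, Int.negSucc 0, Int.ofNat 1, Int.negSucc 0, Int.ofNat 1, Int.ofNat 1, Int.ofNat 1, Int.ofNat 1, Int.negSucc 0, Int.negSucc 2, Int.negSucc 0, Int.negSucc 0, Int.ofNat 1, Int.ofNat 1, Int.negSucc 0, Int.ofNat 1, Int.negSucc 0, Int.negSucc 0, Int.negSucc 0, Int.negSucc 0, Int.ofNat 1, Int.ofNat 1, Int.negSucc 0],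
  [Int.ofNat 1, Int.negSucc 0, Int.ofNat 1, Int.ofNat 1, Int.negSucc 0, Int.negSucc 0, Int.negSucc 0, Int.ofNat 1, Int.ofNat 1, Int.ofNat 1, Int.ofNat 3, Int.negSucc 0, Int.negSucc 0, Int.ofNat 1, Int.ofNat 1, Int.ofNat 1, Int.ofNat 1, Int.negSucc 0, Int.ofNat 1, Int.negSucc 0, Int.negSucc 0, Int.ofNat 1, Int.negSucc 0, Int.negSucc 0],
  [Int.negSucc 0, Int.negSucc 0, Int.ofNat 1, Int.ofNat 1, Int.negSucc 0, Int.ofNat 1, Int.ofNat 1, Int.ofNat 1, Int.negSucc 0, Int.negSucc 0, Int.ofNat 1, Int.negSucc 0, Int.negSucc 0, Int.ofNat 1, Int.ofNat 3, Int.negSucc 0, Int.ofNat 1, Int.ofNat 1, Int.ofNat 1, Int.ofNat 1, Int.negSucc 0, Int.negSucc 0, Int.ofNat 1, Int.negSucc 0],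
  [Int.negSucc 0, Int.negSucc 0, Int.negSucc 0, Int.ofNat 1, Int.negSucc 0, Int.negSucc 0, Int.negSucc 0, Int.ofNat 1, Int.negSucc 0, Int.ofNat 1, Int.negSucc 0, Int.negSucc 0, Int.negSucc 0, Int.ofNat 1, Int.ofNat 3, Int.ofNat 1, Int.ofNat 1, Int.ofNat 1, Int.negSucc 0, Int.ofNat 1, Int.negSucc 0, Int.negSucc 0, Int.negSucc 0, Int.negSucc 0],
  [Int.negSucc 0, Int.negSucc 0, Int.negSucc 0, Int.negSucc 0, Int.negSucc 0, Int.negSucc 2, Int.negSucc 0, Int.ofNat 1, Int.ofNat 1, Int.ofNat 1, Int.negSucc 0, Int.ofNat 1, Int.ofNat 1, Int.ofNat 1, Int.ofNat 1, Int.ofNat 1, Int.ofNat 1, Int.negSucc 0, Int.ofNat 1, Int.ofNat 1, Int.negSucc 0, Int.negSucc 0, Int.negSucc 0, Int.negSucc 0],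
  [Int.negSucc 0, Int.ofNat 1, Int.negSucc 0, Int.negSucc 0, Int.negSucc 0, Int.negSucc 0, Int.negSucc 0, Int.negSucc 2, Int.ofNat 1, Int.ofNat 1, Int.ofNat 1, Int.ofNat 1, Int.ofNat 1, Int.ofNat 1, Int.negSucc 0, Int.ofNat 1, Int.ofNat 1, Int.ofNat 1, Int.negSucc 0, Int.negSucc 0, Int.negSucc 0, Int.negSucc 0, Int.ofNat 1, Int.negSucc 0],
  [Int.ofNat 0, Int.negSucc 1, Int.ofNat 0, Int.ofNat 0, Int.negSucc 1, Int.ofNat 0, Int.ofNat 2, Int.ofNat 0, Int.ofNat 0, Int.ofNat 0, Int.ofNat 0, Int.ofNat 0, Int.ofNat 0, Int.ofNat 0, Int.ofNat 0, Int.ofNat 0, Int.ofNat 0, Int.ofNat 2, Int.negSucc 1, Int.ofNat 2, Int.negSucc 1, Int.ofNat 2, Int.ofNat 0, Int.ofNat 0],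
  [Int.negSucc 1, Int.ofNat 2, Int.ofNat 0, Int.ofNat 0, Int.negSucc 1, Int.ofNat 0, Int.ofNat 0, Int.negSucc 1, Int.ofNat 0, Int.ofNat 2, Int.ofNat 0, Int.ofNat 0, Int.ofNat 0, Int.ofNat 0, Int.ofNat 0, Int.ofNat 0, Int.ofNat 0, Int.ofNat 0, Int.ofNat 0, Int.ofNat 0, Int.ofNat 2, Int.negSucc 1, Int.ofNat 2, Int.ofNat 0],
  [Int.ofNat 2, Int.negSucc 1, Int.ofNat 0, Int.ofNat 0, Int.negSucc 1, Int.ofNat 0, Int.ofNat 2, Int.ofNat 0, Int.ofNat 0, Int.ofNat 0, Int.negSucc 1, Int.ofNat 0, Int.ofNat 0, Int.ofNat 0, Int.ofNat 0, Int.negSucc 1, Int.ofNat 0, Int.ofNat 0, Int.ofNat 0, Int.ofNat 2, Int.ofNat 0, Int.ofNat 0, Int.ofNat 2, Int.ofNat 0],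
  [Int.negSucc 1, Int.ofNat 0, Int.ofNat 0, Int.negSucc 1, Int.ofNat 0, Int.ofNat 2, Int.ofNat 0, Int.ofNat 0, Int.ofNat 0, Int.negSucc 1, Int.ofNat 0, Int.ofNat 0, Int.ofNat 0, Int.ofNat 0, Int.negSucc 1, Int.ofNat 0, Int.ofNat 0, Int.ofNat 0, Int.ofNat 2, Int.ofNat 0, Int.ofNat 0, Int.ofNat 2, Int.ofNat 2, Int.ofNat 0],
  [Int.ofNat 2, Int.ofNat 0, Int.ofNat 0, Int.negSucc 1, Int.ofNat 0, Int.ofNat 2, Int.ofNat 0, Int.ofNat 0, Int.ofNat 0, Int.ofNat 2, Int.ofNat 0, Int.ofNat 0, Int.ofNat 0, Int.ofNat 0, Int.negSucc 1, Int.ofNat 0, Int.ofNat 0, Int.ofNat 0, Int.negSucc 1, Int.ofNat 0, Int.ofNat 0, Int.negSucc 1, Int.ofNat 2, Int.ofNat 0],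
  [Int.negSucc 1, Int.ofNat 0, Int.ofNat 0, Int.ofNat 2, Int.ofNat 0, Int.ofNat 2, Int.ofNat 0, Int.ofNat 0, Int.ofNat 0, Int.negSucc 1, Int.ofNat 0, Int.ofNat 0, Int.ofNat 0, Int.ofNat 0, Int.negSucc 1, Int.ofNat 0, Int.ofNat 0, Int.ofNat 0, Int.ofNat 2, Int.ofNat 0, Int.ofNat 0, Int.negSucc 1, Int.ofNat 2, Int.ofNat 0],
  [Int.negSucc 1, Int.ofNat 0, Int.ofNat 2, Int.ofNat 2, Int.ofNat 0, Int.ofNat 0, Int.ofNat 0, Int.ofNat 0, Int.negSucc 1, Int.ofNat 0, Int.negSucc 1, Int.negSucc 1, Int.ofNat 0, Int.ofNat 0, Int.ofNat 0, Int.ofNat 0, Int.ofNat 0, Int.ofNat 2, Int.ofNat 0, Int.ofNat 0, Int.ofNat 2, Int.ofNat 0, Int.ofNat 0, Int.ofNat 0],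
  [Int.ofNat 2, Int.ofNat 0, Int.negSucc 1, Int.ofNat 2, Int.ofNat 0, Int.ofNat 0, Int.ofNat 0, Int.ofNat 0, Int.negSucc 1, Int.ofNat 0, Int.ofNat 2, Int.ofNat 2, Int.ofNat 0, Int.ofNat 0, Int.ofNat 0, Int.ofNat 0, Int.ofNat 0, Int.ofNat 2, Int.ofNat 0, Int.ofNat 0, Int.ofNat 2, Int.ofNat 0, Int.ofNat 0, Int.ofNat 0],
  [Int.ofNat 0, Int.ofNat 2, Int.ofNat 0, Int.negSucc 1, Int.ofNat 2, Int.ofNat 0, Int.ofNat 0, Int.ofNat 0, Int.ofNat 0, Int.negSucc 1, Int.ofNat 0, Int.ofNat 2, Int.ofNat 2, Int.ofNat 0, Int.ofNat 0, Int.ofNat 0, Int.ofNat 0, Int.ofNat 0, Int.ofNat 2, Int.ofNat 0, Int.ofNat 0, Int.ofNat 2, Int.ofNat 0, Int.ofNat 0],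
  [Int.ofNat 1, Int.negSucc 0, Int.ofNat 1, Int.negSucc 0, Int.ofNat 1, Int.ofNat 1, Int.negSucc 0, Int.negSucc 0, Int.negSucc 2, Int.negSucc 0, Int.ofNat 1, Int.negSucc 0, Int.negSucc 0, Int.negSucc 0, Int.ofNat 1, Int.ofNat 1, Int.negSucc 0, Int.ofNat 1, Int.negSucc 0, Int.negSucc 0, Int.ofNat 1, Int.ofNat 1, Int.negSucc 0, Int.ofNat 1],
  [Int.negSucc 0, Int.ofNat 1, Int.ofNat 1, Int.negSucc 0, Int.negSucc 0, Int.negSucc 2, Int.negSucc 0, Int.ofNat 1, Int.negSucc 0, Int.negSucc 0, Int.negSucc 0, Int.ofNat 1, Int.ofNat 1, Int.negSucc 0, Int.ofNat 1, Int.negSucc 0, Int.negSucc 0, Int.ofNat 1, Int.ofNat 1, Int.negSucc 0, Int.ofNat 1, Int.negSucc 0, Int.ofNat 1, Int.ofNat 1],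
  [Int.ofNat 2, Int.ofNat 0, Int.ofNat 0, Int.ofNat 0, Int.ofNat 0, Int.negSucc 1, Int.ofNat 0, Int.ofNat 2, Int.negSucc 1, Int.ofNat 0, Int.ofNat 0, Int.ofNat 0, Int.ofNat 0, Int.ofNat 0, Int.ofNat 2, Int.ofNat 0, Int.ofNat 0, Int.ofNat 2, Int.ofNat 0, Int.ofNat 0, Int.ofNat 2, Int.ofNat 0, Int.ofNat 2, Int.ofNat 0],
  [Int.ofNat 2, Int.ofNat 0, Int.ofNat 0, Int.ofNat 0, Int.ofNat 0, Int.ofNat 2, Int.ofNat 0, Int.ofNat 0, Int.ofNat 0, Int.ofNat 0, Int.ofNat 2, Int.ofNat 2, Int.ofNat 0, Int.ofNat 0, Int.ofNat 2, Int.ofNat 0, Int.negSucc 1, Int.ofNat 2, Int.ofNat 0, Int.ofNat 0, Int.ofNat 0, Int.negSucc 1, Int.ofNat 0, Int.ofNat 0],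
  [Int.negSucc 0, Int.ofNat 1, Int.ofNat 1, Int.negSucc 2, Int.ofNat 1, Int.negSucc 0, Int.ofNat 1, Int.ofNat 1, Int.negSucc 0, Int.negSucc 0, Int.ofNat 1, Int.ofNat 1, Int.negSucc 0, Int.ofNat 1, Int.negSucc 0, Int.negSucc 0, Int.negSucc 0, Int.negSucc 0, Int.negSucc 0, Int.ofNat 1, Int.negSucc 0, Int.negSucc 0, Int.ofNat 1, Int.ofNat 1],
  [Int.negSucc 0, Int.ofNat 1, Int.negSucc 0, Int.negSucc 2, Int.ofNat 1, Int.ofNat 1, Int.negSucc 0, Int.ofNat 1, Int.negSucc 0, Int.ofNat 1, Int.negSucc 0, Int.ofNat 1, Int.negSucc 0, Int.ofNat 1, Int.negSucc 0, Int.ofNat 1, Int.negSucc 0, Int.negSucc 0, Int.ofNat 1, Int.ofNat 1, Int.negSucc 0, Int.negSucc 0, Int.negSucc 0, Int.ofNat 1],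
  [Int.negSucc 0, Int.negSucc 0, Int.ofNat 1, Int.negSucc 0, Int.negSucc 0, Int.negSucc 0, Int.negSucc 0, Int.negSucc 2, Int.ofNat 1, Int.negSucc 0, Int.ofNat 1, Int.ofNat 1, Int.ofNat 1, Int.ofNat 1, Int.negSucc 0, Int.ofNat 1, Int.ofNat 1, Int.negSucc 0, Int.ofNat 1, Int.negSucc 0, Int.negSucc 0, Int.ofNat 1, Int.negSucc 0, Int.ofNat 1],
  [Int.ofNat 1, Int.negSucc 0, Int.ofNat 1, Int.ofNat 1, Int.negSucc 0, Int.negSucc 0, Int.negSucc 0, Int.ofNat 1, Int.negSucc 0, Int.negSucc 0, Int.ofNat 1, Int.ofNat 1, Int.ofNat 1, Int.negSucc 2, Int.ofNat 1, Int.negSucc 0, Int.ofNat 1, Int.negSucc 0, Int.negSucc 0, Int.negSucc 0, Int.ofNat 1, Int.ofNat 1, Int.negSucc 0, Int.negSucc 0],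
  [Int.negSucc 0, Int.negSucc 0, Int.negSucc 0, Int.ofNat 1, Int.negSucc 0, Int.negSucc 0, Int.negSucc 0, Int.negSucc 0, Int.negSucc 0, Int.ofNat 1, Int.negSucc 0, Int.negSucc 0, Int.ofNat 1, Int.negSucc 2, Int.ofNat 1, Int.negSucc 0, Int.ofNat 1, Int.negSucc 0, Int.ofNat 1, Int.negSucc 0, Int.ofNat 1, Int.negSucc 0, Int.negSucc 0, Int.negSucc 0],
  [Int.negSucc 0, Int.negSucc 0, Int.negSucc 0, Int.negSucc 0, Int.ofNat 1, Int.negSucc 0, Int.negSucc 0, Int.negSucc 0, Int.negSucc 0, Int.negSucc 0, Int.ofNat 1, Int.negSucc 0, Int.negSucc 0, Int.ofNat 1, Int.negSucc 2, Int.ofNat 1, Int.negSucc 0, Int.ofNat 1, Int.negSucc 0, Int.ofNat 1, Int.negSucc 0, Int.ofNat 1, Int.negSucc 0, Int.negSucc 0],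
  [Int.negSucc 0, Int.negSucc 0, Int.negSucc 0, Int.ofNat 1, Int.ofNat 1, Int.ofNat 1, Int.negSucc 0, Int.negSucc 0, Int.ofNat 1, Int.negSucc 0, Int.ofNat 1, Int.ofNat 1, Int.ofNat 1, Int.ofNat 1, Int.negSucc 0, Int.ofNat 1, Int.negSucc 0, Int.ofNat 3, Int.ofNat 1, Int.ofNat 1, Int.negSucc 0, Int.ofNat 1, Int.negSucc 0, Int.negSucc 0],
  [Int.ofNat 1, Int.ofNat 1, Int.ofNat 1, Int.negSucc 0, Int.negSucc 0, Int.ofNat 1, Int.negSucc 0, Int.ofNat 1, Int.ofNat 1, Int.ofNat 1, Int.ofNat 1, Int.negSucc 0, Int.ofNat 1, Int.negSucc 0, Int.ofNat 3, Int.ofNat 1, Int.ofNat 1, Int.negSucc 0, Int.ofNat 1, Int.negSucc 0, Int.negSucc 0, Int.negSucc 0, Int.negSucc 0, Int.negSucc 0],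
  [Int.ofNat 0, Int.ofNat 0, Int.ofNat 0, Int.negSucc 1, Int.ofNat 0, Int.ofNat 0, Int.ofNat 0, Int.ofNat 2, Int.ofNat 0, Int.ofNat 0, Int.ofNat 0, Int.negSucc 1, Int.ofNat 0, Int.ofNat 0, Int.ofNat 2, Int.ofNat 0, Int.ofNat 2, Int.negSucc 1, Int.ofNat 0, Int.ofNat 0, Int.negSucc 1, Int.ofNat 0, Int.ofNat 0, Int.ofNat 2],
  [Int.ofNat 0, Int.ofNat 0, Int.ofNat 0, Int.negSucc 1, Int.ofNat 0, Int.ofNat 2, Int.ofNat 0, Int.ofNat 0, Int.ofNat 0, Int.ofNat 0, Int.negSucc 1, Int.negSucc 1, Int.ofNat 0, Int.ofNat 2, Int.ofNat 0, Int.ofNat 0, Int.ofNat 0, Int.ofNat 2, Int.ofNat 0, Int.negSucc 1, Int.ofNat 0, Int.ofNat 0, Int.ofNat 0, Int.ofNat 2],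
  [Int.ofNat 1, Int.ofNat 1, Int.ofNat 1, Int.negSucc 2, Int.negSucc 0, Int.ofNat 1, Int.ofNat 1, Int.ofNat 1, Int.ofNat 1, Int.ofNat 1, Int.negSucc 0, Int.negSucc 0, Int.ofNat 1, Int.ofNat 1, Int.negSucc 0, Int.ofNat 1, Int.negSucc 0, Int.ofNat 1, Int.ofNat 1, Int.negSucc 0, Int.ofNat 1, Int.ofNat 1, Int.negSucc 0, Int.negSucc 0],
  [Int.ofNat 1, Int.ofNat 1, Int.negSucc 0, Int.negSucc 2, Int.negSucc 0, Int.negSucc 0, Int.negSucc 0, Int.ofNat 1, Int.ofNat 1, Int.negSucc 0, Int.ofNat 1, Int.negSucc 0, Int.ofNat 1, Int.ofNat 1, Int.negSucc 0, Int.negSucc 0, Int.negSucc 0, Int.ofNat 1, Int.negSucc 0, Int.negSucc 0, Int.ofNat 1, Int.ofNat 1, Int.ofNat 1, Int.negSucc 0],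
  [Int.negSucc 0, Int.ofNat 1, Int.negSucc 0, Int.ofNat 1, Int.ofNat 1, Int.negSucc 0, Int.negSucc 0, Int.negSucc 2, Int.ofNat 1, Int.ofNat 1, Int.negSucc 0, Int.ofNat 1, Int.negSucc 0, Int.ofNat 1, Int.ofNat 1, Int.negSucc 0, Int.ofNat 1, Int.ofNat 1, Int.ofNat 1, Int.negSucc 0, Int.negSucc 0, Int.negSucc 0, Int.negSucc 0, Int.negSucc 0],
  [Int.negSucc 0, Int.ofNat 1, Int.ofNat 1, Int.ofNat 1, Int.ofNat 1, Int.ofNat 1, Int.ofNat 1, Int.negSucc 2, Int.ofNat 1, Int.negSucc 0, Int.ofNat 1, Int.ofNat 1, Int.negSucc 0, Int.ofNat 1, Int.ofNat 1, Int.ofNat 1, Int.ofNat 1, Int.ofNat 1, Int.negSucc 0, Int.negSucc 0, Int.negSucc 0, Int.negSucc 0, Int.ofNat 1, Int.negSucc 0],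
  [Int.ofNat 1, Int.negSucc 0, Int.negSucc 0, Int.negSucc 0, Int.negSucc 0, Int.negSucc 0, Int.ofNat 3, Int.negSucc 0, Int.ofNat 1, Int.negSucc 0, Int.ofNat 1, Int.ofNat 1, Int.negSucc 0, Int.negSucc 0, Int.negSucc 0, Int.ofNat 1, Int.negSucc 0, Int.negSucc 0, Int.negSucc 0, Int.ofNat 1, Int.negSucc 0, Int.ofNat 1, Int.negSucc 0, Int.ofNat 1],
  [Int.ofNat 1, Int.negSucc 0, Int.ofNat 3, Int.negSucc 0, Int.negSucc 0, Int.ofNat 1, Int.negSucc 0, Int.negSucc 0, Int.negSucc 0, Int.negSucc 0, Int.negSucc 0, Int.ofNat 1, Int.ofNat 1, Int.negSucc 0, Int.negSucc 0, Int.ofNat 1, Int.negSucc 0, Int.ofNat 1, Int.negSucc 0, Int.negSucc 0, Int.ofNat 1, Int.negSucc 0, Int.negSucc 0, Int.ofNat 1],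
  [Int.ofNat 1, Int.ofNat 3, Int.negSucc 0, Int.negSucc 0, Int.ofNat 1, Int.ofNat 1, Int.ofNat 1, Int.ofNat 1, Int.negSucc 0, Int.negSucc 0, Int.negSucc 0, Int.ofNat 1, Int.ofNat 1, Int.ofNat 1, Int.negSucc 0, Int.ofNat 1, Int.ofNat 1, Int.ofNat 1, Int.negSucc 0, Int.ofNat 1, Int.ofNat 1, Int.ofNat 1, Int.ofNat 1, Int.ofNat 1],
  [Int.ofNat 1, Int.ofNat 1, Int.ofNat 1, Int.ofNat 1, Int.ofNat 3, Int.negSucc 0, Int.negSucc 0, Int.ofNat 1, Int.ofNat 1, Int.ofNat 1, Int.ofNat 1, Int.negSucc 0, Int.negSucc 0, Int.negSucc 0, Int.ofNat 1, Int.ofNat 1, Int.ofNat 1, Int.negSucc 0, Int.ofNat 1, Int.ofNat 1, Int.ofNat 1, Int.negSucc 0, Int.ofNat 1, Int.ofNat 1],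
  [Int.ofNat 1, Int.ofNat 1, Int.ofNat 1, Int.ofNat 1, Int.ofNat 1, Int.negSucc 0, Int.negSucc 0, Int.ofNat 1, Int.ofNat 1, Int.negSucc 0, Int.negSucc 0, Int.negSucc 0, Int.negSucc 0, Int.negSucc 2, Int.ofNat 1, Int.negSucc 0, Int.negSucc 0, Int.negSucc 0, Int.ofNat 1, Int.ofNat 1, Int.negSucc 0, Int.negSucc 0, Int.negSucc 0, Int.ofNat 1],
  [Int.ofNat 1, Int.ofNat 1, Int.ofNat 1, Int.ofNat 1, Int.negSucc 0, Int.negSucc 0, Int.ofNat 1, Int.ofNat 1, Int.negSucc 0, Int.negSucc 0, Int.negSucc 0, Int.negSucc 0, Int.negSucc 2, Int.ofNat 1, Int.negSucc 0, Int.negSucc 0, Int.negSucc 0, Int.ofNat 1, Int.ofNat 1, Int.negSucc 0, Int.negSucc 0, Int.negSucc 0, Int.ofNat 1, Int.ofNat 1],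
  [Int.negSucc 0, Int.ofNat 1, Int.negSucc 0, Int.ofNat 1, Int.negSucc 0, Int.negSucc 0, Int.ofNat 1, Int.negSucc 0, Int.negSucc 0, Int.ofNat 1, Int.ofNat 1, Int.ofNat 1, Int.negSucc 2, Int.ofNat 1, Int.negSucc 0, Int.negSucc 0, Int.negSucc 0, Int.ofNat 1, Int.negSucc 0, Int.negSucc 0, Int.negSucc 0, Int.ofNat 1, Int.ofNat 1, Int.ofNat 1]]

set_option maxRecDepth 100000 in
theorem c1te8_chk : pmChk (List.replicate 14 [8, 0, 26, 25]).flatten nxL c1te8M 0 0 = true := by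
  decide +kernel

theorem c1te8_ne : wE letE2 (List.replicate 14 [8, 0, 26, 25]).flatten ≠ 1 ∧ wE letE2 (List.replicate 14 [8, 0, 26, 25]).flatten ≠ negElt :=
  ne_pm_of_chk nxL_mem c1te8_chk

set_option maxRecDepth 100000 in
def c1te9M : List (List ℤ) :=
  [[Int.ofNat 4, Int.ofNat 0, Int.ofNat 0, Int.ofNat 0, Int.ofNat 0, Int.ofNat 0, Int.ofNat 0, Int.ofNat 0, Int.ofNat 0, Int.ofNat 0, Int.ofNat 0, Int.ofNat 0, Int.ofNat 0, Int.ofNat 0, Int.ofNat 0, Int.ofNat 0, Int.ofNat 0, Int.ofNat 0, Int.ofNat 0, Int.ofNat 0, Int.ofNat 0, Int.ofNat 0, Int.ofNat 0, Int.ofNat 4],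
  [Int.ofNat 4, Int.ofNat 0, Int.ofNat 0, Int.ofNat 0, Int.ofNat 0, Int.ofNat 0, Int.ofNat 0, Int.ofNat 0, Int.ofNat 0, Int.ofNat 0, Int.ofNat 0, Int.ofNat 0, Int.ofNat 0, Int.ofNat 0, Int.ofNat 0, Int.ofNat 0, Int.ofNat 0, Int.ofNat 0, Int.ofNat 0, Int.ofNat 0, Int.ofNat 0, Int.ofNat 0, Int.ofNat 0, Int.ofNat 4],
  [Int.negSucc 3, Int.ofNat 0, Int.ofNat 0, Int.ofNat 0, Int.ofNat 0, Int.ofNat 0, Int.ofNat 0, Int.ofNat 0, Int.ofNat 0, Int.ofNat 0, Int.ofNat 0, Int.ofNat 0, Int.ofNat 0, Int.ofNat 0, Int.ofNat 0, Int.ofNat 0, Int.ofNat 0, Int.ofNat 0, Int.ofNat 0, Int.ofNat 0, Int.ofNat 0, Int.ofNat 0, Int.ofNat 0, Int.ofNat 4],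
  [Int.ofNat 0, Int.negSucc 3, Int.ofNat 0, Int.ofNat 0, Int.ofNat 0, Int.ofNat 0, Int.ofNat 0, Int.ofNat 0, Int.ofNat 0, Int.ofNat 0, Int.ofNat 0, Int.ofNat 0, Int.ofNat 0, Int.ofNat 0, Int.ofNat 0, Int.ofNat 0, Int.ofNat 0, Int.ofNat 0, Int.ofNat 0, Int.ofNat 0, Int.ofNat 0, Int.ofNat 0, Int.ofNat 0, Int.ofNat 4],
  [Int.ofNat 0, Int.ofNat 4, Int.ofNat 0, Int.ofNat 0, Int.ofNat 0, Int.ofNat 0, Int.ofNat 0, Int.ofNat 0, Int.ofNat 0, Int.ofNat 0, Int.ofNat 0, Int.ofNat 0, Int.ofNat 0, Int.ofNat 0, Int.ofNat 0, Int.ofNat 0, Int.ofNat 0, Int.ofNat 0, Int.ofNat 0, Int.ofNat 0, Int.ofNat 0, Int.ofNat 0, Int.ofNat 0, Int.negSucc 3],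
  [Int.ofNat 0, Int.ofNat 0, Int.ofNat 0, Int.ofNat 0, Int.ofNat 0, Int.ofNat 0, Int.ofNat 0, Int.ofNat 0, Int.ofNat 0, Int.ofNat 0, Int.ofNat 0, Int.ofNat 0, Int.ofNat 0, Int.ofNat 0, Int.ofNat 0, Int.ofNat 0, Int.ofNat 0, Int.ofNat 0, Int.ofNat 0, Int.ofNat 0, Int.ofNat 0, Int.ofNat 4, Int.ofNat 0, Int.negSucc 3],
  [Int.negSucc 1, Int.negSucc 1, Int.negSucc 1, Int.ofNat 0, Int.ofNat 0, Int.ofNat 0, Int.negSucc 1, Int.negSucc 1, Int.ofNat 0, Int.ofNat 0, Int.ofNat 0, Int.ofNat 0, Int.ofNat 0, Int.ofNat 0, Int.ofNat 0, Int.ofNat 0, Int.ofNat 0, Int.ofNat 0, Int.ofNat 0, Int.negSucc 1, Int.ofNat 0, Int.ofNat 2, Int.ofNat 0, Int.ofNat 2],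
  [Int.negSucc 1, Int.negSucc 1, Int.ofNat 0, Int.ofNat 0, Int.ofNat 0, Int.negSucc 1, Int.negSucc 1, Int.ofNat 0, Int.ofNat 0, Int.ofNat 0, Int.ofNat 0, Int.ofNat 0, Int.ofNat 0, Int.ofNat 0, Int.ofNat 0, Int.ofNat 0, Int.ofNat 0, Int.ofNat 0, Int.negSucc 1, Int.ofNat 0, Int.ofNat 2, Int.ofNat 0, Int.negSucc 1, Int.ofNat 2],
  [Int.ofNat 1, Int.ofNat 1, Int.negSucc 0, Int.ofNat 1, Int.ofNat 1, Int.negSucc 0, Int.negSucc 0, Int.ofNat 1, Int.ofNat 1, Int.negSucc 0, Int.negSucc 0, Int.ofNat 1, Int.ofNat 1, Int.ofNat 1, Int.ofNat 1, Int.negSucc 0, Int.ofNat 1, Int.ofNat 1, Int.negSucc 0, Int.ofNat 1, Int.ofNat 1, Int.ofNat 1, Int.negSucc 0, Int.negSucc 2],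
  [Int.ofNat 1, Int.ofNat 1, Int.ofNat 1, Int.ofNat 1, Int.ofNat 1, Int.ofNat 1, Int.ofNat 1, Int.ofNat 1, Int.ofNat 1, Int.ofNat 1, Int.ofNat 1, Int.ofNat 1, Int.ofNat 1, Int.ofNat 1, Int.ofNat 1, Int.ofNat 1, Int.ofNat 1, Int.ofNat 1, Int.ofNat 1, Int.ofNat 1, Int.ofNat 1, Int.ofNat 1, Int.ofNat 1, Int.negSucc 2],
  [Int.ofNat 1, Int.ofNat 1, Int.ofNat 1, Int.ofNat 1, Int.ofNat 1, Int.ofNat 1, Int.ofNat 1, Int.ofNat 1, Int.ofNat 1, Int.ofNat 1, Int.ofNat 1, Int.ofNat 1, Int.ofNat 1, Int.ofNat 1, Int.ofNat 1, Int.ofNat 1, Int.ofNat 1, Int.ofNat 1, Int.ofNat 1, Int.ofNat 1, Int.ofNat 1, Int.ofNat 1, Int.ofNat 1, Int.negSucc 2],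
  [Int.negSucc 2, Int.ofNat 1, Int.ofNat 1, Int.ofNat 1, Int.ofNat 1, Int.ofNat 1, Int.ofNat 1, Int.ofNat 1, Int.ofNat 1, Int.ofNat 1, Int.ofNat 1, Int.ofNat 1, Int.ofNat 1, Int.ofNat 1, Int.ofNat 1, Int.ofNat 1, Int.ofNat 1, Int.ofNat 1, Int.ofNat 1, Int.ofNat 1, Int.ofNat 1, Int.ofNat 1, Int.ofNat 1, Int.ofNat 1],
  [Int.ofNat 3, Int.ofNat 1, Int.negSucc 0, Int.ofNat 1, Int.ofNat 1, Int.ofNat 1, Int.ofNat 1, Int.negSucc 0, Int.ofNat 1, Int.negSucc 0, Int.negSucc 0, Int.negSucc 0, Int.ofNat 1, Int.ofNat 1, Int.ofNat 1, Int.ofNat 1, Int.ofNat 1, Int.ofNat 1, Int.negSucc 0, Int.ofNat 1, Int.ofNat 1, Int.negSucc 0, Int.ofNat 1, Int.ofNat 1],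
  [Int.ofNat 1, Int.ofNat 3, Int.ofNat 1, Int.negSucc 0, Int.ofNat 1, Int.ofNat 1, Int.ofNat 1, Int.ofNat 1, Int.negSucc 0, Int.ofNat 1, Int.negSucc 0, Int.negSucc 0, Int.negSucc 0, Int.ofNat 1, Int.ofNat 1, Int.ofNat 1, Int.ofNat 1, Int.ofNat 1, Int.ofNat 1, Int.negSucc 0, Int.ofNat 1, Int.ofNat 1, Int.negSucc 0, Int.ofNat 1],
  [Int.ofNat 2, Int.ofNat 0, Int.ofNat 2, Int.negSucc 1, Int.ofNat 0, Int.ofNat 0, Int.ofNat 0, Int.ofNat 0, Int.ofNat 0, Int.ofNat 0, Int.negSucc 1, Int.ofNat 0, Int.ofNat 0, Int.ofNat 0, Int.ofNat 0, Int.ofNat 0, Int.ofNat 0, Int.ofNat 0, Int.ofNat 2, Int.negSucc 1, Int.ofNat 0, Int.ofNat 0, Int.negSucc 1, Int.ofNat 2],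
  [Int.negSucc 1, Int.ofNat 0, Int.ofNat 0, Int.ofNat 0, Int.ofNat 0, Int.ofNat 0, Int.ofNat 0, Int.negSucc 1, Int.ofNat 0, Int.ofNat 0, Int.ofNat 0, Int.ofNat 0, Int.ofNat 0, Int.ofNat 0, Int.ofNat 0, Int.ofNat 2, Int.negSucc 1, Int.ofNat 0, Int.ofNat 0, Int.negSucc 1, Int.ofNat 2, Int.ofNat 0, Int.ofNat 2, Int.ofNat 2],
  [Int.ofNat 2, Int.ofNat 0, Int.ofNat 0, Int.ofNat 0, Int.ofNat 0, Int.ofNat 0, Int.ofNat 2, Int.ofNat 0, Int.ofNat 0, Int.negSucc 1, Int.negSucc 1, Int.ofNat 0, Int.ofNat 0, Int.ofNat 0, Int.ofNat 0, Int.ofNat 0, Int.negSucc 1, Int.ofNat 0, Int.ofNat 0, Int.ofNat 0, Int.ofNat 0, Int.ofNat 2, Int.ofNat 2, Int.negSucc 1],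
  [Int.ofNat 2, Int.ofNat 2, Int.ofNat 0, Int.ofNat 0, Int.ofNat 0, Int.ofNat 0, Int.ofNat 0, Int.negSucc 1, Int.ofNat 0, Int.ofNat 0, Int.ofNat 0, Int.ofNat 0, Int.negSucc 1, Int.negSucc 1, Int.ofNat 2, Int.ofNat 0, Int.ofNat 0, Int.ofNat 0, Int.ofNat 0, Int.ofNat 0, Int.ofNat 2, Int.ofNat 0, Int.ofNat 0, Int.negSucc 1],
  [Int.negSucc 0, Int.negSucc 0, Int.ofNat 1, Int.negSucc 0, Int.ofNat 1, Int.negSucc 0, Int.ofNat 1, Int.negSucc 0, Int.ofNat 1, Int.negSucc 0, Int.negSucc 0, Int.ofNat 1, Int.negSucc 0, Int.negSucc 0, Int.ofNat 1, Int.negSucc 0, Int.ofNat 1, Int.negSucc 0, Int.ofNat 1, Int.ofNat 1, Int.ofNat 1, Int.ofNat 1, Int.ofNat 1, Int.ofNat 3],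
  [Int.negSucc 0, Int.negSucc 0, Int.negSucc 0, Int.negSucc 0, Int.ofNat 1, Int.ofNat 1, Int.negSucc 0, Int.negSucc 0, Int.ofNat 1, Int.ofNat 1, Int.ofNat 1, Int.ofNat 1, Int.negSucc 0, Int.negSucc 0, Int.ofNat 1, Int.ofNat 1, Int.ofNat 1, Int.negSucc 0, Int.negSucc 0, Int.ofNat 1, Int.ofNat 1, Int.ofNat 1, Int.negSucc 0, Int.ofNat 3],
  [Int.ofNat 1, Int.negSucc 0, Int.ofNat 1, Int.negSucc 0, Int.negSucc 0, Int.negSucc 0, Int.ofNat 1, Int.ofNat 1, Int.negSucc 0, Int.ofNat 1, Int.negSucc 0, Int.ofNat 1, Int.ofNat 1, Int.negSucc 0, Int.negSucc 0, Int.negSucc 0, Int.ofNat 1, Int.negSucc 0, Int.negSucc 0, Int.ofNat 1, Int.ofNat 1, Int.ofNat 1, Int.ofNat 1, Int.ofNat 3],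
  [Int.ofNat 1, Int.negSucc 0, Int.negSucc 0, Int.negSucc 0, Int.negSucc 0, Int.ofNat 1, Int.negSucc 0, Int.ofNat 1, Int.negSucc 0, Int.negSucc 0, Int.ofNat 1, Int.ofNat 1, Int.ofNat 1, Int.negSucc 0, Int.negSucc 0, Int.ofNat 1, Int.ofNat 1, Int.negSucc 0, Int.ofNat 1, Int.ofNat 1, Int.ofNat 1, Int.ofNat 1, Int.negSucc 0, Int.ofNat 3],
  [Int.ofNat 0, Int.ofNat 2, Int.ofNat 2, Int.ofNat 0, Int.ofNat 0, Int.ofNat 2, Int.negSucc 1, Int.ofNat 0, Int.negSucc 1, Int.negSucc 1, Int.ofNat 0, Int.ofNat 0, Int.ofNat 0, Int.ofNat 0, Int.ofNat 0, Int.ofNat 0, Int.ofNat 2, Int.ofNat 0, Int.ofNat 0, Int.ofNat 0, Int.ofNat 0, Int.ofNat 0, Int.ofNat 0, Int.negSucc 1],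
  [Int.ofNat 0, Int.ofNat 0, Int.negSucc 1, Int.ofNat 0, Int.ofNat 2, Int.ofNat 0, Int.ofNat 2, Int.ofNat 2, Int.ofNat 2, Int.ofNat 0, Int.ofNat 0, Int.ofNat 0, Int.negSucc 1, Int.negSucc 1, Int.ofNat 0, Int.ofNat 0, Int.ofNat 0, Int.ofNat 0, Int.ofNat 0, Int.ofNat 0, Int.ofNat 0, Int.ofNat 0, Int.ofNat 0, Int.negSucc 1],
  [Int.negSucc 1, Int.negSucc 1, Int.ofNat 0, Int.ofNat 0, Int.ofNat 2, Int.ofNat 0, Int.ofNat 0, Int.ofNat 0, Int.ofNat 2, Int.ofNat 0, Int.ofNat 0, Int.ofNat 0, Int.negSucc 1, Int.negSucc 1, Int.ofNat 0, Int.ofNat 0, Int.ofNat 0, Int.ofNat 0, Int.ofNat 0, Int.negSucc 1, Int.ofNat 0, Int.negSucc 1, Int.ofNat 0, Int.ofNat 0],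
  [Int.ofNat 0, Int.negSucc 1, Int.ofNat 0, Int.negSucc 1, Int.negSucc 1, Int.ofNat 0, Int.ofNat 0, Int.ofNat 2, Int.ofNat 0, Int.ofNat 0, Int.ofNat 0, Int.ofNat 2, Int.ofNat 0, Int.ofNat 0, Int.ofNat 0, Int.negSucc 1, Int.negSucc 1, Int.ofNat 0, Int.ofNat 0, Int.ofNat 0, Int.ofNat 0, Int.ofNat 0, Int.negSucc 1, Int.ofNat 0],
  [Int.negSucc 0, Int.ofNat 1, Int.negSucc 0, Int.negSucc 0, Int.ofNat 1, Int.ofNat 1, Int.negSucc 0, Int.ofNat 1, Int.negSucc 0, Int.ofNat 1, Int.ofNat 1, Int.ofNat 1, Int.negSucc 0, Int.ofNat 3, Int.ofNat 1, Int.negSucc 0, Int.ofNat 1, Int.ofNat 1, Int.negSucc 0, Int.negSucc 0, Int.ofNat 1, Int.negSucc 0, Int.ofNat 1, Int.negSucc 0],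
  [Int.ofNat 1, Int.negSucc 0, Int.negSucc 0, Int.ofNat 1, Int.ofNat 1, Int.negSucc 0, Int.ofNat 1, Int.negSucc 0, Int.ofNat 1, Int.ofNat 1, Int.ofNat 1, Int.negSucc 0, Int.ofNat 3, Int.ofNat 1, Int.negSucc 0, Int.ofNat 1, Int.ofNat 1, Int.negSucc 0, Int.negSucc 0, Int.ofNat 1, Int.negSucc 0, Int.ofNat 1, Int.negSucc 0, Int.negSucc 0],
  [Int.negSucc 0, Int.negSucc 0, Int.ofNat 1, Int.ofNat 1, Int.ofNat 1, Int.negSucc 0, Int.ofNat 1, Int.ofNat 1, Int.ofNat 1, Int.negSucc 0, Int.negSucc 0, Int.ofNat 1, Int.ofNat 3, Int.ofNat 1, Int.negSucc 0, Int.ofNat 1, Int.ofNat 1, Int.negSucc 0, Int.ofNat 1, Int.ofNat 1, Int.negSucc 0, Int.negSucc 0, Int.negSucc 0, Int.negSucc 0],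
  [Int.ofNat 1, Int.ofNat 1, Int.negSucc 0, Int.negSucc 0, Int.negSucc 0, Int.negSucc 0, Int.negSucc 0, Int.ofNat 1, Int.negSucc 0, Int.ofNat 1, Int.negSucc 0, Int.ofNat 1, Int.negSucc 2, Int.negSucc 0, Int.negSucc 0, Int.ofNat 1, Int.negSucc 0, Int.negSucc 0, Int.negSucc 0, Int.ofNat 1, Int.negSucc 0, Int.negSucc 0, Int.negSucc 0, Int.negSucc 0],
  [Int.ofNat 1, Int.negSucc 0, Int.negSucc 0, Int.negSucc 0, Int.ofNat 1, Int.negSucc 0, Int.negSucc 0, Int.negSucc 0, Int.ofNat 1, Int.negSucc 0, Int.negSucc 0, Int.negSucc 0, Int.negSucc 0, Int.negSucc 0, Int.ofNat 1, Int.ofNat 1, Int.negSucc 2, Int.negSucc 0, Int.negSucc 0, Int.negSucc 0, Int.negSucc 0, Int.ofNat 1, Int.ofNat 1, Int.negSucc 0],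
  [Int.negSucc 0, Int.negSucc 0, Int.ofNat 1, Int.negSucc 0, Int.ofNat 1, Int.negSucc 0, Int.negSucc 0, Int.ofNat 1, Int.ofNat 1, Int.ofNat 1, Int.ofNat 1, Int.ofNat 1, Int.negSucc 0, Int.negSucc 0, Int.ofNat 1, Int.ofNat 1, Int.negSucc 2, Int.negSucc 0, Int.ofNat 1, Int.negSucc 0, Int.negSucc 0, Int.negSucc 0, Int.ofNat 1, Int.negSucc 0],
  [Int.ofNat 1, Int.negSucc 0, Int.negSucc 0, Int.ofNat 1, Int.negSucc 0, Int.ofNat 1, Int.negSucc 0, Int.negSucc 0, Int.ofNat 1, Int.ofNat 1, Int.ofNat 1, Int.ofNat 1, Int.ofNat 1, Int.negSucc 0, Int.negSucc 0, Int.ofNat 1, Int.ofNat 1, Int.negSucc 2, Int.negSucc 0, Int.ofNat 1, Int.negSucc 0, Int.negSucc 0, Int.negSucc 0, Int.negSucc 0],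
  [Int.negSucc 1, Int.ofNat 0, Int.ofNat 0, Int.ofNat 2, Int.ofNat 0, Int.ofNat 2, Int.ofNat 0, Int.ofNat 0, Int.ofNat 0, Int.ofNat 0, Int.ofNat 0, Int.ofNat 0, Int.ofNat 0, Int.ofNat 0, Int.ofNat 0, Int.ofNat 0, Int.ofNat 2, Int.negSucc 1, Int.negSucc 1, Int.ofNat 2, Int.negSucc 1, Int.ofNat 0, Int.ofNat 0, Int.ofNat 0],
  [Int.ofNat 2, Int.ofNat 0, Int.ofNat 2, Int.ofNat 0, Int.ofNat 0, Int.ofNat 0, Int.ofNat 0, Int.ofNat 0, Int.ofNat 0, Int.ofNat 0, Int.ofNat 0, Int.ofNat 0, Int.ofNat 0, Int.ofNat 2, Int.negSucc 1, Int.negSucc 1, Int.ofNat 2, Int.negSucc 1, Int.ofNat 0, Int.ofNat 0, Int.negSucc 1, Int.ofNat 0, Int.ofNat 0, Int.ofNat 0],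
  [Int.ofNat 0, Int.ofNat 2, Int.ofNat 0, Int.ofNat 2, Int.negSucc 1, Int.ofNat 2, Int.ofNat 0, Int.ofNat 0, Int.ofNat 0, Int.ofNat 2, Int.ofNat 2, Int.ofNat 0, Int.ofNat 0, Int.ofNat 0, Int.ofNat 0, Int.ofNat 0, Int.ofNat 0, Int.ofNat 0, Int.ofNat 0, Int.ofNat 0, Int.ofNat 0, Int.ofNat 0, Int.negSucc 1, Int.ofNat 2],
  [Int.ofNat 0, Int.ofNat 0, Int.negSucc 1, Int.ofNat 2, Int.ofNat 0, Int.ofNat 0, Int.ofNat 0, Int.ofNat 2, Int.ofNat 0, Int.ofNat 0, Int.ofNat 0, Int.ofNat 0, Int.ofNat 2, Int.ofNat 0, Int.negSucc 1, Int.ofNat 0, Int.ofNat 0, Int.ofNat 0, Int.ofNat 2, Int.ofNat 0, Int.ofNat 0, Int.ofNat 2, Int.ofNat 0, Int.ofNat 2],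
  [Int.ofNat 0, Int.ofNat 0, Int.ofNat 2, Int.ofNat 2, Int.ofNat 0, Int.ofNat 0, Int.negSucc 1, Int.ofNat 0, Int.negSucc 1, Int.ofNat 0, Int.ofNat 0, Int.negSucc 1, Int.ofNat 0, Int.ofNat 0, Int.negSucc 1, Int.ofNat 0, Int.ofNat 0, Int.ofNat 0, Int.ofNat 0, Int.negSucc 1, Int.ofNat 0, Int.ofNat 0, Int.ofNat 0, Int.negSucc 1],
  [Int.ofNat 0, Int.ofNat 0, Int.negSucc 1, Int.ofNat 2, Int.ofNat 0, Int.ofNat 0, Int.ofNat 2, Int.ofNat 0, Int.negSucc 1, Int.ofNat 0, Int.ofNat 0, Int.negSucc 1, Int.ofNat 0, Int.ofNat 0, Int.negSucc 1, Int.ofNat 0, Int.ofNat 0, Int.ofNat 0, Int.ofNat 0, Int.negSucc 1, Int.ofNat 0, Int.ofNat 0, Int.ofNat 0, Int.negSucc 1],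
  [Int.ofNat 0, Int.ofNat 0, Int.negSucc 1, Int.negSucc 1, Int.negSucc 1, Int.ofNat 2, Int.ofNat 0, Int.ofNat 2, Int.ofNat 0, Int.ofNat 0, Int.ofNat 0, Int.ofNat 0, Int.ofNat 0, Int.ofNat 0, Int.ofNat 0, Int.ofNat 0, Int.negSucc 1, Int.ofNat 0, Int.ofNat 0, Int.negSucc 1, Int.ofNat 0, Int.ofNat 0, Int.ofNat 0, Int.negSucc 1],
  [Int.negSucc 1, Int.ofNat 0, Int.ofNat 0, Int.ofNat 0, Int.ofNat 0, Int.ofNat 0, Int.negSucc 1, Int.ofNat 0, Int.ofNat 0, Int.ofNat 2, Int.negSucc 1, Int.negSucc 1, Int.ofNat 0, Int.ofNat 2, Int.ofNat 0, Int.negSucc 1, Int.ofNat 0, Int.negSucc 1, Int.ofNat 0, Int.ofNat 0, Int.ofNat 0, Int.ofNat 0, Int.ofNat 0, Int.ofNat 0],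
  [Int.ofNat 2, Int.ofNat 0, Int.ofNat 0, Int.ofNat 0, Int.ofNat 0, Int.ofNat 0, Int.negSucc 1, Int.ofNat 0, Int.ofNat 0, Int.negSucc 1, Int.ofNat 2, Int.ofNat 2, Int.ofNat 0, Int.ofNat 2, Int.ofNat 0, Int.negSucc 1, Int.ofNat 0, Int.negSucc 1, Int.ofNat 0, Int.ofNat 0, Int.ofNat 0, Int.ofNat 0, Int.ofNat 0, Int.ofNat 0],
  [Int.ofNat 0, Int.ofNat 2, Int.ofNat 0, Int.ofNat 0, Int.ofNat 0, Int.ofNat 0, Int.ofNat 0, Int.negSucc 1, Int.ofNat 0, Int.ofNat 0, Int.negSucc 1, Int.ofNat 2, Int.ofNat 2, Int.ofNat 0, Int.ofNat 2, Int.ofNat 0, Int.negSucc 1, Int.ofNat 0, Int.negSucc 1, Int.ofNat 0, Int.ofNat 0, Int.ofNat 0, Int.ofNat 0, Int.ofNat 0],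
  [Int.ofNat 1, Int.negSucc 0, Int.ofNat 1, Int.negSucc 0, Int.ofNat 1, Int.negSucc 0, Int.ofNat 1, Int.negSucc 0, Int.negSucc 0, Int.ofNat 1, Int.negSucc 0, Int.ofNat 1, Int.ofNat 1, Int.ofNat 1, Int.ofNat 1, Int.ofNat 1, Int.negSucc 0, Int.negSucc 0, Int.negSucc 2, Int.ofNat 1, Int.ofNat 1, Int.ofNat 1, Int.ofNat 1, Int.ofNat 1],
  [Int.negSucc 0, Int.ofNat 1, Int.negSucc 0, Int.ofNat 1, Int.negSucc 0, Int.negSucc 0, Int.ofNat 1, Int.negSucc 0, Int.ofNat 1, Int.ofNat 1, Int.ofNat 1, Int.ofNat 1, Int.ofNat 1, Int.negSucc 0, Int.negSucc 0, Int.negSucc 2, Int.ofNat 1, Int.ofNat 1, Int.ofNat 1, Int.ofNat 1, Int.ofNat 1, Int.negSucc 0, Int.ofNat 1, Int.ofNat 1],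
  [Int.ofNat 1, Int.negSucc 0, Int.ofNat 1, Int.ofNat 1, Int.negSucc 0, Int.negSucc 0, Int.ofNat 1, Int.negSucc 0, Int.negSucc 0, Int.ofNat 1, Int.ofNat 1, Int.negSucc 0, Int.negSucc 0, Int.negSucc 0, Int.negSucc 0, Int.negSucc 2, Int.ofNat 1, Int.ofNat 1, Int.negSucc 0, Int.ofNat 1, Int.ofNat 1, Int.negSucc 0, Int.ofNat 1, Int.negSucc 0],
  [Int.ofNat 1, Int.ofNat 1, Int.negSucc 0, Int.ofNat 1, Int.negSucc 0, Int.negSucc 0, Int.ofNat 1, Int.ofNat 1, Int.negSucc 0, Int.negSucc 0, Int.ofNat 1, Int.ofNat 1, Int.ofNat 1, Int.ofNat 1, Int.ofNat 1, Int.negSucc 2, Int.negSucc 0, Int.negSucc 0, Int.negSucc 0, Int.negSucc 0, Int.negSucc 0, Int.negSucc 0, Int.ofNat 1, Int.negSucc 0],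
  [Int.negSucc 0, Int.negSucc 0, Int.ofNat 1, Int.ofNat 1, Int.negSucc 0, Int.negSucc 0, Int.ofNat 1, Int.ofNat 1, Int.negSucc 0, Int.ofNat 1, Int.ofNat 3, Int.ofNat 1, Int.ofNat 1, Int.ofNat 1, Int.ofNat 1, Int.negSucc 0, Int.negSucc 0, Int.negSucc 0, Int.negSucc 0, Int.negSucc 0, Int.ofNat 1, Int.negSucc 0, Int.ofNat 1, Int.ofNat 1],
  [Int.negSucc 0, Int.negSucc 0, Int.negSucc 0, Int.ofNat 1, Int.negSucc 0, Int.ofNat 1, Int.negSucc 0, Int.ofNat 1, Int.negSucc 0, Int.negSucc 0, Int.negSucc 2, Int.ofNat 1, Int.ofNat 1, Int.ofNat 1, Int.ofNat 1, Int.ofNat 1, Int.negSucc 0, Int.negSucc 0, Int.ofNat 1, Int.negSucc 0, Int.ofNat 1, Int.negSucc 0, Int.negSucc 0, Int.ofNat 1],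
  [Int.ofNat 1, Int.negSucc 0, Int.negSucc 0, Int.negSucc 0, Int.negSucc 0, Int.ofNat 1, Int.ofNat 1, Int.negSucc 0, Int.ofNat 1, Int.ofNat 1, Int.ofNat 1, Int.ofNat 1, Int.negSucc 0, Int.ofNat 1, Int.ofNat 1, Int.negSucc 0, Int.ofNat 1, Int.negSucc 0, Int.negSucc 0, Int.negSucc 2, Int.negSucc 0, Int.negSucc 0, Int.negSucc 0, Int.ofNat 1],
  [Int.ofNat 1, Int.negSucc 0, Int.ofNat 1, Int.negSucc 0, Int.negSucc 0, Int.negSucc 0, Int.negSucc 0, Int.negSucc 0, Int.ofNat 1, Int.negSucc 0, Int.negSucc 0, Int.ofNat 1, Int.negSucc 0, Int.ofNat 1, Int.ofNat 1, Int.ofNat 1, Int.ofNat 1, Int.negSucc 0, Int.ofNat 1, Int.negSucc 2, Int.negSucc 0, Int.negSucc 0, Int.ofNat 1, Int.ofNat 1],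
  [Int.ofNat 0, Int.ofNat 2, Int.ofNat 0, Int.ofNat 0, Int.negSucc 1, Int.ofNat 0, Int.ofNat 2, Int.ofNat 2, Int.ofNat 0, Int.ofNat 0, Int.ofNat 0, Int.ofNat 0, Int.negSucc 1, Int.ofNat 0, Int.ofNat 2, Int.ofNat 2, Int.ofNat 0, Int.ofNat 0, Int.ofNat 0, Int.ofNat 0, Int.ofNat 0, Int.ofNat 2, Int.ofNat 0, Int.ofNat 0],
  [Int.ofNat 0, Int.ofNat 0, Int.ofNat 2, Int.ofNat 0, Int.ofNat 0, Int.ofNat 2, Int.ofNat 2, Int.ofNat 0, Int.ofNat 0, Int.negSucc 1, Int.ofNat 2, Int.ofNat 0, Int.ofNat 0, Int.ofNat 0, Int.ofNat 0, Int.ofNat 2, Int.ofNat 0, Int.ofNat 0, Int.negSucc 1, Int.ofNat 0, Int.ofNat 0, Int.ofNat 0, Int.ofNat 2, Int.ofNat 0],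
  [Int.ofNat 1, Int.ofNat 1, Int.negSucc 0, Int.negSucc 0, Int.negSucc 0, Int.ofNat 1, Int.ofNat 1, Int.negSucc 0, Int.ofNat 1, Int.negSucc 2, Int.ofNat 1, Int.ofNat 1, Int.ofNat 1, Int.negSucc 0, Int.negSucc 0, Int.ofNat 1, Int.negSucc 0, Int.negSucc 0, Int.negSucc 0, Int.negSucc 0, Int.negSucc 0, Int.negSucc 0, Int.ofNat 1, Int.ofNat 1],
  [Int.negSucc 0, Int.negSucc 0, Int.ofNat 1, Int.ofNat 1, Int.ofNat 1, Int.negSucc 0, Int.negSucc 0, Int.negSucc 0, Int.ofNat 1, Int.ofNat 1, Int.negSucc 0, Int.ofNat 1, Int.negSucc 2, Int.ofNat 1, Int.ofNat 1, Int.ofNat 1, Int.negSucc 0, Int.negSucc 0, Int.ofNat 1, Int.negSucc 0, Int.negSucc 0, Int.negSucc 0, Int.negSucc 0, Int.ofNat 1],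
  [Int.ofNat 1, Int.ofNat 1, Int.negSucc 0, Int.ofNat 1, Int.ofNat 1, Int.negSucc 0, Int.ofNat 1, Int.ofNat 1, Int.ofNat 1, Int.ofNat 1, Int.negSucc 0, Int.ofNat 1, Int.negSucc 2, Int.ofNat 1, Int.ofNat 1, Int.ofNat 1, Int.negSucc 0, Int.negSucc 0, Int.ofNat 1, Int.ofNat 1, Int.negSucc 0, Int.ofNat 1, Int.negSucc 0, Int.negSucc 0],
  [Int.ofNat 1, Int.negSucc 0, Int.ofNat 1, Int.ofNat 1, Int.negSucc 0, Int.ofNat 1, Int.ofNat 1, Int.ofNat 1, Int.ofNat 1, Int.negSucc 0, Int.ofNat 1, Int.negSucc 2, Int.ofNat 1, Int.ofNat 1, Int.ofNat 1, Int.negSucc 0, Int.negSucc 0, Int.ofNat 1, Int.ofNat 1, Int.negSucc 0, Int.ofNat 1, Int.negSucc 0, Int.ofNat 1, Int.negSucc 0],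
  [Int.negSucc 0, Int.negSucc 0, Int.negSucc 0, Int.ofNat 1, Int.negSucc 0, Int.ofNat 1, Int.ofNat 1, Int.negSucc 0, Int.ofNat 1, Int.ofNat 1, Int.negSucc 0, Int.ofNat 3, Int.ofNat 1, Int.ofNat 1, Int.ofNat 1, Int.negSucc 0, Int.negSucc 0, Int.ofNat 1, Int.negSucc 0, Int.negSucc 0, Int.ofNat 1, Int.ofNat 1, Int.ofNat 1, Int.negSucc 0],
  [Int.ofNat 1, Int.ofNat 1, Int.ofNat 1, Int.negSucc 0, Int.ofNat 1, Int.ofNat 1, Int.negSucc 0, Int.negSucc 0, Int.negSucc 0, Int.negSucc 0, Int.negSucc 0, Int.ofNat 3, Int.negSucc 0, Int.negSucc 0, Int.ofNat 1, Int.negSucc 0, Int.ofNat 1, Int.ofNat 1, Int.ofNat 1, Int.negSucc 0, Int.ofNat 1, Int.ofNat 1, Int.ofNat 1, Int.negSucc 0],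
  [Int.ofNat 1, Int.ofNat 1, Int.ofNat 1, Int.negSucc 0, Int.ofNat 1, Int.negSucc 0, Int.ofNat 1, Int.ofNat 1, Int.negSucc 0, Int.ofNat 1, Int.ofNat 1, Int.ofNat 1, Int.negSucc 0, Int.negSucc 0, Int.negSucc 0, Int.negSucc 0, Int.negSucc 0, Int.ofNat 1, Int.negSucc 0, Int.ofNat 1, Int.ofNat 1, Int.negSucc 0, Int.ofNat 3, Int.negSucc 0],
  [Int.negSucc 0, Int.ofNat 1, Int.negSucc 0, Int.negSucc 0, Int.ofNat 1, Int.negSucc 0, Int.ofNat 1, Int.negSucc 0, Int.negSucc 0, Int.negSucc 0, Int.negSucc 0, Int.negSucc 0, Int.negSucc 0, Int.negSucc 0, Int.negSucc 0, Int.negSucc 0, Int.negSucc 0, Int.ofNat 1, Int.ofNat 1, Int.ofNat 1, Int.ofNat 1, Int.ofNat 1, Int.ofNat 3, Int.negSucc 0],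
  [Int.ofNat 3, Int.negSucc 0, Int.ofNat 1, Int.negSucc 0, Int.negSucc 0, Int.ofNat 1, Int.negSucc 0, Int.ofNat 1, Int.negSucc 0, Int.negSucc 0, Int.negSucc 0, Int.negSucc 0, Int.negSucc 0, Int.negSucc 0, Int.negSucc 0, Int.negSucc 0, Int.negSucc 0, Int.negSucc 0, Int.ofNat 1, Int.ofNat 1, Int.ofNat 1, Int.ofNat 1, Int.ofNat 1, Int.negSucc 0],
  [Int.negSucc 1, Int.ofNat 2, Int.ofNat 0, Int.ofNat 0, Int.ofNat 0, Int.ofNat 2, Int.negSucc 1, Int.ofNat 0, Int.ofNat 0, Int.ofNat 0, Int.ofNat 0, Int.ofNat 0, Int.ofNat 0, Int.ofNat 0, Int.ofNat 0, Int.ofNat 0, Int.ofNat 0, Int.ofNat 0, Int.ofNat 2, Int.ofNat 0, Int.ofNat 2, Int.ofNat 0, Int.ofNat 2, Int.ofNat 2],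
  [Int.ofNat 0, Int.ofNat 0, Int.ofNat 2, Int.negSucc 1, Int.ofNat 0, Int.ofNat 0, Int.ofNat 0, Int.ofNat 0, Int.ofNat 0, Int.ofNat 0, Int.ofNat 0, Int.ofNat 0, Int.ofNat 0, Int.ofNat 0, Int.ofNat 0, Int.ofNat 2, Int.ofNat 0, Int.ofNat 2, Int.ofNat 0, Int.ofNat 2, Int.negSucc 1, Int.ofNat 2, Int.ofNat 0, Int.ofNat 2],
  [Int.ofNat 2, Int.ofNat 2, Int.ofNat 0, Int.negSucc 1, Int.ofNat 0, Int.ofNat 0, Int.negSucc 1, Int.negSucc 1, Int.ofNat 0, Int.ofNat 0, Int.ofNat 0, Int.ofNat 0, Int.ofNat 0, Int.ofNat 0, Int.ofNat 0, Int.ofNat 2, Int.ofNat 0, Int.ofNat 2, Int.ofNat 0, Int.ofNat 0, Int.negSucc 1, Int.ofNat 0, Int.ofNat 0, Int.ofNat 0],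
  [Int.ofNat 2, Int.negSucc 1, Int.ofNat 0, Int.negSucc 1, Int.ofNat 0, Int.negSucc 1, Int.ofNat 0, Int.ofNat 0, Int.ofNat 0, Int.ofNat 0, Int.negSucc 1, Int.ofNat 2, Int.ofNat 0, Int.ofNat 0, Int.ofNat 0, Int.ofNat 2, Int.ofNat 0, Int.ofNat 0, Int.ofNat 2, Int.ofNat 0, Int.ofNat 0, Int.ofNat 0, Int.ofNat 0, Int.ofNat 0],
  [Int.negSucc 1, Int.ofNat 2, Int.ofNat 0, Int.ofNat 0, Int.ofNat 0, Int.ofNat 0, Int.ofNat 0, Int.ofNat 0, Int.negSucc 1, Int.ofNat 0, Int.negSucc 1, Int.ofNat 0, Int.negSucc 1, Int.ofNat 0, Int.ofNat 2, Int.ofNat 2, Int.ofNat 0, Int.ofNat 2, Int.ofNat 0, Int.ofNat 0, Int.ofNat 0, Int.ofNat 0, Int.ofNat 0, Int.ofNat 0],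
  [Int.negSucc 1, Int.ofNat 2, Int.ofNat 0, Int.ofNat 0, Int.ofNat 0, Int.ofNat 0, Int.ofNat 0, Int.ofNat 0, Int.negSucc 1, Int.ofNat 0, Int.ofNat 2, Int.ofNat 0, Int.negSucc 1, Int.ofNat 0, Int.ofNat 2, Int.negSucc 1, Int.ofNat 0, Int.ofNat 2, Int.ofNat 0, Int.ofNat 0, Int.ofNat 0, Int.ofNat 0, Int.ofNat 0, Int.ofNat 0],
  [Int.ofNat 2, Int.ofNat 0, Int.ofNat 0, Int.negSucc 1, Int.ofNat 2, Int.ofNat 0, Int.ofNat 0, Int.ofNat 0, Int.ofNat 0, Int.ofNat 0, Int.ofNat 0, Int.ofNat 0, Int.negSucc 1, Int.ofNat 0, Int.ofNat 2, Int.ofNat 0, Int.ofNat 0, Int.negSucc 1, Int.ofNat 0, Int.ofNat 0, Int.negSucc 1, Int.ofNat 2, Int.ofNat 0, Int.ofNat 0],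
  [Int.ofNat 0, Int.ofNat 0, Int.ofNat 0, Int.ofNat 0, Int.negSucc 1, Int.ofNat 0, Int.ofNat 0, Int.ofNat 0, Int.negSucc 1, Int.ofNat 0, Int.ofNat 0, Int.ofNat 0, Int.ofNat 2, Int.ofNat 0, Int.ofNat 0, Int.negSucc 1, Int.ofNat 0, Int.ofNat 2, Int.ofNat 2, Int.ofNat 0, Int.ofNat 0, Int.negSucc 1, Int.ofNat 0, Int.ofNat 2],
  [Int.ofNat 0, Int.ofNat 0, Int.ofNat 0, Int.ofNat 0, Int.negSucc 1, Int.ofNat 0, Int.ofNat 0, Int.ofNat 0, Int.negSucc 1, Int.ofNat 0, Int.ofNat 0, Int.ofNat 0, Int.ofNat 2, Int.ofNat 0, Int.ofNat 0, Int.negSucc 1, Int.ofNat 0, Int.ofNat 2, Int.negSucc 1, Int.ofNat 0, Int.ofNat 0, Int.ofNat 2, Int.ofNat 0, Int.ofNat 2],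
  [Int.ofNat 0, Int.ofNat 0, Int.ofNat 0, Int.ofNat 0, Int.ofNat 0, Int.negSucc 1, Int.ofNat 0, Int.ofNat 0, Int.ofNat 0, Int.negSucc 1, Int.ofNat 0, Int.ofNat 0, Int.ofNat 0, Int.ofNat 2, Int.ofNat 0, Int.ofNat 0, Int.negSucc 1, Int.ofNat 0, Int.ofNat 2, Int.negSucc 1, Int.ofNat 0, Int.ofNat 0, Int.ofNat 2, Int.ofNat 2],
  [Int.ofNat 1, Int.ofNat 1, Int.ofNat 1, Int.ofNat 1, Int.negSucc 0, Int.negSucc 0, Int.ofNat 1, Int.ofNat 1, Int.negSucc 0, Int.negSucc 0, Int.ofNat 1, Int.negSucc 0, Int.negSucc 0, Int.ofNat 1, Int.ofNat 1, Int.ofNat 1, Int.negSucc 2, Int.ofNat 1, Int.ofNat 1, Int.negSucc 0, Int.ofNat 1, Int.ofNat 1, Int.ofNat 1, Int.negSucc 0],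
  [Int.ofNat 1, Int.negSucc 0, Int.negSucc 0, Int.ofNat 1, Int.ofNat 1, Int.negSucc 0, Int.negSucc 0, Int.ofNat 1, Int.negSucc 0, Int.negSucc 0, Int.ofNat 1, Int.ofNat 1, Int.ofNat 1, Int.negSucc 2, Int.ofNat 1, Int.ofNat 1, Int.negSucc 0, Int.ofNat 1, Int.ofNat 1, Int.ofNat 1, Int.ofNat 1, Int.ofNat 1, Int.ofNat 1, Int.negSucc 0],
  [Int.negSucc 1, Int.ofNat 0, Int.ofNat 0, Int.ofNat 0, Int.ofNat 2, Int.negSucc 1, Int.negSucc 1, Int.ofNat 0, Int.negSucc 1, Int.negSucc 1, Int.ofNat 0, Int.ofNat 0, Int.ofNat 0, Int.negSucc 1, Int.ofNat 0, Int.ofNat 0, Int.ofNat 0, Int.ofNat 0, Int.ofNat 0, Int.ofNat 0, Int.ofNat 0, Int.ofNat 0, Int.ofNat 2, Int.ofNat 0],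
  [Int.negSucc 1, Int.negSucc 1, Int.ofNat 2, Int.ofNat 0, Int.ofNat 0, Int.ofNat 0, Int.ofNat 0, Int.ofNat 0, Int.ofNat 0, Int.negSucc 1, Int.ofNat 0, Int.ofNat 0, Int.negSucc 1, Int.ofNat 0, Int.ofNat 2, Int.ofNat 0, Int.negSucc 1, Int.ofNat 0, Int.ofNat 0, Int.ofNat 0, Int.ofNat 0, Int.negSucc 1, Int.ofNat 0, Int.ofNat 0],
  [Int.ofNat 1, Int.ofNat 1, Int.negSucc 2, Int.negSucc 0, Int.ofNat 1, Int.negSucc 0, Int.ofNat 1, Int.ofNat 1, Int.ofNat 1, Int.negSucc 0, Int.ofNat 1, Int.ofNat 1, Int.negSucc 0, Int.ofNat 1, Int.ofNat 1, Int.ofNat 1, Int.negSucc 0, Int.negSucc 0, Int.ofNat 1, Int.ofNat 1, Int.ofNat 1, Int.negSucc 0, Int.ofNat 1, Int.negSucc 0],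
  [Int.ofNat 1, Int.ofNat 1, Int.ofNat 3, Int.negSucc 0, Int.ofNat 1, Int.ofNat 1, Int.negSucc 0, Int.ofNat 1, Int.ofNat 1, Int.ofNat 1, Int.negSucc 0, Int.ofNat 1, Int.negSucc 0, Int.ofNat 1, Int.ofNat 1, Int.negSucc 0, Int.negSucc 0, Int.negSucc 0, Int.negSucc 0, Int.ofNat 1, Int.ofNat 1, Int.negSucc 0, Int.negSucc 0, Int.negSucc 0],
  [Int.ofNat 1, Int.negSucc 0, Int.ofNat 1, Int.negSucc 0, Int.ofNat 1, Int.negSucc 0, Int.negSucc 0, Int.ofNat 1, Int.ofNat 1, Int.ofNat 1, Int.negSucc 0, Int.ofNat 1, Int.negSucc 0, Int.negSucc 0, Int.ofNat 1, Int.ofNat 3, Int.ofNat 1, Int.ofNat 1, Int.negSucc 0, Int.negSucc 0, Int.ofNat 1, Int.ofNat 1, Int.negSucc 0, Int.negSucc 0],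
  [Int.ofNat 1, Int.negSucc 0, Int.negSucc 0, Int.negSucc 0, Int.ofNat 1, Int.ofNat 1, Int.ofNat 1, Int.ofNat 1, Int.ofNat 1, Int.negSucc 0, Int.ofNat 1, Int.ofNat 1, Int.negSucc 0, Int.negSucc 0, Int.ofNat 1, Int.negSucc 2, Int.ofNat 1, Int.ofNat 1, Int.ofNat 1, Int.negSucc 0, Int.ofNat 1, Int.ofNat 1, Int.ofNat 1, Int.negSucc 0],
  [Int.negSucc 1, Int.ofNat 0, Int.ofNat 0, Int.negSucc 1, Int.ofNat 0, Int.ofNat 0, Int.ofNat 0, Int.ofNat 0, Int.ofNat 0, Int.ofNat 0, Int.ofNat 2, Int.ofNat 0, Int.negSucc 1, Int.negSucc 1, Int.ofNat 0, Int.negSucc 1, Int.ofNat 0, Int.ofNat 0, Int.ofNat 0, Int.negSucc 1, Int.ofNat 2, Int.ofNat 0, Int.ofNat 0, Int.ofNat 0],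
  [Int.negSucc 1, Int.ofNat 0, Int.ofNat 0, Int.negSucc 1, Int.ofNat 0, Int.ofNat 0, Int.ofNat 0, Int.ofNat 0, Int.ofNat 0, Int.negSucc 1, Int.ofNat 0, Int.negSucc 1, Int.ofNat 0, Int.ofNat 0, Int.ofNat 0, Int.negSucc 1, Int.negSucc 1, Int.ofNat 0, Int.ofNat 0, Int.ofNat 0, Int.ofNat 2, Int.ofNat 2, Int.ofNat 0, Int.ofNat 0],
  [Int.ofNat 1, Int.negSucc 0, Int.negSucc 0, Int.negSucc 0, Int.ofNat 1, Int.ofNat 1, Int.negSucc 0, Int.negSucc 0, Int.ofNat 1, Int.negSucc 0, Int.ofNat 1, Int.negSucc 0, Int.ofNat 1, Int.ofNat 1, Int.ofNat 1, Int.negSucc 0, Int.negSucc 0, Int.ofNat 1, Int.ofNat 1, Int.negSucc 0, Int.ofNat 3, Int.ofNat 1, Int.ofNat 1, Int.negSucc 0],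
  [Int.ofNat 3, Int.ofNat 1, Int.ofNat 1, Int.ofNat 1, Int.negSucc 0, Int.negSucc 0, Int.negSucc 0, Int.ofNat 1, Int.ofNat 1, Int.negSucc 0, Int.negSucc 0, Int.ofNat 1, Int.negSucc 0, Int.ofNat 1, Int.negSucc 0, Int.ofNat 1, Int.ofNat 1, Int.ofNat 1, Int.negSucc 0, Int.negSucc 0, Int.ofNat 1, Int.ofNat 1, Int.negSucc 0, Int.negSucc 0],
  [Int.negSucc 0, Int.ofNat 1, Int.ofNat 1, Int.ofNat 1, Int.negSucc 0, Int.negSucc 0, Int.negSucc 0, Int.ofNat 1, Int.ofNat 1, Int.negSucc 0, Int.negSucc 0, Int.ofNat 1, Int.negSucc 0, Int.ofNat 1, Int.negSucc 0, Int.ofNat 1, Int.ofNat 1, Int.ofNat 1, Int.negSucc 0, Int.negSucc 0, Int.ofNat 1, Int.ofNat 1, Int.negSucc 0, Int.ofNat 3],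
  [Int.ofNat 1, Int.ofNat 1, Int.ofNat 1, Int.negSucc 0, Int.negSucc 0, Int.negSucc 0, Int.ofNat 1, Int.ofNat 1, Int.negSucc 0, Int.negSucc 0, Int.ofNat 1, Int.negSucc 0, Int.ofNat 1, Int.negSucc 0, Int.ofNat 1, Int.ofNat 1, Int.ofNat 1, Int.negSucc 0, Int.negSucc 0, Int.ofNat 1, Int.ofNat 1, Int.negSucc 0, Int.negSucc 0, Int.ofNat 3],
  [Int.negSucc 0, Int.ofNat 1, Int.negSucc 0, Int.negSucc 0, Int.negSucc 0, Int.negSucc 0, Int.ofNat 1, Int.negSucc 0, Int.negSucc 0, Int.ofNat 1, Int.negSucc 0, Int.ofNat 1, Int.ofNat 1, Int.negSucc 0, Int.ofNat 1, Int.ofNat 1, Int.ofNat 1, Int.negSucc 0, Int.ofNat 1, Int.ofNat 1, Int.ofNat 1, Int.ofNat 1, Int.negSucc 0, Int.ofNat 3],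
  [Int.ofNat 1, Int.negSucc 0, Int.ofNat 1, Int.ofNat 1, Int.ofNat 1, Int.negSucc 0, Int.negSucc 0, Int.negSucc 0, Int.ofNat 1, Int.negSucc 0, Int.negSucc 0, Int.ofNat 1, Int.negSucc 0, Int.ofNat 1, Int.ofNat 1, Int.ofNat 1, Int.negSucc 0, Int.negSucc 0, Int.negSucc 0, Int.ofNat 1, Int.ofNat 1, Int.ofNat 1, Int.negSucc 0, Int.ofNat 3],
  [Int.ofNat 1, Int.ofNat 1, Int.negSucc 0, Int.ofNat 1, Int.negSucc 0, Int.negSucc 0, Int.ofNat 1, Int.ofNat 1, Int.negSucc 0, Int.negSucc 0, Int.ofNat 1, Int.ofNat 1, Int.ofNat 1, Int.ofNat 1, Int.ofNat 1, Int.ofNat 1, Int.negSucc 0, Int.negSucc 0, Int.negSucc 0, Int.negSucc 0, Int.negSucc 0, Int.negSucc 0, Int.ofNat 1, Int.ofNat 3],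
  [Int.negSucc 0, Int.ofNat 1, Int.ofNat 1, Int.ofNat 1, Int.negSucc 0, Int.negSucc 0, Int.ofNat 1, Int.negSucc 0, Int.negSucc 0, Int.ofNat 1, Int.negSucc 0, Int.negSucc 0, Int.ofNat 1, Int.ofNat 1, Int.ofNat 1, Int.ofNat 1, Int.negSucc 0, Int.negSucc 0, Int.ofNat 1, Int.negSucc 0, Int.negSucc 0, Int.ofNat 1, Int.ofNat 1, Int.ofNat 3],
  [Int.ofNat 1, Int.negSucc 0, Int.ofNat 1, Int.ofNat 1, Int.ofNat 1, Int.negSucc 0, Int.negSucc 0, Int.ofNat 1, Int.negSucc 0, Int.negSucc 0, Int.ofNat 1, Int.negSucc 0, Int.negSucc 0, Int.ofNat 1, Int.ofNat 1, Int.ofNat 1, Int.ofNat 1, Int.negSucc 0, Int.negSucc 0, Int.ofNat 1, Int.negSucc 0, Int.negSucc 0, Int.ofNat 1, Int.ofNat 3],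
  [Int.ofNat 1, Int.ofNat 3, Int.ofNat 1, Int.ofNat 1, Int.negSucc 0, Int.negSucc 0, Int.negSucc 0, Int.ofNat 1, Int.ofNat 1, Int.negSucc 0, Int.ofNat 1, Int.ofNat 1, Int.ofNat 1, Int.negSucc 0, Int.ofNat 1, Int.ofNat 1, Int.negSucc 0, Int.negSucc 0, Int.ofNat 1, Int.ofNat 1, Int.negSucc 0, Int.negSucc 0, Int.negSucc 0, Int.negSucc 0],
  [Int.ofNat 1, Int.negSucc 0, Int.negSucc 0, Int.negSucc 0, Int.ofNat 1, Int.ofNat 1, Int.negSucc 0, Int.ofNat 1, Int.ofNat 1, Int.ofNat 1, Int.negSucc 0, Int.ofNat 1, Int.ofNat 1, Int.negSucc 0, Int.negSucc 0, Int.ofNat 1, Int.ofNat 1, Int.negSucc 0, Int.negSucc 0, Int.negSucc 0, Int.ofNat 1, Int.ofNat 3, Int.ofNat 1, Int.negSucc 0],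
  [Int.negSucc 1, Int.ofNat 0, Int.ofNat 0, Int.ofNat 0, Int.ofNat 0, Int.ofNat 2, Int.negSucc 1, Int.ofNat 0, Int.ofNat 0, Int.ofNat 0, Int.negSucc 1, Int.ofNat 0, Int.ofNat 0, Int.negSucc 1, Int.ofNat 0, Int.ofNat 0, Int.ofNat 0, Int.ofNat 0, Int.negSucc 1, Int.negSucc 1, Int.ofNat 0, Int.ofNat 2, Int.ofNat 0, Int.ofNat 0],
  [Int.negSucc 1, Int.negSucc 1, Int.ofNat 0, Int.ofNat 0, Int.negSucc 1, Int.ofNat 0, Int.ofNat 0, Int.negSucc 1, Int.ofNat 0, Int.negSucc 1, Int.ofNat 0, Int.ofNat 0, Int.ofNat 0, Int.ofNat 0, Int.ofNat 0, Int.ofNat 0, Int.ofNat 0, Int.ofNat 0, Int.ofNat 0, Int.ofNat 0, Int.ofNat 2, Int.ofNat 2, Int.negSucc 1, Int.ofNat 0],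
  [Int.ofNat 0, Int.ofNat 0, Int.negSucc 1, Int.ofNat 0, Int.ofNat 0, Int.ofNat 0, Int.ofNat 0, Int.negSucc 1, Int.ofNat 0, Int.negSucc 1, Int.ofNat 0, Int.ofNat 0, Int.ofNat 0, Int.ofNat 2, Int.ofNat 0, Int.ofNat 0, Int.ofNat 2, Int.ofNat 0, Int.ofNat 0, Int.ofNat 0, Int.ofNat 2, Int.ofNat 2, Int.ofNat 0, Int.negSucc 1],
  [Int.ofNat 0, Int.ofNat 0, Int.ofNat 2, Int.ofNat 0, Int.ofNat 0, Int.ofNat 0, Int.ofNat 0, Int.negSucc 1, Int.ofNat 0, Int.ofNat 2, Int.ofNat 0, Int.ofNat 0, Int.ofNat 0, Int.ofNat 2, Int.ofNat 0, Int.ofNat 0, Int.ofNat 2, Int.ofNat 0, Int.ofNat 0, Int.ofNat 0, Int.ofNat 2, Int.ofNat 2, Int.ofNat 0, Int.negSucc 1],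
  [Int.ofNat 0, Int.ofNat 2, Int.ofNat 0, Int.ofNat 0, Int.ofNat 0, Int.ofNat 0, Int.ofNat 2, Int.ofNat 0, Int.ofNat 0, Int.ofNat 2, Int.ofNat 2, Int.negSucc 1, Int.ofNat 0, Int.ofNat 0, Int.ofNat 0, Int.ofNat 0, Int.ofNat 0, Int.ofNat 0, Int.ofNat 2, Int.ofNat 2, Int.ofNat 0, Int.ofNat 0, Int.ofNat 0, Int.negSucc 1],
  [Int.negSucc 1, Int.ofNat 0, Int.negSucc 1, Int.ofNat 0, Int.ofNat 0, Int.ofNat 2, Int.ofNat 2, Int.ofNat 0, Int.ofNat 0, Int.ofNat 0, Int.ofNat 0, Int.ofNat 0, Int.ofNat 0, Int.ofNat 0, Int.ofNat 2, Int.ofNat 0, Int.ofNat 2, Int.ofNat 0, Int.ofNat 0, Int.ofNat 2, Int.ofNat 0, Int.ofNat 0, Int.ofNat 2, Int.ofNat 0],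
  [Int.ofNat 2, Int.ofNat 0, Int.ofNat 2, Int.ofNat 0, Int.ofNat 0, Int.ofNat 2, Int.ofNat 2, Int.ofNat 0, Int.ofNat 0, Int.ofNat 0, Int.ofNat 0, Int.ofNat 0, Int.ofNat 0, Int.ofNat 0, Int.ofNat 2, Int.ofNat 0, Int.ofNat 2, Int.ofNat 0, Int.ofNat 0, Int.ofNat 2, Int.ofNat 0, Int.ofNat 0, Int.ofNat 2, Int.ofNat 0],
  [Int.ofNat 2, Int.ofNat 2, Int.ofNat 0, Int.ofNat 2, Int.ofNat 0, Int.ofNat 0, Int.ofNat 2, Int.ofNat 2, Int.ofNat 0, Int.ofNat 0, Int.ofNat 0, Int.ofNat 0, Int.ofNat 0, Int.ofNat 0, Int.ofNat 0, Int.ofNat 2, Int.ofNat 0, Int.ofNat 2, Int.ofNat 0, Int.ofNat 0, Int.ofNat 2, Int.ofNat 0, Int.ofNat 0, Int.ofNat 0],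
  [Int.ofNat 0, Int.ofNat 0, Int.ofNat 2, Int.ofNat 0, Int.ofNat 0, Int.negSucc 1, Int.ofNat 0, Int.ofNat 0, Int.ofNat 0, Int.negSucc 1, Int.negSucc 1, Int.ofNat 0, Int.ofNat 0, Int.ofNat 0, Int.negSucc 1, Int.ofNat 0, Int.ofNat 0, Int.ofNat 0, Int.ofNat 0, Int.negSucc 1, Int.ofNat 0, Int.negSucc 1, Int.ofNat 0, Int.ofNat 2],
  [Int.ofNat 0, Int.ofNat 0, Int.negSucc 1, Int.ofNat 0, Int.ofNat 0, Int.ofNat 0, Int.negSucc 1, Int.negSucc 1, Int.ofNat 0, Int.ofNat 0, Int.ofNat 0, Int.negSucc 1, Int.ofNat 0, Int.ofNat 0, Int.ofNat 0, Int.ofNat 0, Int.negSucc 1, Int.ofNat 0, Int.negSucc 1, Int.ofNat 0, Int.ofNat 0, Int.ofNat 0, Int.ofNat 2, Int.ofNat 2],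
  [Int.ofNat 0, Int.ofNat 0, Int.ofNat 2, Int.ofNat 0, Int.ofNat 0, Int.ofNat 0, Int.ofNat 0, Int.ofNat 0, Int.ofNat 2, Int.ofNat 0, Int.ofNat 0, Int.ofNat 0, Int.ofNat 2, Int.ofNat 0, Int.ofNat 0, Int.ofNat 0, Int.negSucc 1, Int.ofNat 0, Int.ofNat 0, Int.ofNat 2, Int.ofNat 0, Int.ofNat 2, Int.ofNat 2, Int.negSucc 1],
  [Int.ofNat 0, Int.ofNat 0, Int.ofNat 0, Int.ofNat 0, Int.ofNat 0, Int.ofNat 0, Int.ofNat 2, Int.ofNat 0, Int.ofNat 2, Int.ofNat 0, Int.ofNat 0, Int.ofNat 0, Int.ofNat 0, Int.negSucc 1, Int.ofNat 2, Int.ofNat 0, Int.ofNat 2, Int.ofNat 0, Int.ofNat 0, Int.ofNat 0, Int.ofNat 2, Int.ofNat 0, Int.ofNat 2, Int.negSucc 1],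
  [Int.negSucc 0, Int.negSucc 0, Int.negSucc 0, Int.negSucc 0, Int.negSucc 0, Int.negSucc 0, Int.ofNat 1, Int.negSucc 0, Int.ofNat 1, Int.negSucc 0, Int.negSucc 0, Int.negSucc 0, Int.negSucc 0, Int.negSucc 2, Int.ofNat 1, Int.negSucc 0, Int.ofNat 1, Int.negSucc 0, Int.negSucc 0, Int.negSucc 0, Int.ofNat 1, Int.negSucc 0, Int.ofNat 1, Int.ofNat 1],
  [Int.negSucc 0, Int.negSucc 0, Int.ofNat 1, Int.negSucc 0, Int.negSucc 0, Int.ofNat 1, Int.negSucc 0, Int.negSucc 0, Int.ofNat 1, Int.ofNat 1, Int.ofNat 1, Int.negSucc 0, Int.negSucc 0, Int.negSucc 2, Int.ofNat 1, Int.ofNat 1, Int.ofNat 1, Int.negSucc 0, Int.ofNat 1, Int.negSucc 0, Int.ofNat 1, Int.negSucc 0, Int.negSucc 0, Int.ofNat 1],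
  [Int.ofNat 1, Int.negSucc 0, Int.ofNat 1, Int.negSucc 0, Int.negSucc 0, Int.ofNat 1, Int.ofNat 1, Int.ofNat 1, Int.negSucc 2, Int.negSucc 0, Int.negSucc 0, Int.ofNat 1, Int.ofNat 1, Int.negSucc 0, Int.negSucc 0, Int.ofNat 1, Int.ofNat 1, Int.negSucc 0, Int.negSucc 0, Int.ofNat 1, Int.negSucc 0, Int.negSucc 0, Int.negSucc 0, Int.ofNat 1],
  [Int.ofNat 1, Int.negSucc 0, Int.negSucc 0, Int.negSucc 0, Int.negSucc 0, Int.negSucc 0, Int.negSucc 0, Int.ofNat 1, Int.negSucc 2, Int.ofNat 1, Int.ofNat 1, Int.ofNat 1, Int.ofNat 1, Int.negSucc 0, Int.negSucc 0, Int.negSucc 0, Int.ofNat 1, Int.negSucc 0, Int.ofNat 1, Int.ofNat 1, Int.negSucc 0, Int.negSucc 0, Int.ofNat 1, Int.ofNat 1],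
  [Int.negSucc 0, Int.ofNat 1, Int.ofNat 1, Int.ofNat 1, Int.negSucc 0, Int.ofNat 1, Int.negSucc 0, Int.ofNat 1, Int.negSucc 2, Int.ofNat 1, Int.ofNat 1, Int.ofNat 1, Int.ofNat 1, Int.negSucc 0, Int.ofNat 1, Int.negSucc 0, Int.ofNat 1, Int.ofNat 1, Int.ofNat 1, Int.ofNat 1, Int.negSucc 0, Int.negSucc 0, Int.ofNat 1, Int.negSucc 0],
  [Int.negSucc 0, Int.ofNat 1, Int.negSucc 0, Int.ofNat 1, Int.ofNat 1, Int.negSucc 0, Int.ofNat 1, Int.ofNat 1, Int.ofNat 1, Int.ofNat 1, Int.ofNat 1, Int.ofNat 1, Int.negSucc 2, Int.ofNat 1, Int.ofNat 1, Int.negSucc 0, Int.negSucc 0, Int.ofNat 1, Int.negSucc 0, Int.ofNat 1, Int.ofNat 1, Int.negSucc 0, Int.ofNat 1, Int.negSucc 0],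
  [Int.ofNat 0, Int.negSucc 1, Int.ofNat 0, Int.ofNat 0, Int.ofNat 0, Int.negSucc 1, Int.ofNat 0, Int.ofNat 0, Int.ofNat 2, Int.ofNat 0, Int.ofNat 0, Int.ofNat 2, Int.negSucc 1, Int.ofNat 0, Int.ofNat 0, Int.negSucc 1, Int.negSucc 1, Int.ofNat 0, Int.ofNat 0, Int.ofNat 0, Int.ofNat 0, Int.negSucc 1, Int.ofNat 0, Int.ofNat 0],
  [Int.ofNat 0, Int.negSucc 1, Int.ofNat 0, Int.ofNat 0, Int.negSucc 1, Int.ofNat 0, Int.ofNat 0, Int.ofNat 0, Int.negSucc 1, Int.ofNat 0, Int.ofNat 0, Int.ofNat 2, Int.ofNat 0, Int.ofNat 0, Int.ofNat 2, Int.negSucc 1, Int.ofNat 0, Int.ofNat 0, Int.negSucc 1, Int.negSucc 1, Int.ofNat 0, Int.ofNat 0, Int.ofNat 0, Int.ofNat 0],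
  [Int.negSucc 0, Int.ofNat 1, Int.negSucc 0, Int.negSucc 0, Int.negSucc 0, Int.negSucc 0, Int.ofNat 1, Int.ofNat 1, Int.negSucc 0, Int.ofNat 1, Int.ofNat 1, Int.ofNat 3, Int.ofNat 1, Int.ofNat 1, Int.ofNat 1, Int.negSucc 0, Int.ofNat 1, Int.negSucc 0, Int.negSucc 0, Int.negSucc 0, Int.ofNat 1, Int.ofNat 1, Int.ofNat 1, Int.negSucc 0],
  [Int.ofNat 1, Int.negSucc 0, Int.negSucc 0, Int.negSucc 0, Int.negSucc 0, Int.ofNat 1, Int.ofNat 1, Int.negSucc 0, Int.ofNat 1, Int.ofNat 1, Int.ofNat 3, Int.ofNat 1, Int.ofNat 1, Int.ofNat 1, Int.negSucc 0, Int.ofNat 1, Int.negSucc 0, Int.negSucc 0, Int.negSucc 0, Int.ofNat 1, Int.ofNat 1, Int.ofNat 1, Int.negSucc 0, Int.negSucc 0],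
  [Int.negSucc 0, Int.negSucc 0, Int.ofNat 1, Int.negSucc 0, Int.negSucc 0, Int.ofNat 1, Int.ofNat 1, Int.ofNat 1, Int.ofNat 1, Int.negSucc 0, Int.negSucc 2, Int.negSucc 0, Int.ofNat 1, Int.ofNat 1, Int.negSucc 0, Int.ofNat 1, Int.negSucc 0, Int.negSucc 0, Int.ofNat 1, Int.ofNat 1, Int.ofNat 1, Int.negSucc 0, Int.negSucc 0, Int.negSucc 0],
  [Int.ofNat 1, Int.ofNat 1, Int.negSucc 0, Int.ofNat 1, Int.ofNat 1, Int.ofNat 1, Int.negSucc 0, Int.ofNat 1, Int.negSucc 0, Int.ofNat 1, Int.negSucc 2, Int.negSucc 0, Int.negSucc 0, Int.negSucc 0, Int.negSucc 0, Int.ofNat 1, Int.ofNat 1, Int.negSucc 0, Int.negSucc 0, Int.ofNat 1, Int.ofNat 1, Int.negSucc 0, Int.negSucc 0, Int.negSucc 0],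
  [Int.ofNat 1, Int.negSucc 0, Int.negSucc 0, Int.ofNat 1, Int.ofNat 1, Int.negSucc 2, Int.ofNat 1, Int.ofNat 1, Int.ofNat 1, Int.ofNat 1, Int.negSucc 0, Int.negSucc 0, Int.negSucc 0, Int.negSucc 0, Int.ofNat 1, Int.ofNat 1, Int.negSucc 0, Int.negSucc 0, Int.negSucc 0, Int.negSucc 0, Int.ofNat 1, Int.ofNat 1, Int.negSucc 0, Int.negSucc 0],
  [Int.negSucc 0, Int.negSucc 0, Int.ofNat 1, Int.ofNat 1, Int.ofNat 1, Int.negSucc 2, Int.ofNat 1, Int.negSucc 0, Int.ofNat 1, Int.negSucc 0, Int.ofNat 1, Int.ofNat 1, Int.negSucc 0, Int.negSucc 0, Int.ofNat 1, Int.ofNat 1, Int.negSucc 0, Int.negSucc 0, Int.ofNat 1, Int.negSucc 0, Int.ofNat 1, Int.negSucc 0, Int.negSucc 0, Int.negSucc 0],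
  [Int.negSucc 0, Int.negSucc 0, Int.negSucc 0, Int.ofNat 1, Int.ofNat 1, Int.ofNat 1, Int.negSucc 2, Int.ofNat 1, Int.negSucc 0, Int.ofNat 1, Int.negSucc 0, Int.ofNat 1, Int.ofNat 1, Int.negSucc 0, Int.negSucc 0, Int.ofNat 1, Int.ofNat 1, Int.negSucc 0, Int.negSucc 0, Int.ofNat 1, Int.negSucc 0, Int.ofNat 1, Int.negSucc 0, Int.negSucc 0],
  [Int.negSucc 0, Int.negSucc 0, Int.negSucc 0, Int.ofNat 1, Int.ofNat 1, Int.ofNat 1, Int.negSucc 2, Int.ofNat 1, Int.negSucc 0, Int.ofNat 1, Int.negSucc 0, Int.ofNat 1, Int.ofNat 1, Int.negSucc 0, Int.negSucc 0, Int.ofNat 1, Int.ofNat 1, Int.negSucc 0, Int.negSucc 0, Int.ofNat 1, Int.negSucc 0, Int.ofNat 1, Int.negSucc 0, Int.negSucc 0],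
  [Int.ofNat 1, Int.ofNat 1, Int.ofNat 1, Int.negSucc 2, Int.ofNat 1, Int.negSucc 0, Int.ofNat 1, Int.negSucc 0, Int.ofNat 1, Int.ofNat 1, Int.negSucc 0, Int.negSucc 0, Int.ofNat 1, Int.ofNat 1, Int.negSucc 0, Int.negSucc 0, Int.ofNat 1, Int.negSucc 0, Int.ofNat 1, Int.negSucc 0, Int.negSucc 0, Int.negSucc 0, Int.negSucc 0, Int.negSucc 0],
  [Int.ofNat 0, Int.ofNat 0, Int.ofNat 0, Int.ofNat 0, Int.ofNat 0, Int.ofNat 2, Int.ofNat 2, Int.ofNat 0, Int.ofNat 0, Int.ofNat 2, Int.ofNat 0, Int.negSucc 1, Int.ofNat 0, Int.ofNat 0, Int.ofNat 2, Int.ofNat 0, Int.ofNat 0, Int.ofNat 2, Int.ofNat 0, Int.ofNat 0, Int.ofNat 0, Int.ofNat 0, Int.negSucc 1, Int.ofNat 2],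
  [Int.ofNat 0, Int.ofNat 2, Int.ofNat 0, Int.ofNat 0, Int.ofNat 0, Int.ofNat 0, Int.ofNat 0, Int.ofNat 0, Int.ofNat 0, Int.ofNat 0, Int.ofNat 0, Int.ofNat 2, Int.ofNat 2, Int.ofNat 0, Int.negSucc 1, Int.ofNat 0, Int.ofNat 0, Int.ofNat 2, Int.ofNat 0, Int.negSucc 1, Int.ofNat 0, Int.ofNat 2, Int.ofNat 0, Int.ofNat 2],
  [Int.ofNat 2, Int.ofNat 0, Int.ofNat 2, Int.ofNat 0, Int.ofNat 0, Int.ofNat 0, Int.ofNat 0, Int.ofNat 0, Int.negSucc 1, Int.ofNat 0, Int.ofNat 0, Int.ofNat 0, Int.ofNat 0, Int.ofNat 0, Int.negSucc 1, Int.ofNat 0, Int.ofNat 0, Int.ofNat 2, Int.negSucc 1, Int.negSucc 1, Int.ofNat 0, Int.ofNat 2, Int.ofNat 0, Int.ofNat 0],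
  [Int.ofNat 2, Int.ofNat 0, Int.negSucc 1, Int.ofNat 0, Int.ofNat 0, Int.ofNat 0, Int.ofNat 0, Int.ofNat 0, Int.negSucc 1, Int.ofNat 0, Int.ofNat 0, Int.ofNat 0, Int.ofNat 0, Int.ofNat 0, Int.negSucc 1, Int.ofNat 0, Int.ofNat 0, Int.ofNat 2, Int.ofNat 2, Int.negSucc 1, Int.ofNat 0, Int.ofNat 2, Int.ofNat 0, Int.ofNat 0],
  [Int.ofNat 0, Int.ofNat 0, Int.ofNat 0, Int.negSucc 1, Int.negSucc 1, Int.ofNat 0, Int.ofNat 2, Int.ofNat 0, Int.ofNat 0, Int.ofNat 0, Int.ofNat 0, Int.ofNat 0, Int.ofNat 0, Int.ofNat 0, Int.ofNat 2, Int.ofNat 2, Int.negSucc 1, Int.ofNat 0, Int.ofNat 0, Int.negSucc 1, Int.ofNat 2, Int.ofNat 0, Int.ofNat 0, Int.ofNat 0],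
  [Int.ofNat 0, Int.ofNat 0, Int.ofNat 0, Int.ofNat 2, Int.ofNat 0, Int.ofNat 0, Int.negSucc 1, Int.ofNat 0, Int.ofNat 2, Int.ofNat 0, Int.negSucc 1, Int.ofNat 0, Int.ofNat 0, Int.ofNat 0, Int.ofNat 0, Int.negSucc 1, Int.ofNat 0, Int.negSucc 1, Int.ofNat 2, Int.ofNat 2, Int.ofNat 0, Int.ofNat 0, Int.ofNat 0, Int.ofNat 0],
  [Int.ofNat 0, Int.ofNat 0, Int.ofNat 0, Int.ofNat 2, Int.ofNat 0, Int.ofNat 0, Int.negSucc 1, Int.ofNat 0, Int.ofNat 2, Int.ofNat 0, Int.ofNat 2, Int.ofNat 0, Int.ofNat 0, Int.ofNat 0, Int.ofNat 0, Int.negSucc 1, Int.ofNat 0, Int.negSucc 1, Int.negSucc 1, Int.ofNat 2, Int.ofNat 0, Int.ofNat 0, Int.ofNat 0, Int.ofNat 0],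
  [Int.ofNat 0, Int.ofNat 0, Int.ofNat 0, Int.ofNat 0, Int.ofNat 2, Int.ofNat 0, Int.ofNat 0, Int.negSucc 1, Int.ofNat 0, Int.ofNat 2, Int.ofNat 0, Int.ofNat 2, Int.ofNat 0, Int.ofNat 0, Int.ofNat 0, Int.ofNat 0, Int.negSucc 1, Int.ofNat 0, Int.negSucc 1, Int.negSucc 1, Int.ofNat 2, Int.ofNat 0, Int.ofNat 0, Int.ofNat 0],
  [Int.ofNat 0, Int.ofNat 0, Int.ofNat 0, Int.ofNat 0, Int.ofNat 2, Int.ofNat 0, Int.ofNat 2, Int.ofNat 0, Int.ofNat 0, Int.ofNat 0, Int.negSucc 1, Int.ofNat 2, Int.ofNat 0, Int.ofNat 0, Int.ofNat 0, Int.negSucc 1, Int.negSucc 1, Int.ofNat 0, Int.negSucc 1, Int.ofNat 0, Int.ofNat 0, Int.ofNat 2, Int.ofNat 0, Int.ofNat 0],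
  [Int.ofNat 0, Int.ofNat 2, Int.ofNat 0, Int.ofNat 2, Int.ofNat 0, Int.ofNat 0, Int.ofNat 0, Int.negSucc 1, Int.ofNat 2, Int.ofNat 0, Int.ofNat 0, Int.ofNat 0, Int.negSucc 1, Int.negSucc 1, Int.ofNat 0, Int.negSucc 1, Int.ofNat 0, Int.ofNat 0, Int.ofNat 2, Int.ofNat 0, Int.ofNat 0, Int.ofNat 0, Int.ofNat 0, Int.ofNat 0],
  [Int.ofNat 1, Int.negSucc 0, Int.ofNat 1, Int.ofNat 1, Int.ofNat 1, Int.negSucc 0, Int.ofNat 1, Int.negSucc 0, Int.ofNat 1, Int.ofNat 1, Int.ofNat 1, Int.negSucc 0, Int.negSucc 2, Int.negSucc 0, Int.negSucc 0, Int.negSucc 0, Int.ofNat 1, Int.negSucc 0, Int.ofNat 1, Int.ofNat 1, Int.ofNat 1, Int.ofNat 1, Int.ofNat 1, Int.ofNat 1],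
  [Int.ofNat 1, Int.ofNat 1, Int.ofNat 1, Int.ofNat 1, Int.ofNat 1, Int.negSucc 0, Int.ofNat 1, Int.ofNat 1, Int.negSucc 2, Int.negSucc 0, Int.ofNat 1, Int.negSucc 0, Int.ofNat 1, Int.ofNat 1, Int.ofNat 1, Int.negSucc 0, Int.ofNat 1, Int.negSucc 0, Int.negSucc 0, Int.negSucc 0, Int.ofNat 1, Int.negSucc 0, Int.ofNat 1, Int.ofNat 1],
  [Int.ofNat 1, Int.ofNat 1, Int.ofNat 1, Int.ofNat 1, Int.negSucc 0, Int.negSucc 0, Int.ofNat 1, Int.ofNat 1, Int.negSucc 0, Int.negSucc 0, Int.ofNat 1, Int.ofNat 1, Int.ofNat 3, Int.negSucc 0, Int.ofNat 1, Int.negSucc 0, Int.negSucc 0, Int.negSucc 0, Int.ofNat 1, Int.negSucc 0, Int.ofNat 1, Int.negSucc 0, Int.negSucc 0, Int.ofNat 1],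
  [Int.ofNat 1, Int.ofNat 1, Int.negSucc 0, Int.ofNat 1, Int.negSucc 0, Int.ofNat 1, Int.negSucc 0, Int.ofNat 1, Int.negSucc 0, Int.ofNat 1, Int.negSucc 0, Int.ofNat 1, Int.ofNat 3, Int.negSucc 0, Int.ofNat 1, Int.ofNat 1, Int.negSucc 0, Int.negSucc 0, Int.negSucc 0, Int.negSucc 0, Int.ofNat 1, Int.negSucc 0, Int.ofNat 1, Int.ofNat 1],
  [Int.ofNat 1, Int.negSucc 0, Int.negSucc 0, Int.negSucc 0, Int.ofNat 1, Int.negSucc 0, Int.ofNat 1, Int.ofNat 1, Int.negSucc 0, Int.ofNat 1, Int.ofNat 1, Int.ofNat 1, Int.negSucc 0, Int.ofNat 3, Int.ofNat 1, Int.negSucc 0, Int.ofNat 1, Int.ofNat 1, Int.ofNat 1, Int.negSucc 0, Int.negSucc 0, Int.negSucc 0, Int.negSucc 0, Int.ofNat 1],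
  [Int.ofNat 1, Int.negSucc 0, Int.ofNat 1, Int.negSucc 0, Int.ofNat 1, Int.ofNat 1, Int.negSucc 0, Int.ofNat 1, Int.negSucc 0, Int.negSucc 0, Int.negSucc 0, Int.ofNat 1, Int.negSucc 0, Int.ofNat 3, Int.ofNat 1, Int.ofNat 1, Int.ofNat 1, Int.ofNat 1, Int.negSucc 0, Int.negSucc 0, Int.negSucc 0, Int.negSucc 0, Int.ofNat 1, Int.ofNat 1],
  [Int.ofNat 0, Int.ofNat 2, Int.ofNat 0, Int.negSucc 1, Int.negSucc 1, Int.ofNat 0, Int.ofNat 0, Int.ofNat 2, Int.ofNat 0, Int.ofNat 0, Int.ofNat 0, Int.ofNat 2, Int.ofNat 0, Int.ofNat 0, Int.ofNat 0, Int.ofNat 2, Int.negSucc 1, Int.ofNat 0, Int.ofNat 0, Int.ofNat 0, Int.ofNat 0, Int.ofNat 0, Int.negSucc 1, Int.ofNat 0],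
  [Int.ofNat 0, Int.ofNat 0, Int.ofNat 0, Int.negSucc 1, Int.ofNat 0, Int.ofNat 0, Int.ofNat 2, Int.ofNat 0, Int.negSucc 1, Int.ofNat 0, Int.ofNat 2, Int.ofNat 0, Int.ofNat 0, Int.ofNat 0, Int.ofNat 0, Int.ofNat 2, Int.ofNat 0, Int.ofNat 2, Int.negSucc 1, Int.negSucc 1, Int.ofNat 0, Int.ofNat 0, Int.ofNat 0, Int.ofNat 0],
  [Int.ofNat 0, Int.ofNat 0, Int.ofNat 0, Int.negSucc 1, Int.ofNat 0, Int.ofNat 0, Int.ofNat 2, Int.ofNat 0, Int.ofNat 0, Int.negSucc 1, Int.ofNat 0, Int.ofNat 2, Int.ofNat 2, Int.ofNat 0, Int.ofNat 0, Int.ofNat 0, Int.ofNat 0, Int.ofNat 2, Int.ofNat 0, Int.negSucc 1, Int.negSucc 1, Int.ofNat 0, Int.ofNat 0, Int.ofNat 0],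
  [Int.negSucc 1, Int.ofNat 0, Int.ofNat 0, Int.ofNat 0, Int.ofNat 0, Int.ofNat 0, Int.negSucc 1, Int.ofNat 0, Int.ofNat 0, Int.ofNat 2, Int.ofNat 0, Int.ofNat 0, Int.negSucc 1, Int.ofNat 0, Int.ofNat 2, Int.ofNat 2, Int.ofNat 0, Int.ofNat 0, Int.ofNat 0, Int.ofNat 0, Int.ofNat 2, Int.ofNat 0, Int.negSucc 1, Int.ofNat 0],
  [Int.ofNat 1, Int.negSucc 0, Int.negSucc 0, Int.negSucc 0, Int.ofNat 1, Int.negSucc 0, Int.negSucc 0, Int.ofNat 1, Int.ofNat 1, Int.negSucc 0, Int.negSucc 2, Int.ofNat 1, Int.negSucc 0, Int.ofNat 1, Int.ofNat 1, Int.negSucc 0, Int.ofNat 1, Int.negSucc 0, Int.ofNat 1, Int.ofNat 1, Int.negSucc 0, Int.ofNat 1, Int.negSucc 0, Int.negSucc 0],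
  [Int.negSucc 0, Int.negSucc 0, Int.negSucc 0, Int.ofNat 1, Int.negSucc 0, Int.negSucc 0, Int.ofNat 1, Int.ofNat 1, Int.negSucc 0, Int.negSucc 2, Int.ofNat 1, Int.negSucc 0, Int.ofNat 1, Int.ofNat 1, Int.negSucc 0, Int.ofNat 1, Int.negSucc 0, Int.ofNat 1, Int.ofNat 1, Int.negSucc 0, Int.ofNat 1, Int.negSucc 0, Int.ofNat 1, Int.negSucc 0],
  [Int.ofNat 1, Int.negSucc 0, Int.ofNat 1, Int.ofNat 1, Int.negSucc 0, Int.negSucc 0, Int.ofNat 1, Int.negSucc 0, Int.negSucc 0, Int.ofNat 3, Int.negSucc 0, Int.ofNat 1, Int.ofNat 1, Int.ofNat 1, Int.negSucc 0, Int.ofNat 1, Int.negSucc 0, Int.ofNat 1, Int.negSucc 0, Int.negSucc 0, Int.ofNat 1, Int.ofNat 1, Int.ofNat 1, Int.negSucc 0],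
  [Int.negSucc 0, Int.ofNat 1, Int.negSucc 0, Int.negSucc 0, Int.ofNat 1, Int.negSucc 0, Int.negSucc 0, Int.negSucc 0, Int.ofNat 1, Int.negSucc 2, Int.negSucc 0, Int.ofNat 1, Int.negSucc 0, Int.negSucc 0, Int.negSucc 0, Int.ofNat 1, Int.ofNat 1, Int.ofNat 1, Int.ofNat 1, Int.negSucc 0, Int.ofNat 1, Int.ofNat 1, Int.ofNat 1, Int.negSucc 0],
  [Int.negSucc 0, Int.negSucc 0, Int.ofNat 1, Int.negSucc 0, Int.ofNat 1, Int.negSucc 0, Int.ofNat 1, Int.ofNat 1, Int.negSucc 2, Int.ofNat 1, Int.ofNat 1, Int.negSucc 0, Int.negSucc 0, Int.ofNat 1, Int.negSucc 0, Int.ofNat 1, Int.negSucc 0, Int.ofNat 1, Int.negSucc 0, Int.ofNat 1, Int.negSucc 0, Int.negSucc 0, Int.ofNat 1, Int.negSucc 0],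
  [Int.ofNat 1, Int.negSucc 0, Int.negSucc 0, Int.negSucc 0, Int.ofNat 1, Int.negSucc 0, Int.ofNat 1, Int.negSucc 0, Int.negSucc 2, Int.negSucc 0, Int.negSucc 0, Int.ofNat 1, Int.negSucc 0, Int.ofNat 1, Int.negSucc 0, Int.ofNat 1, Int.negSucc 0, Int.ofNat 1, Int.ofNat 1, Int.ofNat 1, Int.negSucc 0, Int.ofNat 1, Int.ofNat 1, Int.negSucc 0],
  [Int.ofNat 1, Int.ofNat 1, Int.negSucc 0, Int.negSucc 0, Int.negSucc 0, Int.ofNat 1, Int.negSucc 0, Int.ofNat 1, Int.negSucc 0, Int.negSucc 2, Int.negSucc 0, Int.negSucc 0, Int.ofNat 1, Int.negSucc 0, Int.ofNat 1, Int.negSucc 0, Int.ofNat 1, Int.negSucc 0, Int.ofNat 1, Int.ofNat 1, Int.ofNat 1, Int.negSucc 0, Int.ofNat 1, Int.negSucc 0],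
  [Int.negSucc 0, Int.negSucc 0, Int.ofNat 1, Int.negSucc 0, Int.negSucc 0, Int.ofNat 1, Int.negSucc 0, Int.ofNat 1, Int.negSucc 0, Int.negSucc 0, Int.ofNat 1, Int.negSucc 0, Int.ofNat 1, Int.negSucc 0, Int.ofNat 1, Int.ofNat 1, Int.ofNat 1, Int.negSucc 0, Int.ofNat 1, Int.ofNat 1, Int.ofNat 3, Int.negSucc 0, Int.ofNat 1, Int.ofNat 1],
  [Int.negSucc 0, Int.negSucc 0, Int.ofNat 1, Int.negSucc 0, Int.ofNat 1, Int.negSucc 0, Int.negSucc 0, Int.ofNat 1, Int.negSucc 0, Int.ofNat 1, Int.negSucc 0, Int.ofNat 1, Int.ofNat 1, Int.ofNat 1, Int.negSucc 0, Int.ofNat 1, Int.ofNat 1, Int.ofNat 3, Int.negSucc 0, Int.ofNat 1, Int.negSucc 0, Int.negSucc 0, Int.ofNat 1, Int.ofNat 1],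
  [Int.ofNat 1, Int.ofNat 1, Int.negSucc 0, Int.negSucc 0, Int.negSucc 0, Int.negSucc 0, Int.negSucc 0, Int.ofNat 1, Int.negSucc 0, Int.ofNat 1, Int.negSucc 0, Int.ofNat 1, Int.ofNat 1, Int.negSucc 0, Int.negSucc 0, Int.ofNat 1, Int.negSucc 0, Int.ofNat 3, Int.negSucc 0, Int.ofNat 1, Int.negSucc 0, Int.negSucc 0, Int.negSucc 0, Int.negSucc 0],
  [Int.ofNat 1, Int.negSucc 0, Int.negSucc 0, Int.negSucc 0, Int.negSucc 0, Int.ofNat 1, Int.negSucc 0, Int.negSucc 0, Int.ofNat 1, Int.negSucc 0, Int.negSucc 0, Int.ofNat 3, Int.ofNat 1, Int.negSucc 0, Int.negSucc 0, Int.ofNat 1, Int.negSucc 0, Int.negSucc 0, Int.ofNat 1, Int.ofNat 1, Int.negSucc 0, Int.negSucc 0, Int.ofNat 1, Int.negSucc 0],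
  [Int.negSucc 1, Int.ofNat 0, Int.ofNat 0, Int.ofNat 0, Int.ofNat 0, Int.ofNat 2, Int.ofNat 0, Int.ofNat 0, Int.negSucc 1, Int.ofNat 0, Int.ofNat 0, Int.ofNat 0, Int.negSucc 1, Int.ofNat 0, Int.ofNat 0, Int.ofNat 2, Int.ofNat 0, Int.ofNat 0, Int.negSucc 1, Int.ofNat 2, Int.ofNat 0, Int.ofNat 0, Int.ofNat 2, Int.ofNat 0],
  [Int.negSucc 1, Int.ofNat 0, Int.ofNat 0, Int.ofNat 0, Int.ofNat 0, Int.negSucc 1, Int.ofNat 0, Int.ofNat 0, Int.negSucc 1, Int.ofNat 0, Int.ofNat 0, Int.ofNat 0, Int.negSucc 1, Int.ofNat 0, Int.ofNat 0, Int.negSucc 1, Int.ofNat 0, Int.ofNat 0, Int.ofNat 2, Int.ofNat 2, Int.ofNat 0, Int.ofNat 0, Int.negSucc 1, Int.ofNat 0],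
  [Int.ofNat 0, Int.ofNat 0, Int.ofNat 0, Int.negSucc 1, Int.ofNat 0, Int.ofNat 0, Int.ofNat 0, Int.ofNat 0, Int.negSucc 1, Int.ofNat 0, Int.ofNat 0, Int.ofNat 0, Int.negSucc 1, Int.ofNat 0, Int.ofNat 0, Int.ofNat 2, Int.ofNat 2, Int.negSucc 1, Int.ofNat 0, Int.ofNat 0, Int.negSucc 1, Int.ofNat 0, Int.negSucc 1, Int.ofNat 0],
  [Int.ofNat 0, Int.negSucc 1, Int.ofNat 0, Int.ofNat 2, Int.negSucc 1, Int.ofNat 0, Int.ofNat 0, Int.ofNat 0, Int.negSucc 1, Int.ofNat 0, Int.ofNat 2, Int.ofNat 0, Int.ofNat 0, Int.ofNat 0, Int.ofNat 0, Int.negSucc 1, Int.ofNat 0, Int.ofNat 0, Int.ofNat 0, Int.ofNat 0, Int.negSucc 1, Int.negSucc 1, Int.ofNat 0, Int.ofNat 0],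
  [Int.ofNat 0, Int.negSucc 1, Int.ofNat 0, Int.ofNat 2, Int.negSucc 1, Int.ofNat 0, Int.ofNat 0, Int.ofNat 0, Int.negSucc 1, Int.ofNat 0, Int.negSucc 1, Int.ofNat 0, Int.ofNat 0, Int.ofNat 0, Int.ofNat 0, Int.negSucc 1, Int.ofNat 0, Int.ofNat 0, Int.ofNat 0, Int.ofNat 0, Int.negSucc 1, Int.ofNat 2, Int.ofNat 0, Int.ofNat 0],
  [Int.ofNat 0, Int.ofNat 0, Int.negSucc 1, Int.ofNat 0, Int.ofNat 2, Int.negSucc 1, Int.ofNat 0, Int.ofNat 0, Int.ofNat 0, Int.negSucc 1, Int.ofNat 0, Int.negSucc 1, Int.ofNat 0, Int.ofNat 0, Int.ofNat 0, Int.ofNat 0, Int.negSucc 1, Int.ofNat 0, Int.ofNat 0, Int.ofNat 0, Int.ofNat 0, Int.negSucc 1, Int.ofNat 2, Int.ofNat 0],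
  [Int.negSucc 0, Int.negSucc 0, Int.ofNat 1, Int.ofNat 1, Int.ofNat 1, Int.negSucc 0, Int.ofNat 1, Int.ofNat 1, Int.ofNat 1, Int.negSucc 0, Int.ofNat 1, Int.negSucc 0, Int.ofNat 1, Int.negSucc 0, Int.ofNat 1, Int.ofNat 1, Int.negSucc 2, Int.ofNat 1, Int.ofNat 1, Int.ofNat 1, Int.ofNat 1, Int.negSucc 0, Int.ofNat 1, Int.negSucc 0],
  [Int.ofNat 1, Int.ofNat 1, Int.negSucc 0, Int.ofNat 1, Int.ofNat 1, Int.ofNat 1, Int.negSucc 0, Int.ofNat 1, Int.negSucc 0, Int.ofNat 1, Int.negSucc 0, Int.ofNat 1, Int.ofNat 1, Int.negSucc 2, Int.ofNat 1, Int.ofNat 1, Int.ofNat 1, Int.ofNat 1, Int.negSucc 0, Int.ofNat 1, Int.negSucc 0, Int.negSucc 0, Int.ofNat 1, Int.negSucc 0],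
  [Int.negSucc 0, Int.negSucc 0, Int.ofNat 1, Int.negSucc 0, Int.ofNat 1, Int.negSucc 0, Int.negSucc 0, Int.ofNat 1, Int.negSucc 0, Int.ofNat 1, Int.negSucc 0, Int.ofNat 1, Int.ofNat 1, Int.negSucc 2, Int.negSucc 0, Int.ofNat 1, Int.ofNat 1, Int.negSucc 0, Int.negSucc 0, Int.ofNat 1, Int.negSucc 0, Int.negSucc 0, Int.ofNat 1, Int.ofNat 1],
  [Int.negSucc 0, Int.negSucc 0, Int.ofNat 1, Int.negSucc 0, Int.negSucc 0, Int.ofNat 1, Int.ofNat 1, Int.negSucc 0, Int.ofNat 1, Int.negSucc 2, Int.negSucc 0, Int.negSucc 0, Int.ofNat 1, Int.ofNat 1, Int.ofNat 1, Int.ofNat 1, Int.negSucc 0, Int.negSucc 0, Int.negSucc 0, Int.ofNat 1, Int.negSucc 0, Int.negSucc 0, Int.ofNat 1, Int.ofNat 1],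
  [Int.ofNat 1, Int.ofNat 1, Int.negSucc 0, Int.negSucc 0, Int.negSucc 0, Int.ofNat 1, Int.ofNat 1, Int.negSucc 0, Int.ofNat 1, Int.negSucc 0, Int.ofNat 1, Int.negSucc 0, Int.ofNat 1, Int.ofNat 1, Int.ofNat 1, Int.ofNat 3, Int.negSucc 0, Int.negSucc 0, Int.negSucc 0, Int.ofNat 1, Int.ofNat 1, Int.negSucc 0, Int.ofNat 1, Int.negSucc 0],
  [Int.ofNat 1, Int.ofNat 1, Int.ofNat 1, Int.negSucc 0, Int.negSucc 0, Int.negSucc 0, Int.negSucc 0, Int.negSucc 0, Int.ofNat 1, Int.ofNat 1, Int.negSucc 0, Int.negSucc 0, Int.ofNat 1, Int.ofNat 1, Int.ofNat 1, Int.negSucc 2, Int.negSucc 0, Int.negSucc 0, Int.ofNat 1, Int.ofNat 1, Int.ofNat 1, Int.negSucc 0, Int.negSucc 0, Int.negSucc 0],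
  [Int.ofNat 1, Int.negSucc 0, Int.ofNat 1, Int.negSucc 0, Int.ofNat 1, Int.ofNat 1, Int.negSucc 2, Int.ofNat 1, Int.ofNat 1, Int.negSucc 0, Int.negSucc 0, Int.ofNat 1, Int.negSucc 0, Int.ofNat 1, Int.negSucc 0, Int.ofNat 1, Int.negSucc 0, Int.ofNat 1, Int.negSucc 0, Int.negSucc 0, Int.ofNat 1, Int.negSucc 0, Int.negSucc 0, Int.negSucc 0],
  [Int.ofNat 1, Int.negSucc 0, Int.negSucc 0, Int.negSucc 0, Int.ofNat 1, Int.negSucc 0, Int.ofNat 3, Int.ofNat 1, Int.ofNat 1, Int.ofNat 1, Int.ofNat 1, Int.ofNat 1, Int.negSucc 0, Int.ofNat 1, Int.negSucc 0, Int.negSucc 0, Int.negSucc 0, Int.ofNat 1, Int.ofNat 1, Int.negSucc 0, Int.ofNat 1, Int.negSucc 0, Int.ofNat 1, Int.negSucc 0],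
  [Int.negSucc 1, Int.ofNat 0, Int.ofNat 0, Int.ofNat 0, Int.ofNat 0, Int.ofNat 0, Int.ofNat 2, Int.ofNat 0, Int.ofNat 0, Int.ofNat 0, Int.ofNat 0, Int.ofNat 0, Int.negSucc 1, Int.ofNat 0, Int.ofNat 0, Int.negSucc 1, Int.negSucc 1, Int.ofNat 2, Int.ofNat 0, Int.negSucc 1, Int.ofNat 0, Int.negSucc 1, Int.ofNat 0, Int.ofNat 0],
  [Int.negSucc 1, Int.ofNat 0, Int.ofNat 2, Int.ofNat 0, Int.ofNat 0, Int.negSucc 1, Int.ofNat 0, Int.ofNat 0, Int.negSucc 1, Int.negSucc 1, Int.ofNat 0, Int.negSucc 1, Int.ofNat 0, Int.ofNat 0, Int.ofNat 2, Int.negSucc 1, Int.ofNat 0, Int.ofNat 0, Int.ofNat 0, Int.ofNat 0, Int.ofNat 0, Int.ofNat 0, Int.ofNat 0, Int.ofNat 0],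
  [Int.ofNat 2, Int.ofNat 0, Int.negSucc 1, Int.ofNat 0, Int.ofNat 0, Int.negSucc 1, Int.ofNat 0, Int.ofNat 0, Int.ofNat 0, Int.ofNat 0, Int.ofNat 2, Int.ofNat 0, Int.ofNat 2, Int.ofNat 0, Int.ofNat 2, Int.ofNat 0, Int.ofNat 0, Int.ofNat 0, Int.ofNat 2, Int.ofNat 0, Int.ofNat 2, Int.ofNat 0, Int.ofNat 0, Int.ofNat 0],
  [Int.ofNat 2, Int.ofNat 0, Int.ofNat 0, Int.ofNat 2, Int.ofNat 0, Int.negSucc 1, Int.ofNat 0, Int.ofNat 0, Int.negSucc 1, Int.ofNat 0, Int.ofNat 0, Int.ofNat 0, Int.ofNat 0, Int.ofNat 2, Int.ofNat 0, Int.ofNat 2, Int.ofNat 0, Int.ofNat 2, Int.ofNat 0, Int.ofNat 0, Int.ofNat 0, Int.ofNat 2, Int.ofNat 0, Int.ofNat 0],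
  [Int.negSucc 0, Int.ofNat 1, Int.ofNat 1, Int.ofNat 1, Int.negSucc 0, Int.negSucc 2, Int.negSucc 0, Int.negSucc 0, Int.negSucc 0, Int.negSucc 0, Int.negSucc 0, Int.ofNat 1, Int.ofNat 1, Int.ofNat 1, Int.negSucc 0, Int.ofNat 1, Int.negSucc 0, Int.ofNat 1, Int.ofNat 1, Int.negSucc 0, Int.negSucc 0, Int.ofNat 1, Int.negSucc 0, Int.ofNat 1],
  [Int.ofNat 1, Int.ofNat 1, Int.ofNat 1, Int.negSucc 0, Int.negSucc 2, Int.negSucc 0, Int.negSucc 0, Int.negSucc 0, Int.negSucc 0, Int.negSucc 0, Int.ofNat 1, Int.ofNat 1, Int.ofNat 1, Int.negSucc 0, Int.ofNat 1, Int.negSucc 0, Int.ofNat 1, Int.ofNat 1, Int.negSucc 0, Int.negSucc 0, Int.ofNat 1, Int.negSucc 0, Int.negSucc 0, Int.ofNat 1],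
  [Int.negSucc 0, Int.ofNat 1, Int.negSucc 0, Int.negSucc 0, Int.negSucc 2, Int.negSucc 0, Int.negSucc 0, Int.ofNat 1, Int.negSucc 0, Int.ofNat 1, Int.negSucc 0, Int.negSucc 0, Int.ofNat 1, Int.negSucc 0, Int.ofNat 1, Int.negSucc 0, Int.ofNat 1, Int.ofNat 1, Int.ofNat 1, Int.negSucc 0, Int.ofNat 1, Int.ofNat 1, Int.negSucc 0, Int.ofNat 1],
  [Int.ofNat 1, Int.negSucc 0, Int.ofNat 1, Int.ofNat 1, Int.ofNat 3, Int.negSucc 0, Int.ofNat 1, Int.ofNat 1, Int.ofNat 1, Int.negSucc 0, Int.negSucc 0, Int.negSucc 0, Int.negSucc 0, Int.ofNat 1, Int.ofNat 1, Int.negSucc 0, Int.negSucc 0, Int.ofNat 1, Int.negSucc 0, Int.negSucc 0, Int.ofNat 1, Int.ofNat 1, Int.negSucc 0, Int.ofNat 1],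
  [Int.ofNat 1, Int.ofNat 1, Int.negSucc 0, Int.ofNat 1, Int.negSucc 0, Int.negSucc 0, Int.ofNat 3, Int.ofNat 1, Int.negSucc 0, Int.negSucc 0, Int.ofNat 1, Int.ofNat 1, Int.ofNat 1, Int.ofNat 1, Int.negSucc 0, Int.negSucc 0, Int.negSucc 0, Int.negSucc 0, Int.ofNat 1, Int.ofNat 1, Int.negSucc 0, Int.ofNat 1, Int.negSucc 0, Int.ofNat 1],
  [Int.negSucc 0, Int.ofNat 1, Int.ofNat 1, Int.ofNat 1, Int.negSucc 0, Int.negSucc 0, Int.ofNat 3, Int.negSucc 0, Int.negSucc 0, Int.ofNat 1, Int.negSucc 0, Int.negSucc 0, Int.ofNat 1, Int.ofNat 1, Int.negSucc 0, Int.negSucc 0, Int.negSucc 0, Int.negSucc 0, Int.negSucc 0, Int.ofNat 1, Int.negSucc 0, Int.negSucc 0, Int.negSucc 0, Int.ofNat 1],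
  [Int.negSucc 0, Int.negSucc 0, Int.ofNat 1, Int.ofNat 1, Int.ofNat 1, Int.negSucc 0, Int.negSucc 0, Int.ofNat 3, Int.negSucc 0, Int.negSucc 0, Int.ofNat 1, Int.negSucc 0, Int.negSucc 0, Int.ofNat 1, Int.ofNat 1, Int.negSucc 0, Int.negSucc 0, Int.negSucc 0, Int.negSucc 0, Int.negSucc 0, Int.ofNat 1, Int.negSucc 0, Int.negSucc 0, Int.ofNat 1],
  [Int.ofNat 1, Int.ofNat 1, Int.negSucc 0, Int.ofNat 1, Int.ofNat 1, Int.negSucc 0, Int.negSucc 0, Int.ofNat 3, Int.ofNat 1, Int.negSucc 0, Int.ofNat 1, Int.ofNat 1, Int.ofNat 1, Int.ofNat 1, Int.ofNat 1, Int.negSucc 0, Int.negSucc 0, Int.negSucc 0, Int.ofNat 1, Int.negSucc 0, Int.ofNat 1, Int.negSucc 0, Int.negSucc 0, Int.negSucc 0],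
  [Int.ofNat 1, Int.ofNat 1, Int.negSucc 0, Int.negSucc 0, Int.ofNat 3, Int.ofNat 1, Int.negSucc 0, Int.ofNat 1, Int.ofNat 1, Int.ofNat 1, Int.ofNat 1, Int.ofNat 1, Int.negSucc 0, Int.negSucc 0, Int.negSucc 0, Int.ofNat 1, Int.negSucc 0, Int.ofNat 1, Int.negSucc 0, Int.negSucc 0, Int.ofNat 1, Int.ofNat 1, Int.negSucc 0, Int.negSucc 0],
  [Int.negSucc 0, Int.negSucc 0, Int.ofNat 1, Int.negSucc 0, Int.ofNat 3, Int.ofNat 1, Int.negSucc 0, Int.ofNat 1, Int.ofNat 1, Int.negSucc 0, Int.negSucc 0, Int.ofNat 1, Int.negSucc 0, Int.negSucc 0, Int.negSucc 0, Int.negSucc 0, Int.negSucc 0, Int.ofNat 1, Int.negSucc 0, Int.negSucc 0, Int.negSucc 0, Int.ofNat 1, Int.negSucc 0, Int.ofNat 1],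
  [Int.negSucc 0, Int.negSucc 0, Int.ofNat 3, Int.negSucc 0, Int.negSucc 0, Int.ofNat 1, Int.ofNat 1, Int.negSucc 0, Int.negSucc 0, Int.negSucc 0, Int.negSucc 0, Int.ofNat 1, Int.negSucc 0, Int.negSucc 0, Int.negSucc 0, Int.negSucc 0, Int.ofNat 1, Int.negSucc 0, Int.negSucc 0, Int.ofNat 1, Int.ofNat 1, Int.ofNat 1, Int.negSucc 0, Int.ofNat 1],
  [Int.ofNat 2, Int.ofNat 2, Int.negSucc 1, Int.ofNat 0, Int.ofNat 0, Int.ofNat 2, Int.ofNat 0, Int.negSucc 1, Int.ofNat 0, Int.ofNat 0, Int.ofNat 0, Int.ofNat 2, Int.ofNat 0, Int.ofNat 0, Int.ofNat 0, Int.ofNat 0, Int.ofNat 2, Int.ofNat 0, Int.ofNat 0, Int.ofNat 0, Int.ofNat 2, Int.ofNat 0, Int.ofNat 0, Int.ofNat 0],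
  [Int.ofNat 2, Int.ofNat 2, Int.ofNat 2, Int.ofNat 0, Int.ofNat 0, Int.negSucc 1, Int.ofNat 0, Int.negSucc 1, Int.ofNat 0, Int.ofNat 0, Int.ofNat 0, Int.ofNat 2, Int.ofNat 0, Int.ofNat 0, Int.ofNat 0, Int.ofNat 0, Int.ofNat 2, Int.ofNat 0, Int.ofNat 0, Int.ofNat 0, Int.ofNat 2, Int.ofNat 0, Int.ofNat 0, Int.ofNat 0],
  [Int.ofNat 0, Int.ofNat 2, Int.ofNat 2, Int.ofNat 0, Int.ofNat 0, Int.ofNat 0, Int.ofNat 0, Int.ofNat 0, Int.negSucc 1, Int.ofNat 2, Int.ofNat 0, Int.negSucc 1, Int.ofNat 0, Int.ofNat 0, Int.ofNat 0, Int.ofNat 0, Int.ofNat 0, Int.ofNat 0, Int.ofNat 0, Int.ofNat 2, Int.ofNat 2, Int.ofNat 2, Int.ofNat 0, Int.ofNat 0],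
  [Int.ofNat 0, Int.ofNat 0, Int.negSucc 1, Int.ofNat 0, Int.ofNat 0, Int.ofNat 2, Int.ofNat 2, Int.ofNat 0, Int.ofNat 2, Int.ofNat 0, Int.ofNat 0, Int.ofNat 2, Int.ofNat 2, Int.ofNat 0, Int.ofNat 0, Int.ofNat 0, Int.ofNat 0, Int.ofNat 0, Int.ofNat 0, Int.ofNat 0, Int.negSucc 1, Int.ofNat 0, Int.ofNat 2, Int.ofNat 0],
  [Int.ofNat 0, Int.ofNat 0, Int.ofNat 2, Int.ofNat 0, Int.ofNat 0, Int.ofNat 2, Int.ofNat 2, Int.ofNat 0, Int.ofNat 2, Int.ofNat 0, Int.ofNat 0, Int.negSucc 1, Int.ofNat 2, Int.ofNat 0, Int.ofNat 0, Int.ofNat 0, Int.ofNat 0, Int.ofNat 0, Int.ofNat 0, Int.ofNat 0, Int.negSucc 1, Int.ofNat 0, Int.ofNat 2, Int.ofNat 0],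
  [Int.ofNat 2, Int.ofNat 0, Int.ofNat 0, Int.ofNat 2, Int.ofNat 0, Int.ofNat 0, Int.ofNat 2, Int.ofNat 2, Int.ofNat 0, Int.ofNat 2, Int.ofNat 0, Int.ofNat 0, Int.negSucc 1, Int.ofNat 2, Int.ofNat 0, Int.ofNat 0, Int.ofNat 0, Int.ofNat 0, Int.ofNat 0, Int.ofNat 0, Int.ofNat 0, Int.negSucc 1, Int.ofNat 0, Int.ofNat 0],
  [Int.negSucc 0, Int.ofNat 1, Int.ofNat 1, Int.ofNat 1, Int.negSucc 0, Int.negSucc 0, Int.ofNat 1, Int.ofNat 1, Int.ofNat 1, Int.ofNat 1, Int.negSucc 0, Int.ofNat 1, Int.negSucc 0, Int.ofNat 1, Int.negSucc 0, Int.negSucc 0, Int.negSucc 0, Int.negSucc 0, Int.ofNat 1, Int.negSucc 0, Int.negSucc 0, Int.negSucc 2, Int.negSucc 0, Int.ofNat 1],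
  [Int.ofNat 1, Int.negSucc 0, Int.negSucc 0, Int.ofNat 1, Int.ofNat 1, Int.ofNat 1, Int.ofNat 1, Int.negSucc 0, Int.ofNat 1, Int.negSucc 0, Int.ofNat 1, Int.negSucc 0, Int.negSucc 0, Int.negSucc 0, Int.negSucc 0, Int.ofNat 1, Int.negSucc 0, Int.negSucc 0, Int.negSucc 2, Int.negSucc 0, Int.negSucc 0, Int.ofNat 1, Int.ofNat 1, Int.ofNat 1],
  [Int.negSucc 0, Int.ofNat 1, Int.ofNat 1, Int.ofNat 1, Int.ofNat 1, Int.ofNat 1, Int.ofNat 1, Int.negSucc 0, Int.ofNat 3, Int.negSucc 0, Int.ofNat 1, Int.ofNat 1, Int.ofNat 1, Int.negSucc 0, Int.negSucc 0, Int.ofNat 1, Int.negSucc 0, Int.negSucc 0, Int.negSucc 0, Int.negSucc 0, Int.negSucc 0, Int.ofNat 1, Int.ofNat 1, Int.negSucc 0],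
  [Int.negSucc 0, Int.ofNat 1, Int.ofNat 1, Int.ofNat 1, Int.negSucc 0, Int.negSucc 0, Int.ofNat 1, Int.ofNat 1, Int.ofNat 1, Int.negSucc 0, Int.negSucc 0, Int.negSucc 0, Int.negSucc 0, Int.negSucc 0, Int.ofNat 1, Int.ofNat 1, Int.ofNat 3, Int.negSucc 0, Int.ofNat 1, Int.ofNat 1, Int.ofNat 1, Int.ofNat 1, Int.negSucc 0, Int.negSucc 0],
  [Int.ofNat 1, Int.negSucc 0, Int.negSucc 0, Int.ofNat 1, Int.negSucc 0, Int.negSucc 0, Int.negSucc 0, Int.negSucc 0, Int.ofNat 1, Int.negSucc 0, Int.negSucc 0, Int.negSucc 0, Int.negSucc 0, Int.negSucc 0, Int.ofNat 1, Int.ofNat 1, Int.ofNat 3, Int.negSucc 0, Int.ofNat 1, Int.negSucc 0, Int.ofNat 1, Int.negSucc 0, Int.negSucc 0, Int.ofNat 1],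
  [Int.ofNat 1, Int.negSucc 0, Int.ofNat 1, Int.ofNat 1, Int.negSucc 0, Int.ofNat 1, Int.ofNat 1, Int.negSucc 0, Int.ofNat 1, Int.ofNat 1, Int.ofNat 1, Int.negSucc 0, Int.negSucc 0, Int.negSucc 0, Int.ofNat 1, Int.negSucc 0, Int.ofNat 3, Int.negSucc 0, Int.negSucc 0, Int.negSucc 0, Int.ofNat 1, Int.negSucc 0, Int.ofNat 1, Int.ofNat 1],
  [Int.ofNat 1, Int.ofNat 1, Int.ofNat 1, Int.negSucc 0, Int.ofNat 1, Int.negSucc 0, Int.negSucc 0, Int.ofNat 1, Int.negSucc 0, Int.negSucc 0, Int.ofNat 1, Int.ofNat 1, Int.ofNat 3, Int.negSucc 0, Int.negSucc 0, Int.ofNat 1, Int.ofNat 1, Int.negSucc 0, Int.ofNat 1, Int.ofNat 1, Int.negSucc 0, Int.negSucc 0, Int.negSucc 0, Int.ofNat 1],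
  [Int.ofNat 1, Int.ofNat 1, Int.negSucc 0, Int.negSucc 0, Int.ofNat 1, Int.ofNat 1, Int.ofNat 1, Int.ofNat 1, Int.negSucc 0, Int.ofNat 1, Int.negSucc 0, Int.ofNat 1, Int.ofNat 3, Int.negSucc 0, Int.negSucc 0, Int.negSucc 0, Int.ofNat 1, Int.negSucc 0, Int.negSucc 0, Int.ofNat 1, Int.negSucc 0, Int.negSucc 0, Int.ofNat 1, Int.ofNat 1],
  [Int.ofNat 0, Int.ofNat 0, Int.ofNat 2, Int.ofNat 0, Int.ofNat 0, Int.ofNat 2, Int.ofNat 0, Int.ofNat 0, Int.negSucc 1, Int.ofNat 2, Int.ofNat 0, Int.ofNat 0, Int.ofNat 2, Int.negSucc 1, Int.ofNat 0, Int.ofNat 0, Int.ofNat 0, Int.ofNat 0, Int.negSucc 1, Int.ofNat 0, Int.ofNat 0, Int.negSucc 1, Int.ofNat 0, Int.ofNat 0],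
  [Int.ofNat 0, Int.negSucc 1, Int.ofNat 0, Int.ofNat 0, Int.ofNat 2, Int.negSucc 1, Int.ofNat 0, Int.ofNat 2, Int.ofNat 0, Int.ofNat 2, Int.ofNat 0, Int.ofNat 0, Int.negSucc 1, Int.ofNat 2, Int.ofNat 0, Int.ofNat 0, Int.negSucc 1, Int.ofNat 0, Int.ofNat 0, Int.ofNat 0, Int.ofNat 0, Int.ofNat 0, Int.ofNat 0, Int.ofNat 0],
  [Int.negSucc 0, Int.ofNat 1, Int.negSucc 0, Int.ofNat 1, Int.ofNat 1, Int.negSucc 0, Int.negSucc 0, Int.ofNat 1, Int.ofNat 1, Int.ofNat 1, Int.negSucc 0, Int.ofNat 1, Int.negSucc 0, Int.ofNat 1, Int.ofNat 1, Int.negSucc 0, Int.negSucc 2, Int.ofNat 1, Int.ofNat 1, Int.negSucc 0, Int.negSucc 0, Int.negSucc 0, Int.negSucc 0, Int.negSucc 0],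
  [Int.negSucc 0, Int.negSucc 0, Int.negSucc 0, Int.negSucc 0, Int.ofNat 1, Int.negSucc 0, Int.ofNat 1, Int.ofNat 1, Int.negSucc 0, Int.negSucc 0, Int.ofNat 1, Int.ofNat 1, Int.ofNat 1, Int.negSucc 0, Int.ofNat 1, Int.negSucc 0, Int.ofNat 1, Int.ofNat 1, Int.negSucc 0, Int.negSucc 2, Int.ofNat 1, Int.ofNat 1, Int.negSucc 0, Int.negSucc 0],
  [Int.negSucc 0, Int.negSucc 0, Int.negSucc 0, Int.negSucc 0, Int.ofNat 1, Int.negSucc 0, Int.ofNat 1, Int.ofNat 1, Int.negSucc 0, Int.negSucc 0, Int.ofNat 1, Int.ofNat 1, Int.ofNat 1, Int.negSucc 0, Int.ofNat 1, Int.negSucc 0, Int.ofNat 1, Int.ofNat 1, Int.negSucc 0, Int.negSucc 2, Int.ofNat 1, Int.ofNat 1, Int.negSucc 0, Int.negSucc 0],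
  [Int.negSucc 0, Int.negSucc 0, Int.negSucc 0, Int.ofNat 1, Int.negSucc 0, Int.ofNat 1, Int.ofNat 1, Int.negSucc 0, Int.negSucc 0, Int.ofNat 1, Int.ofNat 1, Int.ofNat 1, Int.negSucc 0, Int.ofNat 1, Int.negSucc 0, Int.ofNat 1, Int.ofNat 1, Int.negSucc 0, Int.negSucc 2, Int.ofNat 1, Int.ofNat 1, Int.negSucc 0, Int.negSucc 0, Int.negSucc 0],
  [Int.ofNat 1, Int.negSucc 0, Int.ofNat 1, Int.ofNat 1, Int.negSucc 0, Int.ofNat 1, Int.ofNat 1, Int.ofNat 1, Int.negSucc 0, Int.negSucc 0, Int.negSucc 0, Int.negSucc 0, Int.negSucc 0, Int.ofNat 1, Int.negSucc 0, Int.ofNat 1, Int.ofNat 1, Int.negSucc 0, Int.ofNat 3, Int.ofNat 1, Int.ofNat 1, Int.ofNat 1, Int.negSucc 0, Int.negSucc 0],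
  [Int.negSucc 0, Int.ofNat 1, Int.negSucc 0, Int.negSucc 0, Int.ofNat 1, Int.ofNat 1, Int.negSucc 0, Int.ofNat 1, Int.ofNat 1, Int.ofNat 1, Int.negSucc 0, Int.negSucc 0, Int.ofNat 1, Int.negSucc 0, Int.negSucc 0, Int.ofNat 1, Int.negSucc 0, Int.negSucc 0, Int.negSucc 2, Int.ofNat 1, Int.ofNat 1, Int.ofNat 1, Int.negSucc 0, Int.negSucc 0],
  [Int.negSucc 0, Int.negSucc 0, Int.negSucc 2, Int.negSucc 0, Int.ofNat 1, Int.negSucc 0, Int.ofNat 1, Int.ofNat 1, Int.ofNat 1, Int.negSucc 0, Int.ofNat 1, Int.negSucc 0, Int.negSucc 0, Int.ofNat 1, Int.ofNat 1, Int.ofNat 1, Int.ofNat 1, Int.negSucc 0, Int.negSucc 0, Int.negSucc 0, Int.ofNat 1, Int.ofNat 1, Int.negSucc 0, Int.negSucc 0],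
  [Int.ofNat 1, Int.negSucc 0, Int.ofNat 3, Int.negSucc 0, Int.ofNat 1, Int.negSucc 0, Int.ofNat 1, Int.negSucc 0, Int.ofNat 1, Int.ofNat 1, Int.negSucc 0, Int.ofNat 1, Int.negSucc 0, Int.ofNat 1, Int.ofNat 1, Int.ofNat 1, Int.ofNat 1, Int.negSucc 0, Int.ofNat 1, Int.negSucc 0, Int.ofNat 1, Int.negSucc 0, Int.negSucc 0, Int.negSucc 0],
  [Int.negSucc 0, Int.ofNat 1, Int.negSucc 0, Int.ofNat 3, Int.negSucc 0, Int.ofNat 1, Int.negSucc 0, Int.ofNat 1, Int.negSucc 0, Int.ofNat 1, Int.ofNat 1, Int.negSucc 0, Int.ofNat 1, Int.negSucc 0, Int.ofNat 1, Int.ofNat 1, Int.ofNat 1, Int.ofNat 1, Int.negSucc 0, Int.ofNat 1, Int.negSucc 0, Int.ofNat 1, Int.negSucc 0, Int.negSucc 0],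
  [Int.ofNat 0, Int.negSucc 1, Int.ofNat 0, Int.ofNat 0, Int.ofNat 0, Int.negSucc 1, Int.negSucc 1, Int.ofNat 0, Int.ofNat 0, Int.ofNat 0, Int.ofNat 0, Int.ofNat 0, Int.ofNat 2, Int.ofNat 0, Int.negSucc 1, Int.ofNat 0, Int.ofNat 2, Int.negSucc 1, Int.ofNat 0, Int.ofNat 0, Int.negSucc 1, Int.ofNat 0, Int.ofNat 0, Int.ofNat 0],
  [Int.ofNat 0, Int.ofNat 0, Int.negSucc 1, Int.negSucc 1, Int.ofNat 0, Int.ofNat 0, Int.ofNat 0, Int.ofNat 0, Int.ofNat 0, Int.ofNat 2, Int.ofNat 0, Int.negSucc 1, Int.ofNat 0, Int.ofNat 2, Int.negSucc 1, Int.ofNat 0, Int.ofNat 0, Int.negSucc 1, Int.ofNat 0, Int.ofNat 0, Int.ofNat 0, Int.negSucc 1, Int.ofNat 0, Int.ofNat 0],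
  [Int.negSucc 0, Int.negSucc 0, Int.ofNat 1, Int.ofNat 1, Int.negSucc 0, Int.ofNat 3, Int.ofNat 1, Int.ofNat 1, Int.ofNat 1, Int.ofNat 1, Int.negSucc 0, Int.negSucc 0, Int.ofNat 1, Int.ofNat 1, Int.ofNat 1, Int.negSucc 0, Int.negSucc 0, Int.ofNat 1, Int.ofNat 1, Int.ofNat 1, Int.negSucc 0, Int.negSucc 0, Int.negSucc 0, Int.negSucc 0],
  [Int.negSucc 0, Int.ofNat 1, Int.negSucc 0, Int.ofNat 1, Int.ofNat 1, Int.ofNat 1, Int.ofNat 1, Int.negSucc 0, Int.ofNat 1, Int.ofNat 1, Int.negSucc 0, Int.ofNat 1, Int.ofNat 1, Int.negSucc 0, Int.negSucc 0, Int.negSucc 0, Int.ofNat 1, Int.ofNat 1, Int.negSucc 0, Int.negSucc 0, Int.negSucc 0, Int.ofNat 3, Int.ofNat 1, Int.negSucc 0],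
  [Int.ofNat 0, Int.negSucc 1, Int.ofNat 0, Int.ofNat 0, Int.ofNat 0, Int.ofNat 0, Int.ofNat 0, Int.negSucc 1, Int.ofNat 0, Int.ofNat 2, Int.ofNat 0, Int.ofNat 0, Int.ofNat 0, Int.negSucc 1, Int.negSucc 1, Int.ofNat 0, Int.ofNat 0, Int.ofNat 0, Int.negSucc 1, Int.negSucc 1, Int.ofNat 0, Int.ofNat 2, Int.ofNat 0, Int.ofNat 0],
  [Int.ofNat 0, Int.negSucc 1, Int.ofNat 0, Int.ofNat 0, Int.ofNat 0, Int.ofNat 0, Int.ofNat 0, Int.negSucc 1, Int.ofNat 0, Int.negSucc 1, Int.ofNat 0, Int.ofNat 0, Int.ofNat 0, Int.negSucc 1, Int.negSucc 1, Int.ofNat 0, Int.ofNat 0, Int.ofNat 0, Int.ofNat 2, Int.negSucc 1, Int.ofNat 0, Int.ofNat 2, Int.ofNat 0, Int.ofNat 0],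
  [Int.ofNat 0, Int.ofNat 0, Int.ofNat 0, Int.ofNat 0, Int.negSucc 1, Int.ofNat 0, Int.ofNat 2, Int.ofNat 0, Int.ofNat 0, Int.ofNat 0, Int.negSucc 1, Int.negSucc 1, Int.ofNat 0, Int.ofNat 0, Int.ofNat 0, Int.ofNat 2, Int.negSucc 1, Int.ofNat 0, Int.negSucc 1, Int.ofNat 0, Int.ofNat 0, Int.negSucc 1, Int.ofNat 0, Int.ofNat 0],
  [Int.ofNat 0, Int.ofNat 0, Int.negSucc 1, Int.ofNat 2, Int.ofNat 0, Int.ofNat 0, Int.ofNat 0, Int.ofNat 0, Int.ofNat 0, Int.ofNat 0, Int.negSucc 1, Int.ofNat 0, Int.negSucc 1, Int.ofNat 0, Int.negSucc 1, Int.ofNat 0, Int.negSucc 1, Int.negSucc 1, Int.ofNat 0, Int.ofNat 2, Int.ofNat 0, Int.ofNat 0, Int.ofNat 0, Int.ofNat 0],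
  [Int.ofNat 0, Int.ofNat 0, Int.ofNat 2, Int.ofNat 2, Int.ofNat 0, Int.ofNat 0, Int.ofNat 0, Int.ofNat 0, Int.ofNat 0, Int.ofNat 0, Int.ofNat 2, Int.ofNat 0, Int.negSucc 1, Int.ofNat 0, Int.negSucc 1, Int.ofNat 0, Int.negSucc 1, Int.negSucc 1, Int.ofNat 0, Int.ofNat 2, Int.ofNat 0, Int.ofNat 0, Int.ofNat 0, Int.ofNat 0],
  [Int.ofNat 0, Int.ofNat 0, Int.ofNat 0, Int.ofNat 2, Int.ofNat 2, Int.ofNat 0, Int.ofNat 0, Int.ofNat 0, Int.ofNat 0, Int.ofNat 0, Int.ofNat 0, Int.ofNat 2, Int.ofNat 0, Int.negSucc 1, Int.ofNat 0, Int.negSucc 1, Int.ofNat 0, Int.negSucc 1, Int.negSucc 1, Int.ofNat 0, Int.ofNat 2, Int.ofNat 0, Int.ofNat 0, Int.ofNat 0],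
  [Int.ofNat 0, Int.ofNat 0, Int.ofNat 0, Int.ofNat 2, Int.ofNat 2, Int.ofNat 0, Int.ofNat 0, Int.ofNat 0, Int.ofNat 0, Int.ofNat 0, Int.ofNat 0, Int.ofNat 2, Int.ofNat 0, Int.negSucc 1, Int.ofNat 0, Int.negSucc 1, Int.ofNat 0, Int.negSucc 1, Int.negSucc 1, Int.ofNat 0, Int.ofNat 2, Int.ofNat 0, Int.ofNat 0, Int.ofNat 0],
  [Int.ofNat 2, Int.ofNat 2, Int.ofNat 0, Int.ofNat 0, Int.ofNat 0, Int.ofNat 0, Int.ofNat 0, Int.ofNat 0, Int.ofNat 2, Int.ofNat 0, Int.negSucc 1, Int.ofNat 0, Int.negSucc 1, Int.ofNat 0, Int.negSucc 1, Int.negSucc 1, Int.ofNat 0, Int.ofNat 2, Int.ofNat 0, Int.ofNat 0, Int.ofNat 0, Int.ofNat 0, Int.ofNat 0, Int.ofNat 0],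
  [Int.ofNat 0, Int.ofNat 0, Int.ofNat 2, Int.ofNat 0, Int.ofNat 0, Int.ofNat 0, Int.ofNat 0, Int.ofNat 0, Int.ofNat 2, Int.ofNat 2, Int.ofNat 0, Int.ofNat 0, Int.negSucc 1, Int.ofNat 0, Int.negSucc 1, Int.ofNat 0, Int.ofNat 0, Int.ofNat 2, Int.ofNat 0, Int.ofNat 0, Int.ofNat 2, Int.ofNat 0, Int.ofNat 0, Int.ofNat 2],
  [Int.ofNat 0, Int.ofNat 0, Int.ofNat 0, Int.ofNat 0, Int.ofNat 0, Int.ofNat 0, Int.ofNat 2, Int.ofNat 0, Int.negSucc 1, Int.ofNat 0, Int.ofNat 2, Int.ofNat 2, Int.ofNat 2, Int.ofNat 0, Int.ofNat 0, Int.ofNat 0, Int.ofNat 2, Int.negSucc 1, Int.ofNat 0, Int.ofNat 0, Int.ofNat 0, Int.ofNat 0, Int.ofNat 0, Int.ofNat 2],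
  [Int.ofNat 1, Int.ofNat 1, Int.ofNat 1, Int.ofNat 1, Int.negSucc 0, Int.ofNat 1, Int.ofNat 1, Int.negSucc 0, Int.negSucc 2, Int.negSucc 0, Int.ofNat 1, Int.ofNat 1, Int.ofNat 1, Int.negSucc 0, Int.ofNat 1, Int.negSucc 0, Int.ofNat 1, Int.negSucc 0, Int.negSucc 0, Int.negSucc 0, Int.negSucc 0, Int.negSucc 0, Int.negSucc 0, Int.negSucc 0],
  [Int.ofNat 1, Int.ofNat 1, Int.negSucc 0, Int.ofNat 1, Int.negSucc 0, Int.negSucc 0, Int.negSucc 0, Int.negSucc 0, Int.negSucc 2, Int.ofNat 1, Int.negSucc 0, Int.ofNat 1, Int.ofNat 1, Int.negSucc 0, Int.ofNat 1, Int.ofNat 1, Int.ofNat 1, Int.negSucc 0, Int.ofNat 1, Int.negSucc 0, Int.negSucc 0, Int.negSucc 0, Int.ofNat 1, Int.negSucc 0],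
  [Int.ofNat 1, Int.negSucc 0, Int.negSucc 2, Int.negSucc 0, Int.ofNat 1, Int.ofNat 1, Int.ofNat 1, Int.ofNat 1, Int.negSucc 0, Int.ofNat 1, Int.ofNat 1, Int.negSucc 0, Int.ofNat 1, Int.ofNat 1, Int.negSucc 0, Int.negSucc 0, Int.negSucc 0, Int.ofNat 1, Int.ofNat 1, Int.negSucc 0, Int.negSucc 0, Int.negSucc 0, Int.negSucc 0, Int.negSucc 0],
  [Int.ofNat 1, Int.negSucc 0, Int.ofNat 3, Int.negSucc 0, Int.ofNat 1, Int.negSucc 0, Int.negSucc 0, Int.ofNat 1, Int.negSucc 0, Int.negSucc 0, Int.negSucc 0, Int.negSucc 0, Int.ofNat 1, Int.ofNat 1, Int.negSucc 0, Int.ofNat 1, Int.negSucc 0, Int.ofNat 1, Int.negSucc 0, Int.negSucc 0, Int.negSucc 0, Int.negSucc 0, Int.ofNat 1, Int.negSucc 0],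
  [Int.ofNat 0, Int.ofNat 2, Int.negSucc 1, Int.ofNat 0, Int.ofNat 0, Int.ofNat 0, Int.ofNat 0, Int.ofNat 2, Int.ofNat 0, Int.ofNat 0, Int.ofNat 0, Int.ofNat 0, Int.ofNat 2, Int.ofNat 0, Int.ofNat 0, Int.ofNat 2, Int.negSucc 1, Int.ofNat 2, Int.ofNat 0, Int.ofNat 0, Int.ofNat 0, Int.ofNat 0, Int.ofNat 0, Int.ofNat 2],
  [Int.ofNat 0, Int.ofNat 0, Int.ofNat 0, Int.ofNat 0, Int.negSucc 1, Int.ofNat 0, Int.ofNat 2, Int.ofNat 0, Int.negSucc 1, Int.ofNat 2, Int.ofNat 2, Int.ofNat 0, Int.ofNat 0, Int.ofNat 0, Int.ofNat 2, Int.ofNat 2, Int.ofNat 0, Int.ofNat 0, Int.ofNat 0, Int.ofNat 0, Int.ofNat 0, Int.ofNat 0, Int.ofNat 0, Int.ofNat 2],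
  [Int.ofNat 1, Int.ofNat 1, Int.ofNat 1, Int.negSucc 0, Int.negSucc 0, Int.negSucc 0, Int.ofNat 1, Int.negSucc 0, Int.negSucc 0, Int.negSucc 0, Int.negSucc 0, Int.ofNat 1, Int.ofNat 1, Int.ofNat 1, Int.ofNat 1, Int.negSucc 0, Int.ofNat 1, Int.negSucc 0, Int.ofNat 1, Int.negSucc 0, Int.negSucc 2, Int.negSucc 0, Int.ofNat 1, Int.negSucc 0],
  [Int.negSucc 2, Int.negSucc 0, Int.ofNat 1, Int.ofNat 1, Int.ofNat 1, Int.ofNat 1, Int.negSucc 0, Int.negSucc 0, Int.negSucc 0, Int.ofNat 1, Int.negSucc 0, Int.negSucc 0, Int.negSucc 0, Int.negSucc 0, Int.ofNat 1, Int.ofNat 1, Int.ofNat 1, Int.ofNat 1, Int.negSucc 0, Int.ofNat 1, Int.negSucc 0, Int.ofNat 1, Int.negSucc 0, Int.negSucc 0],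
  [Int.ofNat 1, Int.negSucc 0, Int.negSucc 2, Int.negSucc 0, Int.ofNat 1, Int.negSucc 0, Int.negSucc 0, Int.negSucc 0, Int.ofNat 1, Int.ofNat 1, Int.negSucc 0, Int.ofNat 1, Int.ofNat 1, Int.negSucc 0, Int.negSucc 0, Int.ofNat 1, Int.ofNat 1, Int.negSucc 0, Int.ofNat 1, Int.ofNat 1, Int.negSucc 0, Int.ofNat 1, Int.negSucc 0, Int.negSucc 0],
  [Int.negSucc 0, Int.negSucc 2, Int.negSucc 0, Int.ofNat 1, Int.negSucc 0, Int.negSucc 0, Int.negSucc 0, Int.ofNat 1, Int.ofNat 1, Int.negSucc 0, Int.ofNat 1, Int.ofNat 1, Int.negSucc 0, Int.negSucc 0, Int.ofNat 1, Int.ofNat 1, Int.negSucc 0, Int.ofNat 1, Int.ofNat 1, Int.negSucc 0, Int.ofNat 1, Int.negSucc 0, Int.ofNat 1, Int.negSucc 0],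
  [Int.ofNat 1, Int.negSucc 2, Int.ofNat 1, Int.ofNat 1, Int.negSucc 0, Int.negSucc 0, Int.negSucc 0, Int.negSucc 0, Int.ofNat 1, Int.ofNat 1, Int.negSucc 0, Int.negSucc 0, Int.negSucc 0, Int.negSucc 0, Int.ofNat 1, Int.ofNat 1, Int.negSucc 0, Int.ofNat 1, Int.negSucc 0, Int.negSucc 0, Int.ofNat 1, Int.ofNat 1, Int.ofNat 1, Int.negSucc 0],
  [Int.negSucc 0, Int.ofNat 3, Int.negSucc 0, Int.negSucc 0, Int.ofNat 1, Int.negSucc 0, Int.ofNat 1, Int.negSucc 0, Int.negSucc 0, Int.negSucc 0, Int.negSucc 0, Int.negSucc 0, Int.ofNat 1, Int.ofNat 1, Int.ofNat 1, Int.ofNat 1, Int.ofNat 1, Int.ofNat 1, Int.ofNat 1, Int.negSucc 0, Int.ofNat 1, Int.ofNat 1, Int.ofNat 1, Int.negSucc 0],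
  [Int.negSucc 0, Int.negSucc 0, Int.ofNat 1, Int.negSucc 0, Int.ofNat 3, Int.negSucc 0, Int.ofNat 1, Int.ofNat 1, Int.negSucc 0, Int.ofNat 1, Int.ofNat 1, Int.ofNat 1, Int.ofNat 1, Int.negSucc 0, Int.negSucc 0, Int.ofNat 1, Int.ofNat 1, Int.ofNat 1, Int.ofNat 1, Int.ofNat 1, Int.negSucc 0, Int.negSucc 0, Int.negSucc 0, Int.negSucc 0],
  [Int.ofNat 1, Int.negSucc 0, Int.negSucc 0, Int.negSucc 0, Int.ofNat 3, Int.negSucc 0, Int.ofNat 1, Int.negSucc 0, Int.negSucc 0, Int.negSucc 0, Int.negSucc 0, Int.negSucc 0, Int.ofNat 1, Int.negSucc 0, Int.negSucc 0, Int.ofNat 1, Int.ofNat 1, Int.ofNat 1, Int.negSucc 0, Int.ofNat 1, Int.negSucc 0, Int.ofNat 1, Int.negSucc 0, Int.negSucc 0],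
  [Int.negSucc 0, Int.ofNat 1, Int.negSucc 0, Int.negSucc 0, Int.negSucc 0, Int.ofNat 3, Int.negSucc 0, Int.ofNat 1, Int.negSucc 0, Int.negSucc 0, Int.negSucc 0, Int.negSucc 0, Int.negSucc 0, Int.ofNat 1, Int.negSucc 0, Int.negSucc 0, Int.ofNat 1, Int.ofNat 1, Int.ofNat 1, Int.negSucc 0, Int.ofNat 1, Int.negSucc 0, Int.ofNat 1, Int.negSucc 0],
  [Int.ofNat 0, Int.negSucc 1, Int.ofNat 0, Int.negSucc 1, Int.negSucc 1, Int.ofNat 2, Int.ofNat 0, Int.ofNat 2, Int.ofNat 0, Int.ofNat 0, Int.ofNat 0, Int.ofNat 0, Int.ofNat 0, Int.ofNat 0, Int.negSucc 1, Int.ofNat 0, Int.ofNat 0, Int.ofNat 0, Int.ofNat 2, Int.ofNat 0, Int.ofNat 2, Int.ofNat 0, Int.ofNat 0, Int.ofNat 0],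
  [Int.negSucc 1, Int.negSucc 1, Int.ofNat 2, Int.ofNat 0, Int.ofNat 2, Int.ofNat 0, Int.ofNat 0, Int.ofNat 0, Int.ofNat 0, Int.ofNat 0, Int.ofNat 0, Int.negSucc 1, Int.ofNat 0, Int.ofNat 0, Int.ofNat 0, Int.ofNat 2, Int.ofNat 0, Int.ofNat 2, Int.ofNat 0, Int.ofNat 0, Int.ofNat 0, Int.negSucc 1, Int.ofNat 0, Int.ofNat 0],
  [Int.ofNat 1, Int.ofNat 1, Int.negSucc 2, Int.negSucc 0, Int.ofNat 1, Int.negSucc 0, Int.ofNat 1, Int.ofNat 1, Int.ofNat 1, Int.negSucc 0, Int.negSucc 0, Int.negSucc 0, Int.ofNat 1, Int.negSucc 0, Int.negSucc 0, Int.ofNat 1, Int.negSucc 0, Int.ofNat 1, Int.ofNat 1, Int.ofNat 1, Int.negSucc 0, Int.negSucc 0, Int.negSucc 0, Int.negSucc 0],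
  [Int.ofNat 1, Int.ofNat 1, Int.ofNat 1, Int.negSucc 0, Int.ofNat 1, Int.ofNat 1, Int.negSucc 2, Int.negSucc 0, Int.ofNat 1, Int.negSucc 0, Int.negSucc 0, Int.ofNat 1, Int.negSucc 0, Int.negSucc 0, Int.negSucc 0, Int.ofNat 1, Int.ofNat 1, Int.negSucc 0, Int.ofNat 1, Int.negSucc 0, Int.negSucc 0, Int.negSucc 0, Int.ofNat 1, Int.negSucc 0],
  [Int.ofNat 0, Int.ofNat 0, Int.ofNat 0, Int.ofNat 0, Int.ofNat 0, Int.ofNat 2, Int.ofNat 0, Int.ofNat 2, Int.ofNat 0, Int.ofNat 0, Int.ofNat 0, Int.ofNat 0, Int.negSucc 1, Int.negSucc 1, Int.ofNat 0, Int.ofNat 2, Int.ofNat 0, Int.ofNat 0, Int.ofNat 0, Int.ofNat 2, Int.ofNat 0, Int.ofNat 2, Int.ofNat 0, Int.ofNat 2],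
  [Int.ofNat 0, Int.ofNat 0, Int.ofNat 0, Int.ofNat 0, Int.ofNat 0, Int.negSucc 1, Int.ofNat 0, Int.ofNat 2, Int.ofNat 0, Int.ofNat 0, Int.ofNat 0, Int.ofNat 0, Int.negSucc 1, Int.negSucc 1, Int.ofNat 0, Int.negSucc 1, Int.ofNat 0, Int.ofNat 0, Int.ofNat 0, Int.ofNat 2, Int.ofNat 0, Int.ofNat 2, Int.ofNat 0, Int.ofNat 2],
  [Int.ofNat 0, Int.ofNat 0, Int.ofNat 0, Int.ofNat 0, Int.ofNat 0, Int.ofNat 0, Int.ofNat 2, Int.ofNat 0, Int.negSucc 1, Int.ofNat 0, Int.negSucc 1, Int.ofNat 2, Int.negSucc 1, Int.ofNat 0, Int.ofNat 0, Int.ofNat 0, Int.ofNat 2, Int.negSucc 1, Int.ofNat 0, Int.ofNat 0, Int.ofNat 0, Int.ofNat 0, Int.ofNat 0, Int.ofNat 2],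
  [Int.ofNat 2, Int.ofNat 0, Int.ofNat 2, Int.ofNat 0, Int.negSucc 1, Int.ofNat 0, Int.ofNat 0, Int.ofNat 0, Int.ofNat 0, Int.ofNat 0, Int.ofNat 2, Int.ofNat 0, Int.ofNat 0, Int.ofNat 0, Int.ofNat 0, Int.ofNat 0, Int.negSucc 1, Int.ofNat 0, Int.ofNat 0, Int.ofNat 2, Int.negSucc 1, Int.negSucc 1, Int.ofNat 0, Int.ofNat 0],
  [Int.negSucc 1, Int.ofNat 0, Int.negSucc 1, Int.ofNat 0, Int.negSucc 1, Int.ofNat 0, Int.ofNat 0, Int.ofNat 0, Int.ofNat 0, Int.ofNat 0, Int.negSucc 1, Int.ofNat 0, Int.ofNat 0, Int.ofNat 0, Int.ofNat 0, Int.ofNat 0, Int.negSucc 1, Int.ofNat 0, Int.ofNat 0, Int.ofNat 2, Int.negSucc 1, Int.ofNat 2, Int.ofNat 0, Int.ofNat 0],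
  [Int.ofNat 0, Int.negSucc 1, Int.ofNat 0, Int.negSucc 1, Int.ofNat 0, Int.negSucc 1, Int.ofNat 0, Int.ofNat 0, Int.ofNat 0, Int.ofNat 0, Int.ofNat 0, Int.negSucc 1, Int.ofNat 0, Int.ofNat 0, Int.ofNat 0, Int.ofNat 0, Int.ofNat 0, Int.negSucc 1, Int.ofNat 0, Int.ofNat 0, Int.ofNat 2, Int.negSucc 1, Int.ofNat 2, Int.ofNat 0],
  [Int.negSucc 0, Int.ofNat 1, Int.negSucc 0, Int.ofNat 1, Int.negSucc 0, Int.ofNat 1, Int.ofNat 1, Int.ofNat 1, Int.ofNat 1, Int.negSucc 0, Int.negSucc 0, Int.negSucc 0, Int.ofNat 1, Int.negSucc 0, Int.ofNat 3, Int.negSucc 0, Int.negSucc 0, Int.ofNat 1, Int.ofNat 1, Int.ofNat 1, Int.ofNat 1, Int.negSucc 0, Int.ofNat 1, Int.negSucc 0],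
  [Int.ofNat 1, Int.negSucc 0, Int.ofNat 1, Int.ofNat 1, Int.ofNat 1, Int.ofNat 1, Int.negSucc 0, Int.negSucc 0, Int.negSucc 0, Int.ofNat 1, Int.negSucc 0, Int.ofNat 3, Int.negSucc 0, Int.negSucc 0, Int.ofNat 1, Int.ofNat 1, Int.ofNat 1, Int.ofNat 1, Int.negSucc 0, Int.ofNat 1, Int.negSucc 0, Int.ofNat 1, Int.negSucc 0, Int.negSucc 0],
  [Int.negSucc 0, Int.ofNat 1, Int.negSucc 0, Int.negSucc 0, Int.ofNat 1, Int.negSucc 0, Int.negSucc 0, Int.negSucc 0, Int.negSucc 0, Int.ofNat 1, Int.negSucc 0, Int.ofNat 3, Int.negSucc 0, Int.negSucc 0, Int.negSucc 0, Int.ofNat 1, Int.ofNat 1, Int.negSucc 0, Int.negSucc 0, Int.ofNat 1, Int.negSucc 0, Int.ofNat 1, Int.negSucc 0, Int.ofNat 1],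
  [Int.negSucc 0, Int.negSucc 0, Int.ofNat 1, Int.negSucc 0, Int.negSucc 0, Int.negSucc 0, Int.negSucc 0, Int.negSucc 0, Int.negSucc 0, Int.negSucc 0, Int.negSucc 0, Int.negSucc 0, Int.ofNat 1, Int.ofNat 1, Int.negSucc 0, Int.ofNat 1, Int.negSucc 0, Int.negSucc 0, Int.ofNat 1, Int.ofNat 3, Int.ofNat 1, Int.negSucc 0, Int.ofNat 1, Int.ofNat 1],
  [Int.ofNat 1, Int.ofNat 1, Int.negSucc 0, Int.ofNat 1, Int.negSucc 0, Int.ofNat 1, Int.negSucc 0, Int.negSucc 0, Int.negSucc 0, Int.negSucc 0, Int.negSucc 0, Int.negSucc 0, Int.ofNat 1, Int.ofNat 1, Int.ofNat 1, Int.ofNat 1, Int.negSucc 0, Int.ofNat 1, Int.ofNat 1, Int.ofNat 3, Int.ofNat 1, Int.negSucc 0, Int.ofNat 1, Int.negSucc 0],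
  [Int.ofNat 1, Int.ofNat 1, Int.ofNat 1, Int.ofNat 1, Int.negSucc 0, Int.negSucc 0, Int.ofNat 1, Int.negSucc 0, Int.negSucc 0, Int.ofNat 1, Int.ofNat 1, Int.negSucc 0, Int.ofNat 1, Int.ofNat 1, Int.ofNat 1, Int.negSucc 0, Int.negSucc 0, Int.ofNat 1, Int.negSucc 0, Int.ofNat 3, Int.ofNat 1, Int.negSucc 0, Int.negSucc 0, Int.negSucc 0],
  [Int.ofNat 1, Int.ofNat 1, Int.negSucc 0, Int.ofNat 1, Int.ofNat 1, Int.negSucc 0, Int.negSucc 0, Int.ofNat 1, Int.ofNat 1, Int.negSucc 0, Int.ofNat 1, Int.ofNat 1, Int.negSucc 0, Int.ofNat 1, Int.negSucc 0, Int.ofNat 1, Int.negSucc 0, Int.ofNat 1, Int.negSucc 0, Int.ofNat 1, Int.ofNat 3, Int.negSucc 0, Int.negSucc 0, Int.negSucc 0],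
  [Int.ofNat 1, Int.ofNat 1, Int.ofNat 1, Int.ofNat 1, Int.ofNat 1, Int.ofNat 1, Int.ofNat 1, Int.ofNat 1, Int.ofNat 1, Int.ofNat 1, Int.negSucc 0, Int.ofNat 1, Int.negSucc 0, Int.ofNat 1, Int.negSucc 0, Int.negSucc 0, Int.negSucc 0, Int.ofNat 1, Int.ofNat 1, Int.ofNat 1, Int.ofNat 3, Int.negSucc 0, Int.ofNat 1, Int.negSucc 0],
  [Int.ofNat 0, Int.ofNat 0, Int.ofNat 0, Int.ofNat 0, Int.ofNat 0, Int.ofNat 0, Int.ofNat 0, Int.ofNat 0, Int.ofNat 0, Int.ofNat 0, Int.negSucc 1, Int.ofNat 0, Int.negSucc 1, Int.ofNat 0, Int.negSucc 1, Int.negSucc 1, Int.negSucc 1, Int.ofNat 0, Int.ofNat 0, Int.ofNat 0, Int.ofNat 2, Int.negSucc 1, Int.ofNat 0, Int.ofNat 2],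
  [Int.ofNat 0, Int.ofNat 0, Int.ofNat 0, Int.ofNat 0, Int.ofNat 0, Int.negSucc 1, Int.ofNat 0, Int.ofNat 0, Int.negSucc 1, Int.negSucc 1, Int.ofNat 0, Int.ofNat 0, Int.ofNat 0, Int.ofNat 0, Int.ofNat 0, Int.negSucc 1, Int.ofNat 0, Int.ofNat 0, Int.ofNat 0, Int.ofNat 0, Int.negSucc 1, Int.ofNat 2, Int.negSucc 1, Int.ofNat 2],
  [Int.ofNat 1, Int.ofNat 1, Int.ofNat 1, Int.ofNat 1, Int.ofNat 1, Int.negSucc 0, Int.negSucc 0, Int.negSucc 0, Int.negSucc 0, Int.ofNat 1, Int.ofNat 3, Int.ofNat 1, Int.ofNat 1, Int.ofNat 1, Int.ofNat 1, Int.ofNat 1, Int.ofNat 1, Int.ofNat 1, Int.ofNat 1, Int.negSucc 0, Int.ofNat 1, Int.ofNat 1, Int.negSucc 0, Int.negSucc 0],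
  [Int.ofNat 1, Int.ofNat 1, Int.negSucc 0, Int.ofNat 1, Int.ofNat 1, Int.ofNat 1, Int.ofNat 1, Int.ofNat 1, Int.negSucc 0, Int.negSucc 0, Int.negSucc 0, Int.negSucc 0, Int.ofNat 1, Int.ofNat 3, Int.ofNat 1, Int.ofNat 1, Int.ofNat 1, Int.ofNat 1, Int.ofNat 1, Int.ofNat 1, Int.ofNat 1, Int.ofNat 1, Int.negSucc 0, Int.negSucc 0],
  [Int.negSucc 0, Int.negSucc 0, Int.ofNat 1, Int.negSucc 0, Int.negSucc 0, Int.negSucc 0, Int.negSucc 0, Int.negSucc 0, Int.negSucc 0, Int.negSucc 0, Int.negSucc 0, Int.negSucc 0, Int.ofNat 1, Int.ofNat 1, Int.negSucc 0, Int.ofNat 1, Int.negSucc 0, Int.negSucc 0, Int.ofNat 1, Int.negSucc 0, Int.ofNat 1, Int.negSucc 0, Int.negSucc 2, Int.ofNat 1],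
  [Int.negSucc 0, Int.ofNat 1, Int.negSucc 0, Int.negSucc 0, Int.negSucc 0, Int.negSucc 0, Int.negSucc 0, Int.negSucc 0, Int.negSucc 0, Int.negSucc 0, Int.negSucc 0, Int.ofNat 1, Int.ofNat 1, Int.negSucc 0, Int.ofNat 1, Int.negSucc 0, Int.negSucc 0, Int.ofNat 1, Int.negSucc 0, Int.ofNat 1, Int.negSucc 0, Int.negSucc 2, Int.negSucc 0, Int.ofNat 1],
  [Int.ofNat 1, Int.ofNat 1, Int.ofNat 1, Int.negSucc 0, Int.negSucc 0, Int.negSucc 0, Int.negSucc 0, Int.ofNat 1, Int.negSucc 0, Int.ofNat 1, Int.ofNat 1, Int.negSucc 0, Int.ofNat 1, Int.negSucc 0, Int.ofNat 1, Int.negSucc 0, Int.negSucc 0, Int.ofNat 1, Int.ofNat 1, Int.ofNat 1, Int.negSucc 0, Int.ofNat 3, Int.negSucc 0, Int.ofNat 1],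
  [Int.negSucc 0, Int.negSucc 0, Int.negSucc 0, Int.ofNat 1, Int.ofNat 1, Int.negSucc 0, Int.ofNat 1, Int.ofNat 1, Int.ofNat 1, Int.negSucc 0, Int.ofNat 1, Int.negSucc 0, Int.negSucc 0, Int.ofNat 1, Int.ofNat 1, Int.negSucc 0, Int.ofNat 1, Int.ofNat 1, Int.negSucc 0, Int.ofNat 1, Int.negSucc 0, Int.ofNat 3, Int.negSucc 0, Int.ofNat 1],
  [Int.negSucc 0, Int.negSucc 0, Int.negSucc 0, Int.ofNat 1, Int.negSucc 0, Int.ofNat 1, Int.ofNat 1, Int.negSucc 0, Int.negSucc 0, Int.ofNat 1, Int.ofNat 3, Int.ofNat 1, Int.ofNat 1, Int.ofNat 1, Int.ofNat 1, Int.negSucc 0, Int.negSucc 0, Int.negSucc 0, Int.ofNat 1, Int.ofNat 1, Int.negSucc 0, Int.ofNat 1, Int.negSucc 0, Int.ofNat 1],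
  [Int.ofNat 1, Int.negSucc 0, Int.ofNat 1, Int.ofNat 1, Int.negSucc 0, Int.ofNat 1, Int.ofNat 1, Int.ofNat 1, Int.negSucc 0, Int.negSucc 0, Int.negSucc 2, Int.negSucc 0, Int.ofNat 1, Int.ofNat 1, Int.ofNat 1, Int.negSucc 0, Int.negSucc 0, Int.negSucc 0, Int.negSucc 0, Int.ofNat 1, Int.negSucc 0, Int.negSucc 0, Int.negSucc 0, Int.ofNat 1],
  [Int.negSucc 0, Int.ofNat 1, Int.negSucc 0, Int.ofNat 1, Int.ofNat 1, Int.negSucc 0, Int.ofNat 1, Int.ofNat 1, Int.ofNat 1, Int.negSucc 0, Int.negSucc 0, Int.negSucc 2, Int.negSucc 0, Int.ofNat 1, Int.ofNat 1, Int.ofNat 1, Int.negSucc 0, Int.negSucc 0, Int.negSucc 0, Int.negSucc 0, Int.ofNat 1, Int.negSucc 0, Int.negSucc 0, Int.ofNat 1],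
  [Int.ofNat 1, Int.negSucc 0, Int.ofNat 1, Int.ofNat 1, Int.ofNat 1, Int.negSucc 0, Int.ofNat 1, Int.ofNat 1, Int.ofNat 3, Int.negSucc 0, Int.negSucc 0, Int.negSucc 0, Int.ofNat 1, Int.ofNat 1, Int.ofNat 1, Int.ofNat 1, Int.negSucc 0, Int.negSucc 0, Int.ofNat 1, Int.negSucc 0, Int.ofNat 1, Int.negSucc 0, Int.negSucc 0, Int.negSucc 0],
  [Int.ofNat 1, Int.ofNat 1, Int.negSucc 0, Int.ofNat 1, Int.ofNat 1, Int.ofNat 3, Int.negSucc 0, Int.negSucc 0, Int.negSucc 0, Int.ofNat 1, Int.ofNat 1, Int.ofNat 1, Int.ofNat 1, Int.negSucc 0, Int.negSucc 0, Int.ofNat 1, Int.negSucc 0, Int.ofNat 1, Int.negSucc 0, Int.negSucc 0, Int.ofNat 1, Int.negSucc 0, Int.ofNat 1, Int.negSucc 0],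
  [Int.negSucc 0, Int.negSucc 0, Int.ofNat 1, Int.negSucc 0, Int.ofNat 1, Int.ofNat 1, Int.ofNat 1, Int.ofNat 1, Int.negSucc 0, Int.negSucc 0, Int.negSucc 0, Int.ofNat 1, Int.ofNat 1, Int.negSucc 0, Int.negSucc 2, Int.negSucc 0, Int.negSucc 0, Int.negSucc 0, Int.negSucc 0, Int.ofNat 1, Int.negSucc 0, Int.ofNat 1, Int.ofNat 1, Int.ofNat 1],
  [Int.negSucc 0, Int.ofNat 1, Int.ofNat 1, Int.negSucc 0, Int.negSucc 0, Int.ofNat 1, Int.ofNat 1, Int.negSucc 0, Int.ofNat 1, Int.negSucc 0, Int.negSucc 0, Int.negSucc 0, Int.negSucc 0, Int.negSucc 0, Int.ofNat 1, Int.negSucc 0, Int.negSucc 0, Int.negSucc 2, Int.negSucc 0, Int.ofNat 1, Int.ofNat 1, Int.ofNat 1, Int.ofNat 1, Int.ofNat 1],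
  [Int.ofNat 2, Int.ofNat 0, Int.ofNat 0, Int.ofNat 0, Int.ofNat 0, Int.ofNat 2, Int.ofNat 0, Int.negSucc 1, Int.ofNat 2, Int.ofNat 0, Int.ofNat 0, Int.ofNat 0, Int.ofNat 0, Int.ofNat 0, Int.ofNat 2, Int.ofNat 0, Int.ofNat 0, Int.negSucc 1, Int.ofNat 0, Int.ofNat 0, Int.ofNat 2, Int.ofNat 0, Int.ofNat 2, Int.ofNat 0],
  [Int.ofNat 2, Int.ofNat 0, Int.ofNat 0, Int.ofNat 0, Int.ofNat 0, Int.negSucc 1, Int.ofNat 0, Int.negSucc 1, Int.ofNat 2, Int.ofNat 0, Int.ofNat 0, Int.ofNat 0, Int.ofNat 0, Int.ofNat 0, Int.ofNat 2, Int.ofNat 0, Int.ofNat 0, Int.negSucc 1, Int.ofNat 0, Int.ofNat 0, Int.ofNat 2, Int.ofNat 0, Int.negSucc 1, Int.ofNat 0],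
  [Int.ofNat 0, Int.ofNat 0, Int.ofNat 0, Int.ofNat 2, Int.ofNat 2, Int.ofNat 0, Int.ofNat 0, Int.ofNat 0, Int.negSucc 1, Int.ofNat 2, Int.ofNat 0, Int.negSucc 1, Int.ofNat 0, Int.ofNat 0, Int.negSucc 1, Int.ofNat 0, Int.ofNat 0, Int.ofNat 0, Int.ofNat 0, Int.ofNat 0, Int.ofNat 2, Int.ofNat 0, Int.negSucc 1, Int.ofNat 0],
  [Int.ofNat 0, Int.negSucc 1, Int.negSucc 1, Int.ofNat 0, Int.ofNat 0, Int.ofNat 2, Int.ofNat 0, Int.ofNat 0, Int.ofNat 2, Int.ofNat 0, Int.ofNat 0, Int.ofNat 0, Int.ofNat 0, Int.ofNat 0, Int.ofNat 0, Int.ofNat 2, Int.ofNat 0, Int.ofNat 2, Int.negSucc 1, Int.ofNat 0, Int.negSucc 1, Int.ofNat 0, Int.ofNat 0, Int.ofNat 0],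
  [Int.ofNat 0, Int.negSucc 1, Int.ofNat 2, Int.ofNat 0, Int.ofNat 0, Int.ofNat 2, Int.ofNat 0, Int.ofNat 0, Int.ofNat 2, Int.ofNat 0, Int.ofNat 0, Int.ofNat 0, Int.ofNat 0, Int.ofNat 0, Int.ofNat 0, Int.ofNat 2, Int.ofNat 0, Int.ofNat 2, Int.ofNat 2, Int.ofNat 0, Int.negSucc 1, Int.ofNat 0, Int.ofNat 0, Int.ofNat 0],
  [Int.ofNat 0, Int.ofNat 0, Int.negSucc 1, Int.ofNat 2, Int.ofNat 0, Int.ofNat 0, Int.ofNat 2, Int.ofNat 0, Int.ofNat 0, Int.ofNat 2, Int.ofNat 0, Int.ofNat 0, Int.ofNat 0, Int.ofNat 0, Int.ofNat 0, Int.ofNat 0, Int.ofNat 2, Int.ofNat 0, Int.ofNat 2, Int.ofNat 2, Int.ofNat 0, Int.negSucc 1, Int.ofNat 0, Int.ofNat 0],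
  [Int.negSucc 0, Int.negSucc 0, Int.ofNat 1, Int.ofNat 1, Int.negSucc 0, Int.negSucc 0, Int.ofNat 1, Int.negSucc 0, Int.negSucc 0, Int.ofNat 1, Int.negSucc 0, Int.negSucc 0, Int.negSucc 0, Int.negSucc 0, Int.negSucc 0, Int.negSucc 0, Int.ofNat 1, Int.negSucc 0, Int.ofNat 1, Int.ofNat 1, Int.negSucc 0, Int.negSucc 2, Int.negSucc 0, Int.negSucc 0],
  [Int.ofNat 1, Int.negSucc 0, Int.negSucc 0, Int.ofNat 1, Int.negSucc 0, Int.negSucc 0, Int.ofNat 1, Int.negSucc 0, Int.negSucc 0, Int.negSucc 0, Int.negSucc 0, Int.negSucc 0, Int.negSucc 0, Int.ofNat 1, Int.negSucc 0, Int.ofNat 1, Int.ofNat 1, Int.negSucc 0, Int.negSucc 2, Int.negSucc 0, Int.negSucc 0, Int.negSucc 0, Int.ofNat 1, Int.negSucc 0],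
  [Int.negSucc 1, Int.ofNat 0, Int.ofNat 0, Int.ofNat 2, Int.negSucc 1, Int.ofNat 0, Int.ofNat 2, Int.ofNat 0, Int.ofNat 2, Int.ofNat 0, Int.ofNat 0, Int.ofNat 2, Int.ofNat 2, Int.ofNat 0, Int.ofNat 0, Int.ofNat 2, Int.ofNat 0, Int.ofNat 0, Int.ofNat 0, Int.ofNat 0, Int.ofNat 0, Int.ofNat 0, Int.ofNat 0, Int.ofNat 0],
  [Int.negSucc 1, Int.ofNat 2, Int.negSucc 1, Int.ofNat 2, Int.ofNat 0, Int.ofNat 0, Int.ofNat 0, Int.ofNat 0, Int.ofNat 2, Int.ofNat 0, Int.ofNat 0, Int.ofNat 0, Int.ofNat 0, Int.ofNat 0, Int.ofNat 0, Int.ofNat 2, Int.ofNat 2, Int.ofNat 0, Int.ofNat 0, Int.ofNat 2, Int.ofNat 0, Int.ofNat 0, Int.ofNat 0, Int.ofNat 0],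
  [Int.ofNat 1, Int.negSucc 2, Int.ofNat 1, Int.ofNat 1, Int.negSucc 0, Int.negSucc 0, Int.negSucc 0, Int.negSucc 0, Int.ofNat 1, Int.negSucc 0, Int.negSucc 0, Int.negSucc 0, Int.negSucc 0, Int.negSucc 0, Int.negSucc 0, Int.ofNat 1, Int.ofNat 1, Int.negSucc 0, Int.negSucc 0, Int.ofNat 1, Int.negSucc 0, Int.negSucc 0, Int.negSucc 0, Int.negSucc 0],
  [Int.ofNat 1, Int.negSucc 2, Int.negSucc 0, Int.ofNat 1, Int.negSucc 0, Int.ofNat 1, Int.ofNat 1, Int.negSucc 0, Int.ofNat 1, Int.ofNat 1, Int.ofNat 1, Int.negSucc 0, Int.negSucc 0, Int.negSucc 0, Int.negSucc 0, Int.negSucc 0, Int.ofNat 1, Int.negSucc 0, Int.ofNat 1, Int.ofNat 1, Int.negSucc 0, Int.negSucc 0, Int.ofNat 1, Int.negSucc 0],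
  [Int.negSucc 0, Int.ofNat 1, Int.ofNat 1, Int.negSucc 0, Int.ofNat 1, Int.ofNat 1, Int.negSucc 0, Int.ofNat 1, Int.negSucc 0, Int.negSucc 0, Int.ofNat 1, Int.negSucc 0, Int.ofNat 1, Int.negSucc 0, Int.negSucc 0, Int.negSucc 0, Int.ofNat 1, Int.negSucc 2, Int.ofNat 1, Int.ofNat 1, Int.ofNat 1, Int.negSucc 0, Int.negSucc 0, Int.negSucc 0],
  [Int.negSucc 0, Int.ofNat 1, Int.negSucc 0, Int.negSucc 0, Int.ofNat 1, Int.negSucc 0, Int.ofNat 1, Int.ofNat 1, Int.negSucc 0, Int.ofNat 1, Int.negSucc 0, Int.negSucc 0, Int.ofNat 1, Int.negSucc 0, Int.negSucc 0, Int.ofNat 1, Int.ofNat 1, Int.negSucc 2, Int.negSucc 0, Int.ofNat 1, Int.ofNat 1, Int.negSucc 0, Int.ofNat 1, Int.negSucc 0],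
  [Int.ofNat 0, Int.negSucc 1, Int.ofNat 0, Int.ofNat 2, Int.ofNat 0, Int.ofNat 2, Int.ofNat 0, Int.ofNat 0, Int.ofNat 0, Int.ofNat 0, Int.negSucc 1, Int.ofNat 0, Int.ofNat 2, Int.negSucc 1, Int.ofNat 2, Int.ofNat 0, Int.ofNat 0, Int.ofNat 0, Int.ofNat 0, Int.ofNat 0, Int.ofNat 0, Int.negSucc 1, Int.ofNat 0, Int.ofNat 0],
  [Int.ofNat 0, Int.ofNat 0, Int.ofNat 0, Int.ofNat 2, Int.ofNat 0, Int.negSucc 1, Int.negSucc 1, Int.ofNat 2, Int.ofNat 0, Int.ofNat 2, Int.ofNat 0, Int.ofNat 0, Int.ofNat 0, Int.ofNat 0, Int.ofNat 0, Int.ofNat 0, Int.negSucc 1, Int.ofNat 0, Int.ofNat 0, Int.ofNat 0, Int.negSucc 1, Int.ofNat 0, Int.ofNat 2, Int.ofNat 0],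
  [Int.ofNat 0, Int.ofNat 0, Int.ofNat 0, Int.ofNat 2, Int.ofNat 0, Int.negSucc 1, Int.negSucc 1, Int.ofNat 2, Int.ofNat 0, Int.ofNat 2, Int.ofNat 0, Int.ofNat 0, Int.ofNat 0, Int.ofNat 0, Int.ofNat 0, Int.ofNat 0, Int.negSucc 1, Int.ofNat 0, Int.ofNat 0, Int.ofNat 0, Int.negSucc 1, Int.ofNat 0, Int.ofNat 2, Int.ofNat 0],
  [Int.negSucc 1, Int.ofNat 0, Int.ofNat 2, Int.ofNat 0, Int.ofNat 0, Int.ofNat 0, Int.ofNat 2, Int.ofNat 0, Int.negSucc 1, Int.negSucc 1, Int.ofNat 2, Int.ofNat 0, Int.ofNat 2, Int.ofNat 0, Int.ofNat 0, Int.ofNat 0, Int.ofNat 0, Int.ofNat 0, Int.ofNat 0, Int.negSucc 1, Int.ofNat 0, Int.ofNat 0, Int.ofNat 0, Int.ofNat 0],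
  [Int.ofNat 2, Int.ofNat 0, Int.negSucc 1, Int.ofNat 0, Int.ofNat 0, Int.ofNat 0, Int.ofNat 2, Int.ofNat 0, Int.negSucc 1, Int.negSucc 1, Int.ofNat 2, Int.ofNat 0, Int.ofNat 2, Int.ofNat 0, Int.ofNat 0, Int.ofNat 0, Int.ofNat 0, Int.ofNat 0, Int.ofNat 0, Int.negSucc 1, Int.ofNat 0, Int.ofNat 0, Int.ofNat 0, Int.ofNat 0],
  [Int.ofNat 0, Int.negSucc 1, Int.ofNat 0, Int.ofNat 0, Int.ofNat 0, Int.ofNat 2, Int.ofNat 0, Int.negSucc 1, Int.negSucc 1, Int.ofNat 2, Int.ofNat 0, Int.ofNat 2, Int.ofNat 0, Int.ofNat 0, Int.ofNat 0, Int.ofNat 0, Int.ofNat 0, Int.ofNat 0, Int.negSucc 1, Int.ofNat 0, Int.ofNat 0, Int.ofNat 0, Int.ofNat 2, Int.ofNat 0],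
  [Int.ofNat 0, Int.negSucc 1, Int.ofNat 0, Int.ofNat 0, Int.ofNat 0, Int.ofNat 2, Int.ofNat 0, Int.ofNat 2, Int.negSucc 1, Int.negSucc 1, Int.ofNat 0, Int.negSucc 1, Int.ofNat 0, Int.ofNat 0, Int.ofNat 0, Int.ofNat 0, Int.ofNat 0, Int.ofNat 0, Int.ofNat 2, Int.ofNat 0, Int.ofNat 0, Int.ofNat 0, Int.ofNat 2, Int.ofNat 0],
  [Int.ofNat 0, Int.ofNat 2, Int.ofNat 0, Int.ofNat 0, Int.ofNat 0, Int.ofNat 2, Int.ofNat 0, Int.ofNat 2, Int.ofNat 2, Int.ofNat 2, Int.ofNat 0, Int.negSucc 1, Int.ofNat 0, Int.ofNat 0, Int.ofNat 0, Int.ofNat 0, Int.ofNat 0, Int.ofNat 0, Int.negSucc 1, Int.ofNat 0, Int.ofNat 0, Int.ofNat 0, Int.ofNat 2, Int.ofNat 0],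
  [Int.ofNat 0, Int.ofNat 0, Int.negSucc 1, Int.ofNat 0, Int.ofNat 2, Int.ofNat 0, Int.ofNat 0, Int.ofNat 0, Int.ofNat 2, Int.ofNat 0, Int.ofNat 0, Int.ofNat 0, Int.ofNat 0, Int.ofNat 2, Int.ofNat 0, Int.ofNat 0, Int.ofNat 0, Int.ofNat 2, Int.ofNat 0, Int.ofNat 0, Int.ofNat 2, Int.ofNat 2, Int.negSucc 1, Int.ofNat 0],
  [Int.ofNat 0, Int.ofNat 0, Int.ofNat 2, Int.ofNat 0, Int.ofNat 2, Int.ofNat 0, Int.ofNat 0, Int.ofNat 0, Int.ofNat 2, Int.ofNat 0, Int.ofNat 0, Int.ofNat 0, Int.ofNat 0, Int.ofNat 2, Int.ofNat 0, Int.ofNat 0, Int.ofNat 0, Int.ofNat 2, Int.ofNat 0, Int.ofNat 0, Int.ofNat 2, Int.negSucc 1, Int.negSucc 1, Int.ofNat 0],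
  [Int.negSucc 1, Int.ofNat 0, Int.ofNat 0, Int.ofNat 2, Int.ofNat 0, Int.ofNat 2, Int.ofNat 0, Int.ofNat 0, Int.ofNat 0, Int.ofNat 2, Int.ofNat 0, Int.ofNat 0, Int.ofNat 0, Int.ofNat 0, Int.ofNat 2, Int.ofNat 0, Int.ofNat 0, Int.ofNat 0, Int.ofNat 2, Int.ofNat 0, Int.ofNat 0, Int.ofNat 2, Int.negSucc 1, Int.ofNat 0],
  [Int.ofNat 1, Int.negSucc 0, Int.negSucc 0, Int.negSucc 0, Int.ofNat 1, Int.negSucc 0, Int.negSucc 0, Int.negSucc 0, Int.negSucc 0, Int.ofNat 1, Int.negSucc 0, Int.negSucc 0, Int.negSucc 0, Int.ofNat 1, Int.negSucc 0, Int.negSucc 0, Int.ofNat 1, Int.negSucc 2, Int.ofNat 1, Int.negSucc 0, Int.negSucc 0, Int.ofNat 1, Int.negSucc 0, Int.negSucc 0],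
  [Int.negSucc 0, Int.ofNat 1, Int.negSucc 0, Int.negSucc 0, Int.negSucc 0, Int.negSucc 0, Int.ofNat 1, Int.negSucc 0, Int.negSucc 0, Int.negSucc 0, Int.ofNat 1, Int.negSucc 0, Int.negSucc 0, Int.ofNat 1, Int.negSucc 2, Int.ofNat 1, Int.negSucc 0, Int.negSucc 0, Int.ofNat 1, Int.negSucc 0, Int.ofNat 1, Int.negSucc 0, Int.negSucc 0, Int.negSucc 0],
  [Int.ofNat 0, Int.negSucc 1, Int.ofNat 0, Int.ofNat 2, Int.ofNat 0, Int.ofNat 2, Int.ofNat 2, Int.ofNat 0, Int.ofNat 0, Int.negSucc 1, Int.ofNat 0, Int.ofNat 0, Int.ofNat 0, Int.ofNat 2, Int.ofNat 0, Int.ofNat 0, Int.ofNat 0, Int.ofNat 2, Int.ofNat 2, Int.ofNat 0, Int.ofNat 0, Int.ofNat 0, Int.ofNat 0, Int.ofNat 0],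
  [Int.ofNat 0, Int.ofNat 2, Int.ofNat 0, Int.ofNat 2, Int.ofNat 2, Int.ofNat 0, Int.ofNat 0, Int.ofNat 0, Int.ofNat 0, Int.ofNat 2, Int.ofNat 0, Int.ofNat 2, Int.negSucc 1, Int.ofNat 0, Int.ofNat 0, Int.ofNat 0, Int.ofNat 0, Int.ofNat 0, Int.negSucc 1, Int.ofNat 0, Int.ofNat 0, Int.ofNat 2, Int.ofNat 0, Int.ofNat 0],
  [Int.ofNat 1, Int.negSucc 0, Int.ofNat 1, Int.ofNat 1, Int.ofNat 1, Int.negSucc 0, Int.negSucc 0, Int.negSucc 0, Int.ofNat 1, Int.ofNat 1, Int.negSucc 0, Int.ofNat 3, Int.negSucc 0, Int.negSucc 0, Int.negSucc 0, Int.negSucc 0, Int.negSucc 0, Int.negSucc 0, Int.negSucc 0, Int.negSucc 0, Int.negSucc 0, Int.ofNat 1, Int.negSucc 0, Int.ofNat 1],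
  [Int.ofNat 1, Int.negSucc 0, Int.negSucc 0, Int.ofNat 1, Int.ofNat 1, Int.ofNat 1, Int.ofNat 1, Int.negSucc 0, Int.ofNat 1, Int.negSucc 0, Int.ofNat 1, Int.ofNat 3, Int.negSucc 0, Int.negSucc 0, Int.negSucc 0, Int.ofNat 1, Int.negSucc 0, Int.negSucc 0, Int.ofNat 1, Int.negSucc 0, Int.negSucc 0, Int.ofNat 1, Int.ofNat 1, Int.ofNat 1],
  [Int.ofNat 1, Int.negSucc 0, Int.ofNat 3, Int.ofNat 1, Int.negSucc 0, Int.ofNat 1, Int.ofNat 1, Int.ofNat 1, Int.ofNat 1, Int.negSucc 0, Int.negSucc 0, Int.negSucc 0, Int.ofNat 1, Int.ofNat 1, Int.negSucc 0, Int.ofNat 1, Int.negSucc 0, Int.negSucc 0, Int.negSucc 0, Int.negSucc 0, Int.ofNat 1, Int.negSucc 0, Int.ofNat 1, Int.ofNat 1],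
  [Int.ofNat 1, Int.ofNat 1, Int.negSucc 0, Int.ofNat 1, Int.negSucc 0, Int.negSucc 0, Int.negSucc 0, Int.ofNat 1, Int.ofNat 1, Int.ofNat 1, Int.negSucc 0, Int.ofNat 3, Int.negSucc 0, Int.ofNat 1, Int.negSucc 0, Int.ofNat 1, Int.negSucc 0, Int.negSucc 0, Int.negSucc 0, Int.ofNat 1, Int.ofNat 1, Int.ofNat 1, Int.negSucc 0, Int.ofNat 1],
  [Int.negSucc 0, Int.ofNat 1, Int.ofNat 1, Int.ofNat 1, Int.negSucc 0, Int.negSucc 0, Int.negSucc 0, Int.negSucc 0, Int.ofNat 1, Int.negSucc 0, Int.ofNat 1, Int.negSucc 2, Int.negSucc 0, Int.ofNat 1, Int.negSucc 0, Int.ofNat 1, Int.negSucc 0, Int.negSucc 0, Int.ofNat 1, Int.ofNat 1, Int.ofNat 1, Int.negSucc 0, Int.negSucc 0, Int.ofNat 1],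
  [Int.negSucc 0, Int.negSucc 0, Int.ofNat 1, Int.ofNat 1, Int.ofNat 1, Int.negSucc 0, Int.negSucc 0, Int.negSucc 0, Int.negSucc 0, Int.ofNat 1, Int.negSucc 0, Int.ofNat 1, Int.negSucc 2, Int.negSucc 0, Int.ofNat 1, Int.negSucc 0, Int.ofNat 1, Int.negSucc 0, Int.negSucc 0, Int.ofNat 1, Int.ofNat 1, Int.ofNat 1, Int.negSucc 0, Int.ofNat 1],
  [Int.ofNat 1, Int.ofNat 1, Int.negSucc 0, Int.ofNat 1, Int.ofNat 1, Int.negSucc 0, Int.negSucc 0, Int.negSucc 0, Int.ofNat 1, Int.ofNat 1, Int.negSucc 0, Int.ofNat 3, Int.negSucc 0, Int.negSucc 0, Int.ofNat 1, Int.negSucc 0, Int.ofNat 1, Int.negSucc 0, Int.ofNat 1, Int.ofNat 1, Int.ofNat 1, Int.ofNat 1, Int.negSucc 0, Int.negSucc 0],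
  [Int.ofNat 1, Int.ofNat 1, Int.negSucc 0, Int.negSucc 0, Int.negSucc 0, Int.ofNat 1, Int.ofNat 1, Int.negSucc 0, Int.ofNat 3, Int.negSucc 0, Int.negSucc 0, Int.ofNat 1, Int.negSucc 0, Int.ofNat 1, Int.negSucc 0, Int.ofNat 1, Int.ofNat 1, Int.ofNat 1, Int.ofNat 1, Int.negSucc 0, Int.ofNat 1, Int.ofNat 1, Int.negSucc 0, Int.negSucc 0],
  [Int.negSucc 0, Int.negSucc 0, Int.ofNat 1, Int.negSucc 0, Int.negSucc 0, Int.ofNat 1, Int.ofNat 1, Int.negSucc 0, Int.ofNat 1, Int.negSucc 0, Int.negSucc 0, Int.negSucc 0, Int.negSucc 2, Int.ofNat 1, Int.negSucc 0, Int.ofNat 1, Int.ofNat 1, Int.ofNat 1, Int.negSucc 0, Int.negSucc 0, Int.ofNat 1, Int.ofNat 1, Int.negSucc 0, Int.ofNat 1],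
  [Int.negSucc 0, Int.ofNat 1, Int.negSucc 0, Int.negSucc 0, Int.negSucc 0, Int.negSucc 0, Int.ofNat 1, Int.negSucc 0, Int.negSucc 2, Int.ofNat 1, Int.ofNat 1, Int.ofNat 1, Int.negSucc 0, Int.ofNat 1, Int.negSucc 0, Int.ofNat 1, Int.ofNat 1, Int.negSucc 0, Int.negSucc 0, Int.negSucc 0, Int.ofNat 1, Int.ofNat 1, Int.negSucc 0, Int.ofNat 1],
  [Int.ofNat 1, Int.negSucc 0, Int.ofNat 1, Int.ofNat 1, Int.negSucc 0, Int.ofNat 1, Int.ofNat 1, Int.negSucc 0, Int.negSucc 0, Int.negSucc 0, Int.negSucc 0, Int.ofNat 3, Int.ofNat 1, Int.ofNat 1, Int.ofNat 1, Int.negSucc 0, Int.ofNat 1, Int.ofNat 1, Int.ofNat 1, Int.negSucc 0, Int.negSucc 0, Int.ofNat 1, Int.negSucc 0, Int.negSucc 0],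
  [Int.ofNat 1, Int.negSucc 0, Int.negSucc 0, Int.ofNat 1, Int.negSucc 0, Int.negSucc 0, Int.negSucc 0, Int.negSucc 0, Int.negSucc 0, Int.ofNat 1, Int.ofNat 1, Int.ofNat 3, Int.ofNat 1, Int.ofNat 1, Int.ofNat 1, Int.ofNat 1, Int.ofNat 1, Int.ofNat 1, Int.negSucc 0, Int.negSucc 0, Int.negSucc 0, Int.ofNat 1, Int.ofNat 1, Int.negSucc 0],
  [Int.ofNat 1, Int.negSucc 0, Int.negSucc 0, Int.ofNat 1, Int.ofNat 1, Int.negSucc 0, Int.ofNat 1, Int.ofNat 1, Int.ofNat 1, Int.ofNat 3, Int.ofNat 1, Int.negSucc 0, Int.ofNat 1, Int.ofNat 1, Int.negSucc 0, Int.negSucc 0, Int.negSucc 0, Int.negSucc 0, Int.ofNat 1, Int.ofNat 1, Int.negSucc 0, Int.negSucc 0, Int.ofNat 1, Int.negSucc 0],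
  [Int.ofNat 1, Int.negSucc 0, Int.ofNat 1, Int.ofNat 1, Int.ofNat 1, Int.ofNat 1, Int.negSucc 0, Int.ofNat 1, Int.ofNat 1, Int.negSucc 2, Int.negSucc 0, Int.negSucc 0, Int.ofNat 1, Int.ofNat 1, Int.negSucc 0, Int.ofNat 1, Int.negSucc 0, Int.negSucc 0, Int.negSucc 0, Int.ofNat 1, Int.negSucc 0, Int.negSucc 0, Int.negSucc 0, Int.negSucc 0],
  [Int.negSucc 0, Int.ofNat 1, Int.negSucc 0, Int.ofNat 1, Int.ofNat 1, Int.ofNat 1, Int.negSucc 0, Int.ofNat 1, Int.ofNat 1, Int.negSucc 0, Int.ofNat 1, Int.negSucc 0, Int.ofNat 1, Int.ofNat 1, Int.negSucc 0, Int.ofNat 3, Int.negSucc 0, Int.negSucc 0, Int.negSucc 0, Int.ofNat 1, Int.ofNat 1, Int.negSucc 0, Int.negSucc 0, Int.ofNat 1],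
  [Int.negSucc 0, Int.negSucc 0, Int.negSucc 0, Int.ofNat 1, Int.negSucc 0, Int.negSucc 0, Int.ofNat 1, Int.ofNat 1, Int.negSucc 0, Int.ofNat 1, Int.ofNat 1, Int.ofNat 1, Int.ofNat 1, Int.negSucc 0, Int.negSucc 0, Int.ofNat 3, Int.ofNat 1, Int.negSucc 0, Int.ofNat 1, Int.negSucc 0, Int.ofNat 1, Int.ofNat 1, Int.negSucc 0, Int.ofNat 1],
  [Int.ofNat 0, Int.ofNat 0, Int.ofNat 0, Int.ofNat 2, Int.ofNat 0, Int.ofNat 0, Int.ofNat 0, Int.ofNat 0, Int.negSucc 1, Int.negSucc 1, Int.negSucc 1, Int.ofNat 0, Int.ofNat 0, Int.ofNat 0, Int.ofNat 0, Int.ofNat 0, Int.ofNat 2, Int.ofNat 0, Int.ofNat 0, Int.negSucc 1, Int.negSucc 1, Int.ofNat 0, Int.ofNat 0, Int.negSucc 1],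
  [Int.negSucc 1, Int.ofNat 0, Int.ofNat 0, Int.ofNat 0, Int.ofNat 0, Int.ofNat 0, Int.ofNat 2, Int.ofNat 0, Int.ofNat 0, Int.ofNat 0, Int.ofNat 0, Int.negSucc 1, Int.negSucc 1, Int.negSucc 1, Int.ofNat 0, Int.ofNat 0, Int.ofNat 0, Int.ofNat 0, Int.ofNat 0, Int.ofNat 2, Int.ofNat 0, Int.ofNat 0, Int.negSucc 1, Int.negSucc 1],
  [Int.ofNat 0, Int.negSucc 1, Int.negSucc 1, Int.ofNat 0, Int.ofNat 2, Int.ofNat 0, Int.ofNat 0, Int.negSucc 1, Int.ofNat 2, Int.ofNat 0, Int.ofNat 0, Int.ofNat 0, Int.ofNat 0, Int.ofNat 0, Int.ofNat 0, Int.ofNat 0, Int.ofNat 2, Int.ofNat 0, Int.ofNat 2, Int.ofNat 0, Int.ofNat 0, Int.negSucc 1, Int.ofNat 0, Int.ofNat 0],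
  [Int.negSucc 1, Int.negSucc 1, Int.ofNat 0, Int.ofNat 2, Int.ofNat 0, Int.ofNat 0, Int.negSucc 1, Int.ofNat 2, Int.ofNat 0, Int.ofNat 0, Int.ofNat 0, Int.ofNat 0, Int.ofNat 0, Int.ofNat 0, Int.ofNat 0, Int.ofNat 2, Int.ofNat 0, Int.ofNat 2, Int.ofNat 0, Int.ofNat 0, Int.negSucc 1, Int.ofNat 0, Int.ofNat 0, Int.ofNat 0],
  [Int.ofNat 2, Int.negSucc 1, Int.ofNat 0, Int.ofNat 2, Int.ofNat 0, Int.ofNat 0, Int.negSucc 1, Int.negSucc 1, Int.ofNat 0, Int.ofNat 0, Int.ofNat 0, Int.ofNat 0, Int.ofNat 0, Int.ofNat 0, Int.ofNat 0, Int.ofNat 2, Int.ofNat 0, Int.ofNat 2, Int.ofNat 0, Int.ofNat 0, Int.negSucc 1, Int.ofNat 0, Int.ofNat 0, Int.ofNat 0],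
  [Int.negSucc 1, Int.ofNat 2, Int.ofNat 0, Int.negSucc 1, Int.ofNat 0, Int.ofNat 0, Int.ofNat 2, Int.negSucc 1, Int.ofNat 0, Int.ofNat 0, Int.ofNat 0, Int.ofNat 0, Int.ofNat 0, Int.ofNat 0, Int.ofNat 0, Int.ofNat 2, Int.ofNat 0, Int.ofNat 2, Int.ofNat 0, Int.ofNat 0, Int.negSucc 1, Int.ofNat 0, Int.ofNat 0, Int.ofNat 0],
  [Int.negSucc 1, Int.ofNat 0, Int.ofNat 0, Int.negSucc 1, Int.ofNat 2, Int.ofNat 0, Int.ofNat 0, Int.negSucc 1, Int.ofNat 0, Int.ofNat 0, Int.ofNat 0, Int.ofNat 0, Int.ofNat 0, Int.ofNat 0, Int.ofNat 0, Int.ofNat 2, Int.ofNat 0, Int.ofNat 0, Int.ofNat 2, Int.ofNat 2, Int.ofNat 0, Int.negSucc 1, Int.ofNat 0, Int.ofNat 0],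
  [Int.ofNat 2, Int.ofNat 0, Int.ofNat 0, Int.negSucc 1, Int.ofNat 2, Int.ofNat 0, Int.ofNat 0, Int.ofNat 2, Int.ofNat 0, Int.ofNat 0, Int.ofNat 0, Int.ofNat 0, Int.ofNat 0, Int.ofNat 0, Int.ofNat 0, Int.ofNat 2, Int.ofNat 0, Int.ofNat 0, Int.negSucc 1, Int.ofNat 2, Int.ofNat 0, Int.ofNat 2, Int.ofNat 0, Int.ofNat 0],
  [Int.ofNat 0, Int.ofNat 2, Int.ofNat 0, Int.ofNat 0, Int.negSucc 1, Int.ofNat 2, Int.ofNat 0, Int.ofNat 0, Int.ofNat 2, Int.ofNat 0, Int.ofNat 0, Int.ofNat 0, Int.ofNat 0, Int.ofNat 0, Int.ofNat 0, Int.ofNat 0, Int.ofNat 2, Int.ofNat 0, Int.ofNat 0, Int.negSucc 1, Int.ofNat 2, Int.ofNat 0, Int.ofNat 2, Int.ofNat 0],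
  [Int.ofNat 1, Int.negSucc 0, Int.ofNat 1, Int.negSucc 0, Int.negSucc 2, Int.ofNat 1, Int.ofNat 1, Int.ofNat 1, Int.ofNat 1, Int.negSucc 0, Int.negSucc 0, Int.negSucc 0, Int.negSucc 0, Int.negSucc 0, Int.negSucc 0, Int.negSucc 0, Int.ofNat 1, Int.negSucc 0, Int.negSucc 0, Int.negSucc 0, Int.ofNat 1, Int.ofNat 1, Int.ofNat 1, Int.ofNat 1],
  [Int.negSucc 0, Int.negSucc 2, Int.ofNat 1, Int.ofNat 1, Int.ofNat 1, Int.ofNat 1, Int.negSucc 0, Int.negSucc 0, Int.negSucc 0, Int.negSucc 0, Int.negSucc 0, Int.negSucc 0, Int.negSucc 0, Int.ofNat 1, Int.negSucc 0, Int.negSucc 0, Int.negSucc 0, Int.ofNat 1, Int.ofNat 1, Int.ofNat 1, Int.ofNat 1, Int.negSucc 0, Int.ofNat 1, Int.ofNat 1],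
  [Int.ofNat 0, Int.ofNat 2, Int.negSucc 1, Int.ofNat 0, Int.ofNat 0, Int.ofNat 0, Int.ofNat 0, Int.ofNat 0, Int.ofNat 0, Int.ofNat 0, Int.ofNat 0, Int.ofNat 0, Int.ofNat 0, Int.ofNat 0, Int.negSucc 1, Int.ofNat 0, Int.negSucc 1, Int.ofNat 0, Int.ofNat 2, Int.ofNat 2, Int.ofNat 2, Int.ofNat 0, Int.ofNat 0, Int.negSucc 1],
  [Int.ofNat 0, Int.ofNat 0, Int.ofNat 0, Int.ofNat 0, Int.ofNat 2, Int.ofNat 0, Int.negSucc 1, Int.ofNat 0, Int.ofNat 0, Int.ofNat 0, Int.ofNat 2, Int.ofNat 0, Int.ofNat 0, Int.negSucc 1, Int.ofNat 0, Int.ofNat 0, Int.ofNat 0, Int.negSucc 1, Int.ofNat 2, Int.ofNat 0, Int.ofNat 0, Int.ofNat 0, Int.ofNat 2, Int.negSucc 1],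
  [Int.negSucc 0, Int.negSucc 0, Int.negSucc 0, Int.ofNat 1, Int.ofNat 1, Int.ofNat 1, Int.negSucc 0, Int.ofNat 1, Int.negSucc 0, Int.negSucc 0, Int.ofNat 1, Int.negSucc 0, Int.negSucc 0, Int.negSucc 2, Int.ofNat 1, Int.negSucc 0, Int.negSucc 0, Int.negSucc 0, Int.ofNat 1, Int.ofNat 1, Int.negSucc 0, Int.ofNat 1, Int.ofNat 1, Int.ofNat 1],
  [Int.negSucc 0, Int.negSucc 0, Int.ofNat 1, Int.ofNat 1, Int.ofNat 1, Int.negSucc 0, Int.ofNat 1, Int.ofNat 1, Int.negSucc 0, Int.ofNat 1, Int.negSucc 0, Int.negSucc 0, Int.negSucc 0, Int.negSucc 2, Int.ofNat 1, Int.ofNat 1, Int.negSucc 0, Int.negSucc 0, Int.negSucc 0, Int.ofNat 1, Int.negSucc 0, Int.ofNat 1, Int.negSucc 0, Int.ofNat 1],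
  [Int.negSucc 0, Int.negSucc 0, Int.negSucc 0, Int.negSucc 0, Int.ofNat 1, Int.ofNat 1, Int.ofNat 1, Int.ofNat 1, Int.negSucc 0, Int.negSucc 0, Int.negSucc 2, Int.ofNat 1, Int.ofNat 1, Int.ofNat 1, Int.negSucc 0, Int.negSucc 0, Int.ofNat 1, Int.negSucc 0, Int.ofNat 1, Int.ofNat 1, Int.negSucc 0, Int.negSucc 0, Int.negSucc 0, Int.ofNat 1],
  [Int.ofNat 1, Int.negSucc 0, Int.ofNat 1, Int.negSucc 0, Int.negSucc 0, Int.negSucc 0, Int.ofNat 1, Int.ofNat 1, Int.negSucc 0, Int.ofNat 1, Int.ofNat 1, Int.negSucc 0, Int.negSucc 0, Int.ofNat 1, Int.ofNat 1, Int.negSucc 0, Int.negSucc 2, Int.ofNat 1, Int.negSucc 0, Int.ofNat 1, Int.negSucc 0, Int.ofNat 1, Int.negSucc 0, Int.negSucc 0],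
  [Int.negSucc 0, Int.negSucc 0, Int.negSucc 0, Int.negSucc 0, Int.negSucc 0, Int.negSucc 0, Int.ofNat 1, Int.negSucc 0, Int.negSucc 0, Int.negSucc 0, Int.negSucc 0, Int.ofNat 1, Int.negSucc 0, Int.ofNat 1, Int.ofNat 1, Int.negSucc 0, Int.negSucc 2, Int.ofNat 1, Int.ofNat 1, Int.ofNat 1, Int.negSucc 0, Int.negSucc 0, Int.negSucc 0, Int.negSucc 0],
  [Int.negSucc 0, Int.negSucc 0, Int.negSucc 0, Int.negSucc 0, Int.negSucc 0, Int.negSucc 0, Int.negSucc 0, Int.ofNat 1, Int.negSucc 0, Int.negSucc 0, Int.negSucc 0, Int.negSucc 0, Int.ofNat 1, Int.negSucc 0, Int.ofNat 1, Int.ofNat 1, Int.negSucc 0, Int.negSucc 2, Int.ofNat 1, Int.ofNat 1, Int.ofNat 1, Int.negSucc 0, Int.negSucc 0, Int.negSucc 0],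
  [Int.negSucc 0, Int.negSucc 0, Int.negSucc 0, Int.ofNat 1, Int.ofNat 1, Int.ofNat 1, Int.negSucc 0, Int.ofNat 1, Int.negSucc 0, Int.negSucc 0, Int.negSucc 0, Int.negSucc 0, Int.ofNat 1, Int.ofNat 1, Int.ofNat 3, Int.ofNat 1, Int.ofNat 1, Int.negSucc 0, Int.ofNat 1, Int.ofNat 1, Int.ofNat 1, Int.negSucc 0, Int.ofNat 1, Int.negSucc 0],
  [Int.ofNat 1, Int.ofNat 1, Int.ofNat 1, Int.negSucc 0, Int.ofNat 1, Int.negSucc 0, Int.negSucc 0, Int.negSucc 0, Int.negSucc 0, Int.ofNat 1, Int.ofNat 1, Int.ofNat 3, Int.ofNat 1, Int.ofNat 1, Int.negSucc 0, Int.ofNat 1, Int.ofNat 1, Int.ofNat 1, Int.negSucc 0, Int.ofNat 1, Int.negSucc 0, Int.negSucc 0, Int.negSucc 0, Int.negSucc 0],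
  [Int.ofNat 0, Int.ofNat 0, Int.ofNat 0, Int.ofNat 0, Int.ofNat 0, Int.ofNat 0, Int.ofNat 0, Int.ofNat 0, Int.negSucc 1, Int.ofNat 0, Int.ofNat 0, Int.ofNat 2, Int.ofNat 0, Int.ofNat 0, Int.ofNat 0, Int.ofNat 0, Int.ofNat 0, Int.ofNat 2, Int.negSucc 1, Int.ofNat 2, Int.negSucc 1, Int.ofNat 0, Int.negSucc 1, Int.ofNat 2],
  [Int.ofNat 0, Int.ofNat 0, Int.ofNat 0, Int.ofNat 0, Int.negSucc 1, Int.ofNat 0, Int.ofNat 0, Int.ofNat 0, Int.ofNat 0, Int.ofNat 0, Int.negSucc 1, Int.ofNat 2, Int.ofNat 0, Int.ofNat 0, Int.negSucc 1, Int.ofNat 0, Int.negSucc 1, Int.ofNat 0, Int.ofNat 0, Int.ofNat 2, Int.ofNat 0, Int.ofNat 0, Int.ofNat 2, Int.ofNat 2],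
  [Int.ofNat 1, Int.ofNat 1, Int.ofNat 1, Int.ofNat 1, Int.negSucc 0, Int.ofNat 1, Int.negSucc 0, Int.negSucc 0, Int.negSucc 0, Int.ofNat 1, Int.negSucc 0, Int.ofNat 1, Int.negSucc 0, Int.ofNat 1, Int.negSucc 0, Int.ofNat 1, Int.negSucc 0, Int.ofNat 1, Int.negSucc 0, Int.ofNat 1, Int.ofNat 1, Int.negSucc 0, Int.ofNat 3, Int.negSucc 0],
  [Int.ofNat 1, Int.ofNat 1, Int.negSucc 0, Int.ofNat 1, Int.negSucc 0, Int.negSucc 0, Int.ofNat 1, Int.negSucc 0, Int.negSucc 0, Int.negSucc 0, Int.ofNat 1, Int.ofNat 1, Int.negSucc 0, Int.ofNat 1, Int.negSucc 0, Int.negSucc 0, Int.negSucc 0, Int.ofNat 1, Int.ofNat 1, Int.ofNat 1, Int.ofNat 1, Int.negSucc 0, Int.negSucc 2, Int.negSucc 0],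
  [Int.negSucc 0, Int.ofNat 1, Int.negSucc 0, Int.ofNat 1, Int.ofNat 1, Int.ofNat 1, Int.negSucc 0, Int.negSucc 0, Int.ofNat 1, Int.ofNat 1, Int.ofNat 1, Int.ofNat 1, Int.negSucc 0, Int.negSucc 0, Int.negSucc 0, Int.negSucc 0, Int.negSucc 0, Int.ofNat 1, Int.negSucc 2, Int.ofNat 1, Int.ofNat 1, Int.negSucc 0, Int.negSucc 0, Int.negSucc 0],
  [Int.negSucc 0, Int.ofNat 1, Int.ofNat 1, Int.ofNat 1, Int.ofNat 1, Int.negSucc 0, Int.ofNat 1, Int.negSucc 0, Int.ofNat 1, Int.negSucc 0, Int.negSucc 0, Int.ofNat 1, Int.negSucc 0, Int.negSucc 0, Int.negSucc 0, Int.ofNat 1, Int.negSucc 0, Int.ofNat 1, Int.ofNat 3, Int.ofNat 1, Int.ofNat 1, Int.negSucc 0, Int.ofNat 1, Int.negSucc 0],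
  [Int.ofNat 1, Int.negSucc 0, Int.negSucc 0, Int.ofNat 1, Int.ofNat 1, Int.negSucc 0, Int.ofNat 1, Int.negSucc 0, Int.negSucc 0, Int.negSucc 0, Int.negSucc 0, Int.negSucc 0, Int.negSucc 2, Int.negSucc 0, Int.negSucc 0, Int.ofNat 1, Int.negSucc 0, Int.ofNat 1, Int.ofNat 1, Int.ofNat 1, Int.ofNat 1, Int.negSucc 0, Int.ofNat 1, Int.ofNat 1],
  [Int.ofNat 1, Int.ofNat 1, Int.ofNat 1, Int.ofNat 1, Int.negSucc 0, Int.negSucc 0, Int.negSucc 0, Int.negSucc 0, Int.negSucc 0, Int.negSucc 2, Int.negSucc 0, Int.ofNat 1, Int.negSucc 0, Int.negSucc 0, Int.ofNat 1, Int.ofNat 1, Int.negSucc 0, Int.negSucc 0, Int.ofNat 1, Int.ofNat 1, Int.negSucc 0, Int.ofNat 1, Int.negSucc 0, Int.ofNat 1],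
  [Int.ofNat 1, Int.ofNat 1, Int.ofNat 1, Int.ofNat 1, Int.ofNat 1, Int.negSucc 0, Int.negSucc 0, Int.negSucc 0, Int.negSucc 0, Int.negSucc 0, Int.ofNat 1, Int.ofNat 1, Int.negSucc 0, Int.ofNat 1, Int.ofNat 1, Int.ofNat 3, Int.ofNat 1, Int.negSucc 0, Int.ofNat 1, Int.ofNat 1, Int.ofNat 1, Int.ofNat 1, Int.ofNat 1, Int.ofNat 1],
  [Int.ofNat 1, Int.ofNat 1, Int.ofNat 1, Int.ofNat 1, Int.ofNat 1, Int.ofNat 1, Int.ofNat 1, Int.ofNat 1, Int.negSucc 0, Int.negSucc 0, Int.negSucc 0, Int.negSucc 0, Int.negSucc 0, Int.ofNat 1, Int.ofNat 1, Int.negSucc 0, Int.ofNat 1, Int.ofNat 1, Int.ofNat 3, Int.ofNat 1, Int.negSucc 0, Int.ofNat 1, Int.ofNat 1, Int.ofNat 1],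
  [Int.ofNat 1, Int.ofNat 1, Int.ofNat 1, Int.negSucc 0, Int.negSucc 0, Int.negSucc 0, Int.negSucc 0, Int.negSucc 0, Int.negSucc 0, Int.ofNat 1, Int.ofNat 1, Int.negSucc 0, Int.negSucc 0, Int.negSucc 0, Int.negSucc 0, Int.ofNat 1, Int.negSucc 0, Int.negSucc 0, Int.ofNat 3, Int.negSucc 0, Int.ofNat 1, Int.negSucc 0, Int.negSucc 0, Int.ofNat 1],
  [Int.ofNat 1, Int.ofNat 1, Int.negSucc 0, Int.negSucc 0, Int.negSucc 0, Int.negSucc 0, Int.negSucc 0, Int.negSucc 0, Int.ofNat 1, Int.ofNat 1, Int.negSucc 0, Int.negSucc 0, Int.negSucc 0, Int.negSucc 0, Int.ofNat 1, Int.negSucc 0, Int.negSucc 0, Int.ofNat 3, Int.negSucc 0, Int.ofNat 1, Int.negSucc 0, Int.negSucc 0, Int.ofNat 1, Int.ofNat 1],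
  [Int.negSucc 0, Int.ofNat 1, Int.ofNat 1, Int.negSucc 0, Int.negSucc 0, Int.negSucc 0, Int.negSucc 0, Int.ofNat 1, Int.ofNat 1, Int.negSucc 0, Int.ofNat 1, Int.ofNat 1, Int.negSucc 0, Int.negSucc 0, Int.ofNat 1, Int.negSucc 0, Int.negSucc 0, Int.ofNat 3, Int.ofNat 1, Int.ofNat 1, Int.negSucc 0, Int.ofNat 1, Int.ofNat 1, Int.ofNat 1],
  [Int.ofNat 1, Int.negSucc 0, Int.negSucc 0, Int.ofNat 1, Int.ofNat 1, Int.negSucc 0, Int.ofNat 1, Int.ofNat 1, Int.negSucc 0, Int.ofNat 1, Int.ofNat 1, Int.ofNat 1, Int.ofNat 1, Int.ofNat 1, Int.ofNat 1, Int.negSucc 0, Int.ofNat 1, Int.ofNat 3, Int.negSucc 0, Int.ofNat 1, Int.negSucc 0, Int.ofNat 1, Int.ofNat 1, Int.ofNat 1],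
  [Int.ofNat 1, Int.negSucc 0, Int.negSucc 0, Int.ofNat 1, Int.negSucc 0, Int.ofNat 1, Int.ofNat 1, Int.negSucc 0, Int.ofNat 1, Int.ofNat 1, Int.ofNat 1, Int.ofNat 1, Int.ofNat 1, Int.negSucc 0, Int.ofNat 1, Int.negSucc 0, Int.ofNat 1, Int.ofNat 1, Int.ofNat 1, Int.ofNat 3, Int.negSucc 0, Int.ofNat 1, Int.ofNat 1, Int.ofNat 1],
  [Int.negSucc 0, Int.negSucc 0, Int.ofNat 1, Int.ofNat 1, Int.negSucc 0, Int.ofNat 1, Int.ofNat 1, Int.ofNat 1, Int.ofNat 1, Int.negSucc 0, Int.negSucc 0, Int.negSucc 0, Int.ofNat 1, Int.negSucc 0, Int.ofNat 1, Int.negSucc 0, Int.ofNat 1, Int.ofNat 1, Int.negSucc 0, Int.ofNat 3, Int.negSucc 0, Int.negSucc 0, Int.ofNat 1, Int.ofNat 1],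
  [Int.ofNat 1, Int.negSucc 0, Int.negSucc 0, Int.ofNat 1, Int.ofNat 1, Int.negSucc 0, Int.ofNat 1, Int.ofNat 1, Int.ofNat 1, Int.ofNat 1, Int.negSucc 0, Int.negSucc 0, Int.negSucc 0, Int.ofNat 1, Int.negSucc 0, Int.ofNat 1, Int.negSucc 0, Int.ofNat 1, Int.ofNat 1, Int.negSucc 0, Int.ofNat 3, Int.negSucc 0, Int.negSucc 0, Int.ofNat 1],
  [Int.negSucc 0, Int.ofNat 1, Int.ofNat 1, Int.ofNat 1, Int.ofNat 1, Int.negSucc 0, Int.ofNat 1, Int.ofNat 1, Int.ofNat 1, Int.negSucc 0, Int.negSucc 2, Int.negSucc 0, Int.negSucc 0, Int.ofNat 1, Int.negSucc 0, Int.negSucc 0, Int.negSucc 0, Int.ofNat 1, Int.ofNat 1, Int.negSucc 0, Int.ofNat 1, Int.negSucc 0, Int.negSucc 0, Int.negSucc 0],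
  [Int.ofNat 1, Int.ofNat 1, Int.negSucc 0, Int.ofNat 1, Int.ofNat 1, Int.ofNat 1, Int.negSucc 0, Int.negSucc 2, Int.negSucc 0, Int.negSucc 0, Int.ofNat 1, Int.negSucc 0, Int.negSucc 0, Int.negSucc 0, Int.ofNat 1, Int.ofNat 1, Int.negSucc 0, Int.ofNat 1, Int.negSucc 0, Int.negSucc 0, Int.negSucc 0, Int.ofNat 1, Int.ofNat 1, Int.negSucc 0],
  [Int.negSucc 0, Int.negSucc 0, Int.ofNat 1, Int.negSucc 0, Int.ofNat 1, Int.negSucc 0, Int.ofNat 1, Int.negSucc 0, Int.ofNat 1, Int.negSucc 0, Int.ofNat 1, Int.ofNat 1, Int.ofNat 1, Int.negSucc 0, Int.negSucc 0, Int.ofNat 1, Int.negSucc 0, Int.negSucc 0, Int.ofNat 1, Int.ofNat 1, Int.negSucc 0, Int.ofNat 3, Int.ofNat 1, Int.ofNat 1],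
  [Int.negSucc 0, Int.ofNat 1, Int.ofNat 1, Int.negSucc 0, Int.ofNat 1, Int.negSucc 0, Int.ofNat 1, Int.ofNat 1, Int.ofNat 1, Int.negSucc 0, Int.negSucc 0, Int.negSucc 0, Int.negSucc 0, Int.negSucc 0, Int.ofNat 1, Int.ofNat 1, Int.ofNat 1, Int.negSucc 0, Int.negSucc 0, Int.ofNat 1, Int.ofNat 3, Int.negSucc 0, Int.ofNat 1, Int.ofNat 1],
  [Int.ofNat 2, Int.ofNat 0, Int.ofNat 0, Int.ofNat 0, Int.ofNat 0, Int.ofNat 0, Int.ofNat 0, Int.ofNat 0, Int.ofNat 2, Int.negSucc 1, Int.negSucc 1, Int.ofNat 0, Int.ofNat 0, Int.negSucc 1, Int.ofNat 2, Int.ofNat 0, Int.ofNat 0, Int.ofNat 0, Int.ofNat 0, Int.ofNat 0, Int.ofNat 2, Int.negSucc 1, Int.ofNat 0, Int.ofNat 0],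
  [Int.ofNat 2, Int.ofNat 0, Int.ofNat 0, Int.ofNat 0, Int.ofNat 0, Int.ofNat 0, Int.ofNat 0, Int.ofNat 0, Int.ofNat 2, Int.ofNat 2, Int.ofNat 2, Int.ofNat 0, Int.ofNat 0, Int.negSucc 1, Int.ofNat 2, Int.ofNat 0, Int.ofNat 0, Int.ofNat 0, Int.ofNat 0, Int.ofNat 0, Int.ofNat 2, Int.negSucc 1, Int.ofNat 0, Int.ofNat 0],
  [Int.ofNat 2, Int.ofNat 0, Int.ofNat 0, Int.ofNat 2, Int.ofNat 2, Int.ofNat 0, Int.negSucc 1, Int.ofNat 0, Int.ofNat 0, Int.ofNat 2, Int.negSucc 1, Int.ofNat 0, Int.ofNat 0, Int.ofNat 0, Int.ofNat 0, Int.ofNat 0, Int.ofNat 0, Int.ofNat 0, Int.ofNat 2, Int.ofNat 0, Int.ofNat 2, Int.ofNat 0, Int.ofNat 0, Int.ofNat 0],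
  [Int.ofNat 0, Int.ofNat 0, Int.ofNat 0, Int.ofNat 0, Int.ofNat 0, Int.ofNat 2, Int.ofNat 0, Int.ofNat 0, Int.ofNat 2, Int.ofNat 0, Int.ofNat 0, Int.ofNat 0, Int.ofNat 0, Int.ofNat 0, Int.ofNat 2, Int.ofNat 2, Int.negSucc 1, Int.ofNat 2, Int.ofNat 0, Int.negSucc 1, Int.ofNat 0, Int.ofNat 0, Int.ofNat 0, Int.ofNat 2],
  [Int.ofNat 0, Int.ofNat 0, Int.ofNat 0, Int.ofNat 0, Int.ofNat 0, Int.ofNat 2, Int.ofNat 0, Int.ofNat 0, Int.ofNat 2, Int.ofNat 0, Int.ofNat 0, Int.ofNat 0, Int.ofNat 0, Int.ofNat 0, Int.ofNat 2, Int.ofNat 2, Int.negSucc 1, Int.ofNat 2, Int.ofNat 0, Int.negSucc 1, Int.ofNat 0, Int.ofNat 0, Int.ofNat 0, Int.ofNat 2],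
  [Int.ofNat 0, Int.ofNat 0, Int.ofNat 0, Int.ofNat 0, Int.ofNat 0, Int.ofNat 0, Int.ofNat 2, Int.ofNat 0, Int.ofNat 0, Int.ofNat 2, Int.ofNat 0, Int.ofNat 0, Int.ofNat 0, Int.ofNat 0, Int.ofNat 0, Int.ofNat 2, Int.ofNat 2, Int.negSucc 1, Int.ofNat 2, Int.ofNat 0, Int.negSucc 1, Int.ofNat 0, Int.ofNat 0, Int.ofNat 2],
  [Int.ofNat 1, Int.ofNat 1, Int.ofNat 1, Int.ofNat 1, Int.negSucc 0, Int.ofNat 1, Int.ofNat 1, Int.negSucc 0, Int.negSucc 0, Int.ofNat 1, Int.negSucc 0, Int.negSucc 0, Int.negSucc 0, Int.negSucc 0, Int.ofNat 1, Int.ofNat 1, Int.ofNat 1, Int.negSucc 0, Int.ofNat 1, Int.negSucc 0, Int.negSucc 2, Int.negSucc 0, Int.negSucc 0, Int.negSucc 0],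
  [Int.ofNat 1, Int.negSucc 0, Int.ofNat 1, Int.ofNat 1, Int.negSucc 0, Int.negSucc 0, Int.ofNat 1, Int.negSucc 0, Int.negSucc 0, Int.negSucc 0, Int.negSucc 0, Int.ofNat 1, Int.ofNat 1, Int.ofNat 1, Int.negSucc 0, Int.ofNat 1, Int.negSucc 0, Int.negSucc 2, Int.negSucc 0, Int.negSucc 0, Int.ofNat 1, Int.ofNat 1, Int.ofNat 1, Int.negSucc 0],
  [Int.negSucc 0, Int.ofNat 1, Int.negSucc 0, Int.ofNat 3, Int.negSucc 0, Int.ofNat 1, Int.ofNat 1, Int.negSucc 0, Int.negSucc 0, Int.negSucc 0, Int.negSucc 0, Int.ofNat 1, Int.ofNat 1, Int.ofNat 1, Int.ofNat 1, Int.ofNat 1, Int.negSucc 0, Int.negSucc 0, Int.negSucc 0, Int.negSucc 0, Int.ofNat 1, Int.ofNat 1, Int.ofNat 1, Int.ofNat 1],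
  [Int.negSucc 0, Int.ofNat 1, Int.negSucc 0, Int.ofNat 3, Int.negSucc 0, Int.negSucc 0, Int.negSucc 0, Int.negSucc 0, Int.ofNat 1, Int.ofNat 1, Int.ofNat 1, Int.negSucc 0, Int.negSucc 0, Int.negSucc 0, Int.ofNat 1, Int.ofNat 1, Int.negSucc 0, Int.ofNat 1, Int.ofNat 1, Int.ofNat 1, Int.ofNat 1, Int.ofNat 1, Int.negSucc 0, Int.ofNat 1],
  [Int.ofNat 1, Int.negSucc 0, Int.ofNat 1, Int.ofNat 1, Int.ofNat 1, Int.negSucc 2, Int.negSucc 0, Int.negSucc 0, Int.ofNat 1, Int.negSucc 0, Int.negSucc 0, Int.negSucc 0, Int.negSucc 0, Int.ofNat 1, Int.negSucc 0, Int.negSucc 0, Int.ofNat 1, Int.negSucc 0, Int.ofNat 1, Int.ofNat 1, Int.negSucc 0, Int.ofNat 1, Int.ofNat 1, Int.negSucc 0],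
  [Int.ofNat 1, Int.negSucc 0, Int.negSucc 0, Int.ofNat 1, Int.ofNat 1, Int.ofNat 3, Int.ofNat 1, Int.negSucc 0, Int.ofNat 1, Int.ofNat 1, Int.ofNat 1, Int.negSucc 0, Int.negSucc 0, Int.ofNat 1, Int.negSucc 0, Int.ofNat 1, Int.ofNat 1, Int.negSucc 0, Int.negSucc 0, Int.ofNat 1, Int.negSucc 0, Int.ofNat 1, Int.negSucc 0, Int.negSucc 0],
  [Int.negSucc 0, Int.ofNat 1, Int.ofNat 1, Int.negSucc 0, Int.ofNat 1, Int.negSucc 0, Int.ofNat 1, Int.ofNat 1, Int.ofNat 1, Int.negSucc 0, Int.ofNat 1, Int.negSucc 0, Int.ofNat 1, Int.negSucc 0, Int.negSucc 0, Int.negSucc 0, Int.ofNat 3, Int.negSucc 0, Int.negSucc 0, Int.ofNat 1, Int.ofNat 1, Int.ofNat 1, Int.ofNat 1, Int.negSucc 0],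
  [Int.negSucc 0, Int.ofNat 1, Int.negSucc 0, Int.negSucc 0, Int.ofNat 1, Int.ofNat 1, Int.negSucc 0, Int.ofNat 1, Int.ofNat 1, Int.ofNat 1, Int.negSucc 0, Int.negSucc 0, Int.ofNat 1, Int.negSucc 0, Int.negSucc 0, Int.ofNat 1, Int.ofNat 3, Int.negSucc 0, Int.ofNat 1, Int.ofNat 1, Int.ofNat 1, Int.ofNat 1, Int.negSucc 0, Int.negSucc 0],
  [Int.ofNat 0, Int.negSucc 1, Int.ofNat 0, Int.ofNat 0, Int.ofNat 0, Int.ofNat 2, Int.negSucc 1, Int.ofNat 0, Int.ofNat 0, Int.ofNat 0, Int.negSucc 1, Int.negSucc 1, Int.ofNat 0, Int.negSucc 1, Int.ofNat 0, Int.ofNat 0, Int.ofNat 2, Int.ofNat 0, Int.ofNat 0, Int.ofNat 0, Int.ofNat 0, Int.ofNat 0, Int.negSucc 1, Int.ofNat 0],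
  [Int.ofNat 0, Int.ofNat 0, Int.negSucc 1, Int.ofNat 0, Int.ofNat 0, Int.ofNat 0, Int.negSucc 1, Int.ofNat 2, Int.ofNat 2, Int.ofNat 0, Int.ofNat 0, Int.ofNat 0, Int.ofNat 0, Int.ofNat 0, Int.ofNat 0, Int.ofNat 0, Int.negSucc 1, Int.negSucc 1, Int.ofNat 0, Int.negSucc 1, Int.negSucc 1, Int.ofNat 0, Int.ofNat 0, Int.ofNat 0],
  [Int.negSucc 0, Int.negSucc 0, Int.ofNat 1, Int.ofNat 1, Int.ofNat 1, Int.ofNat 1, Int.negSucc 0, Int.ofNat 3, Int.ofNat 1, Int.ofNat 1, Int.ofNat 1, Int.negSucc 0, Int.negSucc 0, Int.ofNat 1, Int.ofNat 1, Int.ofNat 1, Int.negSucc 0, Int.negSucc 0, Int.negSucc 0, Int.negSucc 0, Int.negSucc 0, Int.ofNat 1, Int.ofNat 1, Int.negSucc 0],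
  [Int.negSucc 0, Int.ofNat 1, Int.ofNat 1, Int.negSucc 0, Int.negSucc 0, Int.ofNat 1, Int.ofNat 1, Int.ofNat 1, Int.ofNat 1, Int.negSucc 0, Int.ofNat 3, Int.ofNat 1, Int.ofNat 1, Int.ofNat 1, Int.negSucc 0, Int.negSucc 0, Int.ofNat 1, Int.ofNat 1, Int.ofNat 1, Int.negSucc 0, Int.negSucc 0, Int.negSucc 0, Int.negSucc 0, Int.negSucc 0],
  [Int.ofNat 1, Int.negSucc 0, Int.negSucc 0, Int.negSucc 0, Int.negSucc 0, Int.ofNat 1, Int.ofNat 1, Int.ofNat 1, Int.negSucc 0, Int.negSucc 0, Int.ofNat 3, Int.negSucc 0, Int.negSucc 0, Int.ofNat 1, Int.negSucc 0, Int.negSucc 0, Int.ofNat 1, Int.ofNat 1, Int.negSucc 0, Int.negSucc 0, Int.negSucc 0, Int.negSucc 0, Int.negSucc 0, Int.ofNat 1],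
  [Int.negSucc 0, Int.negSucc 0, Int.negSucc 0, Int.negSucc 0, Int.ofNat 1, Int.ofNat 1, Int.ofNat 1, Int.negSucc 0, Int.negSucc 0, Int.ofNat 3, Int.negSucc 0, Int.negSucc 0, Int.ofNat 1, Int.negSucc 0, Int.negSucc 0, Int.ofNat 1, Int.ofNat 1, Int.negSucc 0, Int.negSucc 0, Int.negSucc 0, Int.negSucc 0, Int.negSucc 0, Int.ofNat 1, Int.ofNat 1],
  [Int.ofNat 1, Int.negSucc 0, Int.ofNat 1, Int.negSucc 0, Int.ofNat 1, Int.ofNat 1, Int.ofNat 1, Int.ofNat 1, Int.negSucc 0, Int.negSucc 2, Int.ofNat 1, Int.ofNat 1, Int.ofNat 1, Int.negSucc 0, Int.negSucc 0, Int.ofNat 1, Int.ofNat 1, Int.negSucc 0, Int.ofNat 1, Int.negSucc 0, Int.negSucc 0, Int.ofNat 1, Int.ofNat 1, Int.ofNat 1],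
  [Int.negSucc 0, Int.ofNat 1, Int.negSucc 0, Int.ofNat 1, Int.negSucc 0, Int.ofNat 1, Int.negSucc 0, Int.ofNat 1, Int.ofNat 1, Int.ofNat 3, Int.ofNat 1, Int.ofNat 1, Int.negSucc 0, Int.ofNat 1, Int.negSucc 0, Int.ofNat 1, Int.negSucc 0, Int.negSucc 0, Int.negSucc 0, Int.negSucc 0, Int.negSucc 0, Int.ofNat 1, Int.ofNat 1, Int.ofNat 1],
  [Int.negSucc 0, Int.negSucc 0, Int.negSucc 0, Int.ofNat 1, Int.ofNat 1, Int.ofNat 1, Int.negSucc 0, Int.negSucc 0, Int.ofNat 3, Int.negSucc 0, Int.ofNat 1, Int.negSucc 0, Int.ofNat 1, Int.ofNat 1, Int.negSucc 0, Int.ofNat 1, Int.negSucc 0, Int.ofNat 1, Int.negSucc 0, Int.negSucc 0, Int.ofNat 1, Int.ofNat 1, Int.ofNat 1, Int.ofNat 1],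
  [Int.ofNat 1, Int.negSucc 0, Int.ofNat 1, Int.ofNat 1, Int.ofNat 1, Int.ofNat 1, Int.negSucc 0, Int.ofNat 1, Int.ofNat 3, Int.ofNat 1, Int.negSucc 0, Int.ofNat 1, Int.ofNat 1, Int.ofNat 1, Int.negSucc 0, Int.ofNat 1, Int.negSucc 0, Int.ofNat 1, Int.ofNat 1, Int.negSucc 0, Int.ofNat 1, Int.negSucc 0, Int.ofNat 1, Int.ofNat 1],
  [Int.ofNat 1, Int.ofNat 1, Int.negSucc 0, Int.ofNat 1, Int.ofNat 1, Int.ofNat 1, Int.ofNat 1, Int.negSucc 0, Int.ofNat 1, Int.ofNat 3, Int.ofNat 1, Int.negSucc 0, Int.ofNat 1, Int.ofNat 1, Int.ofNat 1, Int.negSucc 0, Int.ofNat 1, Int.negSucc 0, Int.ofNat 1, Int.ofNat 1, Int.negSucc 0, Int.ofNat 1, Int.negSucc 0, Int.ofNat 1],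
  [Int.ofNat 0, Int.ofNat 0, Int.ofNat 2, Int.ofNat 0, Int.ofNat 0, Int.ofNat 0, Int.ofNat 0, Int.negSucc 1, Int.ofNat 0, Int.ofNat 2, Int.ofNat 0, Int.negSucc 1, Int.ofNat 0, Int.ofNat 0, Int.ofNat 0, Int.negSucc 1, Int.ofNat 0, Int.negSucc 1, Int.ofNat 0, Int.ofNat 0, Int.negSucc 1, Int.ofNat 0, Int.negSucc 1, Int.ofNat 0],
  [Int.ofNat 0, Int.ofNat 0, Int.ofNat 0, Int.ofNat 0, Int.negSucc 1, Int.ofNat 0, Int.ofNat 2, Int.ofNat 0, Int.negSucc 1, Int.ofNat 0, Int.ofNat 0, Int.ofNat 0, Int.negSucc 1, Int.ofNat 0, Int.negSucc 1, Int.ofNat 0, Int.ofNat 0, Int.negSucc 1, Int.ofNat 0, Int.negSucc 1, Int.ofNat 0, Int.ofNat 0, Int.ofNat 2, Int.ofNat 0],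
  [Int.ofNat 0, Int.ofNat 0, Int.ofNat 0, Int.ofNat 2, Int.negSucc 1, Int.ofNat 2, Int.ofNat 2, Int.ofNat 0, Int.ofNat 0, Int.ofNat 0, Int.ofNat 0, Int.ofNat 2, Int.ofNat 0, Int.ofNat 0, Int.ofNat 0, Int.ofNat 0, Int.ofNat 0, Int.ofNat 0, Int.ofNat 2, Int.negSucc 1, Int.ofNat 0, Int.ofNat 0, Int.ofNat 2, Int.ofNat 0],
  [Int.ofNat 0, Int.ofNat 2, Int.negSucc 1, Int.ofNat 2, Int.ofNat 2, Int.ofNat 0, Int.ofNat 0, Int.ofNat 0, Int.ofNat 0, Int.ofNat 0, Int.ofNat 0, Int.ofNat 0, Int.ofNat 0, Int.ofNat 0, Int.ofNat 2, Int.ofNat 0, Int.ofNat 0, Int.ofNat 0, Int.ofNat 0, Int.ofNat 2, Int.ofNat 0, Int.ofNat 2, Int.negSucc 1, Int.ofNat 0],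
  [Int.ofNat 0, Int.negSucc 1, Int.ofNat 2, Int.ofNat 0, Int.ofNat 2, Int.negSucc 1, Int.negSucc 1, Int.negSucc 1, Int.ofNat 0, Int.ofNat 0, Int.ofNat 0, Int.ofNat 0, Int.ofNat 0, Int.ofNat 0, Int.ofNat 0, Int.ofNat 0, Int.ofNat 0, Int.negSucc 1, Int.ofNat 0, Int.ofNat 0, Int.ofNat 0, Int.ofNat 0, Int.negSucc 1, Int.ofNat 0],
  [Int.ofNat 0, Int.negSucc 1, Int.negSucc 1, Int.ofNat 0, Int.ofNat 2, Int.ofNat 2, Int.ofNat 2, Int.negSucc 1, Int.ofNat 0, Int.ofNat 0, Int.ofNat 0, Int.ofNat 0, Int.ofNat 0, Int.ofNat 0, Int.ofNat 0, Int.ofNat 0, Int.ofNat 0, Int.negSucc 1, Int.ofNat 0, Int.ofNat 0, Int.ofNat 0, Int.ofNat 0, Int.ofNat 2, Int.ofNat 0],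
  [Int.ofNat 0, Int.ofNat 0, Int.ofNat 0, Int.ofNat 0, Int.ofNat 0, Int.ofNat 2, Int.ofNat 0, Int.ofNat 0, Int.ofNat 2, Int.ofNat 0, Int.ofNat 0, Int.negSucc 1, Int.ofNat 0, Int.ofNat 2, Int.negSucc 1, Int.ofNat 0, Int.ofNat 0, Int.ofNat 0, Int.ofNat 0, Int.negSucc 1, Int.ofNat 0, Int.negSucc 1, Int.ofNat 2, Int.ofNat 0],
  [Int.ofNat 0, Int.ofNat 2, Int.negSucc 1, Int.ofNat 0, Int.ofNat 0, Int.ofNat 0, Int.negSucc 1, Int.ofNat 2, Int.ofNat 0, Int.ofNat 2, Int.ofNat 0, Int.ofNat 0, Int.negSucc 1, Int.ofNat 0, Int.ofNat 0, Int.ofNat 0, Int.ofNat 0, Int.ofNat 0, Int.negSucc 1, Int.ofNat 0, Int.ofNat 2, Int.ofNat 0, Int.ofNat 0, Int.ofNat 0],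
  [Int.ofNat 0, Int.ofNat 2, Int.ofNat 2, Int.ofNat 0, Int.ofNat 0, Int.ofNat 0, Int.negSucc 1, Int.negSucc 1, Int.ofNat 0, Int.negSucc 1, Int.ofNat 0, Int.ofNat 0, Int.negSucc 1, Int.ofNat 0, Int.ofNat 0, Int.ofNat 0, Int.ofNat 0, Int.ofNat 0, Int.ofNat 2, Int.ofNat 0, Int.ofNat 2, Int.ofNat 0, Int.ofNat 0, Int.ofNat 0],
  [Int.ofNat 0, Int.ofNat 0, Int.ofNat 2, Int.ofNat 2, Int.ofNat 0, Int.ofNat 0, Int.ofNat 0, Int.negSucc 1, Int.negSucc 1, Int.ofNat 0, Int.negSucc 1, Int.ofNat 0, Int.ofNat 0, Int.negSucc 1, Int.ofNat 0, Int.ofNat 0, Int.ofNat 0, Int.ofNat 0, Int.ofNat 0, Int.ofNat 2, Int.ofNat 0, Int.ofNat 2, Int.ofNat 0, Int.ofNat 0],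
  [Int.ofNat 1, Int.ofNat 1, Int.negSucc 0, Int.ofNat 1, Int.ofNat 1, Int.negSucc 0, Int.negSucc 0, Int.negSucc 2, Int.negSucc 0, Int.ofNat 1, Int.negSucc 0, Int.ofNat 1, Int.ofNat 1, Int.negSucc 0, Int.negSucc 0, Int.ofNat 1, Int.ofNat 1, Int.negSucc 0, Int.ofNat 1, Int.ofNat 1, Int.ofNat 1, Int.ofNat 1, Int.ofNat 1, Int.ofNat 1],
  [Int.ofNat 1, Int.ofNat 1, Int.negSucc 0, Int.negSucc 0, Int.negSucc 2, Int.negSucc 0, Int.ofNat 1, Int.negSucc 0, Int.ofNat 1, Int.ofNat 1, Int.negSucc 0, Int.negSucc 0, Int.ofNat 1, Int.ofNat 1, Int.negSucc 0, Int.ofNat 1, Int.ofNat 1, Int.ofNat 1, Int.ofNat 1, Int.ofNat 1, Int.ofNat 1, Int.ofNat 1, Int.negSucc 0, Int.ofNat 1],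
  [Int.ofNat 0, Int.ofNat 0, Int.ofNat 2, Int.ofNat 0, Int.negSucc 1, Int.ofNat 0, Int.ofNat 0, Int.negSucc 1, Int.ofNat 0, Int.ofNat 0, Int.negSucc 1, Int.negSucc 1, Int.ofNat 0, Int.ofNat 2, Int.ofNat 0, Int.ofNat 0, Int.ofNat 2, Int.ofNat 2, Int.ofNat 0, Int.ofNat 0, Int.ofNat 0, Int.ofNat 0, Int.ofNat 0, Int.ofNat 0],
  [Int.ofNat 0, Int.ofNat 0, Int.negSucc 1, Int.ofNat 0, Int.ofNat 0, Int.negSucc 1, Int.ofNat 2, Int.negSucc 1, Int.ofNat 0, Int.ofNat 2, Int.ofNat 0, Int.ofNat 2, Int.ofNat 0, Int.ofNat 2, Int.ofNat 0, Int.ofNat 0, Int.ofNat 0, Int.ofNat 0, Int.ofNat 0, Int.negSucc 1, Int.ofNat 0, Int.ofNat 0, Int.ofNat 0, Int.ofNat 0],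
  [Int.negSucc 0, Int.negSucc 0, Int.ofNat 1, Int.ofNat 1, Int.negSucc 0, Int.negSucc 0, Int.ofNat 3, Int.negSucc 0, Int.negSucc 0, Int.ofNat 1, Int.negSucc 0, Int.ofNat 1, Int.negSucc 0, Int.ofNat 1, Int.ofNat 1, Int.negSucc 0, Int.negSucc 0, Int.ofNat 1, Int.negSucc 0, Int.negSucc 0, Int.negSucc 0, Int.ofNat 1, Int.negSucc 0, Int.negSucc 0],
  [Int.negSucc 0, Int.negSucc 0, Int.negSucc 0, Int.ofNat 1, Int.negSucc 0, Int.ofNat 1, Int.negSucc 2, Int.negSucc 0, Int.negSucc 0, Int.negSucc 0, Int.ofNat 1, Int.ofNat 1, Int.negSucc 0, Int.ofNat 1, Int.ofNat 1, Int.ofNat 1, Int.negSucc 0, Int.ofNat 1, Int.ofNat 1, Int.negSucc 0, Int.negSucc 0, Int.ofNat 1, Int.ofNat 1, Int.negSucc 0],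
  [Int.ofNat 1, Int.negSucc 2, Int.negSucc 0, Int.ofNat 1, Int.negSucc 0, Int.ofNat 1, Int.ofNat 1, Int.negSucc 0, Int.ofNat 1, Int.ofNat 1, Int.ofNat 1, Int.negSucc 0, Int.negSucc 0, Int.negSucc 0, Int.negSucc 0, Int.negSucc 0, Int.ofNat 1, Int.negSucc 0, Int.ofNat 1, Int.ofNat 1, Int.negSucc 0, Int.negSucc 0, Int.ofNat 1, Int.negSucc 0],
  [Int.ofNat 1, Int.negSucc 2, Int.ofNat 1, Int.ofNat 1, Int.negSucc 0, Int.negSucc 0, Int.negSucc 0, Int.negSucc 0, Int.ofNat 1, Int.negSucc 0, Int.negSucc 0, Int.negSucc 0, Int.negSucc 0, Int.negSucc 0, Int.negSucc 0, Int.ofNat 1, Int.ofNat 1, Int.negSucc 0, Int.negSucc 0, Int.ofNat 1, Int.negSucc 0, Int.negSucc 0, Int.negSucc 0, Int.negSucc 0],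
  [Int.negSucc 1, Int.ofNat 2, Int.negSucc 1, Int.ofNat 2, Int.ofNat 0, Int.ofNat 0, Int.ofNat 0, Int.ofNat 0, Int.ofNat 2, Int.ofNat 0, Int.ofNat 0, Int.ofNat 0, Int.ofNat 0, Int.ofNat 0, Int.ofNat 0, Int.ofNat 2, Int.ofNat 2, Int.ofNat 0, Int.ofNat 0, Int.ofNat 2, Int.ofNat 0, Int.ofNat 0, Int.ofNat 0, Int.ofNat 0],
  [Int.negSucc 1, Int.ofNat 0, Int.ofNat 0, Int.ofNat 2, Int.negSucc 1, Int.ofNat 0, Int.ofNat 2, Int.ofNat 0, Int.ofNat 2, Int.ofNat 0, Int.ofNat 0, Int.ofNat 2, Int.ofNat 2, Int.ofNat 0, Int.ofNat 0, Int.ofNat 2, Int.ofNat 0, Int.ofNat 0, Int.ofNat 0, Int.ofNat 0, Int.ofNat 0, Int.ofNat 0, Int.ofNat 0, Int.ofNat 0],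
  [Int.ofNat 1, Int.negSucc 0, Int.negSucc 0, Int.ofNat 1, Int.negSucc 0, Int.negSucc 0, Int.ofNat 1, Int.negSucc 0, Int.negSucc 0, Int.negSucc 0, Int.negSucc 0, Int.negSucc 0, Int.negSucc 0, Int.ofNat 1, Int.negSucc 0, Int.ofNat 1, Int.ofNat 1, Int.negSucc 0, Int.negSucc 2, Int.negSucc 0, Int.negSucc 0, Int.negSucc 0, Int.ofNat 1, Int.negSucc 0],
  [Int.negSucc 0, Int.negSucc 0, Int.ofNat 1, Int.ofNat 1, Int.negSucc 0, Int.negSucc 0, Int.ofNat 1, Int.negSucc 0, Int.negSucc 0, Int.ofNat 1, Int.negSucc 0, Int.negSucc 0, Int.negSucc 0, Int.negSucc 0, Int.negSucc 0, Int.negSucc 0, Int.ofNat 1, Int.negSucc 0, Int.ofNat 1, Int.ofNat 1, Int.negSucc 0, Int.negSucc 2, Int.negSucc 0, Int.negSucc 0],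
  [Int.ofNat 0, Int.ofNat 0, Int.negSucc 1, Int.ofNat 2, Int.ofNat 0, Int.ofNat 0, Int.ofNat 2, Int.ofNat 0, Int.ofNat 0, Int.ofNat 2, Int.ofNat 0, Int.ofNat 0, Int.ofNat 0, Int.ofNat 0, Int.ofNat 0, Int.ofNat 0, Int.ofNat 2, Int.ofNat 0, Int.ofNat 2, Int.ofNat 2, Int.ofNat 0, Int.negSucc 1, Int.ofNat 0, Int.ofNat 0],
  [Int.ofNat 0, Int.negSucc 1, Int.ofNat 2, Int.ofNat 0, Int.ofNat 0, Int.ofNat 2, Int.ofNat 0, Int.ofNat 0, Int.ofNat 2, Int.ofNat 0, Int.ofNat 0, Int.ofNat 0, Int.ofNat 0, Int.ofNat 0, Int.ofNat 0, Int.ofNat 2, Int.ofNat 0, Int.ofNat 2, Int.ofNat 2, Int.ofNat 0, Int.negSucc 1, Int.ofNat 0, Int.ofNat 0, Int.ofNat 0],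
  [Int.ofNat 0, Int.negSucc 1, Int.negSucc 1, Int.ofNat 0, Int.ofNat 0, Int.ofNat 2, Int.ofNat 0, Int.ofNat 0, Int.ofNat 2, Int.ofNat 0, Int.ofNat 0, Int.ofNat 0, Int.ofNat 0, Int.ofNat 0, Int.ofNat 0, Int.ofNat 2, Int.ofNat 0, Int.ofNat 2, Int.negSucc 1, Int.ofNat 0, Int.negSucc 1, Int.ofNat 0, Int.ofNat 0, Int.ofNat 0]]

set_option maxRecDepth 100000 in
theorem c1te9_chk : pmChk (List.replicate 14 [9, 0, 26, 25]).flatten nxL c1te9M 0 0 = true := by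
  decide +kernel

theorem c1te9_ne : wE letE2 (List.replicate 14 [9, 0, 26, 25]).flatten ≠ 1 ∧ wE letE2 (List.replicate 14 [9, 0, 26, 25]).flatten ≠ negElt :=
  ne_pm_of_chk nxL_mem c1te9_chk

set_option maxRecDepth 100000 in
def c1te10M : List (List ℤ) :=
  [[Int.ofNat 4, Int.ofNat 0, Int.ofNat 0, Int.ofNat 0, Int.ofNat 0, Int.ofNat 0, Int.ofNat 0, Int.ofNat 0, Int.ofNat 0, Int.ofNat 0, Int.ofNat 0, Int.ofNat 0, Int.ofNat 0, Int.ofNat 0, Int.ofNat 0, Int.ofNat 0, Int.ofNat 0, Int.ofNat 0, Int.ofNat 0, Int.ofNat 0, Int.ofNat 0, Int.ofNat 0, Int.ofNat 0, Int.ofNat 4],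
  [Int.ofNat 4, Int.ofNat 0, Int.ofNat 0, Int.ofNat 0, Int.ofNat 0, Int.ofNat 0, Int.ofNat 0, Int.ofNat 0, Int.ofNat 0, Int.ofNat 0, Int.ofNat 0, Int.ofNat 0, Int.ofNat 0, Int.ofNat 0, Int.ofNat 0, Int.ofNat 0, Int.ofNat 0, Int.ofNat 0, Int.ofNat 0, Int.ofNat 0, Int.ofNat 0, Int.ofNat 0, Int.ofNat 0, Int.ofNat 4],
  [Int.negSucc 3, Int.ofNat 0, Int.ofNat 0, Int.ofNat 0, Int.ofNat 0, Int.ofNat 0, Int.ofNat 0, Int.ofNat 0, Int.ofNat 0, Int.ofNat 0, Int.ofNat 0, Int.ofNat 0, Int.ofNat 0, Int.ofNat 0, Int.ofNat 0, Int.ofNat 0, Int.ofNat 0, Int.ofNat 0, Int.ofNat 0, Int.ofNat 0, Int.ofNat 0, Int.ofNat 0, Int.ofNat 0, Int.ofNat 4],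
  [Int.ofNat 0, Int.negSucc 3, Int.ofNat 0, Int.ofNat 0, Int.ofNat 0, Int.ofNat 0, Int.ofNat 0, Int.ofNat 0, Int.ofNat 0, Int.ofNat 0, Int.ofNat 0, Int.ofNat 0, Int.ofNat 0, Int.ofNat 0, Int.ofNat 0, Int.ofNat 0, Int.ofNat 0, Int.ofNat 0, Int.ofNat 0, Int.ofNat 0, Int.ofNat 0, Int.ofNat 0, Int.ofNat 0, Int.ofNat 4],
  [Int.ofNat 0, Int.ofNat 4, Int.ofNat 0, Int.ofNat 0, Int.ofNat 0, Int.ofNat 0, Int.ofNat 0, Int.ofNat 0, Int.ofNat 0, Int.ofNat 0, Int.ofNat 0, Int.ofNat 0, Int.ofNat 0, Int.ofNat 0, Int.ofNat 0, Int.ofNat 0, Int.ofNat 0, Int.ofNat 0, Int.ofNat 0, Int.ofNat 0, Int.ofNat 0, Int.ofNat 0, Int.ofNat 0, Int.negSucc 3],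
  [Int.ofNat 0, Int.ofNat 0, Int.ofNat 0, Int.ofNat 0, Int.ofNat 0, Int.ofNat 0, Int.ofNat 0, Int.ofNat 0, Int.ofNat 0, Int.ofNat 0, Int.ofNat 0, Int.ofNat 0, Int.ofNat 0, Int.ofNat 0, Int.ofNat 0, Int.ofNat 0, Int.ofNat 0, Int.ofNat 0, Int.ofNat 0, Int.ofNat 0, Int.ofNat 0, Int.ofNat 4, Int.ofNat 0, Int.negSucc 3],
  [Int.negSucc 1, Int.negSucc 1, Int.negSucc 1, Int.ofNat 0, Int.ofNat 0, Int.ofNat 0, Int.negSucc 1, Int.negSucc 1, Int.ofNat 0, Int.ofNat 0, Int.ofNat 0, Int.ofNat 0, Int.ofNat 0, Int.ofNat 0, Int.ofNat 0, Int.ofNat 0, Int.ofNat 0, Int.ofNat 0, Int.ofNat 0, Int.negSucc 1, Int.ofNat 0, Int.ofNat 2, Int.ofNat 0, Int.ofNat 2],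
  [Int.negSucc 1, Int.negSucc 1, Int.ofNat 0, Int.ofNat 0, Int.ofNat 0, Int.negSucc 1, Int.negSucc 1, Int.ofNat 0, Int.ofNat 0, Int.ofNat 0, Int.ofNat 0, Int.ofNat 0, Int.ofNat 0, Int.ofNat 0, Int.ofNat 0, Int.ofNat 0, Int.ofNat 0, Int.ofNat 0, Int.negSucc 1, Int.ofNat 0, Int.ofNat 2, Int.ofNat 0, Int.negSucc 1, Int.ofNat 2],
  [Int.ofNat 1, Int.ofNat 1, Int.negSucc 0, Int.ofNat 1, Int.ofNat 1, Int.negSucc 0, Int.negSucc 0, Int.ofNat 1, Int.ofNat 1, Int.negSucc 0, Int.negSucc 0, Int.ofNat 1, Int.ofNat 1, Int.ofNat 1, Int.ofNat 1, Int.negSucc 0, Int.ofNat 1, Int.ofNat 1, Int.negSucc 0, Int.ofNat 1, Int.ofNat 1, Int.ofNat 1, Int.negSucc 0, Int.negSucc 2],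
  [Int.ofNat 1, Int.ofNat 1, Int.ofNat 1, Int.ofNat 1, Int.ofNat 1, Int.ofNat 1, Int.ofNat 1, Int.ofNat 1, Int.ofNat 1, Int.ofNat 1, Int.ofNat 1, Int.ofNat 1, Int.ofNat 1, Int.ofNat 1, Int.ofNat 1, Int.ofNat 1, Int.ofNat 1, Int.ofNat 1, Int.ofNat 1, Int.ofNat 1, Int.ofNat 1, Int.ofNat 1, Int.ofNat 1, Int.negSucc 2],
  [Int.ofNat 1, Int.ofNat 1, Int.ofNat 1, Int.ofNat 1, Int.ofNat 1, Int.ofNat 1, Int.ofNat 1, Int.ofNat 1, Int.ofNat 1, Int.ofNat 1, Int.ofNat 1, Int.ofNat 1, Int.ofNat 1, Int.ofNat 1, Int.ofNat 1, Int.ofNat 1, Int.ofNat 1, Int.ofNat 1, Int.ofNat 1, Int.ofNat 1, Int.ofNat 1, Int.ofNat 1, Int.ofNat 1, Int.negSucc 2],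
  [Int.negSucc 2, Int.ofNat 1, Int.ofNat 1, Int.ofNat 1, Int.ofNat 1, Int.ofNat 1, Int.ofNat 1, Int.ofNat 1, Int.ofNat 1, Int.ofNat 1, Int.ofNat 1, Int.ofNat 1, Int.ofNat 1, Int.ofNat 1, Int.ofNat 1, Int.ofNat 1, Int.ofNat 1, Int.ofNat 1, Int.ofNat 1, Int.ofNat 1, Int.ofNat 1, Int.ofNat 1, Int.ofNat 1, Int.ofNat 1],
  [Int.ofNat 3, Int.ofNat 1, Int.negSucc 0, Int.ofNat 1, Int.ofNat 1, Int.ofNat 1, Int.ofNat 1, Int.negSucc 0, Int.ofNat 1, Int.negSucc 0, Int.negSucc 0, Int.negSucc 0, Int.ofNat 1, Int.ofNat 1, Int.ofNat 1, Int.ofNat 1, Int.ofNat 1, Int.ofNat 1, Int.negSucc 0, Int.ofNat 1, Int.ofNat 1, Int.negSucc 0, Int.ofNat 1, Int.ofNat 1],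
  [Int.ofNat 1, Int.ofNat 3, Int.ofNat 1, Int.negSucc 0, Int.ofNat 1, Int.ofNat 1, Int.ofNat 1, Int.ofNat 1, Int.negSucc 0, Int.ofNat 1, Int.negSucc 0, Int.negSucc 0, Int.negSucc 0, Int.ofNat 1, Int.ofNat 1, Int.ofNat 1, Int.ofNat 1, Int.ofNat 1, Int.ofNat 1, Int.negSucc 0, Int.ofNat 1, Int.ofNat 1, Int.negSucc 0, Int.ofNat 1],
  [Int.ofNat 2, Int.ofNat 0, Int.ofNat 2, Int.negSucc 1, Int.ofNat 0, Int.ofNat 0, Int.ofNat 0, Int.ofNat 0, Int.ofNat 0, Int.ofNat 0, Int.negSucc 1, Int.ofNat 0, Int.ofNat 0, Int.ofNat 0, Int.ofNat 0, Int.ofNat 0, Int.ofNat 0, Int.ofNat 0, Int.ofNat 2, Int.negSucc 1, Int.ofNat 0, Int.ofNat 0, Int.negSucc 1, Int.ofNat 2],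
  [Int.negSucc 1, Int.ofNat 0, Int.ofNat 0, Int.ofNat 0, Int.ofNat 0, Int.ofNat 0, Int.ofNat 0, Int.negSucc 1, Int.ofNat 0, Int.ofNat 0, Int.ofNat 0, Int.ofNat 0, Int.ofNat 0, Int.ofNat 0, Int.ofNat 0, Int.ofNat 2, Int.negSucc 1, Int.ofNat 0, Int.ofNat 0, Int.negSucc 1, Int.ofNat 2, Int.ofNat 0, Int.ofNat 2, Int.ofNat 2],
  [Int.ofNat 2, Int.ofNat 0, Int.ofNat 0, Int.ofNat 0, Int.ofNat 0, Int.ofNat 0, Int.ofNat 2, Int.ofNat 0, Int.ofNat 0, Int.negSucc 1, Int.negSucc 1, Int.ofNat 0, Int.ofNat 0, Int.ofNat 0, Int.ofNat 0, Int.ofNat 0, Int.negSucc 1, Int.ofNat 0, Int.ofNat 0, Int.ofNat 0, Int.ofNat 0, Int.ofNat 2, Int.ofNat 2, Int.negSucc 1],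
  [Int.ofNat 2, Int.ofNat 2, Int.ofNat 0, Int.ofNat 0, Int.ofNat 0, Int.ofNat 0, Int.ofNat 0, Int.negSucc 1, Int.ofNat 0, Int.ofNat 0, Int.ofNat 0, Int.ofNat 0, Int.negSucc 1, Int.negSucc 1, Int.ofNat 2, Int.ofNat 0, Int.ofNat 0, Int.ofNat 0, Int.ofNat 0, Int.ofNat 0, Int.ofNat 2, Int.ofNat 0, Int.ofNat 0, Int.negSucc 1],
  [Int.negSucc 0, Int.negSucc 0, Int.ofNat 1, Int.negSucc 0, Int.ofNat 1, Int.negSucc 0, Int.ofNat 1, Int.negSucc 0, Int.ofNat 1, Int.negSucc 0, Int.negSucc 0, Int.ofNat 1, Int.negSucc 0, Int.negSucc 0, Int.ofNat 1, Int.negSucc 0, Int.ofNat 1, Int.negSucc 0, Int.ofNat 1, Int.ofNat 1, Int.ofNat 1, Int.ofNat 1, Int.ofNat 1, Int.ofNat 3],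
  [Int.negSucc 0, Int.negSucc 0, Int.negSucc 0, Int.negSucc 0, Int.ofNat 1, Int.ofNat 1, Int.negSucc 0, Int.negSucc 0, Int.ofNat 1, Int.ofNat 1, Int.ofNat 1, Int.ofNat 1, Int.negSucc 0, Int.negSucc 0, Int.ofNat 1, Int.ofNat 1, Int.ofNat 1, Int.negSucc 0, Int.negSucc 0, Int.ofNat 1, Int.ofNat 1, Int.ofNat 1, Int.negSucc 0, Int.ofNat 3],
  [Int.negSucc 0, Int.ofNat 1, Int.negSucc 0, Int.ofNat 1, Int.ofNat 1, Int.ofNat 1, Int.ofNat 1, Int.ofNat 1, Int.negSucc 0, Int.ofNat 1, Int.ofNat 1, Int.negSucc 0, Int.ofNat 1, Int.negSucc 0, Int.negSucc 0, Int.negSucc 0, Int.negSucc 0, Int.ofNat 1, Int.negSucc 0, Int.negSucc 0, Int.ofNat 1, Int.ofNat 1, Int.negSucc 0, Int.ofNat 3],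
  [Int.negSucc 0, Int.ofNat 1, Int.ofNat 1, Int.ofNat 1, Int.ofNat 1, Int.negSucc 0, Int.negSucc 0, Int.ofNat 1, Int.negSucc 0, Int.negSucc 0, Int.negSucc 0, Int.negSucc 0, Int.ofNat 1, Int.negSucc 0, Int.negSucc 0, Int.ofNat 1, Int.negSucc 0, Int.ofNat 1, Int.ofNat 1, Int.negSucc 0, Int.ofNat 1, Int.ofNat 1, Int.ofNat 1, Int.ofNat 3],
  [Int.ofNat 3, Int.ofNat 1, Int.ofNat 1, Int.ofNat 1, Int.ofNat 1, Int.negSucc 0, Int.negSucc 0, Int.ofNat 1, Int.negSucc 0, Int.negSucc 0, Int.negSucc 0, Int.negSucc 0, Int.ofNat 1, Int.negSucc 0, Int.negSucc 0, Int.ofNat 1, Int.negSucc 0, Int.ofNat 1, Int.ofNat 1, Int.negSucc 0, Int.ofNat 1, Int.ofNat 1, Int.ofNat 1, Int.negSucc 0],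
  [Int.ofNat 3, Int.ofNat 1, Int.negSucc 0, Int.ofNat 1, Int.ofNat 1, Int.ofNat 1, Int.ofNat 1, Int.negSucc 0, Int.negSucc 0, Int.ofNat 1, Int.ofNat 1, Int.negSucc 0, Int.negSucc 0, Int.negSucc 0, Int.ofNat 1, Int.ofNat 1, Int.negSucc 0, Int.negSucc 0, Int.ofNat 1, Int.ofNat 1, Int.negSucc 0, Int.ofNat 1, Int.negSucc 0, Int.negSucc 0],
  [Int.negSucc 1, Int.ofNat 0, Int.ofNat 2, Int.ofNat 0, Int.ofNat 2, Int.ofNat 0, Int.ofNat 0, Int.negSucc 1, Int.ofNat 0, Int.ofNat 0, Int.ofNat 0, Int.ofNat 0, Int.ofNat 0, Int.ofNat 0, Int.ofNat 0, Int.ofNat 0, Int.ofNat 0, Int.negSucc 1, Int.ofNat 2, Int.ofNat 0, Int.negSucc 1, Int.ofNat 0, Int.ofNat 0, Int.ofNat 2],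
  [Int.negSucc 1, Int.ofNat 0, Int.ofNat 0, Int.negSucc 1, Int.ofNat 0, Int.ofNat 2, Int.ofNat 0, Int.ofNat 2, Int.ofNat 0, Int.ofNat 0, Int.negSucc 1, Int.ofNat 0, Int.ofNat 0, Int.ofNat 0, Int.ofNat 0, Int.ofNat 0, Int.ofNat 0, Int.ofNat 0, Int.ofNat 0, Int.ofNat 0, Int.negSucc 1, Int.ofNat 2, Int.ofNat 0, Int.ofNat 2],
  [Int.ofNat 2, Int.ofNat 0, Int.ofNat 0, Int.negSucc 1, Int.ofNat 0, Int.ofNat 2, Int.negSucc 1, Int.ofNat 0, Int.ofNat 0, Int.ofNat 2, Int.ofNat 0, Int.ofNat 0, Int.ofNat 0, Int.ofNat 0, Int.ofNat 0, Int.ofNat 2, Int.ofNat 0, Int.ofNat 0, Int.ofNat 0, Int.negSucc 1, Int.ofNat 0, Int.ofNat 0, Int.ofNat 0, Int.negSucc 1],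
  [Int.ofNat 0, Int.ofNat 0, Int.negSucc 1, Int.ofNat 0, Int.ofNat 2, Int.negSucc 1, Int.ofNat 0, Int.ofNat 0, Int.ofNat 2, Int.ofNat 0, Int.ofNat 0, Int.ofNat 0, Int.ofNat 0, Int.ofNat 0, Int.ofNat 2, Int.ofNat 0, Int.ofNat 0, Int.ofNat 0, Int.negSucc 1, Int.ofNat 0, Int.ofNat 0, Int.ofNat 0, Int.ofNat 2, Int.negSucc 1],
  [Int.ofNat 0, Int.ofNat 0, Int.ofNat 2, Int.ofNat 0, Int.ofNat 2, Int.negSucc 1, Int.ofNat 0, Int.ofNat 0, Int.ofNat 2, Int.ofNat 0, Int.ofNat 0, Int.ofNat 0, Int.ofNat 0, Int.ofNat 0, Int.ofNat 2, Int.ofNat 0, Int.ofNat 0, Int.ofNat 0, Int.ofNat 2, Int.ofNat 0, Int.ofNat 0, Int.ofNat 0, Int.ofNat 2, Int.negSucc 1],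
  [Int.ofNat 0, Int.ofNat 0, Int.negSucc 1, Int.ofNat 0, Int.negSucc 1, Int.negSucc 1, Int.ofNat 0, Int.ofNat 0, Int.negSucc 1, Int.ofNat 0, Int.ofNat 0, Int.ofNat 0, Int.ofNat 0, Int.ofNat 0, Int.ofNat 2, Int.ofNat 0, Int.ofNat 0, Int.ofNat 0, Int.negSucc 1, Int.ofNat 0, Int.ofNat 0, Int.ofNat 0, Int.ofNat 2, Int.negSucc 1],
  [Int.ofNat 0, Int.negSucc 1, Int.negSucc 1, Int.ofNat 0, Int.ofNat 0, Int.ofNat 0, Int.negSucc 1, Int.ofNat 0, Int.ofNat 0, Int.ofNat 0, Int.ofNat 0, Int.ofNat 2, Int.ofNat 0, Int.negSucc 1, Int.ofNat 0, Int.ofNat 0, Int.ofNat 0, Int.ofNat 2, Int.ofNat 0, Int.ofNat 0, Int.negSucc 1, Int.ofNat 0, Int.ofNat 0, Int.negSucc 1],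
  [Int.ofNat 0, Int.negSucc 1, Int.ofNat 2, Int.ofNat 0, Int.ofNat 0, Int.ofNat 0, Int.negSucc 1, Int.ofNat 0, Int.ofNat 0, Int.ofNat 0, Int.ofNat 0, Int.negSucc 1, Int.ofNat 0, Int.negSucc 1, Int.ofNat 0, Int.ofNat 0, Int.ofNat 0, Int.ofNat 2, Int.ofNat 0, Int.ofNat 0, Int.negSucc 1, Int.ofNat 0, Int.ofNat 0, Int.negSucc 1],
  [Int.ofNat 0, Int.ofNat 0, Int.negSucc 1, Int.ofNat 2, Int.ofNat 0, Int.ofNat 0, Int.ofNat 0, Int.negSucc 1, Int.ofNat 0, Int.ofNat 0, Int.ofNat 0, Int.ofNat 0, Int.negSucc 1, Int.ofNat 0, Int.negSucc 1, Int.ofNat 0, Int.ofNat 0, Int.ofNat 0, Int.ofNat 2, Int.ofNat 0, Int.ofNat 0, Int.negSucc 1, Int.ofNat 0, Int.negSucc 1],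
  [Int.negSucc 1, Int.negSucc 1, Int.ofNat 0, Int.ofNat 2, Int.ofNat 0, Int.ofNat 0, Int.ofNat 2, Int.ofNat 0, Int.ofNat 0, Int.ofNat 0, Int.ofNat 0, Int.ofNat 0, Int.negSucc 1, Int.ofNat 0, Int.negSucc 1, Int.ofNat 0, Int.ofNat 0, Int.ofNat 0, Int.ofNat 2, Int.ofNat 2, Int.ofNat 0, Int.ofNat 0, Int.ofNat 0, Int.ofNat 0],
  [Int.ofNat 2, Int.ofNat 0, Int.ofNat 0, Int.ofNat 2, Int.ofNat 0, Int.ofNat 0, Int.ofNat 0, Int.ofNat 0, Int.ofNat 0, Int.negSucc 1, Int.ofNat 0, Int.negSucc 1, Int.ofNat 0, Int.ofNat 0, Int.ofNat 0, Int.ofNat 2, Int.ofNat 2, Int.ofNat 0, Int.ofNat 0, Int.ofNat 0, Int.negSucc 1, Int.negSucc 1, Int.ofNat 0, Int.ofNat 0],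
  [Int.negSucc 0, Int.ofNat 1, Int.ofNat 1, Int.ofNat 1, Int.negSucc 0, Int.negSucc 0, Int.ofNat 1, Int.ofNat 1, Int.ofNat 1, Int.negSucc 0, Int.ofNat 1, Int.negSucc 0, Int.ofNat 1, Int.negSucc 0, Int.negSucc 0, Int.ofNat 3, Int.ofNat 1, Int.negSucc 0, Int.ofNat 1, Int.ofNat 1, Int.negSucc 0, Int.negSucc 0, Int.negSucc 0, Int.ofNat 1],
  [Int.negSucc 0, Int.ofNat 1, Int.negSucc 0, Int.ofNat 1, Int.ofNat 1, Int.ofNat 1, Int.ofNat 1, Int.ofNat 1, Int.ofNat 1, Int.negSucc 0, Int.negSucc 0, Int.negSucc 0, Int.negSucc 0, Int.ofNat 1, Int.negSucc 0, Int.ofNat 3, Int.ofNat 1, Int.negSucc 0, Int.ofNat 1, Int.negSucc 0, Int.negSucc 0, Int.negSucc 0, Int.ofNat 1, Int.ofNat 1],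
  [Int.ofNat 1, Int.negSucc 0, Int.ofNat 1, Int.ofNat 1, Int.negSucc 0, Int.ofNat 1, Int.ofNat 1, Int.ofNat 1, Int.ofNat 1, Int.negSucc 0, Int.negSucc 0, Int.negSucc 0, Int.negSucc 0, Int.negSucc 0, Int.negSucc 0, Int.ofNat 3, Int.negSucc 0, Int.negSucc 0, Int.ofNat 1, Int.negSucc 0, Int.negSucc 0, Int.negSucc 0, Int.negSucc 0, Int.negSucc 0],
  [Int.ofNat 1, Int.negSucc 0, Int.negSucc 0, Int.ofNat 1, Int.negSucc 0, Int.negSucc 0, Int.negSucc 0, Int.ofNat 1, Int.ofNat 1, Int.ofNat 1, Int.ofNat 1, Int.negSucc 0, Int.negSucc 0, Int.negSucc 0, Int.negSucc 0, Int.negSucc 2, Int.negSucc 0, Int.negSucc 0, Int.negSucc 0, Int.negSucc 0, Int.negSucc 0, Int.negSucc 0, Int.ofNat 1, Int.negSucc 0],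
  [Int.ofNat 1, Int.negSucc 0, Int.negSucc 0, Int.ofNat 1, Int.negSucc 0, Int.negSucc 0, Int.negSucc 0, Int.ofNat 1, Int.negSucc 0, Int.negSucc 0, Int.negSucc 0, Int.ofNat 1, Int.negSucc 2, Int.negSucc 0, Int.negSucc 0, Int.negSucc 0, Int.negSucc 0, Int.negSucc 0, Int.ofNat 1, Int.negSucc 0, Int.ofNat 1, Int.negSucc 0, Int.ofNat 1, Int.negSucc 0],
  [Int.negSucc 0, Int.ofNat 1, Int.ofNat 1, Int.negSucc 0, Int.negSucc 0, Int.negSucc 0, Int.negSucc 0, Int.negSucc 0, Int.ofNat 1, Int.negSucc 0, Int.negSucc 0, Int.negSucc 0, Int.negSucc 0, Int.ofNat 1, Int.ofNat 1, Int.ofNat 1, Int.negSucc 0, Int.negSucc 0, Int.negSucc 0, Int.negSucc 0, Int.negSucc 0, Int.negSucc 2, Int.negSucc 0, Int.ofNat 1],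
  [Int.ofNat 1, Int.ofNat 1, Int.negSucc 0, Int.negSucc 0, Int.negSucc 0, Int.negSucc 0, Int.negSucc 0, Int.ofNat 1, Int.ofNat 1, Int.ofNat 1, Int.ofNat 1, Int.ofNat 1, Int.negSucc 0, Int.ofNat 1, Int.ofNat 1, Int.ofNat 1, Int.negSucc 0, Int.negSucc 0, Int.ofNat 1, Int.negSucc 0, Int.negSucc 0, Int.ofNat 3, Int.negSucc 0, Int.ofNat 1],
  [Int.negSucc 0, Int.ofNat 1, Int.ofNat 1, Int.negSucc 0, Int.negSucc 0, Int.negSucc 0, Int.negSucc 0, Int.negSucc 0, Int.ofNat 1, Int.ofNat 1, Int.ofNat 1, Int.ofNat 1, Int.ofNat 1, Int.negSucc 0, Int.ofNat 1, Int.ofNat 1, Int.ofNat 1, Int.negSucc 0, Int.negSucc 0, Int.ofNat 1, Int.negSucc 0, Int.negSucc 0, Int.ofNat 3, Int.ofNat 1],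
  [Int.ofNat 2, Int.ofNat 0, Int.ofNat 0, Int.ofNat 0, Int.negSucc 1, Int.ofNat 0, Int.ofNat 0, Int.ofNat 0, Int.ofNat 0, Int.ofNat 0, Int.ofNat 0, Int.ofNat 0, Int.ofNat 0, Int.negSucc 1, Int.ofNat 2, Int.ofNat 0, Int.ofNat 0, Int.ofNat 0, Int.negSucc 1, Int.ofNat 2, Int.negSucc 1, Int.ofNat 0, Int.ofNat 2, Int.ofNat 0],
  [Int.ofNat 0, Int.negSucc 1, Int.ofNat 0, Int.ofNat 0, Int.ofNat 0, Int.ofNat 0, Int.ofNat 0, Int.ofNat 0, Int.ofNat 0, Int.ofNat 0, Int.negSucc 1, Int.ofNat 2, Int.ofNat 0, Int.ofNat 0, Int.ofNat 0, Int.negSucc 1, Int.ofNat 2, Int.negSucc 1, Int.ofNat 0, Int.ofNat 2, Int.ofNat 2, Int.ofNat 0, Int.ofNat 0, Int.ofNat 0],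
  [Int.negSucc 0, Int.ofNat 1, Int.negSucc 0, Int.ofNat 1, Int.negSucc 0, Int.ofNat 1, Int.negSucc 0, Int.negSucc 0, Int.negSucc 0, Int.ofNat 1, Int.negSucc 0, Int.ofNat 1, Int.negSucc 0, Int.negSucc 0, Int.ofNat 1, Int.negSucc 0, Int.ofNat 1, Int.negSucc 0, Int.negSucc 0, Int.ofNat 1, Int.ofNat 3, Int.negSucc 0, Int.negSucc 0, Int.negSucc 0],
  [Int.negSucc 0, Int.negSucc 0, Int.negSucc 0, Int.ofNat 1, Int.negSucc 0, Int.negSucc 0, Int.negSucc 0, Int.negSucc 0, Int.negSucc 0, Int.negSucc 0, Int.ofNat 3, Int.negSucc 0, Int.ofNat 1, Int.ofNat 1, Int.negSucc 0, Int.negSucc 0, Int.negSucc 0, Int.ofNat 1, Int.ofNat 1, Int.ofNat 1, Int.negSucc 0, Int.ofNat 1, Int.ofNat 1, Int.negSucc 0],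
  [Int.negSucc 0, Int.negSucc 0, Int.negSucc 0, Int.ofNat 1, Int.negSucc 0, Int.negSucc 0, Int.negSucc 0, Int.negSucc 0, Int.negSucc 0, Int.negSucc 0, Int.ofNat 3, Int.negSucc 0, Int.ofNat 1, Int.ofNat 1, Int.negSucc 0, Int.negSucc 0, Int.negSucc 0, Int.ofNat 1, Int.ofNat 1, Int.ofNat 1, Int.negSucc 0, Int.ofNat 1, Int.ofNat 1, Int.negSucc 0],
  [Int.negSucc 0, Int.negSucc 0, Int.ofNat 1, Int.ofNat 1, Int.negSucc 0, Int.ofNat 1, Int.ofNat 1, Int.negSucc 0, Int.negSucc 0, Int.ofNat 1, Int.negSucc 2, Int.negSucc 0, Int.ofNat 1, Int.ofNat 1, Int.negSucc 0, Int.ofNat 1, Int.negSucc 0, Int.ofNat 1, Int.negSucc 0, Int.ofNat 1, Int.negSucc 0, Int.ofNat 1, Int.negSucc 0, Int.negSucc 0],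
  [Int.negSucc 0, Int.ofNat 1, Int.ofNat 1, Int.negSucc 0, Int.ofNat 1, Int.negSucc 0, Int.negSucc 2, Int.ofNat 1, Int.negSucc 0, Int.negSucc 0, Int.ofNat 1, Int.negSucc 0, Int.ofNat 1, Int.ofNat 1, Int.negSucc 0, Int.ofNat 1, Int.ofNat 1, Int.negSucc 0, Int.ofNat 1, Int.negSucc 0, Int.negSucc 0, Int.negSucc 0, Int.ofNat 1, Int.negSucc 0],
  [Int.negSucc 0, Int.ofNat 1, Int.negSucc 0, Int.negSucc 0, Int.ofNat 1, Int.ofNat 1, Int.ofNat 3, Int.ofNat 1, Int.negSucc 0, Int.ofNat 1, Int.negSucc 0, Int.negSucc 0, Int.ofNat 1, Int.ofNat 1, Int.negSucc 0, Int.negSucc 0, Int.ofNat 1, Int.negSucc 0, Int.negSucc 0, Int.negSucc 0, Int.negSucc 0, Int.negSucc 0, Int.negSucc 0, Int.negSucc 0],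
  [Int.ofNat 0, Int.negSucc 1, Int.ofNat 0, Int.ofNat 0, Int.ofNat 0, Int.ofNat 2, Int.ofNat 2, Int.ofNat 0, Int.ofNat 0, Int.ofNat 2, Int.ofNat 0, Int.ofNat 0, Int.ofNat 2, Int.ofNat 0, Int.ofNat 0, Int.ofNat 0, Int.ofNat 0, Int.ofNat 0, Int.ofNat 0, Int.negSucc 1, Int.ofNat 0, Int.negSucc 1, Int.negSucc 1, Int.ofNat 0],
  [Int.ofNat 0, Int.ofNat 0, Int.ofNat 2, Int.ofNat 0, Int.ofNat 0, Int.negSucc 1, Int.negSucc 1, Int.ofNat 2, Int.ofNat 0, Int.ofNat 2, Int.ofNat 0, Int.negSucc 1, Int.ofNat 0, Int.ofNat 2, Int.ofNat 0, Int.ofNat 0, Int.ofNat 0, Int.ofNat 0, Int.ofNat 0, Int.negSucc 1, Int.ofNat 0, Int.ofNat 0, Int.ofNat 0, Int.ofNat 0],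
  [Int.ofNat 1, Int.ofNat 1, Int.negSucc 0, Int.ofNat 1, Int.negSucc 0, Int.negSucc 0, Int.negSucc 0, Int.ofNat 3, Int.ofNat 1, Int.ofNat 1, Int.negSucc 0, Int.negSucc 0, Int.ofNat 1, Int.ofNat 1, Int.ofNat 1, Int.negSucc 0, Int.negSucc 0, Int.ofNat 1, Int.ofNat 1, Int.negSucc 0, Int.negSucc 0, Int.ofNat 1, Int.negSucc 0, Int.ofNat 1],
  [Int.negSucc 0, Int.ofNat 1, Int.negSucc 0, Int.ofNat 1, Int.ofNat 1, Int.negSucc 0, Int.ofNat 1, Int.negSucc 0, Int.negSucc 0, Int.negSucc 0, Int.ofNat 3, Int.ofNat 1, Int.ofNat 1, Int.negSucc 0, Int.negSucc 0, Int.ofNat 1, Int.ofNat 1, Int.ofNat 1, Int.negSucc 0, Int.negSucc 0, Int.ofNat 1, Int.ofNat 1, Int.negSucc 0, Int.ofNat 1],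
  [Int.ofNat 1, Int.negSucc 0, Int.ofNat 1, Int.ofNat 1, Int.ofNat 1, Int.negSucc 0, Int.ofNat 1, Int.negSucc 0, Int.negSucc 0, Int.negSucc 2, Int.ofNat 1, Int.ofNat 1, Int.ofNat 1, Int.negSucc 0, Int.negSucc 0, Int.negSucc 0, Int.ofNat 1, Int.ofNat 1, Int.negSucc 0, Int.negSucc 0, Int.negSucc 0, Int.ofNat 1, Int.negSucc 0, Int.negSucc 0],
  [Int.negSucc 0, Int.ofNat 1, Int.ofNat 1, Int.ofNat 1, Int.negSucc 0, Int.ofNat 1, Int.negSucc 0, Int.negSucc 0, Int.negSucc 2, Int.ofNat 1, Int.ofNat 1, Int.ofNat 1, Int.negSucc 0, Int.negSucc 0, Int.negSucc 0, Int.ofNat 1, Int.ofNat 1, Int.negSucc 0, Int.negSucc 0, Int.negSucc 0, Int.ofNat 1, Int.negSucc 0, Int.ofNat 1, Int.negSucc 0],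
  [Int.ofNat 1, Int.ofNat 1, Int.negSucc 0, Int.ofNat 1, Int.negSucc 0, Int.ofNat 1, Int.negSucc 0, Int.ofNat 1, Int.negSucc 2, Int.negSucc 0, Int.negSucc 0, Int.negSucc 0, Int.negSucc 0, Int.negSucc 0, Int.negSucc 0, Int.ofNat 1, Int.ofNat 1, Int.negSucc 0, Int.ofNat 1, Int.negSucc 0, Int.ofNat 1, Int.ofNat 1, Int.ofNat 1, Int.negSucc 0],
  [Int.negSucc 0, Int.negSucc 0, Int.ofNat 1, Int.negSucc 0, Int.ofNat 1, Int.ofNat 1, Int.ofNat 1, Int.ofNat 1, Int.ofNat 3, Int.ofNat 1, Int.negSucc 0, Int.negSucc 0, Int.ofNat 1, Int.ofNat 1, Int.negSucc 0, Int.ofNat 1, Int.negSucc 0, Int.negSucc 0, Int.negSucc 0, Int.negSucc 0, Int.ofNat 1, Int.ofNat 1, Int.ofNat 1, Int.negSucc 0],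
  [Int.negSucc 0, Int.ofNat 1, Int.negSucc 0, Int.negSucc 0, Int.negSucc 0, Int.negSucc 0, Int.ofNat 1, Int.ofNat 1, Int.ofNat 1, Int.negSucc 0, Int.ofNat 1, Int.negSucc 0, Int.ofNat 1, Int.ofNat 3, Int.negSucc 0, Int.ofNat 1, Int.ofNat 1, Int.ofNat 1, Int.ofNat 1, Int.negSucc 0, Int.ofNat 1, Int.ofNat 1, Int.negSucc 0, Int.negSucc 0],
  [Int.ofNat 1, Int.ofNat 1, Int.ofNat 1, Int.negSucc 0, Int.negSucc 0, Int.negSucc 0, Int.ofNat 1, Int.negSucc 0, Int.ofNat 1, Int.ofNat 1, Int.negSucc 0, Int.ofNat 1, Int.ofNat 1, Int.ofNat 3, Int.negSucc 0, Int.ofNat 1, Int.ofNat 1, Int.ofNat 1, Int.negSucc 0, Int.negSucc 0, Int.ofNat 1, Int.negSucc 0, Int.negSucc 0, Int.negSucc 0],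
  [Int.negSucc 0, Int.ofNat 1, Int.ofNat 1, Int.ofNat 1, Int.negSucc 0, Int.negSucc 0, Int.negSucc 0, Int.ofNat 1, Int.negSucc 0, Int.ofNat 1, Int.ofNat 1, Int.negSucc 0, Int.ofNat 1, Int.ofNat 1, Int.ofNat 3, Int.negSucc 0, Int.ofNat 1, Int.ofNat 1, Int.ofNat 1, Int.negSucc 0, Int.negSucc 0, Int.ofNat 1, Int.negSucc 0, Int.negSucc 0],
  [Int.ofNat 1, Int.negSucc 0, Int.negSucc 0, Int.negSucc 0, Int.negSucc 0, Int.negSucc 2, Int.negSucc 0, Int.ofNat 1, Int.negSucc 0, Int.ofNat 1, Int.ofNat 1, Int.negSucc 0, Int.ofNat 1, Int.ofNat 1, Int.ofNat 1, Int.negSucc 0, Int.ofNat 1, Int.negSucc 0, Int.ofNat 1, Int.negSucc 0, Int.negSucc 0, Int.ofNat 1, Int.negSucc 0, Int.ofNat 1],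
  [Int.negSucc 0, Int.negSucc 0, Int.negSucc 2, Int.negSucc 0, Int.ofNat 1, Int.negSucc 0, Int.ofNat 1, Int.ofNat 1, Int.negSucc 0, Int.ofNat 1, Int.ofNat 1, Int.ofNat 1, Int.negSucc 0, Int.ofNat 1, Int.negSucc 0, Int.ofNat 1, Int.negSucc 0, Int.negSucc 0, Int.ofNat 1, Int.negSucc 0, Int.ofNat 1, Int.negSucc 0, Int.negSucc 0, Int.ofNat 1],
  [Int.negSucc 0, Int.negSucc 0, Int.ofNat 1, Int.ofNat 1, Int.ofNat 1, Int.ofNat 1, Int.ofNat 1, Int.ofNat 1, Int.negSucc 0, Int.negSucc 0, Int.negSucc 0, Int.ofNat 1, Int.negSucc 0, Int.ofNat 1, Int.ofNat 1, Int.negSucc 0, Int.negSucc 0, Int.ofNat 1, Int.ofNat 1, Int.negSucc 0, Int.negSucc 0, Int.negSucc 0, Int.negSucc 0, Int.negSucc 2],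
  [Int.negSucc 0, Int.ofNat 1, Int.ofNat 1, Int.ofNat 1, Int.ofNat 1, Int.ofNat 1, Int.ofNat 1, Int.negSucc 0, Int.negSucc 0, Int.ofNat 1, Int.negSucc 0, Int.ofNat 1, Int.negSucc 0, Int.negSucc 0, Int.negSucc 0, Int.negSucc 0, Int.negSucc 0, Int.ofNat 1, Int.negSucc 0, Int.ofNat 1, Int.negSucc 0, Int.ofNat 1, Int.negSucc 0, Int.negSucc 2],
  [Int.ofNat 0, Int.negSucc 1, Int.negSucc 1, Int.ofNat 0, Int.ofNat 2, Int.ofNat 0, Int.ofNat 0, Int.negSucc 1, Int.ofNat 0, Int.ofNat 2, Int.ofNat 0, Int.ofNat 2, Int.ofNat 0, Int.ofNat 0, Int.negSucc 1, Int.ofNat 0, Int.ofNat 0, Int.ofNat 0, Int.ofNat 0, Int.ofNat 0, Int.ofNat 0, Int.ofNat 0, Int.ofNat 0, Int.ofNat 2],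
  [Int.ofNat 0, Int.negSucc 1, Int.ofNat 2, Int.ofNat 0, Int.ofNat 2, Int.ofNat 0, Int.ofNat 0, Int.negSucc 1, Int.ofNat 0, Int.negSucc 1, Int.ofNat 0, Int.ofNat 2, Int.ofNat 0, Int.ofNat 0, Int.negSucc 1, Int.ofNat 0, Int.ofNat 0, Int.ofNat 0, Int.ofNat 0, Int.ofNat 0, Int.ofNat 0, Int.ofNat 0, Int.ofNat 0, Int.ofNat 2],
  [Int.ofNat 0, Int.ofNat 0, Int.ofNat 2, Int.ofNat 0, Int.negSucc 1, Int.ofNat 0, Int.ofNat 0, Int.ofNat 0, Int.ofNat 0, Int.ofNat 0, Int.ofNat 0, Int.negSucc 1, Int.ofNat 0, Int.ofNat 2, Int.ofNat 0, Int.ofNat 0, Int.ofNat 0, Int.ofNat 0, Int.negSucc 1, Int.ofNat 2, Int.ofNat 0, Int.negSucc 1, Int.ofNat 0, Int.ofNat 2],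
  [Int.ofNat 2, Int.ofNat 0, Int.negSucc 1, Int.ofNat 0, Int.ofNat 0, Int.ofNat 0, Int.ofNat 2, Int.ofNat 2, Int.ofNat 0, Int.ofNat 0, Int.ofNat 0, Int.ofNat 2, Int.negSucc 1, Int.ofNat 0, Int.negSucc 1, Int.ofNat 0, Int.ofNat 0, Int.negSucc 1, Int.ofNat 0, Int.ofNat 0, Int.ofNat 0, Int.ofNat 0, Int.ofNat 0, Int.ofNat 0],
  [Int.negSucc 1, Int.ofNat 0, Int.ofNat 2, Int.ofNat 0, Int.ofNat 0, Int.ofNat 0, Int.ofNat 2, Int.negSucc 1, Int.ofNat 0, Int.ofNat 0, Int.ofNat 0, Int.negSucc 1, Int.negSucc 1, Int.ofNat 0, Int.negSucc 1, Int.ofNat 0, Int.ofNat 0, Int.negSucc 1, Int.ofNat 0, Int.ofNat 0, Int.ofNat 0, Int.ofNat 0, Int.ofNat 0, Int.ofNat 0],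
  [Int.ofNat 0, Int.negSucc 1, Int.ofNat 0, Int.ofNat 2, Int.ofNat 0, Int.ofNat 0, Int.ofNat 0, Int.ofNat 2, Int.negSucc 1, Int.ofNat 0, Int.ofNat 0, Int.ofNat 0, Int.negSucc 1, Int.negSucc 1, Int.ofNat 0, Int.negSucc 1, Int.ofNat 0, Int.ofNat 0, Int.negSucc 1, Int.ofNat 0, Int.ofNat 0, Int.ofNat 0, Int.ofNat 0, Int.ofNat 0],
  [Int.negSucc 0, Int.ofNat 1, Int.negSucc 0, Int.ofNat 1, Int.ofNat 1, Int.negSucc 0, Int.negSucc 0, Int.ofNat 1, Int.ofNat 1, Int.ofNat 1, Int.ofNat 1, Int.ofNat 3, Int.ofNat 1, Int.negSucc 0, Int.negSucc 0, Int.negSucc 0, Int.ofNat 1, Int.negSucc 0, Int.ofNat 1, Int.negSucc 0, Int.ofNat 1, Int.negSucc 0, Int.ofNat 1, Int.negSucc 0],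
  [Int.ofNat 1, Int.ofNat 1, Int.negSucc 0, Int.negSucc 0, Int.ofNat 1, Int.ofNat 1, Int.ofNat 1, Int.ofNat 1, Int.ofNat 3, Int.ofNat 1, Int.negSucc 0, Int.negSucc 0, Int.negSucc 0, Int.ofNat 1, Int.negSucc 0, Int.ofNat 1, Int.negSucc 0, Int.ofNat 1, Int.negSucc 0, Int.ofNat 1, Int.negSucc 0, Int.ofNat 1, Int.negSucc 0, Int.negSucc 0],
  [Int.negSucc 0, Int.negSucc 0, Int.ofNat 1, Int.negSucc 0, Int.ofNat 1, Int.ofNat 1, Int.negSucc 0, Int.negSucc 0, Int.ofNat 3, Int.ofNat 1, Int.negSucc 0, Int.negSucc 0, Int.negSucc 0, Int.ofNat 1, Int.negSucc 0, Int.ofNat 1, Int.negSucc 0, Int.ofNat 1, Int.negSucc 0, Int.negSucc 0, Int.negSucc 0, Int.negSucc 0, Int.negSucc 0, Int.ofNat 1],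
  [Int.negSucc 0, Int.negSucc 0, Int.ofNat 1, Int.negSucc 0, Int.negSucc 0, Int.negSucc 0, Int.ofNat 1, Int.negSucc 0, Int.negSucc 0, Int.ofNat 1, Int.negSucc 0, Int.ofNat 1, Int.ofNat 1, Int.negSucc 0, Int.negSucc 0, Int.ofNat 1, Int.ofNat 3, Int.negSucc 0, Int.negSucc 0, Int.negSucc 0, Int.negSucc 0, Int.ofNat 1, Int.negSucc 0, Int.ofNat 1],
  [Int.ofNat 1, Int.ofNat 1, Int.negSucc 0, Int.ofNat 1, Int.negSucc 0, Int.ofNat 1, Int.ofNat 1, Int.negSucc 0, Int.negSucc 0, Int.ofNat 1, Int.negSucc 0, Int.ofNat 1, Int.ofNat 1, Int.negSucc 0, Int.ofNat 1, Int.ofNat 1, Int.ofNat 3, Int.ofNat 1, Int.negSucc 0, Int.negSucc 0, Int.negSucc 0, Int.ofNat 1, Int.negSucc 0, Int.negSucc 0],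
  [Int.ofNat 1, Int.ofNat 1, Int.ofNat 1, Int.ofNat 1, Int.negSucc 0, Int.negSucc 0, Int.negSucc 0, Int.negSucc 0, Int.negSucc 0, Int.negSucc 0, Int.ofNat 1, Int.ofNat 1, Int.ofNat 1, Int.negSucc 0, Int.ofNat 1, Int.negSucc 0, Int.ofNat 3, Int.ofNat 1, Int.ofNat 1, Int.negSucc 0, Int.negSucc 0, Int.ofNat 1, Int.ofNat 1, Int.negSucc 0],
  [Int.ofNat 1, Int.negSucc 0, Int.ofNat 1, Int.ofNat 1, Int.negSucc 0, Int.negSucc 0, Int.ofNat 1, Int.ofNat 1, Int.ofNat 1, Int.negSucc 0, Int.negSucc 0, Int.ofNat 1, Int.negSucc 0, Int.negSucc 0, Int.ofNat 1, Int.ofNat 1, Int.ofNat 1, Int.negSucc 0, Int.negSucc 0, Int.negSucc 0, Int.ofNat 1, Int.ofNat 3, Int.ofNat 1, Int.negSucc 0],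
  [Int.ofNat 1, Int.negSucc 0, Int.negSucc 0, Int.ofNat 1, Int.negSucc 0, Int.ofNat 1, Int.negSucc 0, Int.ofNat 1, Int.ofNat 1, Int.ofNat 1, Int.ofNat 1, Int.ofNat 1, Int.negSucc 0, Int.negSucc 0, Int.ofNat 1, Int.negSucc 0, Int.ofNat 1, Int.negSucc 0, Int.ofNat 1, Int.negSucc 0, Int.ofNat 1, Int.ofNat 3, Int.negSucc 0, Int.negSucc 0],
  [Int.negSucc 1, Int.ofNat 0, Int.ofNat 0, Int.ofNat 0, Int.ofNat 0, Int.ofNat 0, Int.negSucc 1, Int.ofNat 0, Int.ofNat 0, Int.ofNat 0, Int.ofNat 0, Int.ofNat 0, Int.negSucc 1, Int.ofNat 0, Int.ofNat 0, Int.negSucc 1, Int.ofNat 2, Int.negSucc 1, Int.ofNat 0, Int.negSucc 1, Int.ofNat 0, Int.ofNat 2, Int.ofNat 0, Int.ofNat 0],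
  [Int.negSucc 1, Int.ofNat 0, Int.negSucc 1, Int.ofNat 0, Int.ofNat 0, Int.ofNat 2, Int.ofNat 0, Int.ofNat 0, Int.ofNat 2, Int.negSucc 1, Int.ofNat 0, Int.negSucc 1, Int.ofNat 0, Int.ofNat 0, Int.negSucc 1, Int.negSucc 1, Int.ofNat 0, Int.ofNat 0, Int.ofNat 0, Int.ofNat 0, Int.ofNat 0, Int.ofNat 0, Int.ofNat 0, Int.ofNat 0],
  [Int.ofNat 0, Int.negSucc 1, Int.ofNat 0, Int.ofNat 0, Int.ofNat 0, Int.ofNat 2, Int.ofNat 0, Int.ofNat 0, Int.ofNat 2, Int.ofNat 0, Int.ofNat 2, Int.negSucc 1, Int.ofNat 0, Int.ofNat 0, Int.negSucc 1, Int.ofNat 0, Int.ofNat 0, Int.ofNat 0, Int.ofNat 0, Int.ofNat 0, Int.ofNat 2, Int.ofNat 0, Int.ofNat 0, Int.negSucc 1],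
  [Int.ofNat 2, Int.ofNat 0, Int.ofNat 0, Int.ofNat 0, Int.negSucc 1, Int.ofNat 0, Int.ofNat 0, Int.ofNat 0, Int.ofNat 2, Int.ofNat 0, Int.ofNat 0, Int.ofNat 2, Int.ofNat 0, Int.ofNat 2, Int.negSucc 1, Int.ofNat 0, Int.ofNat 0, Int.negSucc 1, Int.ofNat 0, Int.ofNat 0, Int.ofNat 0, Int.ofNat 0, Int.ofNat 0, Int.negSucc 1],
  [Int.negSucc 1, Int.ofNat 0, Int.ofNat 0, Int.ofNat 2, Int.negSucc 1, Int.ofNat 2, Int.ofNat 0, Int.ofNat 0, Int.ofNat 0, Int.ofNat 0, Int.ofNat 0, Int.ofNat 0, Int.negSucc 1, Int.ofNat 2, Int.ofNat 0, Int.ofNat 0, Int.ofNat 0, Int.ofNat 0, Int.negSucc 1, Int.ofNat 0, Int.ofNat 0, Int.ofNat 0, Int.ofNat 0, Int.ofNat 2],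
  [Int.ofNat 0, Int.ofNat 0, Int.ofNat 2, Int.negSucc 1, Int.ofNat 2, Int.ofNat 0, Int.ofNat 0, Int.ofNat 0, Int.ofNat 0, Int.ofNat 0, Int.ofNat 0, Int.negSucc 1, Int.ofNat 2, Int.ofNat 0, Int.ofNat 0, Int.ofNat 0, Int.ofNat 0, Int.negSucc 1, Int.ofNat 0, Int.ofNat 0, Int.ofNat 0, Int.ofNat 0, Int.negSucc 1, Int.ofNat 2],
  [Int.ofNat 0, Int.ofNat 0, Int.negSucc 1, Int.negSucc 1, Int.ofNat 2, Int.ofNat 0, Int.ofNat 0, Int.ofNat 0, Int.ofNat 0, Int.ofNat 0, Int.ofNat 0, Int.ofNat 2, Int.ofNat 2, Int.ofNat 0, Int.ofNat 0, Int.ofNat 0, Int.ofNat 0, Int.negSucc 1, Int.ofNat 0, Int.ofNat 0, Int.ofNat 0, Int.ofNat 0, Int.negSucc 1, Int.ofNat 2],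
  [Int.ofNat 0, Int.ofNat 0, Int.ofNat 2, Int.ofNat 2, Int.negSucc 1, Int.ofNat 0, Int.ofNat 0, Int.ofNat 0, Int.ofNat 0, Int.ofNat 0, Int.ofNat 0, Int.ofNat 2, Int.negSucc 1, Int.ofNat 0, Int.ofNat 0, Int.ofNat 0, Int.ofNat 0, Int.negSucc 1, Int.ofNat 0, Int.ofNat 0, Int.ofNat 0, Int.ofNat 0, Int.negSucc 1, Int.ofNat 2],
  [Int.ofNat 0, Int.ofNat 2, Int.ofNat 0, Int.ofNat 2, Int.ofNat 0, Int.ofNat 0, Int.negSucc 1, Int.ofNat 0, Int.ofNat 0, Int.ofNat 0, Int.ofNat 0, Int.ofNat 0, Int.ofNat 0, Int.ofNat 0, Int.ofNat 0, Int.ofNat 0, Int.negSucc 1, Int.negSucc 1, Int.ofNat 0, Int.negSucc 1, Int.ofNat 0, Int.ofNat 0, Int.ofNat 2, Int.ofNat 2],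
  [Int.ofNat 0, Int.ofNat 2, Int.ofNat 0, Int.ofNat 2, Int.ofNat 0, Int.ofNat 0, Int.negSucc 1, Int.ofNat 0, Int.ofNat 0, Int.ofNat 0, Int.ofNat 0, Int.ofNat 0, Int.ofNat 0, Int.ofNat 0, Int.ofNat 0, Int.ofNat 0, Int.negSucc 1, Int.negSucc 1, Int.ofNat 0, Int.negSucc 1, Int.ofNat 0, Int.ofNat 0, Int.ofNat 2, Int.ofNat 2],
  [Int.ofNat 2, Int.ofNat 0, Int.ofNat 2, Int.ofNat 0, Int.ofNat 2, Int.ofNat 0, Int.ofNat 0, Int.negSucc 1, Int.ofNat 0, Int.ofNat 0, Int.ofNat 0, Int.ofNat 0, Int.ofNat 0, Int.ofNat 0, Int.ofNat 0, Int.ofNat 0, Int.ofNat 0, Int.negSucc 1, Int.negSucc 1, Int.ofNat 0, Int.negSucc 1, Int.ofNat 0, Int.ofNat 0, Int.ofNat 2],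
  [Int.ofNat 1, Int.ofNat 3, Int.ofNat 1, Int.ofNat 1, Int.ofNat 1, Int.ofNat 1, Int.ofNat 1, Int.negSucc 0, Int.ofNat 1, Int.ofNat 1, Int.ofNat 1, Int.ofNat 1, Int.ofNat 1, Int.negSucc 0, Int.ofNat 1, Int.ofNat 1, Int.negSucc 0, Int.negSucc 0, Int.negSucc 0, Int.ofNat 1, Int.negSucc 0, Int.ofNat 1, Int.negSucc 0, Int.ofNat 1],
  [Int.ofNat 1, Int.ofNat 1, Int.ofNat 1, Int.ofNat 1, Int.negSucc 0, Int.ofNat 1, Int.ofNat 1, Int.ofNat 1, Int.ofNat 1, Int.ofNat 1, Int.negSucc 0, Int.ofNat 1, Int.ofNat 1, Int.negSucc 0, Int.negSucc 0, Int.negSucc 0, Int.ofNat 1, Int.negSucc 0, Int.ofNat 1, Int.negSucc 0, Int.ofNat 1, Int.ofNat 3, Int.ofNat 1, Int.ofNat 1],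
  [Int.ofNat 1, Int.ofNat 1, Int.ofNat 1, Int.ofNat 1, Int.negSucc 0, Int.ofNat 1, Int.negSucc 0, Int.negSucc 0, Int.negSucc 0, Int.ofNat 1, Int.negSucc 0, Int.negSucc 0, Int.negSucc 0, Int.negSucc 0, Int.negSucc 0, Int.negSucc 0, Int.ofNat 1, Int.negSucc 0, Int.negSucc 0, Int.negSucc 2, Int.ofNat 1, Int.ofNat 1, Int.ofNat 1, Int.ofNat 1],
  [Int.ofNat 1, Int.negSucc 0, Int.negSucc 0, Int.ofNat 1, Int.negSucc 0, Int.negSucc 0, Int.ofNat 1, Int.negSucc 0, Int.negSucc 0, Int.negSucc 0, Int.ofNat 1, Int.negSucc 0, Int.ofNat 1, Int.ofNat 1, Int.ofNat 1, Int.negSucc 0, Int.negSucc 0, Int.negSucc 0, Int.ofNat 1, Int.negSucc 0, Int.ofNat 1, Int.ofNat 1, Int.negSucc 2, Int.ofNat 1],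
  [Int.negSucc 0, Int.ofNat 1, Int.ofNat 1, Int.ofNat 1, Int.ofNat 1, Int.negSucc 0, Int.ofNat 1, Int.negSucc 0, Int.negSucc 0, Int.negSucc 0, Int.ofNat 1, Int.negSucc 0, Int.ofNat 1, Int.ofNat 3, Int.ofNat 1, Int.negSucc 0, Int.ofNat 1, Int.negSucc 0, Int.ofNat 1, Int.negSucc 0, Int.ofNat 1, Int.ofNat 1, Int.negSucc 0, Int.negSucc 0],
  [Int.negSucc 0, Int.ofNat 1, Int.negSucc 0, Int.ofNat 1, Int.ofNat 1, Int.ofNat 1, Int.negSucc 0, Int.negSucc 0, Int.negSucc 0, Int.ofNat 1, Int.negSucc 0, Int.negSucc 0, Int.ofNat 1, Int.ofNat 3, Int.ofNat 1, Int.ofNat 1, Int.ofNat 1, Int.negSucc 0, Int.negSucc 0, Int.negSucc 0, Int.ofNat 1, Int.ofNat 1, Int.ofNat 1, Int.negSucc 0],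
  [Int.negSucc 0, Int.ofNat 1, Int.negSucc 0, Int.negSucc 0, Int.ofNat 1, Int.negSucc 0, Int.ofNat 1, Int.ofNat 1, Int.ofNat 1, Int.ofNat 1, Int.ofNat 3, Int.negSucc 0, Int.ofNat 1, Int.ofNat 1, Int.negSucc 0, Int.negSucc 0, Int.negSucc 0, Int.ofNat 1, Int.ofNat 1, Int.negSucc 0, Int.negSucc 0, Int.ofNat 1, Int.ofNat 1, Int.negSucc 0],
  [Int.negSucc 0, Int.ofNat 1, Int.negSucc 0, Int.negSucc 0, Int.ofNat 1, Int.ofNat 1, Int.negSucc 0, Int.ofNat 1, Int.negSucc 0, Int.negSucc 0, Int.negSucc 0, Int.negSucc 0, Int.ofNat 1, Int.ofNat 1, Int.ofNat 1, Int.negSucc 0, Int.ofNat 3, Int.ofNat 1, Int.negSucc 0, Int.ofNat 1, Int.ofNat 1, Int.ofNat 1, Int.ofNat 1, Int.negSucc 0],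
  [Int.ofNat 1, Int.ofNat 1, Int.ofNat 1, Int.negSucc 0, Int.ofNat 1, Int.ofNat 1, Int.negSucc 0, Int.negSucc 0, Int.negSucc 0, Int.ofNat 1, Int.ofNat 1, Int.ofNat 1, Int.ofNat 1, Int.ofNat 1, Int.ofNat 1, Int.negSucc 0, Int.ofNat 3, Int.ofNat 1, Int.ofNat 1, Int.ofNat 1, Int.ofNat 1, Int.negSucc 0, Int.ofNat 1, Int.negSucc 0],
  [Int.ofNat 1, Int.ofNat 1, Int.ofNat 1, Int.ofNat 1, Int.negSucc 0, Int.ofNat 1, Int.ofNat 1, Int.negSucc 0, Int.negSucc 0, Int.negSucc 0, Int.ofNat 1, Int.ofNat 1, Int.ofNat 1, Int.ofNat 1, Int.ofNat 1, Int.ofNat 1, Int.negSucc 0, Int.ofNat 3, Int.ofNat 1, Int.ofNat 1, Int.ofNat 1, Int.ofNat 1, Int.negSucc 0, Int.negSucc 0],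
  [Int.ofNat 0, Int.ofNat 0, Int.ofNat 0, Int.negSucc 1, Int.ofNat 0, Int.negSucc 1, Int.ofNat 0, Int.negSucc 1, Int.negSucc 1, Int.negSucc 1, Int.ofNat 0, Int.ofNat 0, Int.ofNat 0, Int.ofNat 2, Int.negSucc 1, Int.ofNat 0, Int.ofNat 0, Int.ofNat 0, Int.ofNat 0, Int.ofNat 0, Int.ofNat 0, Int.ofNat 0, Int.ofNat 0, Int.ofNat 2],
  [Int.negSucc 1, Int.ofNat 0, Int.negSucc 1, Int.ofNat 0, Int.negSucc 1, Int.negSucc 1, Int.negSucc 1, Int.ofNat 0, Int.ofNat 0, Int.ofNat 0, Int.ofNat 2, Int.negSucc 1, Int.ofNat 0, Int.ofNat 0, Int.ofNat 0, Int.ofNat 0, Int.ofNat 0, Int.ofNat 0, Int.ofNat 0, Int.ofNat 0, Int.ofNat 0, Int.ofNat 0, Int.ofNat 0, Int.ofNat 2],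
  [Int.ofNat 1, Int.negSucc 0, Int.ofNat 1, Int.ofNat 1, Int.negSucc 0, Int.negSucc 0, Int.negSucc 0, Int.ofNat 1, Int.ofNat 1, Int.negSucc 0, Int.ofNat 1, Int.negSucc 0, Int.ofNat 1, Int.ofNat 1, Int.ofNat 1, Int.negSucc 0, Int.ofNat 1, Int.ofNat 1, Int.ofNat 1, Int.ofNat 1, Int.negSucc 0, Int.ofNat 1, Int.ofNat 1, Int.negSucc 2],
  [Int.ofNat 1, Int.negSucc 0, Int.negSucc 0, Int.ofNat 1, Int.ofNat 1, Int.ofNat 1, Int.ofNat 1, Int.ofNat 1, Int.ofNat 1, Int.ofNat 1, Int.negSucc 0, Int.ofNat 1, Int.negSucc 0, Int.ofNat 1, Int.ofNat 1, Int.negSucc 0, Int.ofNat 1, Int.ofNat 1, Int.negSucc 0, Int.negSucc 0, Int.ofNat 1, Int.negSucc 0, Int.ofNat 1, Int.negSucc 2],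
  [Int.negSucc 2, Int.negSucc 0, Int.negSucc 0, Int.negSucc 0, Int.negSucc 0, Int.negSucc 0, Int.ofNat 1, Int.ofNat 1, Int.ofNat 1, Int.ofNat 1, Int.negSucc 0, Int.ofNat 1, Int.negSucc 0, Int.negSucc 0, Int.negSucc 0, Int.negSucc 0, Int.negSucc 0, Int.negSucc 0, Int.negSucc 0, Int.negSucc 0, Int.ofNat 1, Int.negSucc 0, Int.negSucc 0, Int.ofNat 1],
  [Int.negSucc 2, Int.negSucc 0, Int.ofNat 1, Int.negSucc 0, Int.negSucc 0, Int.ofNat 1, Int.negSucc 0, Int.ofNat 1, Int.ofNat 1, Int.negSucc 0, Int.ofNat 1, Int.ofNat 1, Int.negSucc 0, Int.negSucc 0, Int.negSucc 0, Int.ofNat 1, Int.negSucc 0, Int.negSucc 0, Int.ofNat 1, Int.negSucc 0, Int.ofNat 1, Int.negSucc 0, Int.ofNat 1, Int.ofNat 1],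
  [Int.ofNat 1, Int.negSucc 0, Int.negSucc 0, Int.ofNat 1, Int.ofNat 1, Int.ofNat 1, Int.ofNat 1, Int.negSucc 0, Int.negSucc 0, Int.negSucc 0, Int.negSucc 0, Int.negSucc 2, Int.ofNat 1, Int.negSucc 0, Int.ofNat 1, Int.negSucc 0, Int.ofNat 1, Int.ofNat 1, Int.negSucc 0, Int.ofNat 1, Int.negSucc 0, Int.negSucc 0, Int.negSucc 0, Int.ofNat 1],
  [Int.ofNat 1, Int.negSucc 0, Int.ofNat 1, Int.ofNat 1, Int.ofNat 1, Int.negSucc 0, Int.negSucc 0, Int.negSucc 0, Int.negSucc 0, Int.ofNat 1, Int.ofNat 1, Int.negSucc 2, Int.ofNat 1, Int.negSucc 0, Int.ofNat 1, Int.ofNat 1, Int.ofNat 1, Int.ofNat 1, Int.ofNat 1, Int.ofNat 1, Int.negSucc 0, Int.negSucc 0, Int.ofNat 1, Int.ofNat 1],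
  [Int.ofNat 0, Int.ofNat 2, Int.ofNat 0, Int.ofNat 0, Int.ofNat 0, Int.negSucc 1, Int.ofNat 0, Int.ofNat 0, Int.ofNat 0, Int.ofNat 0, Int.ofNat 0, Int.negSucc 1, Int.ofNat 2, Int.negSucc 1, Int.ofNat 0, Int.ofNat 0, Int.ofNat 0, Int.ofNat 0, Int.ofNat 2, Int.ofNat 2, Int.negSucc 1, Int.ofNat 0, Int.ofNat 0, Int.ofNat 0],
  [Int.ofNat 0, Int.ofNat 2, Int.ofNat 0, Int.ofNat 0, Int.ofNat 0, Int.ofNat 0, Int.ofNat 2, Int.negSucc 1, Int.ofNat 0, Int.ofNat 2, Int.ofNat 0, Int.ofNat 2, Int.ofNat 0, Int.ofNat 0, Int.ofNat 0, Int.ofNat 0, Int.negSucc 1, Int.negSucc 1, Int.ofNat 0, Int.ofNat 0, Int.ofNat 0, Int.negSucc 1, Int.ofNat 0, Int.ofNat 0],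
  [Int.ofNat 1, Int.negSucc 0, Int.ofNat 1, Int.ofNat 1, Int.ofNat 1, Int.ofNat 1, Int.ofNat 3, Int.negSucc 0, Int.negSucc 0, Int.ofNat 1, Int.negSucc 0, Int.ofNat 1, Int.negSucc 0, Int.ofNat 1, Int.ofNat 1, Int.negSucc 0, Int.negSucc 0, Int.negSucc 0, Int.negSucc 0, Int.ofNat 1, Int.negSucc 0, Int.negSucc 0, Int.ofNat 1, Int.ofNat 1],
  [Int.negSucc 0, Int.negSucc 0, Int.ofNat 1, Int.ofNat 1, Int.negSucc 0, Int.ofNat 1, Int.ofNat 1, Int.ofNat 1, Int.ofNat 1, Int.ofNat 3, Int.negSucc 0, Int.negSucc 0, Int.ofNat 1, Int.negSucc 0, Int.ofNat 1, Int.negSucc 0, Int.ofNat 1, Int.ofNat 1, Int.negSucc 0, Int.negSucc 0, Int.negSucc 0, Int.negSucc 0, Int.ofNat 1, Int.ofNat 1],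
  [Int.ofNat 1, Int.ofNat 1, Int.negSucc 0, Int.negSucc 0, Int.negSucc 0, Int.negSucc 0, Int.ofNat 1, Int.ofNat 1, Int.ofNat 1, Int.ofNat 3, Int.negSucc 0, Int.negSucc 0, Int.ofNat 1, Int.negSucc 0, Int.negSucc 0, Int.negSucc 0, Int.ofNat 1, Int.negSucc 0, Int.negSucc 0, Int.negSucc 0, Int.negSucc 0, Int.negSucc 0, Int.ofNat 1, Int.negSucc 0],
  [Int.ofNat 1, Int.negSucc 0, Int.negSucc 0, Int.negSucc 0, Int.negSucc 0, Int.ofNat 1, Int.ofNat 1, Int.ofNat 1, Int.ofNat 3, Int.negSucc 0, Int.negSucc 0, Int.ofNat 1, Int.negSucc 0, Int.negSucc 0, Int.negSucc 0, Int.ofNat 1, Int.negSucc 0, Int.negSucc 0, Int.negSucc 0, Int.negSucc 0, Int.negSucc 0, Int.ofNat 1, Int.ofNat 1, Int.negSucc 0],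
  [Int.negSucc 0, Int.negSucc 0, Int.ofNat 1, Int.negSucc 0, Int.negSucc 0, Int.ofNat 1, Int.ofNat 1, Int.negSucc 0, Int.ofNat 3, Int.ofNat 1, Int.ofNat 1, Int.negSucc 0, Int.negSucc 0, Int.negSucc 0, Int.negSucc 0, Int.ofNat 1, Int.negSucc 0, Int.negSucc 0, Int.ofNat 1, Int.negSucc 0, Int.negSucc 0, Int.negSucc 0, Int.ofNat 1, Int.negSucc 0],
  [Int.ofNat 1, Int.ofNat 1, Int.negSucc 0, Int.ofNat 1, Int.ofNat 1, Int.ofNat 1, Int.negSucc 0, Int.negSucc 0, Int.negSucc 2, Int.negSucc 0, Int.ofNat 1, Int.negSucc 0, Int.ofNat 1, Int.ofNat 1, Int.negSucc 0, Int.ofNat 1, Int.ofNat 1, Int.negSucc 0, Int.negSucc 0, Int.negSucc 0, Int.negSucc 0, Int.negSucc 0, Int.ofNat 1, Int.negSucc 0],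
  [Int.ofNat 1, Int.negSucc 0, Int.negSucc 0, Int.ofNat 1, Int.ofNat 1, Int.ofNat 1, Int.ofNat 1, Int.negSucc 0, Int.negSucc 0, Int.ofNat 1, Int.negSucc 0, Int.negSucc 0, Int.ofNat 1, Int.negSucc 2, Int.negSucc 0, Int.ofNat 1, Int.ofNat 1, Int.ofNat 1, Int.negSucc 0, Int.negSucc 0, Int.ofNat 1, Int.negSucc 0, Int.negSucc 0, Int.negSucc 0],
  [Int.negSucc 0, Int.negSucc 0, Int.ofNat 1, Int.ofNat 1, Int.ofNat 1, Int.ofNat 1, Int.ofNat 1, Int.ofNat 1, Int.negSucc 0, Int.negSucc 0, Int.ofNat 1, Int.ofNat 1, Int.ofNat 1, Int.negSucc 2, Int.negSucc 0, Int.ofNat 1, Int.ofNat 1, Int.ofNat 1, Int.ofNat 1, Int.negSucc 0, Int.ofNat 1, Int.ofNat 1, Int.negSucc 0, Int.negSucc 0],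
  [Int.negSucc 0, Int.negSucc 0, Int.negSucc 0, Int.ofNat 1, Int.ofNat 1, Int.ofNat 1, Int.ofNat 1, Int.ofNat 1, Int.ofNat 1, Int.negSucc 0, Int.negSucc 0, Int.ofNat 1, Int.ofNat 1, Int.ofNat 1, Int.negSucc 2, Int.negSucc 0, Int.ofNat 1, Int.ofNat 1, Int.ofNat 1, Int.ofNat 1, Int.negSucc 0, Int.ofNat 1, Int.ofNat 1, Int.negSucc 0],
  [Int.negSucc 0, Int.negSucc 0, Int.negSucc 0, Int.ofNat 1, Int.negSucc 0, Int.ofNat 1, Int.negSucc 0, Int.negSucc 0, Int.negSucc 0, Int.ofNat 1, Int.ofNat 1, Int.negSucc 0, Int.negSucc 0, Int.negSucc 0, Int.negSucc 2, Int.ofNat 1, Int.negSucc 0, Int.ofNat 1, Int.negSucc 0, Int.negSucc 0, Int.ofNat 1, Int.negSucc 0, Int.negSucc 0, Int.negSucc 0],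
  [Int.ofNat 1, Int.negSucc 0, Int.ofNat 1, Int.negSucc 0, Int.negSucc 0, Int.negSucc 0, Int.ofNat 1, Int.ofNat 1, Int.negSucc 0, Int.negSucc 0, Int.negSucc 0, Int.negSucc 2, Int.ofNat 1, Int.negSucc 0, Int.ofNat 1, Int.negSucc 0, Int.negSucc 0, Int.ofNat 1, Int.negSucc 0, Int.negSucc 0, Int.negSucc 0, Int.negSucc 0, Int.negSucc 0, Int.negSucc 0],
  [Int.negSucc 0, Int.ofNat 1, Int.negSucc 0, Int.negSucc 0, Int.ofNat 1, Int.negSucc 0, Int.ofNat 1, Int.ofNat 1, Int.ofNat 1, Int.ofNat 1, Int.ofNat 1, Int.negSucc 0, Int.ofNat 3, Int.ofNat 1, Int.ofNat 1, Int.ofNat 1, Int.ofNat 1, Int.ofNat 1, Int.ofNat 1, Int.negSucc 0, Int.ofNat 1, Int.negSucc 0, Int.ofNat 1, Int.ofNat 1],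
  [Int.negSucc 0, Int.ofNat 1, Int.ofNat 1, Int.negSucc 0, Int.ofNat 1, Int.ofNat 1, Int.negSucc 0, Int.ofNat 1, Int.ofNat 3, Int.ofNat 1, Int.ofNat 1, Int.ofNat 1, Int.ofNat 1, Int.ofNat 1, Int.ofNat 1, Int.ofNat 1, Int.ofNat 1, Int.ofNat 1, Int.ofNat 1, Int.negSucc 0, Int.negSucc 0, Int.negSucc 0, Int.negSucc 0, Int.ofNat 1],
  [Int.ofNat 2, Int.ofNat 0, Int.ofNat 0, Int.negSucc 1, Int.ofNat 0, Int.ofNat 0, Int.ofNat 0, Int.ofNat 2, Int.ofNat 0, Int.ofNat 0, Int.ofNat 0, Int.negSucc 1, Int.negSucc 1, Int.ofNat 0, Int.ofNat 0, Int.ofNat 0, Int.ofNat 0, Int.ofNat 0, Int.negSucc 1, Int.ofNat 0, Int.negSucc 1, Int.ofNat 0, Int.negSucc 1, Int.ofNat 0],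
  [Int.ofNat 2, Int.ofNat 0, Int.ofNat 0, Int.negSucc 1, Int.ofNat 0, Int.ofNat 0, Int.ofNat 0, Int.ofNat 2, Int.ofNat 0, Int.ofNat 0, Int.ofNat 0, Int.negSucc 1, Int.negSucc 1, Int.ofNat 0, Int.ofNat 0, Int.ofNat 0, Int.ofNat 0, Int.ofNat 0, Int.ofNat 2, Int.ofNat 0, Int.negSucc 1, Int.ofNat 0, Int.ofNat 2, Int.ofNat 0],
  [Int.ofNat 0, Int.ofNat 0, Int.negSucc 1, Int.ofNat 0, Int.ofNat 0, Int.ofNat 0, Int.ofNat 0, Int.negSucc 1, Int.ofNat 0, Int.negSucc 1, Int.ofNat 0, Int.ofNat 2, Int.ofNat 0, Int.ofNat 0, Int.ofNat 0, Int.ofNat 2, Int.ofNat 0, Int.negSucc 1, Int.ofNat 0, Int.ofNat 0, Int.ofNat 2, Int.ofNat 0, Int.ofNat 2, Int.ofNat 0],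
  [Int.ofNat 0, Int.ofNat 2, Int.ofNat 2, Int.ofNat 2, Int.negSucc 1, Int.negSucc 1, Int.ofNat 0, Int.ofNat 0, Int.ofNat 2, Int.ofNat 0, Int.ofNat 0, Int.negSucc 1, Int.ofNat 0, Int.negSucc 1, Int.ofNat 0, Int.ofNat 0, Int.ofNat 0, Int.ofNat 0, Int.ofNat 0, Int.ofNat 0, Int.ofNat 0, Int.ofNat 0, Int.ofNat 0, Int.ofNat 0],
  [Int.ofNat 0, Int.ofNat 2, Int.negSucc 1, Int.ofNat 2, Int.negSucc 1, Int.negSucc 1, Int.ofNat 0, Int.ofNat 0, Int.ofNat 2, Int.ofNat 0, Int.ofNat 0, Int.ofNat 2, Int.ofNat 0, Int.negSucc 1, Int.ofNat 0, Int.ofNat 0, Int.ofNat 0, Int.ofNat 0, Int.ofNat 0, Int.ofNat 0, Int.ofNat 0, Int.ofNat 0, Int.ofNat 0, Int.ofNat 0],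
  [Int.ofNat 0, Int.ofNat 0, Int.ofNat 2, Int.negSucc 1, Int.ofNat 2, Int.negSucc 1, Int.negSucc 1, Int.ofNat 0, Int.ofNat 0, Int.ofNat 2, Int.ofNat 0, Int.ofNat 0, Int.ofNat 2, Int.ofNat 0, Int.negSucc 1, Int.ofNat 0, Int.ofNat 0, Int.ofNat 0, Int.ofNat 0, Int.ofNat 0, Int.ofNat 0, Int.ofNat 0, Int.ofNat 0, Int.ofNat 0],
  [Int.ofNat 1, Int.ofNat 1, Int.negSucc 0, Int.ofNat 1, Int.ofNat 1, Int.ofNat 1, Int.negSucc 0, Int.ofNat 1, Int.negSucc 0, Int.ofNat 1, Int.negSucc 0, Int.negSucc 0, Int.ofNat 1, Int.negSucc 0, Int.ofNat 1, Int.negSucc 0, Int.negSucc 0, Int.ofNat 3, Int.negSucc 0, Int.ofNat 1, Int.negSucc 0, Int.ofNat 1, Int.negSucc 0, Int.ofNat 1],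
  [Int.ofNat 1, Int.ofNat 1, Int.ofNat 1, Int.negSucc 0, Int.ofNat 1, Int.negSucc 0, Int.ofNat 1, Int.negSucc 0, Int.negSucc 0, Int.ofNat 1, Int.negSucc 0, Int.ofNat 1, Int.negSucc 0, Int.negSucc 0, Int.ofNat 3, Int.negSucc 0, Int.ofNat 1, Int.negSucc 0, Int.ofNat 1, Int.negSucc 0, Int.ofNat 1, Int.ofNat 1, Int.negSucc 0, Int.ofNat 1],
  [Int.ofNat 1, Int.ofNat 1, Int.ofNat 1, Int.negSucc 0, Int.ofNat 1, Int.negSucc 0, Int.ofNat 1, Int.negSucc 0, Int.negSucc 0, Int.ofNat 1, Int.negSucc 0, Int.ofNat 1, Int.negSucc 0, Int.negSucc 0, Int.ofNat 3, Int.negSucc 0, Int.ofNat 1, Int.negSucc 0, Int.ofNat 1, Int.negSucc 0, Int.ofNat 1, Int.ofNat 1, Int.negSucc 0, Int.ofNat 1],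
  [Int.ofNat 1, Int.ofNat 1, Int.ofNat 1, Int.negSucc 0, Int.ofNat 1, Int.negSucc 0, Int.ofNat 1, Int.negSucc 0, Int.negSucc 0, Int.negSucc 0, Int.ofNat 1, Int.negSucc 0, Int.ofNat 1, Int.ofNat 1, Int.negSucc 0, Int.negSucc 0, Int.negSucc 0, Int.ofNat 3, Int.ofNat 1, Int.ofNat 1, Int.ofNat 1, Int.negSucc 0, Int.negSucc 0, Int.ofNat 1],
  [Int.ofNat 1, Int.ofNat 1, Int.ofNat 1, Int.negSucc 0, Int.ofNat 1, Int.negSucc 0, Int.ofNat 1, Int.negSucc 0, Int.negSucc 0, Int.negSucc 0, Int.ofNat 1, Int.negSucc 0, Int.ofNat 1, Int.ofNat 1, Int.negSucc 0, Int.negSucc 0, Int.negSucc 0, Int.ofNat 3, Int.ofNat 1, Int.ofNat 1, Int.ofNat 1, Int.negSucc 0, Int.negSucc 0, Int.ofNat 1],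
  [Int.ofNat 1, Int.ofNat 1, Int.negSucc 0, Int.negSucc 0, Int.ofNat 1, Int.ofNat 1, Int.negSucc 0, Int.negSucc 0, Int.negSucc 0, Int.ofNat 1, Int.negSucc 0, Int.negSucc 0, Int.ofNat 1, Int.ofNat 1, Int.negSucc 0, Int.ofNat 1, Int.negSucc 0, Int.ofNat 3, Int.negSucc 0, Int.ofNat 1, Int.ofNat 1, Int.negSucc 0, Int.ofNat 1, Int.ofNat 1],
  [Int.negSucc 0, Int.ofNat 1, Int.ofNat 3, Int.negSucc 0, Int.ofNat 1, Int.negSucc 0, Int.negSucc 0, Int.negSucc 0, Int.ofNat 1, Int.ofNat 1, Int.ofNat 1, Int.ofNat 1, Int.ofNat 1, Int.negSucc 0, Int.ofNat 1, Int.negSucc 0, Int.negSucc 0, Int.ofNat 1, Int.ofNat 1, Int.negSucc 0, Int.negSucc 0, Int.negSucc 0, Int.ofNat 1, Int.ofNat 1],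
  [Int.negSucc 0, Int.ofNat 1, Int.negSucc 2, Int.negSucc 0, Int.ofNat 1, Int.ofNat 1, Int.ofNat 1, Int.negSucc 0, Int.ofNat 1, Int.negSucc 0, Int.negSucc 0, Int.ofNat 1, Int.ofNat 1, Int.negSucc 0, Int.ofNat 1, Int.ofNat 1, Int.negSucc 0, Int.ofNat 1, Int.negSucc 0, Int.negSucc 0, Int.negSucc 0, Int.negSucc 0, Int.negSucc 0, Int.ofNat 1],
  [Int.ofNat 0, Int.negSucc 1, Int.ofNat 2, Int.negSucc 1, Int.ofNat 2, Int.ofNat 0, Int.ofNat 2, Int.ofNat 0, Int.ofNat 0, Int.ofNat 0, Int.ofNat 0, Int.ofNat 0, Int.ofNat 0, Int.ofNat 0, Int.ofNat 0, Int.ofNat 2, Int.ofNat 0, Int.ofNat 0, Int.negSucc 1, Int.ofNat 0, Int.ofNat 0, Int.ofNat 0, Int.ofNat 0, Int.negSucc 1],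
  [Int.ofNat 0, Int.negSucc 1, Int.ofNat 2, Int.negSucc 1, Int.ofNat 2, Int.ofNat 0, Int.negSucc 1, Int.ofNat 0, Int.ofNat 0, Int.ofNat 0, Int.ofNat 0, Int.ofNat 0, Int.ofNat 0, Int.ofNat 0, Int.ofNat 0, Int.ofNat 2, Int.ofNat 0, Int.ofNat 0, Int.ofNat 2, Int.ofNat 0, Int.ofNat 0, Int.ofNat 0, Int.ofNat 0, Int.negSucc 1],
  [Int.negSucc 0, Int.ofNat 1, Int.negSucc 2, Int.negSucc 0, Int.ofNat 1, Int.ofNat 1, Int.negSucc 0, Int.ofNat 1, Int.negSucc 0, Int.negSucc 0, Int.negSucc 0, Int.negSucc 0, Int.negSucc 0, Int.negSucc 0, Int.ofNat 1, Int.ofNat 1, Int.negSucc 0, Int.ofNat 1, Int.ofNat 1, Int.ofNat 1, Int.negSucc 0, Int.ofNat 1, Int.negSucc 0, Int.ofNat 1],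
  [Int.negSucc 0, Int.ofNat 1, Int.negSucc 0, Int.negSucc 0, Int.ofNat 1, Int.negSucc 2, Int.negSucc 0, Int.ofNat 1, Int.ofNat 1, Int.negSucc 0, Int.ofNat 1, Int.negSucc 0, Int.negSucc 0, Int.negSucc 0, Int.negSucc 0, Int.negSucc 0, Int.negSucc 0, Int.ofNat 1, Int.ofNat 1, Int.negSucc 0, Int.ofNat 1, Int.ofNat 1, Int.ofNat 1, Int.ofNat 1],
  [Int.ofNat 1, Int.negSucc 0, Int.ofNat 1, Int.ofNat 1, Int.ofNat 1, Int.negSucc 0, Int.negSucc 0, Int.ofNat 1, Int.ofNat 1, Int.negSucc 0, Int.ofNat 1, Int.negSucc 0, Int.negSucc 0, Int.negSucc 0, Int.ofNat 1, Int.negSucc 0, Int.negSucc 0, Int.ofNat 3, Int.ofNat 1, Int.negSucc 0, Int.ofNat 1, Int.ofNat 1, Int.ofNat 1, Int.negSucc 0],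
  [Int.negSucc 0, Int.ofNat 1, Int.ofNat 1, Int.ofNat 1, Int.negSucc 0, Int.negSucc 0, Int.ofNat 1, Int.ofNat 1, Int.negSucc 0, Int.ofNat 1, Int.negSucc 0, Int.negSucc 0, Int.negSucc 0, Int.ofNat 1, Int.negSucc 0, Int.negSucc 0, Int.ofNat 3, Int.ofNat 1, Int.negSucc 0, Int.ofNat 1, Int.ofNat 1, Int.ofNat 1, Int.ofNat 1, Int.negSucc 0],
  [Int.ofNat 1, Int.ofNat 1, Int.negSucc 0, Int.ofNat 1, Int.negSucc 0, Int.negSucc 0, Int.ofNat 1, Int.negSucc 0, Int.negSucc 0, Int.negSucc 0, Int.ofNat 1, Int.ofNat 1, Int.negSucc 0, Int.ofNat 1, Int.negSucc 0, Int.negSucc 0, Int.ofNat 3, Int.ofNat 1, Int.ofNat 1, Int.ofNat 1, Int.ofNat 1, Int.negSucc 0, Int.ofNat 1, Int.negSucc 0],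
  [Int.negSucc 0, Int.negSucc 0, Int.ofNat 1, Int.negSucc 0, Int.ofNat 1, Int.negSucc 0, Int.negSucc 0, Int.negSucc 0, Int.ofNat 1, Int.ofNat 1, Int.ofNat 1, Int.ofNat 1, Int.ofNat 1, Int.negSucc 0, Int.negSucc 0, Int.negSucc 0, Int.negSucc 2, Int.ofNat 1, Int.negSucc 0, Int.ofNat 1, Int.ofNat 1, Int.negSucc 0, Int.ofNat 1, Int.negSucc 0],
  [Int.negSucc 0, Int.ofNat 1, Int.negSucc 0, Int.negSucc 0, Int.negSucc 0, Int.ofNat 1, Int.ofNat 1, Int.ofNat 1, Int.ofNat 1, Int.negSucc 2, Int.negSucc 0, Int.negSucc 0, Int.negSucc 0, Int.ofNat 1, Int.ofNat 1, Int.negSucc 0, Int.ofNat 1, Int.ofNat 1, Int.negSucc 0, Int.ofNat 1, Int.negSucc 0, Int.negSucc 0, Int.ofNat 1, Int.negSucc 0],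
  [Int.ofNat 1, Int.ofNat 1, Int.ofNat 1, Int.negSucc 0, Int.negSucc 0, Int.ofNat 1, Int.ofNat 1, Int.negSucc 0, Int.ofNat 1, Int.ofNat 3, Int.ofNat 1, Int.ofNat 1, Int.negSucc 0, Int.ofNat 1, Int.ofNat 1, Int.negSucc 0, Int.ofNat 1, Int.ofNat 1, Int.ofNat 1, Int.ofNat 1, Int.negSucc 0, Int.ofNat 1, Int.ofNat 1, Int.negSucc 0],
  [Int.ofNat 1, Int.ofNat 1, Int.ofNat 1, Int.ofNat 1, Int.negSucc 0, Int.negSucc 0, Int.ofNat 1, Int.ofNat 1, Int.negSucc 0, Int.ofNat 1, Int.ofNat 3, Int.ofNat 1, Int.ofNat 1, Int.negSucc 0, Int.ofNat 1, Int.ofNat 1, Int.negSucc 0, Int.ofNat 1, Int.ofNat 1, Int.ofNat 1, Int.ofNat 1, Int.negSucc 0, Int.ofNat 1, Int.negSucc 0],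
  [Int.ofNat 0, Int.ofNat 0, Int.ofNat 0, Int.ofNat 0, Int.ofNat 0, Int.negSucc 1, Int.ofNat 0, Int.ofNat 0, Int.negSucc 1, Int.negSucc 1, Int.ofNat 0, Int.ofNat 0, Int.ofNat 0, Int.ofNat 0, Int.ofNat 0, Int.negSucc 1, Int.ofNat 0, Int.ofNat 0, Int.ofNat 0, Int.ofNat 0, Int.negSucc 1, Int.negSucc 1, Int.ofNat 2, Int.ofNat 2],
  [Int.ofNat 0, Int.ofNat 0, Int.negSucc 1, Int.ofNat 0, Int.ofNat 0, Int.negSucc 1, Int.negSucc 1, Int.ofNat 0, Int.ofNat 0, Int.ofNat 0, Int.ofNat 0, Int.ofNat 0, Int.negSucc 1, Int.ofNat 0, Int.ofNat 0, Int.ofNat 0, Int.ofNat 0, Int.negSucc 1, Int.negSucc 1, Int.ofNat 2, Int.ofNat 0, Int.ofNat 0, Int.ofNat 0, Int.ofNat 2],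
  [Int.ofNat 0, Int.ofNat 0, Int.ofNat 2, Int.ofNat 2, Int.ofNat 0, Int.ofNat 0, Int.negSucc 1, Int.ofNat 0, Int.ofNat 2, Int.ofNat 0, Int.ofNat 0, Int.ofNat 2, Int.ofNat 0, Int.ofNat 0, Int.ofNat 2, Int.ofNat 0, Int.ofNat 0, Int.ofNat 0, Int.ofNat 0, Int.ofNat 2, Int.ofNat 0, Int.ofNat 0, Int.ofNat 0, Int.negSucc 1],
  [Int.ofNat 0, Int.negSucc 1, Int.ofNat 0, Int.ofNat 2, Int.ofNat 0, Int.ofNat 0, Int.ofNat 2, Int.ofNat 0, Int.ofNat 0, Int.ofNat 0, Int.ofNat 0, Int.ofNat 0, Int.ofNat 0, Int.ofNat 0, Int.ofNat 0, Int.ofNat 0, Int.ofNat 2, Int.ofNat 2, Int.ofNat 0, Int.ofNat 2, Int.ofNat 0, Int.ofNat 0, Int.ofNat 2, Int.negSucc 1],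
  [Int.negSucc 1, Int.ofNat 0, Int.negSucc 1, Int.ofNat 0, Int.negSucc 1, Int.negSucc 1, Int.ofNat 0, Int.negSucc 1, Int.ofNat 0, Int.ofNat 0, Int.ofNat 0, Int.ofNat 0, Int.ofNat 0, Int.negSucc 1, Int.negSucc 1, Int.ofNat 0, Int.ofNat 0, Int.ofNat 0, Int.ofNat 0, Int.ofNat 0, Int.ofNat 0, Int.negSucc 1, Int.ofNat 0, Int.ofNat 0],
  [Int.negSucc 1, Int.ofNat 0, Int.ofNat 2, Int.ofNat 0, Int.negSucc 1, Int.ofNat 2, Int.ofNat 0, Int.negSucc 1, Int.ofNat 0, Int.ofNat 0, Int.ofNat 0, Int.ofNat 0, Int.ofNat 0, Int.negSucc 1, Int.negSucc 1, Int.ofNat 0, Int.ofNat 0, Int.ofNat 0, Int.ofNat 0, Int.ofNat 0, Int.ofNat 0, Int.negSucc 1, Int.ofNat 0, Int.ofNat 0],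
  [Int.ofNat 0, Int.ofNat 0, Int.ofNat 0, Int.ofNat 0, Int.negSucc 1, Int.ofNat 0, Int.negSucc 1, Int.ofNat 0, Int.ofNat 2, Int.ofNat 0, Int.negSucc 1, Int.negSucc 1, Int.ofNat 0, Int.negSucc 1, Int.ofNat 0, Int.ofNat 0, Int.ofNat 0, Int.ofNat 0, Int.ofNat 0, Int.ofNat 2, Int.negSucc 1, Int.ofNat 0, Int.ofNat 0, Int.ofNat 0],
  [Int.ofNat 0, Int.ofNat 0, Int.negSucc 1, Int.ofNat 0, Int.ofNat 0, Int.ofNat 0, Int.ofNat 2, Int.negSucc 1, Int.negSucc 1, Int.ofNat 0, Int.ofNat 0, Int.ofNat 0, Int.ofNat 0, Int.ofNat 0, Int.ofNat 0, Int.ofNat 0, Int.negSucc 1, Int.negSucc 1, Int.ofNat 0, Int.negSucc 1, Int.ofNat 2, Int.ofNat 0, Int.ofNat 0, Int.ofNat 0],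
  [Int.ofNat 0, Int.ofNat 0, Int.ofNat 2, Int.ofNat 0, Int.ofNat 0, Int.ofNat 0, Int.ofNat 2, Int.ofNat 2, Int.negSucc 1, Int.ofNat 0, Int.ofNat 0, Int.ofNat 0, Int.ofNat 0, Int.ofNat 0, Int.ofNat 0, Int.ofNat 0, Int.negSucc 1, Int.negSucc 1, Int.ofNat 0, Int.negSucc 1, Int.ofNat 2, Int.ofNat 0, Int.ofNat 0, Int.ofNat 0],
  [Int.ofNat 0, Int.ofNat 0, Int.ofNat 0, Int.ofNat 2, Int.ofNat 0, Int.ofNat 0, Int.ofNat 0, Int.ofNat 2, Int.ofNat 2, Int.negSucc 1, Int.ofNat 0, Int.ofNat 0, Int.ofNat 0, Int.ofNat 0, Int.ofNat 0, Int.ofNat 0, Int.ofNat 0, Int.negSucc 1, Int.negSucc 1, Int.ofNat 0, Int.negSucc 1, Int.ofNat 2, Int.ofNat 0, Int.ofNat 0],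
  [Int.ofNat 0, Int.ofNat 0, Int.ofNat 0, Int.ofNat 2, Int.ofNat 0, Int.ofNat 0, Int.negSucc 1, Int.ofNat 0, Int.ofNat 2, Int.ofNat 0, Int.ofNat 2, Int.ofNat 0, Int.ofNat 0, Int.ofNat 0, Int.ofNat 0, Int.ofNat 2, Int.ofNat 0, Int.negSucc 1, Int.negSucc 1, Int.negSucc 1, Int.ofNat 0, Int.ofNat 0, Int.ofNat 0, Int.ofNat 0],
  [Int.ofNat 2, Int.ofNat 0, Int.ofNat 0, Int.negSucc 1, Int.ofNat 0, Int.ofNat 2, Int.ofNat 0, Int.ofNat 2, Int.ofNat 0, Int.ofNat 0, Int.ofNat 0, Int.ofNat 0, Int.ofNat 2, Int.ofNat 0, Int.negSucc 1, Int.negSucc 1, Int.negSucc 1, Int.ofNat 0, Int.ofNat 0, Int.ofNat 0, Int.ofNat 0, Int.ofNat 0, Int.ofNat 0, Int.ofNat 0],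
  [Int.negSucc 0, Int.ofNat 1, Int.ofNat 1, Int.negSucc 0, Int.ofNat 1, Int.ofNat 3, Int.negSucc 0, Int.ofNat 1, Int.negSucc 0, Int.ofNat 1, Int.ofNat 1, Int.negSucc 0, Int.ofNat 1, Int.ofNat 1, Int.negSucc 0, Int.negSucc 0, Int.negSucc 0, Int.ofNat 1, Int.negSucc 0, Int.negSucc 0, Int.ofNat 1, Int.negSucc 0, Int.ofNat 1, Int.ofNat 1],
  [Int.negSucc 0, Int.negSucc 0, Int.ofNat 1, Int.negSucc 0, Int.negSucc 0, Int.ofNat 1, Int.ofNat 1, Int.ofNat 1, Int.ofNat 1, Int.ofNat 1, Int.ofNat 1, Int.ofNat 1, Int.ofNat 1, Int.negSucc 0, Int.ofNat 1, Int.negSucc 0, Int.negSucc 0, Int.negSucc 0, Int.ofNat 1, Int.negSucc 0, Int.negSucc 0, Int.ofNat 3, Int.negSucc 0, Int.ofNat 1],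
  [Int.ofNat 1, Int.ofNat 1, Int.negSucc 0, Int.negSucc 0, Int.ofNat 1, Int.ofNat 1, Int.negSucc 0, Int.negSucc 0, Int.negSucc 0, Int.ofNat 1, Int.ofNat 1, Int.negSucc 0, Int.negSucc 0, Int.ofNat 1, Int.ofNat 1, Int.negSucc 0, Int.ofNat 1, Int.negSucc 0, Int.negSucc 0, Int.negSucc 2, Int.negSucc 0, Int.ofNat 1, Int.ofNat 1, Int.negSucc 0],
  [Int.ofNat 1, Int.ofNat 1, Int.ofNat 1, Int.negSucc 0, Int.ofNat 1, Int.negSucc 0, Int.ofNat 1, Int.negSucc 0, Int.negSucc 0, Int.negSucc 0, Int.negSucc 0, Int.negSucc 0, Int.negSucc 0, Int.ofNat 1, Int.ofNat 1, Int.ofNat 1, Int.ofNat 1, Int.negSucc 0, Int.ofNat 1, Int.negSucc 2, Int.negSucc 0, Int.ofNat 1, Int.negSucc 0, Int.negSucc 0],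
  [Int.ofNat 1, Int.negSucc 2, Int.negSucc 0, Int.negSucc 0, Int.negSucc 0, Int.negSucc 0, Int.negSucc 0, Int.ofNat 1, Int.ofNat 1, Int.ofNat 1, Int.negSucc 0, Int.ofNat 1, Int.ofNat 1, Int.ofNat 1, Int.negSucc 0, Int.negSucc 0, Int.ofNat 1, Int.negSucc 0, Int.ofNat 1, Int.negSucc 0, Int.ofNat 1, Int.ofNat 1, Int.negSucc 0, Int.negSucc 0],
  [Int.ofNat 1, Int.negSucc 2, Int.ofNat 1, Int.negSucc 0, Int.negSucc 0, Int.ofNat 1, Int.ofNat 1, Int.ofNat 1, Int.ofNat 1, Int.negSucc 0, Int.ofNat 1, Int.ofNat 1, Int.ofNat 1, Int.ofNat 1, Int.negSucc 0, Int.ofNat 1, Int.ofNat 1, Int.negSucc 0, Int.negSucc 0, Int.negSucc 0, Int.ofNat 1, Int.ofNat 1, Int.ofNat 1, Int.negSucc 0],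
  [Int.negSucc 1, Int.ofNat 2, Int.negSucc 1, Int.ofNat 0, Int.negSucc 1, Int.ofNat 2, Int.ofNat 0, Int.ofNat 0, Int.ofNat 0, Int.negSucc 1, Int.ofNat 0, Int.ofNat 0, Int.ofNat 0, Int.ofNat 0, Int.ofNat 0, Int.ofNat 0, Int.ofNat 0, Int.ofNat 0, Int.negSucc 1, Int.negSucc 1, Int.ofNat 0, Int.ofNat 0, Int.ofNat 0, Int.ofNat 0],
  [Int.negSucc 1, Int.negSucc 1, Int.ofNat 0, Int.ofNat 0, Int.negSucc 1, Int.ofNat 0, Int.ofNat 2, Int.ofNat 2, Int.ofNat 0, Int.ofNat 0, Int.ofNat 0, Int.negSucc 1, Int.ofNat 0, Int.negSucc 1, Int.ofNat 0, Int.ofNat 0, Int.ofNat 0, Int.ofNat 0, Int.negSucc 1, Int.ofNat 0, Int.ofNat 0, Int.ofNat 0, Int.ofNat 0, Int.ofNat 0],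
  [Int.ofNat 0, Int.ofNat 0, Int.negSucc 1, Int.ofNat 0, Int.ofNat 0, Int.ofNat 0, Int.ofNat 0, Int.ofNat 0, Int.ofNat 2, Int.ofNat 0, Int.ofNat 0, Int.ofNat 0, Int.ofNat 2, Int.ofNat 0, Int.ofNat 0, Int.ofNat 0, Int.ofNat 2, Int.ofNat 0, Int.ofNat 0, Int.negSucc 1, Int.ofNat 0, Int.negSucc 1, Int.ofNat 2, Int.negSucc 1],
  [Int.ofNat 0, Int.negSucc 1, Int.ofNat 2, Int.ofNat 0, Int.ofNat 0, Int.negSucc 1, Int.ofNat 0, Int.ofNat 0, Int.ofNat 0, Int.ofNat 0, Int.ofNat 0, Int.ofNat 2, Int.ofNat 0, Int.ofNat 0, Int.ofNat 0, Int.ofNat 2, Int.ofNat 0, Int.ofNat 0, Int.ofNat 0, Int.ofNat 2, Int.ofNat 0, Int.ofNat 0, Int.negSucc 1, Int.negSucc 1],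
  [Int.negSucc 0, Int.ofNat 1, Int.negSucc 2, Int.ofNat 1, Int.ofNat 1, Int.negSucc 0, Int.negSucc 0, Int.negSucc 0, Int.negSucc 0, Int.negSucc 0, Int.negSucc 0, Int.ofNat 1, Int.negSucc 0, Int.ofNat 1, Int.ofNat 1, Int.ofNat 1, Int.ofNat 1, Int.ofNat 1, Int.negSucc 0, Int.ofNat 1, Int.negSucc 0, Int.negSucc 0, Int.negSucc 0, Int.ofNat 1],
  [Int.ofNat 1, Int.negSucc 2, Int.ofNat 1, Int.ofNat 1, Int.negSucc 0, Int.negSucc 0, Int.negSucc 0, Int.negSucc 0, Int.negSucc 0, Int.negSucc 0, Int.ofNat 1, Int.negSucc 0, Int.ofNat 1, Int.ofNat 1, Int.ofNat 1, Int.ofNat 1, Int.ofNat 1, Int.negSucc 0, Int.ofNat 1, Int.negSucc 0, Int.negSucc 0, Int.negSucc 0, Int.negSucc 0, Int.ofNat 1],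
  [Int.negSucc 0, Int.negSucc 2, Int.negSucc 0, Int.ofNat 1, Int.negSucc 0, Int.negSucc 0, Int.negSucc 0, Int.ofNat 1, Int.negSucc 0, Int.ofNat 1, Int.negSucc 0, Int.ofNat 1, Int.ofNat 1, Int.ofNat 1, Int.ofNat 1, Int.ofNat 1, Int.ofNat 1, Int.negSucc 0, Int.negSucc 0, Int.negSucc 0, Int.negSucc 0, Int.ofNat 1, Int.negSucc 0, Int.ofNat 1],
  [Int.ofNat 1, Int.ofNat 3, Int.ofNat 1, Int.negSucc 0, Int.ofNat 1, Int.negSucc 0, Int.ofNat 1, Int.ofNat 1, Int.ofNat 1, Int.negSucc 0, Int.negSucc 0, Int.ofNat 1, Int.negSucc 0, Int.negSucc 0, Int.ofNat 1, Int.ofNat 1, Int.negSucc 0, Int.negSucc 0, Int.ofNat 1, Int.negSucc 0, Int.negSucc 0, Int.ofNat 1, Int.negSucc 0, Int.ofNat 1],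
  [Int.ofNat 1, Int.ofNat 1, Int.ofNat 1, Int.negSucc 0, Int.ofNat 3, Int.negSucc 0, Int.ofNat 1, Int.negSucc 0, Int.negSucc 0, Int.negSucc 0, Int.ofNat 1, Int.ofNat 1, Int.negSucc 0, Int.ofNat 1, Int.negSucc 0, Int.ofNat 1, Int.negSucc 0, Int.negSucc 0, Int.ofNat 1, Int.negSucc 0, Int.negSucc 0, Int.ofNat 1, Int.ofNat 1, Int.ofNat 1],
  [Int.negSucc 0, Int.ofNat 1, Int.negSucc 0, Int.negSucc 0, Int.ofNat 3, Int.negSucc 0, Int.ofNat 1, Int.ofNat 1, Int.negSucc 0, Int.ofNat 1, Int.negSucc 0, Int.negSucc 0, Int.negSucc 0, Int.ofNat 1, Int.negSucc 0, Int.ofNat 1, Int.negSucc 0, Int.negSucc 0, Int.negSucc 0, Int.negSucc 0, Int.negSucc 0, Int.negSucc 0, Int.ofNat 1, Int.ofNat 1],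
  [Int.ofNat 1, Int.negSucc 0, Int.ofNat 1, Int.negSucc 0, Int.negSucc 0, Int.ofNat 3, Int.negSucc 0, Int.ofNat 1, Int.ofNat 1, Int.negSucc 0, Int.ofNat 1, Int.negSucc 0, Int.negSucc 0, Int.negSucc 0, Int.ofNat 1, Int.negSucc 0, Int.ofNat 1, Int.negSucc 0, Int.negSucc 0, Int.negSucc 0, Int.negSucc 0, Int.negSucc 0, Int.negSucc 0, Int.ofNat 1],
  [Int.ofNat 0, Int.ofNat 2, Int.ofNat 0, Int.negSucc 1, Int.ofNat 0, Int.ofNat 2, Int.ofNat 0, Int.ofNat 2, Int.ofNat 2, Int.ofNat 0, Int.ofNat 2, Int.ofNat 0, Int.ofNat 0, Int.ofNat 0, Int.ofNat 0, Int.ofNat 0, Int.ofNat 2, Int.negSucc 1, Int.ofNat 0, Int.ofNat 0, Int.ofNat 0, Int.ofNat 0, Int.ofNat 0, Int.ofNat 0],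
  [Int.negSucc 1, Int.ofNat 0, Int.ofNat 2, Int.ofNat 0, Int.ofNat 2, Int.ofNat 2, Int.ofNat 0, Int.ofNat 2, Int.ofNat 0, Int.ofNat 0, Int.ofNat 0, Int.ofNat 0, Int.ofNat 0, Int.ofNat 2, Int.negSucc 1, Int.ofNat 0, Int.ofNat 0, Int.ofNat 0, Int.ofNat 0, Int.ofNat 0, Int.ofNat 0, Int.ofNat 2, Int.ofNat 0, Int.ofNat 0],
  [Int.ofNat 2, Int.ofNat 0, Int.negSucc 1, Int.ofNat 0, Int.ofNat 0, Int.ofNat 2, Int.negSucc 1, Int.ofNat 0, Int.ofNat 0, Int.ofNat 0, Int.ofNat 0, Int.ofNat 0, Int.ofNat 0, Int.ofNat 0, Int.negSucc 1, Int.ofNat 0, Int.negSucc 1, Int.ofNat 0, Int.ofNat 0, Int.negSucc 1, Int.ofNat 0, Int.ofNat 0, Int.negSucc 1, Int.ofNat 0],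
  [Int.ofNat 2, Int.negSucc 1, Int.ofNat 0, Int.ofNat 0, Int.ofNat 0, Int.ofNat 0, Int.negSucc 1, Int.ofNat 0, Int.ofNat 0, Int.ofNat 0, Int.ofNat 0, Int.ofNat 0, Int.ofNat 0, Int.negSucc 1, Int.negSucc 1, Int.ofNat 0, Int.ofNat 0, Int.negSucc 1, Int.ofNat 0, Int.ofNat 0, Int.ofNat 0, Int.ofNat 2, Int.negSucc 1, Int.ofNat 0],
  [Int.negSucc 1, Int.ofNat 2, Int.ofNat 0, Int.ofNat 2, Int.ofNat 2, Int.ofNat 2, Int.negSucc 1, Int.ofNat 0, Int.ofNat 0, Int.ofNat 0, Int.ofNat 0, Int.ofNat 0, Int.ofNat 0, Int.ofNat 0, Int.ofNat 0, Int.ofNat 0, Int.ofNat 2, Int.ofNat 0, Int.ofNat 0, Int.ofNat 0, Int.ofNat 0, Int.ofNat 2, Int.ofNat 0, Int.ofNat 0],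
  [Int.negSucc 1, Int.ofNat 2, Int.ofNat 0, Int.ofNat 2, Int.ofNat 2, Int.negSucc 1, Int.ofNat 2, Int.ofNat 0, Int.ofNat 0, Int.ofNat 0, Int.ofNat 0, Int.ofNat 0, Int.ofNat 0, Int.ofNat 0, Int.ofNat 0, Int.ofNat 0, Int.ofNat 2, Int.ofNat 0, Int.ofNat 0, Int.ofNat 0, Int.ofNat 0, Int.ofNat 2, Int.ofNat 0, Int.ofNat 0],
  [Int.ofNat 0, Int.ofNat 2, Int.ofNat 0, Int.ofNat 0, Int.ofNat 0, Int.ofNat 2, Int.ofNat 2, Int.ofNat 2, Int.negSucc 1, Int.ofNat 0, Int.ofNat 0, Int.ofNat 0, Int.ofNat 0, Int.ofNat 2, Int.ofNat 0, Int.ofNat 0, Int.ofNat 0, Int.ofNat 0, Int.ofNat 0, Int.ofNat 0, Int.negSucc 1, Int.ofNat 2, Int.ofNat 0, Int.ofNat 0],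
  [Int.ofNat 0, Int.ofNat 0, Int.ofNat 0, Int.ofNat 0, Int.ofNat 0, Int.ofNat 0, Int.ofNat 0, Int.ofNat 2, Int.negSucc 1, Int.ofNat 2, Int.ofNat 0, Int.ofNat 0, Int.ofNat 2, Int.ofNat 2, Int.ofNat 0, Int.ofNat 0, Int.ofNat 0, Int.ofNat 0, Int.ofNat 0, Int.ofNat 2, Int.negSucc 1, Int.ofNat 0, Int.ofNat 2, Int.ofNat 0],
  [Int.ofNat 0, Int.ofNat 0, Int.ofNat 0, Int.ofNat 0, Int.ofNat 0, Int.ofNat 0, Int.ofNat 0, Int.negSucc 1, Int.negSucc 1, Int.negSucc 1, Int.ofNat 0, Int.ofNat 0, Int.ofNat 2, Int.ofNat 2, Int.ofNat 0, Int.ofNat 0, Int.ofNat 0, Int.ofNat 0, Int.ofNat 0, Int.ofNat 2, Int.negSucc 1, Int.ofNat 0, Int.ofNat 2, Int.ofNat 0],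
  [Int.ofNat 2, Int.ofNat 0, Int.ofNat 0, Int.ofNat 0, Int.ofNat 0, Int.ofNat 0, Int.ofNat 0, Int.ofNat 0, Int.negSucc 1, Int.negSucc 1, Int.negSucc 1, Int.ofNat 0, Int.ofNat 0, Int.ofNat 2, Int.ofNat 2, Int.ofNat 0, Int.ofNat 0, Int.ofNat 0, Int.ofNat 0, Int.ofNat 0, Int.ofNat 2, Int.negSucc 1, Int.ofNat 0, Int.ofNat 0],
  [Int.negSucc 0, Int.ofNat 1, Int.ofNat 1, Int.negSucc 0, Int.negSucc 0, Int.negSucc 0, Int.ofNat 1, Int.ofNat 1, Int.negSucc 0, Int.negSucc 0, Int.negSucc 0, Int.ofNat 1, Int.ofNat 1, Int.ofNat 1, Int.ofNat 1, Int.ofNat 1, Int.negSucc 0, Int.negSucc 0, Int.ofNat 1, Int.ofNat 1, Int.ofNat 3, Int.negSucc 0, Int.negSucc 0, Int.ofNat 1],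
  [Int.negSucc 0, Int.negSucc 0, Int.negSucc 0, Int.ofNat 1, Int.ofNat 1, Int.negSucc 0, Int.negSucc 0, Int.negSucc 0, Int.ofNat 1, Int.ofNat 1, Int.ofNat 1, Int.ofNat 1, Int.ofNat 1, Int.negSucc 0, Int.negSucc 0, Int.ofNat 1, Int.ofNat 1, Int.ofNat 3, Int.negSucc 0, Int.negSucc 0, Int.negSucc 0, Int.ofNat 1, Int.ofNat 1, Int.ofNat 1],
  [Int.ofNat 0, Int.ofNat 0, Int.ofNat 0, Int.ofNat 0, Int.ofNat 0, Int.negSucc 1, Int.ofNat 0, Int.ofNat 0, Int.ofNat 0, Int.ofNat 0, Int.ofNat 0, Int.ofNat 0, Int.ofNat 0, Int.negSucc 1, Int.negSucc 1, Int.ofNat 0, Int.ofNat 0, Int.ofNat 2, Int.negSucc 1, Int.ofNat 0, Int.negSucc 1, Int.ofNat 2, Int.ofNat 0, Int.negSucc 1],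
  [Int.ofNat 0, Int.ofNat 0, Int.ofNat 0, Int.ofNat 0, Int.negSucc 1, Int.ofNat 0, Int.ofNat 0, Int.ofNat 0, Int.ofNat 0, Int.negSucc 1, Int.negSucc 1, Int.ofNat 2, Int.ofNat 0, Int.ofNat 0, Int.ofNat 0, Int.ofNat 0, Int.ofNat 0, Int.negSucc 1, Int.ofNat 0, Int.ofNat 0, Int.ofNat 2, Int.negSucc 1, Int.ofNat 0, Int.negSucc 1],
  [Int.negSucc 0, Int.negSucc 0, Int.negSucc 0, Int.ofNat 1, Int.negSucc 0, Int.ofNat 1, Int.ofNat 1, Int.ofNat 1, Int.negSucc 0, Int.negSucc 0, Int.negSucc 0, Int.ofNat 1, Int.negSucc 0, Int.ofNat 1, Int.ofNat 1, Int.ofNat 1, Int.ofNat 1, Int.negSucc 0, Int.negSucc 0, Int.ofNat 1, Int.ofNat 3, Int.negSucc 0, Int.ofNat 1, Int.ofNat 1],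
  [Int.negSucc 0, Int.negSucc 0, Int.ofNat 1, Int.ofNat 1, Int.negSucc 0, Int.negSucc 0, Int.negSucc 0, Int.ofNat 1, Int.negSucc 0, Int.ofNat 1, Int.ofNat 1, Int.ofNat 1, Int.negSucc 0, Int.ofNat 1, Int.ofNat 1, Int.negSucc 0, Int.ofNat 1, Int.negSucc 0, Int.ofNat 1, Int.ofNat 1, Int.ofNat 3, Int.negSucc 0, Int.negSucc 0, Int.ofNat 1],
  [Int.ofNat 1, Int.ofNat 1, Int.negSucc 0, Int.ofNat 1, Int.negSucc 0, Int.negSucc 0, Int.ofNat 1, Int.negSucc 0, Int.negSucc 0, Int.negSucc 0, Int.ofNat 1, Int.negSucc 0, Int.negSucc 0, Int.negSucc 0, Int.negSucc 0, Int.ofNat 1, Int.ofNat 1, Int.ofNat 3, Int.ofNat 1, Int.ofNat 1, Int.ofNat 1, Int.ofNat 1, Int.negSucc 0, Int.ofNat 1],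
  [Int.ofNat 1, Int.ofNat 1, Int.ofNat 1, Int.ofNat 1, Int.negSucc 0, Int.ofNat 1, Int.negSucc 0, Int.negSucc 0, Int.negSucc 0, Int.ofNat 1, Int.negSucc 0, Int.negSucc 0, Int.negSucc 0, Int.negSucc 0, Int.negSucc 0, Int.negSucc 0, Int.ofNat 1, Int.ofNat 3, Int.negSucc 0, Int.ofNat 1, Int.ofNat 1, Int.ofNat 1, Int.ofNat 1, Int.ofNat 1],
  [Int.ofNat 1, Int.ofNat 1, Int.ofNat 1, Int.negSucc 0, Int.negSucc 0, Int.negSucc 0, Int.negSucc 0, Int.negSucc 0, Int.ofNat 1, Int.ofNat 1, Int.negSucc 0, Int.ofNat 1, Int.ofNat 1, Int.negSucc 0, Int.negSucc 2, Int.negSucc 0, Int.ofNat 1, Int.ofNat 1, Int.ofNat 1, Int.ofNat 1, Int.ofNat 1, Int.ofNat 1, Int.ofNat 1, Int.ofNat 1],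
  [Int.ofNat 1, Int.ofNat 1, Int.negSucc 0, Int.negSucc 0, Int.ofNat 1, Int.ofNat 1, Int.ofNat 1, Int.negSucc 0, Int.ofNat 1, Int.ofNat 1, Int.negSucc 0, Int.ofNat 1, Int.ofNat 1, Int.ofNat 1, Int.ofNat 1, Int.negSucc 0, Int.negSucc 0, Int.ofNat 1, Int.negSucc 0, Int.ofNat 1, Int.negSucc 0, Int.ofNat 1, Int.negSucc 2, Int.ofNat 1],
  [Int.ofNat 0, Int.ofNat 0, Int.ofNat 2, Int.negSucc 1, Int.ofNat 2, Int.ofNat 0, Int.ofNat 0, Int.negSucc 1, Int.ofNat 0, Int.ofNat 2, Int.ofNat 0, Int.ofNat 0, Int.ofNat 0, Int.ofNat 2, Int.ofNat 0, Int.ofNat 0, Int.ofNat 0, Int.ofNat 0, Int.negSucc 1, Int.ofNat 0, Int.ofNat 0, Int.ofNat 0, Int.negSucc 1, Int.ofNat 0],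
  [Int.ofNat 0, Int.ofNat 0, Int.negSucc 1, Int.ofNat 0, Int.ofNat 0, Int.ofNat 2, Int.negSucc 1, Int.ofNat 2, Int.ofNat 0, Int.ofNat 0, Int.negSucc 1, Int.ofNat 0, Int.ofNat 2, Int.ofNat 0, Int.ofNat 0, Int.ofNat 0, Int.ofNat 2, Int.ofNat 0, Int.ofNat 0, Int.ofNat 0, Int.ofNat 0, Int.negSucc 1, Int.ofNat 0, Int.ofNat 0],
  [Int.negSucc 0, Int.negSucc 0, Int.ofNat 1, Int.negSucc 0, Int.negSucc 0, Int.ofNat 1, Int.negSucc 0, Int.ofNat 3, Int.negSucc 0, Int.ofNat 1, Int.negSucc 0, Int.negSucc 0, Int.ofNat 1, Int.negSucc 0, Int.negSucc 0, Int.ofNat 1, Int.ofNat 1, Int.negSucc 0, Int.negSucc 0, Int.ofNat 1, Int.ofNat 1, Int.negSucc 0, Int.negSucc 0, Int.negSucc 0],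
  [Int.negSucc 0, Int.ofNat 1, Int.negSucc 0, Int.negSucc 0, Int.ofNat 1, Int.negSucc 0, Int.ofNat 3, Int.negSucc 0, Int.ofNat 1, Int.negSucc 0, Int.negSucc 0, Int.ofNat 1, Int.negSucc 0, Int.negSucc 0, Int.ofNat 1, Int.ofNat 1, Int.negSucc 0, Int.negSucc 0, Int.ofNat 1, Int.ofNat 1, Int.negSucc 0, Int.negSucc 0, Int.negSucc 0, Int.negSucc 0],
  [Int.ofNat 1, Int.ofNat 1, Int.ofNat 1, Int.negSucc 0, Int.ofNat 1, Int.negSucc 0, Int.ofNat 3, Int.ofNat 1, Int.ofNat 1, Int.ofNat 1, Int.ofNat 1, Int.negSucc 0, Int.negSucc 0, Int.negSucc 0, Int.ofNat 1, Int.ofNat 1, Int.negSucc 0, Int.negSucc 0, Int.negSucc 0, Int.ofNat 1, Int.negSucc 0, Int.ofNat 1, Int.negSucc 0, Int.negSucc 0],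
  [Int.negSucc 0, Int.negSucc 0, Int.negSucc 0, Int.ofNat 1, Int.negSucc 0, Int.negSucc 0, Int.negSucc 2, Int.ofNat 1, Int.negSucc 0, Int.negSucc 0, Int.ofNat 1, Int.negSucc 0, Int.ofNat 1, Int.ofNat 1, Int.ofNat 1, Int.ofNat 1, Int.ofNat 1, Int.negSucc 0, Int.ofNat 1, Int.ofNat 1, Int.negSucc 0, Int.ofNat 1, Int.negSucc 0, Int.negSucc 0],
  [Int.negSucc 0, Int.negSucc 0, Int.ofNat 1, Int.ofNat 1, Int.negSucc 0, Int.ofNat 1, Int.negSucc 0, Int.negSucc 0, Int.negSucc 0, Int.ofNat 1, Int.ofNat 1, Int.ofNat 1, Int.ofNat 1, Int.negSucc 0, Int.ofNat 1, Int.ofNat 1, Int.ofNat 1, Int.negSucc 0, Int.negSucc 2, Int.negSucc 0, Int.negSucc 0, Int.ofNat 1, Int.negSucc 0, Int.negSucc 0],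
  [Int.ofNat 1, Int.negSucc 0, Int.negSucc 0, Int.ofNat 1, Int.negSucc 0, Int.ofNat 1, Int.negSucc 0, Int.ofNat 1, Int.negSucc 0, Int.negSucc 0, Int.negSucc 0, Int.negSucc 0, Int.ofNat 1, Int.negSucc 0, Int.ofNat 1, Int.ofNat 1, Int.ofNat 1, Int.negSucc 0, Int.ofNat 3, Int.negSucc 0, Int.negSucc 0, Int.negSucc 0, Int.negSucc 0, Int.negSucc 0],
  [Int.negSucc 0, Int.ofNat 1, Int.negSucc 0, Int.negSucc 0, Int.ofNat 1, Int.negSucc 0, Int.ofNat 1, Int.negSucc 0, Int.ofNat 1, Int.negSucc 0, Int.negSucc 0, Int.negSucc 0, Int.negSucc 0, Int.ofNat 1, Int.negSucc 0, Int.ofNat 1, Int.ofNat 1, Int.ofNat 1, Int.negSucc 0, Int.ofNat 3, Int.negSucc 0, Int.negSucc 0, Int.negSucc 0, Int.negSucc 0],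
  [Int.ofNat 0, Int.negSucc 1, Int.ofNat 0, Int.ofNat 0, Int.ofNat 0, Int.ofNat 0, Int.ofNat 0, Int.negSucc 1, Int.ofNat 2, Int.ofNat 0, Int.ofNat 0, Int.ofNat 0, Int.ofNat 0, Int.ofNat 0, Int.ofNat 0, Int.ofNat 2, Int.ofNat 0, Int.ofNat 2, Int.ofNat 0, Int.ofNat 2, Int.ofNat 0, Int.negSucc 1, Int.negSucc 1, Int.ofNat 0],
  [Int.ofNat 0, Int.ofNat 0, Int.ofNat 0, Int.ofNat 0, Int.negSucc 1, Int.ofNat 2, Int.ofNat 0, Int.ofNat 0, Int.ofNat 0, Int.ofNat 0, Int.ofNat 0, Int.ofNat 0, Int.ofNat 2, Int.ofNat 0, Int.ofNat 2, Int.ofNat 0, Int.ofNat 2, Int.ofNat 0, Int.negSucc 1, Int.negSucc 1, Int.ofNat 0, Int.negSucc 1, Int.ofNat 0, Int.ofNat 0],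
  [Int.ofNat 0, Int.ofNat 0, Int.ofNat 0, Int.negSucc 1, Int.negSucc 1, Int.ofNat 0, Int.ofNat 2, Int.ofNat 2, Int.ofNat 0, Int.ofNat 0, Int.ofNat 0, Int.ofNat 0, Int.ofNat 2, Int.ofNat 0, Int.ofNat 0, Int.ofNat 0, Int.ofNat 2, Int.negSucc 1, Int.negSucc 1, Int.ofNat 0, Int.ofNat 0, Int.ofNat 0, Int.ofNat 0, Int.ofNat 0],
  [Int.ofNat 0, Int.ofNat 2, Int.negSucc 1, Int.negSucc 1, Int.negSucc 1, Int.ofNat 2, Int.ofNat 0, Int.ofNat 0, Int.ofNat 2, Int.ofNat 0, Int.ofNat 0, Int.negSucc 1, Int.ofNat 0, Int.ofNat 2, Int.ofNat 0, Int.ofNat 0, Int.ofNat 0, Int.ofNat 0, Int.ofNat 0, Int.ofNat 0, Int.ofNat 0, Int.ofNat 0, Int.ofNat 0, Int.ofNat 0],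
  [Int.ofNat 0, Int.negSucc 1, Int.ofNat 2, Int.negSucc 1, Int.negSucc 1, Int.ofNat 2, Int.ofNat 0, Int.ofNat 0, Int.ofNat 2, Int.ofNat 0, Int.ofNat 0, Int.negSucc 1, Int.ofNat 0, Int.ofNat 2, Int.ofNat 0, Int.ofNat 0, Int.ofNat 0, Int.ofNat 0, Int.ofNat 0, Int.ofNat 0, Int.ofNat 0, Int.ofNat 0, Int.ofNat 0, Int.ofNat 0],
  [Int.ofNat 0, Int.negSucc 1, Int.negSucc 1, Int.negSucc 1, Int.negSucc 1, Int.negSucc 1, Int.ofNat 0, Int.ofNat 0, Int.ofNat 2, Int.ofNat 0, Int.ofNat 0, Int.negSucc 1, Int.ofNat 0, Int.ofNat 2, Int.ofNat 0, Int.ofNat 0, Int.ofNat 0, Int.ofNat 0, Int.ofNat 0, Int.ofNat 0, Int.ofNat 0, Int.ofNat 0, Int.ofNat 0, Int.ofNat 0],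
  [Int.ofNat 0, Int.ofNat 0, Int.negSucc 1, Int.ofNat 2, Int.ofNat 0, Int.ofNat 0, Int.ofNat 0, Int.negSucc 1, Int.negSucc 1, Int.ofNat 0, Int.ofNat 2, Int.ofNat 0, Int.ofNat 0, Int.negSucc 1, Int.ofNat 0, Int.ofNat 0, Int.ofNat 0, Int.ofNat 0, Int.ofNat 0, Int.negSucc 1, Int.ofNat 0, Int.negSucc 1, Int.ofNat 0, Int.ofNat 0],
  [Int.ofNat 0, Int.ofNat 0, Int.ofNat 0, Int.ofNat 0, Int.ofNat 0, Int.ofNat 0, Int.negSucc 1, Int.negSucc 1, Int.ofNat 0, Int.ofNat 0, Int.ofNat 0, Int.negSucc 1, Int.negSucc 1, Int.negSucc 1, Int.ofNat 0, Int.ofNat 2, Int.ofNat 2, Int.ofNat 0, Int.ofNat 0, Int.ofNat 0, Int.negSucc 1, Int.ofNat 0, Int.ofNat 0, Int.ofNat 0],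
  [Int.ofNat 0, Int.ofNat 0, Int.ofNat 0, Int.ofNat 0, Int.ofNat 0, Int.ofNat 0, Int.negSucc 1, Int.ofNat 2, Int.ofNat 0, Int.ofNat 0, Int.ofNat 0, Int.ofNat 2, Int.negSucc 1, Int.negSucc 1, Int.ofNat 0, Int.ofNat 2, Int.ofNat 2, Int.ofNat 0, Int.ofNat 0, Int.ofNat 0, Int.negSucc 1, Int.ofNat 0, Int.ofNat 0, Int.ofNat 0],
  [Int.ofNat 0, Int.ofNat 0, Int.ofNat 0, Int.ofNat 0, Int.ofNat 0, Int.ofNat 0, Int.ofNat 0, Int.negSucc 1, Int.ofNat 2, Int.ofNat 0, Int.ofNat 0, Int.ofNat 0, Int.ofNat 2, Int.negSucc 1, Int.negSucc 1, Int.ofNat 0, Int.ofNat 2, Int.ofNat 2, Int.ofNat 0, Int.ofNat 0, Int.ofNat 0, Int.negSucc 1, Int.ofNat 0, Int.ofNat 0],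
  [Int.ofNat 0, Int.ofNat 0, Int.ofNat 0, Int.ofNat 0, Int.ofNat 0, Int.ofNat 0, Int.ofNat 2, Int.ofNat 0, Int.ofNat 0, Int.ofNat 0, Int.ofNat 0, Int.negSucc 1, Int.ofNat 0, Int.negSucc 1, Int.negSucc 1, Int.ofNat 0, Int.ofNat 2, Int.ofNat 2, Int.negSucc 1, Int.ofNat 2, Int.ofNat 0, Int.ofNat 0, Int.ofNat 0, Int.ofNat 0],
  [Int.ofNat 0, Int.ofNat 0, Int.ofNat 0, Int.ofNat 2, Int.ofNat 0, Int.ofNat 0, Int.ofNat 0, Int.ofNat 0, Int.negSucc 1, Int.ofNat 0, Int.negSucc 1, Int.negSucc 1, Int.ofNat 0, Int.ofNat 2, Int.ofNat 2, Int.negSucc 1, Int.ofNat 2, Int.ofNat 0, Int.ofNat 0, Int.ofNat 0, Int.ofNat 0, Int.ofNat 0, Int.ofNat 0, Int.ofNat 0],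
  [Int.ofNat 0, Int.ofNat 0, Int.ofNat 0, Int.ofNat 0, Int.negSucc 1, Int.negSucc 1, Int.ofNat 0, Int.ofNat 0, Int.ofNat 0, Int.ofNat 2, Int.ofNat 0, Int.ofNat 0, Int.ofNat 2, Int.ofNat 0, Int.ofNat 0, Int.ofNat 0, Int.ofNat 0, Int.negSucc 1, Int.ofNat 2, Int.ofNat 0, Int.ofNat 2, Int.ofNat 0, Int.negSucc 1, Int.ofNat 0],
  [Int.ofNat 0, Int.ofNat 0, Int.negSucc 1, Int.ofNat 0, Int.ofNat 2, Int.ofNat 0, Int.ofNat 0, Int.ofNat 0, Int.ofNat 2, Int.ofNat 0, Int.ofNat 2, Int.negSucc 1, Int.ofNat 2, Int.ofNat 0, Int.negSucc 1, Int.ofNat 0, Int.ofNat 0, Int.ofNat 0, Int.ofNat 0, Int.ofNat 0, Int.ofNat 0, Int.negSucc 1, Int.ofNat 0, Int.ofNat 0],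
  [Int.negSucc 0, Int.negSucc 0, Int.ofNat 1, Int.ofNat 1, Int.ofNat 1, Int.ofNat 1, Int.ofNat 1, Int.ofNat 1, Int.ofNat 1, Int.negSucc 0, Int.ofNat 1, Int.negSucc 2, Int.ofNat 1, Int.negSucc 0, Int.negSucc 0, Int.negSucc 0, Int.negSucc 0, Int.ofNat 1, Int.negSucc 0, Int.ofNat 1, Int.negSucc 0, Int.negSucc 0, Int.negSucc 0, Int.negSucc 0],
  [Int.negSucc 0, Int.negSucc 0, Int.negSucc 0, Int.ofNat 1, Int.ofNat 1, Int.negSucc 0, Int.negSucc 0, Int.ofNat 1, Int.ofNat 1, Int.ofNat 1, Int.negSucc 0, Int.negSucc 2, Int.ofNat 1, Int.negSucc 0, Int.negSucc 0, Int.ofNat 1, Int.negSucc 0, Int.ofNat 1, Int.ofNat 1, Int.ofNat 1, Int.negSucc 0, Int.negSucc 0, Int.ofNat 1, Int.negSucc 0],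
  [Int.ofNat 1, Int.ofNat 1, Int.ofNat 1, Int.negSucc 2, Int.negSucc 0, Int.ofNat 1, Int.negSucc 0, Int.negSucc 0, Int.negSucc 0, Int.ofNat 1, Int.ofNat 1, Int.negSucc 0, Int.ofNat 1, Int.negSucc 0, Int.ofNat 1, Int.ofNat 1, Int.negSucc 0, Int.negSucc 0, Int.negSucc 0, Int.ofNat 1, Int.negSucc 0, Int.negSucc 0, Int.ofNat 1, Int.negSucc 0],
  [Int.ofNat 1, Int.ofNat 1, Int.negSucc 0, Int.negSucc 2, Int.negSucc 0, Int.negSucc 0, Int.ofNat 1, Int.negSucc 0, Int.negSucc 0, Int.negSucc 0, Int.negSucc 0, Int.negSucc 0, Int.ofNat 1, Int.negSucc 0, Int.ofNat 1, Int.negSucc 0, Int.negSucc 0, Int.negSucc 0, Int.ofNat 1, Int.ofNat 1, Int.negSucc 0, Int.negSucc 0, Int.negSucc 0, Int.negSucc 0],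
  [Int.negSucc 0, Int.negSucc 0, Int.ofNat 1, Int.negSucc 0, Int.ofNat 1, Int.ofNat 1, Int.ofNat 1, Int.negSucc 0, Int.negSucc 0, Int.ofNat 1, Int.ofNat 1, Int.negSucc 0, Int.ofNat 1, Int.ofNat 1, Int.ofNat 3, Int.ofNat 1, Int.ofNat 1, Int.ofNat 1, Int.ofNat 1, Int.ofNat 1, Int.ofNat 1, Int.negSucc 0, Int.ofNat 1, Int.ofNat 1],
  [Int.negSucc 0, Int.ofNat 1, Int.ofNat 1, Int.negSucc 0, Int.ofNat 1, Int.negSucc 0, Int.negSucc 0, Int.ofNat 1, Int.ofNat 1, Int.ofNat 1, Int.negSucc 0, Int.ofNat 1, Int.negSucc 0, Int.ofNat 1, Int.ofNat 1, Int.ofNat 1, Int.ofNat 1, Int.negSucc 0, Int.ofNat 1, Int.ofNat 1, Int.ofNat 1, Int.ofNat 1, Int.ofNat 3, Int.ofNat 1],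
  [Int.ofNat 2, Int.ofNat 0, Int.ofNat 0, Int.ofNat 0, Int.negSucc 1, Int.ofNat 0, Int.negSucc 1, Int.ofNat 0, Int.ofNat 0, Int.ofNat 0, Int.negSucc 1, Int.ofNat 0, Int.negSucc 1, Int.negSucc 1, Int.ofNat 2, Int.ofNat 0, Int.negSucc 1, Int.ofNat 0, Int.ofNat 0, Int.ofNat 0, Int.ofNat 0, Int.ofNat 0, Int.ofNat 0, Int.ofNat 0],
  [Int.ofNat 0, Int.ofNat 0, Int.ofNat 0, Int.ofNat 2, Int.ofNat 0, Int.ofNat 0, Int.ofNat 0, Int.negSucc 1, Int.ofNat 0, Int.negSucc 1, Int.ofNat 0, Int.ofNat 0, Int.ofNat 0, Int.negSucc 1, Int.ofNat 0, Int.negSucc 1, Int.negSucc 1, Int.ofNat 2, Int.ofNat 0, Int.negSucc 1, Int.ofNat 0, Int.ofNat 0, Int.ofNat 0, Int.ofNat 0],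
  [Int.ofNat 0, Int.ofNat 0, Int.ofNat 0, Int.ofNat 0, Int.ofNat 2, Int.negSucc 1, Int.ofNat 2, Int.ofNat 0, Int.ofNat 0, Int.ofNat 0, Int.ofNat 2, Int.ofNat 0, Int.ofNat 0, Int.ofNat 0, Int.negSucc 1, Int.ofNat 0, Int.ofNat 0, Int.ofNat 0, Int.ofNat 0, Int.ofNat 0, Int.ofNat 2, Int.ofNat 2, Int.ofNat 2, Int.ofNat 0],
  [Int.ofNat 0, Int.ofNat 0, Int.ofNat 0, Int.ofNat 2, Int.negSucc 1, Int.ofNat 2, Int.ofNat 0, Int.ofNat 0, Int.ofNat 0, Int.ofNat 2, Int.ofNat 0, Int.ofNat 0, Int.ofNat 0, Int.negSucc 1, Int.ofNat 0, Int.ofNat 0, Int.ofNat 0, Int.ofNat 0, Int.ofNat 0, Int.ofNat 2, Int.ofNat 2, Int.ofNat 2, Int.ofNat 0, Int.ofNat 0],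
  [Int.ofNat 0, Int.ofNat 0, Int.ofNat 0, Int.ofNat 2, Int.negSucc 1, Int.ofNat 2, Int.ofNat 0, Int.ofNat 0, Int.ofNat 0, Int.negSucc 1, Int.ofNat 0, Int.ofNat 0, Int.ofNat 0, Int.negSucc 1, Int.ofNat 0, Int.ofNat 0, Int.ofNat 0, Int.ofNat 0, Int.ofNat 0, Int.ofNat 2, Int.ofNat 2, Int.negSucc 1, Int.ofNat 0, Int.ofNat 0],
  [Int.ofNat 0, Int.ofNat 0, Int.ofNat 0, Int.negSucc 1, Int.ofNat 2, Int.ofNat 2, Int.ofNat 0, Int.ofNat 0, Int.ofNat 0, Int.ofNat 2, Int.ofNat 0, Int.ofNat 0, Int.ofNat 0, Int.ofNat 2, Int.ofNat 0, Int.ofNat 0, Int.ofNat 0, Int.ofNat 0, Int.ofNat 0, Int.ofNat 2, Int.ofNat 2, Int.negSucc 1, Int.ofNat 0, Int.ofNat 0],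
  [Int.ofNat 0, Int.ofNat 0, Int.ofNat 0, Int.negSucc 1, Int.ofNat 0, Int.ofNat 0, Int.ofNat 2, Int.ofNat 2, Int.ofNat 2, Int.ofNat 0, Int.negSucc 1, Int.ofNat 0, Int.ofNat 2, Int.ofNat 0, Int.ofNat 2, Int.ofNat 0, Int.ofNat 0, Int.ofNat 0, Int.ofNat 0, Int.ofNat 0, Int.ofNat 2, Int.ofNat 0, Int.ofNat 0, Int.ofNat 0],
  [Int.ofNat 0, Int.ofNat 0, Int.ofNat 0, Int.negSucc 1, Int.ofNat 0, Int.ofNat 0, Int.ofNat 2, Int.negSucc 1, Int.ofNat 2, Int.ofNat 0, Int.ofNat 2, Int.ofNat 0, Int.ofNat 2, Int.ofNat 0, Int.ofNat 2, Int.ofNat 0, Int.ofNat 0, Int.ofNat 0, Int.ofNat 0, Int.ofNat 0, Int.ofNat 2, Int.ofNat 0, Int.ofNat 0, Int.ofNat 0],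
  [Int.ofNat 0, Int.ofNat 0, Int.ofNat 0, Int.ofNat 0, Int.negSucc 1, Int.ofNat 0, Int.ofNat 0, Int.ofNat 2, Int.negSucc 1, Int.ofNat 2, Int.ofNat 0, Int.ofNat 2, Int.ofNat 0, Int.ofNat 2, Int.ofNat 0, Int.ofNat 2, Int.ofNat 0, Int.ofNat 0, Int.ofNat 0, Int.ofNat 0, Int.ofNat 0, Int.ofNat 2, Int.ofNat 0, Int.ofNat 0],
  [Int.ofNat 0, Int.ofNat 0, Int.ofNat 0, Int.ofNat 0, Int.negSucc 1, Int.ofNat 0, Int.negSucc 1, Int.ofNat 0, Int.negSucc 1, Int.ofNat 0, Int.negSucc 1, Int.ofNat 2, Int.ofNat 0, Int.ofNat 2, Int.ofNat 0, Int.ofNat 0, Int.ofNat 0, Int.ofNat 0, Int.ofNat 0, Int.negSucc 1, Int.negSucc 1, Int.ofNat 0, Int.ofNat 0, Int.ofNat 0],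
  [Int.ofNat 0, Int.negSucc 1, Int.ofNat 0, Int.negSucc 1, Int.ofNat 0, Int.negSucc 1, Int.ofNat 0, Int.negSucc 1, Int.ofNat 2, Int.ofNat 0, Int.ofNat 2, Int.ofNat 0, Int.ofNat 0, Int.ofNat 0, Int.ofNat 0, Int.ofNat 0, Int.negSucc 1, Int.negSucc 1, Int.ofNat 0, Int.ofNat 0, Int.ofNat 0, Int.ofNat 0, Int.ofNat 0, Int.ofNat 0],
  [Int.negSucc 0, Int.ofNat 1, Int.negSucc 0, Int.ofNat 1, Int.ofNat 1, Int.ofNat 1, Int.ofNat 1, Int.negSucc 0, Int.ofNat 1, Int.negSucc 0, Int.ofNat 1, Int.negSucc 0, Int.negSucc 0, Int.ofNat 1, Int.ofNat 3, Int.negSucc 0, Int.negSucc 0, Int.ofNat 1, Int.negSucc 0, Int.ofNat 1, Int.negSucc 0, Int.ofNat 1, Int.ofNat 1, Int.negSucc 0],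
  [Int.negSucc 0, Int.ofNat 1, Int.ofNat 1, Int.ofNat 1, Int.negSucc 0, Int.negSucc 0, Int.negSucc 0, Int.ofNat 1, Int.negSucc 0, Int.ofNat 1, Int.negSucc 0, Int.ofNat 1, Int.negSucc 0, Int.negSucc 0, Int.ofNat 1, Int.negSucc 0, Int.ofNat 1, Int.ofNat 3, Int.ofNat 1, Int.negSucc 0, Int.ofNat 1, Int.ofNat 1, Int.ofNat 1, Int.negSucc 0],
  [Int.ofNat 1, Int.negSucc 0, Int.negSucc 0, Int.negSucc 0, Int.negSucc 0, Int.negSucc 2, Int.negSucc 0, Int.ofNat 1, Int.negSucc 0, Int.ofNat 1, Int.negSucc 0, Int.ofNat 1, Int.negSucc 0, Int.negSucc 0, Int.negSucc 0, Int.negSucc 0, Int.ofNat 1, Int.ofNat 1, Int.ofNat 1, Int.negSucc 0, Int.ofNat 1, Int.ofNat 1, Int.ofNat 1, Int.ofNat 1],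
  [Int.ofNat 1, Int.negSucc 0, Int.ofNat 1, Int.negSucc 0, Int.negSucc 0, Int.ofNat 3, Int.ofNat 1, Int.ofNat 1, Int.negSucc 0, Int.negSucc 0, Int.ofNat 1, Int.ofNat 1, Int.negSucc 0, Int.negSucc 0, Int.negSucc 0, Int.ofNat 1, Int.ofNat 1, Int.ofNat 1, Int.negSucc 0, Int.negSucc 0, Int.ofNat 1, Int.ofNat 1, Int.negSucc 0, Int.ofNat 1],
  [Int.ofNat 1, Int.ofNat 1, Int.ofNat 1, Int.negSucc 0, Int.negSucc 0, Int.ofNat 1, Int.ofNat 1, Int.negSucc 0, Int.ofNat 3, Int.ofNat 1, Int.negSucc 0, Int.ofNat 1, Int.ofNat 1, Int.negSucc 0, Int.ofNat 1, Int.negSucc 0, Int.negSucc 0, Int.negSucc 0, Int.negSucc 0, Int.ofNat 1, Int.ofNat 1, Int.negSucc 0, Int.negSucc 0, Int.ofNat 1],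
  [Int.ofNat 1, Int.negSucc 0, Int.ofNat 1, Int.negSucc 0, Int.negSucc 0, Int.ofNat 1, Int.ofNat 1, Int.negSucc 0, Int.ofNat 1, Int.ofNat 1, Int.negSucc 0, Int.ofNat 1, Int.negSucc 0, Int.negSucc 0, Int.negSucc 0, Int.negSucc 0, Int.negSucc 0, Int.negSucc 0, Int.ofNat 1, Int.ofNat 1, Int.ofNat 3, Int.ofNat 1, Int.ofNat 1, Int.ofNat 1],
  [Int.negSucc 0, Int.negSucc 0, Int.negSucc 0, Int.negSucc 0, Int.negSucc 0, Int.ofNat 1, Int.ofNat 1, Int.ofNat 1, Int.ofNat 1, Int.negSucc 0, Int.ofNat 1, Int.negSucc 0, Int.negSucc 0, Int.negSucc 0, Int.negSucc 0, Int.negSucc 0, Int.negSucc 0, Int.negSucc 0, Int.negSucc 0, Int.ofNat 1, Int.ofNat 3, Int.negSucc 0, Int.ofNat 1, Int.ofNat 1],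
  [Int.ofNat 1, Int.negSucc 0, Int.negSucc 0, Int.negSucc 0, Int.negSucc 0, Int.negSucc 0, Int.ofNat 1, Int.ofNat 1, Int.ofNat 1, Int.ofNat 1, Int.negSucc 0, Int.ofNat 1, Int.negSucc 0, Int.negSucc 0, Int.negSucc 0, Int.negSucc 0, Int.negSucc 0, Int.negSucc 0, Int.negSucc 0, Int.negSucc 0, Int.ofNat 1, Int.ofNat 3, Int.negSucc 0, Int.ofNat 1],
  [Int.negSucc 0, Int.ofNat 1, Int.ofNat 1, Int.ofNat 1, Int.ofNat 1, Int.ofNat 1, Int.negSucc 0, Int.negSucc 0, Int.ofNat 1, Int.ofNat 1, Int.negSucc 0, Int.ofNat 1, Int.negSucc 0, Int.ofNat 1, Int.ofNat 1, Int.negSucc 0, Int.ofNat 1, Int.ofNat 1, Int.negSucc 0, Int.negSucc 2, Int.ofNat 1, Int.ofNat 1, Int.ofNat 1, Int.negSucc 0],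
  [Int.ofNat 1, Int.ofNat 1, Int.ofNat 1, Int.negSucc 0, Int.negSucc 0, Int.ofNat 1, Int.ofNat 1, Int.negSucc 0, Int.ofNat 1, Int.negSucc 0, Int.ofNat 1, Int.ofNat 1, Int.negSucc 0, Int.ofNat 1, Int.ofNat 1, Int.negSucc 0, Int.negSucc 2, Int.ofNat 1, Int.ofNat 1, Int.ofNat 1, Int.negSucc 0, Int.ofNat 1, Int.ofNat 1, Int.negSucc 0],
  [Int.ofNat 0, Int.ofNat 0, Int.ofNat 0, Int.negSucc 1, Int.ofNat 0, Int.ofNat 0, Int.ofNat 0, Int.negSucc 1, Int.ofNat 0, Int.ofNat 0, Int.ofNat 2, Int.ofNat 0, Int.negSucc 1, Int.ofNat 2, Int.ofNat 0, Int.ofNat 0, Int.negSucc 1, Int.ofNat 0, Int.ofNat 0, Int.ofNat 0, Int.ofNat 0, Int.ofNat 0, Int.ofNat 2, Int.ofNat 2],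
  [Int.ofNat 0, Int.ofNat 0, Int.ofNat 0, Int.negSucc 1, Int.ofNat 0, Int.negSucc 1, Int.ofNat 0, Int.ofNat 2, Int.negSucc 1, Int.ofNat 2, Int.ofNat 0, Int.ofNat 0, Int.ofNat 0, Int.negSucc 1, Int.ofNat 2, Int.ofNat 0, Int.ofNat 0, Int.ofNat 0, Int.ofNat 0, Int.ofNat 0, Int.ofNat 0, Int.ofNat 0, Int.ofNat 0, Int.ofNat 2],
  [Int.ofNat 1, Int.ofNat 1, Int.ofNat 1, Int.negSucc 0, Int.ofNat 1, Int.negSucc 0, Int.negSucc 0, Int.ofNat 1, Int.negSucc 0, Int.ofNat 1, Int.negSucc 0, Int.ofNat 1, Int.ofNat 1, Int.negSucc 0, Int.ofNat 3, Int.negSucc 0, Int.ofNat 1, Int.ofNat 1, Int.ofNat 1, Int.negSucc 0, Int.negSucc 0, Int.negSucc 0, Int.ofNat 1, Int.negSucc 0],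
  [Int.ofNat 1, Int.ofNat 1, Int.negSucc 0, Int.negSucc 0, Int.ofNat 1, Int.ofNat 1, Int.ofNat 1, Int.ofNat 1, Int.negSucc 0, Int.negSucc 0, Int.ofNat 1, Int.ofNat 1, Int.ofNat 1, Int.negSucc 0, Int.ofNat 3, Int.ofNat 1, Int.ofNat 1, Int.ofNat 1, Int.negSucc 0, Int.negSucc 0, Int.negSucc 0, Int.negSucc 0, Int.negSucc 0, Int.negSucc 0],
  [Int.negSucc 0, Int.negSucc 0, Int.ofNat 1, Int.ofNat 1, Int.ofNat 1, Int.negSucc 0, Int.ofNat 1, Int.negSucc 0, Int.ofNat 1, Int.ofNat 1, Int.negSucc 0, Int.ofNat 1, Int.ofNat 1, Int.ofNat 1, Int.negSucc 0, Int.negSucc 0, Int.negSucc 0, Int.negSucc 0, Int.negSucc 0, Int.ofNat 1, Int.ofNat 3, Int.ofNat 1, Int.ofNat 1, Int.negSucc 0],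
  [Int.negSucc 0, Int.negSucc 0, Int.negSucc 0, Int.ofNat 1, Int.ofNat 1, Int.ofNat 1, Int.negSucc 0, Int.negSucc 0, Int.ofNat 1, Int.negSucc 0, Int.ofNat 1, Int.ofNat 1, Int.ofNat 1, Int.ofNat 1, Int.negSucc 0, Int.ofNat 1, Int.negSucc 0, Int.negSucc 0, Int.ofNat 1, Int.ofNat 1, Int.ofNat 3, Int.ofNat 1, Int.negSucc 0, Int.negSucc 0],
  [Int.negSucc 0, Int.negSucc 0, Int.negSucc 0, Int.ofNat 1, Int.ofNat 1, Int.ofNat 1, Int.negSucc 0, Int.negSucc 0, Int.negSucc 0, Int.negSucc 2, Int.negSucc 0, Int.negSucc 0, Int.negSucc 0, Int.ofNat 1, Int.negSucc 0, Int.negSucc 0, Int.negSucc 0, Int.negSucc 0, Int.negSucc 0, Int.ofNat 1, Int.ofNat 1, Int.ofNat 1, Int.negSucc 0, Int.negSucc 0],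
  [Int.negSucc 0, Int.negSucc 0, Int.negSucc 0, Int.ofNat 1, Int.negSucc 0, Int.ofNat 1, Int.negSucc 0, Int.ofNat 1, Int.negSucc 0, Int.negSucc 0, Int.negSucc 0, Int.ofNat 1, Int.negSucc 0, Int.negSucc 2, Int.negSucc 0, Int.negSucc 0, Int.ofNat 1, Int.negSucc 0, Int.ofNat 1, Int.negSucc 0, Int.negSucc 0, Int.ofNat 1, Int.negSucc 0, Int.negSucc 0],
  [Int.negSucc 0, Int.negSucc 0, Int.negSucc 0, Int.ofNat 1, Int.ofNat 1, Int.ofNat 1, Int.negSucc 0, Int.ofNat 1, Int.negSucc 0, Int.ofNat 1, Int.ofNat 1, Int.ofNat 1, Int.negSucc 0, Int.negSucc 0, Int.negSucc 0, Int.ofNat 1, Int.ofNat 3, Int.negSucc 0, Int.ofNat 1, Int.negSucc 0, Int.ofNat 1, Int.ofNat 1, Int.ofNat 1, Int.negSucc 0],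
  [Int.ofNat 1, Int.ofNat 1, Int.ofNat 1, Int.negSucc 0, Int.negSucc 0, Int.negSucc 0, Int.ofNat 1, Int.ofNat 1, Int.ofNat 1, Int.negSucc 0, Int.ofNat 1, Int.negSucc 0, Int.ofNat 1, Int.ofNat 1, Int.ofNat 1, Int.negSucc 0, Int.negSucc 0, Int.negSucc 0, Int.ofNat 1, Int.ofNat 3, Int.negSucc 0, Int.ofNat 1, Int.negSucc 0, Int.negSucc 0],
  [Int.ofNat 0, Int.ofNat 0, Int.ofNat 0, Int.ofNat 0, Int.ofNat 0, Int.ofNat 0, Int.negSucc 1, Int.negSucc 1, Int.ofNat 0, Int.ofNat 0, Int.ofNat 2, Int.negSucc 1, Int.ofNat 0, Int.ofNat 2, Int.ofNat 2, Int.ofNat 0, Int.ofNat 0, Int.ofNat 0, Int.ofNat 0, Int.ofNat 0, Int.ofNat 0, Int.negSucc 1, Int.ofNat 0, Int.ofNat 2],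
  [Int.ofNat 0, Int.ofNat 0, Int.ofNat 0, Int.ofNat 0, Int.ofNat 0, Int.negSucc 1, Int.negSucc 1, Int.ofNat 0, Int.ofNat 0, Int.ofNat 2, Int.negSucc 1, Int.ofNat 0, Int.ofNat 2, Int.ofNat 2, Int.ofNat 0, Int.ofNat 0, Int.ofNat 0, Int.ofNat 0, Int.ofNat 0, Int.ofNat 0, Int.negSucc 1, Int.ofNat 0, Int.ofNat 0, Int.ofNat 2],
  [Int.ofNat 0, Int.ofNat 0, Int.ofNat 0, Int.ofNat 0, Int.ofNat 0, Int.negSucc 1, Int.negSucc 1, Int.ofNat 0, Int.ofNat 0, Int.negSucc 1, Int.ofNat 2, Int.ofNat 0, Int.ofNat 2, Int.ofNat 2, Int.ofNat 0, Int.ofNat 0, Int.ofNat 0, Int.ofNat 0, Int.ofNat 0, Int.ofNat 0, Int.negSucc 1, Int.ofNat 0, Int.ofNat 0, Int.ofNat 2],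
  [Int.ofNat 0, Int.ofNat 0, Int.ofNat 0, Int.ofNat 0, Int.ofNat 0, Int.negSucc 1, Int.ofNat 2, Int.ofNat 0, Int.ofNat 0, Int.ofNat 2, Int.ofNat 2, Int.ofNat 0, Int.negSucc 1, Int.negSucc 1, Int.ofNat 0, Int.ofNat 0, Int.ofNat 0, Int.ofNat 0, Int.ofNat 0, Int.ofNat 0, Int.negSucc 1, Int.ofNat 0, Int.ofNat 0, Int.ofNat 2],
  [Int.ofNat 0, Int.ofNat 0, Int.ofNat 0, Int.ofNat 0, Int.ofNat 0, Int.ofNat 2, Int.ofNat 0, Int.negSucc 1, Int.ofNat 2, Int.ofNat 0, Int.ofNat 0, Int.ofNat 0, Int.negSucc 1, Int.ofNat 0, Int.ofNat 0, Int.ofNat 0, Int.negSucc 1, Int.ofNat 0, Int.ofNat 2, Int.ofNat 0, Int.negSucc 1, Int.ofNat 0, Int.ofNat 0, Int.ofNat 2],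
  [Int.ofNat 0, Int.ofNat 0, Int.ofNat 0, Int.ofNat 0, Int.ofNat 0, Int.ofNat 2, Int.ofNat 0, Int.ofNat 2, Int.ofNat 2, Int.ofNat 0, Int.ofNat 0, Int.ofNat 0, Int.negSucc 1, Int.ofNat 0, Int.ofNat 0, Int.ofNat 0, Int.negSucc 1, Int.ofNat 0, Int.negSucc 1, Int.ofNat 0, Int.negSucc 1, Int.ofNat 0, Int.ofNat 0, Int.ofNat 2],
  [Int.ofNat 0, Int.ofNat 0, Int.ofNat 0, Int.ofNat 0, Int.ofNat 0, Int.ofNat 0, Int.ofNat 2, Int.ofNat 0, Int.ofNat 2, Int.ofNat 2, Int.ofNat 0, Int.ofNat 0, Int.ofNat 0, Int.negSucc 1, Int.ofNat 0, Int.ofNat 0, Int.ofNat 0, Int.negSucc 1, Int.ofNat 0, Int.negSucc 1, Int.ofNat 0, Int.negSucc 1, Int.ofNat 0, Int.ofNat 2],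
  [Int.ofNat 1, Int.ofNat 1, Int.ofNat 1, Int.ofNat 1, Int.ofNat 1, Int.ofNat 1, Int.ofNat 3, Int.ofNat 1, Int.ofNat 1, Int.ofNat 1, Int.negSucc 0, Int.negSucc 0, Int.negSucc 0, Int.negSucc 0, Int.ofNat 1, Int.negSucc 0, Int.ofNat 1, Int.negSucc 0, Int.negSucc 0, Int.negSucc 0, Int.negSucc 0, Int.negSucc 0, Int.ofNat 1, Int.negSucc 0],
  [Int.ofNat 1, Int.ofNat 1, Int.ofNat 1, Int.ofNat 3, Int.ofNat 1, Int.ofNat 1, Int.ofNat 1, Int.negSucc 0, Int.negSucc 0, Int.negSucc 0, Int.negSucc 0, Int.ofNat 1, Int.negSucc 0, Int.ofNat 1, Int.negSucc 0, Int.negSucc 0, Int.negSucc 0, Int.negSucc 0, Int.negSucc 0, Int.ofNat 1, Int.ofNat 1, Int.ofNat 1, Int.ofNat 1, Int.negSucc 0],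
  [Int.ofNat 0, Int.ofNat 0, Int.ofNat 0, Int.ofNat 2, Int.ofNat 0, Int.ofNat 0, Int.ofNat 0, Int.negSucc 1, Int.ofNat 0, Int.ofNat 0, Int.ofNat 0, Int.ofNat 2, Int.ofNat 0, Int.ofNat 0, Int.negSucc 1, Int.ofNat 0, Int.negSucc 1, Int.negSucc 1, Int.ofNat 0, Int.ofNat 0, Int.ofNat 2, Int.ofNat 0, Int.ofNat 0, Int.ofNat 2],
  [Int.ofNat 0, Int.ofNat 0, Int.ofNat 0, Int.ofNat 2, Int.ofNat 0, Int.negSucc 1, Int.ofNat 0, Int.ofNat 0, Int.ofNat 0, Int.ofNat 0, Int.ofNat 2, Int.negSucc 1, Int.ofNat 0, Int.negSucc 1, Int.ofNat 0, Int.ofNat 0, Int.ofNat 0, Int.negSucc 1, Int.ofNat 0, Int.ofNat 2, Int.ofNat 0, Int.ofNat 0, Int.ofNat 0, Int.ofNat 2],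
  [Int.ofNat 1, Int.ofNat 1, Int.ofNat 1, Int.ofNat 3, Int.ofNat 1, Int.negSucc 0, Int.negSucc 0, Int.negSucc 0, Int.ofNat 1, Int.negSucc 0, Int.ofNat 1, Int.negSucc 0, Int.ofNat 1, Int.negSucc 0, Int.ofNat 1, Int.negSucc 0, Int.ofNat 1, Int.negSucc 0, Int.ofNat 1, Int.ofNat 1, Int.negSucc 0, Int.negSucc 0, Int.ofNat 1, Int.negSucc 0],
  [Int.ofNat 1, Int.ofNat 1, Int.negSucc 0, Int.ofNat 3, Int.ofNat 1, Int.ofNat 1, Int.ofNat 1, Int.negSucc 0, Int.ofNat 1, Int.ofNat 1, Int.negSucc 0, Int.negSucc 0, Int.ofNat 1, Int.negSucc 0, Int.ofNat 1, Int.ofNat 1, Int.ofNat 1, Int.negSucc 0, Int.negSucc 0, Int.ofNat 1, Int.negSucc 0, Int.negSucc 0, Int.negSucc 0, Int.negSucc 0],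
  [Int.negSucc 0, Int.ofNat 1, Int.negSucc 0, Int.ofNat 1, Int.ofNat 1, Int.ofNat 1, Int.negSucc 0, Int.ofNat 3, Int.ofNat 1, Int.negSucc 0, Int.negSucc 0, Int.negSucc 0, Int.ofNat 1, Int.ofNat 1, Int.negSucc 0, Int.negSucc 0, Int.ofNat 1, Int.ofNat 1, Int.ofNat 1, Int.negSucc 0, Int.ofNat 1, Int.ofNat 1, Int.negSucc 0, Int.negSucc 0],
  [Int.negSucc 0, Int.negSucc 0, Int.negSucc 0, Int.negSucc 0, Int.ofNat 1, Int.negSucc 0, Int.negSucc 0, Int.ofNat 1, Int.ofNat 1, Int.ofNat 1, Int.ofNat 1, Int.negSucc 0, Int.ofNat 1, Int.ofNat 3, Int.ofNat 1, Int.ofNat 1, Int.negSucc 0, Int.ofNat 1, Int.negSucc 0, Int.negSucc 0, Int.ofNat 1, Int.ofNat 1, Int.ofNat 1, Int.negSucc 0],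
  [Int.ofNat 1, Int.negSucc 0, Int.ofNat 1, Int.negSucc 0, Int.ofNat 1, Int.negSucc 0, Int.negSucc 0, Int.negSucc 0, Int.ofNat 1, Int.negSucc 0, Int.negSucc 0, Int.ofNat 1, Int.ofNat 1, Int.ofNat 3, Int.ofNat 1, Int.ofNat 1, Int.negSucc 0, Int.ofNat 1, Int.ofNat 1, Int.negSucc 0, Int.ofNat 1, Int.negSucc 0, Int.ofNat 1, Int.negSucc 0],
  [Int.ofNat 1, Int.ofNat 1, Int.negSucc 0, Int.ofNat 1, Int.negSucc 0, Int.ofNat 1, Int.negSucc 0, Int.negSucc 0, Int.negSucc 0, Int.ofNat 1, Int.negSucc 0, Int.negSucc 0, Int.ofNat 1, Int.ofNat 1, Int.ofNat 3, Int.ofNat 1, Int.ofNat 1, Int.negSucc 0, Int.ofNat 1, Int.ofNat 1, Int.negSucc 0, Int.ofNat 1, Int.negSucc 0, Int.negSucc 0],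
  [Int.negSucc 0, Int.negSucc 0, Int.ofNat 1, Int.negSucc 0, Int.negSucc 0, Int.negSucc 0, Int.negSucc 0, Int.negSucc 0, Int.negSucc 0, Int.ofNat 1, Int.negSucc 0, Int.negSucc 0, Int.ofNat 1, Int.ofNat 1, Int.ofNat 1, Int.ofNat 1, Int.ofNat 1, Int.negSucc 2, Int.ofNat 1, Int.ofNat 1, Int.negSucc 0, Int.ofNat 1, Int.negSucc 0, Int.ofNat 1],
  [Int.negSucc 0, Int.negSucc 0, Int.negSucc 0, Int.negSucc 0, Int.negSucc 0, Int.negSucc 0, Int.ofNat 1, Int.negSucc 0, Int.negSucc 0, Int.ofNat 1, Int.ofNat 1, Int.ofNat 1, Int.ofNat 1, Int.ofNat 1, Int.negSucc 2, Int.ofNat 1, Int.ofNat 1, Int.negSucc 0, Int.ofNat 1, Int.negSucc 0, Int.negSucc 0, Int.negSucc 0, Int.ofNat 1, Int.ofNat 1],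
  [Int.ofNat 0, Int.ofNat 0, Int.ofNat 0, Int.ofNat 2, Int.negSucc 1, Int.ofNat 2, Int.ofNat 2, Int.ofNat 0, Int.negSucc 1, Int.ofNat 0, Int.ofNat 0, Int.ofNat 0, Int.ofNat 0, Int.ofNat 0, Int.ofNat 0, Int.ofNat 0, Int.ofNat 0, Int.ofNat 2, Int.ofNat 0, Int.ofNat 0, Int.negSucc 1, Int.ofNat 0, Int.ofNat 0, Int.negSucc 1],
  [Int.ofNat 0, Int.ofNat 2, Int.negSucc 1, Int.ofNat 2, Int.ofNat 0, Int.ofNat 0, Int.ofNat 0, Int.ofNat 0, Int.ofNat 0, Int.ofNat 0, Int.negSucc 1, Int.ofNat 2, Int.ofNat 0, Int.ofNat 0, Int.ofNat 0, Int.ofNat 0, Int.negSucc 1, Int.ofNat 0, Int.ofNat 0, Int.ofNat 0, Int.ofNat 0, Int.ofNat 2, Int.ofNat 0, Int.negSucc 1],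
  [Int.negSucc 0, Int.negSucc 2, Int.ofNat 1, Int.ofNat 1, Int.ofNat 1, Int.negSucc 0, Int.negSucc 0, Int.negSucc 0, Int.negSucc 0, Int.ofNat 1, Int.negSucc 0, Int.ofNat 1, Int.negSucc 0, Int.ofNat 1, Int.negSucc 0, Int.ofNat 1, Int.negSucc 0, Int.negSucc 0, Int.negSucc 0, Int.negSucc 0, Int.ofNat 1, Int.ofNat 1, Int.ofNat 1, Int.ofNat 1],
  [Int.negSucc 0, Int.negSucc 2, Int.negSucc 0, Int.ofNat 1, Int.ofNat 1, Int.ofNat 1, Int.ofNat 1, Int.negSucc 0, Int.negSucc 0, Int.negSucc 0, Int.ofNat 1, Int.ofNat 1, Int.negSucc 0, Int.ofNat 1, Int.negSucc 0, Int.negSucc 0, Int.negSucc 0, Int.negSucc 0, Int.ofNat 1, Int.negSucc 0, Int.ofNat 1, Int.ofNat 1, Int.negSucc 0, Int.ofNat 1],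
  [Int.ofNat 1, Int.negSucc 0, Int.negSucc 0, Int.ofNat 1, Int.ofNat 1, Int.negSucc 0, Int.ofNat 1, Int.ofNat 1, Int.negSucc 2, Int.ofNat 1, Int.negSucc 0, Int.negSucc 0, Int.negSucc 0, Int.ofNat 1, Int.negSucc 0, Int.ofNat 1, Int.negSucc 0, Int.ofNat 1, Int.ofNat 1, Int.negSucc 0, Int.negSucc 0, Int.negSucc 0, Int.negSucc 0, Int.ofNat 1],
  [Int.ofNat 1, Int.negSucc 0, Int.ofNat 1, Int.ofNat 1, Int.ofNat 1, Int.ofNat 1, Int.negSucc 0, Int.ofNat 1, Int.negSucc 2, Int.negSucc 0, Int.ofNat 1, Int.negSucc 0, Int.negSucc 0, Int.ofNat 1, Int.negSucc 0, Int.negSucc 0, Int.negSucc 0, Int.ofNat 1, Int.negSucc 0, Int.negSucc 0, Int.negSucc 0, Int.negSucc 0, Int.ofNat 1, Int.ofNat 1],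
  [Int.ofNat 0, Int.ofNat 2, Int.ofNat 0, Int.ofNat 0, Int.ofNat 0, Int.ofNat 0, Int.ofNat 0, Int.ofNat 2, Int.ofNat 0, Int.ofNat 0, Int.ofNat 2, Int.ofNat 2, Int.ofNat 2, Int.ofNat 0, Int.negSucc 1, Int.ofNat 0, Int.negSucc 1, Int.ofNat 0, Int.ofNat 2, Int.ofNat 0, Int.ofNat 0, Int.ofNat 0, Int.ofNat 0, Int.ofNat 0],
  [Int.ofNat 0, Int.ofNat 2, Int.ofNat 0, Int.ofNat 0, Int.ofNat 0, Int.ofNat 0, Int.ofNat 2, Int.ofNat 0, Int.negSucc 1, Int.ofNat 2, Int.ofNat 2, Int.ofNat 0, Int.ofNat 0, Int.ofNat 0, Int.ofNat 0, Int.ofNat 0, Int.ofNat 0, Int.ofNat 2, Int.ofNat 0, Int.ofNat 0, Int.ofNat 2, Int.ofNat 0, Int.negSucc 1, Int.ofNat 0],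
  [Int.ofNat 1, Int.negSucc 0, Int.ofNat 1, Int.negSucc 0, Int.ofNat 1, Int.negSucc 0, Int.ofNat 1, Int.negSucc 0, Int.negSucc 0, Int.negSucc 0, Int.negSucc 0, Int.ofNat 1, Int.ofNat 1, Int.ofNat 1, Int.negSucc 0, Int.negSucc 2, Int.ofNat 1, Int.ofNat 1, Int.ofNat 1, Int.negSucc 0, Int.negSucc 0, Int.negSucc 0, Int.negSucc 0, Int.ofNat 1],
  [Int.negSucc 0, Int.negSucc 0, Int.negSucc 0, Int.ofNat 1, Int.negSucc 0, Int.ofNat 1, Int.negSucc 0, Int.ofNat 1, Int.negSucc 0, Int.ofNat 1, Int.negSucc 0, Int.negSucc 0, Int.negSucc 0, Int.negSucc 0, Int.ofNat 1, Int.ofNat 1, Int.ofNat 1, Int.negSucc 0, Int.negSucc 2, Int.ofNat 1, Int.ofNat 1, Int.ofNat 1, Int.negSucc 0, Int.ofNat 1],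
  [Int.ofNat 0, Int.ofNat 0, Int.ofNat 0, Int.ofNat 0, Int.ofNat 0, Int.ofNat 0, Int.negSucc 1, Int.ofNat 0, Int.ofNat 2, Int.ofNat 0, Int.negSucc 1, Int.ofNat 2, Int.ofNat 2, Int.ofNat 0, Int.ofNat 0, Int.ofNat 0, Int.ofNat 2, Int.negSucc 1, Int.ofNat 0, Int.ofNat 0, Int.ofNat 0, Int.ofNat 0, Int.ofNat 0, Int.negSucc 1],
  [Int.ofNat 0, Int.ofNat 0, Int.ofNat 0, Int.ofNat 0, Int.ofNat 0, Int.negSucc 1, Int.ofNat 0, Int.ofNat 2, Int.ofNat 0, Int.negSucc 1, Int.ofNat 2, Int.ofNat 2, Int.ofNat 0, Int.ofNat 0, Int.ofNat 0, Int.ofNat 2, Int.negSucc 1, Int.ofNat 0, Int.ofNat 0, Int.ofNat 0, Int.ofNat 0, Int.ofNat 0, Int.ofNat 0, Int.negSucc 1],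
  [Int.ofNat 0, Int.ofNat 0, Int.ofNat 0, Int.ofNat 0, Int.ofNat 0, Int.negSucc 1, Int.ofNat 0, Int.negSucc 1, Int.ofNat 0, Int.ofNat 2, Int.negSucc 1, Int.negSucc 1, Int.ofNat 0, Int.ofNat 0, Int.ofNat 0, Int.ofNat 2, Int.negSucc 1, Int.ofNat 0, Int.ofNat 0, Int.ofNat 0, Int.ofNat 0, Int.ofNat 0, Int.ofNat 0, Int.negSucc 1],
  [Int.ofNat 0, Int.ofNat 0, Int.ofNat 0, Int.ofNat 0, Int.ofNat 0, Int.negSucc 1, Int.ofNat 0, Int.negSucc 1, Int.ofNat 0, Int.negSucc 1, Int.negSucc 1, Int.negSucc 1, Int.ofNat 0, Int.ofNat 0, Int.ofNat 0, Int.ofNat 2, Int.ofNat 2, Int.ofNat 0, Int.ofNat 0, Int.ofNat 0, Int.ofNat 0, Int.ofNat 0, Int.ofNat 0, Int.negSucc 1],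
  [Int.ofNat 0, Int.ofNat 0, Int.ofNat 0, Int.ofNat 0, Int.ofNat 0, Int.negSucc 1, Int.ofNat 0, Int.ofNat 0, Int.negSucc 1, Int.ofNat 2, Int.ofNat 0, Int.ofNat 0, Int.ofNat 0, Int.ofNat 0, Int.ofNat 0, Int.ofNat 2, Int.ofNat 0, Int.ofNat 0, Int.ofNat 0, Int.ofNat 0, Int.negSucc 1, Int.negSucc 1, Int.negSucc 1, Int.negSucc 1],
  [Int.ofNat 0, Int.ofNat 0, Int.ofNat 0, Int.ofNat 0, Int.ofNat 0, Int.negSucc 1, Int.ofNat 0, Int.ofNat 0, Int.negSucc 1, Int.negSucc 1, Int.ofNat 0, Int.ofNat 0, Int.ofNat 0, Int.ofNat 0, Int.ofNat 0, Int.ofNat 2, Int.ofNat 0, Int.ofNat 0, Int.ofNat 0, Int.ofNat 0, Int.negSucc 1, Int.ofNat 2, Int.negSucc 1, Int.negSucc 1],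
  [Int.negSucc 1, Int.ofNat 0, Int.ofNat 0, Int.ofNat 0, Int.ofNat 0, Int.ofNat 0, Int.negSucc 1, Int.ofNat 0, Int.ofNat 0, Int.negSucc 1, Int.negSucc 1, Int.ofNat 0, Int.ofNat 0, Int.ofNat 0, Int.ofNat 0, Int.ofNat 0, Int.ofNat 2, Int.ofNat 0, Int.ofNat 0, Int.ofNat 0, Int.ofNat 0, Int.negSucc 1, Int.ofNat 2, Int.negSucc 1],
  [Int.ofNat 0, Int.negSucc 1, Int.negSucc 1, Int.ofNat 0, Int.negSucc 1, Int.ofNat 0, Int.ofNat 0, Int.ofNat 2, Int.ofNat 0, Int.ofNat 0, Int.ofNat 0, Int.ofNat 0, Int.ofNat 0, Int.negSucc 1, Int.ofNat 0, Int.ofNat 2, Int.ofNat 0, Int.ofNat 0, Int.ofNat 0, Int.ofNat 2, Int.ofNat 2, Int.ofNat 0, Int.ofNat 0, Int.ofNat 0],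
  [Int.ofNat 0, Int.negSucc 1, Int.ofNat 0, Int.ofNat 0, Int.ofNat 2, Int.ofNat 0, Int.ofNat 0, Int.ofNat 0, Int.ofNat 0, Int.ofNat 0, Int.negSucc 1, Int.ofNat 0, Int.ofNat 2, Int.ofNat 0, Int.ofNat 0, Int.ofNat 0, Int.ofNat 2, Int.ofNat 2, Int.ofNat 0, Int.ofNat 0, Int.ofNat 0, Int.negSucc 1, Int.negSucc 1, Int.ofNat 0],
  [Int.negSucc 0, Int.ofNat 1, Int.negSucc 0, Int.negSucc 0, Int.ofNat 1, Int.negSucc 0, Int.ofNat 1, Int.ofNat 1, Int.negSucc 0, Int.ofNat 1, Int.negSucc 0, Int.negSucc 0, Int.ofNat 1, Int.negSucc 0, Int.negSucc 0, Int.ofNat 1, Int.ofNat 1, Int.ofNat 1, Int.negSucc 0, Int.ofNat 1, Int.ofNat 1, Int.negSucc 0, Int.negSucc 2, Int.negSucc 0],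
  [Int.negSucc 0, Int.ofNat 1, Int.ofNat 1, Int.negSucc 0, Int.negSucc 0, Int.ofNat 1, Int.negSucc 0, Int.negSucc 0, Int.ofNat 1, Int.negSucc 0, Int.ofNat 1, Int.ofNat 1, Int.ofNat 1, Int.ofNat 1, Int.negSucc 2, Int.ofNat 1, Int.negSucc 0, Int.negSucc 0, Int.ofNat 1, Int.negSucc 0, Int.negSucc 0, Int.negSucc 0, Int.ofNat 1, Int.negSucc 0],
  [Int.ofNat 1, Int.negSucc 0, Int.negSucc 0, Int.ofNat 1, Int.negSucc 0, Int.ofNat 3, Int.ofNat 1, Int.ofNat 1, Int.negSucc 0, Int.negSucc 0, Int.ofNat 1, Int.negSucc 0, Int.negSucc 0, Int.ofNat 1, Int.negSucc 0, Int.ofNat 1, Int.negSucc 0, Int.ofNat 1, Int.negSucc 0, Int.ofNat 1, Int.negSucc 0, Int.ofNat 1, Int.ofNat 1, Int.ofNat 1],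
  [Int.ofNat 1, Int.negSucc 0, Int.ofNat 1, Int.ofNat 1, Int.negSucc 0, Int.negSucc 2, Int.negSucc 0, Int.ofNat 1, Int.negSucc 0, Int.ofNat 1, Int.negSucc 0, Int.negSucc 0, Int.negSucc 0, Int.ofNat 1, Int.negSucc 0, Int.negSucc 0, Int.negSucc 0, Int.ofNat 1, Int.ofNat 1, Int.ofNat 1, Int.negSucc 0, Int.ofNat 1, Int.negSucc 0, Int.ofNat 1],
  [Int.negSucc 0, Int.negSucc 0, Int.negSucc 0, Int.negSucc 0, Int.negSucc 0, Int.negSucc 0, Int.ofNat 1, Int.ofNat 1, Int.negSucc 2, Int.negSucc 0, Int.ofNat 1, Int.ofNat 1, Int.negSucc 0, Int.negSucc 0, Int.ofNat 1, Int.ofNat 1, Int.ofNat 1, Int.negSucc 0, Int.ofNat 1, Int.ofNat 1, Int.ofNat 1, Int.negSucc 0, Int.negSucc 0, Int.ofNat 1],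
  [Int.ofNat 1, Int.negSucc 0, Int.ofNat 1, Int.ofNat 1, Int.negSucc 0, Int.negSucc 0, Int.ofNat 1, Int.negSucc 0, Int.ofNat 1, Int.negSucc 0, Int.ofNat 1, Int.negSucc 0, Int.negSucc 0, Int.ofNat 1, Int.ofNat 1, Int.negSucc 0, Int.ofNat 1, Int.negSucc 0, Int.ofNat 1, Int.ofNat 1, Int.negSucc 2, Int.negSucc 0, Int.negSucc 0, Int.negSucc 0],
  [Int.negSucc 0, Int.negSucc 0, Int.negSucc 0, Int.ofNat 1, Int.negSucc 0, Int.negSucc 0, Int.ofNat 1, Int.ofNat 1, Int.ofNat 1, Int.ofNat 1, Int.negSucc 0, Int.ofNat 1, Int.negSucc 0, Int.ofNat 1, Int.ofNat 1, Int.negSucc 0, Int.ofNat 1, Int.negSucc 0, Int.negSucc 0, Int.ofNat 1, Int.negSucc 2, Int.ofNat 1, Int.negSucc 0, Int.negSucc 0],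
  [Int.negSucc 0, Int.negSucc 0, Int.negSucc 0, Int.negSucc 0, Int.ofNat 1, Int.negSucc 0, Int.negSucc 0, Int.ofNat 1, Int.ofNat 1, Int.ofNat 1, Int.ofNat 1, Int.negSucc 0, Int.ofNat 1, Int.negSucc 0, Int.ofNat 1, Int.ofNat 1, Int.negSucc 0, Int.ofNat 1, Int.negSucc 0, Int.negSucc 0, Int.ofNat 1, Int.negSucc 2, Int.ofNat 1, Int.negSucc 0],
  [Int.negSucc 0, Int.negSucc 0, Int.negSucc 0, Int.negSucc 0, Int.ofNat 1, Int.negSucc 0, Int.ofNat 1, Int.ofNat 3, Int.ofNat 1, Int.negSucc 0, Int.negSucc 0, Int.negSucc 0, Int.ofNat 1, Int.negSucc 0, Int.ofNat 1, Int.negSucc 0, Int.negSucc 0, Int.ofNat 1, Int.negSucc 0, Int.ofNat 1, Int.negSucc 0, Int.negSucc 0, Int.ofNat 1, Int.negSucc 0],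
  [Int.negSucc 0, Int.ofNat 1, Int.negSucc 0, Int.ofNat 1, Int.ofNat 3, Int.ofNat 1, Int.negSucc 0, Int.negSucc 0, Int.negSucc 0, Int.ofNat 1, Int.negSucc 0, Int.ofNat 1, Int.negSucc 0, Int.negSucc 0, Int.ofNat 1, Int.negSucc 0, Int.ofNat 1, Int.negSucc 0, Int.negSucc 0, Int.ofNat 1, Int.negSucc 0, Int.negSucc 0, Int.negSucc 0, Int.negSucc 0],
  [Int.ofNat 0, Int.negSucc 1, Int.ofNat 0, Int.ofNat 0, Int.ofNat 2, Int.ofNat 0, Int.ofNat 0, Int.ofNat 0, Int.ofNat 0, Int.ofNat 2, Int.ofNat 0, Int.ofNat 2, Int.ofNat 0, Int.negSucc 1, Int.ofNat 0, Int.ofNat 0, Int.ofNat 0, Int.negSucc 1, Int.ofNat 0, Int.ofNat 2, Int.ofNat 0, Int.ofNat 0, Int.negSucc 1, Int.ofNat 0],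
  [Int.ofNat 0, Int.ofNat 0, Int.ofNat 2, Int.ofNat 0, Int.ofNat 0, Int.ofNat 0, Int.ofNat 0, Int.ofNat 0, Int.ofNat 0, Int.negSucc 1, Int.ofNat 0, Int.negSucc 1, Int.ofNat 2, Int.ofNat 0, Int.negSucc 1, Int.ofNat 0, Int.ofNat 0, Int.ofNat 0, Int.negSucc 1, Int.ofNat 2, Int.ofNat 0, Int.ofNat 0, Int.ofNat 2, Int.ofNat 0],
  [Int.ofNat 1, Int.ofNat 1, Int.negSucc 0, Int.ofNat 1, Int.negSucc 0, Int.ofNat 1, Int.negSucc 0, Int.negSucc 0, Int.ofNat 1, Int.negSucc 0, Int.ofNat 1, Int.negSucc 0, Int.ofNat 3, Int.negSucc 0, Int.negSucc 0, Int.ofNat 1, Int.negSucc 0, Int.ofNat 1, Int.negSucc 0, Int.ofNat 1, Int.ofNat 1, Int.negSucc 0, Int.ofNat 1, Int.ofNat 1],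
  [Int.ofNat 1, Int.ofNat 1, Int.ofNat 1, Int.ofNat 1, Int.negSucc 0, Int.negSucc 0, Int.ofNat 1, Int.negSucc 0, Int.ofNat 1, Int.ofNat 1, Int.negSucc 0, Int.negSucc 0, Int.ofNat 3, Int.negSucc 0, Int.negSucc 0, Int.negSucc 0, Int.negSucc 0, Int.ofNat 1, Int.ofNat 1, Int.ofNat 1, Int.ofNat 1, Int.negSucc 0, Int.negSucc 0, Int.ofNat 1],
  [Int.ofNat 1, Int.ofNat 1, Int.ofNat 1, Int.negSucc 0, Int.negSucc 0, Int.ofNat 1, Int.negSucc 0, Int.negSucc 0, Int.ofNat 1, Int.negSucc 0, Int.ofNat 1, Int.ofNat 1, Int.negSucc 0, Int.ofNat 1, Int.negSucc 0, Int.ofNat 1, Int.ofNat 1, Int.ofNat 1, Int.negSucc 0, Int.negSucc 0, Int.negSucc 0, Int.negSucc 0, Int.ofNat 3, Int.ofNat 1],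
  [Int.ofNat 1, Int.ofNat 1, Int.negSucc 0, Int.negSucc 0, Int.negSucc 0, Int.negSucc 0, Int.ofNat 1, Int.negSucc 0, Int.ofNat 1, Int.ofNat 1, Int.negSucc 0, Int.ofNat 1, Int.negSucc 0, Int.ofNat 1, Int.negSucc 0, Int.negSucc 0, Int.ofNat 1, Int.ofNat 1, Int.ofNat 1, Int.negSucc 0, Int.negSucc 0, Int.negSucc 0, Int.negSucc 2, Int.ofNat 1],
  [Int.ofNat 0, Int.ofNat 0, Int.ofNat 2, Int.ofNat 0, Int.ofNat 0, Int.ofNat 0, Int.ofNat 2, Int.ofNat 0, Int.ofNat 0, Int.ofNat 2, Int.ofNat 0, Int.ofNat 0, Int.negSucc 1, Int.ofNat 2, Int.ofNat 0, Int.ofNat 0, Int.ofNat 2, Int.ofNat 2, Int.ofNat 0, Int.ofNat 0, Int.ofNat 0, Int.ofNat 0, Int.negSucc 1, Int.ofNat 0],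
  [Int.ofNat 0, Int.ofNat 0, Int.ofNat 2, Int.ofNat 0, Int.ofNat 2, Int.ofNat 0, Int.ofNat 0, Int.ofNat 0, Int.ofNat 2, Int.negSucc 1, Int.ofNat 0, Int.ofNat 0, Int.ofNat 0, Int.ofNat 2, Int.ofNat 2, Int.ofNat 0, Int.ofNat 2, Int.ofNat 0, Int.ofNat 0, Int.negSucc 1, Int.ofNat 0, Int.ofNat 0, Int.ofNat 0, Int.ofNat 0],
  [Int.ofNat 1, Int.ofNat 1, Int.negSucc 0, Int.negSucc 0, Int.negSucc 0, Int.negSucc 0, Int.ofNat 1, Int.ofNat 1, Int.ofNat 1, Int.negSucc 0, Int.ofNat 1, Int.negSucc 0, Int.negSucc 0, Int.negSucc 0, Int.ofNat 1, Int.ofNat 1, Int.negSucc 0, Int.negSucc 0, Int.negSucc 0, Int.negSucc 0, Int.ofNat 1, Int.ofNat 1, Int.negSucc 2, Int.ofNat 1],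
  [Int.ofNat 1, Int.ofNat 1, Int.negSucc 2, Int.ofNat 1, Int.ofNat 1, Int.negSucc 0, Int.negSucc 0, Int.negSucc 0, Int.negSucc 0, Int.ofNat 1, Int.ofNat 1, Int.ofNat 1, Int.negSucc 0, Int.ofNat 1, Int.negSucc 0, Int.negSucc 0, Int.negSucc 0, Int.ofNat 1, Int.ofNat 1, Int.negSucc 0, Int.negSucc 0, Int.negSucc 0, Int.negSucc 0, Int.ofNat 1],
  [Int.negSucc 0, Int.negSucc 0, Int.ofNat 3, Int.ofNat 1, Int.ofNat 1, Int.negSucc 0, Int.ofNat 1, Int.ofNat 1, Int.negSucc 0, Int.ofNat 1, Int.ofNat 1, Int.ofNat 1, Int.negSucc 0, Int.ofNat 1, Int.negSucc 0, Int.negSucc 0, Int.negSucc 0, Int.ofNat 1, Int.ofNat 1, Int.ofNat 1, Int.negSucc 0, Int.ofNat 1, Int.negSucc 0, Int.negSucc 0],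
  [Int.negSucc 0, Int.ofNat 3, Int.ofNat 1, Int.ofNat 1, Int.negSucc 0, Int.ofNat 1, Int.ofNat 1, Int.negSucc 0, Int.ofNat 1, Int.ofNat 1, Int.ofNat 1, Int.negSucc 0, Int.ofNat 1, Int.negSucc 0, Int.negSucc 0, Int.negSucc 0, Int.ofNat 1, Int.ofNat 1, Int.ofNat 1, Int.negSucc 0, Int.ofNat 1, Int.negSucc 0, Int.negSucc 0, Int.negSucc 0],
  [Int.ofNat 1, Int.ofNat 3, Int.negSucc 0, Int.ofNat 1, Int.negSucc 0, Int.ofNat 1, Int.ofNat 1, Int.ofNat 1, Int.ofNat 1, Int.negSucc 0, Int.negSucc 0, Int.ofNat 1, Int.ofNat 1, Int.negSucc 0, Int.negSucc 0, Int.negSucc 0, Int.ofNat 1, Int.ofNat 1, Int.negSucc 0, Int.negSucc 0, Int.ofNat 1, Int.ofNat 1, Int.negSucc 0, Int.negSucc 0],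
  [Int.negSucc 0, Int.negSucc 2, Int.ofNat 1, Int.negSucc 0, Int.ofNat 1, Int.ofNat 1, Int.negSucc 0, Int.ofNat 1, Int.negSucc 0, Int.ofNat 1, Int.negSucc 0, Int.ofNat 1, Int.negSucc 0, Int.ofNat 1, Int.negSucc 0, Int.negSucc 0, Int.negSucc 0, Int.ofNat 1, Int.ofNat 1, Int.negSucc 0, Int.ofNat 1, Int.ofNat 1, Int.negSucc 0, Int.negSucc 0],
  [Int.negSucc 0, Int.ofNat 1, Int.ofNat 1, Int.negSucc 0, Int.negSucc 2, Int.negSucc 0, Int.ofNat 1, Int.ofNat 1, Int.ofNat 1, Int.negSucc 0, Int.ofNat 1, Int.negSucc 0, Int.ofNat 1, Int.negSucc 0, Int.negSucc 0, Int.negSucc 0, Int.negSucc 0, Int.negSucc 0, Int.negSucc 0, Int.ofNat 1, Int.ofNat 1, Int.ofNat 1, Int.ofNat 1, Int.negSucc 0],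
  [Int.ofNat 1, Int.ofNat 1, Int.negSucc 0, Int.negSucc 0, Int.negSucc 2, Int.negSucc 0, Int.ofNat 1, Int.negSucc 0, Int.ofNat 1, Int.ofNat 1, Int.negSucc 0, Int.ofNat 1, Int.ofNat 1, Int.negSucc 0, Int.negSucc 0, Int.negSucc 0, Int.negSucc 0, Int.negSucc 0, Int.ofNat 1, Int.ofNat 1, Int.ofNat 1, Int.negSucc 0, Int.ofNat 1, Int.negSucc 0],
  [Int.ofNat 1, Int.ofNat 1, Int.ofNat 1, Int.negSucc 0, Int.negSucc 0, Int.negSucc 2, Int.negSucc 0, Int.ofNat 1, Int.negSucc 0, Int.ofNat 1, Int.ofNat 1, Int.negSucc 0, Int.ofNat 1, Int.ofNat 1, Int.negSucc 0, Int.negSucc 0, Int.negSucc 0, Int.negSucc 0, Int.negSucc 0, Int.ofNat 1, Int.ofNat 1, Int.ofNat 1, Int.negSucc 0, Int.negSucc 0],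
  [Int.ofNat 0, Int.ofNat 0, Int.ofNat 0, Int.ofNat 2, Int.ofNat 0, Int.ofNat 0, Int.negSucc 1, Int.ofNat 0, Int.ofNat 0, Int.ofNat 0, Int.ofNat 0, Int.ofNat 0, Int.ofNat 2, Int.ofNat 2, Int.ofNat 2, Int.negSucc 1, Int.ofNat 0, Int.ofNat 2, Int.ofNat 0, Int.ofNat 0, Int.ofNat 0, Int.ofNat 0, Int.ofNat 0, Int.ofNat 2],
  [Int.ofNat 2, Int.ofNat 0, Int.ofNat 0, Int.negSucc 1, Int.ofNat 0, Int.ofNat 0, Int.ofNat 0, Int.ofNat 0, Int.ofNat 0, Int.ofNat 2, Int.ofNat 2, Int.ofNat 2, Int.negSucc 1, Int.ofNat 0, Int.ofNat 2, Int.ofNat 0, Int.ofNat 0, Int.ofNat 0, Int.ofNat 0, Int.ofNat 0, Int.ofNat 0, Int.ofNat 0, Int.ofNat 0, Int.ofNat 2],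
  [Int.ofNat 0, Int.ofNat 2, Int.ofNat 2, Int.negSucc 1, Int.ofNat 0, Int.ofNat 0, Int.ofNat 0, Int.ofNat 0, Int.ofNat 0, Int.ofNat 0, Int.ofNat 0, Int.ofNat 2, Int.negSucc 1, Int.ofNat 0, Int.ofNat 2, Int.negSucc 1, Int.ofNat 0, Int.ofNat 0, Int.ofNat 0, Int.ofNat 0, Int.negSucc 1, Int.ofNat 0, Int.ofNat 0, Int.ofNat 0],
  [Int.ofNat 0, Int.ofNat 0, Int.ofNat 0, Int.negSucc 1, Int.ofNat 0, Int.ofNat 0, Int.ofNat 2, Int.ofNat 0, Int.negSucc 1, Int.ofNat 0, Int.negSucc 1, Int.ofNat 0, Int.ofNat 0, Int.ofNat 0, Int.ofNat 0, Int.negSucc 1, Int.ofNat 0, Int.ofNat 2, Int.ofNat 2, Int.ofNat 2, Int.ofNat 0, Int.ofNat 0, Int.ofNat 0, Int.ofNat 0],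
  [Int.ofNat 0, Int.ofNat 0, Int.ofNat 0, Int.negSucc 1, Int.ofNat 0, Int.ofNat 0, Int.ofNat 0, Int.negSucc 1, Int.negSucc 1, Int.ofNat 2, Int.ofNat 0, Int.ofNat 0, Int.ofNat 0, Int.ofNat 0, Int.ofNat 0, Int.ofNat 0, Int.ofNat 0, Int.ofNat 2, Int.ofNat 2, Int.ofNat 0, Int.ofNat 2, Int.negSucc 1, Int.ofNat 0, Int.ofNat 0],
  [Int.ofNat 0, Int.ofNat 0, Int.ofNat 0, Int.negSucc 1, Int.ofNat 0, Int.ofNat 0, Int.ofNat 0, Int.negSucc 1, Int.negSucc 1, Int.negSucc 1, Int.ofNat 0, Int.ofNat 0, Int.ofNat 0, Int.ofNat 0, Int.ofNat 0, Int.ofNat 0, Int.ofNat 0, Int.ofNat 2, Int.negSucc 1, Int.ofNat 0, Int.ofNat 2, Int.negSucc 1, Int.ofNat 0, Int.ofNat 0],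
  [Int.ofNat 0, Int.ofNat 0, Int.ofNat 0, Int.negSucc 1, Int.ofNat 0, Int.ofNat 0, Int.negSucc 1, Int.negSucc 1, Int.ofNat 0, Int.ofNat 2, Int.ofNat 0, Int.negSucc 1, Int.ofNat 0, Int.ofNat 0, Int.ofNat 2, Int.negSucc 1, Int.ofNat 0, Int.ofNat 0, Int.negSucc 1, Int.ofNat 0, Int.ofNat 0, Int.ofNat 0, Int.ofNat 0, Int.ofNat 0],
  [Int.ofNat 0, Int.ofNat 0, Int.negSucc 1, Int.negSucc 1, Int.ofNat 0, Int.ofNat 2, Int.ofNat 0, Int.ofNat 0, Int.ofNat 0, Int.ofNat 0, Int.ofNat 0, Int.ofNat 0, Int.ofNat 0, Int.negSucc 1, Int.negSucc 1, Int.negSucc 1, Int.ofNat 0, Int.ofNat 0, Int.ofNat 2, Int.negSucc 1, Int.ofNat 0, Int.ofNat 0, Int.ofNat 0, Int.ofNat 0],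
  [Int.ofNat 0, Int.ofNat 0, Int.ofNat 2, Int.negSucc 1, Int.ofNat 0, Int.ofNat 2, Int.ofNat 0, Int.ofNat 0, Int.ofNat 0, Int.ofNat 0, Int.ofNat 0, Int.ofNat 0, Int.ofNat 0, Int.negSucc 1, Int.negSucc 1, Int.negSucc 1, Int.ofNat 0, Int.ofNat 0, Int.negSucc 1, Int.negSucc 1, Int.ofNat 0, Int.ofNat 0, Int.ofNat 0, Int.ofNat 0],
  [Int.ofNat 0, Int.ofNat 0, Int.ofNat 0, Int.ofNat 2, Int.negSucc 1, Int.ofNat 0, Int.ofNat 2, Int.ofNat 0, Int.ofNat 0, Int.ofNat 0, Int.ofNat 0, Int.ofNat 0, Int.ofNat 0, Int.ofNat 0, Int.negSucc 1, Int.negSucc 1, Int.negSucc 1, Int.ofNat 0, Int.ofNat 0, Int.negSucc 1, Int.negSucc 1, Int.ofNat 0, Int.ofNat 0, Int.ofNat 0],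
  [Int.ofNat 0, Int.ofNat 0, Int.ofNat 0, Int.ofNat 2, Int.ofNat 0, Int.ofNat 0, Int.ofNat 2, Int.ofNat 0, Int.ofNat 0, Int.ofNat 2, Int.ofNat 2, Int.ofNat 0, Int.ofNat 0, Int.ofNat 2, Int.negSucc 1, Int.ofNat 0, Int.ofNat 0, Int.ofNat 0, Int.ofNat 0, Int.negSucc 1, Int.ofNat 0, Int.ofNat 0, Int.ofNat 2, Int.ofNat 0],
  [Int.ofNat 2, Int.ofNat 0, Int.ofNat 0, Int.ofNat 2, Int.ofNat 0, Int.ofNat 0, Int.ofNat 2, Int.ofNat 2, Int.ofNat 0, Int.ofNat 0, Int.ofNat 2, Int.negSucc 1, Int.ofNat 0, Int.ofNat 0, Int.ofNat 0, Int.ofNat 0, Int.negSucc 1, Int.ofNat 0, Int.ofNat 0, Int.ofNat 2, Int.ofNat 0, Int.ofNat 0, Int.ofNat 0, Int.ofNat 0],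
  [Int.negSucc 0, Int.ofNat 1, Int.ofNat 1, Int.ofNat 1, Int.ofNat 1, Int.negSucc 0, Int.negSucc 0, Int.negSucc 0, Int.ofNat 1, Int.negSucc 0, Int.ofNat 1, Int.negSucc 0, Int.ofNat 1, Int.ofNat 1, Int.negSucc 0, Int.negSucc 0, Int.negSucc 0, Int.negSucc 0, Int.ofNat 1, Int.negSucc 0, Int.negSucc 0, Int.negSucc 2, Int.ofNat 1, Int.ofNat 1],
  [Int.negSucc 0, Int.negSucc 0, Int.ofNat 1, Int.ofNat 1, Int.ofNat 1, Int.negSucc 0, Int.ofNat 1, Int.ofNat 1, Int.ofNat 1, Int.ofNat 1, Int.negSucc 0, Int.negSucc 0, Int.negSucc 0, Int.negSucc 0, Int.ofNat 1, Int.negSucc 0, Int.ofNat 1, Int.negSucc 0, Int.ofNat 1, Int.negSucc 0, Int.negSucc 2, Int.negSucc 0, Int.negSucc 0, Int.ofNat 1],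
  [Int.ofNat 1, Int.ofNat 1, Int.negSucc 0, Int.ofNat 1, Int.ofNat 1, Int.negSucc 0, Int.ofNat 1, Int.ofNat 1, Int.ofNat 1, Int.ofNat 3, Int.ofNat 1, Int.negSucc 0, Int.negSucc 0, Int.negSucc 0, Int.ofNat 1, Int.ofNat 1, Int.ofNat 1, Int.negSucc 0, Int.ofNat 1, Int.negSucc 0, Int.negSucc 0, Int.negSucc 0, Int.negSucc 0, Int.negSucc 0],
  [Int.ofNat 1, Int.ofNat 1, Int.ofNat 1, Int.ofNat 1, Int.ofNat 1, Int.ofNat 1, Int.negSucc 0, Int.ofNat 1, Int.ofNat 1, Int.negSucc 2, Int.negSucc 0, Int.negSucc 0, Int.negSucc 0, Int.negSucc 0, Int.ofNat 1, Int.negSucc 0, Int.ofNat 1, Int.negSucc 0, Int.negSucc 0, Int.negSucc 0, Int.negSucc 0, Int.negSucc 0, Int.ofNat 1, Int.negSucc 0],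
  [Int.negSucc 0, Int.negSucc 0, Int.negSucc 0, Int.negSucc 0, Int.ofNat 1, Int.ofNat 1, Int.negSucc 0, Int.negSucc 0, Int.ofNat 1, Int.ofNat 1, Int.negSucc 2, Int.ofNat 1, Int.negSucc 0, Int.negSucc 0, Int.ofNat 1, Int.ofNat 1, Int.ofNat 1, Int.negSucc 0, Int.negSucc 0, Int.ofNat 1, Int.ofNat 1, Int.ofNat 1, Int.negSucc 0, Int.negSucc 0],
  [Int.negSucc 0, Int.negSucc 0, Int.ofNat 1, Int.negSucc 0, Int.ofNat 1, Int.negSucc 0, Int.ofNat 1, Int.negSucc 0, Int.ofNat 1, Int.negSucc 0, Int.ofNat 3, Int.ofNat 1, Int.negSucc 0, Int.negSucc 0, Int.ofNat 1, Int.negSucc 0, Int.ofNat 1, Int.negSucc 0, Int.ofNat 1, Int.ofNat 1, Int.ofNat 1, Int.ofNat 1, Int.ofNat 1, Int.negSucc 0],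
  [Int.ofNat 0, Int.ofNat 0, Int.negSucc 1, Int.ofNat 0, Int.ofNat 0, Int.ofNat 0, Int.ofNat 0, Int.negSucc 1, Int.ofNat 0, Int.negSucc 1, Int.ofNat 2, Int.ofNat 0, Int.negSucc 1, Int.negSucc 1, Int.ofNat 2, Int.negSucc 1, Int.ofNat 0, Int.ofNat 0, Int.ofNat 0, Int.ofNat 0, Int.ofNat 0, Int.ofNat 0, Int.ofNat 0, Int.ofNat 0],
  [Int.ofNat 0, Int.ofNat 0, Int.ofNat 0, Int.ofNat 0, Int.negSucc 1, Int.ofNat 0, Int.ofNat 0, Int.ofNat 0, Int.ofNat 0, Int.negSucc 1, Int.negSucc 1, Int.ofNat 0, Int.ofNat 0, Int.negSucc 1, Int.ofNat 0, Int.negSucc 1, Int.negSucc 1, Int.ofNat 0, Int.ofNat 0, Int.ofNat 0, Int.ofNat 2, Int.ofNat 0, Int.ofNat 2, Int.ofNat 0],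
  [Int.ofNat 0, Int.ofNat 0, Int.ofNat 0, Int.ofNat 0, Int.ofNat 0, Int.ofNat 0, Int.ofNat 0, Int.ofNat 0, Int.ofNat 0, Int.ofNat 0, Int.ofNat 0, Int.ofNat 0, Int.ofNat 0, Int.ofNat 0, Int.ofNat 0, Int.ofNat 0, Int.ofNat 0, Int.ofNat 0, Int.ofNat 0, Int.ofNat 0, Int.ofNat 4, Int.ofNat 0, Int.ofNat 4, Int.ofNat 0],
  [Int.ofNat 4, Int.ofNat 0, Int.ofNat 4, Int.ofNat 0, Int.ofNat 0, Int.ofNat 0, Int.ofNat 0, Int.ofNat 0, Int.ofNat 0, Int.ofNat 0, Int.ofNat 0, Int.ofNat 0, Int.ofNat 0, Int.ofNat 0, Int.ofNat 0, Int.ofNat 0, Int.ofNat 0, Int.ofNat 0, Int.ofNat 0, Int.ofNat 0, Int.ofNat 0, Int.ofNat 0, Int.ofNat 0, Int.ofNat 0],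
  [Int.ofNat 0, Int.ofNat 4, Int.ofNat 0, Int.ofNat 0, Int.ofNat 0, Int.ofNat 0, Int.ofNat 0, Int.ofNat 0, Int.ofNat 0, Int.ofNat 0, Int.ofNat 0, Int.ofNat 0, Int.ofNat 0, Int.ofNat 0, Int.ofNat 0, Int.ofNat 0, Int.ofNat 0, Int.ofNat 0, Int.ofNat 0, Int.ofNat 0, Int.ofNat 0, Int.ofNat 0, Int.ofNat 0, Int.ofNat 4],
  [Int.ofNat 4, Int.ofNat 0, Int.ofNat 0, Int.ofNat 0, Int.ofNat 0, Int.ofNat 0, Int.ofNat 0, Int.ofNat 0, Int.ofNat 0, Int.ofNat 0, Int.ofNat 0, Int.ofNat 0, Int.ofNat 0, Int.ofNat 0, Int.ofNat 0, Int.ofNat 0, Int.ofNat 0, Int.ofNat 0, Int.ofNat 0, Int.ofNat 0, Int.ofNat 0, Int.ofNat 0, Int.ofNat 0, Int.ofNat 4],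
  [Int.negSucc 3, Int.ofNat 0, Int.ofNat 0, Int.ofNat 0, Int.ofNat 0, Int.ofNat 0, Int.ofNat 0, Int.ofNat 0, Int.ofNat 0, Int.ofNat 0, Int.ofNat 0, Int.ofNat 0, Int.ofNat 0, Int.ofNat 0, Int.ofNat 0, Int.ofNat 0, Int.ofNat 0, Int.ofNat 0, Int.ofNat 0, Int.ofNat 0, Int.ofNat 0, Int.ofNat 0, Int.ofNat 0, Int.ofNat 4],
  [Int.ofNat 4, Int.ofNat 0, Int.ofNat 0, Int.ofNat 0, Int.ofNat 0, Int.ofNat 0, Int.ofNat 0, Int.ofNat 0, Int.ofNat 0, Int.ofNat 0, Int.ofNat 0, Int.ofNat 0, Int.ofNat 0, Int.ofNat 0, Int.ofNat 0, Int.ofNat 0, Int.ofNat 0, Int.ofNat 0, Int.ofNat 0, Int.ofNat 0, Int.ofNat 0, Int.ofNat 0, Int.ofNat 0, Int.ofNat 4],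
  [Int.ofNat 4, Int.ofNat 0, Int.ofNat 0, Int.ofNat 0, Int.ofNat 0, Int.ofNat 0, Int.ofNat 0, Int.ofNat 0, Int.ofNat 0, Int.ofNat 0, Int.ofNat 0, Int.ofNat 0, Int.ofNat 0, Int.ofNat 0, Int.ofNat 0, Int.ofNat 0, Int.ofNat 0, Int.ofNat 0, Int.ofNat 0, Int.ofNat 0, Int.ofNat 0, Int.ofNat 0, Int.ofNat 0, Int.ofNat 4],
  [Int.negSucc 3, Int.ofNat 0, Int.ofNat 0, Int.ofNat 0, Int.ofNat 0, Int.ofNat 0, Int.ofNat 0, Int.ofNat 0, Int.ofNat 0, Int.ofNat 0, Int.ofNat 0, Int.ofNat 0, Int.ofNat 0, Int.ofNat 0, Int.ofNat 0, Int.ofNat 0, Int.ofNat 0, Int.ofNat 0, Int.ofNat 0, Int.ofNat 0, Int.ofNat 0, Int.ofNat 0, Int.ofNat 0, Int.ofNat 4],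
  [Int.ofNat 0, Int.negSucc 3, Int.ofNat 0, Int.ofNat 0, Int.ofNat 0, Int.ofNat 0, Int.ofNat 0, Int.ofNat 0, Int.ofNat 0, Int.ofNat 0, Int.ofNat 0, Int.ofNat 0, Int.ofNat 0, Int.ofNat 0, Int.ofNat 0, Int.ofNat 0, Int.ofNat 0, Int.ofNat 0, Int.ofNat 0, Int.ofNat 0, Int.ofNat 0, Int.ofNat 0, Int.ofNat 0, Int.ofNat 4],
  [Int.ofNat 0, Int.ofNat 4, Int.ofNat 0, Int.ofNat 0, Int.ofNat 0, Int.ofNat 0, Int.ofNat 0, Int.ofNat 0, Int.ofNat 0, Int.ofNat 0, Int.ofNat 0, Int.ofNat 0, Int.ofNat 0, Int.ofNat 0, Int.ofNat 0, Int.ofNat 0, Int.ofNat 0, Int.ofNat 0, Int.ofNat 0, Int.ofNat 0, Int.ofNat 0, Int.ofNat 0, Int.ofNat 0, Int.negSucc 3],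
  [Int.ofNat 0, Int.ofNat 0, Int.ofNat 0, Int.ofNat 0, Int.ofNat 0, Int.ofNat 0, Int.ofNat 0, Int.ofNat 0, Int.ofNat 0, Int.ofNat 0, Int.ofNat 0, Int.ofNat 0, Int.ofNat 0, Int.ofNat 0, Int.ofNat 0, Int.ofNat 0, Int.ofNat 0, Int.ofNat 0, Int.ofNat 0, Int.ofNat 0, Int.ofNat 0, Int.ofNat 4, Int.ofNat 0, Int.negSucc 3],
  [Int.negSucc 1, Int.negSucc 1, Int.negSucc 1, Int.ofNat 0, Int.ofNat 0, Int.ofNat 0, Int.negSucc 1, Int.negSucc 1, Int.ofNat 0, Int.ofNat 0, Int.ofNat 0, Int.ofNat 0, Int.ofNat 0, Int.ofNat 0, Int.ofNat 0, Int.ofNat 0, Int.ofNat 0, Int.ofNat 0, Int.ofNat 0, Int.negSucc 1, Int.ofNat 0, Int.ofNat 2, Int.ofNat 0, Int.ofNat 2],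
  [Int.negSucc 1, Int.negSucc 1, Int.ofNat 0, Int.ofNat 0, Int.ofNat 0, Int.negSucc 1, Int.negSucc 1, Int.ofNat 0, Int.ofNat 0, Int.ofNat 0, Int.ofNat 0, Int.ofNat 0, Int.ofNat 0, Int.ofNat 0, Int.ofNat 0, Int.ofNat 0, Int.ofNat 0, Int.ofNat 0, Int.negSucc 1, Int.ofNat 0, Int.ofNat 2, Int.ofNat 0, Int.negSucc 1, Int.ofNat 2],
  [Int.ofNat 1, Int.ofNat 1, Int.negSucc 0, Int.ofNat 1, Int.ofNat 1, Int.negSucc 0, Int.negSucc 0, Int.ofNat 1, Int.ofNat 1, Int.negSucc 0, Int.negSucc 0, Int.ofNat 1, Int.ofNat 1, Int.ofNat 1, Int.ofNat 1, Int.negSucc 0, Int.ofNat 1, Int.ofNat 1, Int.negSucc 0, Int.ofNat 1, Int.ofNat 1, Int.ofNat 1, Int.negSucc 0, Int.negSucc 2],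
  [Int.ofNat 1, Int.ofNat 1, Int.ofNat 1, Int.ofNat 1, Int.ofNat 1, Int.ofNat 1, Int.ofNat 1, Int.ofNat 1, Int.ofNat 1, Int.ofNat 1, Int.ofNat 1, Int.ofNat 1, Int.ofNat 1, Int.ofNat 1, Int.ofNat 1, Int.ofNat 1, Int.ofNat 1, Int.ofNat 1, Int.ofNat 1, Int.ofNat 1, Int.ofNat 1, Int.ofNat 1, Int.ofNat 1, Int.negSucc 2],
  [Int.ofNat 1, Int.ofNat 1, Int.ofNat 1, Int.ofNat 1, Int.ofNat 1, Int.ofNat 1, Int.ofNat 1, Int.ofNat 1, Int.ofNat 1, Int.ofNat 1, Int.ofNat 1, Int.ofNat 1, Int.ofNat 1, Int.ofNat 1, Int.ofNat 1, Int.ofNat 1, Int.ofNat 1, Int.ofNat 1, Int.ofNat 1, Int.ofNat 1, Int.ofNat 1, Int.ofNat 1, Int.ofNat 1, Int.negSucc 2],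
  [Int.negSucc 2, Int.ofNat 1, Int.ofNat 1, Int.ofNat 1, Int.ofNat 1, Int.ofNat 1, Int.ofNat 1, Int.ofNat 1, Int.ofNat 1, Int.ofNat 1, Int.ofNat 1, Int.ofNat 1, Int.ofNat 1, Int.ofNat 1, Int.ofNat 1, Int.ofNat 1, Int.ofNat 1, Int.ofNat 1, Int.ofNat 1, Int.ofNat 1, Int.ofNat 1, Int.ofNat 1, Int.ofNat 1, Int.ofNat 1],
  [Int.ofNat 3, Int.ofNat 1, Int.negSucc 0, Int.ofNat 1, Int.ofNat 1, Int.ofNat 1, Int.ofNat 1, Int.negSucc 0, Int.ofNat 1, Int.negSucc 0, Int.negSucc 0, Int.negSucc 0, Int.ofNat 1, Int.ofNat 1, Int.ofNat 1, Int.ofNat 1, Int.ofNat 1, Int.ofNat 1, Int.negSucc 0, Int.ofNat 1, Int.ofNat 1, Int.negSucc 0, Int.ofNat 1, Int.ofNat 1],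
  [Int.ofNat 1, Int.ofNat 3, Int.ofNat 1, Int.negSucc 0, Int.ofNat 1, Int.ofNat 1, Int.ofNat 1, Int.ofNat 1, Int.negSucc 0, Int.ofNat 1, Int.negSucc 0, Int.negSucc 0, Int.negSucc 0, Int.ofNat 1, Int.ofNat 1, Int.ofNat 1, Int.ofNat 1, Int.ofNat 1, Int.ofNat 1, Int.negSucc 0, Int.ofNat 1, Int.ofNat 1, Int.negSucc 0, Int.ofNat 1],
  [Int.ofNat 2, Int.ofNat 0, Int.ofNat 2, Int.negSucc 1, Int.ofNat 0, Int.ofNat 0, Int.ofNat 0, Int.ofNat 0, Int.ofNat 0, Int.ofNat 0, Int.negSucc 1, Int.ofNat 0, Int.ofNat 0, Int.ofNat 0, Int.ofNat 0, Int.ofNat 0, Int.ofNat 0, Int.ofNat 0, Int.ofNat 2, Int.negSucc 1, Int.ofNat 0, Int.ofNat 0, Int.negSucc 1, Int.ofNat 2],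
  [Int.negSucc 1, Int.ofNat 0, Int.ofNat 0, Int.ofNat 0, Int.ofNat 0, Int.ofNat 0, Int.ofNat 0, Int.negSucc 1, Int.ofNat 0, Int.ofNat 0, Int.ofNat 0, Int.ofNat 0, Int.ofNat 0, Int.ofNat 0, Int.ofNat 0, Int.ofNat 2, Int.negSucc 1, Int.ofNat 0, Int.ofNat 0, Int.negSucc 1, Int.ofNat 2, Int.ofNat 0, Int.ofNat 2, Int.ofNat 2],
  [Int.ofNat 2, Int.ofNat 0, Int.ofNat 0, Int.ofNat 0, Int.ofNat 0, Int.ofNat 0, Int.ofNat 2, Int.ofNat 0, Int.ofNat 0, Int.negSucc 1, Int.negSucc 1, Int.ofNat 0, Int.ofNat 0, Int.ofNat 0, Int.ofNat 0, Int.ofNat 0, Int.negSucc 1, Int.ofNat 0, Int.ofNat 0, Int.ofNat 0, Int.ofNat 0, Int.ofNat 2, Int.ofNat 2, Int.negSucc 1],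
  [Int.ofNat 2, Int.ofNat 2, Int.ofNat 0, Int.ofNat 0, Int.ofNat 0, Int.ofNat 0, Int.ofNat 0, Int.negSucc 1, Int.ofNat 0, Int.ofNat 0, Int.ofNat 0, Int.ofNat 0, Int.negSucc 1, Int.negSucc 1, Int.ofNat 2, Int.ofNat 0, Int.ofNat 0, Int.ofNat 0, Int.ofNat 0, Int.ofNat 0, Int.ofNat 2, Int.ofNat 0, Int.ofNat 0, Int.negSucc 1],
  [Int.negSucc 0, Int.negSucc 0, Int.ofNat 1, Int.negSucc 0, Int.ofNat 1, Int.negSucc 0, Int.ofNat 1, Int.negSucc 0, Int.ofNat 1, Int.negSucc 0, Int.negSucc 0, Int.ofNat 1, Int.negSucc 0, Int.negSucc 0, Int.ofNat 1, Int.negSucc 0, Int.ofNat 1, Int.negSucc 0, Int.ofNat 1, Int.ofNat 1, Int.ofNat 1, Int.ofNat 1, Int.ofNat 1, Int.ofNat 3],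
  [Int.negSucc 0, Int.negSucc 0, Int.negSucc 0, Int.negSucc 0, Int.ofNat 1, Int.ofNat 1, Int.negSucc 0, Int.negSucc 0, Int.ofNat 1, Int.ofNat 1, Int.ofNat 1, Int.ofNat 1, Int.negSucc 0, Int.negSucc 0, Int.ofNat 1, Int.ofNat 1, Int.ofNat 1, Int.negSucc 0, Int.negSucc 0, Int.ofNat 1, Int.ofNat 1, Int.ofNat 1, Int.negSucc 0, Int.ofNat 3],
  [Int.negSucc 0, Int.ofNat 1, Int.negSucc 0, Int.ofNat 1, Int.ofNat 1, Int.ofNat 1, Int.ofNat 1, Int.ofNat 1, Int.negSucc 0, Int.ofNat 1, Int.ofNat 1, Int.negSucc 0, Int.ofNat 1, Int.negSucc 0, Int.negSucc 0, Int.negSucc 0, Int.negSucc 0, Int.ofNat 1, Int.negSucc 0, Int.negSucc 0, Int.ofNat 1, Int.ofNat 1, Int.negSucc 0, Int.ofNat 3],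
  [Int.negSucc 0, Int.ofNat 1, Int.ofNat 1, Int.ofNat 1, Int.ofNat 1, Int.negSucc 0, Int.negSucc 0, Int.ofNat 1, Int.negSucc 0, Int.negSucc 0, Int.negSucc 0, Int.negSucc 0, Int.ofNat 1, Int.negSucc 0, Int.negSucc 0, Int.ofNat 1, Int.negSucc 0, Int.ofNat 1, Int.ofNat 1, Int.negSucc 0, Int.ofNat 1, Int.ofNat 1, Int.ofNat 1, Int.ofNat 3],
  [Int.ofNat 3, Int.ofNat 1, Int.ofNat 1, Int.ofNat 1, Int.ofNat 1, Int.negSucc 0, Int.negSucc 0, Int.ofNat 1, Int.negSucc 0, Int.negSucc 0, Int.negSucc 0, Int.negSucc 0, Int.ofNat 1, Int.negSucc 0, Int.negSucc 0, Int.ofNat 1, Int.negSucc 0, Int.ofNat 1, Int.ofNat 1, Int.negSucc 0, Int.ofNat 1, Int.ofNat 1, Int.ofNat 1, Int.negSucc 0],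
  [Int.ofNat 3, Int.ofNat 1, Int.negSucc 0, Int.ofNat 1, Int.ofNat 1, Int.ofNat 1, Int.ofNat 1, Int.negSucc 0, Int.negSucc 0, Int.ofNat 1, Int.ofNat 1, Int.negSucc 0, Int.negSucc 0, Int.negSucc 0, Int.ofNat 1, Int.ofNat 1, Int.negSucc 0, Int.negSucc 0, Int.ofNat 1, Int.ofNat 1, Int.negSucc 0, Int.ofNat 1, Int.negSucc 0, Int.negSucc 0],
  [Int.negSucc 1, Int.ofNat 0, Int.ofNat 2, Int.ofNat 0, Int.ofNat 2, Int.ofNat 0, Int.ofNat 0, Int.negSucc 1, Int.ofNat 0, Int.ofNat 0, Int.ofNat 0, Int.ofNat 0, Int.ofNat 0, Int.ofNat 0, Int.ofNat 0, Int.ofNat 0, Int.ofNat 0, Int.negSucc 1, Int.ofNat 2, Int.ofNat 0, Int.negSucc 1, Int.ofNat 0, Int.ofNat 0, Int.ofNat 2],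
  [Int.negSucc 1, Int.ofNat 0, Int.ofNat 0, Int.negSucc 1, Int.ofNat 0, Int.ofNat 2, Int.ofNat 0, Int.ofNat 2, Int.ofNat 0, Int.ofNat 0, Int.negSucc 1, Int.ofNat 0, Int.ofNat 0, Int.ofNat 0, Int.ofNat 0, Int.ofNat 0, Int.ofNat 0, Int.ofNat 0, Int.ofNat 0, Int.ofNat 0, Int.negSucc 1, Int.ofNat 2, Int.ofNat 0, Int.ofNat 2],
  [Int.ofNat 2, Int.ofNat 0, Int.ofNat 0, Int.negSucc 1, Int.ofNat 0, Int.ofNat 2, Int.negSucc 1, Int.ofNat 0, Int.ofNat 0, Int.ofNat 2, Int.ofNat 0, Int.ofNat 0, Int.ofNat 0, Int.ofNat 0, Int.ofNat 0, Int.ofNat 2, Int.ofNat 0, Int.ofNat 0, Int.ofNat 0, Int.negSucc 1, Int.ofNat 0, Int.ofNat 0, Int.ofNat 0, Int.negSucc 1],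
  [Int.ofNat 0, Int.ofNat 0, Int.negSucc 1, Int.ofNat 0, Int.ofNat 2, Int.negSucc 1, Int.ofNat 0, Int.ofNat 0, Int.ofNat 2, Int.ofNat 0, Int.ofNat 0, Int.ofNat 0, Int.ofNat 0, Int.ofNat 0, Int.ofNat 2, Int.ofNat 0, Int.ofNat 0, Int.ofNat 0, Int.negSucc 1, Int.ofNat 0, Int.ofNat 0, Int.ofNat 0, Int.ofNat 2, Int.negSucc 1],
  [Int.ofNat 0, Int.ofNat 0, Int.ofNat 2, Int.ofNat 0, Int.ofNat 2, Int.negSucc 1, Int.ofNat 0, Int.ofNat 0, Int.ofNat 2, Int.ofNat 0, Int.ofNat 0, Int.ofNat 0, Int.ofNat 0, Int.ofNat 0, Int.ofNat 2, Int.ofNat 0, Int.ofNat 0, Int.ofNat 0, Int.ofNat 2, Int.ofNat 0, Int.ofNat 0, Int.ofNat 0, Int.ofNat 2, Int.negSucc 1],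
  [Int.ofNat 0, Int.ofNat 0, Int.negSucc 1, Int.ofNat 0, Int.negSucc 1, Int.negSucc 1, Int.ofNat 0, Int.ofNat 0, Int.negSucc 1, Int.ofNat 0, Int.ofNat 0, Int.ofNat 0, Int.ofNat 0, Int.ofNat 0, Int.ofNat 2, Int.ofNat 0, Int.ofNat 0, Int.ofNat 0, Int.negSucc 1, Int.ofNat 0, Int.ofNat 0, Int.ofNat 0, Int.ofNat 2, Int.negSucc 1],
  [Int.ofNat 0, Int.negSucc 1, Int.negSucc 1, Int.ofNat 0, Int.ofNat 0, Int.ofNat 0, Int.negSucc 1, Int.ofNat 0, Int.ofNat 0, Int.ofNat 0, Int.ofNat 0, Int.ofNat 2, Int.ofNat 0, Int.negSucc 1, Int.ofNat 0, Int.ofNat 0, Int.ofNat 0, Int.ofNat 2, Int.ofNat 0, Int.ofNat 0, Int.negSucc 1, Int.ofNat 0, Int.ofNat 0, Int.negSucc 1],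
  [Int.ofNat 0, Int.negSucc 1, Int.ofNat 2, Int.ofNat 0, Int.ofNat 0, Int.ofNat 0, Int.negSucc 1, Int.ofNat 0, Int.ofNat 0, Int.ofNat 0, Int.ofNat 0, Int.negSucc 1, Int.ofNat 0, Int.negSucc 1, Int.ofNat 0, Int.ofNat 0, Int.ofNat 0, Int.ofNat 2, Int.ofNat 0, Int.ofNat 0, Int.negSucc 1, Int.ofNat 0, Int.ofNat 0, Int.negSucc 1],
  [Int.ofNat 0, Int.ofNat 0, Int.negSucc 1, Int.ofNat 2, Int.ofNat 0, Int.ofNat 0, Int.ofNat 0, Int.negSucc 1, Int.ofNat 0, Int.ofNat 0, Int.ofNat 0, Int.ofNat 0, Int.negSucc 1, Int.ofNat 0, Int.negSucc 1, Int.ofNat 0, Int.ofNat 0, Int.ofNat 0, Int.ofNat 2, Int.ofNat 0, Int.ofNat 0, Int.negSucc 1, Int.ofNat 0, Int.negSucc 1],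
  [Int.negSucc 1, Int.negSucc 1, Int.ofNat 0, Int.ofNat 2, Int.ofNat 0, Int.ofNat 0, Int.ofNat 2, Int.ofNat 0, Int.ofNat 0, Int.ofNat 0, Int.ofNat 0, Int.ofNat 0, Int.negSucc 1, Int.ofNat 0, Int.negSucc 1, Int.ofNat 0, Int.ofNat 0, Int.ofNat 0, Int.ofNat 2, Int.ofNat 2, Int.ofNat 0, Int.ofNat 0, Int.ofNat 0, Int.ofNat 0],
  [Int.ofNat 2, Int.ofNat 0, Int.ofNat 0, Int.ofNat 2, Int.ofNat 0, Int.ofNat 0, Int.ofNat 0, Int.ofNat 0, Int.ofNat 0, Int.negSucc 1, Int.ofNat 0, Int.negSucc 1, Int.ofNat 0, Int.ofNat 0, Int.ofNat 0, Int.ofNat 2, Int.ofNat 2, Int.ofNat 0, Int.ofNat 0, Int.ofNat 0, Int.negSucc 1, Int.negSucc 1, Int.ofNat 0, Int.ofNat 0],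
  [Int.negSucc 0, Int.ofNat 1, Int.ofNat 1, Int.ofNat 1, Int.negSucc 0, Int.negSucc 0, Int.ofNat 1, Int.ofNat 1, Int.ofNat 1, Int.negSucc 0, Int.ofNat 1, Int.negSucc 0, Int.ofNat 1, Int.negSucc 0, Int.negSucc 0, Int.ofNat 3, Int.ofNat 1, Int.negSucc 0, Int.ofNat 1, Int.ofNat 1, Int.negSucc 0, Int.negSucc 0, Int.negSucc 0, Int.ofNat 1],
  [Int.negSucc 0, Int.ofNat 1, Int.negSucc 0, Int.ofNat 1, Int.ofNat 1, Int.ofNat 1, Int.ofNat 1, Int.ofNat 1, Int.ofNat 1, Int.negSucc 0, Int.negSucc 0, Int.negSucc 0, Int.negSucc 0, Int.ofNat 1, Int.negSucc 0, Int.ofNat 3, Int.ofNat 1, Int.negSucc 0, Int.ofNat 1, Int.negSucc 0, Int.negSucc 0, Int.negSucc 0, Int.ofNat 1, Int.ofNat 1],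
  [Int.ofNat 1, Int.negSucc 0, Int.ofNat 1, Int.ofNat 1, Int.negSucc 0, Int.ofNat 1, Int.ofNat 1, Int.ofNat 1, Int.ofNat 1, Int.negSucc 0, Int.negSucc 0, Int.negSucc 0, Int.negSucc 0, Int.negSucc 0, Int.negSucc 0, Int.ofNat 3, Int.negSucc 0, Int.negSucc 0, Int.ofNat 1, Int.negSucc 0, Int.negSucc 0, Int.negSucc 0, Int.negSucc 0, Int.negSucc 0],
  [Int.ofNat 1, Int.negSucc 0, Int.negSucc 0, Int.ofNat 1, Int.negSucc 0, Int.negSucc 0, Int.negSucc 0, Int.ofNat 1, Int.ofNat 1, Int.ofNat 1, Int.ofNat 1, Int.negSucc 0, Int.negSucc 0, Int.negSucc 0, Int.negSucc 0, Int.negSucc 2, Int.negSucc 0, Int.negSucc 0, Int.negSucc 0, Int.negSucc 0, Int.negSucc 0, Int.negSucc 0, Int.ofNat 1, Int.negSucc 0],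
  [Int.ofNat 1, Int.negSucc 0, Int.negSucc 0, Int.ofNat 1, Int.negSucc 0, Int.negSucc 0, Int.negSucc 0, Int.ofNat 1, Int.negSucc 0, Int.negSucc 0, Int.negSucc 0, Int.ofNat 1, Int.negSucc 2, Int.negSucc 0, Int.negSucc 0, Int.negSucc 0, Int.negSucc 0, Int.negSucc 0, Int.ofNat 1, Int.negSucc 0, Int.ofNat 1, Int.negSucc 0, Int.ofNat 1, Int.negSucc 0],
  [Int.negSucc 0, Int.ofNat 1, Int.ofNat 1, Int.negSucc 0, Int.negSucc 0, Int.negSucc 0, Int.negSucc 0, Int.negSucc 0, Int.ofNat 1, Int.negSucc 0, Int.negSucc 0, Int.negSucc 0, Int.negSucc 0, Int.ofNat 1, Int.ofNat 1, Int.ofNat 1, Int.negSucc 0, Int.negSucc 0, Int.negSucc 0, Int.negSucc 0, Int.negSucc 0, Int.negSucc 2, Int.negSucc 0, Int.ofNat 1],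
  [Int.ofNat 1, Int.ofNat 1, Int.negSucc 0, Int.negSucc 0, Int.negSucc 0, Int.negSucc 0, Int.negSucc 0, Int.ofNat 1, Int.ofNat 1, Int.ofNat 1, Int.ofNat 1, Int.ofNat 1, Int.negSucc 0, Int.ofNat 1, Int.ofNat 1, Int.ofNat 1, Int.negSucc 0, Int.negSucc 0, Int.ofNat 1, Int.negSucc 0, Int.negSucc 0, Int.ofNat 3, Int.negSucc 0, Int.ofNat 1],
  [Int.negSucc 0, Int.ofNat 1, Int.ofNat 1, Int.negSucc 0, Int.negSucc 0, Int.negSucc 0, Int.negSucc 0, Int.negSucc 0, Int.ofNat 1, Int.ofNat 1, Int.ofNat 1, Int.ofNat 1, Int.ofNat 1, Int.negSucc 0, Int.ofNat 1, Int.ofNat 1, Int.ofNat 1, Int.negSucc 0, Int.negSucc 0, Int.ofNat 1, Int.negSucc 0, Int.negSucc 0, Int.ofNat 3, Int.ofNat 1],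
  [Int.ofNat 2, Int.ofNat 0, Int.ofNat 0, Int.ofNat 0, Int.negSucc 1, Int.ofNat 0, Int.ofNat 0, Int.ofNat 0, Int.ofNat 0, Int.ofNat 0, Int.ofNat 0, Int.ofNat 0, Int.ofNat 0, Int.negSucc 1, Int.ofNat 2, Int.ofNat 0, Int.ofNat 0, Int.ofNat 0, Int.negSucc 1, Int.ofNat 2, Int.negSucc 1, Int.ofNat 0, Int.ofNat 2, Int.ofNat 0],
  [Int.ofNat 0, Int.negSucc 1, Int.ofNat 0, Int.ofNat 0, Int.ofNat 0, Int.ofNat 0, Int.ofNat 0, Int.ofNat 0, Int.ofNat 0, Int.ofNat 0, Int.negSucc 1, Int.ofNat 2, Int.ofNat 0, Int.ofNat 0, Int.ofNat 0, Int.negSucc 1, Int.ofNat 2, Int.negSucc 1, Int.ofNat 0, Int.ofNat 2, Int.ofNat 2, Int.ofNat 0, Int.ofNat 0, Int.ofNat 0],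
  [Int.negSucc 0, Int.ofNat 1, Int.negSucc 0, Int.ofNat 1, Int.negSucc 0, Int.ofNat 1, Int.negSucc 0, Int.negSucc 0, Int.negSucc 0, Int.ofNat 1, Int.negSucc 0, Int.ofNat 1, Int.negSucc 0, Int.negSucc 0, Int.ofNat 1, Int.negSucc 0, Int.ofNat 1, Int.negSucc 0, Int.negSucc 0, Int.ofNat 1, Int.ofNat 3, Int.negSucc 0, Int.negSucc 0, Int.negSucc 0],
  [Int.negSucc 0, Int.negSucc 0, Int.negSucc 0, Int.ofNat 1, Int.negSucc 0, Int.negSucc 0, Int.negSucc 0, Int.negSucc 0, Int.negSucc 0, Int.negSucc 0, Int.ofNat 3, Int.negSucc 0, Int.ofNat 1, Int.ofNat 1, Int.negSucc 0, Int.negSucc 0, Int.negSucc 0, Int.ofNat 1, Int.ofNat 1, Int.ofNat 1, Int.negSucc 0, Int.ofNat 1, Int.ofNat 1, Int.negSucc 0],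
  [Int.negSucc 0, Int.negSucc 0, Int.negSucc 0, Int.ofNat 1, Int.negSucc 0, Int.negSucc 0, Int.negSucc 0, Int.negSucc 0, Int.negSucc 0, Int.negSucc 0, Int.ofNat 3, Int.negSucc 0, Int.ofNat 1, Int.ofNat 1, Int.negSucc 0, Int.negSucc 0, Int.negSucc 0, Int.ofNat 1, Int.ofNat 1, Int.ofNat 1, Int.negSucc 0, Int.ofNat 1, Int.ofNat 1, Int.negSucc 0],
  [Int.negSucc 0, Int.negSucc 0, Int.ofNat 1, Int.ofNat 1, Int.negSucc 0, Int.ofNat 1, Int.ofNat 1, Int.negSucc 0, Int.negSucc 0, Int.ofNat 1, Int.negSucc 2, Int.negSucc 0, Int.ofNat 1, Int.ofNat 1, Int.negSucc 0, Int.ofNat 1, Int.negSucc 0, Int.ofNat 1, Int.negSucc 0, Int.ofNat 1, Int.negSucc 0, Int.ofNat 1, Int.negSucc 0, Int.negSucc 0],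
  [Int.negSucc 0, Int.ofNat 1, Int.ofNat 1, Int.negSucc 0, Int.ofNat 1, Int.negSucc 0, Int.negSucc 2, Int.ofNat 1, Int.negSucc 0, Int.negSucc 0, Int.ofNat 1, Int.negSucc 0, Int.ofNat 1, Int.ofNat 1, Int.negSucc 0, Int.ofNat 1, Int.ofNat 1, Int.negSucc 0, Int.ofNat 1, Int.negSucc 0, Int.negSucc 0, Int.negSucc 0, Int.ofNat 1, Int.negSucc 0],
  [Int.negSucc 0, Int.ofNat 1, Int.negSucc 0, Int.negSucc 0, Int.ofNat 1, Int.ofNat 1, Int.ofNat 3, Int.ofNat 1, Int.negSucc 0, Int.ofNat 1, Int.negSucc 0, Int.negSucc 0, Int.ofNat 1, Int.ofNat 1, Int.negSucc 0, Int.negSucc 0, Int.ofNat 1, Int.negSucc 0, Int.negSucc 0, Int.negSucc 0, Int.negSucc 0, Int.negSucc 0, Int.negSucc 0, Int.negSucc 0],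
  [Int.ofNat 0, Int.negSucc 1, Int.ofNat 0, Int.ofNat 0, Int.ofNat 0, Int.ofNat 2, Int.ofNat 2, Int.ofNat 0, Int.ofNat 0, Int.ofNat 2, Int.ofNat 0, Int.ofNat 0, Int.ofNat 2, Int.ofNat 0, Int.ofNat 0, Int.ofNat 0, Int.ofNat 0, Int.ofNat 0, Int.ofNat 0, Int.negSucc 1, Int.ofNat 0, Int.negSucc 1, Int.negSucc 1, Int.ofNat 0],
  [Int.ofNat 0, Int.ofNat 0, Int.ofNat 2, Int.ofNat 0, Int.ofNat 0, Int.negSucc 1, Int.negSucc 1, Int.ofNat 2, Int.ofNat 0, Int.ofNat 2, Int.ofNat 0, Int.negSucc 1, Int.ofNat 0, Int.ofNat 2, Int.ofNat 0, Int.ofNat 0, Int.ofNat 0, Int.ofNat 0, Int.ofNat 0, Int.negSucc 1, Int.ofNat 0, Int.ofNat 0, Int.ofNat 0, Int.ofNat 0],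
  [Int.ofNat 1, Int.ofNat 1, Int.negSucc 0, Int.ofNat 1, Int.negSucc 0, Int.negSucc 0, Int.negSucc 0, Int.ofNat 3, Int.ofNat 1, Int.ofNat 1, Int.negSucc 0, Int.negSucc 0, Int.ofNat 1, Int.ofNat 1, Int.ofNat 1, Int.negSucc 0, Int.negSucc 0, Int.ofNat 1, Int.ofNat 1, Int.negSucc 0, Int.negSucc 0, Int.ofNat 1, Int.negSucc 0, Int.ofNat 1],
  [Int.negSucc 0, Int.ofNat 1, Int.negSucc 0, Int.ofNat 1, Int.ofNat 1, Int.negSucc 0, Int.ofNat 1, Int.negSucc 0, Int.negSucc 0, Int.negSucc 0, Int.ofNat 3, Int.ofNat 1, Int.ofNat 1, Int.negSucc 0, Int.negSucc 0, Int.ofNat 1, Int.ofNat 1, Int.ofNat 1, Int.negSucc 0, Int.negSucc 0, Int.ofNat 1, Int.ofNat 1, Int.negSucc 0, Int.ofNat 1],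
  [Int.ofNat 1, Int.negSucc 0, Int.ofNat 1, Int.ofNat 1, Int.ofNat 1, Int.negSucc 0, Int.ofNat 1, Int.negSucc 0, Int.negSucc 0, Int.negSucc 2, Int.ofNat 1, Int.ofNat 1, Int.ofNat 1, Int.negSucc 0, Int.negSucc 0, Int.negSucc 0, Int.ofNat 1, Int.ofNat 1, Int.negSucc 0, Int.negSucc 0, Int.negSucc 0, Int.ofNat 1, Int.negSucc 0, Int.negSucc 0],
  [Int.negSucc 0, Int.ofNat 1, Int.ofNat 1, Int.ofNat 1, Int.negSucc 0, Int.ofNat 1, Int.negSucc 0, Int.negSucc 0, Int.negSucc 2, Int.ofNat 1, Int.ofNat 1, Int.ofNat 1, Int.negSucc 0, Int.negSucc 0, Int.negSucc 0, Int.ofNat 1, Int.ofNat 1, Int.negSucc 0, Int.negSucc 0, Int.negSucc 0, Int.ofNat 1, Int.negSucc 0, Int.ofNat 1, Int.negSucc 0],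
  [Int.ofNat 1, Int.ofNat 1, Int.negSucc 0, Int.ofNat 1, Int.negSucc 0, Int.ofNat 1, Int.negSucc 0, Int.ofNat 1, Int.negSucc 2, Int.negSucc 0, Int.negSucc 0, Int.negSucc 0, Int.negSucc 0, Int.negSucc 0, Int.negSucc 0, Int.ofNat 1, Int.ofNat 1, Int.negSucc 0, Int.ofNat 1, Int.negSucc 0, Int.ofNat 1, Int.ofNat 1, Int.ofNat 1, Int.negSucc 0]]

set_option maxRecDepth 100000 in
theorem c1te10_chk : pmChk (List.replicate 14 [10, 0, 26, 25]).flatten nxL c1te10M 0 0 = true := by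
  decide +kernel

theorem c1te10_ne : wE letE2 (List.replicate 14 [10, 0, 26, 25]).flatten ≠ 1 ∧ wE letE2 (List.replicate 14 [10, 0, 26, 25]).flatten ≠ negElt :=
  ne_pm_of_chk nxL_mem c1te10_chk

set_option maxRecDepth 100000 in
def c1te11M : List (List ℤ) :=
  [[Int.ofNat 4, Int.ofNat 0, Int.ofNat 0, Int.ofNat 0, Int.ofNat 0, Int.ofNat 0, Int.ofNat 0, Int.ofNat 0, Int.ofNat 0, Int.ofNat 0, Int.ofNat 0, Int.ofNat 0, Int.ofNat 0, Int.ofNat 0, Int.ofNat 0, Int.ofNat 0, Int.ofNat 0, Int.ofNat 0, Int.ofNat 0, Int.ofNat 0, Int.ofNat 0, Int.ofNat 0, Int.ofNat 0, Int.ofNat 4],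
  [Int.ofNat 4, Int.ofNat 0, Int.ofNat 0, Int.ofNat 0, Int.ofNat 0, Int.ofNat 0, Int.ofNat 0, Int.ofNat 0, Int.ofNat 0, Int.ofNat 0, Int.ofNat 0, Int.ofNat 0, Int.ofNat 0, Int.ofNat 0, Int.ofNat 0, Int.ofNat 0, Int.ofNat 0, Int.ofNat 0, Int.ofNat 0, Int.ofNat 0, Int.ofNat 0, Int.ofNat 0, Int.ofNat 0, Int.ofNat 4],
  [Int.negSucc 3, Int.ofNat 0, Int.ofNat 0, Int.ofNat 0, Int.ofNat 0, Int.ofNat 0, Int.ofNat 0, Int.ofNat 0, Int.ofNat 0, Int.ofNat 0, Int.ofNat 0, Int.ofNat 0, Int.ofNat 0, Int.ofNat 0, Int.ofNat 0, Int.ofNat 0, Int.ofNat 0, Int.ofNat 0, Int.ofNat 0, Int.ofNat 0, Int.ofNat 0, Int.ofNat 0, Int.ofNat 0, Int.ofNat 4],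
  [Int.ofNat 0, Int.negSucc 3, Int.ofNat 0, Int.ofNat 0, Int.ofNat 0, Int.ofNat 0, Int.ofNat 0, Int.ofNat 0, Int.ofNat 0, Int.ofNat 0, Int.ofNat 0, Int.ofNat 0, Int.ofNat 0, Int.ofNat 0, Int.ofNat 0, Int.ofNat 0, Int.ofNat 0, Int.ofNat 0, Int.ofNat 0, Int.ofNat 0, Int.ofNat 0, Int.ofNat 0, Int.ofNat 0, Int.ofNat 4],
  [Int.ofNat 0, Int.ofNat 4, Int.ofNat 0, Int.ofNat 0, Int.ofNat 0, Int.ofNat 0, Int.ofNat 0, Int.ofNat 0, Int.ofNat 0, Int.ofNat 0, Int.ofNat 0, Int.ofNat 0, Int.ofNat 0, Int.ofNat 0, Int.ofNat 0, Int.ofNat 0, Int.ofNat 0, Int.ofNat 0, Int.ofNat 0, Int.ofNat 0, Int.ofNat 0, Int.ofNat 0, Int.ofNat 0, Int.negSucc 3],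
  [Int.ofNat 0, Int.ofNat 0, Int.ofNat 0, Int.ofNat 0, Int.ofNat 0, Int.ofNat 0, Int.ofNat 0, Int.ofNat 0, Int.ofNat 0, Int.ofNat 0, Int.ofNat 0, Int.ofNat 0, Int.ofNat 0, Int.ofNat 0, Int.ofNat 0, Int.ofNat 0, Int.ofNat 0, Int.ofNat 0, Int.ofNat 0, Int.ofNat 0, Int.ofNat 0, Int.ofNat 4, Int.ofNat 0, Int.negSucc 3],
  [Int.negSucc 1, Int.negSucc 1, Int.negSucc 1, Int.ofNat 0, Int.ofNat 0, Int.ofNat 0, Int.negSucc 1, Int.negSucc 1, Int.ofNat 0, Int.ofNat 0, Int.ofNat 0, Int.ofNat 0, Int.ofNat 0, Int.ofNat 0, Int.ofNat 0, Int.ofNat 0, Int.ofNat 0, Int.ofNat 0, Int.ofNat 0, Int.negSucc 1, Int.ofNat 0, Int.ofNat 2, Int.ofNat 0, Int.ofNat 2],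
  [Int.negSucc 1, Int.negSucc 1, Int.ofNat 0, Int.ofNat 0, Int.ofNat 0, Int.negSucc 1, Int.negSucc 1, Int.ofNat 0, Int.ofNat 0, Int.ofNat 0, Int.ofNat 0, Int.ofNat 0, Int.ofNat 0, Int.ofNat 0, Int.ofNat 0, Int.ofNat 0, Int.ofNat 0, Int.ofNat 0, Int.negSucc 1, Int.ofNat 0, Int.ofNat 2, Int.ofNat 0, Int.negSucc 1, Int.ofNat 2],
  [Int.ofNat 1, Int.ofNat 1, Int.negSucc 0, Int.ofNat 1, Int.ofNat 1, Int.negSucc 0, Int.negSucc 0, Int.ofNat 1, Int.ofNat 1, Int.negSucc 0, Int.negSucc 0, Int.ofNat 1, Int.ofNat 1, Int.ofNat 1, Int.ofNat 1, Int.negSucc 0, Int.ofNat 1, Int.ofNat 1, Int.negSucc 0, Int.ofNat 1, Int.ofNat 1, Int.ofNat 1, Int.negSucc 0, Int.negSucc 2],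
  [Int.ofNat 1, Int.ofNat 1, Int.ofNat 1, Int.ofNat 1, Int.ofNat 1, Int.ofNat 1, Int.ofNat 1, Int.ofNat 1, Int.ofNat 1, Int.ofNat 1, Int.ofNat 1, Int.ofNat 1, Int.ofNat 1, Int.ofNat 1, Int.ofNat 1, Int.ofNat 1, Int.ofNat 1, Int.ofNat 1, Int.ofNat 1, Int.ofNat 1, Int.ofNat 1, Int.ofNat 1, Int.ofNat 1, Int.negSucc 2],
  [Int.ofNat 1, Int.ofNat 1, Int.ofNat 1, Int.ofNat 1, Int.ofNat 1, Int.ofNat 1, Int.ofNat 1, Int.ofNat 1, Int.ofNat 1, Int.ofNat 1, Int.ofNat 1, Int.ofNat 1, Int.ofNat 1, Int.ofNat 1, Int.ofNat 1, Int.ofNat 1, Int.ofNat 1, Int.ofNat 1, Int.ofNat 1, Int.ofNat 1, Int.ofNat 1, Int.ofNat 1, Int.ofNat 1, Int.negSucc 2],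
  [Int.negSucc 2, Int.ofNat 1, Int.ofNat 1, Int.ofNat 1, Int.ofNat 1, Int.ofNat 1, Int.ofNat 1, Int.ofNat 1, Int.ofNat 1, Int.ofNat 1, Int.ofNat 1, Int.ofNat 1, Int.ofNat 1, Int.ofNat 1, Int.ofNat 1, Int.ofNat 1, Int.ofNat 1, Int.ofNat 1, Int.ofNat 1, Int.ofNat 1, Int.ofNat 1, Int.ofNat 1, Int.ofNat 1, Int.ofNat 1],
  [Int.ofNat 3, Int.ofNat 1, Int.negSucc 0, Int.ofNat 1, Int.ofNat 1, Int.ofNat 1, Int.ofNat 1, Int.negSucc 0, Int.ofNat 1, Int.negSucc 0, Int.negSucc 0, Int.negSucc 0, Int.ofNat 1, Int.ofNat 1, Int.ofNat 1, Int.ofNat 1, Int.ofNat 1, Int.ofNat 1, Int.negSucc 0, Int.ofNat 1, Int.ofNat 1, Int.negSucc 0, Int.ofNat 1, Int.ofNat 1],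
  [Int.ofNat 1, Int.ofNat 3, Int.ofNat 1, Int.negSucc 0, Int.ofNat 1, Int.ofNat 1, Int.ofNat 1, Int.ofNat 1, Int.negSucc 0, Int.ofNat 1, Int.negSucc 0, Int.negSucc 0, Int.negSucc 0, Int.ofNat 1, Int.ofNat 1, Int.ofNat 1, Int.ofNat 1, Int.ofNat 1, Int.ofNat 1, Int.negSucc 0, Int.ofNat 1, Int.ofNat 1, Int.negSucc 0, Int.ofNat 1],
  [Int.ofNat 2, Int.ofNat 0, Int.ofNat 2, Int.negSucc 1, Int.ofNat 0, Int.ofNat 0, Int.ofNat 0, Int.ofNat 0, Int.ofNat 0, Int.ofNat 0, Int.negSucc 1, Int.ofNat 0, Int.ofNat 0, Int.ofNat 0, Int.ofNat 0, Int.ofNat 0, Int.ofNat 0, Int.ofNat 0, Int.ofNat 2, Int.negSucc 1, Int.ofNat 0, Int.ofNat 0, Int.negSucc 1, Int.ofNat 2],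
  [Int.negSucc 1, Int.ofNat 0, Int.ofNat 0, Int.ofNat 0, Int.ofNat 0, Int.ofNat 0, Int.ofNat 0, Int.negSucc 1, Int.ofNat 0, Int.ofNat 0, Int.ofNat 0, Int.ofNat 0, Int.ofNat 0, Int.ofNat 0, Int.ofNat 0, Int.ofNat 2, Int.negSucc 1, Int.ofNat 0, Int.ofNat 0, Int.negSucc 1, Int.ofNat 2, Int.ofNat 0, Int.ofNat 2, Int.ofNat 2],
  [Int.ofNat 2, Int.ofNat 0, Int.ofNat 0, Int.ofNat 0, Int.ofNat 0, Int.ofNat 0, Int.ofNat 2, Int.ofNat 0, Int.ofNat 0, Int.negSucc 1, Int.negSucc 1, Int.ofNat 0, Int.ofNat 0, Int.ofNat 0, Int.ofNat 0, Int.ofNat 0, Int.negSucc 1, Int.ofNat 0, Int.ofNat 0, Int.ofNat 0, Int.ofNat 0, Int.ofNat 2, Int.ofNat 2, Int.negSucc 1],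
  [Int.ofNat 2, Int.ofNat 2, Int.ofNat 0, Int.ofNat 0, Int.ofNat 0, Int.ofNat 0, Int.ofNat 0, Int.negSucc 1, Int.ofNat 0, Int.ofNat 0, Int.ofNat 0, Int.ofNat 0, Int.negSucc 1, Int.negSucc 1, Int.ofNat 2, Int.ofNat 0, Int.ofNat 0, Int.ofNat 0, Int.ofNat 0, Int.ofNat 0, Int.ofNat 2, Int.ofNat 0, Int.ofNat 0, Int.negSucc 1],
  [Int.negSucc 0, Int.negSucc 0, Int.ofNat 1, Int.negSucc 0, Int.ofNat 1, Int.negSucc 0, Int.ofNat 1, Int.negSucc 0, Int.ofNat 1, Int.negSucc 0, Int.negSucc 0, Int.ofNat 1, Int.negSucc 0, Int.negSucc 0, Int.ofNat 1, Int.negSucc 0, Int.ofNat 1, Int.negSucc 0, Int.ofNat 1, Int.ofNat 1, Int.ofNat 1, Int.ofNat 1, Int.ofNat 1, Int.ofNat 3],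
  [Int.negSucc 0, Int.negSucc 0, Int.negSucc 0, Int.negSucc 0, Int.ofNat 1, Int.ofNat 1, Int.negSucc 0, Int.negSucc 0, Int.ofNat 1, Int.ofNat 1, Int.ofNat 1, Int.ofNat 1, Int.negSucc 0, Int.negSucc 0, Int.ofNat 1, Int.ofNat 1, Int.ofNat 1, Int.negSucc 0, Int.negSucc 0, Int.ofNat 1, Int.ofNat 1, Int.ofNat 1, Int.negSucc 0, Int.ofNat 3],
  [Int.ofNat 1, Int.ofNat 1, Int.ofNat 1, Int.ofNat 1, Int.negSucc 0, Int.negSucc 0, Int.negSucc 0, Int.negSucc 0, Int.ofNat 1, Int.ofNat 1, Int.ofNat 1, Int.ofNat 1, Int.ofNat 1, Int.ofNat 1, Int.negSucc 0, Int.ofNat 1, Int.negSucc 0, Int.negSucc 0, Int.negSucc 0, Int.negSucc 0, Int.negSucc 0, Int.ofNat 1, Int.negSucc 0, Int.ofNat 3],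
  [Int.ofNat 1, Int.ofNat 1, Int.negSucc 0, Int.ofNat 1, Int.negSucc 0, Int.ofNat 1, Int.ofNat 1, Int.negSucc 0, Int.ofNat 1, Int.negSucc 0, Int.negSucc 0, Int.ofNat 1, Int.ofNat 1, Int.ofNat 1, Int.negSucc 0, Int.negSucc 0, Int.negSucc 0, Int.negSucc 0, Int.ofNat 1, Int.negSucc 0, Int.negSucc 0, Int.ofNat 1, Int.ofNat 1, Int.ofNat 3],
  [Int.ofNat 1, Int.ofNat 1, Int.ofNat 3, Int.ofNat 1, Int.negSucc 0, Int.ofNat 1, Int.ofNat 1, Int.negSucc 0, Int.negSucc 0, Int.ofNat 1, Int.ofNat 1, Int.negSucc 0, Int.negSucc 0, Int.ofNat 1, Int.negSucc 0, Int.ofNat 1, Int.negSucc 0, Int.negSucc 0, Int.negSucc 0, Int.negSucc 0, Int.ofNat 1, Int.ofNat 1, Int.ofNat 1, Int.negSucc 0],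
  [Int.ofNat 1, Int.negSucc 0, Int.ofNat 1, Int.ofNat 1, Int.ofNat 3, Int.ofNat 1, Int.ofNat 1, Int.ofNat 1, Int.negSucc 0, Int.negSucc 0, Int.negSucc 0, Int.negSucc 0, Int.negSucc 0, Int.ofNat 1, Int.negSucc 0, Int.ofNat 1, Int.ofNat 1, Int.negSucc 0, Int.negSucc 0, Int.ofNat 1, Int.ofNat 1, Int.ofNat 1, Int.negSucc 0, Int.negSucc 0],
  [Int.negSucc 0, Int.ofNat 1, Int.negSucc 0, Int.ofNat 1, Int.ofNat 1, Int.ofNat 1, Int.negSucc 0, Int.negSucc 0, Int.ofNat 1, Int.negSucc 0, Int.negSucc 0, Int.ofNat 1, Int.ofNat 1, Int.negSucc 0, Int.negSucc 0, Int.ofNat 1, Int.negSucc 0, Int.negSucc 0, Int.ofNat 1, Int.negSucc 0, Int.ofNat 1, Int.negSucc 0, Int.negSucc 2, Int.ofNat 1],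
  [Int.ofNat 1, Int.negSucc 0, Int.negSucc 2, Int.negSucc 0, Int.ofNat 1, Int.negSucc 0, Int.ofNat 1, Int.ofNat 1, Int.ofNat 1, Int.negSucc 0, Int.negSucc 0, Int.ofNat 1, Int.negSucc 0, Int.negSucc 0, Int.ofNat 1, Int.ofNat 1, Int.negSucc 0, Int.negSucc 0, Int.ofNat 1, Int.negSucc 0, Int.negSucc 0, Int.ofNat 1, Int.negSucc 0, Int.ofNat 1],
  [Int.negSucc 1, Int.ofNat 0, Int.ofNat 2, Int.ofNat 0, Int.ofNat 2, Int.ofNat 0, Int.ofNat 0, Int.ofNat 0, Int.ofNat 0, Int.ofNat 0, Int.ofNat 0, Int.ofNat 0, Int.negSucc 1, Int.ofNat 0, Int.ofNat 2, Int.ofNat 2, Int.ofNat 0, Int.ofNat 0, Int.ofNat 0, Int.negSucc 1, Int.ofNat 0, Int.ofNat 0, Int.ofNat 0, Int.negSucc 1],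
  [Int.ofNat 0, Int.ofNat 2, Int.ofNat 0, Int.ofNat 2, Int.ofNat 0, Int.ofNat 0, Int.ofNat 0, Int.ofNat 0, Int.ofNat 0, Int.ofNat 0, Int.ofNat 0, Int.negSucc 1, Int.ofNat 0, Int.ofNat 2, Int.ofNat 2, Int.ofNat 0, Int.ofNat 0, Int.ofNat 0, Int.negSucc 1, Int.ofNat 0, Int.ofNat 0, Int.ofNat 0, Int.negSucc 1, Int.negSucc 1],
  [Int.ofNat 0, Int.ofNat 2, Int.ofNat 0, Int.ofNat 2, Int.ofNat 0, Int.ofNat 0, Int.ofNat 0, Int.ofNat 0, Int.ofNat 0, Int.ofNat 0, Int.ofNat 0, Int.ofNat 2, Int.ofNat 0, Int.ofNat 2, Int.ofNat 2, Int.ofNat 0, Int.ofNat 0, Int.ofNat 0, Int.ofNat 2, Int.ofNat 0, Int.ofNat 0, Int.ofNat 0, Int.negSucc 1, Int.negSucc 1],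
  [Int.ofNat 0, Int.negSucc 1, Int.ofNat 0, Int.negSucc 1, Int.ofNat 0, Int.ofNat 0, Int.ofNat 0, Int.ofNat 0, Int.ofNat 0, Int.ofNat 0, Int.ofNat 0, Int.ofNat 2, Int.ofNat 0, Int.negSucc 1, Int.ofNat 2, Int.ofNat 0, Int.ofNat 0, Int.ofNat 0, Int.negSucc 1, Int.ofNat 0, Int.ofNat 0, Int.ofNat 0, Int.negSucc 1, Int.negSucc 1],
  [Int.ofNat 0, Int.ofNat 0, Int.negSucc 1, Int.negSucc 1, Int.negSucc 1, Int.ofNat 0, Int.ofNat 0, Int.ofNat 0, Int.ofNat 0, Int.ofNat 0, Int.ofNat 0, Int.ofNat 2, Int.negSucc 1, Int.ofNat 0, Int.ofNat 0, Int.ofNat 0, Int.ofNat 0, Int.negSucc 1, Int.ofNat 0, Int.ofNat 0, Int.ofNat 0, Int.ofNat 0, Int.ofNat 2, Int.negSucc 1],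
  [Int.ofNat 0, Int.ofNat 0, Int.ofNat 2, Int.negSucc 1, Int.negSucc 1, Int.ofNat 0, Int.ofNat 0, Int.ofNat 0, Int.ofNat 0, Int.ofNat 0, Int.ofNat 0, Int.negSucc 1, Int.negSucc 1, Int.ofNat 0, Int.ofNat 0, Int.ofNat 0, Int.ofNat 0, Int.negSucc 1, Int.ofNat 0, Int.ofNat 0, Int.ofNat 0, Int.ofNat 0, Int.ofNat 2, Int.negSucc 1],
  [Int.ofNat 2, Int.ofNat 0, Int.ofNat 0, Int.ofNat 2, Int.negSucc 1, Int.negSucc 1, Int.ofNat 0, Int.ofNat 0, Int.ofNat 0, Int.ofNat 0, Int.ofNat 0, Int.ofNat 0, Int.negSucc 1, Int.negSucc 1, Int.ofNat 0, Int.ofNat 0, Int.ofNat 0, Int.ofNat 0, Int.negSucc 1, Int.ofNat 0, Int.ofNat 0, Int.ofNat 0, Int.ofNat 0, Int.negSucc 1],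
  [Int.negSucc 1, Int.ofNat 0, Int.ofNat 0, Int.ofNat 2, Int.ofNat 0, Int.negSucc 1, Int.ofNat 0, Int.ofNat 0, Int.ofNat 2, Int.ofNat 0, Int.ofNat 0, Int.ofNat 2, Int.ofNat 0, Int.ofNat 0, Int.ofNat 0, Int.ofNat 0, Int.ofNat 2, Int.ofNat 0, Int.ofNat 0, Int.ofNat 0, Int.ofNat 0, Int.ofNat 0, Int.ofNat 2, Int.ofNat 2],
  [Int.ofNat 2, Int.ofNat 0, Int.negSucc 1, Int.ofNat 0, Int.ofNat 0, Int.ofNat 2, Int.ofNat 0, Int.ofNat 0, Int.ofNat 2, Int.ofNat 0, Int.ofNat 0, Int.ofNat 0, Int.ofNat 0, Int.ofNat 2, Int.ofNat 0, Int.ofNat 0, Int.ofNat 0, Int.ofNat 0, Int.ofNat 0, Int.ofNat 2, Int.negSucc 1, Int.ofNat 0, Int.ofNat 0, Int.ofNat 2],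
  [Int.negSucc 0, Int.ofNat 1, Int.ofNat 3, Int.negSucc 0, Int.negSucc 0, Int.ofNat 1, Int.negSucc 0, Int.negSucc 0, Int.ofNat 1, Int.ofNat 1, Int.ofNat 1, Int.negSucc 0, Int.negSucc 0, Int.ofNat 1, Int.negSucc 0, Int.ofNat 1, Int.negSucc 0, Int.negSucc 0, Int.negSucc 0, Int.ofNat 1, Int.negSucc 0, Int.negSucc 0, Int.negSucc 0, Int.negSucc 0],
  [Int.negSucc 0, Int.negSucc 0, Int.negSucc 0, Int.negSucc 0, Int.negSucc 0, Int.negSucc 0, Int.ofNat 3, Int.ofNat 1, Int.negSucc 0, Int.ofNat 1, Int.negSucc 0, Int.negSucc 0, Int.ofNat 1, Int.negSucc 0, Int.negSucc 0, Int.ofNat 1, Int.ofNat 1, Int.negSucc 0, Int.ofNat 1, Int.negSucc 0, Int.negSucc 0, Int.ofNat 1, Int.ofNat 1, Int.negSucc 0],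
  [Int.negSucc 0, Int.negSucc 0, Int.negSucc 0, Int.ofNat 1, Int.negSucc 0, Int.ofNat 1, Int.ofNat 1, Int.negSucc 0, Int.negSucc 0, Int.ofNat 1, Int.negSucc 0, Int.negSucc 0, Int.ofNat 1, Int.negSucc 0, Int.ofNat 1, Int.ofNat 1, Int.ofNat 1, Int.ofNat 1, Int.ofNat 1, Int.negSucc 2, Int.negSucc 0, Int.negSucc 0, Int.ofNat 1, Int.negSucc 0],
  [Int.negSucc 0, Int.negSucc 0, Int.ofNat 1, Int.ofNat 1, Int.negSucc 0, Int.negSucc 0, Int.negSucc 0, Int.negSucc 0, Int.negSucc 0, Int.negSucc 0, Int.ofNat 1, Int.negSucc 0, Int.ofNat 1, Int.negSucc 0, Int.ofNat 1, Int.negSucc 0, Int.ofNat 1, Int.ofNat 1, Int.negSucc 0, Int.negSucc 2, Int.negSucc 0, Int.negSucc 0, Int.negSucc 0, Int.negSucc 0],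
  [Int.ofNat 1, Int.ofNat 1, Int.negSucc 0, Int.negSucc 0, Int.ofNat 1, Int.negSucc 0, Int.negSucc 0, Int.ofNat 1, Int.negSucc 0, Int.negSucc 0, Int.negSucc 0, Int.negSucc 0, Int.negSucc 0, Int.negSucc 0, Int.ofNat 1, Int.negSucc 0, Int.negSucc 2, Int.ofNat 1, Int.negSucc 0, Int.ofNat 1, Int.negSucc 0, Int.negSucc 0, Int.negSucc 0, Int.negSucc 0],
  [Int.negSucc 0, Int.negSucc 0, Int.negSucc 0, Int.negSucc 0, Int.ofNat 1, Int.negSucc 0, Int.ofNat 1, Int.negSucc 0, Int.negSucc 0, Int.negSucc 0, Int.negSucc 2, Int.negSucc 0, Int.negSucc 0, Int.ofNat 1, Int.negSucc 0, Int.negSucc 0, Int.negSucc 0, Int.ofNat 1, Int.ofNat 1, Int.negSucc 0, Int.negSucc 0, Int.negSucc 0, Int.ofNat 1, Int.ofNat 1],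
  [Int.ofNat 1, Int.negSucc 0, Int.ofNat 1, Int.negSucc 0, Int.ofNat 1, Int.negSucc 0, Int.ofNat 1, Int.ofNat 1, Int.negSucc 0, Int.ofNat 1, Int.ofNat 3, Int.ofNat 1, Int.negSucc 0, Int.ofNat 1, Int.negSucc 0, Int.negSucc 0, Int.negSucc 0, Int.ofNat 1, Int.negSucc 0, Int.negSucc 0, Int.negSucc 0, Int.ofNat 1, Int.ofNat 1, Int.ofNat 1],
  [Int.ofNat 1, Int.ofNat 1, Int.negSucc 0, Int.ofNat 1, Int.negSucc 0, Int.ofNat 1, Int.negSucc 0, Int.ofNat 1, Int.ofNat 1, Int.negSucc 0, Int.ofNat 1, Int.ofNat 3, Int.ofNat 1, Int.negSucc 0, Int.ofNat 1, Int.negSucc 0, Int.negSucc 0, Int.negSucc 0, Int.ofNat 1, Int.negSucc 0, Int.negSucc 0, Int.negSucc 0, Int.ofNat 1, Int.ofNat 1],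
  [Int.ofNat 0, Int.ofNat 0, Int.ofNat 2, Int.ofNat 0, Int.ofNat 0, Int.ofNat 0, Int.ofNat 0, Int.ofNat 2, Int.negSucc 1, Int.ofNat 0, Int.ofNat 2, Int.ofNat 0, Int.negSucc 1, Int.ofNat 0, Int.ofNat 0, Int.ofNat 0, Int.ofNat 0, Int.negSucc 1, Int.negSucc 1, Int.ofNat 0, Int.ofNat 0, Int.ofNat 0, Int.ofNat 2, Int.ofNat 0],
  [Int.ofNat 0, Int.ofNat 0, Int.ofNat 0, Int.ofNat 0, Int.ofNat 2, Int.negSucc 1, Int.ofNat 0, Int.ofNat 2, Int.ofNat 0, Int.negSucc 1, Int.ofNat 0, Int.ofNat 0, Int.ofNat 0, Int.ofNat 0, Int.negSucc 1, Int.negSucc 1, Int.ofNat 0, Int.ofNat 0, Int.ofNat 0, Int.ofNat 2, Int.ofNat 0, Int.ofNat 0, Int.ofNat 2, Int.ofNat 0],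
  [Int.ofNat 0, Int.ofNat 0, Int.ofNat 0, Int.ofNat 2, Int.ofNat 0, Int.ofNat 0, Int.negSucc 1, Int.ofNat 0, Int.ofNat 0, Int.ofNat 0, Int.ofNat 2, Int.ofNat 0, Int.ofNat 0, Int.negSucc 1, Int.ofNat 0, Int.ofNat 0, Int.negSucc 1, Int.ofNat 2, Int.ofNat 0, Int.ofNat 0, Int.ofNat 2, Int.negSucc 1, Int.ofNat 0, Int.ofNat 0],
  [Int.ofNat 0, Int.negSucc 1, Int.ofNat 0, Int.ofNat 2, Int.ofNat 0, Int.ofNat 0, Int.ofNat 0, Int.ofNat 2, Int.ofNat 0, Int.negSucc 1, Int.ofNat 2, Int.ofNat 2, Int.ofNat 0, Int.negSucc 1, Int.ofNat 0, Int.ofNat 0, Int.ofNat 0, Int.ofNat 0, Int.ofNat 0, Int.ofNat 0, Int.negSucc 1, Int.ofNat 0, Int.ofNat 0, Int.ofNat 0],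
  [Int.negSucc 0, Int.ofNat 1, Int.negSucc 0, Int.ofNat 1, Int.ofNat 1, Int.negSucc 0, Int.negSucc 0, Int.ofNat 1, Int.negSucc 0, Int.negSucc 0, Int.ofNat 3, Int.ofNat 1, Int.negSucc 0, Int.negSucc 0, Int.negSucc 0, Int.ofNat 1, Int.ofNat 1, Int.negSucc 0, Int.negSucc 0, Int.negSucc 0, Int.negSucc 0, Int.negSucc 0, Int.ofNat 1, Int.negSucc 0],
  [Int.negSucc 0, Int.ofNat 1, Int.ofNat 1, Int.ofNat 1, Int.ofNat 1, Int.ofNat 1, Int.ofNat 1, Int.ofNat 1, Int.negSucc 0, Int.ofNat 1, Int.negSucc 2, Int.ofNat 1, Int.negSucc 0, Int.negSucc 0, Int.negSucc 0, Int.negSucc 0, Int.ofNat 1, Int.negSucc 0, Int.ofNat 1, Int.negSucc 0, Int.negSucc 0, Int.negSucc 0, Int.negSucc 0, Int.negSucc 0],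
  [Int.negSucc 0, Int.negSucc 0, Int.ofNat 1, Int.ofNat 1, Int.ofNat 1, Int.negSucc 0, Int.ofNat 1, Int.negSucc 0, Int.negSucc 0, Int.ofNat 1, Int.negSucc 0, Int.ofNat 1, Int.negSucc 2, Int.negSucc 0, Int.negSucc 0, Int.ofNat 1, Int.ofNat 1, Int.negSucc 0, Int.ofNat 1, Int.negSucc 0, Int.ofNat 1, Int.negSucc 0, Int.ofNat 1, Int.negSucc 0],
  [Int.negSucc 0, Int.negSucc 0, Int.negSucc 0, Int.ofNat 1, Int.ofNat 1, Int.ofNat 1, Int.negSucc 0, Int.negSucc 0, Int.negSucc 0, Int.negSucc 0, Int.ofNat 1, Int.ofNat 1, Int.negSucc 2, Int.negSucc 0, Int.negSucc 0, Int.negSucc 0, Int.ofNat 1, Int.negSucc 0, Int.negSucc 0, Int.negSucc 0, Int.ofNat 1, Int.negSucc 0, Int.negSucc 0, Int.negSucc 0],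
  [Int.negSucc 0, Int.negSucc 0, Int.negSucc 0, Int.ofNat 1, Int.ofNat 1, Int.ofNat 1, Int.ofNat 1, Int.ofNat 1, Int.ofNat 1, Int.negSucc 0, Int.ofNat 1, Int.ofNat 3, Int.negSucc 0, Int.negSucc 0, Int.negSucc 0, Int.negSucc 0, Int.ofNat 1, Int.negSucc 0, Int.ofNat 1, Int.ofNat 1, Int.ofNat 1, Int.ofNat 1, Int.negSucc 0, Int.negSucc 0],
  [Int.negSucc 0, Int.ofNat 1, Int.ofNat 1, Int.ofNat 1, Int.negSucc 0, Int.ofNat 1, Int.negSucc 0, Int.ofNat 1, Int.ofNat 1, Int.negSucc 0, Int.ofNat 1, Int.ofNat 1, Int.ofNat 1, Int.negSucc 0, Int.negSucc 0, Int.negSucc 0, Int.negSucc 0, Int.ofNat 3, Int.ofNat 1, Int.negSucc 0, Int.ofNat 1, Int.ofNat 1, Int.negSucc 0, Int.negSucc 0],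
  [Int.ofNat 1, Int.negSucc 0, Int.negSucc 0, Int.negSucc 0, Int.ofNat 1, Int.negSucc 0, Int.negSucc 0, Int.ofNat 1, Int.negSucc 0, Int.negSucc 0, Int.ofNat 1, Int.negSucc 0, Int.negSucc 0, Int.ofNat 1, Int.negSucc 2, Int.negSucc 0, Int.ofNat 1, Int.ofNat 1, Int.negSucc 0, Int.negSucc 0, Int.ofNat 1, Int.ofNat 1, Int.ofNat 1, Int.ofNat 1],
  [Int.ofNat 1, Int.ofNat 1, Int.ofNat 1, Int.ofNat 1, Int.negSucc 0, Int.negSucc 0, Int.negSucc 0, Int.ofNat 1, Int.negSucc 0, Int.negSucc 0, Int.ofNat 1, Int.negSucc 0, Int.negSucc 0, Int.ofNat 1, Int.negSucc 0, Int.negSucc 0, Int.ofNat 1, Int.negSucc 2, Int.negSucc 0, Int.ofNat 1, Int.ofNat 1, Int.negSucc 0, Int.negSucc 0, Int.ofNat 1],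
  [Int.ofNat 1, Int.ofNat 1, Int.ofNat 1, Int.ofNat 3, Int.negSucc 0, Int.ofNat 1, Int.negSucc 0, Int.ofNat 1, Int.ofNat 1, Int.negSucc 0, Int.ofNat 1, Int.ofNat 1, Int.ofNat 1, Int.ofNat 1, Int.ofNat 1, Int.negSucc 0, Int.ofNat 1, Int.negSucc 0, Int.ofNat 1, Int.ofNat 1, Int.ofNat 1, Int.negSucc 0, Int.negSucc 0, Int.ofNat 1],
  [Int.ofNat 1, Int.ofNat 1, Int.ofNat 3, Int.negSucc 0, Int.ofNat 1, Int.negSucc 0, Int.ofNat 1, Int.ofNat 1, Int.negSucc 0, Int.ofNat 1, Int.ofNat 1, Int.ofNat 1, Int.ofNat 1, Int.ofNat 1, Int.negSucc 0, Int.ofNat 1, Int.negSucc 0, Int.ofNat 1, Int.ofNat 1, Int.ofNat 1, Int.negSucc 0, Int.negSucc 0, Int.ofNat 1, Int.ofNat 1],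
  [Int.negSucc 0, Int.ofNat 1, Int.negSucc 2, Int.negSucc 0, Int.ofNat 1, Int.negSucc 0, Int.ofNat 1, Int.negSucc 0, Int.negSucc 0, Int.negSucc 0, Int.negSucc 0, Int.negSucc 0, Int.ofNat 1, Int.ofNat 1, Int.negSucc 0, Int.ofNat 1, Int.negSucc 0, Int.ofNat 1, Int.negSucc 0, Int.ofNat 1, Int.negSucc 0, Int.ofNat 1, Int.ofNat 1, Int.ofNat 1],
  [Int.ofNat 1, Int.negSucc 0, Int.ofNat 3, Int.ofNat 1, Int.negSucc 0, Int.negSucc 0, Int.negSucc 0, Int.negSucc 0, Int.ofNat 1, Int.ofNat 1, Int.negSucc 0, Int.negSucc 0, Int.negSucc 0, Int.negSucc 0, Int.negSucc 0, Int.ofNat 1, Int.ofNat 1, Int.ofNat 1, Int.ofNat 1, Int.ofNat 1, Int.negSucc 0, Int.ofNat 1, Int.ofNat 1, Int.ofNat 1],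
  [Int.ofNat 1, Int.ofNat 3, Int.ofNat 1, Int.ofNat 1, Int.negSucc 0, Int.negSucc 0, Int.negSucc 0, Int.negSucc 0, Int.ofNat 1, Int.ofNat 1, Int.ofNat 1, Int.negSucc 0, Int.negSucc 0, Int.ofNat 1, Int.ofNat 1, Int.ofNat 1, Int.negSucc 0, Int.ofNat 1, Int.negSucc 0, Int.ofNat 1, Int.negSucc 0, Int.negSucc 0, Int.negSucc 0, Int.ofNat 1],
  [Int.negSucc 0, Int.ofNat 3, Int.negSucc 0, Int.ofNat 1, Int.negSucc 0, Int.negSucc 0, Int.negSucc 0, Int.ofNat 1, Int.ofNat 1, Int.negSucc 0, Int.negSucc 0, Int.ofNat 1, Int.negSucc 0, Int.ofNat 1, Int.ofNat 1, Int.ofNat 1, Int.negSucc 0, Int.ofNat 1, Int.ofNat 1, Int.ofNat 1, Int.negSucc 0, Int.ofNat 1, Int.negSucc 0, Int.ofNat 1],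
  [Int.negSucc 0, Int.negSucc 0, Int.ofNat 3, Int.negSucc 0, Int.ofNat 1, Int.negSucc 0, Int.negSucc 0, Int.negSucc 0, Int.ofNat 1, Int.ofNat 1, Int.negSucc 0, Int.negSucc 0, Int.ofNat 1, Int.negSucc 0, Int.ofNat 1, Int.ofNat 1, Int.ofNat 1, Int.negSucc 0, Int.ofNat 1, Int.ofNat 1, Int.ofNat 1, Int.negSucc 0, Int.ofNat 1, Int.ofNat 1],
  [Int.ofNat 2, Int.ofNat 2, Int.negSucc 1, Int.ofNat 0, Int.ofNat 0, Int.ofNat 0, Int.ofNat 0, Int.ofNat 0, Int.ofNat 0, Int.ofNat 0, Int.negSucc 1, Int.negSucc 1, Int.ofNat 0, Int.negSucc 1, Int.ofNat 2, Int.ofNat 0, Int.ofNat 0, Int.ofNat 0, Int.ofNat 0, Int.ofNat 2, Int.ofNat 0, Int.ofNat 0, Int.ofNat 0, Int.ofNat 0],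
  [Int.ofNat 0, Int.ofNat 0, Int.ofNat 0, Int.ofNat 0, Int.ofNat 0, Int.ofNat 0, Int.ofNat 0, Int.negSucc 1, Int.negSucc 1, Int.ofNat 0, Int.negSucc 1, Int.ofNat 2, Int.ofNat 0, Int.ofNat 0, Int.ofNat 0, Int.ofNat 0, Int.ofNat 2, Int.ofNat 0, Int.ofNat 0, Int.ofNat 0, Int.ofNat 2, Int.ofNat 2, Int.negSucc 1, Int.ofNat 0],
  [Int.ofNat 0, Int.ofNat 0, Int.ofNat 0, Int.ofNat 0, Int.ofNat 0, Int.ofNat 0, Int.ofNat 0, Int.negSucc 1, Int.negSucc 1, Int.ofNat 0, Int.negSucc 1, Int.ofNat 2, Int.ofNat 0, Int.ofNat 0, Int.ofNat 0, Int.ofNat 0, Int.ofNat 2, Int.ofNat 0, Int.ofNat 0, Int.ofNat 0, Int.ofNat 2, Int.ofNat 2, Int.negSucc 1, Int.ofNat 0],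
  [Int.ofNat 0, Int.ofNat 0, Int.ofNat 0, Int.ofNat 0, Int.ofNat 0, Int.negSucc 1, Int.ofNat 0, Int.negSucc 1, Int.ofNat 0, Int.ofNat 0, Int.ofNat 2, Int.ofNat 0, Int.ofNat 0, Int.ofNat 2, Int.negSucc 1, Int.ofNat 0, Int.negSucc 1, Int.ofNat 0, Int.ofNat 0, Int.ofNat 2, Int.ofNat 2, Int.ofNat 0, Int.ofNat 0, Int.ofNat 0],
  [Int.ofNat 0, Int.ofNat 0, Int.ofNat 0, Int.ofNat 2, Int.ofNat 0, Int.ofNat 0, Int.ofNat 0, Int.negSucc 1, Int.ofNat 0, Int.negSucc 1, Int.ofNat 0, Int.ofNat 0, Int.ofNat 0, Int.ofNat 2, Int.ofNat 0, Int.negSucc 1, Int.negSucc 1, Int.ofNat 2, Int.ofNat 0, Int.ofNat 2, Int.ofNat 0, Int.ofNat 0, Int.ofNat 0, Int.ofNat 0],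
  [Int.ofNat 0, Int.ofNat 0, Int.ofNat 0, Int.ofNat 2, Int.ofNat 0, Int.ofNat 0, Int.ofNat 0, Int.negSucc 1, Int.ofNat 0, Int.ofNat 2, Int.ofNat 0, Int.ofNat 0, Int.ofNat 0, Int.ofNat 2, Int.ofNat 0, Int.ofNat 2, Int.negSucc 1, Int.ofNat 2, Int.ofNat 0, Int.ofNat 2, Int.ofNat 0, Int.ofNat 0, Int.ofNat 0, Int.ofNat 0],
  [Int.ofNat 0, Int.negSucc 1, Int.ofNat 0, Int.ofNat 0, Int.ofNat 0, Int.ofNat 0, Int.ofNat 0, Int.ofNat 2, Int.ofNat 0, Int.ofNat 0, Int.ofNat 2, Int.negSucc 1, Int.ofNat 2, Int.ofNat 0, Int.ofNat 2, Int.ofNat 0, Int.ofNat 2, Int.ofNat 0, Int.ofNat 2, Int.ofNat 0, Int.ofNat 0, Int.ofNat 0, Int.ofNat 0, Int.ofNat 0],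
  [Int.ofNat 0, Int.ofNat 0, Int.negSucc 1, Int.ofNat 0, Int.ofNat 0, Int.ofNat 0, Int.ofNat 0, Int.ofNat 0, Int.ofNat 0, Int.ofNat 0, Int.ofNat 2, Int.ofNat 0, Int.ofNat 0, Int.ofNat 2, Int.ofNat 2, Int.ofNat 0, Int.ofNat 2, Int.ofNat 0, Int.ofNat 2, Int.ofNat 0, Int.ofNat 0, Int.ofNat 2, Int.negSucc 1, Int.ofNat 0],
  [Int.ofNat 0, Int.ofNat 0, Int.ofNat 2, Int.ofNat 0, Int.ofNat 0, Int.ofNat 0, Int.ofNat 0, Int.ofNat 0, Int.ofNat 0, Int.ofNat 0, Int.negSucc 1, Int.ofNat 0, Int.ofNat 0, Int.ofNat 2, Int.ofNat 2, Int.ofNat 0, Int.ofNat 2, Int.ofNat 0, Int.negSucc 1, Int.ofNat 0, Int.ofNat 0, Int.negSucc 1, Int.negSucc 1, Int.ofNat 0],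
  [Int.negSucc 1, Int.ofNat 0, Int.ofNat 0, Int.ofNat 2, Int.ofNat 0, Int.ofNat 0, Int.ofNat 0, Int.ofNat 0, Int.ofNat 0, Int.ofNat 0, Int.ofNat 0, Int.negSucc 1, Int.ofNat 0, Int.ofNat 0, Int.ofNat 2, Int.ofNat 2, Int.ofNat 0, Int.ofNat 2, Int.ofNat 0, Int.negSucc 1, Int.ofNat 0, Int.ofNat 0, Int.negSucc 1, Int.ofNat 0],
  [Int.ofNat 1, Int.negSucc 0, Int.negSucc 0, Int.negSucc 0, Int.ofNat 1, Int.negSucc 2, Int.ofNat 1, Int.ofNat 1, Int.ofNat 1, Int.negSucc 0, Int.negSucc 0, Int.negSucc 0, Int.ofNat 1, Int.ofNat 1, Int.negSucc 0, Int.ofNat 1, Int.ofNat 1, Int.negSucc 0, Int.ofNat 1, Int.negSucc 0, Int.negSucc 0, Int.ofNat 1, Int.negSucc 0, Int.negSucc 0],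
  [Int.negSucc 0, Int.ofNat 1, Int.negSucc 2, Int.ofNat 1, Int.ofNat 1, Int.ofNat 1, Int.negSucc 0, Int.negSucc 0, Int.negSucc 0, Int.ofNat 1, Int.ofNat 1, Int.negSucc 0, Int.ofNat 1, Int.ofNat 1, Int.negSucc 0, Int.ofNat 1, Int.negSucc 0, Int.negSucc 0, Int.ofNat 1, Int.negSucc 0, Int.ofNat 1, Int.negSucc 0, Int.negSucc 0, Int.negSucc 0],
  [Int.negSucc 0, Int.negSucc 2, Int.ofNat 1, Int.ofNat 1, Int.ofNat 1, Int.ofNat 1, Int.ofNat 1, Int.ofNat 1, Int.negSucc 0, Int.negSucc 0, Int.negSucc 0, Int.negSucc 0, Int.ofNat 1, Int.ofNat 1, Int.negSucc 0, Int.negSucc 0, Int.negSucc 0, Int.negSucc 0, Int.ofNat 1, Int.ofNat 1, Int.negSucc 0, Int.ofNat 1, Int.negSucc 0, Int.negSucc 0],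
  [Int.negSucc 0, Int.ofNat 1, Int.ofNat 1, Int.ofNat 1, Int.ofNat 1, Int.ofNat 1, Int.ofNat 1, Int.negSucc 0, Int.ofNat 1, Int.ofNat 1, Int.negSucc 0, Int.negSucc 0, Int.negSucc 0, Int.negSucc 0, Int.negSucc 0, Int.negSucc 0, Int.negSucc 0, Int.negSucc 0, Int.negSucc 2, Int.negSucc 0, Int.ofNat 1, Int.ofNat 1, Int.ofNat 1, Int.negSucc 0],
  [Int.ofNat 1, Int.negSucc 0, Int.negSucc 0, Int.ofNat 1, Int.ofNat 1, Int.ofNat 1, Int.ofNat 1, Int.negSucc 0, Int.ofNat 3, Int.ofNat 1, Int.negSucc 0, Int.ofNat 1, Int.ofNat 1, Int.negSucc 0, Int.negSucc 0, Int.negSucc 0, Int.negSucc 0, Int.negSucc 0, Int.negSucc 0, Int.negSucc 0, Int.ofNat 1, Int.ofNat 1, Int.ofNat 1, Int.ofNat 1],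
  [Int.ofNat 1, Int.negSucc 0, Int.ofNat 1, Int.ofNat 1, Int.ofNat 1, Int.negSucc 0, Int.negSucc 0, Int.negSucc 0, Int.ofNat 3, Int.negSucc 0, Int.ofNat 1, Int.ofNat 1, Int.ofNat 1, Int.negSucc 0, Int.negSucc 0, Int.ofNat 1, Int.negSucc 0, Int.negSucc 0, Int.ofNat 1, Int.negSucc 0, Int.ofNat 1, Int.ofNat 1, Int.negSucc 0, Int.ofNat 1],
  [Int.ofNat 3, Int.negSucc 0, Int.ofNat 1, Int.ofNat 1, Int.ofNat 1, Int.negSucc 0, Int.negSucc 0, Int.ofNat 1, Int.ofNat 1, Int.negSucc 0, Int.ofNat 1, Int.negSucc 0, Int.ofNat 1, Int.negSucc 0, Int.negSucc 0, Int.negSucc 0, Int.ofNat 1, Int.ofNat 1, Int.negSucc 0, Int.negSucc 0, Int.ofNat 1, Int.ofNat 1, Int.negSucc 0, Int.ofNat 1],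
  [Int.ofNat 3, Int.negSucc 0, Int.negSucc 0, Int.ofNat 1, Int.ofNat 1, Int.ofNat 1, Int.ofNat 1, Int.ofNat 1, Int.ofNat 1, Int.ofNat 1, Int.negSucc 0, Int.negSucc 0, Int.ofNat 1, Int.negSucc 0, Int.negSucc 0, Int.ofNat 1, Int.ofNat 1, Int.ofNat 1, Int.ofNat 1, Int.negSucc 0, Int.ofNat 1, Int.ofNat 1, Int.ofNat 1, Int.ofNat 1],
  [Int.negSucc 1, Int.ofNat 2, Int.ofNat 2, Int.ofNat 0, Int.ofNat 0, Int.ofNat 0, Int.ofNat 0, Int.ofNat 0, Int.ofNat 0, Int.ofNat 0, Int.negSucc 1, Int.negSucc 1, Int.ofNat 0, Int.negSucc 1, Int.negSucc 1, Int.ofNat 0, Int.ofNat 0, Int.ofNat 0, Int.ofNat 0, Int.negSucc 1, Int.ofNat 0, Int.ofNat 0, Int.ofNat 0, Int.ofNat 0],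
  [Int.negSucc 1, Int.ofNat 0, Int.ofNat 0, Int.ofNat 0, Int.ofNat 2, Int.ofNat 0, Int.ofNat 2, Int.ofNat 0, Int.ofNat 0, Int.ofNat 0, Int.ofNat 0, Int.negSucc 1, Int.ofNat 0, Int.ofNat 0, Int.ofNat 0, Int.ofNat 0, Int.negSucc 1, Int.negSucc 1, Int.ofNat 0, Int.ofNat 0, Int.negSucc 1, Int.ofNat 0, Int.negSucc 1, Int.ofNat 0],
  [Int.ofNat 1, Int.negSucc 0, Int.negSucc 0, Int.ofNat 1, Int.ofNat 3, Int.ofNat 1, Int.ofNat 1, Int.negSucc 0, Int.ofNat 1, Int.ofNat 1, Int.ofNat 1, Int.negSucc 0, Int.ofNat 1, Int.ofNat 1, Int.ofNat 1, Int.ofNat 1, Int.negSucc 0, Int.negSucc 0, Int.ofNat 1, Int.negSucc 0, Int.negSucc 0, Int.negSucc 0, Int.negSucc 0, Int.negSucc 0],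
  [Int.negSucc 0, Int.negSucc 0, Int.negSucc 0, Int.ofNat 1, Int.negSucc 0, Int.negSucc 0, Int.ofNat 1, Int.ofNat 3, Int.ofNat 1, Int.ofNat 1, Int.negSucc 0, Int.ofNat 1, Int.ofNat 1, Int.ofNat 1, Int.negSucc 0, Int.ofNat 1, Int.ofNat 1, Int.ofNat 1, Int.ofNat 1, Int.negSucc 0, Int.negSucc 0, Int.ofNat 1, Int.negSucc 0, Int.negSucc 0],
  [Int.negSucc 0, Int.negSucc 0, Int.negSucc 0, Int.ofNat 1, Int.negSucc 0, Int.negSucc 0, Int.negSucc 0, Int.ofNat 1, Int.negSucc 0, Int.ofNat 1, Int.negSucc 0, Int.negSucc 0, Int.negSucc 0, Int.ofNat 1, Int.negSucc 0, Int.ofNat 1, Int.ofNat 1, Int.ofNat 1, Int.negSucc 0, Int.negSucc 2, Int.negSucc 0, Int.negSucc 0, Int.negSucc 0, Int.negSucc 0],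
  [Int.negSucc 0, Int.negSucc 0, Int.ofNat 1, Int.negSucc 0, Int.negSucc 0, Int.negSucc 0, Int.ofNat 1, Int.negSucc 0, Int.ofNat 1, Int.negSucc 0, Int.negSucc 0, Int.negSucc 0, Int.ofNat 1, Int.negSucc 0, Int.ofNat 1, Int.ofNat 1, Int.ofNat 1, Int.negSucc 0, Int.negSucc 2, Int.negSucc 0, Int.negSucc 0, Int.negSucc 0, Int.negSucc 0, Int.negSucc 0],
  [Int.ofNat 1, Int.negSucc 0, Int.negSucc 0, Int.negSucc 0, Int.negSucc 0, Int.negSucc 0, Int.ofNat 1, Int.ofNat 1, Int.ofNat 1, Int.ofNat 1, Int.ofNat 1, Int.ofNat 1, Int.ofNat 1, Int.negSucc 0, Int.ofNat 1, Int.ofNat 1, Int.ofNat 1, Int.negSucc 0, Int.ofNat 3, Int.negSucc 0, Int.negSucc 0, Int.ofNat 1, Int.negSucc 0, Int.negSucc 0],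
  [Int.negSucc 0, Int.ofNat 1, Int.ofNat 1, Int.ofNat 1, Int.ofNat 1, Int.negSucc 0, Int.negSucc 0, Int.ofNat 1, Int.negSucc 0, Int.negSucc 0, Int.ofNat 1, Int.ofNat 1, Int.negSucc 0, Int.ofNat 1, Int.ofNat 1, Int.ofNat 1, Int.negSucc 0, Int.negSucc 0, Int.negSucc 2, Int.negSucc 0, Int.negSucc 0, Int.ofNat 1, Int.negSucc 0, Int.negSucc 0],
  [Int.negSucc 0, Int.ofNat 1, Int.negSucc 2, Int.ofNat 1, Int.ofNat 1, Int.ofNat 1, Int.ofNat 1, Int.negSucc 0, Int.negSucc 0, Int.negSucc 0, Int.ofNat 1, Int.ofNat 1, Int.ofNat 1, Int.negSucc 0, Int.negSucc 0, Int.ofNat 1, Int.negSucc 0, Int.negSucc 0, Int.negSucc 0, Int.negSucc 0, Int.negSucc 0, Int.ofNat 1, Int.ofNat 1, Int.negSucc 0],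
  [Int.ofNat 1, Int.ofNat 1, Int.ofNat 3, Int.ofNat 1, Int.ofNat 1, Int.ofNat 1, Int.ofNat 1, Int.ofNat 1, Int.negSucc 0, Int.ofNat 1, Int.negSucc 0, Int.negSucc 0, Int.ofNat 1, Int.negSucc 0, Int.negSucc 0, Int.ofNat 1, Int.negSucc 0, Int.negSucc 0, Int.ofNat 1, Int.negSucc 0, Int.negSucc 0, Int.negSucc 0, Int.ofNat 1, Int.negSucc 0],
  [Int.ofNat 1, Int.ofNat 1, Int.ofNat 1, Int.ofNat 3, Int.ofNat 1, Int.ofNat 1, Int.ofNat 1, Int.ofNat 1, Int.ofNat 1, Int.negSucc 0, Int.ofNat 1, Int.negSucc 0, Int.negSucc 0, Int.ofNat 1, Int.negSucc 0, Int.negSucc 0, Int.ofNat 1, Int.negSucc 0, Int.negSucc 0, Int.ofNat 1, Int.negSucc 0, Int.negSucc 0, Int.negSucc 0, Int.negSucc 0],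
  [Int.ofNat 0, Int.ofNat 0, Int.ofNat 0, Int.ofNat 2, Int.ofNat 0, Int.ofNat 0, Int.ofNat 0, Int.ofNat 0, Int.ofNat 2, Int.ofNat 0, Int.ofNat 2, Int.ofNat 0, Int.ofNat 0, Int.ofNat 0, Int.negSucc 1, Int.ofNat 0, Int.ofNat 0, Int.negSucc 1, Int.ofNat 0, Int.ofNat 0, Int.ofNat 0, Int.negSucc 1, Int.negSucc 1, Int.ofNat 2],
  [Int.ofNat 2, Int.ofNat 0, Int.ofNat 0, Int.ofNat 0, Int.ofNat 0, Int.ofNat 2, Int.ofNat 0, Int.ofNat 2, Int.ofNat 0, Int.ofNat 0, Int.ofNat 0, Int.negSucc 1, Int.ofNat 0, Int.ofNat 0, Int.negSucc 1, Int.ofNat 0, Int.ofNat 0, Int.ofNat 0, Int.negSucc 1, Int.negSucc 1, Int.ofNat 0, Int.ofNat 0, Int.ofNat 0, Int.ofNat 2],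
  [Int.ofNat 0, Int.ofNat 2, Int.ofNat 2, Int.ofNat 0, Int.ofNat 0, Int.ofNat 2, Int.ofNat 0, Int.ofNat 2, Int.ofNat 2, Int.ofNat 0, Int.ofNat 0, Int.ofNat 0, Int.ofNat 2, Int.ofNat 0, Int.negSucc 1, Int.ofNat 0, Int.ofNat 0, Int.ofNat 0, Int.ofNat 0, Int.negSucc 1, Int.ofNat 0, Int.ofNat 0, Int.ofNat 0, Int.ofNat 0],
  [Int.ofNat 0, Int.ofNat 0, Int.ofNat 0, Int.ofNat 0, Int.ofNat 0, Int.ofNat 2, Int.ofNat 2, Int.ofNat 0, Int.ofNat 2, Int.ofNat 0, Int.ofNat 0, Int.ofNat 0, Int.ofNat 0, Int.ofNat 0, Int.ofNat 0, Int.ofNat 0, Int.ofNat 2, Int.negSucc 1, Int.ofNat 2, Int.ofNat 0, Int.ofNat 0, Int.ofNat 2, Int.negSucc 1, Int.ofNat 0],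
  [Int.ofNat 0, Int.ofNat 0, Int.ofNat 0, Int.ofNat 0, Int.ofNat 0, Int.ofNat 2, Int.ofNat 0, Int.negSucc 1, Int.ofNat 0, Int.ofNat 0, Int.ofNat 0, Int.negSucc 1, Int.negSucc 1, Int.ofNat 0, Int.ofNat 0, Int.ofNat 0, Int.ofNat 2, Int.negSucc 1, Int.ofNat 0, Int.negSucc 1, Int.ofNat 0, Int.ofNat 0, Int.negSucc 1, Int.ofNat 0],
  [Int.ofNat 0, Int.ofNat 0, Int.ofNat 0, Int.ofNat 0, Int.ofNat 0, Int.negSucc 1, Int.ofNat 0, Int.negSucc 1, Int.ofNat 0, Int.ofNat 0, Int.ofNat 0, Int.negSucc 1, Int.negSucc 1, Int.ofNat 0, Int.ofNat 0, Int.ofNat 0, Int.ofNat 2, Int.negSucc 1, Int.ofNat 0, Int.negSucc 1, Int.ofNat 0, Int.ofNat 0, Int.ofNat 2, Int.ofNat 0],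
  [Int.ofNat 0, Int.ofNat 2, Int.negSucc 1, Int.ofNat 0, Int.ofNat 0, Int.ofNat 0, Int.ofNat 0, Int.ofNat 0, Int.negSucc 1, Int.ofNat 0, Int.ofNat 0, Int.negSucc 1, Int.ofNat 0, Int.ofNat 0, Int.negSucc 1, Int.ofNat 0, Int.negSucc 1, Int.negSucc 1, Int.ofNat 0, Int.ofNat 0, Int.ofNat 0, Int.ofNat 0, Int.ofNat 2, Int.ofNat 0],
  [Int.ofNat 0, Int.ofNat 2, Int.negSucc 1, Int.ofNat 0, Int.negSucc 1, Int.ofNat 0, Int.ofNat 0, Int.ofNat 0, Int.ofNat 0, Int.ofNat 0, Int.negSucc 1, Int.negSucc 1, Int.ofNat 0, Int.ofNat 0, Int.ofNat 0, Int.ofNat 0, Int.ofNat 0, Int.ofNat 0, Int.negSucc 1, Int.ofNat 0, Int.negSucc 1, Int.ofNat 0, Int.ofNat 2, Int.ofNat 0],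
  [Int.ofNat 0, Int.ofNat 2, Int.ofNat 2, Int.ofNat 0, Int.negSucc 1, Int.ofNat 0, Int.ofNat 0, Int.ofNat 0, Int.ofNat 0, Int.ofNat 0, Int.ofNat 2, Int.ofNat 2, Int.ofNat 0, Int.ofNat 0, Int.ofNat 0, Int.ofNat 0, Int.ofNat 0, Int.ofNat 0, Int.ofNat 2, Int.ofNat 0, Int.negSucc 1, Int.ofNat 0, Int.ofNat 2, Int.ofNat 0],
  [Int.ofNat 2, Int.ofNat 0, Int.ofNat 2, Int.ofNat 2, Int.ofNat 0, Int.negSucc 1, Int.ofNat 0, Int.ofNat 0, Int.ofNat 0, Int.ofNat 0, Int.ofNat 0, Int.ofNat 2, Int.ofNat 2, Int.ofNat 0, Int.ofNat 0, Int.ofNat 0, Int.ofNat 0, Int.ofNat 0, Int.ofNat 0, Int.ofNat 2, Int.ofNat 0, Int.negSucc 1, Int.ofNat 0, Int.ofNat 0],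
  [Int.ofNat 0, Int.ofNat 2, Int.ofNat 0, Int.ofNat 2, Int.ofNat 0, Int.negSucc 1, Int.ofNat 0, Int.ofNat 0, Int.negSucc 1, Int.ofNat 0, Int.ofNat 0, Int.ofNat 0, Int.ofNat 0, Int.ofNat 0, Int.ofNat 0, Int.ofNat 0, Int.ofNat 0, Int.ofNat 0, Int.negSucc 1, Int.ofNat 2, Int.ofNat 0, Int.negSucc 1, Int.ofNat 0, Int.ofNat 2],
  [Int.ofNat 2, Int.ofNat 0, Int.negSucc 1, Int.ofNat 0, Int.ofNat 0, Int.negSucc 1, Int.ofNat 0, Int.ofNat 0, Int.ofNat 0, Int.ofNat 0, Int.ofNat 0, Int.ofNat 0, Int.ofNat 0, Int.ofNat 0, Int.ofNat 0, Int.negSucc 1, Int.ofNat 2, Int.ofNat 0, Int.negSucc 1, Int.ofNat 0, Int.ofNat 0, Int.ofNat 2, Int.ofNat 0, Int.ofNat 2],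
  [Int.negSucc 0, Int.ofNat 1, Int.ofNat 3, Int.ofNat 1, Int.negSucc 0, Int.negSucc 0, Int.negSucc 0, Int.negSucc 0, Int.ofNat 1, Int.ofNat 1, Int.ofNat 1, Int.ofNat 1, Int.ofNat 1, Int.negSucc 0, Int.ofNat 1, Int.negSucc 0, Int.ofNat 1, Int.ofNat 1, Int.negSucc 0, Int.negSucc 0, Int.ofNat 1, Int.ofNat 1, Int.negSucc 0, Int.negSucc 0],
  [Int.negSucc 0, Int.negSucc 0, Int.negSucc 0, Int.ofNat 1, Int.negSucc 0, Int.negSucc 0, Int.ofNat 3, Int.ofNat 1, Int.ofNat 1, Int.negSucc 0, Int.ofNat 1, Int.ofNat 1, Int.ofNat 1, Int.ofNat 1, Int.negSucc 0, Int.negSucc 0, Int.ofNat 1, Int.ofNat 1, Int.ofNat 1, Int.ofNat 1, Int.ofNat 1, Int.negSucc 0, Int.negSucc 0, Int.negSucc 0],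
  [Int.negSucc 0, Int.negSucc 0, Int.negSucc 0, Int.ofNat 1, Int.negSucc 0, Int.negSucc 0, Int.ofNat 1, Int.negSucc 0, Int.negSucc 0, Int.negSucc 0, Int.ofNat 1, Int.negSucc 0, Int.negSucc 0, Int.ofNat 1, Int.negSucc 0, Int.negSucc 0, Int.ofNat 1, Int.ofNat 1, Int.negSucc 0, Int.negSucc 0, Int.ofNat 1, Int.negSucc 2, Int.negSucc 0, Int.negSucc 0],
  [Int.negSucc 0, Int.negSucc 0, Int.ofNat 1, Int.ofNat 1, Int.negSucc 0, Int.ofNat 1, Int.negSucc 0, Int.negSucc 0, Int.negSucc 0, Int.ofNat 1, Int.negSucc 0, Int.negSucc 0, Int.negSucc 0, Int.ofNat 1, Int.negSucc 0, Int.ofNat 1, Int.ofNat 1, Int.ofNat 1, Int.ofNat 1, Int.negSucc 0, Int.ofNat 1, Int.negSucc 2, Int.ofNat 1, Int.negSucc 0],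
  [Int.negSucc 0, Int.negSucc 0, Int.negSucc 0, Int.negSucc 0, Int.ofNat 1, Int.ofNat 1, Int.negSucc 0, Int.negSucc 0, Int.ofNat 1, Int.ofNat 1, Int.negSucc 2, Int.ofNat 1, Int.negSucc 0, Int.negSucc 0, Int.ofNat 1, Int.ofNat 1, Int.ofNat 1, Int.negSucc 0, Int.negSucc 0, Int.ofNat 1, Int.ofNat 1, Int.ofNat 1, Int.negSucc 0, Int.negSucc 0],
  [Int.negSucc 0, Int.negSucc 0, Int.ofNat 1, Int.negSucc 0, Int.ofNat 1, Int.negSucc 0, Int.ofNat 1, Int.negSucc 0, Int.ofNat 1, Int.negSucc 0, Int.ofNat 3, Int.ofNat 1, Int.negSucc 0, Int.negSucc 0, Int.ofNat 1, Int.negSucc 0, Int.ofNat 1, Int.negSucc 0, Int.ofNat 1, Int.ofNat 1, Int.ofNat 1, Int.ofNat 1, Int.ofNat 1, Int.negSucc 0],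
  [Int.ofNat 0, Int.ofNat 0, Int.negSucc 1, Int.ofNat 0, Int.ofNat 0, Int.ofNat 0, Int.ofNat 0, Int.negSucc 1, Int.ofNat 0, Int.negSucc 1, Int.ofNat 2, Int.ofNat 0, Int.negSucc 1, Int.negSucc 1, Int.ofNat 2, Int.negSucc 1, Int.ofNat 0, Int.ofNat 0, Int.ofNat 0, Int.ofNat 0, Int.ofNat 0, Int.ofNat 0, Int.ofNat 0, Int.ofNat 0],
  [Int.ofNat 0, Int.ofNat 0, Int.ofNat 0, Int.ofNat 0, Int.negSucc 1, Int.ofNat 0, Int.ofNat 0, Int.ofNat 0, Int.ofNat 0, Int.negSucc 1, Int.negSucc 1, Int.ofNat 0, Int.ofNat 0, Int.negSucc 1, Int.ofNat 0, Int.negSucc 1, Int.negSucc 1, Int.ofNat 0, Int.ofNat 0, Int.ofNat 0, Int.ofNat 2, Int.ofNat 0, Int.ofNat 2, Int.ofNat 0],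
  [Int.ofNat 0, Int.ofNat 0, Int.ofNat 0, Int.ofNat 0, Int.ofNat 0, Int.ofNat 0, Int.ofNat 0, Int.ofNat 0, Int.ofNat 0, Int.ofNat 0, Int.ofNat 0, Int.ofNat 0, Int.ofNat 0, Int.ofNat 0, Int.ofNat 0, Int.ofNat 0, Int.ofNat 0, Int.ofNat 0, Int.ofNat 0, Int.ofNat 0, Int.ofNat 4, Int.ofNat 0, Int.ofNat 4, Int.ofNat 0],
  [Int.ofNat 4, Int.ofNat 0, Int.ofNat 4, Int.ofNat 0, Int.ofNat 0, Int.ofNat 0, Int.ofNat 0, Int.ofNat 0, Int.ofNat 0, Int.ofNat 0, Int.ofNat 0, Int.ofNat 0, Int.ofNat 0, Int.ofNat 0, Int.ofNat 0, Int.ofNat 0, Int.ofNat 0, Int.ofNat 0, Int.ofNat 0, Int.ofNat 0, Int.ofNat 0, Int.ofNat 0, Int.ofNat 0, Int.ofNat 0],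
  [Int.ofNat 0, Int.ofNat 4, Int.ofNat 0, Int.ofNat 0, Int.ofNat 0, Int.ofNat 0, Int.ofNat 0, Int.ofNat 0, Int.ofNat 0, Int.ofNat 0, Int.ofNat 0, Int.ofNat 0, Int.ofNat 0, Int.ofNat 0, Int.ofNat 0, Int.ofNat 0, Int.ofNat 0, Int.ofNat 0, Int.ofNat 0, Int.ofNat 0, Int.ofNat 0, Int.ofNat 0, Int.ofNat 0, Int.ofNat 4],
  [Int.ofNat 4, Int.ofNat 0, Int.ofNat 0, Int.ofNat 0, Int.ofNat 0, Int.ofNat 0, Int.ofNat 0, Int.ofNat 0, Int.ofNat 0, Int.ofNat 0, Int.ofNat 0, Int.ofNat 0, Int.ofNat 0, Int.ofNat 0, Int.ofNat 0, Int.ofNat 0, Int.ofNat 0, Int.ofNat 0, Int.ofNat 0, Int.ofNat 0, Int.ofNat 0, Int.ofNat 0, Int.ofNat 0, Int.ofNat 4],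
  [Int.negSucc 3, Int.ofNat 0, Int.ofNat 0, Int.ofNat 0, Int.ofNat 0, Int.ofNat 0, Int.ofNat 0, Int.ofNat 0, Int.ofNat 0, Int.ofNat 0, Int.ofNat 0, Int.ofNat 0, Int.ofNat 0, Int.ofNat 0, Int.ofNat 0, Int.ofNat 0, Int.ofNat 0, Int.ofNat 0, Int.ofNat 0, Int.ofNat 0, Int.ofNat 0, Int.ofNat 0, Int.ofNat 0, Int.ofNat 4],
  [Int.ofNat 4, Int.ofNat 0, Int.ofNat 0, Int.ofNat 0, Int.ofNat 0, Int.ofNat 0, Int.ofNat 0, Int.ofNat 0, Int.ofNat 0, Int.ofNat 0, Int.ofNat 0, Int.ofNat 0, Int.ofNat 0, Int.ofNat 0, Int.ofNat 0, Int.ofNat 0, Int.ofNat 0, Int.ofNat 0, Int.ofNat 0, Int.ofNat 0, Int.ofNat 0, Int.ofNat 0, Int.ofNat 0, Int.ofNat 4],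
  [Int.ofNat 4, Int.ofNat 0, Int.ofNat 0, Int.ofNat 0, Int.ofNat 0, Int.ofNat 0, Int.ofNat 0, Int.ofNat 0, Int.ofNat 0, Int.ofNat 0, Int.ofNat 0, Int.ofNat 0, Int.ofNat 0, Int.ofNat 0, Int.ofNat 0, Int.ofNat 0, Int.ofNat 0, Int.ofNat 0, Int.ofNat 0, Int.ofNat 0, Int.ofNat 0, Int.ofNat 0, Int.ofNat 0, Int.ofNat 4],
  [Int.negSucc 3, Int.ofNat 0, Int.ofNat 0, Int.ofNat 0, Int.ofNat 0, Int.ofNat 0, Int.ofNat 0, Int.ofNat 0, Int.ofNat 0, Int.ofNat 0, Int.ofNat 0, Int.ofNat 0, Int.ofNat 0, Int.ofNat 0, Int.ofNat 0, Int.ofNat 0, Int.ofNat 0, Int.ofNat 0, Int.ofNat 0, Int.ofNat 0, Int.ofNat 0, Int.ofNat 0, Int.ofNat 0, Int.ofNat 4],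
  [Int.ofNat 0, Int.negSucc 3, Int.ofNat 0, Int.ofNat 0, Int.ofNat 0, Int.ofNat 0, Int.ofNat 0, Int.ofNat 0, Int.ofNat 0, Int.ofNat 0, Int.ofNat 0, Int.ofNat 0, Int.ofNat 0, Int.ofNat 0, Int.ofNat 0, Int.ofNat 0, Int.ofNat 0, Int.ofNat 0, Int.ofNat 0, Int.ofNat 0, Int.ofNat 0, Int.ofNat 0, Int.ofNat 0, Int.ofNat 4],
  [Int.ofNat 0, Int.ofNat 4, Int.ofNat 0, Int.ofNat 0, Int.ofNat 0, Int.ofNat 0, Int.ofNat 0, Int.ofNat 0, Int.ofNat 0, Int.ofNat 0, Int.ofNat 0, Int.ofNat 0, Int.ofNat 0, Int.ofNat 0, Int.ofNat 0, Int.ofNat 0, Int.ofNat 0, Int.ofNat 0, Int.ofNat 0, Int.ofNat 0, Int.ofNat 0, Int.ofNat 0, Int.ofNat 0, Int.negSucc 3],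
  [Int.ofNat 0, Int.ofNat 0, Int.ofNat 0, Int.ofNat 0, Int.ofNat 0, Int.ofNat 0, Int.ofNat 0, Int.ofNat 0, Int.ofNat 0, Int.ofNat 0, Int.ofNat 0, Int.ofNat 0, Int.ofNat 0, Int.ofNat 0, Int.ofNat 0, Int.ofNat 0, Int.ofNat 0, Int.ofNat 0, Int.ofNat 0, Int.ofNat 0, Int.ofNat 0, Int.ofNat 4, Int.ofNat 0, Int.negSucc 3],
  [Int.negSucc 1, Int.negSucc 1, Int.negSucc 1, Int.ofNat 0, Int.ofNat 0, Int.ofNat 0, Int.negSucc 1, Int.negSucc 1, Int.ofNat 0, Int.ofNat 0, Int.ofNat 0, Int.ofNat 0, Int.ofNat 0, Int.ofNat 0, Int.ofNat 0, Int.ofNat 0, Int.ofNat 0, Int.ofNat 0, Int.ofNat 0, Int.negSucc 1, Int.ofNat 0, Int.ofNat 2, Int.ofNat 0, Int.ofNat 2],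
  [Int.negSucc 1, Int.negSucc 1, Int.ofNat 0, Int.ofNat 0, Int.ofNat 0, Int.negSucc 1, Int.negSucc 1, Int.ofNat 0, Int.ofNat 0, Int.ofNat 0, Int.ofNat 0, Int.ofNat 0, Int.ofNat 0, Int.ofNat 0, Int.ofNat 0, Int.ofNat 0, Int.ofNat 0, Int.ofNat 0, Int.negSucc 1, Int.ofNat 0, Int.ofNat 2, Int.ofNat 0, Int.negSucc 1, Int.ofNat 2],
  [Int.ofNat 1, Int.ofNat 1, Int.negSucc 0, Int.ofNat 1, Int.ofNat 1, Int.negSucc 0, Int.negSucc 0, Int.ofNat 1, Int.ofNat 1, Int.negSucc 0, Int.negSucc 0, Int.ofNat 1, Int.ofNat 1, Int.ofNat 1, Int.ofNat 1, Int.negSucc 0, Int.ofNat 1, Int.ofNat 1, Int.negSucc 0, Int.ofNat 1, Int.ofNat 1, Int.ofNat 1, Int.negSucc 0, Int.negSucc 2],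
  [Int.ofNat 1, Int.ofNat 1, Int.ofNat 1, Int.ofNat 1, Int.ofNat 1, Int.ofNat 1, Int.ofNat 1, Int.ofNat 1, Int.ofNat 1, Int.ofNat 1, Int.ofNat 1, Int.ofNat 1, Int.ofNat 1, Int.ofNat 1, Int.ofNat 1, Int.ofNat 1, Int.ofNat 1, Int.ofNat 1, Int.ofNat 1, Int.ofNat 1, Int.ofNat 1, Int.ofNat 1, Int.ofNat 1, Int.negSucc 2],
  [Int.ofNat 1, Int.ofNat 1, Int.ofNat 1, Int.ofNat 1, Int.ofNat 1, Int.ofNat 1, Int.ofNat 1, Int.ofNat 1, Int.ofNat 1, Int.ofNat 1, Int.ofNat 1, Int.ofNat 1, Int.ofNat 1, Int.ofNat 1, Int.ofNat 1, Int.ofNat 1, Int.ofNat 1, Int.ofNat 1, Int.ofNat 1, Int.ofNat 1, Int.ofNat 1, Int.ofNat 1, Int.ofNat 1, Int.negSucc 2],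
  [Int.negSucc 2, Int.ofNat 1, Int.ofNat 1, Int.ofNat 1, Int.ofNat 1, Int.ofNat 1, Int.ofNat 1, Int.ofNat 1, Int.ofNat 1, Int.ofNat 1, Int.ofNat 1, Int.ofNat 1, Int.ofNat 1, Int.ofNat 1, Int.ofNat 1, Int.ofNat 1, Int.ofNat 1, Int.ofNat 1, Int.ofNat 1, Int.ofNat 1, Int.ofNat 1, Int.ofNat 1, Int.ofNat 1, Int.ofNat 1],
  [Int.ofNat 3, Int.ofNat 1, Int.negSucc 0, Int.ofNat 1, Int.ofNat 1, Int.ofNat 1, Int.ofNat 1, Int.negSucc 0, Int.ofNat 1, Int.negSucc 0, Int.negSucc 0, Int.negSucc 0, Int.ofNat 1, Int.ofNat 1, Int.ofNat 1, Int.ofNat 1, Int.ofNat 1, Int.ofNat 1, Int.negSucc 0, Int.ofNat 1, Int.ofNat 1, Int.negSucc 0, Int.ofNat 1, Int.ofNat 1],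
  [Int.ofNat 1, Int.ofNat 3, Int.ofNat 1, Int.negSucc 0, Int.ofNat 1, Int.ofNat 1, Int.ofNat 1, Int.ofNat 1, Int.negSucc 0, Int.ofNat 1, Int.negSucc 0, Int.negSucc 0, Int.negSucc 0, Int.ofNat 1, Int.ofNat 1, Int.ofNat 1, Int.ofNat 1, Int.ofNat 1, Int.ofNat 1, Int.negSucc 0, Int.ofNat 1, Int.ofNat 1, Int.negSucc 0, Int.ofNat 1],
  [Int.ofNat 2, Int.ofNat 0, Int.ofNat 2, Int.negSucc 1, Int.ofNat 0, Int.ofNat 0, Int.ofNat 0, Int.ofNat 0, Int.ofNat 0, Int.ofNat 0, Int.negSucc 1, Int.ofNat 0, Int.ofNat 0, Int.ofNat 0, Int.ofNat 0, Int.ofNat 0, Int.ofNat 0, Int.ofNat 0, Int.ofNat 2, Int.negSucc 1, Int.ofNat 0, Int.ofNat 0, Int.negSucc 1, Int.ofNat 2],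
  [Int.negSucc 1, Int.ofNat 0, Int.ofNat 0, Int.ofNat 0, Int.ofNat 0, Int.ofNat 0, Int.ofNat 0, Int.negSucc 1, Int.ofNat 0, Int.ofNat 0, Int.ofNat 0, Int.ofNat 0, Int.ofNat 0, Int.ofNat 0, Int.ofNat 0, Int.ofNat 2, Int.negSucc 1, Int.ofNat 0, Int.ofNat 0, Int.negSucc 1, Int.ofNat 2, Int.ofNat 0, Int.ofNat 2, Int.ofNat 2],
  [Int.ofNat 2, Int.ofNat 0, Int.ofNat 0, Int.ofNat 0, Int.ofNat 0, Int.ofNat 0, Int.ofNat 2, Int.ofNat 0, Int.ofNat 0, Int.negSucc 1, Int.negSucc 1, Int.ofNat 0, Int.ofNat 0, Int.ofNat 0, Int.ofNat 0, Int.ofNat 0, Int.negSucc 1, Int.ofNat 0, Int.ofNat 0, Int.ofNat 0, Int.ofNat 0, Int.ofNat 2, Int.ofNat 2, Int.negSucc 1],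
  [Int.ofNat 2, Int.ofNat 2, Int.ofNat 0, Int.ofNat 0, Int.ofNat 0, Int.ofNat 0, Int.ofNat 0, Int.negSucc 1, Int.ofNat 0, Int.ofNat 0, Int.ofNat 0, Int.ofNat 0, Int.negSucc 1, Int.negSucc 1, Int.ofNat 2, Int.ofNat 0, Int.ofNat 0, Int.ofNat 0, Int.ofNat 0, Int.ofNat 0, Int.ofNat 2, Int.ofNat 0, Int.ofNat 0, Int.negSucc 1],
  [Int.negSucc 0, Int.negSucc 0, Int.ofNat 1, Int.negSucc 0, Int.ofNat 1, Int.negSucc 0, Int.ofNat 1, Int.negSucc 0, Int.ofNat 1, Int.negSucc 0, Int.negSucc 0, Int.ofNat 1, Int.negSucc 0, Int.negSucc 0, Int.ofNat 1, Int.negSucc 0, Int.ofNat 1, Int.negSucc 0, Int.ofNat 1, Int.ofNat 1, Int.ofNat 1, Int.ofNat 1, Int.ofNat 1, Int.ofNat 3],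
  [Int.negSucc 0, Int.negSucc 0, Int.negSucc 0, Int.negSucc 0, Int.ofNat 1, Int.ofNat 1, Int.negSucc 0, Int.negSucc 0, Int.ofNat 1, Int.ofNat 1, Int.ofNat 1, Int.ofNat 1, Int.negSucc 0, Int.negSucc 0, Int.ofNat 1, Int.ofNat 1, Int.ofNat 1, Int.negSucc 0, Int.negSucc 0, Int.ofNat 1, Int.ofNat 1, Int.ofNat 1, Int.negSucc 0, Int.ofNat 3],
  [Int.ofNat 1, Int.ofNat 1, Int.ofNat 1, Int.ofNat 1, Int.negSucc 0, Int.negSucc 0, Int.negSucc 0, Int.negSucc 0, Int.ofNat 1, Int.ofNat 1, Int.ofNat 1, Int.ofNat 1, Int.ofNat 1, Int.ofNat 1, Int.negSucc 0, Int.ofNat 1, Int.negSucc 0, Int.negSucc 0, Int.negSucc 0, Int.negSucc 0, Int.negSucc 0, Int.ofNat 1, Int.negSucc 0, Int.ofNat 3],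
  [Int.ofNat 1, Int.ofNat 1, Int.negSucc 0, Int.ofNat 1, Int.negSucc 0, Int.ofNat 1, Int.ofNat 1, Int.negSucc 0, Int.ofNat 1, Int.negSucc 0, Int.negSucc 0, Int.ofNat 1, Int.ofNat 1, Int.ofNat 1, Int.negSucc 0, Int.negSucc 0, Int.negSucc 0, Int.negSucc 0, Int.ofNat 1, Int.negSucc 0, Int.negSucc 0, Int.ofNat 1, Int.ofNat 1, Int.ofNat 3],
  [Int.ofNat 1, Int.ofNat 1, Int.ofNat 3, Int.ofNat 1, Int.negSucc 0, Int.ofNat 1, Int.ofNat 1, Int.negSucc 0, Int.negSucc 0, Int.ofNat 1, Int.ofNat 1, Int.negSucc 0, Int.negSucc 0, Int.ofNat 1, Int.negSucc 0, Int.ofNat 1, Int.negSucc 0, Int.negSucc 0, Int.negSucc 0, Int.negSucc 0, Int.ofNat 1, Int.ofNat 1, Int.ofNat 1, Int.negSucc 0],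
  [Int.ofNat 1, Int.negSucc 0, Int.ofNat 1, Int.ofNat 1, Int.ofNat 3, Int.ofNat 1, Int.ofNat 1, Int.ofNat 1, Int.negSucc 0, Int.negSucc 0, Int.negSucc 0, Int.negSucc 0, Int.negSucc 0, Int.ofNat 1, Int.negSucc 0, Int.ofNat 1, Int.ofNat 1, Int.negSucc 0, Int.negSucc 0, Int.ofNat 1, Int.ofNat 1, Int.ofNat 1, Int.negSucc 0, Int.negSucc 0],
  [Int.negSucc 0, Int.ofNat 1, Int.negSucc 0, Int.ofNat 1, Int.ofNat 1, Int.ofNat 1, Int.negSucc 0, Int.negSucc 0, Int.ofNat 1, Int.negSucc 0, Int.negSucc 0, Int.ofNat 1, Int.ofNat 1, Int.negSucc 0, Int.negSucc 0, Int.ofNat 1, Int.negSucc 0, Int.negSucc 0, Int.ofNat 1, Int.negSucc 0, Int.ofNat 1, Int.negSucc 0, Int.negSucc 2, Int.ofNat 1],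
  [Int.ofNat 1, Int.negSucc 0, Int.negSucc 2, Int.negSucc 0, Int.ofNat 1, Int.negSucc 0, Int.ofNat 1, Int.ofNat 1, Int.ofNat 1, Int.negSucc 0, Int.negSucc 0, Int.ofNat 1, Int.negSucc 0, Int.negSucc 0, Int.ofNat 1, Int.ofNat 1, Int.negSucc 0, Int.negSucc 0, Int.ofNat 1, Int.negSucc 0, Int.negSucc 0, Int.ofNat 1, Int.negSucc 0, Int.ofNat 1],
  [Int.negSucc 1, Int.ofNat 0, Int.ofNat 2, Int.ofNat 0, Int.ofNat 2, Int.ofNat 0, Int.ofNat 0, Int.ofNat 0, Int.ofNat 0, Int.ofNat 0, Int.ofNat 0, Int.ofNat 0, Int.negSucc 1, Int.ofNat 0, Int.ofNat 2, Int.ofNat 2, Int.ofNat 0, Int.ofNat 0, Int.ofNat 0, Int.negSucc 1, Int.ofNat 0, Int.ofNat 0, Int.ofNat 0, Int.negSucc 1],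
  [Int.ofNat 0, Int.ofNat 2, Int.ofNat 0, Int.ofNat 2, Int.ofNat 0, Int.ofNat 0, Int.ofNat 0, Int.ofNat 0, Int.ofNat 0, Int.ofNat 0, Int.ofNat 0, Int.negSucc 1, Int.ofNat 0, Int.ofNat 2, Int.ofNat 2, Int.ofNat 0, Int.ofNat 0, Int.ofNat 0, Int.negSucc 1, Int.ofNat 0, Int.ofNat 0, Int.ofNat 0, Int.negSucc 1, Int.negSucc 1],
  [Int.ofNat 0, Int.ofNat 2, Int.ofNat 0, Int.ofNat 2, Int.ofNat 0, Int.ofNat 0, Int.ofNat 0, Int.ofNat 0, Int.ofNat 0, Int.ofNat 0, Int.ofNat 0, Int.ofNat 2, Int.ofNat 0, Int.ofNat 2, Int.ofNat 2, Int.ofNat 0, Int.ofNat 0, Int.ofNat 0, Int.ofNat 2, Int.ofNat 0, Int.ofNat 0, Int.ofNat 0, Int.negSucc 1, Int.negSucc 1],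
  [Int.ofNat 0, Int.negSucc 1, Int.ofNat 0, Int.negSucc 1, Int.ofNat 0, Int.ofNat 0, Int.ofNat 0, Int.ofNat 0, Int.ofNat 0, Int.ofNat 0, Int.ofNat 0, Int.ofNat 2, Int.ofNat 0, Int.negSucc 1, Int.ofNat 2, Int.ofNat 0, Int.ofNat 0, Int.ofNat 0, Int.negSucc 1, Int.ofNat 0, Int.ofNat 0, Int.ofNat 0, Int.negSucc 1, Int.negSucc 1],
  [Int.ofNat 0, Int.ofNat 0, Int.negSucc 1, Int.negSucc 1, Int.negSucc 1, Int.ofNat 0, Int.ofNat 0, Int.ofNat 0, Int.ofNat 0, Int.ofNat 0, Int.ofNat 0, Int.ofNat 2, Int.negSucc 1, Int.ofNat 0, Int.ofNat 0, Int.ofNat 0, Int.ofNat 0, Int.negSucc 1, Int.ofNat 0, Int.ofNat 0, Int.ofNat 0, Int.ofNat 0, Int.ofNat 2, Int.negSucc 1],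
  [Int.ofNat 0, Int.ofNat 0, Int.ofNat 2, Int.negSucc 1, Int.negSucc 1, Int.ofNat 0, Int.ofNat 0, Int.ofNat 0, Int.ofNat 0, Int.ofNat 0, Int.ofNat 0, Int.negSucc 1, Int.negSucc 1, Int.ofNat 0, Int.ofNat 0, Int.ofNat 0, Int.ofNat 0, Int.negSucc 1, Int.ofNat 0, Int.ofNat 0, Int.ofNat 0, Int.ofNat 0, Int.ofNat 2, Int.negSucc 1],
  [Int.ofNat 2, Int.ofNat 0, Int.ofNat 0, Int.ofNat 2, Int.negSucc 1, Int.negSucc 1, Int.ofNat 0, Int.ofNat 0, Int.ofNat 0, Int.ofNat 0, Int.ofNat 0, Int.ofNat 0, Int.negSucc 1, Int.negSucc 1, Int.ofNat 0, Int.ofNat 0, Int.ofNat 0, Int.ofNat 0, Int.negSucc 1, Int.ofNat 0, Int.ofNat 0, Int.ofNat 0, Int.ofNat 0, Int.negSucc 1],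
  [Int.negSucc 1, Int.ofNat 0, Int.ofNat 0, Int.ofNat 2, Int.ofNat 0, Int.negSucc 1, Int.ofNat 0, Int.ofNat 0, Int.ofNat 2, Int.ofNat 0, Int.ofNat 0, Int.ofNat 2, Int.ofNat 0, Int.ofNat 0, Int.ofNat 0, Int.ofNat 0, Int.ofNat 2, Int.ofNat 0, Int.ofNat 0, Int.ofNat 0, Int.ofNat 0, Int.ofNat 0, Int.ofNat 2, Int.ofNat 2],
  [Int.ofNat 2, Int.ofNat 0, Int.negSucc 1, Int.ofNat 0, Int.ofNat 0, Int.ofNat 2, Int.ofNat 0, Int.ofNat 0, Int.ofNat 2, Int.ofNat 0, Int.ofNat 0, Int.ofNat 0, Int.ofNat 0, Int.ofNat 2, Int.ofNat 0, Int.ofNat 0, Int.ofNat 0, Int.ofNat 0, Int.ofNat 0, Int.ofNat 2, Int.negSucc 1, Int.ofNat 0, Int.ofNat 0, Int.ofNat 2],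
  [Int.negSucc 0, Int.ofNat 1, Int.ofNat 3, Int.negSucc 0, Int.negSucc 0, Int.ofNat 1, Int.negSucc 0, Int.negSucc 0, Int.ofNat 1, Int.ofNat 1, Int.ofNat 1, Int.negSucc 0, Int.negSucc 0, Int.ofNat 1, Int.negSucc 0, Int.ofNat 1, Int.negSucc 0, Int.negSucc 0, Int.negSucc 0, Int.ofNat 1, Int.negSucc 0, Int.negSucc 0, Int.negSucc 0, Int.negSucc 0],
  [Int.negSucc 0, Int.negSucc 0, Int.negSucc 0, Int.negSucc 0, Int.negSucc 0, Int.negSucc 0, Int.ofNat 3, Int.ofNat 1, Int.negSucc 0, Int.ofNat 1, Int.negSucc 0, Int.negSucc 0, Int.ofNat 1, Int.negSucc 0, Int.negSucc 0, Int.ofNat 1, Int.ofNat 1, Int.negSucc 0, Int.ofNat 1, Int.negSucc 0, Int.negSucc 0, Int.ofNat 1, Int.ofNat 1, Int.negSucc 0],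
  [Int.negSucc 0, Int.negSucc 0, Int.negSucc 0, Int.ofNat 1, Int.negSucc 0, Int.ofNat 1, Int.ofNat 1, Int.negSucc 0, Int.negSucc 0, Int.ofNat 1, Int.negSucc 0, Int.negSucc 0, Int.ofNat 1, Int.negSucc 0, Int.ofNat 1, Int.ofNat 1, Int.ofNat 1, Int.ofNat 1, Int.ofNat 1, Int.negSucc 2, Int.negSucc 0, Int.negSucc 0, Int.ofNat 1, Int.negSucc 0],
  [Int.negSucc 0, Int.negSucc 0, Int.ofNat 1, Int.ofNat 1, Int.negSucc 0, Int.negSucc 0, Int.negSucc 0, Int.negSucc 0, Int.negSucc 0, Int.negSucc 0, Int.ofNat 1, Int.negSucc 0, Int.ofNat 1, Int.negSucc 0, Int.ofNat 1, Int.negSucc 0, Int.ofNat 1, Int.ofNat 1, Int.negSucc 0, Int.negSucc 2, Int.negSucc 0, Int.negSucc 0, Int.negSucc 0, Int.negSucc 0],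
  [Int.ofNat 1, Int.ofNat 1, Int.negSucc 0, Int.negSucc 0, Int.ofNat 1, Int.negSucc 0, Int.negSucc 0, Int.ofNat 1, Int.negSucc 0, Int.negSucc 0, Int.negSucc 0, Int.negSucc 0, Int.negSucc 0, Int.negSucc 0, Int.ofNat 1, Int.negSucc 0, Int.negSucc 2, Int.ofNat 1, Int.negSucc 0, Int.ofNat 1, Int.negSucc 0, Int.negSucc 0, Int.negSucc 0, Int.negSucc 0],
  [Int.negSucc 0, Int.negSucc 0, Int.negSucc 0, Int.negSucc 0, Int.ofNat 1, Int.negSucc 0, Int.ofNat 1, Int.negSucc 0, Int.negSucc 0, Int.negSucc 0, Int.negSucc 2, Int.negSucc 0, Int.negSucc 0, Int.ofNat 1, Int.negSucc 0, Int.negSucc 0, Int.negSucc 0, Int.ofNat 1, Int.ofNat 1, Int.negSucc 0, Int.negSucc 0, Int.negSucc 0, Int.ofNat 1, Int.ofNat 1],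
  [Int.ofNat 1, Int.negSucc 0, Int.ofNat 1, Int.negSucc 0, Int.ofNat 1, Int.negSucc 0, Int.ofNat 1, Int.ofNat 1, Int.negSucc 0, Int.ofNat 1, Int.ofNat 3, Int.ofNat 1, Int.negSucc 0, Int.ofNat 1, Int.negSucc 0, Int.negSucc 0, Int.negSucc 0, Int.ofNat 1, Int.negSucc 0, Int.negSucc 0, Int.negSucc 0, Int.ofNat 1, Int.ofNat 1, Int.ofNat 1],
  [Int.ofNat 1, Int.ofNat 1, Int.negSucc 0, Int.ofNat 1, Int.negSucc 0, Int.ofNat 1, Int.negSucc 0, Int.ofNat 1, Int.ofNat 1, Int.negSucc 0, Int.ofNat 1, Int.ofNat 3, Int.ofNat 1, Int.negSucc 0, Int.ofNat 1, Int.negSucc 0, Int.negSucc 0, Int.negSucc 0, Int.ofNat 1, Int.negSucc 0, Int.negSucc 0, Int.negSucc 0, Int.ofNat 1, Int.ofNat 1],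
  [Int.ofNat 0, Int.ofNat 0, Int.ofNat 2, Int.ofNat 0, Int.ofNat 0, Int.ofNat 0, Int.ofNat 0, Int.ofNat 2, Int.negSucc 1, Int.ofNat 0, Int.ofNat 2, Int.ofNat 0, Int.negSucc 1, Int.ofNat 0, Int.ofNat 0, Int.ofNat 0, Int.ofNat 0, Int.negSucc 1, Int.negSucc 1, Int.ofNat 0, Int.ofNat 0, Int.ofNat 0, Int.ofNat 2, Int.ofNat 0],
  [Int.ofNat 0, Int.ofNat 0, Int.ofNat 0, Int.ofNat 0, Int.ofNat 2, Int.negSucc 1, Int.ofNat 0, Int.ofNat 2, Int.ofNat 0, Int.negSucc 1, Int.ofNat 0, Int.ofNat 0, Int.ofNat 0, Int.ofNat 0, Int.negSucc 1, Int.negSucc 1, Int.ofNat 0, Int.ofNat 0, Int.ofNat 0, Int.ofNat 2, Int.ofNat 0, Int.ofNat 0, Int.ofNat 2, Int.ofNat 0],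
  [Int.ofNat 0, Int.ofNat 0, Int.ofNat 0, Int.ofNat 2, Int.ofNat 0, Int.ofNat 0, Int.negSucc 1, Int.ofNat 0, Int.ofNat 0, Int.ofNat 0, Int.ofNat 2, Int.ofNat 0, Int.ofNat 0, Int.negSucc 1, Int.ofNat 0, Int.ofNat 0, Int.negSucc 1, Int.ofNat 2, Int.ofNat 0, Int.ofNat 0, Int.ofNat 2, Int.negSucc 1, Int.ofNat 0, Int.ofNat 0],
  [Int.ofNat 0, Int.negSucc 1, Int.ofNat 0, Int.ofNat 2, Int.ofNat 0, Int.ofNat 0, Int.ofNat 0, Int.ofNat 2, Int.ofNat 0, Int.negSucc 1, Int.ofNat 2, Int.ofNat 2, Int.ofNat 0, Int.negSucc 1, Int.ofNat 0, Int.ofNat 0, Int.ofNat 0, Int.ofNat 0, Int.ofNat 0, Int.ofNat 0, Int.negSucc 1, Int.ofNat 0, Int.ofNat 0, Int.ofNat 0],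
  [Int.negSucc 0, Int.ofNat 1, Int.negSucc 0, Int.ofNat 1, Int.ofNat 1, Int.negSucc 0, Int.negSucc 0, Int.ofNat 1, Int.negSucc 0, Int.negSucc 0, Int.ofNat 3, Int.ofNat 1, Int.negSucc 0, Int.negSucc 0, Int.negSucc 0, Int.ofNat 1, Int.ofNat 1, Int.negSucc 0, Int.negSucc 0, Int.negSucc 0, Int.negSucc 0, Int.negSucc 0, Int.ofNat 1, Int.negSucc 0],
  [Int.negSucc 0, Int.ofNat 1, Int.ofNat 1, Int.ofNat 1, Int.ofNat 1, Int.ofNat 1, Int.ofNat 1, Int.ofNat 1, Int.negSucc 0, Int.ofNat 1, Int.negSucc 2, Int.ofNat 1, Int.negSucc 0, Int.negSucc 0, Int.negSucc 0, Int.negSucc 0, Int.ofNat 1, Int.negSucc 0, Int.ofNat 1, Int.negSucc 0, Int.negSucc 0, Int.negSucc 0, Int.negSucc 0, Int.negSucc 0],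
  [Int.negSucc 0, Int.negSucc 0, Int.ofNat 1, Int.ofNat 1, Int.ofNat 1, Int.negSucc 0, Int.ofNat 1, Int.negSucc 0, Int.negSucc 0, Int.ofNat 1, Int.negSucc 0, Int.ofNat 1, Int.negSucc 2, Int.negSucc 0, Int.negSucc 0, Int.ofNat 1, Int.ofNat 1, Int.negSucc 0, Int.ofNat 1, Int.negSucc 0, Int.ofNat 1, Int.negSucc 0, Int.ofNat 1, Int.negSucc 0],
  [Int.negSucc 0, Int.negSucc 0, Int.negSucc 0, Int.ofNat 1, Int.ofNat 1, Int.ofNat 1, Int.negSucc 0, Int.negSucc 0, Int.negSucc 0, Int.negSucc 0, Int.ofNat 1, Int.ofNat 1, Int.negSucc 2, Int.negSucc 0, Int.negSucc 0, Int.negSucc 0, Int.ofNat 1, Int.negSucc 0, Int.negSucc 0, Int.negSucc 0, Int.ofNat 1, Int.negSucc 0, Int.negSucc 0, Int.negSucc 0],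
  [Int.negSucc 0, Int.negSucc 0, Int.negSucc 0, Int.ofNat 1, Int.ofNat 1, Int.ofNat 1, Int.ofNat 1, Int.ofNat 1, Int.ofNat 1, Int.negSucc 0, Int.ofNat 1, Int.ofNat 3, Int.negSucc 0, Int.negSucc 0, Int.negSucc 0, Int.negSucc 0, Int.ofNat 1, Int.negSucc 0, Int.ofNat 1, Int.ofNat 1, Int.ofNat 1, Int.ofNat 1, Int.negSucc 0, Int.negSucc 0],
  [Int.negSucc 0, Int.ofNat 1, Int.ofNat 1, Int.ofNat 1, Int.negSucc 0, Int.ofNat 1, Int.negSucc 0, Int.ofNat 1, Int.ofNat 1, Int.negSucc 0, Int.ofNat 1, Int.ofNat 1, Int.ofNat 1, Int.negSucc 0, Int.negSucc 0, Int.negSucc 0, Int.negSucc 0, Int.ofNat 3, Int.ofNat 1, Int.negSucc 0, Int.ofNat 1, Int.ofNat 1, Int.negSucc 0, Int.negSucc 0],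
  [Int.ofNat 1, Int.negSucc 0, Int.negSucc 0, Int.negSucc 0, Int.ofNat 1, Int.negSucc 0, Int.negSucc 0, Int.ofNat 1, Int.negSucc 0, Int.negSucc 0, Int.ofNat 1, Int.negSucc 0, Int.negSucc 0, Int.ofNat 1, Int.negSucc 2, Int.negSucc 0, Int.ofNat 1, Int.ofNat 1, Int.negSucc 0, Int.negSucc 0, Int.ofNat 1, Int.ofNat 1, Int.ofNat 1, Int.ofNat 1],
  [Int.ofNat 1, Int.ofNat 1, Int.ofNat 1, Int.ofNat 1, Int.negSucc 0, Int.negSucc 0, Int.negSucc 0, Int.ofNat 1, Int.negSucc 0, Int.negSucc 0, Int.ofNat 1, Int.negSucc 0, Int.negSucc 0, Int.ofNat 1, Int.negSucc 0, Int.negSucc 0, Int.ofNat 1, Int.negSucc 2, Int.negSucc 0, Int.ofNat 1, Int.ofNat 1, Int.negSucc 0, Int.negSucc 0, Int.ofNat 1],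
  [Int.ofNat 1, Int.ofNat 1, Int.ofNat 1, Int.ofNat 3, Int.negSucc 0, Int.ofNat 1, Int.negSucc 0, Int.ofNat 1, Int.ofNat 1, Int.negSucc 0, Int.ofNat 1, Int.ofNat 1, Int.ofNat 1, Int.ofNat 1, Int.ofNat 1, Int.negSucc 0, Int.ofNat 1, Int.negSucc 0, Int.ofNat 1, Int.ofNat 1, Int.ofNat 1, Int.negSucc 0, Int.negSucc 0, Int.ofNat 1],
  [Int.ofNat 1, Int.ofNat 1, Int.ofNat 3, Int.negSucc 0, Int.ofNat 1, Int.negSucc 0, Int.ofNat 1, Int.ofNat 1, Int.negSucc 0, Int.ofNat 1, Int.ofNat 1, Int.ofNat 1, Int.ofNat 1, Int.ofNat 1, Int.negSucc 0, Int.ofNat 1, Int.negSucc 0, Int.ofNat 1, Int.ofNat 1, Int.ofNat 1, Int.negSucc 0, Int.negSucc 0, Int.ofNat 1, Int.ofNat 1],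
  [Int.negSucc 0, Int.ofNat 1, Int.negSucc 2, Int.negSucc 0, Int.ofNat 1, Int.negSucc 0, Int.ofNat 1, Int.negSucc 0, Int.negSucc 0, Int.negSucc 0, Int.negSucc 0, Int.negSucc 0, Int.ofNat 1, Int.ofNat 1, Int.negSucc 0, Int.ofNat 1, Int.negSucc 0, Int.ofNat 1, Int.negSucc 0, Int.ofNat 1, Int.negSucc 0, Int.ofNat 1, Int.ofNat 1, Int.ofNat 1],
  [Int.ofNat 1, Int.negSucc 0, Int.ofNat 3, Int.ofNat 1, Int.negSucc 0, Int.negSucc 0, Int.negSucc 0, Int.negSucc 0, Int.ofNat 1, Int.ofNat 1, Int.negSucc 0, Int.negSucc 0, Int.negSucc 0, Int.negSucc 0, Int.negSucc 0, Int.ofNat 1, Int.ofNat 1, Int.ofNat 1, Int.ofNat 1, Int.ofNat 1, Int.negSucc 0, Int.ofNat 1, Int.ofNat 1, Int.ofNat 1],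
  [Int.ofNat 1, Int.ofNat 3, Int.ofNat 1, Int.ofNat 1, Int.negSucc 0, Int.negSucc 0, Int.negSucc 0, Int.negSucc 0, Int.ofNat 1, Int.ofNat 1, Int.ofNat 1, Int.negSucc 0, Int.negSucc 0, Int.ofNat 1, Int.ofNat 1, Int.ofNat 1, Int.negSucc 0, Int.ofNat 1, Int.negSucc 0, Int.ofNat 1, Int.negSucc 0, Int.negSucc 0, Int.negSucc 0, Int.ofNat 1],
  [Int.negSucc 0, Int.ofNat 3, Int.negSucc 0, Int.ofNat 1, Int.negSucc 0, Int.negSucc 0, Int.negSucc 0, Int.ofNat 1, Int.ofNat 1, Int.negSucc 0, Int.negSucc 0, Int.ofNat 1, Int.negSucc 0, Int.ofNat 1, Int.ofNat 1, Int.ofNat 1, Int.negSucc 0, Int.ofNat 1, Int.ofNat 1, Int.ofNat 1, Int.negSucc 0, Int.ofNat 1, Int.negSucc 0, Int.ofNat 1],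
  [Int.negSucc 0, Int.negSucc 0, Int.ofNat 3, Int.negSucc 0, Int.ofNat 1, Int.negSucc 0, Int.negSucc 0, Int.negSucc 0, Int.ofNat 1, Int.ofNat 1, Int.negSucc 0, Int.negSucc 0, Int.ofNat 1, Int.negSucc 0, Int.ofNat 1, Int.ofNat 1, Int.ofNat 1, Int.negSucc 0, Int.ofNat 1, Int.ofNat 1, Int.ofNat 1, Int.negSucc 0, Int.ofNat 1, Int.ofNat 1],
  [Int.ofNat 2, Int.ofNat 2, Int.negSucc 1, Int.ofNat 0, Int.ofNat 0, Int.ofNat 0, Int.ofNat 0, Int.ofNat 0, Int.ofNat 0, Int.ofNat 0, Int.negSucc 1, Int.negSucc 1, Int.ofNat 0, Int.negSucc 1, Int.ofNat 2, Int.ofNat 0, Int.ofNat 0, Int.ofNat 0, Int.ofNat 0, Int.ofNat 2, Int.ofNat 0, Int.ofNat 0, Int.ofNat 0, Int.ofNat 0],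
  [Int.ofNat 0, Int.ofNat 0, Int.ofNat 0, Int.ofNat 0, Int.ofNat 0, Int.ofNat 0, Int.ofNat 0, Int.negSucc 1, Int.negSucc 1, Int.ofNat 0, Int.negSucc 1, Int.ofNat 2, Int.ofNat 0, Int.ofNat 0, Int.ofNat 0, Int.ofNat 0, Int.ofNat 2, Int.ofNat 0, Int.ofNat 0, Int.ofNat 0, Int.ofNat 2, Int.ofNat 2, Int.negSucc 1, Int.ofNat 0],
  [Int.ofNat 0, Int.ofNat 0, Int.ofNat 0, Int.ofNat 0, Int.ofNat 0, Int.ofNat 0, Int.ofNat 0, Int.negSucc 1, Int.negSucc 1, Int.ofNat 0, Int.negSucc 1, Int.ofNat 2, Int.ofNat 0, Int.ofNat 0, Int.ofNat 0, Int.ofNat 0, Int.ofNat 2, Int.ofNat 0, Int.ofNat 0, Int.ofNat 0, Int.ofNat 2, Int.ofNat 2, Int.negSucc 1, Int.ofNat 0],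
  [Int.ofNat 0, Int.ofNat 0, Int.ofNat 0, Int.ofNat 0, Int.ofNat 0, Int.negSucc 1, Int.ofNat 0, Int.negSucc 1, Int.ofNat 0, Int.ofNat 0, Int.ofNat 2, Int.ofNat 0, Int.ofNat 0, Int.ofNat 2, Int.negSucc 1, Int.ofNat 0, Int.negSucc 1, Int.ofNat 0, Int.ofNat 0, Int.ofNat 2, Int.ofNat 2, Int.ofNat 0, Int.ofNat 0, Int.ofNat 0],
  [Int.ofNat 0, Int.ofNat 0, Int.ofNat 0, Int.ofNat 2, Int.ofNat 0, Int.ofNat 0, Int.ofNat 0, Int.negSucc 1, Int.ofNat 0, Int.negSucc 1, Int.ofNat 0, Int.ofNat 0, Int.ofNat 0, Int.ofNat 2, Int.ofNat 0, Int.negSucc 1, Int.negSucc 1, Int.ofNat 2, Int.ofNat 0, Int.ofNat 2, Int.ofNat 0, Int.ofNat 0, Int.ofNat 0, Int.ofNat 0],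
  [Int.ofNat 0, Int.ofNat 0, Int.ofNat 0, Int.ofNat 2, Int.ofNat 0, Int.ofNat 0, Int.ofNat 0, Int.negSucc 1, Int.ofNat 0, Int.ofNat 2, Int.ofNat 0, Int.ofNat 0, Int.ofNat 0, Int.ofNat 2, Int.ofNat 0, Int.ofNat 2, Int.negSucc 1, Int.ofNat 2, Int.ofNat 0, Int.ofNat 2, Int.ofNat 0, Int.ofNat 0, Int.ofNat 0, Int.ofNat 0],
  [Int.ofNat 0, Int.negSucc 1, Int.ofNat 0, Int.ofNat 0, Int.ofNat 0, Int.ofNat 0, Int.ofNat 0, Int.ofNat 2, Int.ofNat 0, Int.ofNat 0, Int.ofNat 2, Int.negSucc 1, Int.ofNat 2, Int.ofNat 0, Int.ofNat 2, Int.ofNat 0, Int.ofNat 2, Int.ofNat 0, Int.ofNat 2, Int.ofNat 0, Int.ofNat 0, Int.ofNat 0, Int.ofNat 0, Int.ofNat 0],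
  [Int.ofNat 0, Int.ofNat 0, Int.negSucc 1, Int.ofNat 0, Int.ofNat 0, Int.ofNat 0, Int.ofNat 0, Int.ofNat 0, Int.ofNat 0, Int.ofNat 0, Int.ofNat 2, Int.ofNat 0, Int.ofNat 0, Int.ofNat 2, Int.ofNat 2, Int.ofNat 0, Int.ofNat 2, Int.ofNat 0, Int.ofNat 2, Int.ofNat 0, Int.ofNat 0, Int.ofNat 2, Int.negSucc 1, Int.ofNat 0],
  [Int.ofNat 0, Int.ofNat 0, Int.ofNat 2, Int.ofNat 0, Int.ofNat 0, Int.ofNat 0, Int.ofNat 0, Int.ofNat 0, Int.ofNat 0, Int.ofNat 0, Int.negSucc 1, Int.ofNat 0, Int.ofNat 0, Int.ofNat 2, Int.ofNat 2, Int.ofNat 0, Int.ofNat 2, Int.ofNat 0, Int.negSucc 1, Int.ofNat 0, Int.ofNat 0, Int.negSucc 1, Int.negSucc 1, Int.ofNat 0],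
  [Int.negSucc 1, Int.ofNat 0, Int.ofNat 0, Int.ofNat 2, Int.ofNat 0, Int.ofNat 0, Int.ofNat 0, Int.ofNat 0, Int.ofNat 0, Int.ofNat 0, Int.ofNat 0, Int.negSucc 1, Int.ofNat 0, Int.ofNat 0, Int.ofNat 2, Int.ofNat 2, Int.ofNat 0, Int.ofNat 2, Int.ofNat 0, Int.negSucc 1, Int.ofNat 0, Int.ofNat 0, Int.negSucc 1, Int.ofNat 0],
  [Int.ofNat 1, Int.negSucc 0, Int.negSucc 0, Int.negSucc 0, Int.ofNat 1, Int.negSucc 2, Int.ofNat 1, Int.ofNat 1, Int.ofNat 1, Int.negSucc 0, Int.negSucc 0, Int.negSucc 0, Int.ofNat 1, Int.ofNat 1, Int.negSucc 0, Int.ofNat 1, Int.ofNat 1, Int.negSucc 0, Int.ofNat 1, Int.negSucc 0, Int.negSucc 0, Int.ofNat 1, Int.negSucc 0, Int.negSucc 0],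
  [Int.negSucc 0, Int.ofNat 1, Int.negSucc 2, Int.ofNat 1, Int.ofNat 1, Int.ofNat 1, Int.negSucc 0, Int.negSucc 0, Int.negSucc 0, Int.ofNat 1, Int.ofNat 1, Int.negSucc 0, Int.ofNat 1, Int.ofNat 1, Int.negSucc 0, Int.ofNat 1, Int.negSucc 0, Int.negSucc 0, Int.ofNat 1, Int.negSucc 0, Int.ofNat 1, Int.negSucc 0, Int.negSucc 0, Int.negSucc 0],
  [Int.negSucc 0, Int.negSucc 2, Int.ofNat 1, Int.ofNat 1, Int.ofNat 1, Int.ofNat 1, Int.ofNat 1, Int.ofNat 1, Int.negSucc 0, Int.negSucc 0, Int.negSucc 0, Int.negSucc 0, Int.ofNat 1, Int.ofNat 1, Int.negSucc 0, Int.negSucc 0, Int.negSucc 0, Int.negSucc 0, Int.ofNat 1, Int.ofNat 1, Int.negSucc 0, Int.ofNat 1, Int.negSucc 0, Int.negSucc 0],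
  [Int.negSucc 0, Int.ofNat 1, Int.ofNat 1, Int.ofNat 1, Int.ofNat 1, Int.ofNat 1, Int.ofNat 1, Int.negSucc 0, Int.ofNat 1, Int.ofNat 1, Int.negSucc 0, Int.negSucc 0, Int.negSucc 0, Int.negSucc 0, Int.negSucc 0, Int.negSucc 0, Int.negSucc 0, Int.negSucc 0, Int.negSucc 2, Int.negSucc 0, Int.ofNat 1, Int.ofNat 1, Int.ofNat 1, Int.negSucc 0],
  [Int.ofNat 1, Int.negSucc 0, Int.negSucc 0, Int.ofNat 1, Int.ofNat 1, Int.ofNat 1, Int.ofNat 1, Int.negSucc 0, Int.ofNat 3, Int.ofNat 1, Int.negSucc 0, Int.ofNat 1, Int.ofNat 1, Int.negSucc 0, Int.negSucc 0, Int.negSucc 0, Int.negSucc 0, Int.negSucc 0, Int.negSucc 0, Int.negSucc 0, Int.ofNat 1, Int.ofNat 1, Int.ofNat 1, Int.ofNat 1],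
  [Int.ofNat 1, Int.negSucc 0, Int.ofNat 1, Int.ofNat 1, Int.ofNat 1, Int.negSucc 0, Int.negSucc 0, Int.negSucc 0, Int.ofNat 3, Int.negSucc 0, Int.ofNat 1, Int.ofNat 1, Int.ofNat 1, Int.negSucc 0, Int.negSucc 0, Int.ofNat 1, Int.negSucc 0, Int.negSucc 0, Int.ofNat 1, Int.negSucc 0, Int.ofNat 1, Int.ofNat 1, Int.negSucc 0, Int.ofNat 1],
  [Int.ofNat 3, Int.negSucc 0, Int.ofNat 1, Int.ofNat 1, Int.ofNat 1, Int.negSucc 0, Int.negSucc 0, Int.ofNat 1, Int.ofNat 1, Int.negSucc 0, Int.ofNat 1, Int.negSucc 0, Int.ofNat 1, Int.negSucc 0, Int.negSucc 0, Int.negSucc 0, Int.ofNat 1, Int.ofNat 1, Int.negSucc 0, Int.negSucc 0, Int.ofNat 1, Int.ofNat 1, Int.negSucc 0, Int.ofNat 1],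
  [Int.ofNat 3, Int.negSucc 0, Int.negSucc 0, Int.ofNat 1, Int.ofNat 1, Int.ofNat 1, Int.ofNat 1, Int.ofNat 1, Int.ofNat 1, Int.ofNat 1, Int.negSucc 0, Int.negSucc 0, Int.ofNat 1, Int.negSucc 0, Int.negSucc 0, Int.ofNat 1, Int.ofNat 1, Int.ofNat 1, Int.ofNat 1, Int.negSucc 0, Int.ofNat 1, Int.ofNat 1, Int.ofNat 1, Int.ofNat 1],
  [Int.negSucc 1, Int.ofNat 2, Int.ofNat 2, Int.ofNat 0, Int.ofNat 0, Int.ofNat 0, Int.ofNat 0, Int.ofNat 0, Int.ofNat 0, Int.ofNat 0, Int.negSucc 1, Int.negSucc 1, Int.ofNat 0, Int.negSucc 1, Int.negSucc 1, Int.ofNat 0, Int.ofNat 0, Int.ofNat 0, Int.ofNat 0, Int.negSucc 1, Int.ofNat 0, Int.ofNat 0, Int.ofNat 0, Int.ofNat 0],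
  [Int.negSucc 1, Int.ofNat 0, Int.ofNat 0, Int.ofNat 0, Int.ofNat 2, Int.ofNat 0, Int.ofNat 2, Int.ofNat 0, Int.ofNat 0, Int.ofNat 0, Int.ofNat 0, Int.negSucc 1, Int.ofNat 0, Int.ofNat 0, Int.ofNat 0, Int.ofNat 0, Int.negSucc 1, Int.negSucc 1, Int.ofNat 0, Int.ofNat 0, Int.negSucc 1, Int.ofNat 0, Int.negSucc 1, Int.ofNat 0],
  [Int.ofNat 1, Int.negSucc 0, Int.negSucc 0, Int.ofNat 1, Int.ofNat 3, Int.ofNat 1, Int.ofNat 1, Int.negSucc 0, Int.ofNat 1, Int.ofNat 1, Int.ofNat 1, Int.negSucc 0, Int.ofNat 1, Int.ofNat 1, Int.ofNat 1, Int.ofNat 1, Int.negSucc 0, Int.negSucc 0, Int.ofNat 1, Int.negSucc 0, Int.negSucc 0, Int.negSucc 0, Int.negSucc 0, Int.negSucc 0],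
  [Int.negSucc 0, Int.negSucc 0, Int.negSucc 0, Int.ofNat 1, Int.negSucc 0, Int.negSucc 0, Int.ofNat 1, Int.ofNat 3, Int.ofNat 1, Int.ofNat 1, Int.negSucc 0, Int.ofNat 1, Int.ofNat 1, Int.ofNat 1, Int.negSucc 0, Int.ofNat 1, Int.ofNat 1, Int.ofNat 1, Int.ofNat 1, Int.negSucc 0, Int.negSucc 0, Int.ofNat 1, Int.negSucc 0, Int.negSucc 0],
  [Int.negSucc 0, Int.negSucc 0, Int.negSucc 0, Int.ofNat 1, Int.negSucc 0, Int.negSucc 0, Int.negSucc 0, Int.ofNat 1, Int.negSucc 0, Int.ofNat 1, Int.negSucc 0, Int.negSucc 0, Int.negSucc 0, Int.ofNat 1, Int.negSucc 0, Int.ofNat 1, Int.ofNat 1, Int.ofNat 1, Int.negSucc 0, Int.negSucc 2, Int.negSucc 0, Int.negSucc 0, Int.negSucc 0, Int.negSucc 0],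
  [Int.negSucc 0, Int.negSucc 0, Int.ofNat 1, Int.negSucc 0, Int.negSucc 0, Int.negSucc 0, Int.ofNat 1, Int.negSucc 0, Int.ofNat 1, Int.negSucc 0, Int.negSucc 0, Int.negSucc 0, Int.ofNat 1, Int.negSucc 0, Int.ofNat 1, Int.ofNat 1, Int.ofNat 1, Int.negSucc 0, Int.negSucc 2, Int.negSucc 0, Int.negSucc 0, Int.negSucc 0, Int.negSucc 0, Int.negSucc 0],
  [Int.ofNat 1, Int.negSucc 0, Int.negSucc 0, Int.negSucc 0, Int.negSucc 0, Int.negSucc 0, Int.ofNat 1, Int.ofNat 1, Int.ofNat 1, Int.ofNat 1, Int.ofNat 1, Int.ofNat 1, Int.ofNat 1, Int.negSucc 0, Int.ofNat 1, Int.ofNat 1, Int.ofNat 1, Int.negSucc 0, Int.ofNat 3, Int.negSucc 0, Int.negSucc 0, Int.ofNat 1, Int.negSucc 0, Int.negSucc 0],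
  [Int.negSucc 0, Int.ofNat 1, Int.ofNat 1, Int.ofNat 1, Int.ofNat 1, Int.negSucc 0, Int.negSucc 0, Int.ofNat 1, Int.negSucc 0, Int.negSucc 0, Int.ofNat 1, Int.ofNat 1, Int.negSucc 0, Int.ofNat 1, Int.ofNat 1, Int.ofNat 1, Int.negSucc 0, Int.negSucc 0, Int.negSucc 2, Int.negSucc 0, Int.negSucc 0, Int.ofNat 1, Int.negSucc 0, Int.negSucc 0],
  [Int.negSucc 0, Int.ofNat 1, Int.negSucc 2, Int.ofNat 1, Int.ofNat 1, Int.ofNat 1, Int.ofNat 1, Int.negSucc 0, Int.negSucc 0, Int.negSucc 0, Int.ofNat 1, Int.ofNat 1, Int.ofNat 1, Int.negSucc 0, Int.negSucc 0, Int.ofNat 1, Int.negSucc 0, Int.negSucc 0, Int.negSucc 0, Int.negSucc 0, Int.negSucc 0, Int.ofNat 1, Int.ofNat 1, Int.negSucc 0],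
  [Int.ofNat 1, Int.ofNat 1, Int.ofNat 3, Int.ofNat 1, Int.ofNat 1, Int.ofNat 1, Int.ofNat 1, Int.ofNat 1, Int.negSucc 0, Int.ofNat 1, Int.negSucc 0, Int.negSucc 0, Int.ofNat 1, Int.negSucc 0, Int.negSucc 0, Int.ofNat 1, Int.negSucc 0, Int.negSucc 0, Int.ofNat 1, Int.negSucc 0, Int.negSucc 0, Int.negSucc 0, Int.ofNat 1, Int.negSucc 0],
  [Int.ofNat 1, Int.ofNat 1, Int.ofNat 1, Int.ofNat 3, Int.ofNat 1, Int.ofNat 1, Int.ofNat 1, Int.ofNat 1, Int.ofNat 1, Int.negSucc 0, Int.ofNat 1, Int.negSucc 0, Int.negSucc 0, Int.ofNat 1, Int.negSucc 0, Int.negSucc 0, Int.ofNat 1, Int.negSucc 0, Int.negSucc 0, Int.ofNat 1, Int.negSucc 0, Int.negSucc 0, Int.negSucc 0, Int.negSucc 0],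
  [Int.ofNat 0, Int.ofNat 0, Int.ofNat 0, Int.ofNat 2, Int.ofNat 0, Int.ofNat 0, Int.ofNat 0, Int.ofNat 0, Int.ofNat 2, Int.ofNat 0, Int.ofNat 2, Int.ofNat 0, Int.ofNat 0, Int.ofNat 0, Int.negSucc 1, Int.ofNat 0, Int.ofNat 0, Int.negSucc 1, Int.ofNat 0, Int.ofNat 0, Int.ofNat 0, Int.negSucc 1, Int.negSucc 1, Int.ofNat 2],
  [Int.ofNat 2, Int.ofNat 0, Int.ofNat 0, Int.ofNat 0, Int.ofNat 0, Int.ofNat 2, Int.ofNat 0, Int.ofNat 2, Int.ofNat 0, Int.ofNat 0, Int.ofNat 0, Int.negSucc 1, Int.ofNat 0, Int.ofNat 0, Int.negSucc 1, Int.ofNat 0, Int.ofNat 0, Int.ofNat 0, Int.negSucc 1, Int.negSucc 1, Int.ofNat 0, Int.ofNat 0, Int.ofNat 0, Int.ofNat 2],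
  [Int.ofNat 0, Int.ofNat 2, Int.ofNat 2, Int.ofNat 0, Int.ofNat 0, Int.ofNat 2, Int.ofNat 0, Int.ofNat 2, Int.ofNat 2, Int.ofNat 0, Int.ofNat 0, Int.ofNat 0, Int.ofNat 2, Int.ofNat 0, Int.negSucc 1, Int.ofNat 0, Int.ofNat 0, Int.ofNat 0, Int.ofNat 0, Int.negSucc 1, Int.ofNat 0, Int.ofNat 0, Int.ofNat 0, Int.ofNat 0],
  [Int.ofNat 0, Int.ofNat 0, Int.ofNat 0, Int.ofNat 0, Int.ofNat 0, Int.ofNat 2, Int.ofNat 2, Int.ofNat 0, Int.ofNat 2, Int.ofNat 0, Int.ofNat 0, Int.ofNat 0, Int.ofNat 0, Int.ofNat 0, Int.ofNat 0, Int.ofNat 0, Int.ofNat 2, Int.negSucc 1, Int.ofNat 2, Int.ofNat 0, Int.ofNat 0, Int.ofNat 2, Int.negSucc 1, Int.ofNat 0],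
  [Int.ofNat 0, Int.ofNat 0, Int.ofNat 0, Int.ofNat 0, Int.ofNat 0, Int.ofNat 2, Int.ofNat 0, Int.negSucc 1, Int.ofNat 0, Int.ofNat 0, Int.ofNat 0, Int.negSucc 1, Int.negSucc 1, Int.ofNat 0, Int.ofNat 0, Int.ofNat 0, Int.ofNat 2, Int.negSucc 1, Int.ofNat 0, Int.negSucc 1, Int.ofNat 0, Int.ofNat 0, Int.negSucc 1, Int.ofNat 0],
  [Int.ofNat 0, Int.ofNat 0, Int.ofNat 0, Int.ofNat 0, Int.ofNat 0, Int.negSucc 1, Int.ofNat 0, Int.negSucc 1, Int.ofNat 0, Int.ofNat 0, Int.ofNat 0, Int.negSucc 1, Int.negSucc 1, Int.ofNat 0, Int.ofNat 0, Int.ofNat 0, Int.ofNat 2, Int.negSucc 1, Int.ofNat 0, Int.negSucc 1, Int.ofNat 0, Int.ofNat 0, Int.ofNat 2, Int.ofNat 0],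
  [Int.ofNat 0, Int.ofNat 2, Int.negSucc 1, Int.ofNat 0, Int.ofNat 0, Int.ofNat 0, Int.ofNat 0, Int.ofNat 0, Int.negSucc 1, Int.ofNat 0, Int.ofNat 0, Int.negSucc 1, Int.ofNat 0, Int.ofNat 0, Int.negSucc 1, Int.ofNat 0, Int.negSucc 1, Int.negSucc 1, Int.ofNat 0, Int.ofNat 0, Int.ofNat 0, Int.ofNat 0, Int.ofNat 2, Int.ofNat 0],
  [Int.ofNat 0, Int.ofNat 2, Int.negSucc 1, Int.ofNat 0, Int.negSucc 1, Int.ofNat 0, Int.ofNat 0, Int.ofNat 0, Int.ofNat 0, Int.ofNat 0, Int.negSucc 1, Int.negSucc 1, Int.ofNat 0, Int.ofNat 0, Int.ofNat 0, Int.ofNat 0, Int.ofNat 0, Int.ofNat 0, Int.negSucc 1, Int.ofNat 0, Int.negSucc 1, Int.ofNat 0, Int.ofNat 2, Int.ofNat 0],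
  [Int.ofNat 0, Int.ofNat 2, Int.ofNat 2, Int.ofNat 0, Int.negSucc 1, Int.ofNat 0, Int.ofNat 0, Int.ofNat 0, Int.ofNat 0, Int.ofNat 0, Int.ofNat 2, Int.ofNat 2, Int.ofNat 0, Int.ofNat 0, Int.ofNat 0, Int.ofNat 0, Int.ofNat 0, Int.ofNat 0, Int.ofNat 2, Int.ofNat 0, Int.negSucc 1, Int.ofNat 0, Int.ofNat 2, Int.ofNat 0],
  [Int.ofNat 2, Int.ofNat 0, Int.ofNat 2, Int.ofNat 2, Int.ofNat 0, Int.negSucc 1, Int.ofNat 0, Int.ofNat 0, Int.ofNat 0, Int.ofNat 0, Int.ofNat 0, Int.ofNat 2, Int.ofNat 2, Int.ofNat 0, Int.ofNat 0, Int.ofNat 0, Int.ofNat 0, Int.ofNat 0, Int.ofNat 0, Int.ofNat 2, Int.ofNat 0, Int.negSucc 1, Int.ofNat 0, Int.ofNat 0],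
  [Int.ofNat 0, Int.ofNat 2, Int.ofNat 0, Int.ofNat 2, Int.ofNat 0, Int.negSucc 1, Int.ofNat 0, Int.ofNat 0, Int.negSucc 1, Int.ofNat 0, Int.ofNat 0, Int.ofNat 0, Int.ofNat 0, Int.ofNat 0, Int.ofNat 0, Int.ofNat 0, Int.ofNat 0, Int.ofNat 0, Int.negSucc 1, Int.ofNat 2, Int.ofNat 0, Int.negSucc 1, Int.ofNat 0, Int.ofNat 2],
  [Int.ofNat 2, Int.ofNat 0, Int.negSucc 1, Int.ofNat 0, Int.ofNat 0, Int.negSucc 1, Int.ofNat 0, Int.ofNat 0, Int.ofNat 0, Int.ofNat 0, Int.ofNat 0, Int.ofNat 0, Int.ofNat 0, Int.ofNat 0, Int.ofNat 0, Int.negSucc 1, Int.ofNat 2, Int.ofNat 0, Int.negSucc 1, Int.ofNat 0, Int.ofNat 0, Int.ofNat 2, Int.ofNat 0, Int.ofNat 2],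
  [Int.negSucc 0, Int.ofNat 1, Int.ofNat 3, Int.ofNat 1, Int.negSucc 0, Int.negSucc 0, Int.negSucc 0, Int.negSucc 0, Int.ofNat 1, Int.ofNat 1, Int.ofNat 1, Int.ofNat 1, Int.ofNat 1, Int.negSucc 0, Int.ofNat 1, Int.negSucc 0, Int.ofNat 1, Int.ofNat 1, Int.negSucc 0, Int.negSucc 0, Int.ofNat 1, Int.ofNat 1, Int.negSucc 0, Int.negSucc 0],
  [Int.negSucc 0, Int.negSucc 0, Int.negSucc 0, Int.ofNat 1, Int.negSucc 0, Int.negSucc 0, Int.ofNat 3, Int.ofNat 1, Int.ofNat 1, Int.negSucc 0, Int.ofNat 1, Int.ofNat 1, Int.ofNat 1, Int.ofNat 1, Int.negSucc 0, Int.negSucc 0, Int.ofNat 1, Int.ofNat 1, Int.ofNat 1, Int.ofNat 1, Int.ofNat 1, Int.negSucc 0, Int.negSucc 0, Int.negSucc 0],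
  [Int.negSucc 0, Int.negSucc 0, Int.negSucc 0, Int.ofNat 1, Int.negSucc 0, Int.negSucc 0, Int.ofNat 1, Int.negSucc 0, Int.negSucc 0, Int.negSucc 0, Int.ofNat 1, Int.negSucc 0, Int.negSucc 0, Int.ofNat 1, Int.negSucc 0, Int.negSucc 0, Int.ofNat 1, Int.ofNat 1, Int.negSucc 0, Int.negSucc 0, Int.ofNat 1, Int.negSucc 2, Int.negSucc 0, Int.negSucc 0],
  [Int.negSucc 0, Int.negSucc 0, Int.ofNat 1, Int.ofNat 1, Int.negSucc 0, Int.ofNat 1, Int.negSucc 0, Int.negSucc 0, Int.negSucc 0, Int.ofNat 1, Int.negSucc 0, Int.negSucc 0, Int.negSucc 0, Int.ofNat 1, Int.negSucc 0, Int.ofNat 1, Int.ofNat 1, Int.ofNat 1, Int.ofNat 1, Int.negSucc 0, Int.ofNat 1, Int.negSucc 2, Int.ofNat 1, Int.negSucc 0],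
  [Int.negSucc 0, Int.negSucc 0, Int.negSucc 0, Int.negSucc 0, Int.ofNat 1, Int.ofNat 1, Int.negSucc 0, Int.negSucc 0, Int.ofNat 1, Int.ofNat 1, Int.negSucc 2, Int.ofNat 1, Int.negSucc 0, Int.negSucc 0, Int.ofNat 1, Int.ofNat 1, Int.ofNat 1, Int.negSucc 0, Int.negSucc 0, Int.ofNat 1, Int.ofNat 1, Int.ofNat 1, Int.negSucc 0, Int.negSucc 0],
  [Int.negSucc 0, Int.negSucc 0, Int.ofNat 1, Int.negSucc 0, Int.ofNat 1, Int.negSucc 0, Int.ofNat 1, Int.negSucc 0, Int.ofNat 1, Int.negSucc 0, Int.ofNat 3, Int.ofNat 1, Int.negSucc 0, Int.negSucc 0, Int.ofNat 1, Int.negSucc 0, Int.ofNat 1, Int.negSucc 0, Int.ofNat 1, Int.ofNat 1, Int.ofNat 1, Int.ofNat 1, Int.ofNat 1, Int.negSucc 0],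
  [Int.ofNat 0, Int.ofNat 0, Int.negSucc 1, Int.ofNat 0, Int.ofNat 0, Int.ofNat 0, Int.ofNat 0, Int.negSucc 1, Int.ofNat 0, Int.negSucc 1, Int.ofNat 2, Int.ofNat 0, Int.negSucc 1, Int.negSucc 1, Int.ofNat 2, Int.negSucc 1, Int.ofNat 0, Int.ofNat 0, Int.ofNat 0, Int.ofNat 0, Int.ofNat 0, Int.ofNat 0, Int.ofNat 0, Int.ofNat 0],
  [Int.ofNat 0, Int.ofNat 0, Int.ofNat 0, Int.ofNat 0, Int.negSucc 1, Int.ofNat 0, Int.ofNat 0, Int.ofNat 0, Int.ofNat 0, Int.negSucc 1, Int.negSucc 1, Int.ofNat 0, Int.ofNat 0, Int.negSucc 1, Int.ofNat 0, Int.negSucc 1, Int.negSucc 1, Int.ofNat 0, Int.ofNat 0, Int.ofNat 0, Int.ofNat 2, Int.ofNat 0, Int.ofNat 2, Int.ofNat 0],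
  [Int.ofNat 0, Int.ofNat 0, Int.ofNat 0, Int.ofNat 0, Int.ofNat 0, Int.ofNat 0, Int.ofNat 0, Int.ofNat 0, Int.ofNat 0, Int.ofNat 0, Int.ofNat 0, Int.ofNat 0, Int.ofNat 0, Int.ofNat 0, Int.ofNat 0, Int.ofNat 0, Int.ofNat 0, Int.ofNat 0, Int.ofNat 0, Int.ofNat 0, Int.ofNat 4, Int.ofNat 0, Int.ofNat 4, Int.ofNat 0],
  [Int.ofNat 4, Int.ofNat 0, Int.ofNat 4, Int.ofNat 0, Int.ofNat 0, Int.ofNat 0, Int.ofNat 0, Int.ofNat 0, Int.ofNat 0, Int.ofNat 0, Int.ofNat 0, Int.ofNat 0, Int.ofNat 0, Int.ofNat 0, Int.ofNat 0, Int.ofNat 0, Int.ofNat 0, Int.ofNat 0, Int.ofNat 0, Int.ofNat 0, Int.ofNat 0, Int.ofNat 0, Int.ofNat 0, Int.ofNat 0],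
  [Int.ofNat 0, Int.ofNat 4, Int.ofNat 0, Int.ofNat 0, Int.ofNat 0, Int.ofNat 0, Int.ofNat 0, Int.ofNat 0, Int.ofNat 0, Int.ofNat 0, Int.ofNat 0, Int.ofNat 0, Int.ofNat 0, Int.ofNat 0, Int.ofNat 0, Int.ofNat 0, Int.ofNat 0, Int.ofNat 0, Int.ofNat 0, Int.ofNat 0, Int.ofNat 0, Int.ofNat 0, Int.ofNat 0, Int.ofNat 4],
  [Int.ofNat 4, Int.ofNat 0, Int.ofNat 0, Int.ofNat 0, Int.ofNat 0, Int.ofNat 0, Int.ofNat 0, Int.ofNat 0, Int.ofNat 0, Int.ofNat 0, Int.ofNat 0, Int.ofNat 0, Int.ofNat 0, Int.ofNat 0, Int.ofNat 0, Int.ofNat 0, Int.ofNat 0, Int.ofNat 0, Int.ofNat 0, Int.ofNat 0, Int.ofNat 0, Int.ofNat 0, Int.ofNat 0, Int.ofNat 4],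
  [Int.negSucc 3, Int.ofNat 0, Int.ofNat 0, Int.ofNat 0, Int.ofNat 0, Int.ofNat 0, Int.ofNat 0, Int.ofNat 0, Int.ofNat 0, Int.ofNat 0, Int.ofNat 0, Int.ofNat 0, Int.ofNat 0, Int.ofNat 0, Int.ofNat 0, Int.ofNat 0, Int.ofNat 0, Int.ofNat 0, Int.ofNat 0, Int.ofNat 0, Int.ofNat 0, Int.ofNat 0, Int.ofNat 0, Int.ofNat 4],
  [Int.ofNat 4, Int.ofNat 0, Int.ofNat 0, Int.ofNat 0, Int.ofNat 0, Int.ofNat 0, Int.ofNat 0, Int.ofNat 0, Int.ofNat 0, Int.ofNat 0, Int.ofNat 0, Int.ofNat 0, Int.ofNat 0, Int.ofNat 0, Int.ofNat 0, Int.ofNat 0, Int.ofNat 0, Int.ofNat 0, Int.ofNat 0, Int.ofNat 0, Int.ofNat 0, Int.ofNat 0, Int.ofNat 0, Int.ofNat 4],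
  [Int.ofNat 4, Int.ofNat 0, Int.ofNat 0, Int.ofNat 0, Int.ofNat 0, Int.ofNat 0, Int.ofNat 0, Int.ofNat 0, Int.ofNat 0, Int.ofNat 0, Int.ofNat 0, Int.ofNat 0, Int.ofNat 0, Int.ofNat 0, Int.ofNat 0, Int.ofNat 0, Int.ofNat 0, Int.ofNat 0, Int.ofNat 0, Int.ofNat 0, Int.ofNat 0, Int.ofNat 0, Int.ofNat 0, Int.ofNat 4],
  [Int.negSucc 3, Int.ofNat 0, Int.ofNat 0, Int.ofNat 0, Int.ofNat 0, Int.ofNat 0, Int.ofNat 0, Int.ofNat 0, Int.ofNat 0, Int.ofNat 0, Int.ofNat 0, Int.ofNat 0, Int.ofNat 0, Int.ofNat 0, Int.ofNat 0, Int.ofNat 0, Int.ofNat 0, Int.ofNat 0, Int.ofNat 0, Int.ofNat 0, Int.ofNat 0, Int.ofNat 0, Int.ofNat 0, Int.ofNat 4],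
  [Int.ofNat 0, Int.negSucc 3, Int.ofNat 0, Int.ofNat 0, Int.ofNat 0, Int.ofNat 0, Int.ofNat 0, Int.ofNat 0, Int.ofNat 0, Int.ofNat 0, Int.ofNat 0, Int.ofNat 0, Int.ofNat 0, Int.ofNat 0, Int.ofNat 0, Int.ofNat 0, Int.ofNat 0, Int.ofNat 0, Int.ofNat 0, Int.ofNat 0, Int.ofNat 0, Int.ofNat 0, Int.ofNat 0, Int.ofNat 4],
  [Int.ofNat 0, Int.ofNat 4, Int.ofNat 0, Int.ofNat 0, Int.ofNat 0, Int.ofNat 0, Int.ofNat 0, Int.ofNat 0, Int.ofNat 0, Int.ofNat 0, Int.ofNat 0, Int.ofNat 0, Int.ofNat 0, Int.ofNat 0, Int.ofNat 0, Int.ofNat 0, Int.ofNat 0, Int.ofNat 0, Int.ofNat 0, Int.ofNat 0, Int.ofNat 0, Int.ofNat 0, Int.ofNat 0, Int.negSucc 3],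
  [Int.ofNat 0, Int.ofNat 0, Int.ofNat 0, Int.ofNat 0, Int.ofNat 0, Int.ofNat 0, Int.ofNat 0, Int.ofNat 0, Int.ofNat 0, Int.ofNat 0, Int.ofNat 0, Int.ofNat 0, Int.ofNat 0, Int.ofNat 0, Int.ofNat 0, Int.ofNat 0, Int.ofNat 0, Int.ofNat 0, Int.ofNat 0, Int.ofNat 0, Int.ofNat 0, Int.ofNat 4, Int.ofNat 0, Int.negSucc 3],
  [Int.negSucc 1, Int.negSucc 1, Int.negSucc 1, Int.ofNat 0, Int.ofNat 0, Int.ofNat 0, Int.negSucc 1, Int.negSucc 1, Int.ofNat 0, Int.ofNat 0, Int.ofNat 0, Int.ofNat 0, Int.ofNat 0, Int.ofNat 0, Int.ofNat 0, Int.ofNat 0, Int.ofNat 0, Int.ofNat 0, Int.ofNat 0, Int.negSucc 1, Int.ofNat 0, Int.ofNat 2, Int.ofNat 0, Int.ofNat 2],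
  [Int.negSucc 1, Int.negSucc 1, Int.ofNat 0, Int.ofNat 0, Int.ofNat 0, Int.negSucc 1, Int.negSucc 1, Int.ofNat 0, Int.ofNat 0, Int.ofNat 0, Int.ofNat 0, Int.ofNat 0, Int.ofNat 0, Int.ofNat 0, Int.ofNat 0, Int.ofNat 0, Int.ofNat 0, Int.ofNat 0, Int.negSucc 1, Int.ofNat 0, Int.ofNat 2, Int.ofNat 0, Int.negSucc 1, Int.ofNat 2],
  [Int.ofNat 1, Int.ofNat 1, Int.negSucc 0, Int.ofNat 1, Int.ofNat 1, Int.negSucc 0, Int.negSucc 0, Int.ofNat 1, Int.ofNat 1, Int.negSucc 0, Int.negSucc 0, Int.ofNat 1, Int.ofNat 1, Int.ofNat 1, Int.ofNat 1, Int.negSucc 0, Int.ofNat 1, Int.ofNat 1, Int.negSucc 0, Int.ofNat 1, Int.ofNat 1, Int.ofNat 1, Int.negSucc 0, Int.negSucc 2],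
  [Int.ofNat 1, Int.ofNat 1, Int.ofNat 1, Int.ofNat 1, Int.ofNat 1, Int.ofNat 1, Int.ofNat 1, Int.ofNat 1, Int.ofNat 1, Int.ofNat 1, Int.ofNat 1, Int.ofNat 1, Int.ofNat 1, Int.ofNat 1, Int.ofNat 1, Int.ofNat 1, Int.ofNat 1, Int.ofNat 1, Int.ofNat 1, Int.ofNat 1, Int.ofNat 1, Int.ofNat 1, Int.ofNat 1, Int.negSucc 2],
  [Int.ofNat 1, Int.ofNat 1, Int.ofNat 1, Int.ofNat 1, Int.ofNat 1, Int.ofNat 1, Int.ofNat 1, Int.ofNat 1, Int.ofNat 1, Int.ofNat 1, Int.ofNat 1, Int.ofNat 1, Int.ofNat 1, Int.ofNat 1, Int.ofNat 1, Int.ofNat 1, Int.ofNat 1, Int.ofNat 1, Int.ofNat 1, Int.ofNat 1, Int.ofNat 1, Int.ofNat 1, Int.ofNat 1, Int.negSucc 2],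
  [Int.negSucc 2, Int.ofNat 1, Int.ofNat 1, Int.ofNat 1, Int.ofNat 1, Int.ofNat 1, Int.ofNat 1, Int.ofNat 1, Int.ofNat 1, Int.ofNat 1, Int.ofNat 1, Int.ofNat 1, Int.ofNat 1, Int.ofNat 1, Int.ofNat 1, Int.ofNat 1, Int.ofNat 1, Int.ofNat 1, Int.ofNat 1, Int.ofNat 1, Int.ofNat 1, Int.ofNat 1, Int.ofNat 1, Int.ofNat 1],
  [Int.ofNat 3, Int.ofNat 1, Int.negSucc 0, Int.ofNat 1, Int.ofNat 1, Int.ofNat 1, Int.ofNat 1, Int.negSucc 0, Int.ofNat 1, Int.negSucc 0, Int.negSucc 0, Int.negSucc 0, Int.ofNat 1, Int.ofNat 1, Int.ofNat 1, Int.ofNat 1, Int.ofNat 1, Int.ofNat 1, Int.negSucc 0, Int.ofNat 1, Int.ofNat 1, Int.negSucc 0, Int.ofNat 1, Int.ofNat 1],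
  [Int.ofNat 1, Int.ofNat 3, Int.ofNat 1, Int.negSucc 0, Int.ofNat 1, Int.ofNat 1, Int.ofNat 1, Int.ofNat 1, Int.negSucc 0, Int.ofNat 1, Int.negSucc 0, Int.negSucc 0, Int.negSucc 0, Int.ofNat 1, Int.ofNat 1, Int.ofNat 1, Int.ofNat 1, Int.ofNat 1, Int.ofNat 1, Int.negSucc 0, Int.ofNat 1, Int.ofNat 1, Int.negSucc 0, Int.ofNat 1],
  [Int.ofNat 2, Int.ofNat 0, Int.ofNat 2, Int.negSucc 1, Int.ofNat 0, Int.ofNat 0, Int.ofNat 0, Int.ofNat 0, Int.ofNat 0, Int.ofNat 0, Int.negSucc 1, Int.ofNat 0, Int.ofNat 0, Int.ofNat 0, Int.ofNat 0, Int.ofNat 0, Int.ofNat 0, Int.ofNat 0, Int.ofNat 2, Int.negSucc 1, Int.ofNat 0, Int.ofNat 0, Int.negSucc 1, Int.ofNat 2],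
  [Int.negSucc 1, Int.ofNat 0, Int.ofNat 0, Int.ofNat 0, Int.ofNat 0, Int.ofNat 0, Int.ofNat 0, Int.negSucc 1, Int.ofNat 0, Int.ofNat 0, Int.ofNat 0, Int.ofNat 0, Int.ofNat 0, Int.ofNat 0, Int.ofNat 0, Int.ofNat 2, Int.negSucc 1, Int.ofNat 0, Int.ofNat 0, Int.negSucc 1, Int.ofNat 2, Int.ofNat 0, Int.ofNat 2, Int.ofNat 2],
  [Int.ofNat 2, Int.ofNat 0, Int.ofNat 0, Int.ofNat 0, Int.ofNat 0, Int.ofNat 0, Int.ofNat 2, Int.ofNat 0, Int.ofNat 0, Int.negSucc 1, Int.negSucc 1, Int.ofNat 0, Int.ofNat 0, Int.ofNat 0, Int.ofNat 0, Int.ofNat 0, Int.negSucc 1, Int.ofNat 0, Int.ofNat 0, Int.ofNat 0, Int.ofNat 0, Int.ofNat 2, Int.ofNat 2, Int.negSucc 1],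
  [Int.ofNat 2, Int.ofNat 2, Int.ofNat 0, Int.ofNat 0, Int.ofNat 0, Int.ofNat 0, Int.ofNat 0, Int.negSucc 1, Int.ofNat 0, Int.ofNat 0, Int.ofNat 0, Int.ofNat 0, Int.negSucc 1, Int.negSucc 1, Int.ofNat 2, Int.ofNat 0, Int.ofNat 0, Int.ofNat 0, Int.ofNat 0, Int.ofNat 0, Int.ofNat 2, Int.ofNat 0, Int.ofNat 0, Int.negSucc 1],
  [Int.negSucc 0, Int.negSucc 0, Int.ofNat 1, Int.negSucc 0, Int.ofNat 1, Int.negSucc 0, Int.ofNat 1, Int.negSucc 0, Int.ofNat 1, Int.negSucc 0, Int.negSucc 0, Int.ofNat 1, Int.negSucc 0, Int.negSucc 0, Int.ofNat 1, Int.negSucc 0, Int.ofNat 1, Int.negSucc 0, Int.ofNat 1, Int.ofNat 1, Int.ofNat 1, Int.ofNat 1, Int.ofNat 1, Int.ofNat 3],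
  [Int.negSucc 0, Int.negSucc 0, Int.negSucc 0, Int.negSucc 0, Int.ofNat 1, Int.ofNat 1, Int.negSucc 0, Int.negSucc 0, Int.ofNat 1, Int.ofNat 1, Int.ofNat 1, Int.ofNat 1, Int.negSucc 0, Int.negSucc 0, Int.ofNat 1, Int.ofNat 1, Int.ofNat 1, Int.negSucc 0, Int.negSucc 0, Int.ofNat 1, Int.ofNat 1, Int.ofNat 1, Int.negSucc 0, Int.ofNat 3],
  [Int.ofNat 1, Int.ofNat 1, Int.ofNat 1, Int.ofNat 1, Int.negSucc 0, Int.negSucc 0, Int.negSucc 0, Int.negSucc 0, Int.ofNat 1, Int.ofNat 1, Int.ofNat 1, Int.ofNat 1, Int.ofNat 1, Int.ofNat 1, Int.negSucc 0, Int.ofNat 1, Int.negSucc 0, Int.negSucc 0, Int.negSucc 0, Int.negSucc 0, Int.negSucc 0, Int.ofNat 1, Int.negSucc 0, Int.ofNat 3],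
  [Int.ofNat 1, Int.ofNat 1, Int.negSucc 0, Int.ofNat 1, Int.negSucc 0, Int.ofNat 1, Int.ofNat 1, Int.negSucc 0, Int.ofNat 1, Int.negSucc 0, Int.negSucc 0, Int.ofNat 1, Int.ofNat 1, Int.ofNat 1, Int.negSucc 0, Int.negSucc 0, Int.negSucc 0, Int.negSucc 0, Int.ofNat 1, Int.negSucc 0, Int.negSucc 0, Int.ofNat 1, Int.ofNat 1, Int.ofNat 3],
  [Int.ofNat 1, Int.ofNat 1, Int.ofNat 3, Int.ofNat 1, Int.negSucc 0, Int.ofNat 1, Int.ofNat 1, Int.negSucc 0, Int.negSucc 0, Int.ofNat 1, Int.ofNat 1, Int.negSucc 0, Int.negSucc 0, Int.ofNat 1, Int.negSucc 0, Int.ofNat 1, Int.negSucc 0, Int.negSucc 0, Int.negSucc 0, Int.negSucc 0, Int.ofNat 1, Int.ofNat 1, Int.ofNat 1, Int.negSucc 0],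
  [Int.ofNat 1, Int.negSucc 0, Int.ofNat 1, Int.ofNat 1, Int.ofNat 3, Int.ofNat 1, Int.ofNat 1, Int.ofNat 1, Int.negSucc 0, Int.negSucc 0, Int.negSucc 0, Int.negSucc 0, Int.negSucc 0, Int.ofNat 1, Int.negSucc 0, Int.ofNat 1, Int.ofNat 1, Int.negSucc 0, Int.negSucc 0, Int.ofNat 1, Int.ofNat 1, Int.ofNat 1, Int.negSucc 0, Int.negSucc 0],
  [Int.negSucc 0, Int.ofNat 1, Int.negSucc 0, Int.ofNat 1, Int.ofNat 1, Int.ofNat 1, Int.negSucc 0, Int.negSucc 0, Int.ofNat 1, Int.negSucc 0, Int.negSucc 0, Int.ofNat 1, Int.ofNat 1, Int.negSucc 0, Int.negSucc 0, Int.ofNat 1, Int.negSucc 0, Int.negSucc 0, Int.ofNat 1, Int.negSucc 0, Int.ofNat 1, Int.negSucc 0, Int.negSucc 2, Int.ofNat 1],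
  [Int.ofNat 1, Int.negSucc 0, Int.negSucc 2, Int.negSucc 0, Int.ofNat 1, Int.negSucc 0, Int.ofNat 1, Int.ofNat 1, Int.ofNat 1, Int.negSucc 0, Int.negSucc 0, Int.ofNat 1, Int.negSucc 0, Int.negSucc 0, Int.ofNat 1, Int.ofNat 1, Int.negSucc 0, Int.negSucc 0, Int.ofNat 1, Int.negSucc 0, Int.negSucc 0, Int.ofNat 1, Int.negSucc 0, Int.ofNat 1],
  [Int.negSucc 1, Int.ofNat 0, Int.ofNat 2, Int.ofNat 0, Int.ofNat 2, Int.ofNat 0, Int.ofNat 0, Int.ofNat 0, Int.ofNat 0, Int.ofNat 0, Int.ofNat 0, Int.ofNat 0, Int.negSucc 1, Int.ofNat 0, Int.ofNat 2, Int.ofNat 2, Int.ofNat 0, Int.ofNat 0, Int.ofNat 0, Int.negSucc 1, Int.ofNat 0, Int.ofNat 0, Int.ofNat 0, Int.negSucc 1],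
  [Int.ofNat 0, Int.ofNat 2, Int.ofNat 0, Int.ofNat 2, Int.ofNat 0, Int.ofNat 0, Int.ofNat 0, Int.ofNat 0, Int.ofNat 0, Int.ofNat 0, Int.ofNat 0, Int.negSucc 1, Int.ofNat 0, Int.ofNat 2, Int.ofNat 2, Int.ofNat 0, Int.ofNat 0, Int.ofNat 0, Int.negSucc 1, Int.ofNat 0, Int.ofNat 0, Int.ofNat 0, Int.negSucc 1, Int.negSucc 1],
  [Int.ofNat 0, Int.ofNat 2, Int.ofNat 0, Int.ofNat 2, Int.ofNat 0, Int.ofNat 0, Int.ofNat 0, Int.ofNat 0, Int.ofNat 0, Int.ofNat 0, Int.ofNat 0, Int.ofNat 2, Int.ofNat 0, Int.ofNat 2, Int.ofNat 2, Int.ofNat 0, Int.ofNat 0, Int.ofNat 0, Int.ofNat 2, Int.ofNat 0, Int.ofNat 0, Int.ofNat 0, Int.negSucc 1, Int.negSucc 1],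
  [Int.ofNat 0, Int.negSucc 1, Int.ofNat 0, Int.negSucc 1, Int.ofNat 0, Int.ofNat 0, Int.ofNat 0, Int.ofNat 0, Int.ofNat 0, Int.ofNat 0, Int.ofNat 0, Int.ofNat 2, Int.ofNat 0, Int.negSucc 1, Int.ofNat 2, Int.ofNat 0, Int.ofNat 0, Int.ofNat 0, Int.negSucc 1, Int.ofNat 0, Int.ofNat 0, Int.ofNat 0, Int.negSucc 1, Int.negSucc 1],
  [Int.ofNat 0, Int.ofNat 0, Int.negSucc 1, Int.negSucc 1, Int.negSucc 1, Int.ofNat 0, Int.ofNat 0, Int.ofNat 0, Int.ofNat 0, Int.ofNat 0, Int.ofNat 0, Int.ofNat 2, Int.negSucc 1, Int.ofNat 0, Int.ofNat 0, Int.ofNat 0, Int.ofNat 0, Int.negSucc 1, Int.ofNat 0, Int.ofNat 0, Int.ofNat 0, Int.ofNat 0, Int.ofNat 2, Int.negSucc 1],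
  [Int.ofNat 0, Int.ofNat 0, Int.ofNat 2, Int.negSucc 1, Int.negSucc 1, Int.ofNat 0, Int.ofNat 0, Int.ofNat 0, Int.ofNat 0, Int.ofNat 0, Int.ofNat 0, Int.negSucc 1, Int.negSucc 1, Int.ofNat 0, Int.ofNat 0, Int.ofNat 0, Int.ofNat 0, Int.negSucc 1, Int.ofNat 0, Int.ofNat 0, Int.ofNat 0, Int.ofNat 0, Int.ofNat 2, Int.negSucc 1],
  [Int.ofNat 2, Int.ofNat 0, Int.ofNat 0, Int.ofNat 2, Int.negSucc 1, Int.negSucc 1, Int.ofNat 0, Int.ofNat 0, Int.ofNat 0, Int.ofNat 0, Int.ofNat 0, Int.ofNat 0, Int.negSucc 1, Int.negSucc 1, Int.ofNat 0, Int.ofNat 0, Int.ofNat 0, Int.ofNat 0, Int.negSucc 1, Int.ofNat 0, Int.ofNat 0, Int.ofNat 0, Int.ofNat 0, Int.negSucc 1],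
  [Int.negSucc 1, Int.ofNat 0, Int.ofNat 0, Int.ofNat 2, Int.ofNat 0, Int.negSucc 1, Int.ofNat 0, Int.ofNat 0, Int.ofNat 2, Int.ofNat 0, Int.ofNat 0, Int.ofNat 2, Int.ofNat 0, Int.ofNat 0, Int.ofNat 0, Int.ofNat 0, Int.ofNat 2, Int.ofNat 0, Int.ofNat 0, Int.ofNat 0, Int.ofNat 0, Int.ofNat 0, Int.ofNat 2, Int.ofNat 2],
  [Int.ofNat 2, Int.ofNat 0, Int.negSucc 1, Int.ofNat 0, Int.ofNat 0, Int.ofNat 2, Int.ofNat 0, Int.ofNat 0, Int.ofNat 2, Int.ofNat 0, Int.ofNat 0, Int.ofNat 0, Int.ofNat 0, Int.ofNat 2, Int.ofNat 0, Int.ofNat 0, Int.ofNat 0, Int.ofNat 0, Int.ofNat 0, Int.ofNat 2, Int.negSucc 1, Int.ofNat 0, Int.ofNat 0, Int.ofNat 2],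
  [Int.negSucc 0, Int.ofNat 1, Int.ofNat 3, Int.negSucc 0, Int.negSucc 0, Int.ofNat 1, Int.negSucc 0, Int.negSucc 0, Int.ofNat 1, Int.ofNat 1, Int.ofNat 1, Int.negSucc 0, Int.negSucc 0, Int.ofNat 1, Int.negSucc 0, Int.ofNat 1, Int.negSucc 0, Int.negSucc 0, Int.negSucc 0, Int.ofNat 1, Int.negSucc 0, Int.negSucc 0, Int.negSucc 0, Int.negSucc 0],
  [Int.negSucc 0, Int.negSucc 0, Int.negSucc 0, Int.negSucc 0, Int.negSucc 0, Int.negSucc 0, Int.ofNat 3, Int.ofNat 1, Int.negSucc 0, Int.ofNat 1, Int.negSucc 0, Int.negSucc 0, Int.ofNat 1, Int.negSucc 0, Int.negSucc 0, Int.ofNat 1, Int.ofNat 1, Int.negSucc 0, Int.ofNat 1, Int.negSucc 0, Int.negSucc 0, Int.ofNat 1, Int.ofNat 1, Int.negSucc 0],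
  [Int.negSucc 0, Int.negSucc 0, Int.negSucc 0, Int.ofNat 1, Int.negSucc 0, Int.ofNat 1, Int.ofNat 1, Int.negSucc 0, Int.negSucc 0, Int.ofNat 1, Int.negSucc 0, Int.negSucc 0, Int.ofNat 1, Int.negSucc 0, Int.ofNat 1, Int.ofNat 1, Int.ofNat 1, Int.ofNat 1, Int.ofNat 1, Int.negSucc 2, Int.negSucc 0, Int.negSucc 0, Int.ofNat 1, Int.negSucc 0],
  [Int.negSucc 0, Int.negSucc 0, Int.ofNat 1, Int.ofNat 1, Int.negSucc 0, Int.negSucc 0, Int.negSucc 0, Int.negSucc 0, Int.negSucc 0, Int.negSucc 0, Int.ofNat 1, Int.negSucc 0, Int.ofNat 1, Int.negSucc 0, Int.ofNat 1, Int.negSucc 0, Int.ofNat 1, Int.ofNat 1, Int.negSucc 0, Int.negSucc 2, Int.negSucc 0, Int.negSucc 0, Int.negSucc 0, Int.negSucc 0],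
  [Int.ofNat 1, Int.ofNat 1, Int.negSucc 0, Int.negSucc 0, Int.ofNat 1, Int.negSucc 0, Int.negSucc 0, Int.ofNat 1, Int.negSucc 0, Int.negSucc 0, Int.negSucc 0, Int.negSucc 0, Int.negSucc 0, Int.negSucc 0, Int.ofNat 1, Int.negSucc 0, Int.negSucc 2, Int.ofNat 1, Int.negSucc 0, Int.ofNat 1, Int.negSucc 0, Int.negSucc 0, Int.negSucc 0, Int.negSucc 0],
  [Int.negSucc 0, Int.negSucc 0, Int.negSucc 0, Int.negSucc 0, Int.ofNat 1, Int.negSucc 0, Int.ofNat 1, Int.negSucc 0, Int.negSucc 0, Int.negSucc 0, Int.negSucc 2, Int.negSucc 0, Int.negSucc 0, Int.ofNat 1, Int.negSucc 0, Int.negSucc 0, Int.negSucc 0, Int.ofNat 1, Int.ofNat 1, Int.negSucc 0, Int.negSucc 0, Int.negSucc 0, Int.ofNat 1, Int.ofNat 1],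
  [Int.ofNat 1, Int.negSucc 0, Int.ofNat 1, Int.negSucc 0, Int.ofNat 1, Int.negSucc 0, Int.ofNat 1, Int.ofNat 1, Int.negSucc 0, Int.ofNat 1, Int.ofNat 3, Int.ofNat 1, Int.negSucc 0, Int.ofNat 1, Int.negSucc 0, Int.negSucc 0, Int.negSucc 0, Int.ofNat 1, Int.negSucc 0, Int.negSucc 0, Int.negSucc 0, Int.ofNat 1, Int.ofNat 1, Int.ofNat 1],
  [Int.ofNat 1, Int.ofNat 1, Int.negSucc 0, Int.ofNat 1, Int.negSucc 0, Int.ofNat 1, Int.negSucc 0, Int.ofNat 1, Int.ofNat 1, Int.negSucc 0, Int.ofNat 1, Int.ofNat 3, Int.ofNat 1, Int.negSucc 0, Int.ofNat 1, Int.negSucc 0, Int.negSucc 0, Int.negSucc 0, Int.ofNat 1, Int.negSucc 0, Int.negSucc 0, Int.negSucc 0, Int.ofNat 1, Int.ofNat 1],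
  [Int.ofNat 0, Int.ofNat 0, Int.ofNat 2, Int.ofNat 0, Int.ofNat 0, Int.ofNat 0, Int.ofNat 0, Int.ofNat 2, Int.negSucc 1, Int.ofNat 0, Int.ofNat 2, Int.ofNat 0, Int.negSucc 1, Int.ofNat 0, Int.ofNat 0, Int.ofNat 0, Int.ofNat 0, Int.negSucc 1, Int.negSucc 1, Int.ofNat 0, Int.ofNat 0, Int.ofNat 0, Int.ofNat 2, Int.ofNat 0],
  [Int.ofNat 0, Int.ofNat 0, Int.ofNat 0, Int.ofNat 0, Int.ofNat 2, Int.negSucc 1, Int.ofNat 0, Int.ofNat 2, Int.ofNat 0, Int.negSucc 1, Int.ofNat 0, Int.ofNat 0, Int.ofNat 0, Int.ofNat 0, Int.negSucc 1, Int.negSucc 1, Int.ofNat 0, Int.ofNat 0, Int.ofNat 0, Int.ofNat 2, Int.ofNat 0, Int.ofNat 0, Int.ofNat 2, Int.ofNat 0],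
  [Int.ofNat 0, Int.ofNat 0, Int.ofNat 0, Int.ofNat 2, Int.ofNat 0, Int.ofNat 0, Int.negSucc 1, Int.ofNat 0, Int.ofNat 0, Int.ofNat 0, Int.ofNat 2, Int.ofNat 0, Int.ofNat 0, Int.negSucc 1, Int.ofNat 0, Int.ofNat 0, Int.negSucc 1, Int.ofNat 2, Int.ofNat 0, Int.ofNat 0, Int.ofNat 2, Int.negSucc 1, Int.ofNat 0, Int.ofNat 0],
  [Int.ofNat 0, Int.negSucc 1, Int.ofNat 0, Int.ofNat 2, Int.ofNat 0, Int.ofNat 0, Int.ofNat 0, Int.ofNat 2, Int.ofNat 0, Int.negSucc 1, Int.ofNat 2, Int.ofNat 2, Int.ofNat 0, Int.negSucc 1, Int.ofNat 0, Int.ofNat 0, Int.ofNat 0, Int.ofNat 0, Int.ofNat 0, Int.ofNat 0, Int.negSucc 1, Int.ofNat 0, Int.ofNat 0, Int.ofNat 0],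
  [Int.negSucc 0, Int.ofNat 1, Int.negSucc 0, Int.ofNat 1, Int.ofNat 1, Int.negSucc 0, Int.negSucc 0, Int.ofNat 1, Int.negSucc 0, Int.negSucc 0, Int.ofNat 3, Int.ofNat 1, Int.negSucc 0, Int.negSucc 0, Int.negSucc 0, Int.ofNat 1, Int.ofNat 1, Int.negSucc 0, Int.negSucc 0, Int.negSucc 0, Int.negSucc 0, Int.negSucc 0, Int.ofNat 1, Int.negSucc 0],
  [Int.negSucc 0, Int.ofNat 1, Int.ofNat 1, Int.ofNat 1, Int.ofNat 1, Int.ofNat 1, Int.ofNat 1, Int.ofNat 1, Int.negSucc 0, Int.ofNat 1, Int.negSucc 2, Int.ofNat 1, Int.negSucc 0, Int.negSucc 0, Int.negSucc 0, Int.negSucc 0, Int.ofNat 1, Int.negSucc 0, Int.ofNat 1, Int.negSucc 0, Int.negSucc 0, Int.negSucc 0, Int.negSucc 0, Int.negSucc 0],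
  [Int.negSucc 0, Int.negSucc 0, Int.ofNat 1, Int.ofNat 1, Int.ofNat 1, Int.negSucc 0, Int.ofNat 1, Int.negSucc 0, Int.negSucc 0, Int.ofNat 1, Int.negSucc 0, Int.ofNat 1, Int.negSucc 2, Int.negSucc 0, Int.negSucc 0, Int.ofNat 1, Int.ofNat 1, Int.negSucc 0, Int.ofNat 1, Int.negSucc 0, Int.ofNat 1, Int.negSucc 0, Int.ofNat 1, Int.negSucc 0],
  [Int.negSucc 0, Int.negSucc 0, Int.negSucc 0, Int.ofNat 1, Int.ofNat 1, Int.ofNat 1, Int.negSucc 0, Int.negSucc 0, Int.negSucc 0, Int.negSucc 0, Int.ofNat 1, Int.ofNat 1, Int.negSucc 2, Int.negSucc 0, Int.negSucc 0, Int.negSucc 0, Int.ofNat 1, Int.negSucc 0, Int.negSucc 0, Int.negSucc 0, Int.ofNat 1, Int.negSucc 0, Int.negSucc 0, Int.negSucc 0],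
  [Int.negSucc 0, Int.negSucc 0, Int.negSucc 0, Int.ofNat 1, Int.ofNat 1, Int.ofNat 1, Int.ofNat 1, Int.ofNat 1, Int.ofNat 1, Int.negSucc 0, Int.ofNat 1, Int.ofNat 3, Int.negSucc 0, Int.negSucc 0, Int.negSucc 0, Int.negSucc 0, Int.ofNat 1, Int.negSucc 0, Int.ofNat 1, Int.ofNat 1, Int.ofNat 1, Int.ofNat 1, Int.negSucc 0, Int.negSucc 0],
  [Int.negSucc 0, Int.ofNat 1, Int.ofNat 1, Int.ofNat 1, Int.negSucc 0, Int.ofNat 1, Int.negSucc 0, Int.ofNat 1, Int.ofNat 1, Int.negSucc 0, Int.ofNat 1, Int.ofNat 1, Int.ofNat 1, Int.negSucc 0, Int.negSucc 0, Int.negSucc 0, Int.negSucc 0, Int.ofNat 3, Int.ofNat 1, Int.negSucc 0, Int.ofNat 1, Int.ofNat 1, Int.negSucc 0, Int.negSucc 0],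
  [Int.ofNat 1, Int.negSucc 0, Int.negSucc 0, Int.negSucc 0, Int.ofNat 1, Int.negSucc 0, Int.negSucc 0, Int.ofNat 1, Int.negSucc 0, Int.negSucc 0, Int.ofNat 1, Int.negSucc 0, Int.negSucc 0, Int.ofNat 1, Int.negSucc 2, Int.negSucc 0, Int.ofNat 1, Int.ofNat 1, Int.negSucc 0, Int.negSucc 0, Int.ofNat 1, Int.ofNat 1, Int.ofNat 1, Int.ofNat 1],
  [Int.ofNat 1, Int.ofNat 1, Int.ofNat 1, Int.ofNat 1, Int.negSucc 0, Int.negSucc 0, Int.negSucc 0, Int.ofNat 1, Int.negSucc 0, Int.negSucc 0, Int.ofNat 1, Int.negSucc 0, Int.negSucc 0, Int.ofNat 1, Int.negSucc 0, Int.negSucc 0, Int.ofNat 1, Int.negSucc 2, Int.negSucc 0, Int.ofNat 1, Int.ofNat 1, Int.negSucc 0, Int.negSucc 0, Int.ofNat 1],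
  [Int.ofNat 1, Int.ofNat 1, Int.ofNat 1, Int.ofNat 3, Int.negSucc 0, Int.ofNat 1, Int.negSucc 0, Int.ofNat 1, Int.ofNat 1, Int.negSucc 0, Int.ofNat 1, Int.ofNat 1, Int.ofNat 1, Int.ofNat 1, Int.ofNat 1, Int.negSucc 0, Int.ofNat 1, Int.negSucc 0, Int.ofNat 1, Int.ofNat 1, Int.ofNat 1, Int.negSucc 0, Int.negSucc 0, Int.ofNat 1],
  [Int.ofNat 1, Int.ofNat 1, Int.ofNat 3, Int.negSucc 0, Int.ofNat 1, Int.negSucc 0, Int.ofNat 1, Int.ofNat 1, Int.negSucc 0, Int.ofNat 1, Int.ofNat 1, Int.ofNat 1, Int.ofNat 1, Int.ofNat 1, Int.negSucc 0, Int.ofNat 1, Int.negSucc 0, Int.ofNat 1, Int.ofNat 1, Int.ofNat 1, Int.negSucc 0, Int.negSucc 0, Int.ofNat 1, Int.ofNat 1],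
  [Int.negSucc 0, Int.ofNat 1, Int.negSucc 2, Int.negSucc 0, Int.ofNat 1, Int.negSucc 0, Int.ofNat 1, Int.negSucc 0, Int.negSucc 0, Int.negSucc 0, Int.negSucc 0, Int.negSucc 0, Int.ofNat 1, Int.ofNat 1, Int.negSucc 0, Int.ofNat 1, Int.negSucc 0, Int.ofNat 1, Int.negSucc 0, Int.ofNat 1, Int.negSucc 0, Int.ofNat 1, Int.ofNat 1, Int.ofNat 1],
  [Int.ofNat 1, Int.negSucc 0, Int.ofNat 3, Int.ofNat 1, Int.negSucc 0, Int.negSucc 0, Int.negSucc 0, Int.negSucc 0, Int.ofNat 1, Int.ofNat 1, Int.negSucc 0, Int.negSucc 0, Int.negSucc 0, Int.negSucc 0, Int.negSucc 0, Int.ofNat 1, Int.ofNat 1, Int.ofNat 1, Int.ofNat 1, Int.ofNat 1, Int.negSucc 0, Int.ofNat 1, Int.ofNat 1, Int.ofNat 1],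
  [Int.ofNat 1, Int.ofNat 3, Int.ofNat 1, Int.ofNat 1, Int.negSucc 0, Int.negSucc 0, Int.negSucc 0, Int.negSucc 0, Int.ofNat 1, Int.ofNat 1, Int.ofNat 1, Int.negSucc 0, Int.negSucc 0, Int.ofNat 1, Int.ofNat 1, Int.ofNat 1, Int.negSucc 0, Int.ofNat 1, Int.negSucc 0, Int.ofNat 1, Int.negSucc 0, Int.negSucc 0, Int.negSucc 0, Int.ofNat 1],
  [Int.negSucc 0, Int.ofNat 3, Int.negSucc 0, Int.ofNat 1, Int.negSucc 0, Int.negSucc 0, Int.negSucc 0, Int.ofNat 1, Int.ofNat 1, Int.negSucc 0, Int.negSucc 0, Int.ofNat 1, Int.negSucc 0, Int.ofNat 1, Int.ofNat 1, Int.ofNat 1, Int.negSucc 0, Int.ofNat 1, Int.ofNat 1, Int.ofNat 1, Int.negSucc 0, Int.ofNat 1, Int.negSucc 0, Int.ofNat 1],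
  [Int.negSucc 0, Int.negSucc 0, Int.ofNat 3, Int.negSucc 0, Int.ofNat 1, Int.negSucc 0, Int.negSucc 0, Int.negSucc 0, Int.ofNat 1, Int.ofNat 1, Int.negSucc 0, Int.negSucc 0, Int.ofNat 1, Int.negSucc 0, Int.ofNat 1, Int.ofNat 1, Int.ofNat 1, Int.negSucc 0, Int.ofNat 1, Int.ofNat 1, Int.ofNat 1, Int.negSucc 0, Int.ofNat 1, Int.ofNat 1],
  [Int.ofNat 2, Int.ofNat 2, Int.negSucc 1, Int.ofNat 0, Int.ofNat 0, Int.ofNat 0, Int.ofNat 0, Int.ofNat 0, Int.ofNat 0, Int.ofNat 0, Int.negSucc 1, Int.negSucc 1, Int.ofNat 0, Int.negSucc 1, Int.ofNat 2, Int.ofNat 0, Int.ofNat 0, Int.ofNat 0, Int.ofNat 0, Int.ofNat 2, Int.ofNat 0, Int.ofNat 0, Int.ofNat 0, Int.ofNat 0],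
  [Int.ofNat 0, Int.ofNat 0, Int.ofNat 0, Int.ofNat 0, Int.ofNat 0, Int.ofNat 0, Int.ofNat 0, Int.negSucc 1, Int.negSucc 1, Int.ofNat 0, Int.negSucc 1, Int.ofNat 2, Int.ofNat 0, Int.ofNat 0, Int.ofNat 0, Int.ofNat 0, Int.ofNat 2, Int.ofNat 0, Int.ofNat 0, Int.ofNat 0, Int.ofNat 2, Int.ofNat 2, Int.negSucc 1, Int.ofNat 0],
  [Int.ofNat 0, Int.ofNat 0, Int.ofNat 0, Int.ofNat 0, Int.ofNat 0, Int.ofNat 0, Int.ofNat 0, Int.negSucc 1, Int.negSucc 1, Int.ofNat 0, Int.negSucc 1, Int.ofNat 2, Int.ofNat 0, Int.ofNat 0, Int.ofNat 0, Int.ofNat 0, Int.ofNat 2, Int.ofNat 0, Int.ofNat 0, Int.ofNat 0, Int.ofNat 2, Int.ofNat 2, Int.negSucc 1, Int.ofNat 0],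
  [Int.ofNat 0, Int.ofNat 0, Int.ofNat 0, Int.ofNat 0, Int.ofNat 0, Int.negSucc 1, Int.ofNat 0, Int.negSucc 1, Int.ofNat 0, Int.ofNat 0, Int.ofNat 2, Int.ofNat 0, Int.ofNat 0, Int.ofNat 2, Int.negSucc 1, Int.ofNat 0, Int.negSucc 1, Int.ofNat 0, Int.ofNat 0, Int.ofNat 2, Int.ofNat 2, Int.ofNat 0, Int.ofNat 0, Int.ofNat 0],
  [Int.ofNat 0, Int.ofNat 0, Int.ofNat 0, Int.ofNat 2, Int.ofNat 0, Int.ofNat 0, Int.ofNat 0, Int.negSucc 1, Int.ofNat 0, Int.negSucc 1, Int.ofNat 0, Int.ofNat 0, Int.ofNat 0, Int.ofNat 2, Int.ofNat 0, Int.negSucc 1, Int.negSucc 1, Int.ofNat 2, Int.ofNat 0, Int.ofNat 2, Int.ofNat 0, Int.ofNat 0, Int.ofNat 0, Int.ofNat 0],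
  [Int.ofNat 0, Int.ofNat 0, Int.ofNat 0, Int.ofNat 2, Int.ofNat 0, Int.ofNat 0, Int.ofNat 0, Int.negSucc 1, Int.ofNat 0, Int.ofNat 2, Int.ofNat 0, Int.ofNat 0, Int.ofNat 0, Int.ofNat 2, Int.ofNat 0, Int.ofNat 2, Int.negSucc 1, Int.ofNat 2, Int.ofNat 0, Int.ofNat 2, Int.ofNat 0, Int.ofNat 0, Int.ofNat 0, Int.ofNat 0],
  [Int.ofNat 0, Int.negSucc 1, Int.ofNat 0, Int.ofNat 0, Int.ofNat 0, Int.ofNat 0, Int.ofNat 0, Int.ofNat 2, Int.ofNat 0, Int.ofNat 0, Int.ofNat 2, Int.negSucc 1, Int.ofNat 2, Int.ofNat 0, Int.ofNat 2, Int.ofNat 0, Int.ofNat 2, Int.ofNat 0, Int.ofNat 2, Int.ofNat 0, Int.ofNat 0, Int.ofNat 0, Int.ofNat 0, Int.ofNat 0],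
  [Int.ofNat 0, Int.ofNat 0, Int.negSucc 1, Int.ofNat 0, Int.ofNat 0, Int.ofNat 0, Int.ofNat 0, Int.ofNat 0, Int.ofNat 0, Int.ofNat 0, Int.ofNat 2, Int.ofNat 0, Int.ofNat 0, Int.ofNat 2, Int.ofNat 2, Int.ofNat 0, Int.ofNat 2, Int.ofNat 0, Int.ofNat 2, Int.ofNat 0, Int.ofNat 0, Int.ofNat 2, Int.negSucc 1, Int.ofNat 0],
  [Int.ofNat 0, Int.ofNat 0, Int.ofNat 2, Int.ofNat 0, Int.ofNat 0, Int.ofNat 0, Int.ofNat 0, Int.ofNat 0, Int.ofNat 0, Int.ofNat 0, Int.negSucc 1, Int.ofNat 0, Int.ofNat 0, Int.ofNat 2, Int.ofNat 2, Int.ofNat 0, Int.ofNat 2, Int.ofNat 0, Int.negSucc 1, Int.ofNat 0, Int.ofNat 0, Int.negSucc 1, Int.negSucc 1, Int.ofNat 0],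
  [Int.negSucc 1, Int.ofNat 0, Int.ofNat 0, Int.ofNat 2, Int.ofNat 0, Int.ofNat 0, Int.ofNat 0, Int.ofNat 0, Int.ofNat 0, Int.ofNat 0, Int.ofNat 0, Int.negSucc 1, Int.ofNat 0, Int.ofNat 0, Int.ofNat 2, Int.ofNat 2, Int.ofNat 0, Int.ofNat 2, Int.ofNat 0, Int.negSucc 1, Int.ofNat 0, Int.ofNat 0, Int.negSucc 1, Int.ofNat 0],
  [Int.ofNat 1, Int.negSucc 0, Int.negSucc 0, Int.negSucc 0, Int.ofNat 1, Int.negSucc 2, Int.ofNat 1, Int.ofNat 1, Int.ofNat 1, Int.negSucc 0, Int.negSucc 0, Int.negSucc 0, Int.ofNat 1, Int.ofNat 1, Int.negSucc 0, Int.ofNat 1, Int.ofNat 1, Int.negSucc 0, Int.ofNat 1, Int.negSucc 0, Int.negSucc 0, Int.ofNat 1, Int.negSucc 0, Int.negSucc 0],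
  [Int.negSucc 0, Int.ofNat 1, Int.negSucc 2, Int.ofNat 1, Int.ofNat 1, Int.ofNat 1, Int.negSucc 0, Int.negSucc 0, Int.negSucc 0, Int.ofNat 1, Int.ofNat 1, Int.negSucc 0, Int.ofNat 1, Int.ofNat 1, Int.negSucc 0, Int.ofNat 1, Int.negSucc 0, Int.negSucc 0, Int.ofNat 1, Int.negSucc 0, Int.ofNat 1, Int.negSucc 0, Int.negSucc 0, Int.negSucc 0],
  [Int.negSucc 0, Int.negSucc 2, Int.ofNat 1, Int.ofNat 1, Int.ofNat 1, Int.ofNat 1, Int.ofNat 1, Int.ofNat 1, Int.negSucc 0, Int.negSucc 0, Int.negSucc 0, Int.negSucc 0, Int.ofNat 1, Int.ofNat 1, Int.negSucc 0, Int.negSucc 0, Int.negSucc 0, Int.negSucc 0, Int.ofNat 1, Int.ofNat 1, Int.negSucc 0, Int.ofNat 1, Int.negSucc 0, Int.negSucc 0],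
  [Int.negSucc 0, Int.ofNat 1, Int.ofNat 1, Int.ofNat 1, Int.ofNat 1, Int.ofNat 1, Int.ofNat 1, Int.negSucc 0, Int.ofNat 1, Int.ofNat 1, Int.negSucc 0, Int.negSucc 0, Int.negSucc 0, Int.negSucc 0, Int.negSucc 0, Int.negSucc 0, Int.negSucc 0, Int.negSucc 0, Int.negSucc 2, Int.negSucc 0, Int.ofNat 1, Int.ofNat 1, Int.ofNat 1, Int.negSucc 0],
  [Int.ofNat 1, Int.negSucc 0, Int.negSucc 0, Int.ofNat 1, Int.ofNat 1, Int.ofNat 1, Int.ofNat 1, Int.negSucc 0, Int.ofNat 3, Int.ofNat 1, Int.negSucc 0, Int.ofNat 1, Int.ofNat 1, Int.negSucc 0, Int.negSucc 0, Int.negSucc 0, Int.negSucc 0, Int.negSucc 0, Int.negSucc 0, Int.negSucc 0, Int.ofNat 1, Int.ofNat 1, Int.ofNat 1, Int.ofNat 1],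
  [Int.ofNat 1, Int.negSucc 0, Int.ofNat 1, Int.ofNat 1, Int.ofNat 1, Int.negSucc 0, Int.negSucc 0, Int.negSucc 0, Int.ofNat 3, Int.negSucc 0, Int.ofNat 1, Int.ofNat 1, Int.ofNat 1, Int.negSucc 0, Int.negSucc 0, Int.ofNat 1, Int.negSucc 0, Int.negSucc 0, Int.ofNat 1, Int.negSucc 0, Int.ofNat 1, Int.ofNat 1, Int.negSucc 0, Int.ofNat 1],
  [Int.ofNat 3, Int.negSucc 0, Int.ofNat 1, Int.ofNat 1, Int.ofNat 1, Int.negSucc 0, Int.negSucc 0, Int.ofNat 1, Int.ofNat 1, Int.negSucc 0, Int.ofNat 1, Int.negSucc 0, Int.ofNat 1, Int.negSucc 0, Int.negSucc 0, Int.negSucc 0, Int.ofNat 1, Int.ofNat 1, Int.negSucc 0, Int.negSucc 0, Int.ofNat 1, Int.ofNat 1, Int.negSucc 0, Int.ofNat 1],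
  [Int.ofNat 3, Int.negSucc 0, Int.negSucc 0, Int.ofNat 1, Int.ofNat 1, Int.ofNat 1, Int.ofNat 1, Int.ofNat 1, Int.ofNat 1, Int.ofNat 1, Int.negSucc 0, Int.negSucc 0, Int.ofNat 1, Int.negSucc 0, Int.negSucc 0, Int.ofNat 1, Int.ofNat 1, Int.ofNat 1, Int.ofNat 1, Int.negSucc 0, Int.ofNat 1, Int.ofNat 1, Int.ofNat 1, Int.ofNat 1],
  [Int.negSucc 1, Int.ofNat 2, Int.ofNat 2, Int.ofNat 0, Int.ofNat 0, Int.ofNat 0, Int.ofNat 0, Int.ofNat 0, Int.ofNat 0, Int.ofNat 0, Int.negSucc 1, Int.negSucc 1, Int.ofNat 0, Int.negSucc 1, Int.negSucc 1, Int.ofNat 0, Int.ofNat 0, Int.ofNat 0, Int.ofNat 0, Int.negSucc 1, Int.ofNat 0, Int.ofNat 0, Int.ofNat 0, Int.ofNat 0],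
  [Int.negSucc 1, Int.ofNat 0, Int.ofNat 0, Int.ofNat 0, Int.ofNat 2, Int.ofNat 0, Int.ofNat 2, Int.ofNat 0, Int.ofNat 0, Int.ofNat 0, Int.ofNat 0, Int.negSucc 1, Int.ofNat 0, Int.ofNat 0, Int.ofNat 0, Int.ofNat 0, Int.negSucc 1, Int.negSucc 1, Int.ofNat 0, Int.ofNat 0, Int.negSucc 1, Int.ofNat 0, Int.negSucc 1, Int.ofNat 0],
  [Int.ofNat 1, Int.negSucc 0, Int.negSucc 0, Int.ofNat 1, Int.ofNat 3, Int.ofNat 1, Int.ofNat 1, Int.negSucc 0, Int.ofNat 1, Int.ofNat 1, Int.ofNat 1, Int.negSucc 0, Int.ofNat 1, Int.ofNat 1, Int.ofNat 1, Int.ofNat 1, Int.negSucc 0, Int.negSucc 0, Int.ofNat 1, Int.negSucc 0, Int.negSucc 0, Int.negSucc 0, Int.negSucc 0, Int.negSucc 0],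
  [Int.negSucc 0, Int.negSucc 0, Int.negSucc 0, Int.ofNat 1, Int.negSucc 0, Int.negSucc 0, Int.ofNat 1, Int.ofNat 3, Int.ofNat 1, Int.ofNat 1, Int.negSucc 0, Int.ofNat 1, Int.ofNat 1, Int.ofNat 1, Int.negSucc 0, Int.ofNat 1, Int.ofNat 1, Int.ofNat 1, Int.ofNat 1, Int.negSucc 0, Int.negSucc 0, Int.ofNat 1, Int.negSucc 0, Int.negSucc 0],
  [Int.negSucc 0, Int.negSucc 0, Int.negSucc 0, Int.ofNat 1, Int.negSucc 0, Int.negSucc 0, Int.negSucc 0, Int.ofNat 1, Int.negSucc 0, Int.ofNat 1, Int.negSucc 0, Int.negSucc 0, Int.negSucc 0, Int.ofNat 1, Int.negSucc 0, Int.ofNat 1, Int.ofNat 1, Int.ofNat 1, Int.negSucc 0, Int.negSucc 2, Int.negSucc 0, Int.negSucc 0, Int.negSucc 0, Int.negSucc 0],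
  [Int.negSucc 0, Int.negSucc 0, Int.ofNat 1, Int.negSucc 0, Int.negSucc 0, Int.negSucc 0, Int.ofNat 1, Int.negSucc 0, Int.ofNat 1, Int.negSucc 0, Int.negSucc 0, Int.negSucc 0, Int.ofNat 1, Int.negSucc 0, Int.ofNat 1, Int.ofNat 1, Int.ofNat 1, Int.negSucc 0, Int.negSucc 2, Int.negSucc 0, Int.negSucc 0, Int.negSucc 0, Int.negSucc 0, Int.negSucc 0],
  [Int.ofNat 1, Int.negSucc 0, Int.negSucc 0, Int.negSucc 0, Int.negSucc 0, Int.negSucc 0, Int.ofNat 1, Int.ofNat 1, Int.ofNat 1, Int.ofNat 1, Int.ofNat 1, Int.ofNat 1, Int.ofNat 1, Int.negSucc 0, Int.ofNat 1, Int.ofNat 1, Int.ofNat 1, Int.negSucc 0, Int.ofNat 3, Int.negSucc 0, Int.negSucc 0, Int.ofNat 1, Int.negSucc 0, Int.negSucc 0],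
  [Int.negSucc 0, Int.ofNat 1, Int.ofNat 1, Int.ofNat 1, Int.ofNat 1, Int.negSucc 0, Int.negSucc 0, Int.ofNat 1, Int.negSucc 0, Int.negSucc 0, Int.ofNat 1, Int.ofNat 1, Int.negSucc 0, Int.ofNat 1, Int.ofNat 1, Int.ofNat 1, Int.negSucc 0, Int.negSucc 0, Int.negSucc 2, Int.negSucc 0, Int.negSucc 0, Int.ofNat 1, Int.negSucc 0, Int.negSucc 0],
  [Int.negSucc 0, Int.ofNat 1, Int.negSucc 2, Int.ofNat 1, Int.ofNat 1, Int.ofNat 1, Int.ofNat 1, Int.negSucc 0, Int.negSucc 0, Int.negSucc 0, Int.ofNat 1, Int.ofNat 1, Int.ofNat 1, Int.negSucc 0, Int.negSucc 0, Int.ofNat 1, Int.negSucc 0, Int.negSucc 0, Int.negSucc 0, Int.negSucc 0, Int.negSucc 0, Int.ofNat 1, Int.ofNat 1, Int.negSucc 0],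
  [Int.ofNat 1, Int.ofNat 1, Int.ofNat 3, Int.ofNat 1, Int.ofNat 1, Int.ofNat 1, Int.ofNat 1, Int.ofNat 1, Int.negSucc 0, Int.ofNat 1, Int.negSucc 0, Int.negSucc 0, Int.ofNat 1, Int.negSucc 0, Int.negSucc 0, Int.ofNat 1, Int.negSucc 0, Int.negSucc 0, Int.ofNat 1, Int.negSucc 0, Int.negSucc 0, Int.negSucc 0, Int.ofNat 1, Int.negSucc 0],
  [Int.ofNat 1, Int.ofNat 1, Int.ofNat 1, Int.ofNat 3, Int.ofNat 1, Int.ofNat 1, Int.ofNat 1, Int.ofNat 1, Int.ofNat 1, Int.negSucc 0, Int.ofNat 1, Int.negSucc 0, Int.negSucc 0, Int.ofNat 1, Int.negSucc 0, Int.negSucc 0, Int.ofNat 1, Int.negSucc 0, Int.negSucc 0, Int.ofNat 1, Int.negSucc 0, Int.negSucc 0, Int.negSucc 0, Int.negSucc 0],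
  [Int.ofNat 0, Int.ofNat 0, Int.ofNat 0, Int.ofNat 2, Int.ofNat 0, Int.ofNat 0, Int.ofNat 0, Int.ofNat 0, Int.ofNat 2, Int.ofNat 0, Int.ofNat 2, Int.ofNat 0, Int.ofNat 0, Int.ofNat 0, Int.negSucc 1, Int.ofNat 0, Int.ofNat 0, Int.negSucc 1, Int.ofNat 0, Int.ofNat 0, Int.ofNat 0, Int.negSucc 1, Int.negSucc 1, Int.ofNat 2],
  [Int.ofNat 2, Int.ofNat 0, Int.ofNat 0, Int.ofNat 0, Int.ofNat 0, Int.ofNat 2, Int.ofNat 0, Int.ofNat 2, Int.ofNat 0, Int.ofNat 0, Int.ofNat 0, Int.negSucc 1, Int.ofNat 0, Int.ofNat 0, Int.negSucc 1, Int.ofNat 0, Int.ofNat 0, Int.ofNat 0, Int.negSucc 1, Int.negSucc 1, Int.ofNat 0, Int.ofNat 0, Int.ofNat 0, Int.ofNat 2],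
  [Int.ofNat 0, Int.ofNat 2, Int.ofNat 2, Int.ofNat 0, Int.ofNat 0, Int.ofNat 2, Int.ofNat 0, Int.ofNat 2, Int.ofNat 2, Int.ofNat 0, Int.ofNat 0, Int.ofNat 0, Int.ofNat 2, Int.ofNat 0, Int.negSucc 1, Int.ofNat 0, Int.ofNat 0, Int.ofNat 0, Int.ofNat 0, Int.negSucc 1, Int.ofNat 0, Int.ofNat 0, Int.ofNat 0, Int.ofNat 0],
  [Int.ofNat 0, Int.ofNat 0, Int.ofNat 0, Int.ofNat 0, Int.ofNat 0, Int.ofNat 2, Int.ofNat 2, Int.ofNat 0, Int.ofNat 2, Int.ofNat 0, Int.ofNat 0, Int.ofNat 0, Int.ofNat 0, Int.ofNat 0, Int.ofNat 0, Int.ofNat 0, Int.ofNat 2, Int.negSucc 1, Int.ofNat 2, Int.ofNat 0, Int.ofNat 0, Int.ofNat 2, Int.negSucc 1, Int.ofNat 0],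
  [Int.ofNat 0, Int.ofNat 0, Int.ofNat 0, Int.ofNat 0, Int.ofNat 0, Int.ofNat 2, Int.ofNat 0, Int.negSucc 1, Int.ofNat 0, Int.ofNat 0, Int.ofNat 0, Int.negSucc 1, Int.negSucc 1, Int.ofNat 0, Int.ofNat 0, Int.ofNat 0, Int.ofNat 2, Int.negSucc 1, Int.ofNat 0, Int.negSucc 1, Int.ofNat 0, Int.ofNat 0, Int.negSucc 1, Int.ofNat 0],
  [Int.ofNat 0, Int.ofNat 0, Int.ofNat 0, Int.ofNat 0, Int.ofNat 0, Int.negSucc 1, Int.ofNat 0, Int.negSucc 1, Int.ofNat 0, Int.ofNat 0, Int.ofNat 0, Int.negSucc 1, Int.negSucc 1, Int.ofNat 0, Int.ofNat 0, Int.ofNat 0, Int.ofNat 2, Int.negSucc 1, Int.ofNat 0, Int.negSucc 1, Int.ofNat 0, Int.ofNat 0, Int.ofNat 2, Int.ofNat 0],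
  [Int.ofNat 0, Int.ofNat 2, Int.negSucc 1, Int.ofNat 0, Int.ofNat 0, Int.ofNat 0, Int.ofNat 0, Int.ofNat 0, Int.negSucc 1, Int.ofNat 0, Int.ofNat 0, Int.negSucc 1, Int.ofNat 0, Int.ofNat 0, Int.negSucc 1, Int.ofNat 0, Int.negSucc 1, Int.negSucc 1, Int.ofNat 0, Int.ofNat 0, Int.ofNat 0, Int.ofNat 0, Int.ofNat 2, Int.ofNat 0],
  [Int.ofNat 0, Int.ofNat 2, Int.negSucc 1, Int.ofNat 0, Int.negSucc 1, Int.ofNat 0, Int.ofNat 0, Int.ofNat 0, Int.ofNat 0, Int.ofNat 0, Int.negSucc 1, Int.negSucc 1, Int.ofNat 0, Int.ofNat 0, Int.ofNat 0, Int.ofNat 0, Int.ofNat 0, Int.ofNat 0, Int.negSucc 1, Int.ofNat 0, Int.negSucc 1, Int.ofNat 0, Int.ofNat 2, Int.ofNat 0],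
  [Int.ofNat 0, Int.ofNat 2, Int.ofNat 2, Int.ofNat 0, Int.negSucc 1, Int.ofNat 0, Int.ofNat 0, Int.ofNat 0, Int.ofNat 0, Int.ofNat 0, Int.ofNat 2, Int.ofNat 2, Int.ofNat 0, Int.ofNat 0, Int.ofNat 0, Int.ofNat 0, Int.ofNat 0, Int.ofNat 0, Int.ofNat 2, Int.ofNat 0, Int.negSucc 1, Int.ofNat 0, Int.ofNat 2, Int.ofNat 0],
  [Int.ofNat 2, Int.ofNat 0, Int.ofNat 2, Int.ofNat 2, Int.ofNat 0, Int.negSucc 1, Int.ofNat 0, Int.ofNat 0, Int.ofNat 0, Int.ofNat 0, Int.ofNat 0, Int.ofNat 2, Int.ofNat 2, Int.ofNat 0, Int.ofNat 0, Int.ofNat 0, Int.ofNat 0, Int.ofNat 0, Int.ofNat 0, Int.ofNat 2, Int.ofNat 0, Int.negSucc 1, Int.ofNat 0, Int.ofNat 0],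
  [Int.ofNat 0, Int.ofNat 2, Int.ofNat 0, Int.ofNat 2, Int.ofNat 0, Int.negSucc 1, Int.ofNat 0, Int.ofNat 0, Int.negSucc 1, Int.ofNat 0, Int.ofNat 0, Int.ofNat 0, Int.ofNat 0, Int.ofNat 0, Int.ofNat 0, Int.ofNat 0, Int.ofNat 0, Int.ofNat 0, Int.negSucc 1, Int.ofNat 2, Int.ofNat 0, Int.negSucc 1, Int.ofNat 0, Int.ofNat 2],
  [Int.ofNat 2, Int.ofNat 0, Int.negSucc 1, Int.ofNat 0, Int.ofNat 0, Int.negSucc 1, Int.ofNat 0, Int.ofNat 0, Int.ofNat 0, Int.ofNat 0, Int.ofNat 0, Int.ofNat 0, Int.ofNat 0, Int.ofNat 0, Int.ofNat 0, Int.negSucc 1, Int.ofNat 2, Int.ofNat 0, Int.negSucc 1, Int.ofNat 0, Int.ofNat 0, Int.ofNat 2, Int.ofNat 0, Int.ofNat 2],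
  [Int.negSucc 0, Int.ofNat 1, Int.ofNat 3, Int.ofNat 1, Int.negSucc 0, Int.negSucc 0, Int.negSucc 0, Int.negSucc 0, Int.ofNat 1, Int.ofNat 1, Int.ofNat 1, Int.ofNat 1, Int.ofNat 1, Int.negSucc 0, Int.ofNat 1, Int.negSucc 0, Int.ofNat 1, Int.ofNat 1, Int.negSucc 0, Int.negSucc 0, Int.ofNat 1, Int.ofNat 1, Int.negSucc 0, Int.negSucc 0],
  [Int.negSucc 0, Int.negSucc 0, Int.negSucc 0, Int.ofNat 1, Int.negSucc 0, Int.negSucc 0, Int.ofNat 3, Int.ofNat 1, Int.ofNat 1, Int.negSucc 0, Int.ofNat 1, Int.ofNat 1, Int.ofNat 1, Int.ofNat 1, Int.negSucc 0, Int.negSucc 0, Int.ofNat 1, Int.ofNat 1, Int.ofNat 1, Int.ofNat 1, Int.ofNat 1, Int.negSucc 0, Int.negSucc 0, Int.negSucc 0],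
  [Int.negSucc 0, Int.negSucc 0, Int.negSucc 0, Int.ofNat 1, Int.negSucc 0, Int.negSucc 0, Int.ofNat 1, Int.negSucc 0, Int.negSucc 0, Int.negSucc 0, Int.ofNat 1, Int.negSucc 0, Int.negSucc 0, Int.ofNat 1, Int.negSucc 0, Int.negSucc 0, Int.ofNat 1, Int.ofNat 1, Int.negSucc 0, Int.negSucc 0, Int.ofNat 1, Int.negSucc 2, Int.negSucc 0, Int.negSucc 0],
  [Int.negSucc 0, Int.negSucc 0, Int.ofNat 1, Int.ofNat 1, Int.negSucc 0, Int.ofNat 1, Int.negSucc 0, Int.negSucc 0, Int.negSucc 0, Int.ofNat 1, Int.negSucc 0, Int.negSucc 0, Int.negSucc 0, Int.ofNat 1, Int.negSucc 0, Int.ofNat 1, Int.ofNat 1, Int.ofNat 1, Int.ofNat 1, Int.negSucc 0, Int.ofNat 1, Int.negSucc 2, Int.ofNat 1, Int.negSucc 0],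
  [Int.negSucc 0, Int.negSucc 0, Int.negSucc 0, Int.negSucc 0, Int.ofNat 1, Int.ofNat 1, Int.negSucc 0, Int.negSucc 0, Int.ofNat 1, Int.ofNat 1, Int.negSucc 2, Int.ofNat 1, Int.negSucc 0, Int.negSucc 0, Int.ofNat 1, Int.ofNat 1, Int.ofNat 1, Int.negSucc 0, Int.negSucc 0, Int.ofNat 1, Int.ofNat 1, Int.ofNat 1, Int.negSucc 0, Int.negSucc 0],
  [Int.negSucc 0, Int.negSucc 0, Int.ofNat 1, Int.negSucc 0, Int.ofNat 1, Int.negSucc 0, Int.ofNat 1, Int.negSucc 0, Int.ofNat 1, Int.negSucc 0, Int.ofNat 3, Int.ofNat 1, Int.negSucc 0, Int.negSucc 0, Int.ofNat 1, Int.negSucc 0, Int.ofNat 1, Int.negSucc 0, Int.ofNat 1, Int.ofNat 1, Int.ofNat 1, Int.ofNat 1, Int.ofNat 1, Int.negSucc 0],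
  [Int.ofNat 0, Int.ofNat 0, Int.negSucc 1, Int.ofNat 0, Int.ofNat 0, Int.ofNat 0, Int.ofNat 0, Int.negSucc 1, Int.ofNat 0, Int.negSucc 1, Int.ofNat 2, Int.ofNat 0, Int.negSucc 1, Int.negSucc 1, Int.ofNat 2, Int.negSucc 1, Int.ofNat 0, Int.ofNat 0, Int.ofNat 0, Int.ofNat 0, Int.ofNat 0, Int.ofNat 0, Int.ofNat 0, Int.ofNat 0],
  [Int.ofNat 0, Int.ofNat 0, Int.ofNat 0, Int.ofNat 0, Int.negSucc 1, Int.ofNat 0, Int.ofNat 0, Int.ofNat 0, Int.ofNat 0, Int.negSucc 1, Int.negSucc 1, Int.ofNat 0, Int.ofNat 0, Int.negSucc 1, Int.ofNat 0, Int.negSucc 1, Int.negSucc 1, Int.ofNat 0, Int.ofNat 0, Int.ofNat 0, Int.ofNat 2, Int.ofNat 0, Int.ofNat 2, Int.ofNat 0],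
  [Int.ofNat 0, Int.ofNat 0, Int.ofNat 0, Int.ofNat 0, Int.ofNat 0, Int.ofNat 0, Int.ofNat 0, Int.ofNat 0, Int.ofNat 0, Int.ofNat 0, Int.ofNat 0, Int.ofNat 0, Int.ofNat 0, Int.ofNat 0, Int.ofNat 0, Int.ofNat 0, Int.ofNat 0, Int.ofNat 0, Int.ofNat 0, Int.ofNat 0, Int.ofNat 4, Int.ofNat 0, Int.ofNat 4, Int.ofNat 0],
  [Int.ofNat 4, Int.ofNat 0, Int.ofNat 4, Int.ofNat 0, Int.ofNat 0, Int.ofNat 0, Int.ofNat 0, Int.ofNat 0, Int.ofNat 0, Int.ofNat 0, Int.ofNat 0, Int.ofNat 0, Int.ofNat 0, Int.ofNat 0, Int.ofNat 0, Int.ofNat 0, Int.ofNat 0, Int.ofNat 0, Int.ofNat 0, Int.ofNat 0, Int.ofNat 0, Int.ofNat 0, Int.ofNat 0, Int.ofNat 0],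
  [Int.ofNat 0, Int.ofNat 4, Int.ofNat 0, Int.ofNat 0, Int.ofNat 0, Int.ofNat 0, Int.ofNat 0, Int.ofNat 0, Int.ofNat 0, Int.ofNat 0, Int.ofNat 0, Int.ofNat 0, Int.ofNat 0, Int.ofNat 0, Int.ofNat 0, Int.ofNat 0, Int.ofNat 0, Int.ofNat 0, Int.ofNat 0, Int.ofNat 0, Int.ofNat 0, Int.ofNat 0, Int.ofNat 0, Int.ofNat 4],
  [Int.ofNat 4, Int.ofNat 0, Int.ofNat 0, Int.ofNat 0, Int.ofNat 0, Int.ofNat 0, Int.ofNat 0, Int.ofNat 0, Int.ofNat 0, Int.ofNat 0, Int.ofNat 0, Int.ofNat 0, Int.ofNat 0, Int.ofNat 0, Int.ofNat 0, Int.ofNat 0, Int.ofNat 0, Int.ofNat 0, Int.ofNat 0, Int.ofNat 0, Int.ofNat 0, Int.ofNat 0, Int.ofNat 0, Int.ofNat 4],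
  [Int.negSucc 3, Int.ofNat 0, Int.ofNat 0, Int.ofNat 0, Int.ofNat 0, Int.ofNat 0, Int.ofNat 0, Int.ofNat 0, Int.ofNat 0, Int.ofNat 0, Int.ofNat 0, Int.ofNat 0, Int.ofNat 0, Int.ofNat 0, Int.ofNat 0, Int.ofNat 0, Int.ofNat 0, Int.ofNat 0, Int.ofNat 0, Int.ofNat 0, Int.ofNat 0, Int.ofNat 0, Int.ofNat 0, Int.ofNat 4],
  [Int.ofNat 4, Int.ofNat 0, Int.ofNat 0, Int.ofNat 0, Int.ofNat 0, Int.ofNat 0, Int.ofNat 0, Int.ofNat 0, Int.ofNat 0, Int.ofNat 0, Int.ofNat 0, Int.ofNat 0, Int.ofNat 0, Int.ofNat 0, Int.ofNat 0, Int.ofNat 0, Int.ofNat 0, Int.ofNat 0, Int.ofNat 0, Int.ofNat 0, Int.ofNat 0, Int.ofNat 0, Int.ofNat 0, Int.ofNat 4],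
  [Int.ofNat 4, Int.ofNat 0, Int.ofNat 0, Int.ofNat 0, Int.ofNat 0, Int.ofNat 0, Int.ofNat 0, Int.ofNat 0, Int.ofNat 0, Int.ofNat 0, Int.ofNat 0, Int.ofNat 0, Int.ofNat 0, Int.ofNat 0, Int.ofNat 0, Int.ofNat 0, Int.ofNat 0, Int.ofNat 0, Int.ofNat 0, Int.ofNat 0, Int.ofNat 0, Int.ofNat 0, Int.ofNat 0, Int.ofNat 4],
  [Int.negSucc 3, Int.ofNat 0, Int.ofNat 0, Int.ofNat 0, Int.ofNat 0, Int.ofNat 0, Int.ofNat 0, Int.ofNat 0, Int.ofNat 0, Int.ofNat 0, Int.ofNat 0, Int.ofNat 0, Int.ofNat 0, Int.ofNat 0, Int.ofNat 0, Int.ofNat 0, Int.ofNat 0, Int.ofNat 0, Int.ofNat 0, Int.ofNat 0, Int.ofNat 0, Int.ofNat 0, Int.ofNat 0, Int.ofNat 4],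
  [Int.ofNat 0, Int.negSucc 3, Int.ofNat 0, Int.ofNat 0, Int.ofNat 0, Int.ofNat 0, Int.ofNat 0, Int.ofNat 0, Int.ofNat 0, Int.ofNat 0, Int.ofNat 0, Int.ofNat 0, Int.ofNat 0, Int.ofNat 0, Int.ofNat 0, Int.ofNat 0, Int.ofNat 0, Int.ofNat 0, Int.ofNat 0, Int.ofNat 0, Int.ofNat 0, Int.ofNat 0, Int.ofNat 0, Int.ofNat 4],
  [Int.ofNat 0, Int.ofNat 4, Int.ofNat 0, Int.ofNat 0, Int.ofNat 0, Int.ofNat 0, Int.ofNat 0, Int.ofNat 0, Int.ofNat 0, Int.ofNat 0, Int.ofNat 0, Int.ofNat 0, Int.ofNat 0, Int.ofNat 0, Int.ofNat 0, Int.ofNat 0, Int.ofNat 0, Int.ofNat 0, Int.ofNat 0, Int.ofNat 0, Int.ofNat 0, Int.ofNat 0, Int.ofNat 0, Int.negSucc 3],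
  [Int.ofNat 0, Int.ofNat 0, Int.ofNat 0, Int.ofNat 0, Int.ofNat 0, Int.ofNat 0, Int.ofNat 0, Int.ofNat 0, Int.ofNat 0, Int.ofNat 0, Int.ofNat 0, Int.ofNat 0, Int.ofNat 0, Int.ofNat 0, Int.ofNat 0, Int.ofNat 0, Int.ofNat 0, Int.ofNat 0, Int.ofNat 0, Int.ofNat 0, Int.ofNat 0, Int.ofNat 4, Int.ofNat 0, Int.negSucc 3],
  [Int.negSucc 1, Int.negSucc 1, Int.negSucc 1, Int.ofNat 0, Int.ofNat 0, Int.ofNat 0, Int.negSucc 1, Int.negSucc 1, Int.ofNat 0, Int.ofNat 0, Int.ofNat 0, Int.ofNat 0, Int.ofNat 0, Int.ofNat 0, Int.ofNat 0, Int.ofNat 0, Int.ofNat 0, Int.ofNat 0, Int.ofNat 0, Int.negSucc 1, Int.ofNat 0, Int.ofNat 2, Int.ofNat 0, Int.ofNat 2],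
  [Int.negSucc 1, Int.negSucc 1, Int.ofNat 0, Int.ofNat 0, Int.ofNat 0, Int.negSucc 1, Int.negSucc 1, Int.ofNat 0, Int.ofNat 0, Int.ofNat 0, Int.ofNat 0, Int.ofNat 0, Int.ofNat 0, Int.ofNat 0, Int.ofNat 0, Int.ofNat 0, Int.ofNat 0, Int.ofNat 0, Int.negSucc 1, Int.ofNat 0, Int.ofNat 2, Int.ofNat 0, Int.negSucc 1, Int.ofNat 2],
  [Int.ofNat 1, Int.ofNat 1, Int.negSucc 0, Int.ofNat 1, Int.ofNat 1, Int.negSucc 0, Int.negSucc 0, Int.ofNat 1, Int.ofNat 1, Int.negSucc 0, Int.negSucc 0, Int.ofNat 1, Int.ofNat 1, Int.ofNat 1, Int.ofNat 1, Int.negSucc 0, Int.ofNat 1, Int.ofNat 1, Int.negSucc 0, Int.ofNat 1, Int.ofNat 1, Int.ofNat 1, Int.negSucc 0, Int.negSucc 2],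
  [Int.ofNat 1, Int.ofNat 1, Int.ofNat 1, Int.ofNat 1, Int.ofNat 1, Int.ofNat 1, Int.ofNat 1, Int.ofNat 1, Int.ofNat 1, Int.ofNat 1, Int.ofNat 1, Int.ofNat 1, Int.ofNat 1, Int.ofNat 1, Int.ofNat 1, Int.ofNat 1, Int.ofNat 1, Int.ofNat 1, Int.ofNat 1, Int.ofNat 1, Int.ofNat 1, Int.ofNat 1, Int.ofNat 1, Int.negSucc 2],
  [Int.ofNat 1, Int.ofNat 1, Int.ofNat 1, Int.ofNat 1, Int.ofNat 1, Int.ofNat 1, Int.ofNat 1, Int.ofNat 1, Int.ofNat 1, Int.ofNat 1, Int.ofNat 1, Int.ofNat 1, Int.ofNat 1, Int.ofNat 1, Int.ofNat 1, Int.ofNat 1, Int.ofNat 1, Int.ofNat 1, Int.ofNat 1, Int.ofNat 1, Int.ofNat 1, Int.ofNat 1, Int.ofNat 1, Int.negSucc 2],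
  [Int.negSucc 2, Int.ofNat 1, Int.ofNat 1, Int.ofNat 1, Int.ofNat 1, Int.ofNat 1, Int.ofNat 1, Int.ofNat 1, Int.ofNat 1, Int.ofNat 1, Int.ofNat 1, Int.ofNat 1, Int.ofNat 1, Int.ofNat 1, Int.ofNat 1, Int.ofNat 1, Int.ofNat 1, Int.ofNat 1, Int.ofNat 1, Int.ofNat 1, Int.ofNat 1, Int.ofNat 1, Int.ofNat 1, Int.ofNat 1],
  [Int.ofNat 3, Int.ofNat 1, Int.negSucc 0, Int.ofNat 1, Int.ofNat 1, Int.ofNat 1, Int.ofNat 1, Int.negSucc 0, Int.ofNat 1, Int.negSucc 0, Int.negSucc 0, Int.negSucc 0, Int.ofNat 1, Int.ofNat 1, Int.ofNat 1, Int.ofNat 1, Int.ofNat 1, Int.ofNat 1, Int.negSucc 0, Int.ofNat 1, Int.ofNat 1, Int.negSucc 0, Int.ofNat 1, Int.ofNat 1],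
  [Int.ofNat 1, Int.ofNat 3, Int.ofNat 1, Int.negSucc 0, Int.ofNat 1, Int.ofNat 1, Int.ofNat 1, Int.ofNat 1, Int.negSucc 0, Int.ofNat 1, Int.negSucc 0, Int.negSucc 0, Int.negSucc 0, Int.ofNat 1, Int.ofNat 1, Int.ofNat 1, Int.ofNat 1, Int.ofNat 1, Int.ofNat 1, Int.negSucc 0, Int.ofNat 1, Int.ofNat 1, Int.negSucc 0, Int.ofNat 1],
  [Int.ofNat 2, Int.ofNat 0, Int.ofNat 2, Int.negSucc 1, Int.ofNat 0, Int.ofNat 0, Int.ofNat 0, Int.ofNat 0, Int.ofNat 0, Int.ofNat 0, Int.negSucc 1, Int.ofNat 0, Int.ofNat 0, Int.ofNat 0, Int.ofNat 0, Int.ofNat 0, Int.ofNat 0, Int.ofNat 0, Int.ofNat 2, Int.negSucc 1, Int.ofNat 0, Int.ofNat 0, Int.negSucc 1, Int.ofNat 2],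
  [Int.negSucc 1, Int.ofNat 0, Int.ofNat 0, Int.ofNat 0, Int.ofNat 0, Int.ofNat 0, Int.ofNat 0, Int.negSucc 1, Int.ofNat 0, Int.ofNat 0, Int.ofNat 0, Int.ofNat 0, Int.ofNat 0, Int.ofNat 0, Int.ofNat 0, Int.ofNat 2, Int.negSucc 1, Int.ofNat 0, Int.ofNat 0, Int.negSucc 1, Int.ofNat 2, Int.ofNat 0, Int.ofNat 2, Int.ofNat 2],
  [Int.ofNat 2, Int.ofNat 0, Int.ofNat 0, Int.ofNat 0, Int.ofNat 0, Int.ofNat 0, Int.ofNat 2, Int.ofNat 0, Int.ofNat 0, Int.negSucc 1, Int.negSucc 1, Int.ofNat 0, Int.ofNat 0, Int.ofNat 0, Int.ofNat 0, Int.ofNat 0, Int.negSucc 1, Int.ofNat 0, Int.ofNat 0, Int.ofNat 0, Int.ofNat 0, Int.ofNat 2, Int.ofNat 2, Int.negSucc 1],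
  [Int.ofNat 2, Int.ofNat 2, Int.ofNat 0, Int.ofNat 0, Int.ofNat 0, Int.ofNat 0, Int.ofNat 0, Int.negSucc 1, Int.ofNat 0, Int.ofNat 0, Int.ofNat 0, Int.ofNat 0, Int.negSucc 1, Int.negSucc 1, Int.ofNat 2, Int.ofNat 0, Int.ofNat 0, Int.ofNat 0, Int.ofNat 0, Int.ofNat 0, Int.ofNat 2, Int.ofNat 0, Int.ofNat 0, Int.negSucc 1],
  [Int.negSucc 0, Int.negSucc 0, Int.ofNat 1, Int.negSucc 0, Int.ofNat 1, Int.negSucc 0, Int.ofNat 1, Int.negSucc 0, Int.ofNat 1, Int.negSucc 0, Int.negSucc 0, Int.ofNat 1, Int.negSucc 0, Int.negSucc 0, Int.ofNat 1, Int.negSucc 0, Int.ofNat 1, Int.negSucc 0, Int.ofNat 1, Int.ofNat 1, Int.ofNat 1, Int.ofNat 1, Int.ofNat 1, Int.ofNat 3],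
  [Int.negSucc 0, Int.negSucc 0, Int.negSucc 0, Int.negSucc 0, Int.ofNat 1, Int.ofNat 1, Int.negSucc 0, Int.negSucc 0, Int.ofNat 1, Int.ofNat 1, Int.ofNat 1, Int.ofNat 1, Int.negSucc 0, Int.negSucc 0, Int.ofNat 1, Int.ofNat 1, Int.ofNat 1, Int.negSucc 0, Int.negSucc 0, Int.ofNat 1, Int.ofNat 1, Int.ofNat 1, Int.negSucc 0, Int.ofNat 3],
  [Int.ofNat 1, Int.ofNat 1, Int.ofNat 1, Int.ofNat 1, Int.negSucc 0, Int.negSucc 0, Int.negSucc 0, Int.negSucc 0, Int.ofNat 1, Int.ofNat 1, Int.ofNat 1, Int.ofNat 1, Int.ofNat 1, Int.ofNat 1, Int.negSucc 0, Int.ofNat 1, Int.negSucc 0, Int.negSucc 0, Int.negSucc 0, Int.negSucc 0, Int.negSucc 0, Int.ofNat 1, Int.negSucc 0, Int.ofNat 3],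
  [Int.ofNat 1, Int.ofNat 1, Int.negSucc 0, Int.ofNat 1, Int.negSucc 0, Int.ofNat 1, Int.ofNat 1, Int.negSucc 0, Int.ofNat 1, Int.negSucc 0, Int.negSucc 0, Int.ofNat 1, Int.ofNat 1, Int.ofNat 1, Int.negSucc 0, Int.negSucc 0, Int.negSucc 0, Int.negSucc 0, Int.ofNat 1, Int.negSucc 0, Int.negSucc 0, Int.ofNat 1, Int.ofNat 1, Int.ofNat 3],
  [Int.ofNat 1, Int.ofNat 1, Int.ofNat 3, Int.ofNat 1, Int.negSucc 0, Int.ofNat 1, Int.ofNat 1, Int.negSucc 0, Int.negSucc 0, Int.ofNat 1, Int.ofNat 1, Int.negSucc 0, Int.negSucc 0, Int.ofNat 1, Int.negSucc 0, Int.ofNat 1, Int.negSucc 0, Int.negSucc 0, Int.negSucc 0, Int.negSucc 0, Int.ofNat 1, Int.ofNat 1, Int.ofNat 1, Int.negSucc 0],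
  [Int.ofNat 1, Int.negSucc 0, Int.ofNat 1, Int.ofNat 1, Int.ofNat 3, Int.ofNat 1, Int.ofNat 1, Int.ofNat 1, Int.negSucc 0, Int.negSucc 0, Int.negSucc 0, Int.negSucc 0, Int.negSucc 0, Int.ofNat 1, Int.negSucc 0, Int.ofNat 1, Int.ofNat 1, Int.negSucc 0, Int.negSucc 0, Int.ofNat 1, Int.ofNat 1, Int.ofNat 1, Int.negSucc 0, Int.negSucc 0],
  [Int.negSucc 0, Int.ofNat 1, Int.negSucc 0, Int.ofNat 1, Int.ofNat 1, Int.ofNat 1, Int.negSucc 0, Int.negSucc 0, Int.ofNat 1, Int.negSucc 0, Int.negSucc 0, Int.ofNat 1, Int.ofNat 1, Int.negSucc 0, Int.negSucc 0, Int.ofNat 1, Int.negSucc 0, Int.negSucc 0, Int.ofNat 1, Int.negSucc 0, Int.ofNat 1, Int.negSucc 0, Int.negSucc 2, Int.ofNat 1],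
  [Int.ofNat 1, Int.negSucc 0, Int.negSucc 2, Int.negSucc 0, Int.ofNat 1, Int.negSucc 0, Int.ofNat 1, Int.ofNat 1, Int.ofNat 1, Int.negSucc 0, Int.negSucc 0, Int.ofNat 1, Int.negSucc 0, Int.negSucc 0, Int.ofNat 1, Int.ofNat 1, Int.negSucc 0, Int.negSucc 0, Int.ofNat 1, Int.negSucc 0, Int.negSucc 0, Int.ofNat 1, Int.negSucc 0, Int.ofNat 1],
  [Int.negSucc 1, Int.ofNat 0, Int.ofNat 2, Int.ofNat 0, Int.ofNat 2, Int.ofNat 0, Int.ofNat 0, Int.ofNat 0, Int.ofNat 0, Int.ofNat 0, Int.ofNat 0, Int.ofNat 0, Int.negSucc 1, Int.ofNat 0, Int.ofNat 2, Int.ofNat 2, Int.ofNat 0, Int.ofNat 0, Int.ofNat 0, Int.negSucc 1, Int.ofNat 0, Int.ofNat 0, Int.ofNat 0, Int.negSucc 1],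
  [Int.ofNat 0, Int.ofNat 2, Int.ofNat 0, Int.ofNat 2, Int.ofNat 0, Int.ofNat 0, Int.ofNat 0, Int.ofNat 0, Int.ofNat 0, Int.ofNat 0, Int.ofNat 0, Int.negSucc 1, Int.ofNat 0, Int.ofNat 2, Int.ofNat 2, Int.ofNat 0, Int.ofNat 0, Int.ofNat 0, Int.negSucc 1, Int.ofNat 0, Int.ofNat 0, Int.ofNat 0, Int.negSucc 1, Int.negSucc 1],
  [Int.ofNat 0, Int.ofNat 2, Int.ofNat 0, Int.ofNat 2, Int.ofNat 0, Int.ofNat 0, Int.ofNat 0, Int.ofNat 0, Int.ofNat 0, Int.ofNat 0, Int.ofNat 0, Int.ofNat 2, Int.ofNat 0, Int.ofNat 2, Int.ofNat 2, Int.ofNat 0, Int.ofNat 0, Int.ofNat 0, Int.ofNat 2, Int.ofNat 0, Int.ofNat 0, Int.ofNat 0, Int.negSucc 1, Int.negSucc 1],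
  [Int.ofNat 0, Int.negSucc 1, Int.ofNat 0, Int.negSucc 1, Int.ofNat 0, Int.ofNat 0, Int.ofNat 0, Int.ofNat 0, Int.ofNat 0, Int.ofNat 0, Int.ofNat 0, Int.ofNat 2, Int.ofNat 0, Int.negSucc 1, Int.ofNat 2, Int.ofNat 0, Int.ofNat 0, Int.ofNat 0, Int.negSucc 1, Int.ofNat 0, Int.ofNat 0, Int.ofNat 0, Int.negSucc 1, Int.negSucc 1],
  [Int.ofNat 0, Int.ofNat 0, Int.negSucc 1, Int.negSucc 1, Int.negSucc 1, Int.ofNat 0, Int.ofNat 0, Int.ofNat 0, Int.ofNat 0, Int.ofNat 0, Int.ofNat 0, Int.ofNat 2, Int.negSucc 1, Int.ofNat 0, Int.ofNat 0, Int.ofNat 0, Int.ofNat 0, Int.negSucc 1, Int.ofNat 0, Int.ofNat 0, Int.ofNat 0, Int.ofNat 0, Int.ofNat 2, Int.negSucc 1],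
  [Int.ofNat 0, Int.ofNat 0, Int.ofNat 2, Int.negSucc 1, Int.negSucc 1, Int.ofNat 0, Int.ofNat 0, Int.ofNat 0, Int.ofNat 0, Int.ofNat 0, Int.ofNat 0, Int.negSucc 1, Int.negSucc 1, Int.ofNat 0, Int.ofNat 0, Int.ofNat 0, Int.ofNat 0, Int.negSucc 1, Int.ofNat 0, Int.ofNat 0, Int.ofNat 0, Int.ofNat 0, Int.ofNat 2, Int.negSucc 1],
  [Int.ofNat 2, Int.ofNat 0, Int.ofNat 0, Int.ofNat 2, Int.negSucc 1, Int.negSucc 1, Int.ofNat 0, Int.ofNat 0, Int.ofNat 0, Int.ofNat 0, Int.ofNat 0, Int.ofNat 0, Int.negSucc 1, Int.negSucc 1, Int.ofNat 0, Int.ofNat 0, Int.ofNat 0, Int.ofNat 0, Int.negSucc 1, Int.ofNat 0, Int.ofNat 0, Int.ofNat 0, Int.ofNat 0, Int.negSucc 1],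
  [Int.negSucc 1, Int.ofNat 0, Int.ofNat 0, Int.ofNat 2, Int.ofNat 0, Int.negSucc 1, Int.ofNat 0, Int.ofNat 0, Int.ofNat 2, Int.ofNat 0, Int.ofNat 0, Int.ofNat 2, Int.ofNat 0, Int.ofNat 0, Int.ofNat 0, Int.ofNat 0, Int.ofNat 2, Int.ofNat 0, Int.ofNat 0, Int.ofNat 0, Int.ofNat 0, Int.ofNat 0, Int.ofNat 2, Int.ofNat 2],
  [Int.ofNat 2, Int.ofNat 0, Int.negSucc 1, Int.ofNat 0, Int.ofNat 0, Int.ofNat 2, Int.ofNat 0, Int.ofNat 0, Int.ofNat 2, Int.ofNat 0, Int.ofNat 0, Int.ofNat 0, Int.ofNat 0, Int.ofNat 2, Int.ofNat 0, Int.ofNat 0, Int.ofNat 0, Int.ofNat 0, Int.ofNat 0, Int.ofNat 2, Int.negSucc 1, Int.ofNat 0, Int.ofNat 0, Int.ofNat 2],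
  [Int.negSucc 0, Int.ofNat 1, Int.ofNat 3, Int.negSucc 0, Int.negSucc 0, Int.ofNat 1, Int.negSucc 0, Int.negSucc 0, Int.ofNat 1, Int.ofNat 1, Int.ofNat 1, Int.negSucc 0, Int.negSucc 0, Int.ofNat 1, Int.negSucc 0, Int.ofNat 1, Int.negSucc 0, Int.negSucc 0, Int.negSucc 0, Int.ofNat 1, Int.negSucc 0, Int.negSucc 0, Int.negSucc 0, Int.negSucc 0],
  [Int.negSucc 0, Int.negSucc 0, Int.negSucc 0, Int.negSucc 0, Int.negSucc 0, Int.negSucc 0, Int.ofNat 3, Int.ofNat 1, Int.negSucc 0, Int.ofNat 1, Int.negSucc 0, Int.negSucc 0, Int.ofNat 1, Int.negSucc 0, Int.negSucc 0, Int.ofNat 1, Int.ofNat 1, Int.negSucc 0, Int.ofNat 1, Int.negSucc 0, Int.negSucc 0, Int.ofNat 1, Int.ofNat 1, Int.negSucc 0],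
  [Int.negSucc 0, Int.negSucc 0, Int.negSucc 0, Int.ofNat 1, Int.negSucc 0, Int.ofNat 1, Int.ofNat 1, Int.negSucc 0, Int.negSucc 0, Int.ofNat 1, Int.negSucc 0, Int.negSucc 0, Int.ofNat 1, Int.negSucc 0, Int.ofNat 1, Int.ofNat 1, Int.ofNat 1, Int.ofNat 1, Int.ofNat 1, Int.negSucc 2, Int.negSucc 0, Int.negSucc 0, Int.ofNat 1, Int.negSucc 0],
  [Int.negSucc 0, Int.negSucc 0, Int.ofNat 1, Int.ofNat 1, Int.negSucc 0, Int.negSucc 0, Int.negSucc 0, Int.negSucc 0, Int.negSucc 0, Int.negSucc 0, Int.ofNat 1, Int.negSucc 0, Int.ofNat 1, Int.negSucc 0, Int.ofNat 1, Int.negSucc 0, Int.ofNat 1, Int.ofNat 1, Int.negSucc 0, Int.negSucc 2, Int.negSucc 0, Int.negSucc 0, Int.negSucc 0, Int.negSucc 0],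
  [Int.ofNat 1, Int.ofNat 1, Int.negSucc 0, Int.negSucc 0, Int.ofNat 1, Int.negSucc 0, Int.negSucc 0, Int.ofNat 1, Int.negSucc 0, Int.negSucc 0, Int.negSucc 0, Int.negSucc 0, Int.negSucc 0, Int.negSucc 0, Int.ofNat 1, Int.negSucc 0, Int.negSucc 2, Int.ofNat 1, Int.negSucc 0, Int.ofNat 1, Int.negSucc 0, Int.negSucc 0, Int.negSucc 0, Int.negSucc 0],
  [Int.negSucc 0, Int.negSucc 0, Int.negSucc 0, Int.negSucc 0, Int.ofNat 1, Int.negSucc 0, Int.ofNat 1, Int.negSucc 0, Int.negSucc 0, Int.negSucc 0, Int.negSucc 2, Int.negSucc 0, Int.negSucc 0, Int.ofNat 1, Int.negSucc 0, Int.negSucc 0, Int.negSucc 0, Int.ofNat 1, Int.ofNat 1, Int.negSucc 0, Int.negSucc 0, Int.negSucc 0, Int.ofNat 1, Int.ofNat 1],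
  [Int.ofNat 1, Int.negSucc 0, Int.ofNat 1, Int.negSucc 0, Int.ofNat 1, Int.negSucc 0, Int.ofNat 1, Int.ofNat 1, Int.negSucc 0, Int.ofNat 1, Int.ofNat 3, Int.ofNat 1, Int.negSucc 0, Int.ofNat 1, Int.negSucc 0, Int.negSucc 0, Int.negSucc 0, Int.ofNat 1, Int.negSucc 0, Int.negSucc 0, Int.negSucc 0, Int.ofNat 1, Int.ofNat 1, Int.ofNat 1],
  [Int.ofNat 1, Int.ofNat 1, Int.negSucc 0, Int.ofNat 1, Int.negSucc 0, Int.ofNat 1, Int.negSucc 0, Int.ofNat 1, Int.ofNat 1, Int.negSucc 0, Int.ofNat 1, Int.ofNat 3, Int.ofNat 1, Int.negSucc 0, Int.ofNat 1, Int.negSucc 0, Int.negSucc 0, Int.negSucc 0, Int.ofNat 1, Int.negSucc 0, Int.negSucc 0, Int.negSucc 0, Int.ofNat 1, Int.ofNat 1],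
  [Int.ofNat 0, Int.ofNat 0, Int.ofNat 2, Int.ofNat 0, Int.ofNat 0, Int.ofNat 0, Int.ofNat 0, Int.ofNat 2, Int.negSucc 1, Int.ofNat 0, Int.ofNat 2, Int.ofNat 0, Int.negSucc 1, Int.ofNat 0, Int.ofNat 0, Int.ofNat 0, Int.ofNat 0, Int.negSucc 1, Int.negSucc 1, Int.ofNat 0, Int.ofNat 0, Int.ofNat 0, Int.ofNat 2, Int.ofNat 0],
  [Int.ofNat 0, Int.ofNat 0, Int.ofNat 0, Int.ofNat 0, Int.ofNat 2, Int.negSucc 1, Int.ofNat 0, Int.ofNat 2, Int.ofNat 0, Int.negSucc 1, Int.ofNat 0, Int.ofNat 0, Int.ofNat 0, Int.ofNat 0, Int.negSucc 1, Int.negSucc 1, Int.ofNat 0, Int.ofNat 0, Int.ofNat 0, Int.ofNat 2, Int.ofNat 0, Int.ofNat 0, Int.ofNat 2, Int.ofNat 0],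
  [Int.ofNat 0, Int.ofNat 0, Int.ofNat 0, Int.ofNat 2, Int.ofNat 0, Int.ofNat 0, Int.negSucc 1, Int.ofNat 0, Int.ofNat 0, Int.ofNat 0, Int.ofNat 2, Int.ofNat 0, Int.ofNat 0, Int.negSucc 1, Int.ofNat 0, Int.ofNat 0, Int.negSucc 1, Int.ofNat 2, Int.ofNat 0, Int.ofNat 0, Int.ofNat 2, Int.negSucc 1, Int.ofNat 0, Int.ofNat 0],
  [Int.ofNat 0, Int.negSucc 1, Int.ofNat 0, Int.ofNat 2, Int.ofNat 0, Int.ofNat 0, Int.ofNat 0, Int.ofNat 2, Int.ofNat 0, Int.negSucc 1, Int.ofNat 2, Int.ofNat 2, Int.ofNat 0, Int.negSucc 1, Int.ofNat 0, Int.ofNat 0, Int.ofNat 0, Int.ofNat 0, Int.ofNat 0, Int.ofNat 0, Int.negSucc 1, Int.ofNat 0, Int.ofNat 0, Int.ofNat 0],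
  [Int.negSucc 0, Int.ofNat 1, Int.negSucc 0, Int.ofNat 1, Int.ofNat 1, Int.negSucc 0, Int.negSucc 0, Int.ofNat 1, Int.negSucc 0, Int.negSucc 0, Int.ofNat 3, Int.ofNat 1, Int.negSucc 0, Int.negSucc 0, Int.negSucc 0, Int.ofNat 1, Int.ofNat 1, Int.negSucc 0, Int.negSucc 0, Int.negSucc 0, Int.negSucc 0, Int.negSucc 0, Int.ofNat 1, Int.negSucc 0],
  [Int.negSucc 0, Int.ofNat 1, Int.ofNat 1, Int.ofNat 1, Int.ofNat 1, Int.ofNat 1, Int.ofNat 1, Int.ofNat 1, Int.negSucc 0, Int.ofNat 1, Int.negSucc 2, Int.ofNat 1, Int.negSucc 0, Int.negSucc 0, Int.negSucc 0, Int.negSucc 0, Int.ofNat 1, Int.negSucc 0, Int.ofNat 1, Int.negSucc 0, Int.negSucc 0, Int.negSucc 0, Int.negSucc 0, Int.negSucc 0],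
  [Int.negSucc 0, Int.negSucc 0, Int.ofNat 1, Int.ofNat 1, Int.ofNat 1, Int.negSucc 0, Int.ofNat 1, Int.negSucc 0, Int.negSucc 0, Int.ofNat 1, Int.negSucc 0, Int.ofNat 1, Int.negSucc 2, Int.negSucc 0, Int.negSucc 0, Int.ofNat 1, Int.ofNat 1, Int.negSucc 0, Int.ofNat 1, Int.negSucc 0, Int.ofNat 1, Int.negSucc 0, Int.ofNat 1, Int.negSucc 0],
  [Int.negSucc 0, Int.negSucc 0, Int.negSucc 0, Int.ofNat 1, Int.ofNat 1, Int.ofNat 1, Int.negSucc 0, Int.negSucc 0, Int.negSucc 0, Int.negSucc 0, Int.ofNat 1, Int.ofNat 1, Int.negSucc 2, Int.negSucc 0, Int.negSucc 0, Int.negSucc 0, Int.ofNat 1, Int.negSucc 0, Int.negSucc 0, Int.negSucc 0, Int.ofNat 1, Int.negSucc 0, Int.negSucc 0, Int.negSucc 0],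
  [Int.negSucc 0, Int.negSucc 0, Int.negSucc 0, Int.ofNat 1, Int.ofNat 1, Int.ofNat 1, Int.ofNat 1, Int.ofNat 1, Int.ofNat 1, Int.negSucc 0, Int.ofNat 1, Int.ofNat 3, Int.negSucc 0, Int.negSucc 0, Int.negSucc 0, Int.negSucc 0, Int.ofNat 1, Int.negSucc 0, Int.ofNat 1, Int.ofNat 1, Int.ofNat 1, Int.ofNat 1, Int.negSucc 0, Int.negSucc 0],
  [Int.negSucc 0, Int.ofNat 1, Int.ofNat 1, Int.ofNat 1, Int.negSucc 0, Int.ofNat 1, Int.negSucc 0, Int.ofNat 1, Int.ofNat 1, Int.negSucc 0, Int.ofNat 1, Int.ofNat 1, Int.ofNat 1, Int.negSucc 0, Int.negSucc 0, Int.negSucc 0, Int.negSucc 0, Int.ofNat 3, Int.ofNat 1, Int.negSucc 0, Int.ofNat 1, Int.ofNat 1, Int.negSucc 0, Int.negSucc 0],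
  [Int.ofNat 1, Int.negSucc 0, Int.negSucc 0, Int.negSucc 0, Int.ofNat 1, Int.negSucc 0, Int.negSucc 0, Int.ofNat 1, Int.negSucc 0, Int.negSucc 0, Int.ofNat 1, Int.negSucc 0, Int.negSucc 0, Int.ofNat 1, Int.negSucc 2, Int.negSucc 0, Int.ofNat 1, Int.ofNat 1, Int.negSucc 0, Int.negSucc 0, Int.ofNat 1, Int.ofNat 1, Int.ofNat 1, Int.ofNat 1],
  [Int.ofNat 1, Int.ofNat 1, Int.ofNat 1, Int.ofNat 1, Int.negSucc 0, Int.negSucc 0, Int.negSucc 0, Int.ofNat 1, Int.negSucc 0, Int.negSucc 0, Int.ofNat 1, Int.negSucc 0, Int.negSucc 0, Int.ofNat 1, Int.negSucc 0, Int.negSucc 0, Int.ofNat 1, Int.negSucc 2, Int.negSucc 0, Int.ofNat 1, Int.ofNat 1, Int.negSucc 0, Int.negSucc 0, Int.ofNat 1],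
  [Int.ofNat 1, Int.ofNat 1, Int.ofNat 1, Int.ofNat 3, Int.negSucc 0, Int.ofNat 1, Int.negSucc 0, Int.ofNat 1, Int.ofNat 1, Int.negSucc 0, Int.ofNat 1, Int.ofNat 1, Int.ofNat 1, Int.ofNat 1, Int.ofNat 1, Int.negSucc 0, Int.ofNat 1, Int.negSucc 0, Int.ofNat 1, Int.ofNat 1, Int.ofNat 1, Int.negSucc 0, Int.negSucc 0, Int.ofNat 1],
  [Int.ofNat 1, Int.ofNat 1, Int.ofNat 3, Int.negSucc 0, Int.ofNat 1, Int.negSucc 0, Int.ofNat 1, Int.ofNat 1, Int.negSucc 0, Int.ofNat 1, Int.ofNat 1, Int.ofNat 1, Int.ofNat 1, Int.ofNat 1, Int.negSucc 0, Int.ofNat 1, Int.negSucc 0, Int.ofNat 1, Int.ofNat 1, Int.ofNat 1, Int.negSucc 0, Int.negSucc 0, Int.ofNat 1, Int.ofNat 1],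
  [Int.negSucc 0, Int.ofNat 1, Int.negSucc 2, Int.negSucc 0, Int.ofNat 1, Int.negSucc 0, Int.ofNat 1, Int.negSucc 0, Int.negSucc 0, Int.negSucc 0, Int.negSucc 0, Int.negSucc 0, Int.ofNat 1, Int.ofNat 1, Int.negSucc 0, Int.ofNat 1, Int.negSucc 0, Int.ofNat 1, Int.negSucc 0, Int.ofNat 1, Int.negSucc 0, Int.ofNat 1, Int.ofNat 1, Int.ofNat 1]]

set_option maxRecDepth 100000 in
theorem c1te11_chk : pmChk (List.replicate 14 [11, 0, 26, 25]).flatten nxL c1te11M 0 0 = true := by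
  decide +kernel

theorem c1te11_ne : wE letE2 (List.replicate 14 [11, 0, 26, 25]).flatten ≠ 1 ∧ wE letE2 (List.replicate 14 [11, 0, 26, 25]).flatten ≠ negElt :=
  ne_pm_of_chk nxL_mem c1te11_chk

set_option maxRecDepth 100000 in
def c1te12M : List (List ℤ) :=
  [[Int.ofNat 4, Int.ofNat 0, Int.ofNat 0, Int.ofNat 0, Int.ofNat 0, Int.ofNat 0, Int.ofNat 0, Int.ofNat 0, Int.ofNat 0, Int.ofNat 0, Int.ofNat 0, Int.ofNat 0, Int.ofNat 0, Int.ofNat 0, Int.ofNat 0, Int.ofNat 0, Int.ofNat 0, Int.ofNat 0, Int.ofNat 0, Int.ofNat 0, Int.ofNat 0, Int.ofNat 0, Int.ofNat 0, Int.ofNat 4],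
  [Int.ofNat 4, Int.ofNat 0, Int.ofNat 0, Int.ofNat 0, Int.ofNat 0, Int.ofNat 0, Int.ofNat 0, Int.ofNat 0, Int.ofNat 0, Int.ofNat 0, Int.ofNat 0, Int.ofNat 0, Int.ofNat 0, Int.ofNat 0, Int.ofNat 0, Int.ofNat 0, Int.ofNat 0, Int.ofNat 0, Int.ofNat 0, Int.ofNat 0, Int.ofNat 0, Int.ofNat 0, Int.ofNat 0, Int.ofNat 4],
  [Int.negSucc 3, Int.ofNat 0, Int.ofNat 0, Int.ofNat 0, Int.ofNat 0, Int.ofNat 0, Int.ofNat 0, Int.ofNat 0, Int.ofNat 0, Int.ofNat 0, Int.ofNat 0, Int.ofNat 0, Int.ofNat 0, Int.ofNat 0, Int.ofNat 0, Int.ofNat 0, Int.ofNat 0, Int.ofNat 0, Int.ofNat 0, Int.ofNat 0, Int.ofNat 0, Int.ofNat 0, Int.ofNat 0, Int.ofNat 4],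
  [Int.ofNat 0, Int.negSucc 3, Int.ofNat 0, Int.ofNat 0, Int.ofNat 0, Int.ofNat 0, Int.ofNat 0, Int.ofNat 0, Int.ofNat 0, Int.ofNat 0, Int.ofNat 0, Int.ofNat 0, Int.ofNat 0, Int.ofNat 0, Int.ofNat 0, Int.ofNat 0, Int.ofNat 0, Int.ofNat 0, Int.ofNat 0, Int.ofNat 0, Int.ofNat 0, Int.ofNat 0, Int.ofNat 0, Int.ofNat 4],
  [Int.ofNat 0, Int.ofNat 4, Int.ofNat 0, Int.ofNat 0, Int.ofNat 0, Int.ofNat 0, Int.ofNat 0, Int.ofNat 0, Int.ofNat 0, Int.ofNat 0, Int.ofNat 0, Int.ofNat 0, Int.ofNat 0, Int.ofNat 0, Int.ofNat 0, Int.ofNat 0, Int.ofNat 0, Int.ofNat 0, Int.ofNat 0, Int.ofNat 0, Int.ofNat 0, Int.ofNat 0, Int.ofNat 0, Int.negSucc 3],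
  [Int.ofNat 0, Int.ofNat 0, Int.ofNat 0, Int.ofNat 0, Int.ofNat 0, Int.ofNat 0, Int.ofNat 0, Int.ofNat 0, Int.ofNat 0, Int.ofNat 0, Int.ofNat 0, Int.ofNat 0, Int.ofNat 0, Int.ofNat 0, Int.ofNat 0, Int.ofNat 0, Int.ofNat 0, Int.ofNat 0, Int.ofNat 0, Int.ofNat 0, Int.ofNat 0, Int.ofNat 4, Int.ofNat 0, Int.negSucc 3],
  [Int.negSucc 1, Int.negSucc 1, Int.negSucc 1, Int.ofNat 0, Int.ofNat 0, Int.ofNat 0, Int.negSucc 1, Int.negSucc 1, Int.ofNat 0, Int.ofNat 0, Int.ofNat 0, Int.ofNat 0, Int.ofNat 0, Int.ofNat 0, Int.ofNat 0, Int.ofNat 0, Int.ofNat 0, Int.ofNat 0, Int.ofNat 0, Int.negSucc 1, Int.ofNat 0, Int.ofNat 2, Int.ofNat 0, Int.ofNat 2],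
  [Int.negSucc 1, Int.negSucc 1, Int.ofNat 0, Int.ofNat 0, Int.ofNat 0, Int.negSucc 1, Int.negSucc 1, Int.ofNat 0, Int.ofNat 0, Int.ofNat 0, Int.ofNat 0, Int.ofNat 0, Int.ofNat 0, Int.ofNat 0, Int.ofNat 0, Int.ofNat 0, Int.ofNat 0, Int.ofNat 0, Int.negSucc 1, Int.ofNat 0, Int.ofNat 2, Int.ofNat 0, Int.negSucc 1, Int.ofNat 2],
  [Int.ofNat 1, Int.ofNat 1, Int.negSucc 0, Int.ofNat 1, Int.ofNat 1, Int.negSucc 0, Int.negSucc 0, Int.ofNat 1, Int.ofNat 1, Int.negSucc 0, Int.negSucc 0, Int.ofNat 1, Int.ofNat 1, Int.ofNat 1, Int.ofNat 1, Int.negSucc 0, Int.ofNat 1, Int.ofNat 1, Int.negSucc 0, Int.ofNat 1, Int.ofNat 1, Int.ofNat 1, Int.negSucc 0, Int.negSucc 2],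
  [Int.ofNat 1, Int.ofNat 1, Int.ofNat 1, Int.ofNat 1, Int.ofNat 1, Int.ofNat 1, Int.ofNat 1, Int.ofNat 1, Int.ofNat 1, Int.ofNat 1, Int.ofNat 1, Int.ofNat 1, Int.ofNat 1, Int.ofNat 1, Int.ofNat 1, Int.ofNat 1, Int.ofNat 1, Int.ofNat 1, Int.ofNat 1, Int.ofNat 1, Int.ofNat 1, Int.ofNat 1, Int.ofNat 1, Int.negSucc 2],
  [Int.ofNat 1, Int.ofNat 1, Int.ofNat 1, Int.ofNat 1, Int.ofNat 1, Int.ofNat 1, Int.ofNat 1, Int.ofNat 1, Int.ofNat 1, Int.ofNat 1, Int.ofNat 1, Int.ofNat 1, Int.ofNat 1, Int.ofNat 1, Int.ofNat 1, Int.ofNat 1, Int.ofNat 1, Int.ofNat 1, Int.ofNat 1, Int.ofNat 1, Int.ofNat 1, Int.ofNat 1, Int.ofNat 1, Int.negSucc 2],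
  [Int.negSucc 2, Int.ofNat 1, Int.ofNat 1, Int.ofNat 1, Int.ofNat 1, Int.ofNat 1, Int.ofNat 1, Int.ofNat 1, Int.ofNat 1, Int.ofNat 1, Int.ofNat 1, Int.ofNat 1, Int.ofNat 1, Int.ofNat 1, Int.ofNat 1, Int.ofNat 1, Int.ofNat 1, Int.ofNat 1, Int.ofNat 1, Int.ofNat 1, Int.ofNat 1, Int.ofNat 1, Int.ofNat 1, Int.ofNat 1],
  [Int.ofNat 3, Int.ofNat 1, Int.negSucc 0, Int.ofNat 1, Int.ofNat 1, Int.ofNat 1, Int.ofNat 1, Int.negSucc 0, Int.ofNat 1, Int.negSucc 0, Int.negSucc 0, Int.negSucc 0, Int.ofNat 1, Int.ofNat 1, Int.ofNat 1, Int.ofNat 1, Int.ofNat 1, Int.ofNat 1, Int.negSucc 0, Int.ofNat 1, Int.ofNat 1, Int.negSucc 0, Int.ofNat 1, Int.ofNat 1],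
  [Int.ofNat 1, Int.ofNat 3, Int.ofNat 1, Int.negSucc 0, Int.ofNat 1, Int.ofNat 1, Int.ofNat 1, Int.ofNat 1, Int.negSucc 0, Int.ofNat 1, Int.negSucc 0, Int.negSucc 0, Int.negSucc 0, Int.ofNat 1, Int.ofNat 1, Int.ofNat 1, Int.ofNat 1, Int.ofNat 1, Int.ofNat 1, Int.negSucc 0, Int.ofNat 1, Int.ofNat 1, Int.negSucc 0, Int.ofNat 1],
  [Int.ofNat 2, Int.ofNat 0, Int.ofNat 2, Int.negSucc 1, Int.ofNat 0, Int.ofNat 0, Int.ofNat 0, Int.ofNat 0, Int.ofNat 0, Int.ofNat 0, Int.negSucc 1, Int.ofNat 0, Int.ofNat 0, Int.ofNat 0, Int.ofNat 0, Int.ofNat 0, Int.ofNat 0, Int.ofNat 0, Int.ofNat 2, Int.negSucc 1, Int.ofNat 0, Int.ofNat 0, Int.negSucc 1, Int.ofNat 2],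
  [Int.negSucc 1, Int.ofNat 0, Int.ofNat 0, Int.ofNat 0, Int.ofNat 0, Int.ofNat 0, Int.ofNat 0, Int.negSucc 1, Int.ofNat 0, Int.ofNat 0, Int.ofNat 0, Int.ofNat 0, Int.ofNat 0, Int.ofNat 0, Int.ofNat 0, Int.ofNat 2, Int.negSucc 1, Int.ofNat 0, Int.ofNat 0, Int.negSucc 1, Int.ofNat 2, Int.ofNat 0, Int.ofNat 2, Int.ofNat 2],
  [Int.ofNat 2, Int.ofNat 0, Int.ofNat 0, Int.ofNat 0, Int.ofNat 0, Int.ofNat 0, Int.ofNat 2, Int.ofNat 0, Int.ofNat 0, Int.negSucc 1, Int.negSucc 1, Int.ofNat 0, Int.ofNat 0, Int.ofNat 0, Int.ofNat 0, Int.ofNat 0, Int.negSucc 1, Int.ofNat 0, Int.ofNat 0, Int.ofNat 0, Int.ofNat 0, Int.ofNat 2, Int.ofNat 2, Int.negSucc 1],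
  [Int.ofNat 2, Int.ofNat 2, Int.ofNat 0, Int.ofNat 0, Int.ofNat 0, Int.ofNat 0, Int.ofNat 0, Int.negSucc 1, Int.ofNat 0, Int.ofNat 0, Int.ofNat 0, Int.ofNat 0, Int.negSucc 1, Int.negSucc 1, Int.ofNat 2, Int.ofNat 0, Int.ofNat 0, Int.ofNat 0, Int.ofNat 0, Int.ofNat 0, Int.ofNat 2, Int.ofNat 0, Int.ofNat 0, Int.negSucc 1],
  [Int.negSucc 0, Int.negSucc 0, Int.ofNat 1, Int.negSucc 0, Int.ofNat 1, Int.negSucc 0, Int.ofNat 1, Int.negSucc 0, Int.ofNat 1, Int.negSucc 0, Int.negSucc 0, Int.ofNat 1, Int.negSucc 0, Int.negSucc 0, Int.ofNat 1, Int.negSucc 0, Int.ofNat 1, Int.negSucc 0, Int.ofNat 1, Int.ofNat 1, Int.ofNat 1, Int.ofNat 1, Int.ofNat 1, Int.ofNat 3],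
  [Int.negSucc 0, Int.negSucc 0, Int.negSucc 0, Int.negSucc 0, Int.ofNat 1, Int.ofNat 1, Int.negSucc 0, Int.negSucc 0, Int.ofNat 1, Int.ofNat 1, Int.ofNat 1, Int.ofNat 1, Int.negSucc 0, Int.negSucc 0, Int.ofNat 1, Int.ofNat 1, Int.ofNat 1, Int.negSucc 0, Int.negSucc 0, Int.ofNat 1, Int.ofNat 1, Int.ofNat 1, Int.negSucc 0, Int.ofNat 3],
  [Int.negSucc 0, Int.negSucc 0, Int.ofNat 1, Int.ofNat 1, Int.negSucc 0, Int.ofNat 1, Int.negSucc 0, Int.negSucc 0, Int.negSucc 0, Int.ofNat 1, Int.negSucc 0, Int.negSucc 0, Int.negSucc 0, Int.ofNat 1, Int.negSucc 0, Int.ofNat 1, Int.ofNat 1, Int.ofNat 1, Int.ofNat 1, Int.negSucc 0, Int.ofNat 1, Int.ofNat 1, Int.ofNat 1, Int.ofNat 3],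
  [Int.negSucc 0, Int.negSucc 0, Int.negSucc 0, Int.ofNat 1, Int.negSucc 0, Int.negSucc 0, Int.ofNat 1, Int.negSucc 0, Int.negSucc 0, Int.negSucc 0, Int.ofNat 1, Int.negSucc 0, Int.negSucc 0, Int.ofNat 1, Int.negSucc 0, Int.negSucc 0, Int.ofNat 1, Int.ofNat 1, Int.negSucc 0, Int.negSucc 0, Int.ofNat 1, Int.ofNat 1, Int.negSucc 0, Int.ofNat 3],
  [Int.ofNat 1, Int.ofNat 1, Int.ofNat 1, Int.ofNat 1, Int.negSucc 0, Int.negSucc 0, Int.ofNat 1, Int.negSucc 0, Int.ofNat 1, Int.negSucc 0, Int.ofNat 1, Int.ofNat 1, Int.ofNat 1, Int.ofNat 1, Int.negSucc 0, Int.negSucc 0, Int.ofNat 1, Int.ofNat 1, Int.ofNat 1, Int.negSucc 0, Int.ofNat 1, Int.ofNat 1, Int.negSucc 0, Int.negSucc 2],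
  [Int.ofNat 1, Int.ofNat 1, Int.ofNat 1, Int.ofNat 1, Int.ofNat 1, Int.ofNat 1, Int.ofNat 1, Int.negSucc 0, Int.ofNat 1, Int.ofNat 1, Int.negSucc 0, Int.negSucc 0, Int.ofNat 1, Int.negSucc 0, Int.ofNat 1, Int.negSucc 0, Int.ofNat 1, Int.ofNat 1, Int.negSucc 0, Int.negSucc 0, Int.ofNat 1, Int.ofNat 1, Int.negSucc 0, Int.negSucc 2],
  [Int.negSucc 0, Int.negSucc 0, Int.negSucc 0, Int.negSucc 0, Int.ofNat 1, Int.negSucc 0, Int.ofNat 1, Int.negSucc 0, Int.ofNat 1, Int.ofNat 1, Int.negSucc 0, Int.negSucc 0, Int.ofNat 1, Int.negSucc 0, Int.negSucc 0, Int.negSucc 0, Int.ofNat 1, Int.negSucc 0, Int.negSucc 0, Int.negSucc 0, Int.ofNat 1, Int.ofNat 1, Int.negSucc 0, Int.ofNat 3],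
  [Int.ofNat 1, Int.ofNat 1, Int.negSucc 0, Int.negSucc 0, Int.negSucc 0, Int.negSucc 0, Int.negSucc 0, Int.ofNat 1, Int.negSucc 0, Int.ofNat 1, Int.negSucc 0, Int.ofNat 1, Int.ofNat 1, Int.negSucc 0, Int.negSucc 0, Int.ofNat 1, Int.negSucc 0, Int.negSucc 0, Int.negSucc 0, Int.ofNat 1, Int.negSucc 0, Int.negSucc 0, Int.negSucc 0, Int.ofNat 3],
  [Int.ofNat 1, Int.ofNat 1, Int.ofNat 3, Int.ofNat 1, Int.ofNat 1, Int.ofNat 1, Int.negSucc 0, Int.ofNat 1, Int.negSucc 0, Int.ofNat 1, Int.negSucc 0, Int.ofNat 1, Int.ofNat 1, Int.ofNat 1, Int.ofNat 1, Int.ofNat 1, Int.ofNat 1, Int.ofNat 1, Int.negSucc 0, Int.ofNat 1, Int.negSucc 0, Int.negSucc 0, Int.ofNat 1, Int.negSucc 0],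
  [Int.ofNat 1, Int.ofNat 3, Int.ofNat 1, Int.ofNat 1, Int.ofNat 1, Int.negSucc 0, Int.ofNat 1, Int.negSucc 0, Int.ofNat 1, Int.negSucc 0, Int.ofNat 1, Int.ofNat 1, Int.ofNat 1, Int.ofNat 1, Int.ofNat 1, Int.ofNat 1, Int.ofNat 1, Int.negSucc 0, Int.ofNat 1, Int.negSucc 0, Int.negSucc 0, Int.ofNat 1, Int.ofNat 1, Int.negSucc 0],
  [Int.negSucc 0, Int.ofNat 3, Int.negSucc 0, Int.ofNat 1, Int.ofNat 1, Int.negSucc 0, Int.ofNat 1, Int.ofNat 1, Int.ofNat 1, Int.ofNat 1, Int.negSucc 0, Int.negSucc 0, Int.ofNat 1, Int.ofNat 1, Int.ofNat 1, Int.ofNat 1, Int.ofNat 1, Int.negSucc 0, Int.negSucc 0, Int.negSucc 0, Int.negSucc 0, Int.negSucc 0, Int.ofNat 1, Int.negSucc 0],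
  [Int.ofNat 1, Int.negSucc 2, Int.ofNat 1, Int.negSucc 0, Int.negSucc 0, Int.negSucc 0, Int.negSucc 0, Int.ofNat 1, Int.negSucc 0, Int.negSucc 0, Int.negSucc 0, Int.negSucc 0, Int.negSucc 0, Int.negSucc 0, Int.ofNat 1, Int.ofNat 1, Int.negSucc 0, Int.negSucc 0, Int.ofNat 1, Int.negSucc 0, Int.negSucc 0, Int.negSucc 0, Int.ofNat 1, Int.negSucc 0],
  [Int.ofNat 1, Int.ofNat 1, Int.ofNat 1, Int.negSucc 0, Int.negSucc 2, Int.negSucc 0, Int.negSucc 0, Int.negSucc 0, Int.negSucc 0, Int.negSucc 0, Int.negSucc 0, Int.ofNat 1, Int.negSucc 0, Int.negSucc 0, Int.negSucc 0, Int.ofNat 1, Int.negSucc 0, Int.ofNat 1, Int.negSucc 0, Int.negSucc 0, Int.negSucc 0, Int.ofNat 1, Int.negSucc 0, Int.negSucc 0],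
  [Int.negSucc 0, Int.ofNat 1, Int.negSucc 0, Int.negSucc 0, Int.negSucc 2, Int.negSucc 0, Int.negSucc 0, Int.ofNat 1, Int.negSucc 0, Int.ofNat 1, Int.ofNat 1, Int.negSucc 0, Int.negSucc 0, Int.negSucc 0, Int.negSucc 0, Int.ofNat 1, Int.negSucc 0, Int.ofNat 1, Int.ofNat 1, Int.negSucc 0, Int.negSucc 0, Int.negSucc 0, Int.negSucc 0, Int.negSucc 0],
  [Int.negSucc 0, Int.negSucc 0, Int.ofNat 1, Int.negSucc 0, Int.negSucc 0, Int.negSucc 2, Int.negSucc 0, Int.negSucc 0, Int.ofNat 1, Int.negSucc 0, Int.ofNat 1, Int.ofNat 1, Int.negSucc 0, Int.negSucc 0, Int.negSucc 0, Int.negSucc 0, Int.ofNat 1, Int.negSucc 0, Int.ofNat 1, Int.ofNat 1, Int.negSucc 0, Int.negSucc 0, Int.negSucc 0, Int.negSucc 0],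
  [Int.ofNat 0, Int.ofNat 0, Int.negSucc 1, Int.ofNat 2, Int.ofNat 0, Int.ofNat 0, Int.ofNat 0, Int.ofNat 0, Int.ofNat 0, Int.ofNat 0, Int.ofNat 2, Int.ofNat 0, Int.negSucc 1, Int.ofNat 0, Int.ofNat 2, Int.ofNat 0, Int.ofNat 2, Int.ofNat 2, Int.ofNat 0, Int.ofNat 2, Int.ofNat 0, Int.ofNat 0, Int.ofNat 0, Int.ofNat 0],
  [Int.ofNat 2, Int.ofNat 0, Int.ofNat 0, Int.ofNat 0, Int.ofNat 0, Int.ofNat 0, Int.ofNat 0, Int.ofNat 2, Int.ofNat 0, Int.negSucc 1, Int.ofNat 0, Int.ofNat 2, Int.ofNat 0, Int.ofNat 2, Int.ofNat 2, Int.ofNat 0, Int.ofNat 2, Int.ofNat 0, Int.ofNat 0, Int.ofNat 0, Int.ofNat 0, Int.ofNat 0, Int.negSucc 1, Int.ofNat 0],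
  [Int.negSucc 0, Int.ofNat 1, Int.ofNat 1, Int.negSucc 0, Int.negSucc 0, Int.negSucc 0, Int.negSucc 0, Int.ofNat 1, Int.negSucc 0, Int.negSucc 0, Int.ofNat 1, Int.ofNat 1, Int.negSucc 0, Int.ofNat 1, Int.ofNat 1, Int.ofNat 1, Int.ofNat 1, Int.negSucc 0, Int.negSucc 0, Int.negSucc 0, Int.ofNat 1, Int.negSucc 0, Int.negSucc 2, Int.ofNat 1],
  [Int.negSucc 0, Int.negSucc 0, Int.negSucc 0, Int.negSucc 0, Int.negSucc 0, Int.ofNat 1, Int.ofNat 1, Int.ofNat 1, Int.negSucc 0, Int.ofNat 1, Int.ofNat 1, Int.negSucc 0, Int.negSucc 0, Int.ofNat 1, Int.negSucc 2, Int.ofNat 1, Int.negSucc 0, Int.ofNat 1, Int.ofNat 1, Int.ofNat 1, Int.negSucc 0, Int.negSucc 0, Int.negSucc 0, Int.ofNat 1],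
  [Int.ofNat 0, Int.ofNat 0, Int.ofNat 0, Int.ofNat 0, Int.ofNat 0, Int.ofNat 2, Int.ofNat 0, Int.ofNat 0, Int.ofNat 0, Int.ofNat 0, Int.ofNat 0, Int.ofNat 0, Int.ofNat 0, Int.ofNat 2, Int.negSucc 1, Int.ofNat 0, Int.ofNat 0, Int.ofNat 2, Int.ofNat 2, Int.ofNat 0, Int.negSucc 1, Int.negSucc 1, Int.ofNat 0, Int.negSucc 1],
  [Int.ofNat 0, Int.ofNat 0, Int.ofNat 0, Int.ofNat 0, Int.ofNat 0, Int.negSucc 1, Int.ofNat 0, Int.ofNat 0, Int.ofNat 0, Int.ofNat 0, Int.ofNat 0, Int.ofNat 0, Int.ofNat 0, Int.ofNat 2, Int.negSucc 1, Int.ofNat 0, Int.ofNat 0, Int.ofNat 2, Int.negSucc 1, Int.ofNat 0, Int.negSucc 1, Int.negSucc 1, Int.ofNat 0, Int.negSucc 1],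
  [Int.ofNat 0, Int.ofNat 0, Int.ofNat 0, Int.ofNat 0, Int.negSucc 1, Int.ofNat 0, Int.negSucc 1, Int.ofNat 0, Int.negSucc 1, Int.negSucc 1, Int.ofNat 2, Int.ofNat 0, Int.ofNat 0, Int.ofNat 0, Int.ofNat 2, Int.negSucc 1, Int.ofNat 0, Int.ofNat 0, Int.ofNat 0, Int.ofNat 0, Int.ofNat 0, Int.ofNat 0, Int.ofNat 0, Int.negSucc 1],
  [Int.negSucc 1, Int.ofNat 0, Int.ofNat 0, Int.negSucc 1, Int.ofNat 0, Int.negSucc 1, Int.ofNat 0, Int.ofNat 0, Int.ofNat 0, Int.ofNat 0, Int.ofNat 0, Int.ofNat 0, Int.ofNat 0, Int.ofNat 0, Int.ofNat 0, Int.ofNat 0, Int.ofNat 2, Int.negSucc 1, Int.ofNat 2, Int.negSucc 1, Int.negSucc 1, Int.ofNat 0, Int.ofNat 0, Int.ofNat 0],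
  [Int.ofNat 2, Int.ofNat 0, Int.ofNat 0, Int.negSucc 1, Int.ofNat 0, Int.negSucc 1, Int.ofNat 0, Int.ofNat 0, Int.ofNat 0, Int.ofNat 0, Int.ofNat 0, Int.ofNat 0, Int.ofNat 0, Int.ofNat 0, Int.ofNat 0, Int.ofNat 0, Int.ofNat 2, Int.negSucc 1, Int.negSucc 1, Int.negSucc 1, Int.negSucc 1, Int.ofNat 0, Int.ofNat 0, Int.ofNat 0],
  [Int.ofNat 0, Int.ofNat 2, Int.ofNat 0, Int.ofNat 0, Int.negSucc 1, Int.ofNat 0, Int.negSucc 1, Int.ofNat 0, Int.ofNat 0, Int.ofNat 0, Int.ofNat 0, Int.ofNat 0, Int.ofNat 0, Int.ofNat 0, Int.ofNat 0, Int.ofNat 0, Int.ofNat 0, Int.ofNat 2, Int.negSucc 1, Int.negSucc 1, Int.negSucc 1, Int.negSucc 1, Int.ofNat 0, Int.ofNat 0],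
  [Int.ofNat 1, Int.negSucc 0, Int.ofNat 1, Int.negSucc 0, Int.negSucc 0, Int.negSucc 0, Int.ofNat 1, Int.ofNat 3, Int.ofNat 1, Int.ofNat 1, Int.ofNat 1, Int.ofNat 1, Int.ofNat 1, Int.ofNat 1, Int.negSucc 0, Int.ofNat 1, Int.ofNat 1, Int.ofNat 1, Int.negSucc 0, Int.ofNat 1, Int.negSucc 0, Int.ofNat 1, Int.ofNat 1, Int.ofNat 1],
  [Int.negSucc 0, Int.negSucc 0, Int.negSucc 0, Int.ofNat 1, Int.ofNat 3, Int.ofNat 1, Int.ofNat 1, Int.ofNat 1, Int.ofNat 1, Int.ofNat 1, Int.ofNat 1, Int.negSucc 0, Int.ofNat 1, Int.ofNat 1, Int.ofNat 1, Int.negSucc 0, Int.ofNat 1, Int.negSucc 0, Int.ofNat 1, Int.ofNat 1, Int.ofNat 1, Int.negSucc 0, Int.ofNat 1, Int.ofNat 1],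
  [Int.ofNat 0, Int.ofNat 0, Int.ofNat 0, Int.ofNat 0, Int.ofNat 0, Int.ofNat 0, Int.ofNat 0, Int.ofNat 0, Int.ofNat 0, Int.ofNat 0, Int.ofNat 0, Int.negSucc 1, Int.ofNat 0, Int.negSucc 1, Int.ofNat 0, Int.negSucc 1, Int.negSucc 1, Int.negSucc 1, Int.ofNat 0, Int.ofNat 0, Int.ofNat 0, Int.negSucc 1, Int.negSucc 1, Int.negSucc 1],
  [Int.ofNat 0, Int.ofNat 0, Int.ofNat 0, Int.ofNat 0, Int.ofNat 0, Int.ofNat 0, Int.ofNat 0, Int.ofNat 0, Int.ofNat 0, Int.negSucc 1, Int.ofNat 0, Int.negSucc 1, Int.ofNat 0, Int.negSucc 1, Int.negSucc 1, Int.negSucc 1, Int.ofNat 0, Int.ofNat 0, Int.ofNat 0, Int.negSucc 1, Int.negSucc 1, Int.ofNat 0, Int.ofNat 0, Int.negSucc 1],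
  [Int.negSucc 0, Int.negSucc 0, Int.negSucc 0, Int.ofNat 1, Int.ofNat 1, Int.ofNat 1, Int.ofNat 1, Int.ofNat 1, Int.ofNat 1, Int.ofNat 1, Int.ofNat 3, Int.negSucc 0, Int.ofNat 1, Int.negSucc 0, Int.negSucc 0, Int.ofNat 1, Int.ofNat 1, Int.ofNat 1, Int.ofNat 1, Int.negSucc 0, Int.ofNat 1, Int.ofNat 1, Int.ofNat 1, Int.ofNat 1],
  [Int.negSucc 0, Int.negSucc 0, Int.ofNat 1, Int.ofNat 1, Int.ofNat 1, Int.negSucc 0, Int.negSucc 0, Int.ofNat 1, Int.ofNat 1, Int.negSucc 0, Int.negSucc 2, Int.negSucc 0, Int.ofNat 1, Int.negSucc 0, Int.negSucc 0, Int.negSucc 0, Int.ofNat 1, Int.ofNat 1, Int.negSucc 0, Int.negSucc 0, Int.ofNat 1, Int.ofNat 1, Int.negSucc 0, Int.ofNat 1],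
  [Int.ofNat 1, Int.negSucc 0, Int.ofNat 1, Int.ofNat 1, Int.ofNat 1, Int.negSucc 0, Int.negSucc 0, Int.negSucc 0, Int.negSucc 0, Int.negSucc 0, Int.ofNat 1, Int.ofNat 1, Int.ofNat 1, Int.negSucc 0, Int.negSucc 0, Int.ofNat 1, Int.negSucc 0, Int.negSucc 0, Int.ofNat 1, Int.negSucc 0, Int.ofNat 1, Int.negSucc 2, Int.negSucc 0, Int.ofNat 1],
  [Int.ofNat 1, Int.negSucc 0, Int.negSucc 0, Int.ofNat 1, Int.ofNat 1, Int.ofNat 1, Int.ofNat 1, Int.negSucc 0, Int.negSucc 0, Int.ofNat 1, Int.negSucc 0, Int.ofNat 1, Int.ofNat 1, Int.negSucc 0, Int.negSucc 0, Int.negSucc 0, Int.negSucc 0, Int.negSucc 0, Int.negSucc 0, Int.negSucc 0, Int.ofNat 1, Int.negSucc 2, Int.ofNat 1, Int.ofNat 1],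
  [Int.negSucc 0, Int.ofNat 1, Int.ofNat 1, Int.ofNat 1, Int.ofNat 1, Int.ofNat 1, Int.ofNat 3, Int.ofNat 1, Int.negSucc 0, Int.ofNat 1, Int.negSucc 0, Int.ofNat 1, Int.ofNat 1, Int.negSucc 0, Int.negSucc 0, Int.negSucc 0, Int.negSucc 0, Int.negSucc 0, Int.negSucc 0, Int.ofNat 1, Int.ofNat 1, Int.negSucc 0, Int.ofNat 1, Int.negSucc 0],
  [Int.negSucc 0, Int.negSucc 0, Int.ofNat 3, Int.ofNat 1, Int.ofNat 1, Int.negSucc 0, Int.ofNat 1, Int.ofNat 1, Int.negSucc 0, Int.ofNat 1, Int.ofNat 1, Int.ofNat 1, Int.negSucc 0, Int.ofNat 1, Int.negSucc 0, Int.negSucc 0, Int.negSucc 0, Int.ofNat 1, Int.ofNat 1, Int.ofNat 1, Int.negSucc 0, Int.ofNat 1, Int.negSucc 0, Int.negSucc 0],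
  [Int.ofNat 1, Int.ofNat 1, Int.negSucc 2, Int.ofNat 1, Int.ofNat 1, Int.negSucc 0, Int.negSucc 0, Int.negSucc 0, Int.negSucc 0, Int.ofNat 1, Int.ofNat 1, Int.ofNat 1, Int.negSucc 0, Int.ofNat 1, Int.negSucc 0, Int.negSucc 0, Int.negSucc 0, Int.ofNat 1, Int.ofNat 1, Int.negSucc 0, Int.negSucc 0, Int.negSucc 0, Int.negSucc 0, Int.ofNat 1],
  [Int.negSucc 0, Int.negSucc 0, Int.negSucc 0, Int.ofNat 1, Int.ofNat 1, Int.negSucc 2, Int.ofNat 1, Int.ofNat 1, Int.negSucc 0, Int.negSucc 0, Int.negSucc 0, Int.negSucc 0, Int.ofNat 1, Int.ofNat 1, Int.ofNat 1, Int.negSucc 0, Int.ofNat 1, Int.negSucc 0, Int.negSucc 0, Int.negSucc 0, Int.ofNat 1, Int.ofNat 1, Int.negSucc 0, Int.ofNat 1],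
  [Int.ofNat 0, Int.ofNat 0, Int.ofNat 0, Int.ofNat 2, Int.ofNat 0, Int.negSucc 1, Int.ofNat 0, Int.ofNat 0, Int.ofNat 0, Int.ofNat 0, Int.ofNat 0, Int.ofNat 0, Int.ofNat 2, Int.ofNat 0, Int.ofNat 2, Int.ofNat 0, Int.ofNat 0, Int.ofNat 0, Int.ofNat 0, Int.negSucc 1, Int.ofNat 2, Int.ofNat 0, Int.negSucc 1, Int.negSucc 1],
  [Int.ofNat 0, Int.ofNat 0, Int.ofNat 2, Int.ofNat 0, Int.negSucc 1, Int.ofNat 0, Int.ofNat 0, Int.ofNat 0, Int.ofNat 0, Int.ofNat 0, Int.ofNat 0, Int.ofNat 2, Int.ofNat 0, Int.ofNat 2, Int.ofNat 0, Int.ofNat 0, Int.ofNat 0, Int.ofNat 0, Int.negSucc 1, Int.ofNat 2, Int.ofNat 0, Int.negSucc 1, Int.ofNat 0, Int.negSucc 1],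
  [Int.ofNat 0, Int.ofNat 0, Int.negSucc 1, Int.ofNat 0, Int.negSucc 1, Int.ofNat 0, Int.ofNat 0, Int.ofNat 0, Int.ofNat 0, Int.ofNat 0, Int.ofNat 0, Int.negSucc 1, Int.ofNat 0, Int.ofNat 2, Int.ofNat 0, Int.ofNat 0, Int.ofNat 0, Int.ofNat 0, Int.ofNat 2, Int.ofNat 2, Int.ofNat 0, Int.ofNat 2, Int.ofNat 0, Int.negSucc 1],
  [Int.ofNat 0, Int.ofNat 0, Int.ofNat 2, Int.ofNat 0, Int.ofNat 2, Int.ofNat 0, Int.ofNat 0, Int.ofNat 0, Int.ofNat 0, Int.ofNat 0, Int.ofNat 0, Int.negSucc 1, Int.ofNat 0, Int.negSucc 1, Int.ofNat 0, Int.ofNat 0, Int.ofNat 0, Int.ofNat 0, Int.negSucc 1, Int.ofNat 2, Int.ofNat 0, Int.ofNat 2, Int.ofNat 0, Int.negSucc 1],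
  [Int.ofNat 0, Int.ofNat 2, Int.negSucc 1, Int.ofNat 0, Int.ofNat 0, Int.ofNat 0, Int.ofNat 2, Int.ofNat 0, Int.ofNat 0, Int.ofNat 0, Int.ofNat 2, Int.ofNat 0, Int.negSucc 1, Int.ofNat 0, Int.ofNat 2, Int.ofNat 0, Int.ofNat 0, Int.ofNat 0, Int.ofNat 0, Int.ofNat 0, Int.ofNat 0, Int.ofNat 0, Int.negSucc 1, Int.negSucc 1],
  [Int.ofNat 0, Int.ofNat 2, Int.ofNat 2, Int.ofNat 0, Int.ofNat 0, Int.ofNat 0, Int.ofNat 2, Int.ofNat 0, Int.ofNat 0, Int.ofNat 0, Int.negSucc 1, Int.ofNat 0, Int.negSucc 1, Int.ofNat 0, Int.ofNat 2, Int.ofNat 0, Int.ofNat 0, Int.ofNat 0, Int.ofNat 0, Int.ofNat 0, Int.ofNat 0, Int.ofNat 0, Int.negSucc 1, Int.negSucc 1],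
  [Int.negSucc 1, Int.ofNat 0, Int.ofNat 2, Int.ofNat 2, Int.ofNat 0, Int.ofNat 0, Int.ofNat 0, Int.ofNat 2, Int.ofNat 0, Int.ofNat 0, Int.ofNat 0, Int.negSucc 1, Int.ofNat 0, Int.negSucc 1, Int.ofNat 0, Int.ofNat 2, Int.ofNat 0, Int.ofNat 0, Int.ofNat 0, Int.ofNat 0, Int.ofNat 0, Int.ofNat 0, Int.ofNat 0, Int.negSucc 1],
  [Int.ofNat 1, Int.negSucc 0, Int.negSucc 2, Int.ofNat 1, Int.ofNat 1, Int.negSucc 0, Int.negSucc 0, Int.ofNat 1, Int.ofNat 1, Int.negSucc 0, Int.negSucc 0, Int.negSucc 0, Int.ofNat 1, Int.negSucc 0, Int.negSucc 0, Int.ofNat 1, Int.ofNat 1, Int.negSucc 0, Int.ofNat 1, Int.negSucc 0, Int.negSucc 0, Int.negSucc 0, Int.ofNat 1, Int.ofNat 1],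
  [Int.ofNat 1, Int.ofNat 1, Int.negSucc 0, Int.negSucc 0, Int.ofNat 1, Int.ofNat 1, Int.negSucc 0, Int.negSucc 0, Int.negSucc 0, Int.ofNat 1, Int.negSucc 0, Int.negSucc 0, Int.ofNat 1, Int.ofNat 1, Int.negSucc 0, Int.ofNat 1, Int.negSucc 0, Int.negSucc 0, Int.negSucc 0, Int.ofNat 1, Int.ofNat 1, Int.negSucc 0, Int.negSucc 2, Int.ofNat 1],
  [Int.ofNat 0, Int.ofNat 0, Int.ofNat 2, Int.ofNat 0, Int.ofNat 2, Int.ofNat 2, Int.ofNat 0, Int.ofNat 0, Int.ofNat 0, Int.ofNat 0, Int.negSucc 1, Int.ofNat 0, Int.ofNat 2, Int.ofNat 2, Int.ofNat 0, Int.ofNat 0, Int.ofNat 0, Int.ofNat 0, Int.ofNat 0, Int.ofNat 2, Int.ofNat 0, Int.ofNat 0, Int.negSucc 1, Int.ofNat 0],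
  [Int.ofNat 0, Int.ofNat 0, Int.ofNat 2, Int.ofNat 0, Int.ofNat 0, Int.ofNat 0, Int.ofNat 2, Int.negSucc 1, Int.ofNat 2, Int.ofNat 2, Int.ofNat 0, Int.ofNat 0, Int.ofNat 0, Int.ofNat 0, Int.negSucc 1, Int.ofNat 0, Int.ofNat 0, Int.ofNat 0, Int.ofNat 0, Int.ofNat 0, Int.ofNat 0, Int.ofNat 2, Int.ofNat 2, Int.ofNat 0],
  [Int.ofNat 1, Int.ofNat 1, Int.negSucc 0, Int.ofNat 1, Int.negSucc 0, Int.ofNat 1, Int.ofNat 1, Int.negSucc 2, Int.ofNat 1, Int.ofNat 1, Int.negSucc 0, Int.negSucc 0, Int.negSucc 0, Int.negSucc 0, Int.negSucc 0, Int.negSucc 0, Int.negSucc 0, Int.ofNat 1, Int.negSucc 0, Int.negSucc 0, Int.negSucc 0, Int.ofNat 1, Int.ofNat 1, Int.ofNat 1],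
  [Int.ofNat 1, Int.ofNat 1, Int.ofNat 1, Int.ofNat 1, Int.negSucc 0, Int.negSucc 0, Int.negSucc 0, Int.negSucc 2, Int.ofNat 1, Int.negSucc 0, Int.ofNat 1, Int.negSucc 0, Int.negSucc 0, Int.negSucc 0, Int.negSucc 0, Int.ofNat 1, Int.negSucc 0, Int.ofNat 1, Int.ofNat 1, Int.negSucc 0, Int.negSucc 0, Int.ofNat 1, Int.negSucc 0, Int.ofNat 1],
  [Int.ofNat 1, Int.negSucc 0, Int.negSucc 0, Int.ofNat 1, Int.negSucc 0, Int.negSucc 0, Int.ofNat 1, Int.ofNat 1, Int.negSucc 0, Int.negSucc 0, Int.negSucc 0, Int.negSucc 2, Int.ofNat 1, Int.negSucc 0, Int.ofNat 1, Int.ofNat 1, Int.negSucc 0, Int.negSucc 0, Int.negSucc 0, Int.ofNat 1, Int.ofNat 1, Int.ofNat 1, Int.negSucc 0, Int.ofNat 1],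
  [Int.ofNat 1, Int.negSucc 0, Int.negSucc 2, Int.ofNat 1, Int.negSucc 0, Int.negSucc 0, Int.ofNat 1, Int.negSucc 0, Int.ofNat 1, Int.negSucc 0, Int.negSucc 0, Int.negSucc 0, Int.ofNat 1, Int.ofNat 1, Int.negSucc 0, Int.ofNat 1, Int.negSucc 0, Int.negSucc 0, Int.ofNat 1, Int.ofNat 1, Int.negSucc 0, Int.ofNat 1, Int.negSucc 0, Int.ofNat 1],
  [Int.negSucc 0, Int.negSucc 0, Int.ofNat 3, Int.ofNat 1, Int.negSucc 0, Int.negSucc 0, Int.ofNat 1, Int.ofNat 1, Int.ofNat 1, Int.ofNat 1, Int.ofNat 1, Int.ofNat 1, Int.ofNat 1, Int.ofNat 1, Int.negSucc 0, Int.ofNat 1, Int.negSucc 0, Int.negSucc 0, Int.negSucc 0, Int.ofNat 1, Int.negSucc 0, Int.negSucc 0, Int.negSucc 0, Int.ofNat 1],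
  [Int.negSucc 0, Int.negSucc 0, Int.negSucc 0, Int.ofNat 3, Int.ofNat 1, Int.negSucc 0, Int.negSucc 0, Int.ofNat 1, Int.ofNat 1, Int.ofNat 1, Int.ofNat 1, Int.ofNat 1, Int.ofNat 1, Int.ofNat 1, Int.ofNat 1, Int.negSucc 0, Int.ofNat 1, Int.negSucc 0, Int.negSucc 0, Int.negSucc 0, Int.ofNat 1, Int.negSucc 0, Int.negSucc 0, Int.ofNat 1],
  [Int.ofNat 0, Int.ofNat 0, Int.ofNat 0, Int.ofNat 2, Int.ofNat 0, Int.negSucc 1, Int.ofNat 0, Int.ofNat 2, Int.ofNat 0, Int.ofNat 0, Int.ofNat 0, Int.ofNat 0, Int.ofNat 0, Int.ofNat 0, Int.ofNat 0, Int.negSucc 1, Int.ofNat 0, Int.negSucc 1, Int.negSucc 1, Int.ofNat 0, Int.ofNat 0, Int.ofNat 0, Int.negSucc 1, Int.negSucc 1],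
  [Int.ofNat 2, Int.ofNat 0, Int.negSucc 1, Int.ofNat 0, Int.ofNat 2, Int.ofNat 0, Int.ofNat 0, Int.ofNat 0, Int.ofNat 0, Int.ofNat 0, Int.ofNat 0, Int.ofNat 0, Int.negSucc 1, Int.ofNat 0, Int.negSucc 1, Int.negSucc 1, Int.ofNat 0, Int.ofNat 0, Int.ofNat 0, Int.negSucc 1, Int.ofNat 0, Int.ofNat 0, Int.ofNat 0, Int.negSucc 1],
  [Int.negSucc 2, Int.negSucc 0, Int.ofNat 1, Int.ofNat 1, Int.ofNat 1, Int.ofNat 1, Int.ofNat 1, Int.ofNat 1, Int.ofNat 1, Int.ofNat 1, Int.ofNat 1, Int.ofNat 1, Int.negSucc 0, Int.negSucc 0, Int.negSucc 0, Int.negSucc 0, Int.negSucc 0, Int.ofNat 1, Int.ofNat 1, Int.negSucc 0, Int.ofNat 1, Int.ofNat 1, Int.negSucc 0, Int.ofNat 1],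
  [Int.negSucc 2, Int.ofNat 1, Int.ofNat 1, Int.ofNat 1, Int.ofNat 1, Int.ofNat 1, Int.ofNat 1, Int.ofNat 1, Int.negSucc 0, Int.negSucc 0, Int.ofNat 1, Int.ofNat 1, Int.ofNat 1, Int.negSucc 0, Int.negSucc 0, Int.negSucc 0, Int.ofNat 1, Int.negSucc 0, Int.negSucc 0, Int.ofNat 1, Int.ofNat 1, Int.ofNat 1, Int.negSucc 0, Int.ofNat 1],
  [Int.ofNat 3, Int.negSucc 0, Int.negSucc 0, Int.ofNat 1, Int.ofNat 1, Int.ofNat 1, Int.negSucc 0, Int.negSucc 0, Int.negSucc 0, Int.negSucc 0, Int.ofNat 1, Int.ofNat 1, Int.ofNat 1, Int.negSucc 0, Int.negSucc 0, Int.negSucc 0, Int.ofNat 1, Int.negSucc 0, Int.negSucc 0, Int.negSucc 0, Int.ofNat 1, Int.negSucc 0, Int.negSucc 0, Int.negSucc 0],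
  [Int.ofNat 3, Int.negSucc 0, Int.ofNat 1, Int.ofNat 1, Int.ofNat 1, Int.negSucc 0, Int.ofNat 1, Int.negSucc 0, Int.negSucc 0, Int.ofNat 1, Int.negSucc 0, Int.ofNat 1, Int.ofNat 1, Int.negSucc 0, Int.negSucc 0, Int.ofNat 1, Int.ofNat 1, Int.negSucc 0, Int.ofNat 1, Int.negSucc 0, Int.ofNat 1, Int.negSucc 0, Int.ofNat 1, Int.negSucc 0],
  [Int.negSucc 0, Int.ofNat 1, Int.ofNat 1, Int.ofNat 1, Int.ofNat 1, Int.ofNat 1, Int.ofNat 1, Int.ofNat 1, Int.ofNat 3, Int.ofNat 1, Int.ofNat 1, Int.ofNat 1, Int.negSucc 0, Int.negSucc 0, Int.negSucc 0, Int.negSucc 0, Int.ofNat 1, Int.negSucc 0, Int.ofNat 1, Int.negSucc 0, Int.negSucc 0, Int.negSucc 0, Int.negSucc 0, Int.negSucc 0],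
  [Int.negSucc 0, Int.ofNat 1, Int.negSucc 0, Int.ofNat 1, Int.ofNat 1, Int.negSucc 0, Int.negSucc 0, Int.ofNat 1, Int.ofNat 3, Int.negSucc 0, Int.negSucc 0, Int.ofNat 1, Int.negSucc 0, Int.negSucc 0, Int.negSucc 0, Int.ofNat 1, Int.ofNat 1, Int.negSucc 0, Int.negSucc 0, Int.negSucc 0, Int.negSucc 0, Int.negSucc 0, Int.ofNat 1, Int.negSucc 0],
  [Int.ofNat 0, Int.negSucc 1, Int.ofNat 0, Int.ofNat 2, Int.ofNat 0, Int.ofNat 0, Int.ofNat 0, Int.ofNat 2, Int.ofNat 2, Int.ofNat 0, Int.ofNat 0, Int.ofNat 0, Int.negSucc 1, Int.negSucc 1, Int.ofNat 0, Int.ofNat 2, Int.ofNat 0, Int.ofNat 0, Int.negSucc 1, Int.ofNat 0, Int.ofNat 0, Int.ofNat 0, Int.ofNat 0, Int.ofNat 0],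
  [Int.ofNat 0, Int.negSucc 1, Int.ofNat 0, Int.ofNat 2, Int.ofNat 0, Int.ofNat 0, Int.negSucc 1, Int.ofNat 0, Int.ofNat 0, Int.negSucc 1, Int.ofNat 2, Int.ofNat 0, Int.ofNat 2, Int.ofNat 0, Int.ofNat 0, Int.ofNat 2, Int.negSucc 1, Int.ofNat 0, Int.ofNat 0, Int.ofNat 0, Int.ofNat 0, Int.ofNat 0, Int.ofNat 0, Int.ofNat 0],
  [Int.negSucc 0, Int.ofNat 1, Int.negSucc 0, Int.ofNat 1, Int.ofNat 1, Int.negSucc 0, Int.negSucc 0, Int.ofNat 1, Int.negSucc 0, Int.negSucc 2, Int.ofNat 1, Int.negSucc 0, Int.ofNat 1, Int.ofNat 1, Int.negSucc 0, Int.ofNat 1, Int.negSucc 0, Int.negSucc 0, Int.negSucc 0, Int.ofNat 1, Int.negSucc 0, Int.ofNat 1, Int.ofNat 1, Int.negSucc 0],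
  [Int.negSucc 0, Int.ofNat 1, Int.ofNat 1, Int.negSucc 0, Int.ofNat 1, Int.negSucc 0, Int.ofNat 1, Int.ofNat 1, Int.negSucc 0, Int.negSucc 0, Int.ofNat 1, Int.negSucc 0, Int.negSucc 2, Int.ofNat 1, Int.negSucc 0, Int.ofNat 1, Int.ofNat 1, Int.negSucc 0, Int.ofNat 1, Int.negSucc 0, Int.negSucc 0, Int.negSucc 0, Int.ofNat 1, Int.negSucc 0],
  [Int.ofNat 1, Int.negSucc 0, Int.negSucc 0, Int.ofNat 1, Int.negSucc 0, Int.ofNat 1, Int.ofNat 1, Int.ofNat 1, Int.ofNat 1, Int.negSucc 0, Int.ofNat 1, Int.ofNat 1, Int.negSucc 0, Int.negSucc 0, Int.ofNat 1, Int.ofNat 1, Int.negSucc 0, Int.ofNat 1, Int.ofNat 3, Int.negSucc 0, Int.negSucc 0, Int.negSucc 0, Int.negSucc 0, Int.ofNat 1],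
  [Int.negSucc 0, Int.negSucc 0, Int.ofNat 1, Int.negSucc 0, Int.ofNat 1, Int.ofNat 1, Int.ofNat 1, Int.ofNat 1, Int.negSucc 0, Int.ofNat 1, Int.ofNat 1, Int.negSucc 0, Int.negSucc 0, Int.ofNat 1, Int.ofNat 1, Int.negSucc 0, Int.ofNat 1, Int.ofNat 3, Int.negSucc 0, Int.negSucc 0, Int.negSucc 0, Int.negSucc 0, Int.ofNat 1, Int.ofNat 1],
  [Int.ofNat 1, Int.negSucc 0, Int.negSucc 0, Int.negSucc 0, Int.ofNat 1, Int.ofNat 1, Int.ofNat 1, Int.negSucc 0, Int.negSucc 0, Int.negSucc 0, Int.negSucc 0, Int.ofNat 1, Int.negSucc 0, Int.ofNat 1, Int.ofNat 1, Int.negSucc 0, Int.ofNat 1, Int.ofNat 3, Int.ofNat 1, Int.negSucc 0, Int.negSucc 0, Int.ofNat 1, Int.ofNat 1, Int.ofNat 1],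
  [Int.negSucc 0, Int.ofNat 1, Int.ofNat 1, Int.ofNat 1, Int.negSucc 0, Int.ofNat 1, Int.negSucc 0, Int.negSucc 0, Int.ofNat 1, Int.ofNat 1, Int.negSucc 0, Int.ofNat 1, Int.ofNat 1, Int.negSucc 0, Int.ofNat 1, Int.negSucc 0, Int.negSucc 0, Int.ofNat 3, Int.negSucc 0, Int.negSucc 0, Int.negSucc 0, Int.ofNat 1, Int.ofNat 1, Int.ofNat 1],
  [Int.negSucc 0, Int.ofNat 1, Int.negSucc 0, Int.ofNat 1, Int.ofNat 1, Int.negSucc 0, Int.negSucc 0, Int.negSucc 0, Int.ofNat 1, Int.negSucc 0, Int.ofNat 1, Int.ofNat 1, Int.negSucc 0, Int.ofNat 1, Int.negSucc 0, Int.negSucc 0, Int.ofNat 1, Int.ofNat 1, Int.negSucc 0, Int.ofNat 3, Int.ofNat 1, Int.negSucc 0, Int.ofNat 1, Int.ofNat 1],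
  [Int.ofNat 1, Int.ofNat 1, Int.ofNat 1, Int.ofNat 1, Int.ofNat 1, Int.negSucc 0, Int.negSucc 0, Int.ofNat 1, Int.ofNat 1, Int.ofNat 1, Int.negSucc 0, Int.negSucc 0, Int.negSucc 0, Int.ofNat 1, Int.negSucc 0, Int.negSucc 0, Int.ofNat 1, Int.ofNat 1, Int.ofNat 1, Int.ofNat 3, Int.ofNat 1, Int.ofNat 1, Int.ofNat 1, Int.ofNat 1],
  [Int.ofNat 1, Int.ofNat 1, Int.ofNat 1, Int.ofNat 1, Int.ofNat 1, Int.ofNat 1, Int.negSucc 0, Int.negSucc 0, Int.ofNat 1, Int.ofNat 1, Int.ofNat 1, Int.negSucc 0, Int.negSucc 0, Int.negSucc 0, Int.ofNat 1, Int.negSucc 0, Int.negSucc 0, Int.ofNat 1, Int.ofNat 1, Int.ofNat 1, Int.ofNat 3, Int.ofNat 1, Int.ofNat 1, Int.ofNat 1],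
  [Int.ofNat 1, Int.ofNat 1, Int.ofNat 1, Int.negSucc 0, Int.ofNat 1, Int.negSucc 0, Int.negSucc 0, Int.negSucc 0, Int.ofNat 1, Int.negSucc 0, Int.negSucc 0, Int.negSucc 0, Int.negSucc 0, Int.negSucc 0, Int.negSucc 0, Int.negSucc 2, Int.negSucc 0, Int.negSucc 0, Int.ofNat 1, Int.ofNat 1, Int.ofNat 1, Int.ofNat 1, Int.ofNat 1, Int.ofNat 1],
  [Int.negSucc 0, Int.ofNat 1, Int.negSucc 0, Int.negSucc 0, Int.negSucc 0, Int.ofNat 1, Int.negSucc 0, Int.negSucc 0, Int.negSucc 0, Int.negSucc 0, Int.negSucc 0, Int.negSucc 0, Int.negSucc 2, Int.negSucc 0, Int.negSucc 0, Int.ofNat 1, Int.ofNat 1, Int.ofNat 1, Int.ofNat 1, Int.ofNat 1, Int.ofNat 1, Int.ofNat 1, Int.ofNat 1, Int.ofNat 1],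
  [Int.ofNat 1, Int.negSucc 0, Int.ofNat 1, Int.negSucc 0, Int.negSucc 0, Int.ofNat 1, Int.negSucc 0, Int.negSucc 0, Int.ofNat 1, Int.negSucc 0, Int.negSucc 0, Int.ofNat 1, Int.negSucc 0, Int.negSucc 0, Int.negSucc 0, Int.ofNat 1, Int.ofNat 1, Int.ofNat 1, Int.ofNat 3, Int.ofNat 1, Int.ofNat 1, Int.ofNat 1, Int.ofNat 1, Int.negSucc 0],
  [Int.ofNat 1, Int.negSucc 0, Int.negSucc 0, Int.negSucc 0, Int.ofNat 3, Int.negSucc 0, Int.ofNat 1, Int.negSucc 0, Int.negSucc 0, Int.negSucc 0, Int.ofNat 1, Int.ofNat 1, Int.negSucc 0, Int.ofNat 1, Int.ofNat 1, Int.ofNat 1, Int.ofNat 1, Int.negSucc 0, Int.negSucc 0, Int.ofNat 1, Int.ofNat 1, Int.ofNat 1, Int.ofNat 1, Int.negSucc 0],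
  [Int.negSucc 1, Int.ofNat 0, Int.ofNat 0, Int.ofNat 0, Int.ofNat 0, Int.ofNat 0, Int.ofNat 0, Int.negSucc 1, Int.ofNat 0, Int.negSucc 1, Int.ofNat 0, Int.ofNat 2, Int.ofNat 0, Int.negSucc 1, Int.ofNat 2, Int.ofNat 0, Int.negSucc 1, Int.ofNat 0, Int.ofNat 0, Int.ofNat 0, Int.ofNat 0, Int.ofNat 0, Int.negSucc 1, Int.ofNat 0],
  [Int.negSucc 1, Int.ofNat 0, Int.ofNat 0, Int.ofNat 0, Int.ofNat 0, Int.ofNat 0, Int.ofNat 0, Int.negSucc 1, Int.ofNat 0, Int.ofNat 2, Int.ofNat 0, Int.ofNat 2, Int.ofNat 0, Int.negSucc 1, Int.ofNat 2, Int.ofNat 0, Int.negSucc 1, Int.ofNat 0, Int.ofNat 0, Int.ofNat 0, Int.ofNat 0, Int.ofNat 0, Int.ofNat 2, Int.ofNat 0],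
  [Int.ofNat 0, Int.negSucc 1, Int.ofNat 2, Int.ofNat 0, Int.ofNat 2, Int.ofNat 0, Int.ofNat 0, Int.ofNat 0, Int.ofNat 0, Int.ofNat 0, Int.negSucc 1, Int.negSucc 1, Int.ofNat 0, Int.ofNat 0, Int.ofNat 0, Int.ofNat 0, Int.ofNat 0, Int.ofNat 0, Int.ofNat 2, Int.ofNat 0, Int.negSucc 1, Int.ofNat 0, Int.ofNat 2, Int.ofNat 0],
  [Int.ofNat 0, Int.ofNat 2, Int.negSucc 1, Int.ofNat 0, Int.ofNat 0, Int.ofNat 0, Int.ofNat 0, Int.ofNat 0, Int.negSucc 1, Int.ofNat 0, Int.ofNat 0, Int.ofNat 2, Int.ofNat 0, Int.ofNat 0, Int.ofNat 2, Int.ofNat 0, Int.negSucc 1, Int.ofNat 2, Int.ofNat 0, Int.ofNat 0, Int.ofNat 0, Int.ofNat 0, Int.negSucc 1, Int.ofNat 0],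
  [Int.ofNat 0, Int.ofNat 2, Int.ofNat 2, Int.ofNat 0, Int.ofNat 0, Int.ofNat 0, Int.ofNat 0, Int.ofNat 0, Int.negSucc 1, Int.ofNat 0, Int.ofNat 0, Int.negSucc 1, Int.ofNat 0, Int.ofNat 0, Int.ofNat 2, Int.ofNat 0, Int.negSucc 1, Int.ofNat 2, Int.ofNat 0, Int.ofNat 0, Int.ofNat 0, Int.ofNat 0, Int.negSucc 1, Int.ofNat 0],
  [Int.negSucc 1, Int.ofNat 0, Int.ofNat 2, Int.ofNat 2, Int.ofNat 0, Int.ofNat 0, Int.ofNat 0, Int.ofNat 0, Int.ofNat 0, Int.negSucc 1, Int.ofNat 0, Int.ofNat 0, Int.negSucc 1, Int.ofNat 0, Int.ofNat 0, Int.ofNat 2, Int.ofNat 0, Int.negSucc 1, Int.ofNat 2, Int.ofNat 0, Int.ofNat 0, Int.ofNat 0, Int.ofNat 0, Int.ofNat 0],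
  [Int.ofNat 2, Int.ofNat 0, Int.negSucc 1, Int.ofNat 2, Int.ofNat 0, Int.ofNat 0, Int.ofNat 0, Int.ofNat 0, Int.ofNat 0, Int.negSucc 1, Int.ofNat 0, Int.ofNat 0, Int.negSucc 1, Int.ofNat 0, Int.ofNat 0, Int.ofNat 2, Int.ofNat 0, Int.negSucc 1, Int.ofNat 2, Int.ofNat 0, Int.ofNat 0, Int.ofNat 0, Int.ofNat 0, Int.ofNat 0],
  [Int.ofNat 2, Int.ofNat 0, Int.ofNat 0, Int.ofNat 0, Int.ofNat 0, Int.ofNat 0, Int.negSucc 1, Int.ofNat 0, Int.ofNat 0, Int.negSucc 1, Int.ofNat 0, Int.ofNat 0, Int.ofNat 2, Int.ofNat 0, Int.negSucc 1, Int.ofNat 2, Int.ofNat 0, Int.ofNat 0, Int.ofNat 0, Int.ofNat 0, Int.ofNat 2, Int.ofNat 0, Int.negSucc 1, Int.ofNat 0],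
  [Int.negSucc 0, Int.ofNat 1, Int.ofNat 1, Int.ofNat 1, Int.ofNat 1, Int.ofNat 1, Int.negSucc 0, Int.ofNat 1, Int.negSucc 0, Int.negSucc 2, Int.negSucc 0, Int.negSucc 0, Int.ofNat 1, Int.ofNat 1, Int.negSucc 0, Int.ofNat 1, Int.ofNat 1, Int.ofNat 1, Int.negSucc 0, Int.ofNat 1, Int.ofNat 1, Int.ofNat 1, Int.negSucc 0, Int.ofNat 1],
  [Int.negSucc 0, Int.negSucc 0, Int.ofNat 1, Int.ofNat 1, Int.negSucc 0, Int.ofNat 1, Int.ofNat 1, Int.negSucc 0, Int.ofNat 1, Int.ofNat 1, Int.ofNat 1, Int.ofNat 1, Int.negSucc 2, Int.ofNat 1, Int.negSucc 0, Int.ofNat 1, Int.negSucc 0, Int.negSucc 0, Int.ofNat 1, Int.negSucc 0, Int.ofNat 1, Int.ofNat 1, Int.ofNat 1, Int.ofNat 1],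
  [Int.ofNat 1, Int.ofNat 1, Int.negSucc 0, Int.ofNat 1, Int.negSucc 0, Int.ofNat 1, Int.ofNat 1, Int.negSucc 0, Int.ofNat 1, Int.negSucc 0, Int.negSucc 0, Int.ofNat 1, Int.negSucc 2, Int.ofNat 1, Int.negSucc 0, Int.negSucc 0, Int.negSucc 0, Int.negSucc 0, Int.ofNat 1, Int.negSucc 0, Int.negSucc 0, Int.ofNat 1, Int.ofNat 1, Int.negSucc 0],
  [Int.ofNat 1, Int.ofNat 1, Int.ofNat 1, Int.ofNat 1, Int.negSucc 0, Int.negSucc 0, Int.negSucc 0, Int.negSucc 0, Int.ofNat 1, Int.ofNat 1, Int.ofNat 1, Int.ofNat 1, Int.negSucc 2, Int.ofNat 1, Int.negSucc 0, Int.ofNat 1, Int.negSucc 0, Int.negSucc 0, Int.negSucc 0, Int.negSucc 0, Int.negSucc 0, Int.ofNat 1, Int.negSucc 0, Int.negSucc 0],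
  [Int.negSucc 0, Int.negSucc 0, Int.negSucc 0, Int.negSucc 0, Int.ofNat 1, Int.ofNat 1, Int.negSucc 0, Int.negSucc 0, Int.ofNat 1, Int.ofNat 1, Int.negSucc 2, Int.ofNat 1, Int.negSucc 0, Int.negSucc 0, Int.ofNat 1, Int.ofNat 1, Int.ofNat 1, Int.negSucc 0, Int.negSucc 0, Int.ofNat 1, Int.ofNat 1, Int.ofNat 1, Int.negSucc 0, Int.negSucc 0],
  [Int.negSucc 0, Int.negSucc 0, Int.ofNat 1, Int.negSucc 0, Int.ofNat 1, Int.negSucc 0, Int.ofNat 1, Int.negSucc 0, Int.ofNat 1, Int.negSucc 0, Int.ofNat 3, Int.ofNat 1, Int.negSucc 0, Int.negSucc 0, Int.ofNat 1, Int.negSucc 0, Int.ofNat 1, Int.negSucc 0, Int.ofNat 1, Int.ofNat 1, Int.ofNat 1, Int.ofNat 1, Int.ofNat 1, Int.negSucc 0],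
  [Int.ofNat 0, Int.ofNat 0, Int.negSucc 1, Int.ofNat 0, Int.ofNat 0, Int.ofNat 0, Int.ofNat 0, Int.negSucc 1, Int.ofNat 0, Int.negSucc 1, Int.ofNat 2, Int.ofNat 0, Int.negSucc 1, Int.negSucc 1, Int.ofNat 2, Int.negSucc 1, Int.ofNat 0, Int.ofNat 0, Int.ofNat 0, Int.ofNat 0, Int.ofNat 0, Int.ofNat 0, Int.ofNat 0, Int.ofNat 0],
  [Int.ofNat 0, Int.ofNat 0, Int.ofNat 0, Int.ofNat 0, Int.negSucc 1, Int.ofNat 0, Int.ofNat 0, Int.ofNat 0, Int.ofNat 0, Int.negSucc 1, Int.negSucc 1, Int.ofNat 0, Int.ofNat 0, Int.negSucc 1, Int.ofNat 0, Int.negSucc 1, Int.negSucc 1, Int.ofNat 0, Int.ofNat 0, Int.ofNat 0, Int.ofNat 2, Int.ofNat 0, Int.ofNat 2, Int.ofNat 0],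
  [Int.ofNat 0, Int.ofNat 0, Int.ofNat 0, Int.ofNat 0, Int.ofNat 0, Int.ofNat 0, Int.ofNat 0, Int.ofNat 0, Int.ofNat 0, Int.ofNat 0, Int.ofNat 0, Int.ofNat 0, Int.ofNat 0, Int.ofNat 0, Int.ofNat 0, Int.ofNat 0, Int.ofNat 0, Int.ofNat 0, Int.ofNat 0, Int.ofNat 0, Int.ofNat 4, Int.ofNat 0, Int.ofNat 4, Int.ofNat 0],
  [Int.ofNat 4, Int.ofNat 0, Int.ofNat 4, Int.ofNat 0, Int.ofNat 0, Int.ofNat 0, Int.ofNat 0, Int.ofNat 0, Int.ofNat 0, Int.ofNat 0, Int.ofNat 0, Int.ofNat 0, Int.ofNat 0, Int.ofNat 0, Int.ofNat 0, Int.ofNat 0, Int.ofNat 0, Int.ofNat 0, Int.ofNat 0, Int.ofNat 0, Int.ofNat 0, Int.ofNat 0, Int.ofNat 0, Int.ofNat 0],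
  [Int.ofNat 0, Int.ofNat 4, Int.ofNat 0, Int.ofNat 0, Int.ofNat 0, Int.ofNat 0, Int.ofNat 0, Int.ofNat 0, Int.ofNat 0, Int.ofNat 0, Int.ofNat 0, Int.ofNat 0, Int.ofNat 0, Int.ofNat 0, Int.ofNat 0, Int.ofNat 0, Int.ofNat 0, Int.ofNat 0, Int.ofNat 0, Int.ofNat 0, Int.ofNat 0, Int.ofNat 0, Int.ofNat 0, Int.ofNat 4],
  [Int.ofNat 4, Int.ofNat 0, Int.ofNat 0, Int.ofNat 0, Int.ofNat 0, Int.ofNat 0, Int.ofNat 0, Int.ofNat 0, Int.ofNat 0, Int.ofNat 0, Int.ofNat 0, Int.ofNat 0, Int.ofNat 0, Int.ofNat 0, Int.ofNat 0, Int.ofNat 0, Int.ofNat 0, Int.ofNat 0, Int.ofNat 0, Int.ofNat 0, Int.ofNat 0, Int.ofNat 0, Int.ofNat 0, Int.ofNat 4],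
  [Int.negSucc 3, Int.ofNat 0, Int.ofNat 0, Int.ofNat 0, Int.ofNat 0, Int.ofNat 0, Int.ofNat 0, Int.ofNat 0, Int.ofNat 0, Int.ofNat 0, Int.ofNat 0, Int.ofNat 0, Int.ofNat 0, Int.ofNat 0, Int.ofNat 0, Int.ofNat 0, Int.ofNat 0, Int.ofNat 0, Int.ofNat 0, Int.ofNat 0, Int.ofNat 0, Int.ofNat 0, Int.ofNat 0, Int.ofNat 4],
  [Int.ofNat 4, Int.ofNat 0, Int.ofNat 0, Int.ofNat 0, Int.ofNat 0, Int.ofNat 0, Int.ofNat 0, Int.ofNat 0, Int.ofNat 0, Int.ofNat 0, Int.ofNat 0, Int.ofNat 0, Int.ofNat 0, Int.ofNat 0, Int.ofNat 0, Int.ofNat 0, Int.ofNat 0, Int.ofNat 0, Int.ofNat 0, Int.ofNat 0, Int.ofNat 0, Int.ofNat 0, Int.ofNat 0, Int.ofNat 4],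
  [Int.ofNat 4, Int.ofNat 0, Int.ofNat 0, Int.ofNat 0, Int.ofNat 0, Int.ofNat 0, Int.ofNat 0, Int.ofNat 0, Int.ofNat 0, Int.ofNat 0, Int.ofNat 0, Int.ofNat 0, Int.ofNat 0, Int.ofNat 0, Int.ofNat 0, Int.ofNat 0, Int.ofNat 0, Int.ofNat 0, Int.ofNat 0, Int.ofNat 0, Int.ofNat 0, Int.ofNat 0, Int.ofNat 0, Int.ofNat 4],
  [Int.negSucc 3, Int.ofNat 0, Int.ofNat 0, Int.ofNat 0, Int.ofNat 0, Int.ofNat 0, Int.ofNat 0, Int.ofNat 0, Int.ofNat 0, Int.ofNat 0, Int.ofNat 0, Int.ofNat 0, Int.ofNat 0, Int.ofNat 0, Int.ofNat 0, Int.ofNat 0, Int.ofNat 0, Int.ofNat 0, Int.ofNat 0, Int.ofNat 0, Int.ofNat 0, Int.ofNat 0, Int.ofNat 0, Int.ofNat 4],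
  [Int.ofNat 0, Int.negSucc 3, Int.ofNat 0, Int.ofNat 0, Int.ofNat 0, Int.ofNat 0, Int.ofNat 0, Int.ofNat 0, Int.ofNat 0, Int.ofNat 0, Int.ofNat 0, Int.ofNat 0, Int.ofNat 0, Int.ofNat 0, Int.ofNat 0, Int.ofNat 0, Int.ofNat 0, Int.ofNat 0, Int.ofNat 0, Int.ofNat 0, Int.ofNat 0, Int.ofNat 0, Int.ofNat 0, Int.ofNat 4],
  [Int.ofNat 0, Int.ofNat 4, Int.ofNat 0, Int.ofNat 0, Int.ofNat 0, Int.ofNat 0, Int.ofNat 0, Int.ofNat 0, Int.ofNat 0, Int.ofNat 0, Int.ofNat 0, Int.ofNat 0, Int.ofNat 0, Int.ofNat 0, Int.ofNat 0, Int.ofNat 0, Int.ofNat 0, Int.ofNat 0, Int.ofNat 0, Int.ofNat 0, Int.ofNat 0, Int.ofNat 0, Int.ofNat 0, Int.negSucc 3],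
  [Int.ofNat 0, Int.ofNat 0, Int.ofNat 0, Int.ofNat 0, Int.ofNat 0, Int.ofNat 0, Int.ofNat 0, Int.ofNat 0, Int.ofNat 0, Int.ofNat 0, Int.ofNat 0, Int.ofNat 0, Int.ofNat 0, Int.ofNat 0, Int.ofNat 0, Int.ofNat 0, Int.ofNat 0, Int.ofNat 0, Int.ofNat 0, Int.ofNat 0, Int.ofNat 0, Int.ofNat 4, Int.ofNat 0, Int.negSucc 3],
  [Int.negSucc 1, Int.negSucc 1, Int.negSucc 1, Int.ofNat 0, Int.ofNat 0, Int.ofNat 0, Int.negSucc 1, Int.negSucc 1, Int.ofNat 0, Int.ofNat 0, Int.ofNat 0, Int.ofNat 0, Int.ofNat 0, Int.ofNat 0, Int.ofNat 0, Int.ofNat 0, Int.ofNat 0, Int.ofNat 0, Int.ofNat 0, Int.negSucc 1, Int.ofNat 0, Int.ofNat 2, Int.ofNat 0, Int.ofNat 2],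
  [Int.negSucc 1, Int.negSucc 1, Int.ofNat 0, Int.ofNat 0, Int.ofNat 0, Int.negSucc 1, Int.negSucc 1, Int.ofNat 0, Int.ofNat 0, Int.ofNat 0, Int.ofNat 0, Int.ofNat 0, Int.ofNat 0, Int.ofNat 0, Int.ofNat 0, Int.ofNat 0, Int.ofNat 0, Int.ofNat 0, Int.negSucc 1, Int.ofNat 0, Int.ofNat 2, Int.ofNat 0, Int.negSucc 1, Int.ofNat 2],
  [Int.ofNat 1, Int.ofNat 1, Int.negSucc 0, Int.ofNat 1, Int.ofNat 1, Int.negSucc 0, Int.negSucc 0, Int.ofNat 1, Int.ofNat 1, Int.negSucc 0, Int.negSucc 0, Int.ofNat 1, Int.ofNat 1, Int.ofNat 1, Int.ofNat 1, Int.negSucc 0, Int.ofNat 1, Int.ofNat 1, Int.negSucc 0, Int.ofNat 1, Int.ofNat 1, Int.ofNat 1, Int.negSucc 0, Int.negSucc 2],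
  [Int.ofNat 1, Int.ofNat 1, Int.ofNat 1, Int.ofNat 1, Int.ofNat 1, Int.ofNat 1, Int.ofNat 1, Int.ofNat 1, Int.ofNat 1, Int.ofNat 1, Int.ofNat 1, Int.ofNat 1, Int.ofNat 1, Int.ofNat 1, Int.ofNat 1, Int.ofNat 1, Int.ofNat 1, Int.ofNat 1, Int.ofNat 1, Int.ofNat 1, Int.ofNat 1, Int.ofNat 1, Int.ofNat 1, Int.negSucc 2],
  [Int.ofNat 1, Int.ofNat 1, Int.ofNat 1, Int.ofNat 1, Int.ofNat 1, Int.ofNat 1, Int.ofNat 1, Int.ofNat 1, Int.ofNat 1, Int.ofNat 1, Int.ofNat 1, Int.ofNat 1, Int.ofNat 1, Int.ofNat 1, Int.ofNat 1, Int.ofNat 1, Int.ofNat 1, Int.ofNat 1, Int.ofNat 1, Int.ofNat 1, Int.ofNat 1, Int.ofNat 1, Int.ofNat 1, Int.negSucc 2],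
  [Int.negSucc 2, Int.ofNat 1, Int.ofNat 1, Int.ofNat 1, Int.ofNat 1, Int.ofNat 1, Int.ofNat 1, Int.ofNat 1, Int.ofNat 1, Int.ofNat 1, Int.ofNat 1, Int.ofNat 1, Int.ofNat 1, Int.ofNat 1, Int.ofNat 1, Int.ofNat 1, Int.ofNat 1, Int.ofNat 1, Int.ofNat 1, Int.ofNat 1, Int.ofNat 1, Int.ofNat 1, Int.ofNat 1, Int.ofNat 1],
  [Int.ofNat 3, Int.ofNat 1, Int.negSucc 0, Int.ofNat 1, Int.ofNat 1, Int.ofNat 1, Int.ofNat 1, Int.negSucc 0, Int.ofNat 1, Int.negSucc 0, Int.negSucc 0, Int.negSucc 0, Int.ofNat 1, Int.ofNat 1, Int.ofNat 1, Int.ofNat 1, Int.ofNat 1, Int.ofNat 1, Int.negSucc 0, Int.ofNat 1, Int.ofNat 1, Int.negSucc 0, Int.ofNat 1, Int.ofNat 1],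
  [Int.ofNat 1, Int.ofNat 3, Int.ofNat 1, Int.negSucc 0, Int.ofNat 1, Int.ofNat 1, Int.ofNat 1, Int.ofNat 1, Int.negSucc 0, Int.ofNat 1, Int.negSucc 0, Int.negSucc 0, Int.negSucc 0, Int.ofNat 1, Int.ofNat 1, Int.ofNat 1, Int.ofNat 1, Int.ofNat 1, Int.ofNat 1, Int.negSucc 0, Int.ofNat 1, Int.ofNat 1, Int.negSucc 0, Int.ofNat 1],
  [Int.ofNat 2, Int.ofNat 0, Int.ofNat 2, Int.negSucc 1, Int.ofNat 0, Int.ofNat 0, Int.ofNat 0, Int.ofNat 0, Int.ofNat 0, Int.ofNat 0, Int.negSucc 1, Int.ofNat 0, Int.ofNat 0, Int.ofNat 0, Int.ofNat 0, Int.ofNat 0, Int.ofNat 0, Int.ofNat 0, Int.ofNat 2, Int.negSucc 1, Int.ofNat 0, Int.ofNat 0, Int.negSucc 1, Int.ofNat 2],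
  [Int.negSucc 1, Int.ofNat 0, Int.ofNat 0, Int.ofNat 0, Int.ofNat 0, Int.ofNat 0, Int.ofNat 0, Int.negSucc 1, Int.ofNat 0, Int.ofNat 0, Int.ofNat 0, Int.ofNat 0, Int.ofNat 0, Int.ofNat 0, Int.ofNat 0, Int.ofNat 2, Int.negSucc 1, Int.ofNat 0, Int.ofNat 0, Int.negSucc 1, Int.ofNat 2, Int.ofNat 0, Int.ofNat 2, Int.ofNat 2],
  [Int.ofNat 2, Int.ofNat 0, Int.ofNat 0, Int.ofNat 0, Int.ofNat 0, Int.ofNat 0, Int.ofNat 2, Int.ofNat 0, Int.ofNat 0, Int.negSucc 1, Int.negSucc 1, Int.ofNat 0, Int.ofNat 0, Int.ofNat 0, Int.ofNat 0, Int.ofNat 0, Int.negSucc 1, Int.ofNat 0, Int.ofNat 0, Int.ofNat 0, Int.ofNat 0, Int.ofNat 2, Int.ofNat 2, Int.negSucc 1],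
  [Int.ofNat 2, Int.ofNat 2, Int.ofNat 0, Int.ofNat 0, Int.ofNat 0, Int.ofNat 0, Int.ofNat 0, Int.negSucc 1, Int.ofNat 0, Int.ofNat 0, Int.ofNat 0, Int.ofNat 0, Int.negSucc 1, Int.negSucc 1, Int.ofNat 2, Int.ofNat 0, Int.ofNat 0, Int.ofNat 0, Int.ofNat 0, Int.ofNat 0, Int.ofNat 2, Int.ofNat 0, Int.ofNat 0, Int.negSucc 1],
  [Int.negSucc 0, Int.negSucc 0, Int.ofNat 1, Int.negSucc 0, Int.ofNat 1, Int.negSucc 0, Int.ofNat 1, Int.negSucc 0, Int.ofNat 1, Int.negSucc 0, Int.negSucc 0, Int.ofNat 1, Int.negSucc 0, Int.negSucc 0, Int.ofNat 1, Int.negSucc 0, Int.ofNat 1, Int.negSucc 0, Int.ofNat 1, Int.ofNat 1, Int.ofNat 1, Int.ofNat 1, Int.ofNat 1, Int.ofNat 3],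
  [Int.negSucc 0, Int.negSucc 0, Int.negSucc 0, Int.negSucc 0, Int.ofNat 1, Int.ofNat 1, Int.negSucc 0, Int.negSucc 0, Int.ofNat 1, Int.ofNat 1, Int.ofNat 1, Int.ofNat 1, Int.negSucc 0, Int.negSucc 0, Int.ofNat 1, Int.ofNat 1, Int.ofNat 1, Int.negSucc 0, Int.negSucc 0, Int.ofNat 1, Int.ofNat 1, Int.ofNat 1, Int.negSucc 0, Int.ofNat 3],
  [Int.negSucc 0, Int.negSucc 0, Int.ofNat 1, Int.ofNat 1, Int.negSucc 0, Int.ofNat 1, Int.negSucc 0, Int.negSucc 0, Int.negSucc 0, Int.ofNat 1, Int.negSucc 0, Int.negSucc 0, Int.negSucc 0, Int.ofNat 1, Int.negSucc 0, Int.ofNat 1, Int.ofNat 1, Int.ofNat 1, Int.ofNat 1, Int.negSucc 0, Int.ofNat 1, Int.ofNat 1, Int.ofNat 1, Int.ofNat 3],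
  [Int.negSucc 0, Int.negSucc 0, Int.negSucc 0, Int.ofNat 1, Int.negSucc 0, Int.negSucc 0, Int.ofNat 1, Int.negSucc 0, Int.negSucc 0, Int.negSucc 0, Int.ofNat 1, Int.negSucc 0, Int.negSucc 0, Int.ofNat 1, Int.negSucc 0, Int.negSucc 0, Int.ofNat 1, Int.ofNat 1, Int.negSucc 0, Int.negSucc 0, Int.ofNat 1, Int.ofNat 1, Int.negSucc 0, Int.ofNat 3],
  [Int.ofNat 1, Int.ofNat 1, Int.ofNat 1, Int.ofNat 1, Int.negSucc 0, Int.negSucc 0, Int.ofNat 1, Int.negSucc 0, Int.ofNat 1, Int.negSucc 0, Int.ofNat 1, Int.ofNat 1, Int.ofNat 1, Int.ofNat 1, Int.negSucc 0, Int.negSucc 0, Int.ofNat 1, Int.ofNat 1, Int.ofNat 1, Int.negSucc 0, Int.ofNat 1, Int.ofNat 1, Int.negSucc 0, Int.negSucc 2],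
  [Int.ofNat 1, Int.ofNat 1, Int.ofNat 1, Int.ofNat 1, Int.ofNat 1, Int.ofNat 1, Int.ofNat 1, Int.negSucc 0, Int.ofNat 1, Int.ofNat 1, Int.negSucc 0, Int.negSucc 0, Int.ofNat 1, Int.negSucc 0, Int.ofNat 1, Int.negSucc 0, Int.ofNat 1, Int.ofNat 1, Int.negSucc 0, Int.negSucc 0, Int.ofNat 1, Int.ofNat 1, Int.negSucc 0, Int.negSucc 2],
  [Int.negSucc 0, Int.negSucc 0, Int.negSucc 0, Int.negSucc 0, Int.ofNat 1, Int.negSucc 0, Int.ofNat 1, Int.negSucc 0, Int.ofNat 1, Int.ofNat 1, Int.negSucc 0, Int.negSucc 0, Int.ofNat 1, Int.negSucc 0, Int.negSucc 0, Int.negSucc 0, Int.ofNat 1, Int.negSucc 0, Int.negSucc 0, Int.negSucc 0, Int.ofNat 1, Int.ofNat 1, Int.negSucc 0, Int.ofNat 3],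
  [Int.ofNat 1, Int.ofNat 1, Int.negSucc 0, Int.negSucc 0, Int.negSucc 0, Int.negSucc 0, Int.negSucc 0, Int.ofNat 1, Int.negSucc 0, Int.ofNat 1, Int.negSucc 0, Int.ofNat 1, Int.ofNat 1, Int.negSucc 0, Int.negSucc 0, Int.ofNat 1, Int.negSucc 0, Int.negSucc 0, Int.negSucc 0, Int.ofNat 1, Int.negSucc 0, Int.negSucc 0, Int.negSucc 0, Int.ofNat 3],
  [Int.ofNat 1, Int.ofNat 1, Int.ofNat 3, Int.ofNat 1, Int.ofNat 1, Int.ofNat 1, Int.negSucc 0, Int.ofNat 1, Int.negSucc 0, Int.ofNat 1, Int.negSucc 0, Int.ofNat 1, Int.ofNat 1, Int.ofNat 1, Int.ofNat 1, Int.ofNat 1, Int.ofNat 1, Int.ofNat 1, Int.negSucc 0, Int.ofNat 1, Int.negSucc 0, Int.negSucc 0, Int.ofNat 1, Int.negSucc 0],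
  [Int.ofNat 1, Int.ofNat 3, Int.ofNat 1, Int.ofNat 1, Int.ofNat 1, Int.negSucc 0, Int.ofNat 1, Int.negSucc 0, Int.ofNat 1, Int.negSucc 0, Int.ofNat 1, Int.ofNat 1, Int.ofNat 1, Int.ofNat 1, Int.ofNat 1, Int.ofNat 1, Int.ofNat 1, Int.negSucc 0, Int.ofNat 1, Int.negSucc 0, Int.negSucc 0, Int.ofNat 1, Int.ofNat 1, Int.negSucc 0],
  [Int.negSucc 0, Int.ofNat 3, Int.negSucc 0, Int.ofNat 1, Int.ofNat 1, Int.negSucc 0, Int.ofNat 1, Int.ofNat 1, Int.ofNat 1, Int.ofNat 1, Int.negSucc 0, Int.negSucc 0, Int.ofNat 1, Int.ofNat 1, Int.ofNat 1, Int.ofNat 1, Int.ofNat 1, Int.negSucc 0, Int.negSucc 0, Int.negSucc 0, Int.negSucc 0, Int.negSucc 0, Int.ofNat 1, Int.negSucc 0],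
  [Int.ofNat 1, Int.negSucc 2, Int.ofNat 1, Int.negSucc 0, Int.negSucc 0, Int.negSucc 0, Int.negSucc 0, Int.ofNat 1, Int.negSucc 0, Int.negSucc 0, Int.negSucc 0, Int.negSucc 0, Int.negSucc 0, Int.negSucc 0, Int.ofNat 1, Int.ofNat 1, Int.negSucc 0, Int.negSucc 0, Int.ofNat 1, Int.negSucc 0, Int.negSucc 0, Int.negSucc 0, Int.ofNat 1, Int.negSucc 0],
  [Int.ofNat 1, Int.ofNat 1, Int.ofNat 1, Int.negSucc 0, Int.negSucc 2, Int.negSucc 0, Int.negSucc 0, Int.negSucc 0, Int.negSucc 0, Int.negSucc 0, Int.negSucc 0, Int.ofNat 1, Int.negSucc 0, Int.negSucc 0, Int.negSucc 0, Int.ofNat 1, Int.negSucc 0, Int.ofNat 1, Int.negSucc 0, Int.negSucc 0, Int.negSucc 0, Int.ofNat 1, Int.negSucc 0, Int.negSucc 0],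
  [Int.negSucc 0, Int.ofNat 1, Int.negSucc 0, Int.negSucc 0, Int.negSucc 2, Int.negSucc 0, Int.negSucc 0, Int.ofNat 1, Int.negSucc 0, Int.ofNat 1, Int.ofNat 1, Int.negSucc 0, Int.negSucc 0, Int.negSucc 0, Int.negSucc 0, Int.ofNat 1, Int.negSucc 0, Int.ofNat 1, Int.ofNat 1, Int.negSucc 0, Int.negSucc 0, Int.negSucc 0, Int.negSucc 0, Int.negSucc 0],
  [Int.negSucc 0, Int.negSucc 0, Int.ofNat 1, Int.negSucc 0, Int.negSucc 0, Int.negSucc 2, Int.negSucc 0, Int.negSucc 0, Int.ofNat 1, Int.negSucc 0, Int.ofNat 1, Int.ofNat 1, Int.negSucc 0, Int.negSucc 0, Int.negSucc 0, Int.negSucc 0, Int.ofNat 1, Int.negSucc 0, Int.ofNat 1, Int.ofNat 1, Int.negSucc 0, Int.negSucc 0, Int.negSucc 0, Int.negSucc 0],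
  [Int.ofNat 0, Int.ofNat 0, Int.negSucc 1, Int.ofNat 2, Int.ofNat 0, Int.ofNat 0, Int.ofNat 0, Int.ofNat 0, Int.ofNat 0, Int.ofNat 0, Int.ofNat 2, Int.ofNat 0, Int.negSucc 1, Int.ofNat 0, Int.ofNat 2, Int.ofNat 0, Int.ofNat 2, Int.ofNat 2, Int.ofNat 0, Int.ofNat 2, Int.ofNat 0, Int.ofNat 0, Int.ofNat 0, Int.ofNat 0],
  [Int.ofNat 2, Int.ofNat 0, Int.ofNat 0, Int.ofNat 0, Int.ofNat 0, Int.ofNat 0, Int.ofNat 0, Int.ofNat 2, Int.ofNat 0, Int.negSucc 1, Int.ofNat 0, Int.ofNat 2, Int.ofNat 0, Int.ofNat 2, Int.ofNat 2, Int.ofNat 0, Int.ofNat 2, Int.ofNat 0, Int.ofNat 0, Int.ofNat 0, Int.ofNat 0, Int.ofNat 0, Int.negSucc 1, Int.ofNat 0],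
  [Int.negSucc 0, Int.ofNat 1, Int.ofNat 1, Int.negSucc 0, Int.negSucc 0, Int.negSucc 0, Int.negSucc 0, Int.ofNat 1, Int.negSucc 0, Int.negSucc 0, Int.ofNat 1, Int.ofNat 1, Int.negSucc 0, Int.ofNat 1, Int.ofNat 1, Int.ofNat 1, Int.ofNat 1, Int.negSucc 0, Int.negSucc 0, Int.negSucc 0, Int.ofNat 1, Int.negSucc 0, Int.negSucc 2, Int.ofNat 1],
  [Int.negSucc 0, Int.negSucc 0, Int.negSucc 0, Int.negSucc 0, Int.negSucc 0, Int.ofNat 1, Int.ofNat 1, Int.ofNat 1, Int.negSucc 0, Int.ofNat 1, Int.ofNat 1, Int.negSucc 0, Int.negSucc 0, Int.ofNat 1, Int.negSucc 2, Int.ofNat 1, Int.negSucc 0, Int.ofNat 1, Int.ofNat 1, Int.ofNat 1, Int.negSucc 0, Int.negSucc 0, Int.negSucc 0, Int.ofNat 1],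
  [Int.ofNat 0, Int.ofNat 0, Int.ofNat 0, Int.ofNat 0, Int.ofNat 0, Int.ofNat 2, Int.ofNat 0, Int.ofNat 0, Int.ofNat 0, Int.ofNat 0, Int.ofNat 0, Int.ofNat 0, Int.ofNat 0, Int.ofNat 2, Int.negSucc 1, Int.ofNat 0, Int.ofNat 0, Int.ofNat 2, Int.ofNat 2, Int.ofNat 0, Int.negSucc 1, Int.negSucc 1, Int.ofNat 0, Int.negSucc 1],
  [Int.ofNat 0, Int.ofNat 0, Int.ofNat 0, Int.ofNat 0, Int.ofNat 0, Int.negSucc 1, Int.ofNat 0, Int.ofNat 0, Int.ofNat 0, Int.ofNat 0, Int.ofNat 0, Int.ofNat 0, Int.ofNat 0, Int.ofNat 2, Int.negSucc 1, Int.ofNat 0, Int.ofNat 0, Int.ofNat 2, Int.negSucc 1, Int.ofNat 0, Int.negSucc 1, Int.negSucc 1, Int.ofNat 0, Int.negSucc 1],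
  [Int.ofNat 0, Int.ofNat 0, Int.ofNat 0, Int.ofNat 0, Int.negSucc 1, Int.ofNat 0, Int.negSucc 1, Int.ofNat 0, Int.negSucc 1, Int.negSucc 1, Int.ofNat 2, Int.ofNat 0, Int.ofNat 0, Int.ofNat 0, Int.ofNat 2, Int.negSucc 1, Int.ofNat 0, Int.ofNat 0, Int.ofNat 0, Int.ofNat 0, Int.ofNat 0, Int.ofNat 0, Int.ofNat 0, Int.negSucc 1],
  [Int.negSucc 1, Int.ofNat 0, Int.ofNat 0, Int.negSucc 1, Int.ofNat 0, Int.negSucc 1, Int.ofNat 0, Int.ofNat 0, Int.ofNat 0, Int.ofNat 0, Int.ofNat 0, Int.ofNat 0, Int.ofNat 0, Int.ofNat 0, Int.ofNat 0, Int.ofNat 0, Int.ofNat 2, Int.negSucc 1, Int.ofNat 2, Int.negSucc 1, Int.negSucc 1, Int.ofNat 0, Int.ofNat 0, Int.ofNat 0],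
  [Int.ofNat 2, Int.ofNat 0, Int.ofNat 0, Int.negSucc 1, Int.ofNat 0, Int.negSucc 1, Int.ofNat 0, Int.ofNat 0, Int.ofNat 0, Int.ofNat 0, Int.ofNat 0, Int.ofNat 0, Int.ofNat 0, Int.ofNat 0, Int.ofNat 0, Int.ofNat 0, Int.ofNat 2, Int.negSucc 1, Int.negSucc 1, Int.negSucc 1, Int.negSucc 1, Int.ofNat 0, Int.ofNat 0, Int.ofNat 0],
  [Int.ofNat 0, Int.ofNat 2, Int.ofNat 0, Int.ofNat 0, Int.negSucc 1, Int.ofNat 0, Int.negSucc 1, Int.ofNat 0, Int.ofNat 0, Int.ofNat 0, Int.ofNat 0, Int.ofNat 0, Int.ofNat 0, Int.ofNat 0, Int.ofNat 0, Int.ofNat 0, Int.ofNat 0, Int.ofNat 2, Int.negSucc 1, Int.negSucc 1, Int.negSucc 1, Int.negSucc 1, Int.ofNat 0, Int.ofNat 0],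
  [Int.ofNat 1, Int.negSucc 0, Int.ofNat 1, Int.negSucc 0, Int.negSucc 0, Int.negSucc 0, Int.ofNat 1, Int.ofNat 3, Int.ofNat 1, Int.ofNat 1, Int.ofNat 1, Int.ofNat 1, Int.ofNat 1, Int.ofNat 1, Int.negSucc 0, Int.ofNat 1, Int.ofNat 1, Int.ofNat 1, Int.negSucc 0, Int.ofNat 1, Int.negSucc 0, Int.ofNat 1, Int.ofNat 1, Int.ofNat 1],
  [Int.negSucc 0, Int.negSucc 0, Int.negSucc 0, Int.ofNat 1, Int.ofNat 3, Int.ofNat 1, Int.ofNat 1, Int.ofNat 1, Int.ofNat 1, Int.ofNat 1, Int.ofNat 1, Int.negSucc 0, Int.ofNat 1, Int.ofNat 1, Int.ofNat 1, Int.negSucc 0, Int.ofNat 1, Int.negSucc 0, Int.ofNat 1, Int.ofNat 1, Int.ofNat 1, Int.negSucc 0, Int.ofNat 1, Int.ofNat 1],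
  [Int.ofNat 0, Int.ofNat 0, Int.ofNat 0, Int.ofNat 0, Int.ofNat 0, Int.ofNat 0, Int.ofNat 0, Int.ofNat 0, Int.ofNat 0, Int.ofNat 0, Int.ofNat 0, Int.negSucc 1, Int.ofNat 0, Int.negSucc 1, Int.ofNat 0, Int.negSucc 1, Int.negSucc 1, Int.negSucc 1, Int.ofNat 0, Int.ofNat 0, Int.ofNat 0, Int.negSucc 1, Int.negSucc 1, Int.negSucc 1],
  [Int.ofNat 0, Int.ofNat 0, Int.ofNat 0, Int.ofNat 0, Int.ofNat 0, Int.ofNat 0, Int.ofNat 0, Int.ofNat 0, Int.ofNat 0, Int.negSucc 1, Int.ofNat 0, Int.negSucc 1, Int.ofNat 0, Int.negSucc 1, Int.negSucc 1, Int.negSucc 1, Int.ofNat 0, Int.ofNat 0, Int.ofNat 0, Int.negSucc 1, Int.negSucc 1, Int.ofNat 0, Int.ofNat 0, Int.negSucc 1],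
  [Int.negSucc 0, Int.negSucc 0, Int.negSucc 0, Int.ofNat 1, Int.ofNat 1, Int.ofNat 1, Int.ofNat 1, Int.ofNat 1, Int.ofNat 1, Int.ofNat 1, Int.ofNat 3, Int.negSucc 0, Int.ofNat 1, Int.negSucc 0, Int.negSucc 0, Int.ofNat 1, Int.ofNat 1, Int.ofNat 1, Int.ofNat 1, Int.negSucc 0, Int.ofNat 1, Int.ofNat 1, Int.ofNat 1, Int.ofNat 1],
  [Int.negSucc 0, Int.negSucc 0, Int.ofNat 1, Int.ofNat 1, Int.ofNat 1, Int.negSucc 0, Int.negSucc 0, Int.ofNat 1, Int.ofNat 1, Int.negSucc 0, Int.negSucc 2, Int.negSucc 0, Int.ofNat 1, Int.negSucc 0, Int.negSucc 0, Int.negSucc 0, Int.ofNat 1, Int.ofNat 1, Int.negSucc 0, Int.negSucc 0, Int.ofNat 1, Int.ofNat 1, Int.negSucc 0, Int.ofNat 1],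
  [Int.ofNat 1, Int.negSucc 0, Int.ofNat 1, Int.ofNat 1, Int.ofNat 1, Int.negSucc 0, Int.negSucc 0, Int.negSucc 0, Int.negSucc 0, Int.negSucc 0, Int.ofNat 1, Int.ofNat 1, Int.ofNat 1, Int.negSucc 0, Int.negSucc 0, Int.ofNat 1, Int.negSucc 0, Int.negSucc 0, Int.ofNat 1, Int.negSucc 0, Int.ofNat 1, Int.negSucc 2, Int.negSucc 0, Int.ofNat 1],
  [Int.ofNat 1, Int.negSucc 0, Int.negSucc 0, Int.ofNat 1, Int.ofNat 1, Int.ofNat 1, Int.ofNat 1, Int.negSucc 0, Int.negSucc 0, Int.ofNat 1, Int.negSucc 0, Int.ofNat 1, Int.ofNat 1, Int.negSucc 0, Int.negSucc 0, Int.negSucc 0, Int.negSucc 0, Int.negSucc 0, Int.negSucc 0, Int.negSucc 0, Int.ofNat 1, Int.negSucc 2, Int.ofNat 1, Int.ofNat 1],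
  [Int.negSucc 0, Int.ofNat 1, Int.ofNat 1, Int.ofNat 1, Int.ofNat 1, Int.ofNat 1, Int.ofNat 3, Int.ofNat 1, Int.negSucc 0, Int.ofNat 1, Int.negSucc 0, Int.ofNat 1, Int.ofNat 1, Int.negSucc 0, Int.negSucc 0, Int.negSucc 0, Int.negSucc 0, Int.negSucc 0, Int.negSucc 0, Int.ofNat 1, Int.ofNat 1, Int.negSucc 0, Int.ofNat 1, Int.negSucc 0],
  [Int.negSucc 0, Int.negSucc 0, Int.ofNat 3, Int.ofNat 1, Int.ofNat 1, Int.negSucc 0, Int.ofNat 1, Int.ofNat 1, Int.negSucc 0, Int.ofNat 1, Int.ofNat 1, Int.ofNat 1, Int.negSucc 0, Int.ofNat 1, Int.negSucc 0, Int.negSucc 0, Int.negSucc 0, Int.ofNat 1, Int.ofNat 1, Int.ofNat 1, Int.negSucc 0, Int.ofNat 1, Int.negSucc 0, Int.negSucc 0],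
  [Int.ofNat 1, Int.ofNat 1, Int.negSucc 2, Int.ofNat 1, Int.ofNat 1, Int.negSucc 0, Int.negSucc 0, Int.negSucc 0, Int.negSucc 0, Int.ofNat 1, Int.ofNat 1, Int.ofNat 1, Int.negSucc 0, Int.ofNat 1, Int.negSucc 0, Int.negSucc 0, Int.negSucc 0, Int.ofNat 1, Int.ofNat 1, Int.negSucc 0, Int.negSucc 0, Int.negSucc 0, Int.negSucc 0, Int.ofNat 1],
  [Int.negSucc 0, Int.negSucc 0, Int.negSucc 0, Int.ofNat 1, Int.ofNat 1, Int.negSucc 2, Int.ofNat 1, Int.ofNat 1, Int.negSucc 0, Int.negSucc 0, Int.negSucc 0, Int.negSucc 0, Int.ofNat 1, Int.ofNat 1, Int.ofNat 1, Int.negSucc 0, Int.ofNat 1, Int.negSucc 0, Int.negSucc 0, Int.negSucc 0, Int.ofNat 1, Int.ofNat 1, Int.negSucc 0, Int.ofNat 1],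
  [Int.ofNat 0, Int.ofNat 0, Int.ofNat 0, Int.ofNat 2, Int.ofNat 0, Int.negSucc 1, Int.ofNat 0, Int.ofNat 0, Int.ofNat 0, Int.ofNat 0, Int.ofNat 0, Int.ofNat 0, Int.ofNat 2, Int.ofNat 0, Int.ofNat 2, Int.ofNat 0, Int.ofNat 0, Int.ofNat 0, Int.ofNat 0, Int.negSucc 1, Int.ofNat 2, Int.ofNat 0, Int.negSucc 1, Int.negSucc 1],
  [Int.ofNat 0, Int.ofNat 0, Int.ofNat 2, Int.ofNat 0, Int.negSucc 1, Int.ofNat 0, Int.ofNat 0, Int.ofNat 0, Int.ofNat 0, Int.ofNat 0, Int.ofNat 0, Int.ofNat 2, Int.ofNat 0, Int.ofNat 2, Int.ofNat 0, Int.ofNat 0, Int.ofNat 0, Int.ofNat 0, Int.negSucc 1, Int.ofNat 2, Int.ofNat 0, Int.negSucc 1, Int.ofNat 0, Int.negSucc 1],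
  [Int.ofNat 0, Int.ofNat 0, Int.negSucc 1, Int.ofNat 0, Int.negSucc 1, Int.ofNat 0, Int.ofNat 0, Int.ofNat 0, Int.ofNat 0, Int.ofNat 0, Int.ofNat 0, Int.negSucc 1, Int.ofNat 0, Int.ofNat 2, Int.ofNat 0, Int.ofNat 0, Int.ofNat 0, Int.ofNat 0, Int.ofNat 2, Int.ofNat 2, Int.ofNat 0, Int.ofNat 2, Int.ofNat 0, Int.negSucc 1],
  [Int.ofNat 0, Int.ofNat 0, Int.ofNat 2, Int.ofNat 0, Int.ofNat 2, Int.ofNat 0, Int.ofNat 0, Int.ofNat 0, Int.ofNat 0, Int.ofNat 0, Int.ofNat 0, Int.negSucc 1, Int.ofNat 0, Int.negSucc 1, Int.ofNat 0, Int.ofNat 0, Int.ofNat 0, Int.ofNat 0, Int.negSucc 1, Int.ofNat 2, Int.ofNat 0, Int.ofNat 2, Int.ofNat 0, Int.negSucc 1],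
  [Int.ofNat 0, Int.ofNat 2, Int.negSucc 1, Int.ofNat 0, Int.ofNat 0, Int.ofNat 0, Int.ofNat 2, Int.ofNat 0, Int.ofNat 0, Int.ofNat 0, Int.ofNat 2, Int.ofNat 0, Int.negSucc 1, Int.ofNat 0, Int.ofNat 2, Int.ofNat 0, Int.ofNat 0, Int.ofNat 0, Int.ofNat 0, Int.ofNat 0, Int.ofNat 0, Int.ofNat 0, Int.negSucc 1, Int.negSucc 1],
  [Int.ofNat 0, Int.ofNat 2, Int.ofNat 2, Int.ofNat 0, Int.ofNat 0, Int.ofNat 0, Int.ofNat 2, Int.ofNat 0, Int.ofNat 0, Int.ofNat 0, Int.negSucc 1, Int.ofNat 0, Int.negSucc 1, Int.ofNat 0, Int.ofNat 2, Int.ofNat 0, Int.ofNat 0, Int.ofNat 0, Int.ofNat 0, Int.ofNat 0, Int.ofNat 0, Int.ofNat 0, Int.negSucc 1, Int.negSucc 1],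
  [Int.negSucc 1, Int.ofNat 0, Int.ofNat 2, Int.ofNat 2, Int.ofNat 0, Int.ofNat 0, Int.ofNat 0, Int.ofNat 2, Int.ofNat 0, Int.ofNat 0, Int.ofNat 0, Int.negSucc 1, Int.ofNat 0, Int.negSucc 1, Int.ofNat 0, Int.ofNat 2, Int.ofNat 0, Int.ofNat 0, Int.ofNat 0, Int.ofNat 0, Int.ofNat 0, Int.ofNat 0, Int.ofNat 0, Int.negSucc 1],
  [Int.ofNat 1, Int.negSucc 0, Int.negSucc 2, Int.ofNat 1, Int.ofNat 1, Int.negSucc 0, Int.negSucc 0, Int.ofNat 1, Int.ofNat 1, Int.negSucc 0, Int.negSucc 0, Int.negSucc 0, Int.ofNat 1, Int.negSucc 0, Int.negSucc 0, Int.ofNat 1, Int.ofNat 1, Int.negSucc 0, Int.ofNat 1, Int.negSucc 0, Int.negSucc 0, Int.negSucc 0, Int.ofNat 1, Int.ofNat 1],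
  [Int.ofNat 1, Int.ofNat 1, Int.negSucc 0, Int.negSucc 0, Int.ofNat 1, Int.ofNat 1, Int.negSucc 0, Int.negSucc 0, Int.negSucc 0, Int.ofNat 1, Int.negSucc 0, Int.negSucc 0, Int.ofNat 1, Int.ofNat 1, Int.negSucc 0, Int.ofNat 1, Int.negSucc 0, Int.negSucc 0, Int.negSucc 0, Int.ofNat 1, Int.ofNat 1, Int.negSucc 0, Int.negSucc 2, Int.ofNat 1],
  [Int.ofNat 0, Int.ofNat 0, Int.ofNat 2, Int.ofNat 0, Int.ofNat 2, Int.ofNat 2, Int.ofNat 0, Int.ofNat 0, Int.ofNat 0, Int.ofNat 0, Int.negSucc 1, Int.ofNat 0, Int.ofNat 2, Int.ofNat 2, Int.ofNat 0, Int.ofNat 0, Int.ofNat 0, Int.ofNat 0, Int.ofNat 0, Int.ofNat 2, Int.ofNat 0, Int.ofNat 0, Int.negSucc 1, Int.ofNat 0],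
  [Int.ofNat 0, Int.ofNat 0, Int.ofNat 2, Int.ofNat 0, Int.ofNat 0, Int.ofNat 0, Int.ofNat 2, Int.negSucc 1, Int.ofNat 2, Int.ofNat 2, Int.ofNat 0, Int.ofNat 0, Int.ofNat 0, Int.ofNat 0, Int.negSucc 1, Int.ofNat 0, Int.ofNat 0, Int.ofNat 0, Int.ofNat 0, Int.ofNat 0, Int.ofNat 0, Int.ofNat 2, Int.ofNat 2, Int.ofNat 0],
  [Int.ofNat 1, Int.ofNat 1, Int.negSucc 0, Int.ofNat 1, Int.negSucc 0, Int.ofNat 1, Int.ofNat 1, Int.negSucc 2, Int.ofNat 1, Int.ofNat 1, Int.negSucc 0, Int.negSucc 0, Int.negSucc 0, Int.negSucc 0, Int.negSucc 0, Int.negSucc 0, Int.negSucc 0, Int.ofNat 1, Int.negSucc 0, Int.negSucc 0, Int.negSucc 0, Int.ofNat 1, Int.ofNat 1, Int.ofNat 1],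
  [Int.ofNat 1, Int.ofNat 1, Int.ofNat 1, Int.ofNat 1, Int.negSucc 0, Int.negSucc 0, Int.negSucc 0, Int.negSucc 2, Int.ofNat 1, Int.negSucc 0, Int.ofNat 1, Int.negSucc 0, Int.negSucc 0, Int.negSucc 0, Int.negSucc 0, Int.ofNat 1, Int.negSucc 0, Int.ofNat 1, Int.ofNat 1, Int.negSucc 0, Int.negSucc 0, Int.ofNat 1, Int.negSucc 0, Int.ofNat 1],
  [Int.ofNat 1, Int.negSucc 0, Int.negSucc 0, Int.ofNat 1, Int.negSucc 0, Int.negSucc 0, Int.ofNat 1, Int.ofNat 1, Int.negSucc 0, Int.negSucc 0, Int.negSucc 0, Int.negSucc 2, Int.ofNat 1, Int.negSucc 0, Int.ofNat 1, Int.ofNat 1, Int.negSucc 0, Int.negSucc 0, Int.negSucc 0, Int.ofNat 1, Int.ofNat 1, Int.ofNat 1, Int.negSucc 0, Int.ofNat 1],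
  [Int.ofNat 1, Int.negSucc 0, Int.negSucc 2, Int.ofNat 1, Int.negSucc 0, Int.negSucc 0, Int.ofNat 1, Int.negSucc 0, Int.ofNat 1, Int.negSucc 0, Int.negSucc 0, Int.negSucc 0, Int.ofNat 1, Int.ofNat 1, Int.negSucc 0, Int.ofNat 1, Int.negSucc 0, Int.negSucc 0, Int.ofNat 1, Int.ofNat 1, Int.negSucc 0, Int.ofNat 1, Int.negSucc 0, Int.ofNat 1],
  [Int.negSucc 0, Int.negSucc 0, Int.ofNat 3, Int.ofNat 1, Int.negSucc 0, Int.negSucc 0, Int.ofNat 1, Int.ofNat 1, Int.ofNat 1, Int.ofNat 1, Int.ofNat 1, Int.ofNat 1, Int.ofNat 1, Int.ofNat 1, Int.negSucc 0, Int.ofNat 1, Int.negSucc 0, Int.negSucc 0, Int.negSucc 0, Int.ofNat 1, Int.negSucc 0, Int.negSucc 0, Int.negSucc 0, Int.ofNat 1],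
  [Int.negSucc 0, Int.negSucc 0, Int.negSucc 0, Int.ofNat 3, Int.ofNat 1, Int.negSucc 0, Int.negSucc 0, Int.ofNat 1, Int.ofNat 1, Int.ofNat 1, Int.ofNat 1, Int.ofNat 1, Int.ofNat 1, Int.ofNat 1, Int.ofNat 1, Int.negSucc 0, Int.ofNat 1, Int.negSucc 0, Int.negSucc 0, Int.negSucc 0, Int.ofNat 1, Int.negSucc 0, Int.negSucc 0, Int.ofNat 1],
  [Int.ofNat 0, Int.ofNat 0, Int.ofNat 0, Int.ofNat 2, Int.ofNat 0, Int.negSucc 1, Int.ofNat 0, Int.ofNat 2, Int.ofNat 0, Int.ofNat 0, Int.ofNat 0, Int.ofNat 0, Int.ofNat 0, Int.ofNat 0, Int.ofNat 0, Int.negSucc 1, Int.ofNat 0, Int.negSucc 1, Int.negSucc 1, Int.ofNat 0, Int.ofNat 0, Int.ofNat 0, Int.negSucc 1, Int.negSucc 1],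
  [Int.ofNat 2, Int.ofNat 0, Int.negSucc 1, Int.ofNat 0, Int.ofNat 2, Int.ofNat 0, Int.ofNat 0, Int.ofNat 0, Int.ofNat 0, Int.ofNat 0, Int.ofNat 0, Int.ofNat 0, Int.negSucc 1, Int.ofNat 0, Int.negSucc 1, Int.negSucc 1, Int.ofNat 0, Int.ofNat 0, Int.ofNat 0, Int.negSucc 1, Int.ofNat 0, Int.ofNat 0, Int.ofNat 0, Int.negSucc 1],
  [Int.negSucc 2, Int.negSucc 0, Int.ofNat 1, Int.ofNat 1, Int.ofNat 1, Int.ofNat 1, Int.ofNat 1, Int.ofNat 1, Int.ofNat 1, Int.ofNat 1, Int.ofNat 1, Int.ofNat 1, Int.negSucc 0, Int.negSucc 0, Int.negSucc 0, Int.negSucc 0, Int.negSucc 0, Int.ofNat 1, Int.ofNat 1, Int.negSucc 0, Int.ofNat 1, Int.ofNat 1, Int.negSucc 0, Int.ofNat 1],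
  [Int.negSucc 2, Int.ofNat 1, Int.ofNat 1, Int.ofNat 1, Int.ofNat 1, Int.ofNat 1, Int.ofNat 1, Int.ofNat 1, Int.negSucc 0, Int.negSucc 0, Int.ofNat 1, Int.ofNat 1, Int.ofNat 1, Int.negSucc 0, Int.negSucc 0, Int.negSucc 0, Int.ofNat 1, Int.negSucc 0, Int.negSucc 0, Int.ofNat 1, Int.ofNat 1, Int.ofNat 1, Int.negSucc 0, Int.ofNat 1],
  [Int.ofNat 3, Int.negSucc 0, Int.negSucc 0, Int.ofNat 1, Int.ofNat 1, Int.ofNat 1, Int.negSucc 0, Int.negSucc 0, Int.negSucc 0, Int.negSucc 0, Int.ofNat 1, Int.ofNat 1, Int.ofNat 1, Int.negSucc 0, Int.negSucc 0, Int.negSucc 0, Int.ofNat 1, Int.negSucc 0, Int.negSucc 0, Int.negSucc 0, Int.ofNat 1, Int.negSucc 0, Int.negSucc 0, Int.negSucc 0],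
  [Int.ofNat 3, Int.negSucc 0, Int.ofNat 1, Int.ofNat 1, Int.ofNat 1, Int.negSucc 0, Int.ofNat 1, Int.negSucc 0, Int.negSucc 0, Int.ofNat 1, Int.negSucc 0, Int.ofNat 1, Int.ofNat 1, Int.negSucc 0, Int.negSucc 0, Int.ofNat 1, Int.ofNat 1, Int.negSucc 0, Int.ofNat 1, Int.negSucc 0, Int.ofNat 1, Int.negSucc 0, Int.ofNat 1, Int.negSucc 0],
  [Int.negSucc 0, Int.ofNat 1, Int.ofNat 1, Int.ofNat 1, Int.ofNat 1, Int.ofNat 1, Int.ofNat 1, Int.ofNat 1, Int.ofNat 3, Int.ofNat 1, Int.ofNat 1, Int.ofNat 1, Int.negSucc 0, Int.negSucc 0, Int.negSucc 0, Int.negSucc 0, Int.ofNat 1, Int.negSucc 0, Int.ofNat 1, Int.negSucc 0, Int.negSucc 0, Int.negSucc 0, Int.negSucc 0, Int.negSucc 0],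
  [Int.negSucc 0, Int.ofNat 1, Int.negSucc 0, Int.ofNat 1, Int.ofNat 1, Int.negSucc 0, Int.negSucc 0, Int.ofNat 1, Int.ofNat 3, Int.negSucc 0, Int.negSucc 0, Int.ofNat 1, Int.negSucc 0, Int.negSucc 0, Int.negSucc 0, Int.ofNat 1, Int.ofNat 1, Int.negSucc 0, Int.negSucc 0, Int.negSucc 0, Int.negSucc 0, Int.negSucc 0, Int.ofNat 1, Int.negSucc 0],
  [Int.ofNat 0, Int.negSucc 1, Int.ofNat 0, Int.ofNat 2, Int.ofNat 0, Int.ofNat 0, Int.ofNat 0, Int.ofNat 2, Int.ofNat 2, Int.ofNat 0, Int.ofNat 0, Int.ofNat 0, Int.negSucc 1, Int.negSucc 1, Int.ofNat 0, Int.ofNat 2, Int.ofNat 0, Int.ofNat 0, Int.negSucc 1, Int.ofNat 0, Int.ofNat 0, Int.ofNat 0, Int.ofNat 0, Int.ofNat 0],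
  [Int.ofNat 0, Int.negSucc 1, Int.ofNat 0, Int.ofNat 2, Int.ofNat 0, Int.ofNat 0, Int.negSucc 1, Int.ofNat 0, Int.ofNat 0, Int.negSucc 1, Int.ofNat 2, Int.ofNat 0, Int.ofNat 2, Int.ofNat 0, Int.ofNat 0, Int.ofNat 2, Int.negSucc 1, Int.ofNat 0, Int.ofNat 0, Int.ofNat 0, Int.ofNat 0, Int.ofNat 0, Int.ofNat 0, Int.ofNat 0],
  [Int.negSucc 0, Int.ofNat 1, Int.negSucc 0, Int.ofNat 1, Int.ofNat 1, Int.negSucc 0, Int.negSucc 0, Int.ofNat 1, Int.negSucc 0, Int.negSucc 2, Int.ofNat 1, Int.negSucc 0, Int.ofNat 1, Int.ofNat 1, Int.negSucc 0, Int.ofNat 1, Int.negSucc 0, Int.negSucc 0, Int.negSucc 0, Int.ofNat 1, Int.negSucc 0, Int.ofNat 1, Int.ofNat 1, Int.negSucc 0],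
  [Int.negSucc 0, Int.ofNat 1, Int.ofNat 1, Int.negSucc 0, Int.ofNat 1, Int.negSucc 0, Int.ofNat 1, Int.ofNat 1, Int.negSucc 0, Int.negSucc 0, Int.ofNat 1, Int.negSucc 0, Int.negSucc 2, Int.ofNat 1, Int.negSucc 0, Int.ofNat 1, Int.ofNat 1, Int.negSucc 0, Int.ofNat 1, Int.negSucc 0, Int.negSucc 0, Int.negSucc 0, Int.ofNat 1, Int.negSucc 0],
  [Int.ofNat 1, Int.negSucc 0, Int.negSucc 0, Int.ofNat 1, Int.negSucc 0, Int.ofNat 1, Int.ofNat 1, Int.ofNat 1, Int.ofNat 1, Int.negSucc 0, Int.ofNat 1, Int.ofNat 1, Int.negSucc 0, Int.negSucc 0, Int.ofNat 1, Int.ofNat 1, Int.negSucc 0, Int.ofNat 1, Int.ofNat 3, Int.negSucc 0, Int.negSucc 0, Int.negSucc 0, Int.negSucc 0, Int.ofNat 1],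
  [Int.negSucc 0, Int.negSucc 0, Int.ofNat 1, Int.negSucc 0, Int.ofNat 1, Int.ofNat 1, Int.ofNat 1, Int.ofNat 1, Int.negSucc 0, Int.ofNat 1, Int.ofNat 1, Int.negSucc 0, Int.negSucc 0, Int.ofNat 1, Int.ofNat 1, Int.negSucc 0, Int.ofNat 1, Int.ofNat 3, Int.negSucc 0, Int.negSucc 0, Int.negSucc 0, Int.negSucc 0, Int.ofNat 1, Int.ofNat 1],
  [Int.ofNat 1, Int.negSucc 0, Int.negSucc 0, Int.negSucc 0, Int.ofNat 1, Int.ofNat 1, Int.ofNat 1, Int.negSucc 0, Int.negSucc 0, Int.negSucc 0, Int.negSucc 0, Int.ofNat 1, Int.negSucc 0, Int.ofNat 1, Int.ofNat 1, Int.negSucc 0, Int.ofNat 1, Int.ofNat 3, Int.ofNat 1, Int.negSucc 0, Int.negSucc 0, Int.ofNat 1, Int.ofNat 1, Int.ofNat 1],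
  [Int.negSucc 0, Int.ofNat 1, Int.ofNat 1, Int.ofNat 1, Int.negSucc 0, Int.ofNat 1, Int.negSucc 0, Int.negSucc 0, Int.ofNat 1, Int.ofNat 1, Int.negSucc 0, Int.ofNat 1, Int.ofNat 1, Int.negSucc 0, Int.ofNat 1, Int.negSucc 0, Int.negSucc 0, Int.ofNat 3, Int.negSucc 0, Int.negSucc 0, Int.negSucc 0, Int.ofNat 1, Int.ofNat 1, Int.ofNat 1],
  [Int.negSucc 0, Int.ofNat 1, Int.negSucc 0, Int.ofNat 1, Int.ofNat 1, Int.negSucc 0, Int.negSucc 0, Int.negSucc 0, Int.ofNat 1, Int.negSucc 0, Int.ofNat 1, Int.ofNat 1, Int.negSucc 0, Int.ofNat 1, Int.negSucc 0, Int.negSucc 0, Int.ofNat 1, Int.ofNat 1, Int.negSucc 0, Int.ofNat 3, Int.ofNat 1, Int.negSucc 0, Int.ofNat 1, Int.ofNat 1],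
  [Int.ofNat 1, Int.ofNat 1, Int.ofNat 1, Int.ofNat 1, Int.ofNat 1, Int.negSucc 0, Int.negSucc 0, Int.ofNat 1, Int.ofNat 1, Int.ofNat 1, Int.negSucc 0, Int.negSucc 0, Int.negSucc 0, Int.ofNat 1, Int.negSucc 0, Int.negSucc 0, Int.ofNat 1, Int.ofNat 1, Int.ofNat 1, Int.ofNat 3, Int.ofNat 1, Int.ofNat 1, Int.ofNat 1, Int.ofNat 1],
  [Int.ofNat 1, Int.ofNat 1, Int.ofNat 1, Int.ofNat 1, Int.ofNat 1, Int.ofNat 1, Int.negSucc 0, Int.negSucc 0, Int.ofNat 1, Int.ofNat 1, Int.ofNat 1, Int.negSucc 0, Int.negSucc 0, Int.negSucc 0, Int.ofNat 1, Int.negSucc 0, Int.negSucc 0, Int.ofNat 1, Int.ofNat 1, Int.ofNat 1, Int.ofNat 3, Int.ofNat 1, Int.ofNat 1, Int.ofNat 1],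
  [Int.ofNat 1, Int.ofNat 1, Int.ofNat 1, Int.negSucc 0, Int.ofNat 1, Int.negSucc 0, Int.negSucc 0, Int.negSucc 0, Int.ofNat 1, Int.negSucc 0, Int.negSucc 0, Int.negSucc 0, Int.negSucc 0, Int.negSucc 0, Int.negSucc 0, Int.negSucc 2, Int.negSucc 0, Int.negSucc 0, Int.ofNat 1, Int.ofNat 1, Int.ofNat 1, Int.ofNat 1, Int.ofNat 1, Int.ofNat 1],
  [Int.negSucc 0, Int.ofNat 1, Int.negSucc 0, Int.negSucc 0, Int.negSucc 0, Int.ofNat 1, Int.negSucc 0, Int.negSucc 0, Int.negSucc 0, Int.negSucc 0, Int.negSucc 0, Int.negSucc 0, Int.negSucc 2, Int.negSucc 0, Int.negSucc 0, Int.ofNat 1, Int.ofNat 1, Int.ofNat 1, Int.ofNat 1, Int.ofNat 1, Int.ofNat 1, Int.ofNat 1, Int.ofNat 1, Int.ofNat 1],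
  [Int.ofNat 1, Int.negSucc 0, Int.ofNat 1, Int.negSucc 0, Int.negSucc 0, Int.ofNat 1, Int.negSucc 0, Int.negSucc 0, Int.ofNat 1, Int.negSucc 0, Int.negSucc 0, Int.ofNat 1, Int.negSucc 0, Int.negSucc 0, Int.negSucc 0, Int.ofNat 1, Int.ofNat 1, Int.ofNat 1, Int.ofNat 3, Int.ofNat 1, Int.ofNat 1, Int.ofNat 1, Int.ofNat 1, Int.negSucc 0],
  [Int.ofNat 1, Int.negSucc 0, Int.negSucc 0, Int.negSucc 0, Int.ofNat 3, Int.negSucc 0, Int.ofNat 1, Int.negSucc 0, Int.negSucc 0, Int.negSucc 0, Int.ofNat 1, Int.ofNat 1, Int.negSucc 0, Int.ofNat 1, Int.ofNat 1, Int.ofNat 1, Int.ofNat 1, Int.negSucc 0, Int.negSucc 0, Int.ofNat 1, Int.ofNat 1, Int.ofNat 1, Int.ofNat 1, Int.negSucc 0],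
  [Int.negSucc 1, Int.ofNat 0, Int.ofNat 0, Int.ofNat 0, Int.ofNat 0, Int.ofNat 0, Int.ofNat 0, Int.negSucc 1, Int.ofNat 0, Int.negSucc 1, Int.ofNat 0, Int.ofNat 2, Int.ofNat 0, Int.negSucc 1, Int.ofNat 2, Int.ofNat 0, Int.negSucc 1, Int.ofNat 0, Int.ofNat 0, Int.ofNat 0, Int.ofNat 0, Int.ofNat 0, Int.negSucc 1, Int.ofNat 0],
  [Int.negSucc 1, Int.ofNat 0, Int.ofNat 0, Int.ofNat 0, Int.ofNat 0, Int.ofNat 0, Int.ofNat 0, Int.negSucc 1, Int.ofNat 0, Int.ofNat 2, Int.ofNat 0, Int.ofNat 2, Int.ofNat 0, Int.negSucc 1, Int.ofNat 2, Int.ofNat 0, Int.negSucc 1, Int.ofNat 0, Int.ofNat 0, Int.ofNat 0, Int.ofNat 0, Int.ofNat 0, Int.ofNat 2, Int.ofNat 0],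
  [Int.ofNat 0, Int.negSucc 1, Int.ofNat 2, Int.ofNat 0, Int.ofNat 2, Int.ofNat 0, Int.ofNat 0, Int.ofNat 0, Int.ofNat 0, Int.ofNat 0, Int.negSucc 1, Int.negSucc 1, Int.ofNat 0, Int.ofNat 0, Int.ofNat 0, Int.ofNat 0, Int.ofNat 0, Int.ofNat 0, Int.ofNat 2, Int.ofNat 0, Int.negSucc 1, Int.ofNat 0, Int.ofNat 2, Int.ofNat 0],
  [Int.ofNat 0, Int.ofNat 2, Int.negSucc 1, Int.ofNat 0, Int.ofNat 0, Int.ofNat 0, Int.ofNat 0, Int.ofNat 0, Int.negSucc 1, Int.ofNat 0, Int.ofNat 0, Int.ofNat 2, Int.ofNat 0, Int.ofNat 0, Int.ofNat 2, Int.ofNat 0, Int.negSucc 1, Int.ofNat 2, Int.ofNat 0, Int.ofNat 0, Int.ofNat 0, Int.ofNat 0, Int.negSucc 1, Int.ofNat 0],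
  [Int.ofNat 0, Int.ofNat 2, Int.ofNat 2, Int.ofNat 0, Int.ofNat 0, Int.ofNat 0, Int.ofNat 0, Int.ofNat 0, Int.negSucc 1, Int.ofNat 0, Int.ofNat 0, Int.negSucc 1, Int.ofNat 0, Int.ofNat 0, Int.ofNat 2, Int.ofNat 0, Int.negSucc 1, Int.ofNat 2, Int.ofNat 0, Int.ofNat 0, Int.ofNat 0, Int.ofNat 0, Int.negSucc 1, Int.ofNat 0],
  [Int.negSucc 1, Int.ofNat 0, Int.ofNat 2, Int.ofNat 2, Int.ofNat 0, Int.ofNat 0, Int.ofNat 0, Int.ofNat 0, Int.ofNat 0, Int.negSucc 1, Int.ofNat 0, Int.ofNat 0, Int.negSucc 1, Int.ofNat 0, Int.ofNat 0, Int.ofNat 2, Int.ofNat 0, Int.negSucc 1, Int.ofNat 2, Int.ofNat 0, Int.ofNat 0, Int.ofNat 0, Int.ofNat 0, Int.ofNat 0],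
  [Int.ofNat 2, Int.ofNat 0, Int.negSucc 1, Int.ofNat 2, Int.ofNat 0, Int.ofNat 0, Int.ofNat 0, Int.ofNat 0, Int.ofNat 0, Int.negSucc 1, Int.ofNat 0, Int.ofNat 0, Int.negSucc 1, Int.ofNat 0, Int.ofNat 0, Int.ofNat 2, Int.ofNat 0, Int.negSucc 1, Int.ofNat 2, Int.ofNat 0, Int.ofNat 0, Int.ofNat 0, Int.ofNat 0, Int.ofNat 0],
  [Int.ofNat 2, Int.ofNat 0, Int.ofNat 0, Int.ofNat 0, Int.ofNat 0, Int.ofNat 0, Int.negSucc 1, Int.ofNat 0, Int.ofNat 0, Int.negSucc 1, Int.ofNat 0, Int.ofNat 0, Int.ofNat 2, Int.ofNat 0, Int.negSucc 1, Int.ofNat 2, Int.ofNat 0, Int.ofNat 0, Int.ofNat 0, Int.ofNat 0, Int.ofNat 2, Int.ofNat 0, Int.negSucc 1, Int.ofNat 0],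
  [Int.negSucc 0, Int.ofNat 1, Int.ofNat 1, Int.ofNat 1, Int.ofNat 1, Int.ofNat 1, Int.negSucc 0, Int.ofNat 1, Int.negSucc 0, Int.negSucc 2, Int.negSucc 0, Int.negSucc 0, Int.ofNat 1, Int.ofNat 1, Int.negSucc 0, Int.ofNat 1, Int.ofNat 1, Int.ofNat 1, Int.negSucc 0, Int.ofNat 1, Int.ofNat 1, Int.ofNat 1, Int.negSucc 0, Int.ofNat 1],
  [Int.negSucc 0, Int.negSucc 0, Int.ofNat 1, Int.ofNat 1, Int.negSucc 0, Int.ofNat 1, Int.ofNat 1, Int.negSucc 0, Int.ofNat 1, Int.ofNat 1, Int.ofNat 1, Int.ofNat 1, Int.negSucc 2, Int.ofNat 1, Int.negSucc 0, Int.ofNat 1, Int.negSucc 0, Int.negSucc 0, Int.ofNat 1, Int.negSucc 0, Int.ofNat 1, Int.ofNat 1, Int.ofNat 1, Int.ofNat 1],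
  [Int.ofNat 1, Int.ofNat 1, Int.negSucc 0, Int.ofNat 1, Int.negSucc 0, Int.ofNat 1, Int.ofNat 1, Int.negSucc 0, Int.ofNat 1, Int.negSucc 0, Int.negSucc 0, Int.ofNat 1, Int.negSucc 2, Int.ofNat 1, Int.negSucc 0, Int.negSucc 0, Int.negSucc 0, Int.negSucc 0, Int.ofNat 1, Int.negSucc 0, Int.negSucc 0, Int.ofNat 1, Int.ofNat 1, Int.negSucc 0],
  [Int.ofNat 1, Int.ofNat 1, Int.ofNat 1, Int.ofNat 1, Int.negSucc 0, Int.negSucc 0, Int.negSucc 0, Int.negSucc 0, Int.ofNat 1, Int.ofNat 1, Int.ofNat 1, Int.ofNat 1, Int.negSucc 2, Int.ofNat 1, Int.negSucc 0, Int.ofNat 1, Int.negSucc 0, Int.negSucc 0, Int.negSucc 0, Int.negSucc 0, Int.negSucc 0, Int.ofNat 1, Int.negSucc 0, Int.negSucc 0],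
  [Int.negSucc 0, Int.negSucc 0, Int.negSucc 0, Int.negSucc 0, Int.ofNat 1, Int.ofNat 1, Int.negSucc 0, Int.negSucc 0, Int.ofNat 1, Int.ofNat 1, Int.negSucc 2, Int.ofNat 1, Int.negSucc 0, Int.negSucc 0, Int.ofNat 1, Int.ofNat 1, Int.ofNat 1, Int.negSucc 0, Int.negSucc 0, Int.ofNat 1, Int.ofNat 1, Int.ofNat 1, Int.negSucc 0, Int.negSucc 0],
  [Int.negSucc 0, Int.negSucc 0, Int.ofNat 1, Int.negSucc 0, Int.ofNat 1, Int.negSucc 0, Int.ofNat 1, Int.negSucc 0, Int.ofNat 1, Int.negSucc 0, Int.ofNat 3, Int.ofNat 1, Int.negSucc 0, Int.negSucc 0, Int.ofNat 1, Int.negSucc 0, Int.ofNat 1, Int.negSucc 0, Int.ofNat 1, Int.ofNat 1, Int.ofNat 1, Int.ofNat 1, Int.ofNat 1, Int.negSucc 0],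
  [Int.ofNat 0, Int.ofNat 0, Int.negSucc 1, Int.ofNat 0, Int.ofNat 0, Int.ofNat 0, Int.ofNat 0, Int.negSucc 1, Int.ofNat 0, Int.negSucc 1, Int.ofNat 2, Int.ofNat 0, Int.negSucc 1, Int.negSucc 1, Int.ofNat 2, Int.negSucc 1, Int.ofNat 0, Int.ofNat 0, Int.ofNat 0, Int.ofNat 0, Int.ofNat 0, Int.ofNat 0, Int.ofNat 0, Int.ofNat 0],
  [Int.ofNat 0, Int.ofNat 0, Int.ofNat 0, Int.ofNat 0, Int.negSucc 1, Int.ofNat 0, Int.ofNat 0, Int.ofNat 0, Int.ofNat 0, Int.negSucc 1, Int.negSucc 1, Int.ofNat 0, Int.ofNat 0, Int.negSucc 1, Int.ofNat 0, Int.negSucc 1, Int.negSucc 1, Int.ofNat 0, Int.ofNat 0, Int.ofNat 0, Int.ofNat 2, Int.ofNat 0, Int.ofNat 2, Int.ofNat 0],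
  [Int.ofNat 0, Int.ofNat 0, Int.ofNat 0, Int.ofNat 0, Int.ofNat 0, Int.ofNat 0, Int.ofNat 0, Int.ofNat 0, Int.ofNat 0, Int.ofNat 0, Int.ofNat 0, Int.ofNat 0, Int.ofNat 0, Int.ofNat 0, Int.ofNat 0, Int.ofNat 0, Int.ofNat 0, Int.ofNat 0, Int.ofNat 0, Int.ofNat 0, Int.ofNat 4, Int.ofNat 0, Int.ofNat 4, Int.ofNat 0],
  [Int.ofNat 4, Int.ofNat 0, Int.ofNat 4, Int.ofNat 0, Int.ofNat 0, Int.ofNat 0, Int.ofNat 0, Int.ofNat 0, Int.ofNat 0, Int.ofNat 0, Int.ofNat 0, Int.ofNat 0, Int.ofNat 0, Int.ofNat 0, Int.ofNat 0, Int.ofNat 0, Int.ofNat 0, Int.ofNat 0, Int.ofNat 0, Int.ofNat 0, Int.ofNat 0, Int.ofNat 0, Int.ofNat 0, Int.ofNat 0],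
  [Int.ofNat 0, Int.ofNat 4, Int.ofNat 0, Int.ofNat 0, Int.ofNat 0, Int.ofNat 0, Int.ofNat 0, Int.ofNat 0, Int.ofNat 0, Int.ofNat 0, Int.ofNat 0, Int.ofNat 0, Int.ofNat 0, Int.ofNat 0, Int.ofNat 0, Int.ofNat 0, Int.ofNat 0, Int.ofNat 0, Int.ofNat 0, Int.ofNat 0, Int.ofNat 0, Int.ofNat 0, Int.ofNat 0, Int.ofNat 4],
  [Int.ofNat 4, Int.ofNat 0, Int.ofNat 0, Int.ofNat 0, Int.ofNat 0, Int.ofNat 0, Int.ofNat 0, Int.ofNat 0, Int.ofNat 0, Int.ofNat 0, Int.ofNat 0, Int.ofNat 0, Int.ofNat 0, Int.ofNat 0, Int.ofNat 0, Int.ofNat 0, Int.ofNat 0, Int.ofNat 0, Int.ofNat 0, Int.ofNat 0, Int.ofNat 0, Int.ofNat 0, Int.ofNat 0, Int.ofNat 4],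
  [Int.negSucc 3, Int.ofNat 0, Int.ofNat 0, Int.ofNat 0, Int.ofNat 0, Int.ofNat 0, Int.ofNat 0, Int.ofNat 0, Int.ofNat 0, Int.ofNat 0, Int.ofNat 0, Int.ofNat 0, Int.ofNat 0, Int.ofNat 0, Int.ofNat 0, Int.ofNat 0, Int.ofNat 0, Int.ofNat 0, Int.ofNat 0, Int.ofNat 0, Int.ofNat 0, Int.ofNat 0, Int.ofNat 0, Int.ofNat 4],
  [Int.ofNat 4, Int.ofNat 0, Int.ofNat 0, Int.ofNat 0, Int.ofNat 0, Int.ofNat 0, Int.ofNat 0, Int.ofNat 0, Int.ofNat 0, Int.ofNat 0, Int.ofNat 0, Int.ofNat 0, Int.ofNat 0, Int.ofNat 0, Int.ofNat 0, Int.ofNat 0, Int.ofNat 0, Int.ofNat 0, Int.ofNat 0, Int.ofNat 0, Int.ofNat 0, Int.ofNat 0, Int.ofNat 0, Int.ofNat 4],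
  [Int.ofNat 4, Int.ofNat 0, Int.ofNat 0, Int.ofNat 0, Int.ofNat 0, Int.ofNat 0, Int.ofNat 0, Int.ofNat 0, Int.ofNat 0, Int.ofNat 0, Int.ofNat 0, Int.ofNat 0, Int.ofNat 0, Int.ofNat 0, Int.ofNat 0, Int.ofNat 0, Int.ofNat 0, Int.ofNat 0, Int.ofNat 0, Int.ofNat 0, Int.ofNat 0, Int.ofNat 0, Int.ofNat 0, Int.ofNat 4],
  [Int.negSucc 3, Int.ofNat 0, Int.ofNat 0, Int.ofNat 0, Int.ofNat 0, Int.ofNat 0, Int.ofNat 0, Int.ofNat 0, Int.ofNat 0, Int.ofNat 0, Int.ofNat 0, Int.ofNat 0, Int.ofNat 0, Int.ofNat 0, Int.ofNat 0, Int.ofNat 0, Int.ofNat 0, Int.ofNat 0, Int.ofNat 0, Int.ofNat 0, Int.ofNat 0, Int.ofNat 0, Int.ofNat 0, Int.ofNat 4],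
  [Int.ofNat 0, Int.negSucc 3, Int.ofNat 0, Int.ofNat 0, Int.ofNat 0, Int.ofNat 0, Int.ofNat 0, Int.ofNat 0, Int.ofNat 0, Int.ofNat 0, Int.ofNat 0, Int.ofNat 0, Int.ofNat 0, Int.ofNat 0, Int.ofNat 0, Int.ofNat 0, Int.ofNat 0, Int.ofNat 0, Int.ofNat 0, Int.ofNat 0, Int.ofNat 0, Int.ofNat 0, Int.ofNat 0, Int.ofNat 4],
  [Int.ofNat 0, Int.ofNat 4, Int.ofNat 0, Int.ofNat 0, Int.ofNat 0, Int.ofNat 0, Int.ofNat 0, Int.ofNat 0, Int.ofNat 0, Int.ofNat 0, Int.ofNat 0, Int.ofNat 0, Int.ofNat 0, Int.ofNat 0, Int.ofNat 0, Int.ofNat 0, Int.ofNat 0, Int.ofNat 0, Int.ofNat 0, Int.ofNat 0, Int.ofNat 0, Int.ofNat 0, Int.ofNat 0, Int.negSucc 3],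
  [Int.ofNat 0, Int.ofNat 0, Int.ofNat 0, Int.ofNat 0, Int.ofNat 0, Int.ofNat 0, Int.ofNat 0, Int.ofNat 0, Int.ofNat 0, Int.ofNat 0, Int.ofNat 0, Int.ofNat 0, Int.ofNat 0, Int.ofNat 0, Int.ofNat 0, Int.ofNat 0, Int.ofNat 0, Int.ofNat 0, Int.ofNat 0, Int.ofNat 0, Int.ofNat 0, Int.ofNat 4, Int.ofNat 0, Int.negSucc 3],
  [Int.negSucc 1, Int.negSucc 1, Int.negSucc 1, Int.ofNat 0, Int.ofNat 0, Int.ofNat 0, Int.negSucc 1, Int.negSucc 1, Int.ofNat 0, Int.ofNat 0, Int.ofNat 0, Int.ofNat 0, Int.ofNat 0, Int.ofNat 0, Int.ofNat 0, Int.ofNat 0, Int.ofNat 0, Int.ofNat 0, Int.ofNat 0, Int.negSucc 1, Int.ofNat 0, Int.ofNat 2, Int.ofNat 0, Int.ofNat 2],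
  [Int.negSucc 1, Int.negSucc 1, Int.ofNat 0, Int.ofNat 0, Int.ofNat 0, Int.negSucc 1, Int.negSucc 1, Int.ofNat 0, Int.ofNat 0, Int.ofNat 0, Int.ofNat 0, Int.ofNat 0, Int.ofNat 0, Int.ofNat 0, Int.ofNat 0, Int.ofNat 0, Int.ofNat 0, Int.ofNat 0, Int.negSucc 1, Int.ofNat 0, Int.ofNat 2, Int.ofNat 0, Int.negSucc 1, Int.ofNat 2],
  [Int.ofNat 1, Int.ofNat 1, Int.negSucc 0, Int.ofNat 1, Int.ofNat 1, Int.negSucc 0, Int.negSucc 0, Int.ofNat 1, Int.ofNat 1, Int.negSucc 0, Int.negSucc 0, Int.ofNat 1, Int.ofNat 1, Int.ofNat 1, Int.ofNat 1, Int.negSucc 0, Int.ofNat 1, Int.ofNat 1, Int.negSucc 0, Int.ofNat 1, Int.ofNat 1, Int.ofNat 1, Int.negSucc 0, Int.negSucc 2],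
  [Int.ofNat 1, Int.ofNat 1, Int.ofNat 1, Int.ofNat 1, Int.ofNat 1, Int.ofNat 1, Int.ofNat 1, Int.ofNat 1, Int.ofNat 1, Int.ofNat 1, Int.ofNat 1, Int.ofNat 1, Int.ofNat 1, Int.ofNat 1, Int.ofNat 1, Int.ofNat 1, Int.ofNat 1, Int.ofNat 1, Int.ofNat 1, Int.ofNat 1, Int.ofNat 1, Int.ofNat 1, Int.ofNat 1, Int.negSucc 2],
  [Int.ofNat 1, Int.ofNat 1, Int.ofNat 1, Int.ofNat 1, Int.ofNat 1, Int.ofNat 1, Int.ofNat 1, Int.ofNat 1, Int.ofNat 1, Int.ofNat 1, Int.ofNat 1, Int.ofNat 1, Int.ofNat 1, Int.ofNat 1, Int.ofNat 1, Int.ofNat 1, Int.ofNat 1, Int.ofNat 1, Int.ofNat 1, Int.ofNat 1, Int.ofNat 1, Int.ofNat 1, Int.ofNat 1, Int.negSucc 2],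
  [Int.negSucc 2, Int.ofNat 1, Int.ofNat 1, Int.ofNat 1, Int.ofNat 1, Int.ofNat 1, Int.ofNat 1, Int.ofNat 1, Int.ofNat 1, Int.ofNat 1, Int.ofNat 1, Int.ofNat 1, Int.ofNat 1, Int.ofNat 1, Int.ofNat 1, Int.ofNat 1, Int.ofNat 1, Int.ofNat 1, Int.ofNat 1, Int.ofNat 1, Int.ofNat 1, Int.ofNat 1, Int.ofNat 1, Int.ofNat 1],
  [Int.ofNat 3, Int.ofNat 1, Int.negSucc 0, Int.ofNat 1, Int.ofNat 1, Int.ofNat 1, Int.ofNat 1, Int.negSucc 0, Int.ofNat 1, Int.negSucc 0, Int.negSucc 0, Int.negSucc 0, Int.ofNat 1, Int.ofNat 1, Int.ofNat 1, Int.ofNat 1, Int.ofNat 1, Int.ofNat 1, Int.negSucc 0, Int.ofNat 1, Int.ofNat 1, Int.negSucc 0, Int.ofNat 1, Int.ofNat 1],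
  [Int.ofNat 1, Int.ofNat 3, Int.ofNat 1, Int.negSucc 0, Int.ofNat 1, Int.ofNat 1, Int.ofNat 1, Int.ofNat 1, Int.negSucc 0, Int.ofNat 1, Int.negSucc 0, Int.negSucc 0, Int.negSucc 0, Int.ofNat 1, Int.ofNat 1, Int.ofNat 1, Int.ofNat 1, Int.ofNat 1, Int.ofNat 1, Int.negSucc 0, Int.ofNat 1, Int.ofNat 1, Int.negSucc 0, Int.ofNat 1],
  [Int.ofNat 2, Int.ofNat 0, Int.ofNat 2, Int.negSucc 1, Int.ofNat 0, Int.ofNat 0, Int.ofNat 0, Int.ofNat 0, Int.ofNat 0, Int.ofNat 0, Int.negSucc 1, Int.ofNat 0, Int.ofNat 0, Int.ofNat 0, Int.ofNat 0, Int.ofNat 0, Int.ofNat 0, Int.ofNat 0, Int.ofNat 2, Int.negSucc 1, Int.ofNat 0, Int.ofNat 0, Int.negSucc 1, Int.ofNat 2],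
  [Int.negSucc 1, Int.ofNat 0, Int.ofNat 0, Int.ofNat 0, Int.ofNat 0, Int.ofNat 0, Int.ofNat 0, Int.negSucc 1, Int.ofNat 0, Int.ofNat 0, Int.ofNat 0, Int.ofNat 0, Int.ofNat 0, Int.ofNat 0, Int.ofNat 0, Int.ofNat 2, Int.negSucc 1, Int.ofNat 0, Int.ofNat 0, Int.negSucc 1, Int.ofNat 2, Int.ofNat 0, Int.ofNat 2, Int.ofNat 2],
  [Int.ofNat 2, Int.ofNat 0, Int.ofNat 0, Int.ofNat 0, Int.ofNat 0, Int.ofNat 0, Int.ofNat 2, Int.ofNat 0, Int.ofNat 0, Int.negSucc 1, Int.negSucc 1, Int.ofNat 0, Int.ofNat 0, Int.ofNat 0, Int.ofNat 0, Int.ofNat 0, Int.negSucc 1, Int.ofNat 0, Int.ofNat 0, Int.ofNat 0, Int.ofNat 0, Int.ofNat 2, Int.ofNat 2, Int.negSucc 1],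
  [Int.ofNat 2, Int.ofNat 2, Int.ofNat 0, Int.ofNat 0, Int.ofNat 0, Int.ofNat 0, Int.ofNat 0, Int.negSucc 1, Int.ofNat 0, Int.ofNat 0, Int.ofNat 0, Int.ofNat 0, Int.negSucc 1, Int.negSucc 1, Int.ofNat 2, Int.ofNat 0, Int.ofNat 0, Int.ofNat 0, Int.ofNat 0, Int.ofNat 0, Int.ofNat 2, Int.ofNat 0, Int.ofNat 0, Int.negSucc 1],
  [Int.negSucc 0, Int.negSucc 0, Int.ofNat 1, Int.negSucc 0, Int.ofNat 1, Int.negSucc 0, Int.ofNat 1, Int.negSucc 0, Int.ofNat 1, Int.negSucc 0, Int.negSucc 0, Int.ofNat 1, Int.negSucc 0, Int.negSucc 0, Int.ofNat 1, Int.negSucc 0, Int.ofNat 1, Int.negSucc 0, Int.ofNat 1, Int.ofNat 1, Int.ofNat 1, Int.ofNat 1, Int.ofNat 1, Int.ofNat 3],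
  [Int.negSucc 0, Int.negSucc 0, Int.negSucc 0, Int.negSucc 0, Int.ofNat 1, Int.ofNat 1, Int.negSucc 0, Int.negSucc 0, Int.ofNat 1, Int.ofNat 1, Int.ofNat 1, Int.ofNat 1, Int.negSucc 0, Int.negSucc 0, Int.ofNat 1, Int.ofNat 1, Int.ofNat 1, Int.negSucc 0, Int.negSucc 0, Int.ofNat 1, Int.ofNat 1, Int.ofNat 1, Int.negSucc 0, Int.ofNat 3],
  [Int.negSucc 0, Int.negSucc 0, Int.ofNat 1, Int.ofNat 1, Int.negSucc 0, Int.ofNat 1, Int.negSucc 0, Int.negSucc 0, Int.negSucc 0, Int.ofNat 1, Int.negSucc 0, Int.negSucc 0, Int.negSucc 0, Int.ofNat 1, Int.negSucc 0, Int.ofNat 1, Int.ofNat 1, Int.ofNat 1, Int.ofNat 1, Int.negSucc 0, Int.ofNat 1, Int.ofNat 1, Int.ofNat 1, Int.ofNat 3],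
  [Int.negSucc 0, Int.negSucc 0, Int.negSucc 0, Int.ofNat 1, Int.negSucc 0, Int.negSucc 0, Int.ofNat 1, Int.negSucc 0, Int.negSucc 0, Int.negSucc 0, Int.ofNat 1, Int.negSucc 0, Int.negSucc 0, Int.ofNat 1, Int.negSucc 0, Int.negSucc 0, Int.ofNat 1, Int.ofNat 1, Int.negSucc 0, Int.negSucc 0, Int.ofNat 1, Int.ofNat 1, Int.negSucc 0, Int.ofNat 3],
  [Int.ofNat 1, Int.ofNat 1, Int.ofNat 1, Int.ofNat 1, Int.negSucc 0, Int.negSucc 0, Int.ofNat 1, Int.negSucc 0, Int.ofNat 1, Int.negSucc 0, Int.ofNat 1, Int.ofNat 1, Int.ofNat 1, Int.ofNat 1, Int.negSucc 0, Int.negSucc 0, Int.ofNat 1, Int.ofNat 1, Int.ofNat 1, Int.negSucc 0, Int.ofNat 1, Int.ofNat 1, Int.negSucc 0, Int.negSucc 2],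
  [Int.ofNat 1, Int.ofNat 1, Int.ofNat 1, Int.ofNat 1, Int.ofNat 1, Int.ofNat 1, Int.ofNat 1, Int.negSucc 0, Int.ofNat 1, Int.ofNat 1, Int.negSucc 0, Int.negSucc 0, Int.ofNat 1, Int.negSucc 0, Int.ofNat 1, Int.negSucc 0, Int.ofNat 1, Int.ofNat 1, Int.negSucc 0, Int.negSucc 0, Int.ofNat 1, Int.ofNat 1, Int.negSucc 0, Int.negSucc 2],
  [Int.negSucc 0, Int.negSucc 0, Int.negSucc 0, Int.negSucc 0, Int.ofNat 1, Int.negSucc 0, Int.ofNat 1, Int.negSucc 0, Int.ofNat 1, Int.ofNat 1, Int.negSucc 0, Int.negSucc 0, Int.ofNat 1, Int.negSucc 0, Int.negSucc 0, Int.negSucc 0, Int.ofNat 1, Int.negSucc 0, Int.negSucc 0, Int.negSucc 0, Int.ofNat 1, Int.ofNat 1, Int.negSucc 0, Int.ofNat 3],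
  [Int.ofNat 1, Int.ofNat 1, Int.negSucc 0, Int.negSucc 0, Int.negSucc 0, Int.negSucc 0, Int.negSucc 0, Int.ofNat 1, Int.negSucc 0, Int.ofNat 1, Int.negSucc 0, Int.ofNat 1, Int.ofNat 1, Int.negSucc 0, Int.negSucc 0, Int.ofNat 1, Int.negSucc 0, Int.negSucc 0, Int.negSucc 0, Int.ofNat 1, Int.negSucc 0, Int.negSucc 0, Int.negSucc 0, Int.ofNat 3],
  [Int.ofNat 1, Int.ofNat 1, Int.ofNat 3, Int.ofNat 1, Int.ofNat 1, Int.ofNat 1, Int.negSucc 0, Int.ofNat 1, Int.negSucc 0, Int.ofNat 1, Int.negSucc 0, Int.ofNat 1, Int.ofNat 1, Int.ofNat 1, Int.ofNat 1, Int.ofNat 1, Int.ofNat 1, Int.ofNat 1, Int.negSucc 0, Int.ofNat 1, Int.negSucc 0, Int.negSucc 0, Int.ofNat 1, Int.negSucc 0],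
  [Int.ofNat 1, Int.ofNat 3, Int.ofNat 1, Int.ofNat 1, Int.ofNat 1, Int.negSucc 0, Int.ofNat 1, Int.negSucc 0, Int.ofNat 1, Int.negSucc 0, Int.ofNat 1, Int.ofNat 1, Int.ofNat 1, Int.ofNat 1, Int.ofNat 1, Int.ofNat 1, Int.ofNat 1, Int.negSucc 0, Int.ofNat 1, Int.negSucc 0, Int.negSucc 0, Int.ofNat 1, Int.ofNat 1, Int.negSucc 0],
  [Int.negSucc 0, Int.ofNat 3, Int.negSucc 0, Int.ofNat 1, Int.ofNat 1, Int.negSucc 0, Int.ofNat 1, Int.ofNat 1, Int.ofNat 1, Int.ofNat 1, Int.negSucc 0, Int.negSucc 0, Int.ofNat 1, Int.ofNat 1, Int.ofNat 1, Int.ofNat 1, Int.ofNat 1, Int.negSucc 0, Int.negSucc 0, Int.negSucc 0, Int.negSucc 0, Int.negSucc 0, Int.ofNat 1, Int.negSucc 0],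
  [Int.ofNat 1, Int.negSucc 2, Int.ofNat 1, Int.negSucc 0, Int.negSucc 0, Int.negSucc 0, Int.negSucc 0, Int.ofNat 1, Int.negSucc 0, Int.negSucc 0, Int.negSucc 0, Int.negSucc 0, Int.negSucc 0, Int.negSucc 0, Int.ofNat 1, Int.ofNat 1, Int.negSucc 0, Int.negSucc 0, Int.ofNat 1, Int.negSucc 0, Int.negSucc 0, Int.negSucc 0, Int.ofNat 1, Int.negSucc 0],
  [Int.ofNat 1, Int.ofNat 1, Int.ofNat 1, Int.negSucc 0, Int.negSucc 2, Int.negSucc 0, Int.negSucc 0, Int.negSucc 0, Int.negSucc 0, Int.negSucc 0, Int.negSucc 0, Int.ofNat 1, Int.negSucc 0, Int.negSucc 0, Int.negSucc 0, Int.ofNat 1, Int.negSucc 0, Int.ofNat 1, Int.negSucc 0, Int.negSucc 0, Int.negSucc 0, Int.ofNat 1, Int.negSucc 0, Int.negSucc 0],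
  [Int.negSucc 0, Int.ofNat 1, Int.negSucc 0, Int.negSucc 0, Int.negSucc 2, Int.negSucc 0, Int.negSucc 0, Int.ofNat 1, Int.negSucc 0, Int.ofNat 1, Int.ofNat 1, Int.negSucc 0, Int.negSucc 0, Int.negSucc 0, Int.negSucc 0, Int.ofNat 1, Int.negSucc 0, Int.ofNat 1, Int.ofNat 1, Int.negSucc 0, Int.negSucc 0, Int.negSucc 0, Int.negSucc 0, Int.negSucc 0],
  [Int.negSucc 0, Int.negSucc 0, Int.ofNat 1, Int.negSucc 0, Int.negSucc 0, Int.negSucc 2, Int.negSucc 0, Int.negSucc 0, Int.ofNat 1, Int.negSucc 0, Int.ofNat 1, Int.ofNat 1, Int.negSucc 0, Int.negSucc 0, Int.negSucc 0, Int.negSucc 0, Int.ofNat 1, Int.negSucc 0, Int.ofNat 1, Int.ofNat 1, Int.negSucc 0, Int.negSucc 0, Int.negSucc 0, Int.negSucc 0],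
  [Int.ofNat 0, Int.ofNat 0, Int.negSucc 1, Int.ofNat 2, Int.ofNat 0, Int.ofNat 0, Int.ofNat 0, Int.ofNat 0, Int.ofNat 0, Int.ofNat 0, Int.ofNat 2, Int.ofNat 0, Int.negSucc 1, Int.ofNat 0, Int.ofNat 2, Int.ofNat 0, Int.ofNat 2, Int.ofNat 2, Int.ofNat 0, Int.ofNat 2, Int.ofNat 0, Int.ofNat 0, Int.ofNat 0, Int.ofNat 0],
  [Int.ofNat 2, Int.ofNat 0, Int.ofNat 0, Int.ofNat 0, Int.ofNat 0, Int.ofNat 0, Int.ofNat 0, Int.ofNat 2, Int.ofNat 0, Int.negSucc 1, Int.ofNat 0, Int.ofNat 2, Int.ofNat 0, Int.ofNat 2, Int.ofNat 2, Int.ofNat 0, Int.ofNat 2, Int.ofNat 0, Int.ofNat 0, Int.ofNat 0, Int.ofNat 0, Int.ofNat 0, Int.negSucc 1, Int.ofNat 0],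
  [Int.negSucc 0, Int.ofNat 1, Int.ofNat 1, Int.negSucc 0, Int.negSucc 0, Int.negSucc 0, Int.negSucc 0, Int.ofNat 1, Int.negSucc 0, Int.negSucc 0, Int.ofNat 1, Int.ofNat 1, Int.negSucc 0, Int.ofNat 1, Int.ofNat 1, Int.ofNat 1, Int.ofNat 1, Int.negSucc 0, Int.negSucc 0, Int.negSucc 0, Int.ofNat 1, Int.negSucc 0, Int.negSucc 2, Int.ofNat 1],
  [Int.negSucc 0, Int.negSucc 0, Int.negSucc 0, Int.negSucc 0, Int.negSucc 0, Int.ofNat 1, Int.ofNat 1, Int.ofNat 1, Int.negSucc 0, Int.ofNat 1, Int.ofNat 1, Int.negSucc 0, Int.negSucc 0, Int.ofNat 1, Int.negSucc 2, Int.ofNat 1, Int.negSucc 0, Int.ofNat 1, Int.ofNat 1, Int.ofNat 1, Int.negSucc 0, Int.negSucc 0, Int.negSucc 0, Int.ofNat 1],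
  [Int.ofNat 0, Int.ofNat 0, Int.ofNat 0, Int.ofNat 0, Int.ofNat 0, Int.ofNat 2, Int.ofNat 0, Int.ofNat 0, Int.ofNat 0, Int.ofNat 0, Int.ofNat 0, Int.ofNat 0, Int.ofNat 0, Int.ofNat 2, Int.negSucc 1, Int.ofNat 0, Int.ofNat 0, Int.ofNat 2, Int.ofNat 2, Int.ofNat 0, Int.negSucc 1, Int.negSucc 1, Int.ofNat 0, Int.negSucc 1],
  [Int.ofNat 0, Int.ofNat 0, Int.ofNat 0, Int.ofNat 0, Int.ofNat 0, Int.negSucc 1, Int.ofNat 0, Int.ofNat 0, Int.ofNat 0, Int.ofNat 0, Int.ofNat 0, Int.ofNat 0, Int.ofNat 0, Int.ofNat 2, Int.negSucc 1, Int.ofNat 0, Int.ofNat 0, Int.ofNat 2, Int.negSucc 1, Int.ofNat 0, Int.negSucc 1, Int.negSucc 1, Int.ofNat 0, Int.negSucc 1],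
  [Int.ofNat 0, Int.ofNat 0, Int.ofNat 0, Int.ofNat 0, Int.negSucc 1, Int.ofNat 0, Int.negSucc 1, Int.ofNat 0, Int.negSucc 1, Int.negSucc 1, Int.ofNat 2, Int.ofNat 0, Int.ofNat 0, Int.ofNat 0, Int.ofNat 2, Int.negSucc 1, Int.ofNat 0, Int.ofNat 0, Int.ofNat 0, Int.ofNat 0, Int.ofNat 0, Int.ofNat 0, Int.ofNat 0, Int.negSucc 1],
  [Int.negSucc 1, Int.ofNat 0, Int.ofNat 0, Int.negSucc 1, Int.ofNat 0, Int.negSucc 1, Int.ofNat 0, Int.ofNat 0, Int.ofNat 0, Int.ofNat 0, Int.ofNat 0, Int.ofNat 0, Int.ofNat 0, Int.ofNat 0, Int.ofNat 0, Int.ofNat 0, Int.ofNat 2, Int.negSucc 1, Int.ofNat 2, Int.negSucc 1, Int.negSucc 1, Int.ofNat 0, Int.ofNat 0, Int.ofNat 0],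
  [Int.ofNat 2, Int.ofNat 0, Int.ofNat 0, Int.negSucc 1, Int.ofNat 0, Int.negSucc 1, Int.ofNat 0, Int.ofNat 0, Int.ofNat 0, Int.ofNat 0, Int.ofNat 0, Int.ofNat 0, Int.ofNat 0, Int.ofNat 0, Int.ofNat 0, Int.ofNat 0, Int.ofNat 2, Int.negSucc 1, Int.negSucc 1, Int.negSucc 1, Int.negSucc 1, Int.ofNat 0, Int.ofNat 0, Int.ofNat 0],
  [Int.ofNat 0, Int.ofNat 2, Int.ofNat 0, Int.ofNat 0, Int.negSucc 1, Int.ofNat 0, Int.negSucc 1, Int.ofNat 0, Int.ofNat 0, Int.ofNat 0, Int.ofNat 0, Int.ofNat 0, Int.ofNat 0, Int.ofNat 0, Int.ofNat 0, Int.ofNat 0, Int.ofNat 0, Int.ofNat 2, Int.negSucc 1, Int.negSucc 1, Int.negSucc 1, Int.negSucc 1, Int.ofNat 0, Int.ofNat 0],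
  [Int.ofNat 1, Int.negSucc 0, Int.ofNat 1, Int.negSucc 0, Int.negSucc 0, Int.negSucc 0, Int.ofNat 1, Int.ofNat 3, Int.ofNat 1, Int.ofNat 1, Int.ofNat 1, Int.ofNat 1, Int.ofNat 1, Int.ofNat 1, Int.negSucc 0, Int.ofNat 1, Int.ofNat 1, Int.ofNat 1, Int.negSucc 0, Int.ofNat 1, Int.negSucc 0, Int.ofNat 1, Int.ofNat 1, Int.ofNat 1],
  [Int.negSucc 0, Int.negSucc 0, Int.negSucc 0, Int.ofNat 1, Int.ofNat 3, Int.ofNat 1, Int.ofNat 1, Int.ofNat 1, Int.ofNat 1, Int.ofNat 1, Int.ofNat 1, Int.negSucc 0, Int.ofNat 1, Int.ofNat 1, Int.ofNat 1, Int.negSucc 0, Int.ofNat 1, Int.negSucc 0, Int.ofNat 1, Int.ofNat 1, Int.ofNat 1, Int.negSucc 0, Int.ofNat 1, Int.ofNat 1],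
  [Int.ofNat 0, Int.ofNat 0, Int.ofNat 0, Int.ofNat 0, Int.ofNat 0, Int.ofNat 0, Int.ofNat 0, Int.ofNat 0, Int.ofNat 0, Int.ofNat 0, Int.ofNat 0, Int.negSucc 1, Int.ofNat 0, Int.negSucc 1, Int.ofNat 0, Int.negSucc 1, Int.negSucc 1, Int.negSucc 1, Int.ofNat 0, Int.ofNat 0, Int.ofNat 0, Int.negSucc 1, Int.negSucc 1, Int.negSucc 1],
  [Int.ofNat 0, Int.ofNat 0, Int.ofNat 0, Int.ofNat 0, Int.ofNat 0, Int.ofNat 0, Int.ofNat 0, Int.ofNat 0, Int.ofNat 0, Int.negSucc 1, Int.ofNat 0, Int.negSucc 1, Int.ofNat 0, Int.negSucc 1, Int.negSucc 1, Int.negSucc 1, Int.ofNat 0, Int.ofNat 0, Int.ofNat 0, Int.negSucc 1, Int.negSucc 1, Int.ofNat 0, Int.ofNat 0, Int.negSucc 1],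
  [Int.negSucc 0, Int.negSucc 0, Int.negSucc 0, Int.ofNat 1, Int.ofNat 1, Int.ofNat 1, Int.ofNat 1, Int.ofNat 1, Int.ofNat 1, Int.ofNat 1, Int.ofNat 3, Int.negSucc 0, Int.ofNat 1, Int.negSucc 0, Int.negSucc 0, Int.ofNat 1, Int.ofNat 1, Int.ofNat 1, Int.ofNat 1, Int.negSucc 0, Int.ofNat 1, Int.ofNat 1, Int.ofNat 1, Int.ofNat 1],
  [Int.negSucc 0, Int.negSucc 0, Int.ofNat 1, Int.ofNat 1, Int.ofNat 1, Int.negSucc 0, Int.negSucc 0, Int.ofNat 1, Int.ofNat 1, Int.negSucc 0, Int.negSucc 2, Int.negSucc 0, Int.ofNat 1, Int.negSucc 0, Int.negSucc 0, Int.negSucc 0, Int.ofNat 1, Int.ofNat 1, Int.negSucc 0, Int.negSucc 0, Int.ofNat 1, Int.ofNat 1, Int.negSucc 0, Int.ofNat 1],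
  [Int.ofNat 1, Int.negSucc 0, Int.ofNat 1, Int.ofNat 1, Int.ofNat 1, Int.negSucc 0, Int.negSucc 0, Int.negSucc 0, Int.negSucc 0, Int.negSucc 0, Int.ofNat 1, Int.ofNat 1, Int.ofNat 1, Int.negSucc 0, Int.negSucc 0, Int.ofNat 1, Int.negSucc 0, Int.negSucc 0, Int.ofNat 1, Int.negSucc 0, Int.ofNat 1, Int.negSucc 2, Int.negSucc 0, Int.ofNat 1],
  [Int.ofNat 1, Int.negSucc 0, Int.negSucc 0, Int.ofNat 1, Int.ofNat 1, Int.ofNat 1, Int.ofNat 1, Int.negSucc 0, Int.negSucc 0, Int.ofNat 1, Int.negSucc 0, Int.ofNat 1, Int.ofNat 1, Int.negSucc 0, Int.negSucc 0, Int.negSucc 0, Int.negSucc 0, Int.negSucc 0, Int.negSucc 0, Int.negSucc 0, Int.ofNat 1, Int.negSucc 2, Int.ofNat 1, Int.ofNat 1],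
  [Int.negSucc 0, Int.ofNat 1, Int.ofNat 1, Int.ofNat 1, Int.ofNat 1, Int.ofNat 1, Int.ofNat 3, Int.ofNat 1, Int.negSucc 0, Int.ofNat 1, Int.negSucc 0, Int.ofNat 1, Int.ofNat 1, Int.negSucc 0, Int.negSucc 0, Int.negSucc 0, Int.negSucc 0, Int.negSucc 0, Int.negSucc 0, Int.ofNat 1, Int.ofNat 1, Int.negSucc 0, Int.ofNat 1, Int.negSucc 0],
  [Int.negSucc 0, Int.negSucc 0, Int.ofNat 3, Int.ofNat 1, Int.ofNat 1, Int.negSucc 0, Int.ofNat 1, Int.ofNat 1, Int.negSucc 0, Int.ofNat 1, Int.ofNat 1, Int.ofNat 1, Int.negSucc 0, Int.ofNat 1, Int.negSucc 0, Int.negSucc 0, Int.negSucc 0, Int.ofNat 1, Int.ofNat 1, Int.ofNat 1, Int.negSucc 0, Int.ofNat 1, Int.negSucc 0, Int.negSucc 0],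
  [Int.ofNat 1, Int.ofNat 1, Int.negSucc 2, Int.ofNat 1, Int.ofNat 1, Int.negSucc 0, Int.negSucc 0, Int.negSucc 0, Int.negSucc 0, Int.ofNat 1, Int.ofNat 1, Int.ofNat 1, Int.negSucc 0, Int.ofNat 1, Int.negSucc 0, Int.negSucc 0, Int.negSucc 0, Int.ofNat 1, Int.ofNat 1, Int.negSucc 0, Int.negSucc 0, Int.negSucc 0, Int.negSucc 0, Int.ofNat 1],
  [Int.negSucc 0, Int.negSucc 0, Int.negSucc 0, Int.ofNat 1, Int.ofNat 1, Int.negSucc 2, Int.ofNat 1, Int.ofNat 1, Int.negSucc 0, Int.negSucc 0, Int.negSucc 0, Int.negSucc 0, Int.ofNat 1, Int.ofNat 1, Int.ofNat 1, Int.negSucc 0, Int.ofNat 1, Int.negSucc 0, Int.negSucc 0, Int.negSucc 0, Int.ofNat 1, Int.ofNat 1, Int.negSucc 0, Int.ofNat 1],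
  [Int.ofNat 0, Int.ofNat 0, Int.ofNat 0, Int.ofNat 2, Int.ofNat 0, Int.negSucc 1, Int.ofNat 0, Int.ofNat 0, Int.ofNat 0, Int.ofNat 0, Int.ofNat 0, Int.ofNat 0, Int.ofNat 2, Int.ofNat 0, Int.ofNat 2, Int.ofNat 0, Int.ofNat 0, Int.ofNat 0, Int.ofNat 0, Int.negSucc 1, Int.ofNat 2, Int.ofNat 0, Int.negSucc 1, Int.negSucc 1],
  [Int.ofNat 0, Int.ofNat 0, Int.ofNat 2, Int.ofNat 0, Int.negSucc 1, Int.ofNat 0, Int.ofNat 0, Int.ofNat 0, Int.ofNat 0, Int.ofNat 0, Int.ofNat 0, Int.ofNat 2, Int.ofNat 0, Int.ofNat 2, Int.ofNat 0, Int.ofNat 0, Int.ofNat 0, Int.ofNat 0, Int.negSucc 1, Int.ofNat 2, Int.ofNat 0, Int.negSucc 1, Int.ofNat 0, Int.negSucc 1],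
  [Int.ofNat 0, Int.ofNat 0, Int.negSucc 1, Int.ofNat 0, Int.negSucc 1, Int.ofNat 0, Int.ofNat 0, Int.ofNat 0, Int.ofNat 0, Int.ofNat 0, Int.ofNat 0, Int.negSucc 1, Int.ofNat 0, Int.ofNat 2, Int.ofNat 0, Int.ofNat 0, Int.ofNat 0, Int.ofNat 0, Int.ofNat 2, Int.ofNat 2, Int.ofNat 0, Int.ofNat 2, Int.ofNat 0, Int.negSucc 1],
  [Int.ofNat 0, Int.ofNat 0, Int.ofNat 2, Int.ofNat 0, Int.ofNat 2, Int.ofNat 0, Int.ofNat 0, Int.ofNat 0, Int.ofNat 0, Int.ofNat 0, Int.ofNat 0, Int.negSucc 1, Int.ofNat 0, Int.negSucc 1, Int.ofNat 0, Int.ofNat 0, Int.ofNat 0, Int.ofNat 0, Int.negSucc 1, Int.ofNat 2, Int.ofNat 0, Int.ofNat 2, Int.ofNat 0, Int.negSucc 1],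
  [Int.ofNat 0, Int.ofNat 2, Int.negSucc 1, Int.ofNat 0, Int.ofNat 0, Int.ofNat 0, Int.ofNat 2, Int.ofNat 0, Int.ofNat 0, Int.ofNat 0, Int.ofNat 2, Int.ofNat 0, Int.negSucc 1, Int.ofNat 0, Int.ofNat 2, Int.ofNat 0, Int.ofNat 0, Int.ofNat 0, Int.ofNat 0, Int.ofNat 0, Int.ofNat 0, Int.ofNat 0, Int.negSucc 1, Int.negSucc 1],
  [Int.ofNat 0, Int.ofNat 2, Int.ofNat 2, Int.ofNat 0, Int.ofNat 0, Int.ofNat 0, Int.ofNat 2, Int.ofNat 0, Int.ofNat 0, Int.ofNat 0, Int.negSucc 1, Int.ofNat 0, Int.negSucc 1, Int.ofNat 0, Int.ofNat 2, Int.ofNat 0, Int.ofNat 0, Int.ofNat 0, Int.ofNat 0, Int.ofNat 0, Int.ofNat 0, Int.ofNat 0, Int.negSucc 1, Int.negSucc 1],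
  [Int.negSucc 1, Int.ofNat 0, Int.ofNat 2, Int.ofNat 2, Int.ofNat 0, Int.ofNat 0, Int.ofNat 0, Int.ofNat 2, Int.ofNat 0, Int.ofNat 0, Int.ofNat 0, Int.negSucc 1, Int.ofNat 0, Int.negSucc 1, Int.ofNat 0, Int.ofNat 2, Int.ofNat 0, Int.ofNat 0, Int.ofNat 0, Int.ofNat 0, Int.ofNat 0, Int.ofNat 0, Int.ofNat 0, Int.negSucc 1],
  [Int.ofNat 1, Int.negSucc 0, Int.negSucc 2, Int.ofNat 1, Int.ofNat 1, Int.negSucc 0, Int.negSucc 0, Int.ofNat 1, Int.ofNat 1, Int.negSucc 0, Int.negSucc 0, Int.negSucc 0, Int.ofNat 1, Int.negSucc 0, Int.negSucc 0, Int.ofNat 1, Int.ofNat 1, Int.negSucc 0, Int.ofNat 1, Int.negSucc 0, Int.negSucc 0, Int.negSucc 0, Int.ofNat 1, Int.ofNat 1],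
  [Int.ofNat 1, Int.ofNat 1, Int.negSucc 0, Int.negSucc 0, Int.ofNat 1, Int.ofNat 1, Int.negSucc 0, Int.negSucc 0, Int.negSucc 0, Int.ofNat 1, Int.negSucc 0, Int.negSucc 0, Int.ofNat 1, Int.ofNat 1, Int.negSucc 0, Int.ofNat 1, Int.negSucc 0, Int.negSucc 0, Int.negSucc 0, Int.ofNat 1, Int.ofNat 1, Int.negSucc 0, Int.negSucc 2, Int.ofNat 1],
  [Int.ofNat 0, Int.ofNat 0, Int.ofNat 2, Int.ofNat 0, Int.ofNat 2, Int.ofNat 2, Int.ofNat 0, Int.ofNat 0, Int.ofNat 0, Int.ofNat 0, Int.negSucc 1, Int.ofNat 0, Int.ofNat 2, Int.ofNat 2, Int.ofNat 0, Int.ofNat 0, Int.ofNat 0, Int.ofNat 0, Int.ofNat 0, Int.ofNat 2, Int.ofNat 0, Int.ofNat 0, Int.negSucc 1, Int.ofNat 0],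
  [Int.ofNat 0, Int.ofNat 0, Int.ofNat 2, Int.ofNat 0, Int.ofNat 0, Int.ofNat 0, Int.ofNat 2, Int.negSucc 1, Int.ofNat 2, Int.ofNat 2, Int.ofNat 0, Int.ofNat 0, Int.ofNat 0, Int.ofNat 0, Int.negSucc 1, Int.ofNat 0, Int.ofNat 0, Int.ofNat 0, Int.ofNat 0, Int.ofNat 0, Int.ofNat 0, Int.ofNat 2, Int.ofNat 2, Int.ofNat 0],
  [Int.ofNat 1, Int.ofNat 1, Int.negSucc 0, Int.ofNat 1, Int.negSucc 0, Int.ofNat 1, Int.ofNat 1, Int.negSucc 2, Int.ofNat 1, Int.ofNat 1, Int.negSucc 0, Int.negSucc 0, Int.negSucc 0, Int.negSucc 0, Int.negSucc 0, Int.negSucc 0, Int.negSucc 0, Int.ofNat 1, Int.negSucc 0, Int.negSucc 0, Int.negSucc 0, Int.ofNat 1, Int.ofNat 1, Int.ofNat 1],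
  [Int.ofNat 1, Int.ofNat 1, Int.ofNat 1, Int.ofNat 1, Int.negSucc 0, Int.negSucc 0, Int.negSucc 0, Int.negSucc 2, Int.ofNat 1, Int.negSucc 0, Int.ofNat 1, Int.negSucc 0, Int.negSucc 0, Int.negSucc 0, Int.negSucc 0, Int.ofNat 1, Int.negSucc 0, Int.ofNat 1, Int.ofNat 1, Int.negSucc 0, Int.negSucc 0, Int.ofNat 1, Int.negSucc 0, Int.ofNat 1],
  [Int.ofNat 1, Int.negSucc 0, Int.negSucc 0, Int.ofNat 1, Int.negSucc 0, Int.negSucc 0, Int.ofNat 1, Int.ofNat 1, Int.negSucc 0, Int.negSucc 0, Int.negSucc 0, Int.negSucc 2, Int.ofNat 1, Int.negSucc 0, Int.ofNat 1, Int.ofNat 1, Int.negSucc 0, Int.negSucc 0, Int.negSucc 0, Int.ofNat 1, Int.ofNat 1, Int.ofNat 1, Int.negSucc 0, Int.ofNat 1],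
  [Int.ofNat 1, Int.negSucc 0, Int.negSucc 2, Int.ofNat 1, Int.negSucc 0, Int.negSucc 0, Int.ofNat 1, Int.negSucc 0, Int.ofNat 1, Int.negSucc 0, Int.negSucc 0, Int.negSucc 0, Int.ofNat 1, Int.ofNat 1, Int.negSucc 0, Int.ofNat 1, Int.negSucc 0, Int.negSucc 0, Int.ofNat 1, Int.ofNat 1, Int.negSucc 0, Int.ofNat 1, Int.negSucc 0, Int.ofNat 1],
  [Int.negSucc 0, Int.negSucc 0, Int.ofNat 3, Int.ofNat 1, Int.negSucc 0, Int.negSucc 0, Int.ofNat 1, Int.ofNat 1, Int.ofNat 1, Int.ofNat 1, Int.ofNat 1, Int.ofNat 1, Int.ofNat 1, Int.ofNat 1, Int.negSucc 0, Int.ofNat 1, Int.negSucc 0, Int.negSucc 0, Int.negSucc 0, Int.ofNat 1, Int.negSucc 0, Int.negSucc 0, Int.negSucc 0, Int.ofNat 1],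
  [Int.negSucc 0, Int.negSucc 0, Int.negSucc 0, Int.ofNat 3, Int.ofNat 1, Int.negSucc 0, Int.negSucc 0, Int.ofNat 1, Int.ofNat 1, Int.ofNat 1, Int.ofNat 1, Int.ofNat 1, Int.ofNat 1, Int.ofNat 1, Int.ofNat 1, Int.negSucc 0, Int.ofNat 1, Int.negSucc 0, Int.negSucc 0, Int.negSucc 0, Int.ofNat 1, Int.negSucc 0, Int.negSucc 0, Int.ofNat 1],
  [Int.ofNat 0, Int.ofNat 0, Int.ofNat 0, Int.ofNat 2, Int.ofNat 0, Int.negSucc 1, Int.ofNat 0, Int.ofNat 2, Int.ofNat 0, Int.ofNat 0, Int.ofNat 0, Int.ofNat 0, Int.ofNat 0, Int.ofNat 0, Int.ofNat 0, Int.negSucc 1, Int.ofNat 0, Int.negSucc 1, Int.negSucc 1, Int.ofNat 0, Int.ofNat 0, Int.ofNat 0, Int.negSucc 1, Int.negSucc 1],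
  [Int.ofNat 2, Int.ofNat 0, Int.negSucc 1, Int.ofNat 0, Int.ofNat 2, Int.ofNat 0, Int.ofNat 0, Int.ofNat 0, Int.ofNat 0, Int.ofNat 0, Int.ofNat 0, Int.ofNat 0, Int.negSucc 1, Int.ofNat 0, Int.negSucc 1, Int.negSucc 1, Int.ofNat 0, Int.ofNat 0, Int.ofNat 0, Int.negSucc 1, Int.ofNat 0, Int.ofNat 0, Int.ofNat 0, Int.negSucc 1],
  [Int.negSucc 2, Int.negSucc 0, Int.ofNat 1, Int.ofNat 1, Int.ofNat 1, Int.ofNat 1, Int.ofNat 1, Int.ofNat 1, Int.ofNat 1, Int.ofNat 1, Int.ofNat 1, Int.ofNat 1, Int.negSucc 0, Int.negSucc 0, Int.negSucc 0, Int.negSucc 0, Int.negSucc 0, Int.ofNat 1, Int.ofNat 1, Int.negSucc 0, Int.ofNat 1, Int.ofNat 1, Int.negSucc 0, Int.ofNat 1],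
  [Int.negSucc 2, Int.ofNat 1, Int.ofNat 1, Int.ofNat 1, Int.ofNat 1, Int.ofNat 1, Int.ofNat 1, Int.ofNat 1, Int.negSucc 0, Int.negSucc 0, Int.ofNat 1, Int.ofNat 1, Int.ofNat 1, Int.negSucc 0, Int.negSucc 0, Int.negSucc 0, Int.ofNat 1, Int.negSucc 0, Int.negSucc 0, Int.ofNat 1, Int.ofNat 1, Int.ofNat 1, Int.negSucc 0, Int.ofNat 1],
  [Int.ofNat 3, Int.negSucc 0, Int.negSucc 0, Int.ofNat 1, Int.ofNat 1, Int.ofNat 1, Int.negSucc 0, Int.negSucc 0, Int.negSucc 0, Int.negSucc 0, Int.ofNat 1, Int.ofNat 1, Int.ofNat 1, Int.negSucc 0, Int.negSucc 0, Int.negSucc 0, Int.ofNat 1, Int.negSucc 0, Int.negSucc 0, Int.negSucc 0, Int.ofNat 1, Int.negSucc 0, Int.negSucc 0, Int.negSucc 0],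
  [Int.ofNat 3, Int.negSucc 0, Int.ofNat 1, Int.ofNat 1, Int.ofNat 1, Int.negSucc 0, Int.ofNat 1, Int.negSucc 0, Int.negSucc 0, Int.ofNat 1, Int.negSucc 0, Int.ofNat 1, Int.ofNat 1, Int.negSucc 0, Int.negSucc 0, Int.ofNat 1, Int.ofNat 1, Int.negSucc 0, Int.ofNat 1, Int.negSucc 0, Int.ofNat 1, Int.negSucc 0, Int.ofNat 1, Int.negSucc 0],
  [Int.negSucc 0, Int.ofNat 1, Int.ofNat 1, Int.ofNat 1, Int.ofNat 1, Int.ofNat 1, Int.ofNat 1, Int.ofNat 1, Int.ofNat 3, Int.ofNat 1, Int.ofNat 1, Int.ofNat 1, Int.negSucc 0, Int.negSucc 0, Int.negSucc 0, Int.negSucc 0, Int.ofNat 1, Int.negSucc 0, Int.ofNat 1, Int.negSucc 0, Int.negSucc 0, Int.negSucc 0, Int.negSucc 0, Int.negSucc 0],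
  [Int.negSucc 0, Int.ofNat 1, Int.negSucc 0, Int.ofNat 1, Int.ofNat 1, Int.negSucc 0, Int.negSucc 0, Int.ofNat 1, Int.ofNat 3, Int.negSucc 0, Int.negSucc 0, Int.ofNat 1, Int.negSucc 0, Int.negSucc 0, Int.negSucc 0, Int.ofNat 1, Int.ofNat 1, Int.negSucc 0, Int.negSucc 0, Int.negSucc 0, Int.negSucc 0, Int.negSucc 0, Int.ofNat 1, Int.negSucc 0],
  [Int.ofNat 0, Int.negSucc 1, Int.ofNat 0, Int.ofNat 2, Int.ofNat 0, Int.ofNat 0, Int.ofNat 0, Int.ofNat 2, Int.ofNat 2, Int.ofNat 0, Int.ofNat 0, Int.ofNat 0, Int.negSucc 1, Int.negSucc 1, Int.ofNat 0, Int.ofNat 2, Int.ofNat 0, Int.ofNat 0, Int.negSucc 1, Int.ofNat 0, Int.ofNat 0, Int.ofNat 0, Int.ofNat 0, Int.ofNat 0],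
  [Int.ofNat 0, Int.negSucc 1, Int.ofNat 0, Int.ofNat 2, Int.ofNat 0, Int.ofNat 0, Int.negSucc 1, Int.ofNat 0, Int.ofNat 0, Int.negSucc 1, Int.ofNat 2, Int.ofNat 0, Int.ofNat 2, Int.ofNat 0, Int.ofNat 0, Int.ofNat 2, Int.negSucc 1, Int.ofNat 0, Int.ofNat 0, Int.ofNat 0, Int.ofNat 0, Int.ofNat 0, Int.ofNat 0, Int.ofNat 0],
  [Int.negSucc 0, Int.ofNat 1, Int.negSucc 0, Int.ofNat 1, Int.ofNat 1, Int.negSucc 0, Int.negSucc 0, Int.ofNat 1, Int.negSucc 0, Int.negSucc 2, Int.ofNat 1, Int.negSucc 0, Int.ofNat 1, Int.ofNat 1, Int.negSucc 0, Int.ofNat 1, Int.negSucc 0, Int.negSucc 0, Int.negSucc 0, Int.ofNat 1, Int.negSucc 0, Int.ofNat 1, Int.ofNat 1, Int.negSucc 0],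
  [Int.negSucc 0, Int.ofNat 1, Int.ofNat 1, Int.negSucc 0, Int.ofNat 1, Int.negSucc 0, Int.ofNat 1, Int.ofNat 1, Int.negSucc 0, Int.negSucc 0, Int.ofNat 1, Int.negSucc 0, Int.negSucc 2, Int.ofNat 1, Int.negSucc 0, Int.ofNat 1, Int.ofNat 1, Int.negSucc 0, Int.ofNat 1, Int.negSucc 0, Int.negSucc 0, Int.negSucc 0, Int.ofNat 1, Int.negSucc 0],
  [Int.ofNat 1, Int.negSucc 0, Int.negSucc 0, Int.ofNat 1, Int.negSucc 0, Int.ofNat 1, Int.ofNat 1, Int.ofNat 1, Int.ofNat 1, Int.negSucc 0, Int.ofNat 1, Int.ofNat 1, Int.negSucc 0, Int.negSucc 0, Int.ofNat 1, Int.ofNat 1, Int.negSucc 0, Int.ofNat 1, Int.ofNat 3, Int.negSucc 0, Int.negSucc 0, Int.negSucc 0, Int.negSucc 0, Int.ofNat 1],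
  [Int.negSucc 0, Int.negSucc 0, Int.ofNat 1, Int.negSucc 0, Int.ofNat 1, Int.ofNat 1, Int.ofNat 1, Int.ofNat 1, Int.negSucc 0, Int.ofNat 1, Int.ofNat 1, Int.negSucc 0, Int.negSucc 0, Int.ofNat 1, Int.ofNat 1, Int.negSucc 0, Int.ofNat 1, Int.ofNat 3, Int.negSucc 0, Int.negSucc 0, Int.negSucc 0, Int.negSucc 0, Int.ofNat 1, Int.ofNat 1],
  [Int.ofNat 1, Int.negSucc 0, Int.negSucc 0, Int.negSucc 0, Int.ofNat 1, Int.ofNat 1, Int.ofNat 1, Int.negSucc 0, Int.negSucc 0, Int.negSucc 0, Int.negSucc 0, Int.ofNat 1, Int.negSucc 0, Int.ofNat 1, Int.ofNat 1, Int.negSucc 0, Int.ofNat 1, Int.ofNat 3, Int.ofNat 1, Int.negSucc 0, Int.negSucc 0, Int.ofNat 1, Int.ofNat 1, Int.ofNat 1],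
  [Int.negSucc 0, Int.ofNat 1, Int.ofNat 1, Int.ofNat 1, Int.negSucc 0, Int.ofNat 1, Int.negSucc 0, Int.negSucc 0, Int.ofNat 1, Int.ofNat 1, Int.negSucc 0, Int.ofNat 1, Int.ofNat 1, Int.negSucc 0, Int.ofNat 1, Int.negSucc 0, Int.negSucc 0, Int.ofNat 3, Int.negSucc 0, Int.negSucc 0, Int.negSucc 0, Int.ofNat 1, Int.ofNat 1, Int.ofNat 1],
  [Int.negSucc 0, Int.ofNat 1, Int.negSucc 0, Int.ofNat 1, Int.ofNat 1, Int.negSucc 0, Int.negSucc 0, Int.negSucc 0, Int.ofNat 1, Int.negSucc 0, Int.ofNat 1, Int.ofNat 1, Int.negSucc 0, Int.ofNat 1, Int.negSucc 0, Int.negSucc 0, Int.ofNat 1, Int.ofNat 1, Int.negSucc 0, Int.ofNat 3, Int.ofNat 1, Int.negSucc 0, Int.ofNat 1, Int.ofNat 1],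
  [Int.ofNat 1, Int.ofNat 1, Int.ofNat 1, Int.ofNat 1, Int.ofNat 1, Int.negSucc 0, Int.negSucc 0, Int.ofNat 1, Int.ofNat 1, Int.ofNat 1, Int.negSucc 0, Int.negSucc 0, Int.negSucc 0, Int.ofNat 1, Int.negSucc 0, Int.negSucc 0, Int.ofNat 1, Int.ofNat 1, Int.ofNat 1, Int.ofNat 3, Int.ofNat 1, Int.ofNat 1, Int.ofNat 1, Int.ofNat 1],
  [Int.ofNat 1, Int.ofNat 1, Int.ofNat 1, Int.ofNat 1, Int.ofNat 1, Int.ofNat 1, Int.negSucc 0, Int.negSucc 0, Int.ofNat 1, Int.ofNat 1, Int.ofNat 1, Int.negSucc 0, Int.negSucc 0, Int.negSucc 0, Int.ofNat 1, Int.negSucc 0, Int.negSucc 0, Int.ofNat 1, Int.ofNat 1, Int.ofNat 1, Int.ofNat 3, Int.ofNat 1, Int.ofNat 1, Int.ofNat 1],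
  [Int.ofNat 1, Int.ofNat 1, Int.ofNat 1, Int.negSucc 0, Int.ofNat 1, Int.negSucc 0, Int.negSucc 0, Int.negSucc 0, Int.ofNat 1, Int.negSucc 0, Int.negSucc 0, Int.negSucc 0, Int.negSucc 0, Int.negSucc 0, Int.negSucc 0, Int.negSucc 2, Int.negSucc 0, Int.negSucc 0, Int.ofNat 1, Int.ofNat 1, Int.ofNat 1, Int.ofNat 1, Int.ofNat 1, Int.ofNat 1],
  [Int.negSucc 0, Int.ofNat 1, Int.negSucc 0, Int.negSucc 0, Int.negSucc 0, Int.ofNat 1, Int.negSucc 0, Int.negSucc 0, Int.negSucc 0, Int.negSucc 0, Int.negSucc 0, Int.negSucc 0, Int.negSucc 2, Int.negSucc 0, Int.negSucc 0, Int.ofNat 1, Int.ofNat 1, Int.ofNat 1, Int.ofNat 1, Int.ofNat 1, Int.ofNat 1, Int.ofNat 1, Int.ofNat 1, Int.ofNat 1],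
  [Int.ofNat 1, Int.negSucc 0, Int.ofNat 1, Int.negSucc 0, Int.negSucc 0, Int.ofNat 1, Int.negSucc 0, Int.negSucc 0, Int.ofNat 1, Int.negSucc 0, Int.negSucc 0, Int.ofNat 1, Int.negSucc 0, Int.negSucc 0, Int.negSucc 0, Int.ofNat 1, Int.ofNat 1, Int.ofNat 1, Int.ofNat 3, Int.ofNat 1, Int.ofNat 1, Int.ofNat 1, Int.ofNat 1, Int.negSucc 0],
  [Int.ofNat 1, Int.negSucc 0, Int.negSucc 0, Int.negSucc 0, Int.ofNat 3, Int.negSucc 0, Int.ofNat 1, Int.negSucc 0, Int.negSucc 0, Int.negSucc 0, Int.ofNat 1, Int.ofNat 1, Int.negSucc 0, Int.ofNat 1, Int.ofNat 1, Int.ofNat 1, Int.ofNat 1, Int.negSucc 0, Int.negSucc 0, Int.ofNat 1, Int.ofNat 1, Int.ofNat 1, Int.ofNat 1, Int.negSucc 0],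
  [Int.negSucc 1, Int.ofNat 0, Int.ofNat 0, Int.ofNat 0, Int.ofNat 0, Int.ofNat 0, Int.ofNat 0, Int.negSucc 1, Int.ofNat 0, Int.negSucc 1, Int.ofNat 0, Int.ofNat 2, Int.ofNat 0, Int.negSucc 1, Int.ofNat 2, Int.ofNat 0, Int.negSucc 1, Int.ofNat 0, Int.ofNat 0, Int.ofNat 0, Int.ofNat 0, Int.ofNat 0, Int.negSucc 1, Int.ofNat 0],
  [Int.negSucc 1, Int.ofNat 0, Int.ofNat 0, Int.ofNat 0, Int.ofNat 0, Int.ofNat 0, Int.ofNat 0, Int.negSucc 1, Int.ofNat 0, Int.ofNat 2, Int.ofNat 0, Int.ofNat 2, Int.ofNat 0, Int.negSucc 1, Int.ofNat 2, Int.ofNat 0, Int.negSucc 1, Int.ofNat 0, Int.ofNat 0, Int.ofNat 0, Int.ofNat 0, Int.ofNat 0, Int.ofNat 2, Int.ofNat 0],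
  [Int.ofNat 0, Int.negSucc 1, Int.ofNat 2, Int.ofNat 0, Int.ofNat 2, Int.ofNat 0, Int.ofNat 0, Int.ofNat 0, Int.ofNat 0, Int.ofNat 0, Int.negSucc 1, Int.negSucc 1, Int.ofNat 0, Int.ofNat 0, Int.ofNat 0, Int.ofNat 0, Int.ofNat 0, Int.ofNat 0, Int.ofNat 2, Int.ofNat 0, Int.negSucc 1, Int.ofNat 0, Int.ofNat 2, Int.ofNat 0],
  [Int.ofNat 0, Int.ofNat 2, Int.negSucc 1, Int.ofNat 0, Int.ofNat 0, Int.ofNat 0, Int.ofNat 0, Int.ofNat 0, Int.negSucc 1, Int.ofNat 0, Int.ofNat 0, Int.ofNat 2, Int.ofNat 0, Int.ofNat 0, Int.ofNat 2, Int.ofNat 0, Int.negSucc 1, Int.ofNat 2, Int.ofNat 0, Int.ofNat 0, Int.ofNat 0, Int.ofNat 0, Int.negSucc 1, Int.ofNat 0],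
  [Int.ofNat 0, Int.ofNat 2, Int.ofNat 2, Int.ofNat 0, Int.ofNat 0, Int.ofNat 0, Int.ofNat 0, Int.ofNat 0, Int.negSucc 1, Int.ofNat 0, Int.ofNat 0, Int.negSucc 1, Int.ofNat 0, Int.ofNat 0, Int.ofNat 2, Int.ofNat 0, Int.negSucc 1, Int.ofNat 2, Int.ofNat 0, Int.ofNat 0, Int.ofNat 0, Int.ofNat 0, Int.negSucc 1, Int.ofNat 0],
  [Int.negSucc 1, Int.ofNat 0, Int.ofNat 2, Int.ofNat 2, Int.ofNat 0, Int.ofNat 0, Int.ofNat 0, Int.ofNat 0, Int.ofNat 0, Int.negSucc 1, Int.ofNat 0, Int.ofNat 0, Int.negSucc 1, Int.ofNat 0, Int.ofNat 0, Int.ofNat 2, Int.ofNat 0, Int.negSucc 1, Int.ofNat 2, Int.ofNat 0, Int.ofNat 0, Int.ofNat 0, Int.ofNat 0, Int.ofNat 0],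
  [Int.ofNat 2, Int.ofNat 0, Int.negSucc 1, Int.ofNat 2, Int.ofNat 0, Int.ofNat 0, Int.ofNat 0, Int.ofNat 0, Int.ofNat 0, Int.negSucc 1, Int.ofNat 0, Int.ofNat 0, Int.negSucc 1, Int.ofNat 0, Int.ofNat 0, Int.ofNat 2, Int.ofNat 0, Int.negSucc 1, Int.ofNat 2, Int.ofNat 0, Int.ofNat 0, Int.ofNat 0, Int.ofNat 0, Int.ofNat 0],
  [Int.ofNat 2, Int.ofNat 0, Int.ofNat 0, Int.ofNat 0, Int.ofNat 0, Int.ofNat 0, Int.negSucc 1, Int.ofNat 0, Int.ofNat 0, Int.negSucc 1, Int.ofNat 0, Int.ofNat 0, Int.ofNat 2, Int.ofNat 0, Int.negSucc 1, Int.ofNat 2, Int.ofNat 0, Int.ofNat 0, Int.ofNat 0, Int.ofNat 0, Int.ofNat 2, Int.ofNat 0, Int.negSucc 1, Int.ofNat 0],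
  [Int.negSucc 0, Int.ofNat 1, Int.ofNat 1, Int.ofNat 1, Int.ofNat 1, Int.ofNat 1, Int.negSucc 0, Int.ofNat 1, Int.negSucc 0, Int.negSucc 2, Int.negSucc 0, Int.negSucc 0, Int.ofNat 1, Int.ofNat 1, Int.negSucc 0, Int.ofNat 1, Int.ofNat 1, Int.ofNat 1, Int.negSucc 0, Int.ofNat 1, Int.ofNat 1, Int.ofNat 1, Int.negSucc 0, Int.ofNat 1],
  [Int.negSucc 0, Int.negSucc 0, Int.ofNat 1, Int.ofNat 1, Int.negSucc 0, Int.ofNat 1, Int.ofNat 1, Int.negSucc 0, Int.ofNat 1, Int.ofNat 1, Int.ofNat 1, Int.ofNat 1, Int.negSucc 2, Int.ofNat 1, Int.negSucc 0, Int.ofNat 1, Int.negSucc 0, Int.negSucc 0, Int.ofNat 1, Int.negSucc 0, Int.ofNat 1, Int.ofNat 1, Int.ofNat 1, Int.ofNat 1],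
  [Int.ofNat 1, Int.ofNat 1, Int.negSucc 0, Int.ofNat 1, Int.negSucc 0, Int.ofNat 1, Int.ofNat 1, Int.negSucc 0, Int.ofNat 1, Int.negSucc 0, Int.negSucc 0, Int.ofNat 1, Int.negSucc 2, Int.ofNat 1, Int.negSucc 0, Int.negSucc 0, Int.negSucc 0, Int.negSucc 0, Int.ofNat 1, Int.negSucc 0, Int.negSucc 0, Int.ofNat 1, Int.ofNat 1, Int.negSucc 0],
  [Int.ofNat 1, Int.ofNat 1, Int.ofNat 1, Int.ofNat 1, Int.negSucc 0, Int.negSucc 0, Int.negSucc 0, Int.negSucc 0, Int.ofNat 1, Int.ofNat 1, Int.ofNat 1, Int.ofNat 1, Int.negSucc 2, Int.ofNat 1, Int.negSucc 0, Int.ofNat 1, Int.negSucc 0, Int.negSucc 0, Int.negSucc 0, Int.negSucc 0, Int.negSucc 0, Int.ofNat 1, Int.negSucc 0, Int.negSucc 0],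
  [Int.negSucc 0, Int.negSucc 0, Int.negSucc 0, Int.negSucc 0, Int.ofNat 1, Int.ofNat 1, Int.negSucc 0, Int.negSucc 0, Int.ofNat 1, Int.ofNat 1, Int.negSucc 2, Int.ofNat 1, Int.negSucc 0, Int.negSucc 0, Int.ofNat 1, Int.ofNat 1, Int.ofNat 1, Int.negSucc 0, Int.negSucc 0, Int.ofNat 1, Int.ofNat 1, Int.ofNat 1, Int.negSucc 0, Int.negSucc 0],
  [Int.negSucc 0, Int.negSucc 0, Int.ofNat 1, Int.negSucc 0, Int.ofNat 1, Int.negSucc 0, Int.ofNat 1, Int.negSucc 0, Int.ofNat 1, Int.negSucc 0, Int.ofNat 3, Int.ofNat 1, Int.negSucc 0, Int.negSucc 0, Int.ofNat 1, Int.negSucc 0, Int.ofNat 1, Int.negSucc 0, Int.ofNat 1, Int.ofNat 1, Int.ofNat 1, Int.ofNat 1, Int.ofNat 1, Int.negSucc 0],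
  [Int.ofNat 0, Int.ofNat 0, Int.negSucc 1, Int.ofNat 0, Int.ofNat 0, Int.ofNat 0, Int.ofNat 0, Int.negSucc 1, Int.ofNat 0, Int.negSucc 1, Int.ofNat 2, Int.ofNat 0, Int.negSucc 1, Int.negSucc 1, Int.ofNat 2, Int.negSucc 1, Int.ofNat 0, Int.ofNat 0, Int.ofNat 0, Int.ofNat 0, Int.ofNat 0, Int.ofNat 0, Int.ofNat 0, Int.ofNat 0],
  [Int.ofNat 0, Int.ofNat 0, Int.ofNat 0, Int.ofNat 0, Int.negSucc 1, Int.ofNat 0, Int.ofNat 0, Int.ofNat 0, Int.ofNat 0, Int.negSucc 1, Int.negSucc 1, Int.ofNat 0, Int.ofNat 0, Int.negSucc 1, Int.ofNat 0, Int.negSucc 1, Int.negSucc 1, Int.ofNat 0, Int.ofNat 0, Int.ofNat 0, Int.ofNat 2, Int.ofNat 0, Int.ofNat 2, Int.ofNat 0],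
  [Int.ofNat 0, Int.ofNat 0, Int.ofNat 0, Int.ofNat 0, Int.ofNat 0, Int.ofNat 0, Int.ofNat 0, Int.ofNat 0, Int.ofNat 0, Int.ofNat 0, Int.ofNat 0, Int.ofNat 0, Int.ofNat 0, Int.ofNat 0, Int.ofNat 0, Int.ofNat 0, Int.ofNat 0, Int.ofNat 0, Int.ofNat 0, Int.ofNat 0, Int.ofNat 4, Int.ofNat 0, Int.ofNat 4, Int.ofNat 0],
  [Int.ofNat 4, Int.ofNat 0, Int.ofNat 4, Int.ofNat 0, Int.ofNat 0, Int.ofNat 0, Int.ofNat 0, Int.ofNat 0, Int.ofNat 0, Int.ofNat 0, Int.ofNat 0, Int.ofNat 0, Int.ofNat 0, Int.ofNat 0, Int.ofNat 0, Int.ofNat 0, Int.ofNat 0, Int.ofNat 0, Int.ofNat 0, Int.ofNat 0, Int.ofNat 0, Int.ofNat 0, Int.ofNat 0, Int.ofNat 0],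
  [Int.ofNat 0, Int.ofNat 4, Int.ofNat 0, Int.ofNat 0, Int.ofNat 0, Int.ofNat 0, Int.ofNat 0, Int.ofNat 0, Int.ofNat 0, Int.ofNat 0, Int.ofNat 0, Int.ofNat 0, Int.ofNat 0, Int.ofNat 0, Int.ofNat 0, Int.ofNat 0, Int.ofNat 0, Int.ofNat 0, Int.ofNat 0, Int.ofNat 0, Int.ofNat 0, Int.ofNat 0, Int.ofNat 0, Int.ofNat 4],
  [Int.ofNat 4, Int.ofNat 0, Int.ofNat 0, Int.ofNat 0, Int.ofNat 0, Int.ofNat 0, Int.ofNat 0, Int.ofNat 0, Int.ofNat 0, Int.ofNat 0, Int.ofNat 0, Int.ofNat 0, Int.ofNat 0, Int.ofNat 0, Int.ofNat 0, Int.ofNat 0, Int.ofNat 0, Int.ofNat 0, Int.ofNat 0, Int.ofNat 0, Int.ofNat 0, Int.ofNat 0, Int.ofNat 0, Int.ofNat 4],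
  [Int.negSucc 3, Int.ofNat 0, Int.ofNat 0, Int.ofNat 0, Int.ofNat 0, Int.ofNat 0, Int.ofNat 0, Int.ofNat 0, Int.ofNat 0, Int.ofNat 0, Int.ofNat 0, Int.ofNat 0, Int.ofNat 0, Int.ofNat 0, Int.ofNat 0, Int.ofNat 0, Int.ofNat 0, Int.ofNat 0, Int.ofNat 0, Int.ofNat 0, Int.ofNat 0, Int.ofNat 0, Int.ofNat 0, Int.ofNat 4],
  [Int.ofNat 4, Int.ofNat 0, Int.ofNat 0, Int.ofNat 0, Int.ofNat 0, Int.ofNat 0, Int.ofNat 0, Int.ofNat 0, Int.ofNat 0, Int.ofNat 0, Int.ofNat 0, Int.ofNat 0, Int.ofNat 0, Int.ofNat 0, Int.ofNat 0, Int.ofNat 0, Int.ofNat 0, Int.ofNat 0, Int.ofNat 0, Int.ofNat 0, Int.ofNat 0, Int.ofNat 0, Int.ofNat 0, Int.ofNat 4],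
  [Int.ofNat 4, Int.ofNat 0, Int.ofNat 0, Int.ofNat 0, Int.ofNat 0, Int.ofNat 0, Int.ofNat 0, Int.ofNat 0, Int.ofNat 0, Int.ofNat 0, Int.ofNat 0, Int.ofNat 0, Int.ofNat 0, Int.ofNat 0, Int.ofNat 0, Int.ofNat 0, Int.ofNat 0, Int.ofNat 0, Int.ofNat 0, Int.ofNat 0, Int.ofNat 0, Int.ofNat 0, Int.ofNat 0, Int.ofNat 4],
  [Int.negSucc 3, Int.ofNat 0, Int.ofNat 0, Int.ofNat 0, Int.ofNat 0, Int.ofNat 0, Int.ofNat 0, Int.ofNat 0, Int.ofNat 0, Int.ofNat 0, Int.ofNat 0, Int.ofNat 0, Int.ofNat 0, Int.ofNat 0, Int.ofNat 0, Int.ofNat 0, Int.ofNat 0, Int.ofNat 0, Int.ofNat 0, Int.ofNat 0, Int.ofNat 0, Int.ofNat 0, Int.ofNat 0, Int.ofNat 4],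
  [Int.ofNat 0, Int.negSucc 3, Int.ofNat 0, Int.ofNat 0, Int.ofNat 0, Int.ofNat 0, Int.ofNat 0, Int.ofNat 0, Int.ofNat 0, Int.ofNat 0, Int.ofNat 0, Int.ofNat 0, Int.ofNat 0, Int.ofNat 0, Int.ofNat 0, Int.ofNat 0, Int.ofNat 0, Int.ofNat 0, Int.ofNat 0, Int.ofNat 0, Int.ofNat 0, Int.ofNat 0, Int.ofNat 0, Int.ofNat 4],
  [Int.ofNat 0, Int.ofNat 4, Int.ofNat 0, Int.ofNat 0, Int.ofNat 0, Int.ofNat 0, Int.ofNat 0, Int.ofNat 0, Int.ofNat 0, Int.ofNat 0, Int.ofNat 0, Int.ofNat 0, Int.ofNat 0, Int.ofNat 0, Int.ofNat 0, Int.ofNat 0, Int.ofNat 0, Int.ofNat 0, Int.ofNat 0, Int.ofNat 0, Int.ofNat 0, Int.ofNat 0, Int.ofNat 0, Int.negSucc 3],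
  [Int.ofNat 0, Int.ofNat 0, Int.ofNat 0, Int.ofNat 0, Int.ofNat 0, Int.ofNat 0, Int.ofNat 0, Int.ofNat 0, Int.ofNat 0, Int.ofNat 0, Int.ofNat 0, Int.ofNat 0, Int.ofNat 0, Int.ofNat 0, Int.ofNat 0, Int.ofNat 0, Int.ofNat 0, Int.ofNat 0, Int.ofNat 0, Int.ofNat 0, Int.ofNat 0, Int.ofNat 4, Int.ofNat 0, Int.negSucc 3],
  [Int.negSucc 1, Int.negSucc 1, Int.negSucc 1, Int.ofNat 0, Int.ofNat 0, Int.ofNat 0, Int.negSucc 1, Int.negSucc 1, Int.ofNat 0, Int.ofNat 0, Int.ofNat 0, Int.ofNat 0, Int.ofNat 0, Int.ofNat 0, Int.ofNat 0, Int.ofNat 0, Int.ofNat 0, Int.ofNat 0, Int.ofNat 0, Int.negSucc 1, Int.ofNat 0, Int.ofNat 2, Int.ofNat 0, Int.ofNat 2],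
  [Int.negSucc 1, Int.negSucc 1, Int.ofNat 0, Int.ofNat 0, Int.ofNat 0, Int.negSucc 1, Int.negSucc 1, Int.ofNat 0, Int.ofNat 0, Int.ofNat 0, Int.ofNat 0, Int.ofNat 0, Int.ofNat 0, Int.ofNat 0, Int.ofNat 0, Int.ofNat 0, Int.ofNat 0, Int.ofNat 0, Int.negSucc 1, Int.ofNat 0, Int.ofNat 2, Int.ofNat 0, Int.negSucc 1, Int.ofNat 2],
  [Int.ofNat 1, Int.ofNat 1, Int.negSucc 0, Int.ofNat 1, Int.ofNat 1, Int.negSucc 0, Int.negSucc 0, Int.ofNat 1, Int.ofNat 1, Int.negSucc 0, Int.negSucc 0, Int.ofNat 1, Int.ofNat 1, Int.ofNat 1, Int.ofNat 1, Int.negSucc 0, Int.ofNat 1, Int.ofNat 1, Int.negSucc 0, Int.ofNat 1, Int.ofNat 1, Int.ofNat 1, Int.negSucc 0, Int.negSucc 2],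
  [Int.ofNat 1, Int.ofNat 1, Int.ofNat 1, Int.ofNat 1, Int.ofNat 1, Int.ofNat 1, Int.ofNat 1, Int.ofNat 1, Int.ofNat 1, Int.ofNat 1, Int.ofNat 1, Int.ofNat 1, Int.ofNat 1, Int.ofNat 1, Int.ofNat 1, Int.ofNat 1, Int.ofNat 1, Int.ofNat 1, Int.ofNat 1, Int.ofNat 1, Int.ofNat 1, Int.ofNat 1, Int.ofNat 1, Int.negSucc 2],
  [Int.ofNat 1, Int.ofNat 1, Int.ofNat 1, Int.ofNat 1, Int.ofNat 1, Int.ofNat 1, Int.ofNat 1, Int.ofNat 1, Int.ofNat 1, Int.ofNat 1, Int.ofNat 1, Int.ofNat 1, Int.ofNat 1, Int.ofNat 1, Int.ofNat 1, Int.ofNat 1, Int.ofNat 1, Int.ofNat 1, Int.ofNat 1, Int.ofNat 1, Int.ofNat 1, Int.ofNat 1, Int.ofNat 1, Int.negSucc 2],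
  [Int.negSucc 2, Int.ofNat 1, Int.ofNat 1, Int.ofNat 1, Int.ofNat 1, Int.ofNat 1, Int.ofNat 1, Int.ofNat 1, Int.ofNat 1, Int.ofNat 1, Int.ofNat 1, Int.ofNat 1, Int.ofNat 1, Int.ofNat 1, Int.ofNat 1, Int.ofNat 1, Int.ofNat 1, Int.ofNat 1, Int.ofNat 1, Int.ofNat 1, Int.ofNat 1, Int.ofNat 1, Int.ofNat 1, Int.ofNat 1],
  [Int.ofNat 3, Int.ofNat 1, Int.negSucc 0, Int.ofNat 1, Int.ofNat 1, Int.ofNat 1, Int.ofNat 1, Int.negSucc 0, Int.ofNat 1, Int.negSucc 0, Int.negSucc 0, Int.negSucc 0, Int.ofNat 1, Int.ofNat 1, Int.ofNat 1, Int.ofNat 1, Int.ofNat 1, Int.ofNat 1, Int.negSucc 0, Int.ofNat 1, Int.ofNat 1, Int.negSucc 0, Int.ofNat 1, Int.ofNat 1],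
  [Int.ofNat 1, Int.ofNat 3, Int.ofNat 1, Int.negSucc 0, Int.ofNat 1, Int.ofNat 1, Int.ofNat 1, Int.ofNat 1, Int.negSucc 0, Int.ofNat 1, Int.negSucc 0, Int.negSucc 0, Int.negSucc 0, Int.ofNat 1, Int.ofNat 1, Int.ofNat 1, Int.ofNat 1, Int.ofNat 1, Int.ofNat 1, Int.negSucc 0, Int.ofNat 1, Int.ofNat 1, Int.negSucc 0, Int.ofNat 1],
  [Int.ofNat 2, Int.ofNat 0, Int.ofNat 2, Int.negSucc 1, Int.ofNat 0, Int.ofNat 0, Int.ofNat 0, Int.ofNat 0, Int.ofNat 0, Int.ofNat 0, Int.negSucc 1, Int.ofNat 0, Int.ofNat 0, Int.ofNat 0, Int.ofNat 0, Int.ofNat 0, Int.ofNat 0, Int.ofNat 0, Int.ofNat 2, Int.negSucc 1, Int.ofNat 0, Int.ofNat 0, Int.negSucc 1, Int.ofNat 2],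
  [Int.negSucc 1, Int.ofNat 0, Int.ofNat 0, Int.ofNat 0, Int.ofNat 0, Int.ofNat 0, Int.ofNat 0, Int.negSucc 1, Int.ofNat 0, Int.ofNat 0, Int.ofNat 0, Int.ofNat 0, Int.ofNat 0, Int.ofNat 0, Int.ofNat 0, Int.ofNat 2, Int.negSucc 1, Int.ofNat 0, Int.ofNat 0, Int.negSucc 1, Int.ofNat 2, Int.ofNat 0, Int.ofNat 2, Int.ofNat 2],
  [Int.ofNat 2, Int.ofNat 0, Int.ofNat 0, Int.ofNat 0, Int.ofNat 0, Int.ofNat 0, Int.ofNat 2, Int.ofNat 0, Int.ofNat 0, Int.negSucc 1, Int.negSucc 1, Int.ofNat 0, Int.ofNat 0, Int.ofNat 0, Int.ofNat 0, Int.ofNat 0, Int.negSucc 1, Int.ofNat 0, Int.ofNat 0, Int.ofNat 0, Int.ofNat 0, Int.ofNat 2, Int.ofNat 2, Int.negSucc 1],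
  [Int.ofNat 2, Int.ofNat 2, Int.ofNat 0, Int.ofNat 0, Int.ofNat 0, Int.ofNat 0, Int.ofNat 0, Int.negSucc 1, Int.ofNat 0, Int.ofNat 0, Int.ofNat 0, Int.ofNat 0, Int.negSucc 1, Int.negSucc 1, Int.ofNat 2, Int.ofNat 0, Int.ofNat 0, Int.ofNat 0, Int.ofNat 0, Int.ofNat 0, Int.ofNat 2, Int.ofNat 0, Int.ofNat 0, Int.negSucc 1],
  [Int.negSucc 0, Int.negSucc 0, Int.ofNat 1, Int.negSucc 0, Int.ofNat 1, Int.negSucc 0, Int.ofNat 1, Int.negSucc 0, Int.ofNat 1, Int.negSucc 0, Int.negSucc 0, Int.ofNat 1, Int.negSucc 0, Int.negSucc 0, Int.ofNat 1, Int.negSucc 0, Int.ofNat 1, Int.negSucc 0, Int.ofNat 1, Int.ofNat 1, Int.ofNat 1, Int.ofNat 1, Int.ofNat 1, Int.ofNat 3],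
  [Int.negSucc 0, Int.negSucc 0, Int.negSucc 0, Int.negSucc 0, Int.ofNat 1, Int.ofNat 1, Int.negSucc 0, Int.negSucc 0, Int.ofNat 1, Int.ofNat 1, Int.ofNat 1, Int.ofNat 1, Int.negSucc 0, Int.negSucc 0, Int.ofNat 1, Int.ofNat 1, Int.ofNat 1, Int.negSucc 0, Int.negSucc 0, Int.ofNat 1, Int.ofNat 1, Int.ofNat 1, Int.negSucc 0, Int.ofNat 3],
  [Int.negSucc 0, Int.negSucc 0, Int.ofNat 1, Int.ofNat 1, Int.negSucc 0, Int.ofNat 1, Int.negSucc 0, Int.negSucc 0, Int.negSucc 0, Int.ofNat 1, Int.negSucc 0, Int.negSucc 0, Int.negSucc 0, Int.ofNat 1, Int.negSucc 0, Int.ofNat 1, Int.ofNat 1, Int.ofNat 1, Int.ofNat 1, Int.negSucc 0, Int.ofNat 1, Int.ofNat 1, Int.ofNat 1, Int.ofNat 3],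
  [Int.negSucc 0, Int.negSucc 0, Int.negSucc 0, Int.ofNat 1, Int.negSucc 0, Int.negSucc 0, Int.ofNat 1, Int.negSucc 0, Int.negSucc 0, Int.negSucc 0, Int.ofNat 1, Int.negSucc 0, Int.negSucc 0, Int.ofNat 1, Int.negSucc 0, Int.negSucc 0, Int.ofNat 1, Int.ofNat 1, Int.negSucc 0, Int.negSucc 0, Int.ofNat 1, Int.ofNat 1, Int.negSucc 0, Int.ofNat 3],
  [Int.ofNat 1, Int.ofNat 1, Int.ofNat 1, Int.ofNat 1, Int.negSucc 0, Int.negSucc 0, Int.ofNat 1, Int.negSucc 0, Int.ofNat 1, Int.negSucc 0, Int.ofNat 1, Int.ofNat 1, Int.ofNat 1, Int.ofNat 1, Int.negSucc 0, Int.negSucc 0, Int.ofNat 1, Int.ofNat 1, Int.ofNat 1, Int.negSucc 0, Int.ofNat 1, Int.ofNat 1, Int.negSucc 0, Int.negSucc 2],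
  [Int.ofNat 1, Int.ofNat 1, Int.ofNat 1, Int.ofNat 1, Int.ofNat 1, Int.ofNat 1, Int.ofNat 1, Int.negSucc 0, Int.ofNat 1, Int.ofNat 1, Int.negSucc 0, Int.negSucc 0, Int.ofNat 1, Int.negSucc 0, Int.ofNat 1, Int.negSucc 0, Int.ofNat 1, Int.ofNat 1, Int.negSucc 0, Int.negSucc 0, Int.ofNat 1, Int.ofNat 1, Int.negSucc 0, Int.negSucc 2],
  [Int.negSucc 0, Int.negSucc 0, Int.negSucc 0, Int.negSucc 0, Int.ofNat 1, Int.negSucc 0, Int.ofNat 1, Int.negSucc 0, Int.ofNat 1, Int.ofNat 1, Int.negSucc 0, Int.negSucc 0, Int.ofNat 1, Int.negSucc 0, Int.negSucc 0, Int.negSucc 0, Int.ofNat 1, Int.negSucc 0, Int.negSucc 0, Int.negSucc 0, Int.ofNat 1, Int.ofNat 1, Int.negSucc 0, Int.ofNat 3],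
  [Int.ofNat 1, Int.ofNat 1, Int.negSucc 0, Int.negSucc 0, Int.negSucc 0, Int.negSucc 0, Int.negSucc 0, Int.ofNat 1, Int.negSucc 0, Int.ofNat 1, Int.negSucc 0, Int.ofNat 1, Int.ofNat 1, Int.negSucc 0, Int.negSucc 0, Int.ofNat 1, Int.negSucc 0, Int.negSucc 0, Int.negSucc 0, Int.ofNat 1, Int.negSucc 0, Int.negSucc 0, Int.negSucc 0, Int.ofNat 3],
  [Int.ofNat 1, Int.ofNat 1, Int.ofNat 3, Int.ofNat 1, Int.ofNat 1, Int.ofNat 1, Int.negSucc 0, Int.ofNat 1, Int.negSucc 0, Int.ofNat 1, Int.negSucc 0, Int.ofNat 1, Int.ofNat 1, Int.ofNat 1, Int.ofNat 1, Int.ofNat 1, Int.ofNat 1, Int.ofNat 1, Int.negSucc 0, Int.ofNat 1, Int.negSucc 0, Int.negSucc 0, Int.ofNat 1, Int.negSucc 0],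
  [Int.ofNat 1, Int.ofNat 3, Int.ofNat 1, Int.ofNat 1, Int.ofNat 1, Int.negSucc 0, Int.ofNat 1, Int.negSucc 0, Int.ofNat 1, Int.negSucc 0, Int.ofNat 1, Int.ofNat 1, Int.ofNat 1, Int.ofNat 1, Int.ofNat 1, Int.ofNat 1, Int.ofNat 1, Int.negSucc 0, Int.ofNat 1, Int.negSucc 0, Int.negSucc 0, Int.ofNat 1, Int.ofNat 1, Int.negSucc 0],
  [Int.negSucc 0, Int.ofNat 3, Int.negSucc 0, Int.ofNat 1, Int.ofNat 1, Int.negSucc 0, Int.ofNat 1, Int.ofNat 1, Int.ofNat 1, Int.ofNat 1, Int.negSucc 0, Int.negSucc 0, Int.ofNat 1, Int.ofNat 1, Int.ofNat 1, Int.ofNat 1, Int.ofNat 1, Int.negSucc 0, Int.negSucc 0, Int.negSucc 0, Int.negSucc 0, Int.negSucc 0, Int.ofNat 1, Int.negSucc 0],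
  [Int.ofNat 1, Int.negSucc 2, Int.ofNat 1, Int.negSucc 0, Int.negSucc 0, Int.negSucc 0, Int.negSucc 0, Int.ofNat 1, Int.negSucc 0, Int.negSucc 0, Int.negSucc 0, Int.negSucc 0, Int.negSucc 0, Int.negSucc 0, Int.ofNat 1, Int.ofNat 1, Int.negSucc 0, Int.negSucc 0, Int.ofNat 1, Int.negSucc 0, Int.negSucc 0, Int.negSucc 0, Int.ofNat 1, Int.negSucc 0],
  [Int.ofNat 1, Int.ofNat 1, Int.ofNat 1, Int.negSucc 0, Int.negSucc 2, Int.negSucc 0, Int.negSucc 0, Int.negSucc 0, Int.negSucc 0, Int.negSucc 0, Int.negSucc 0, Int.ofNat 1, Int.negSucc 0, Int.negSucc 0, Int.negSucc 0, Int.ofNat 1, Int.negSucc 0, Int.ofNat 1, Int.negSucc 0, Int.negSucc 0, Int.negSucc 0, Int.ofNat 1, Int.negSucc 0, Int.negSucc 0],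
  [Int.negSucc 0, Int.ofNat 1, Int.negSucc 0, Int.negSucc 0, Int.negSucc 2, Int.negSucc 0, Int.negSucc 0, Int.ofNat 1, Int.negSucc 0, Int.ofNat 1, Int.ofNat 1, Int.negSucc 0, Int.negSucc 0, Int.negSucc 0, Int.negSucc 0, Int.ofNat 1, Int.negSucc 0, Int.ofNat 1, Int.ofNat 1, Int.negSucc 0, Int.negSucc 0, Int.negSucc 0, Int.negSucc 0, Int.negSucc 0],
  [Int.negSucc 0, Int.negSucc 0, Int.ofNat 1, Int.negSucc 0, Int.negSucc 0, Int.negSucc 2, Int.negSucc 0, Int.negSucc 0, Int.ofNat 1, Int.negSucc 0, Int.ofNat 1, Int.ofNat 1, Int.negSucc 0, Int.negSucc 0, Int.negSucc 0, Int.negSucc 0, Int.ofNat 1, Int.negSucc 0, Int.ofNat 1, Int.ofNat 1, Int.negSucc 0, Int.negSucc 0, Int.negSucc 0, Int.negSucc 0],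
  [Int.ofNat 0, Int.ofNat 0, Int.negSucc 1, Int.ofNat 2, Int.ofNat 0, Int.ofNat 0, Int.ofNat 0, Int.ofNat 0, Int.ofNat 0, Int.ofNat 0, Int.ofNat 2, Int.ofNat 0, Int.negSucc 1, Int.ofNat 0, Int.ofNat 2, Int.ofNat 0, Int.ofNat 2, Int.ofNat 2, Int.ofNat 0, Int.ofNat 2, Int.ofNat 0, Int.ofNat 0, Int.ofNat 0, Int.ofNat 0],
  [Int.ofNat 2, Int.ofNat 0, Int.ofNat 0, Int.ofNat 0, Int.ofNat 0, Int.ofNat 0, Int.ofNat 0, Int.ofNat 2, Int.ofNat 0, Int.negSucc 1, Int.ofNat 0, Int.ofNat 2, Int.ofNat 0, Int.ofNat 2, Int.ofNat 2, Int.ofNat 0, Int.ofNat 2, Int.ofNat 0, Int.ofNat 0, Int.ofNat 0, Int.ofNat 0, Int.ofNat 0, Int.negSucc 1, Int.ofNat 0],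
  [Int.negSucc 0, Int.ofNat 1, Int.ofNat 1, Int.negSucc 0, Int.negSucc 0, Int.negSucc 0, Int.negSucc 0, Int.ofNat 1, Int.negSucc 0, Int.negSucc 0, Int.ofNat 1, Int.ofNat 1, Int.negSucc 0, Int.ofNat 1, Int.ofNat 1, Int.ofNat 1, Int.ofNat 1, Int.negSucc 0, Int.negSucc 0, Int.negSucc 0, Int.ofNat 1, Int.negSucc 0, Int.negSucc 2, Int.ofNat 1],
  [Int.negSucc 0, Int.negSucc 0, Int.negSucc 0, Int.negSucc 0, Int.negSucc 0, Int.ofNat 1, Int.ofNat 1, Int.ofNat 1, Int.negSucc 0, Int.ofNat 1, Int.ofNat 1, Int.negSucc 0, Int.negSucc 0, Int.ofNat 1, Int.negSucc 2, Int.ofNat 1, Int.negSucc 0, Int.ofNat 1, Int.ofNat 1, Int.ofNat 1, Int.negSucc 0, Int.negSucc 0, Int.negSucc 0, Int.ofNat 1],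
  [Int.ofNat 0, Int.ofNat 0, Int.ofNat 0, Int.ofNat 0, Int.ofNat 0, Int.ofNat 2, Int.ofNat 0, Int.ofNat 0, Int.ofNat 0, Int.ofNat 0, Int.ofNat 0, Int.ofNat 0, Int.ofNat 0, Int.ofNat 2, Int.negSucc 1, Int.ofNat 0, Int.ofNat 0, Int.ofNat 2, Int.ofNat 2, Int.ofNat 0, Int.negSucc 1, Int.negSucc 1, Int.ofNat 0, Int.negSucc 1],
  [Int.ofNat 0, Int.ofNat 0, Int.ofNat 0, Int.ofNat 0, Int.ofNat 0, Int.negSucc 1, Int.ofNat 0, Int.ofNat 0, Int.ofNat 0, Int.ofNat 0, Int.ofNat 0, Int.ofNat 0, Int.ofNat 0, Int.ofNat 2, Int.negSucc 1, Int.ofNat 0, Int.ofNat 0, Int.ofNat 2, Int.negSucc 1, Int.ofNat 0, Int.negSucc 1, Int.negSucc 1, Int.ofNat 0, Int.negSucc 1],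
  [Int.ofNat 0, Int.ofNat 0, Int.ofNat 0, Int.ofNat 0, Int.negSucc 1, Int.ofNat 0, Int.negSucc 1, Int.ofNat 0, Int.negSucc 1, Int.negSucc 1, Int.ofNat 2, Int.ofNat 0, Int.ofNat 0, Int.ofNat 0, Int.ofNat 2, Int.negSucc 1, Int.ofNat 0, Int.ofNat 0, Int.ofNat 0, Int.ofNat 0, Int.ofNat 0, Int.ofNat 0, Int.ofNat 0, Int.negSucc 1],
  [Int.negSucc 1, Int.ofNat 0, Int.ofNat 0, Int.negSucc 1, Int.ofNat 0, Int.negSucc 1, Int.ofNat 0, Int.ofNat 0, Int.ofNat 0, Int.ofNat 0, Int.ofNat 0, Int.ofNat 0, Int.ofNat 0, Int.ofNat 0, Int.ofNat 0, Int.ofNat 0, Int.ofNat 2, Int.negSucc 1, Int.ofNat 2, Int.negSucc 1, Int.negSucc 1, Int.ofNat 0, Int.ofNat 0, Int.ofNat 0],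
  [Int.ofNat 2, Int.ofNat 0, Int.ofNat 0, Int.negSucc 1, Int.ofNat 0, Int.negSucc 1, Int.ofNat 0, Int.ofNat 0, Int.ofNat 0, Int.ofNat 0, Int.ofNat 0, Int.ofNat 0, Int.ofNat 0, Int.ofNat 0, Int.ofNat 0, Int.ofNat 0, Int.ofNat 2, Int.negSucc 1, Int.negSucc 1, Int.negSucc 1, Int.negSucc 1, Int.ofNat 0, Int.ofNat 0, Int.ofNat 0],
  [Int.ofNat 0, Int.ofNat 2, Int.ofNat 0, Int.ofNat 0, Int.negSucc 1, Int.ofNat 0, Int.negSucc 1, Int.ofNat 0, Int.ofNat 0, Int.ofNat 0, Int.ofNat 0, Int.ofNat 0, Int.ofNat 0, Int.ofNat 0, Int.ofNat 0, Int.ofNat 0, Int.ofNat 0, Int.ofNat 2, Int.negSucc 1, Int.negSucc 1, Int.negSucc 1, Int.negSucc 1, Int.ofNat 0, Int.ofNat 0],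
  [Int.ofNat 1, Int.negSucc 0, Int.ofNat 1, Int.negSucc 0, Int.negSucc 0, Int.negSucc 0, Int.ofNat 1, Int.ofNat 3, Int.ofNat 1, Int.ofNat 1, Int.ofNat 1, Int.ofNat 1, Int.ofNat 1, Int.ofNat 1, Int.negSucc 0, Int.ofNat 1, Int.ofNat 1, Int.ofNat 1, Int.negSucc 0, Int.ofNat 1, Int.negSucc 0, Int.ofNat 1, Int.ofNat 1, Int.ofNat 1],
  [Int.negSucc 0, Int.negSucc 0, Int.negSucc 0, Int.ofNat 1, Int.ofNat 3, Int.ofNat 1, Int.ofNat 1, Int.ofNat 1, Int.ofNat 1, Int.ofNat 1, Int.ofNat 1, Int.negSucc 0, Int.ofNat 1, Int.ofNat 1, Int.ofNat 1, Int.negSucc 0, Int.ofNat 1, Int.negSucc 0, Int.ofNat 1, Int.ofNat 1, Int.ofNat 1, Int.negSucc 0, Int.ofNat 1, Int.ofNat 1],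
  [Int.ofNat 0, Int.ofNat 0, Int.ofNat 0, Int.ofNat 0, Int.ofNat 0, Int.ofNat 0, Int.ofNat 0, Int.ofNat 0, Int.ofNat 0, Int.ofNat 0, Int.ofNat 0, Int.negSucc 1, Int.ofNat 0, Int.negSucc 1, Int.ofNat 0, Int.negSucc 1, Int.negSucc 1, Int.negSucc 1, Int.ofNat 0, Int.ofNat 0, Int.ofNat 0, Int.negSucc 1, Int.negSucc 1, Int.negSucc 1],
  [Int.ofNat 0, Int.ofNat 0, Int.ofNat 0, Int.ofNat 0, Int.ofNat 0, Int.ofNat 0, Int.ofNat 0, Int.ofNat 0, Int.ofNat 0, Int.negSucc 1, Int.ofNat 0, Int.negSucc 1, Int.ofNat 0, Int.negSucc 1, Int.negSucc 1, Int.negSucc 1, Int.ofNat 0, Int.ofNat 0, Int.ofNat 0, Int.negSucc 1, Int.negSucc 1, Int.ofNat 0, Int.ofNat 0, Int.negSucc 1],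
  [Int.negSucc 0, Int.negSucc 0, Int.negSucc 0, Int.ofNat 1, Int.ofNat 1, Int.ofNat 1, Int.ofNat 1, Int.ofNat 1, Int.ofNat 1, Int.ofNat 1, Int.ofNat 3, Int.negSucc 0, Int.ofNat 1, Int.negSucc 0, Int.negSucc 0, Int.ofNat 1, Int.ofNat 1, Int.ofNat 1, Int.ofNat 1, Int.negSucc 0, Int.ofNat 1, Int.ofNat 1, Int.ofNat 1, Int.ofNat 1],
  [Int.negSucc 0, Int.negSucc 0, Int.ofNat 1, Int.ofNat 1, Int.ofNat 1, Int.negSucc 0, Int.negSucc 0, Int.ofNat 1, Int.ofNat 1, Int.negSucc 0, Int.negSucc 2, Int.negSucc 0, Int.ofNat 1, Int.negSucc 0, Int.negSucc 0, Int.negSucc 0, Int.ofNat 1, Int.ofNat 1, Int.negSucc 0, Int.negSucc 0, Int.ofNat 1, Int.ofNat 1, Int.negSucc 0, Int.ofNat 1],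
  [Int.ofNat 1, Int.negSucc 0, Int.ofNat 1, Int.ofNat 1, Int.ofNat 1, Int.negSucc 0, Int.negSucc 0, Int.negSucc 0, Int.negSucc 0, Int.negSucc 0, Int.ofNat 1, Int.ofNat 1, Int.ofNat 1, Int.negSucc 0, Int.negSucc 0, Int.ofNat 1, Int.negSucc 0, Int.negSucc 0, Int.ofNat 1, Int.negSucc 0, Int.ofNat 1, Int.negSucc 2, Int.negSucc 0, Int.ofNat 1],
  [Int.ofNat 1, Int.negSucc 0, Int.negSucc 0, Int.ofNat 1, Int.ofNat 1, Int.ofNat 1, Int.ofNat 1, Int.negSucc 0, Int.negSucc 0, Int.ofNat 1, Int.negSucc 0, Int.ofNat 1, Int.ofNat 1, Int.negSucc 0, Int.negSucc 0, Int.negSucc 0, Int.negSucc 0, Int.negSucc 0, Int.negSucc 0, Int.negSucc 0, Int.ofNat 1, Int.negSucc 2, Int.ofNat 1, Int.ofNat 1],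
  [Int.negSucc 0, Int.ofNat 1, Int.ofNat 1, Int.ofNat 1, Int.ofNat 1, Int.ofNat 1, Int.ofNat 3, Int.ofNat 1, Int.negSucc 0, Int.ofNat 1, Int.negSucc 0, Int.ofNat 1, Int.ofNat 1, Int.negSucc 0, Int.negSucc 0, Int.negSucc 0, Int.negSucc 0, Int.negSucc 0, Int.negSucc 0, Int.ofNat 1, Int.ofNat 1, Int.negSucc 0, Int.ofNat 1, Int.negSucc 0],
  [Int.negSucc 0, Int.negSucc 0, Int.ofNat 3, Int.ofNat 1, Int.ofNat 1, Int.negSucc 0, Int.ofNat 1, Int.ofNat 1, Int.negSucc 0, Int.ofNat 1, Int.ofNat 1, Int.ofNat 1, Int.negSucc 0, Int.ofNat 1, Int.negSucc 0, Int.negSucc 0, Int.negSucc 0, Int.ofNat 1, Int.ofNat 1, Int.ofNat 1, Int.negSucc 0, Int.ofNat 1, Int.negSucc 0, Int.negSucc 0],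
  [Int.ofNat 1, Int.ofNat 1, Int.negSucc 2, Int.ofNat 1, Int.ofNat 1, Int.negSucc 0, Int.negSucc 0, Int.negSucc 0, Int.negSucc 0, Int.ofNat 1, Int.ofNat 1, Int.ofNat 1, Int.negSucc 0, Int.ofNat 1, Int.negSucc 0, Int.negSucc 0, Int.negSucc 0, Int.ofNat 1, Int.ofNat 1, Int.negSucc 0, Int.negSucc 0, Int.negSucc 0, Int.negSucc 0, Int.ofNat 1],
  [Int.negSucc 0, Int.negSucc 0, Int.negSucc 0, Int.ofNat 1, Int.ofNat 1, Int.negSucc 2, Int.ofNat 1, Int.ofNat 1, Int.negSucc 0, Int.negSucc 0, Int.negSucc 0, Int.negSucc 0, Int.ofNat 1, Int.ofNat 1, Int.ofNat 1, Int.negSucc 0, Int.ofNat 1, Int.negSucc 0, Int.negSucc 0, Int.negSucc 0, Int.ofNat 1, Int.ofNat 1, Int.negSucc 0, Int.ofNat 1],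
  [Int.ofNat 0, Int.ofNat 0, Int.ofNat 0, Int.ofNat 2, Int.ofNat 0, Int.negSucc 1, Int.ofNat 0, Int.ofNat 0, Int.ofNat 0, Int.ofNat 0, Int.ofNat 0, Int.ofNat 0, Int.ofNat 2, Int.ofNat 0, Int.ofNat 2, Int.ofNat 0, Int.ofNat 0, Int.ofNat 0, Int.ofNat 0, Int.negSucc 1, Int.ofNat 2, Int.ofNat 0, Int.negSucc 1, Int.negSucc 1],
  [Int.ofNat 0, Int.ofNat 0, Int.ofNat 2, Int.ofNat 0, Int.negSucc 1, Int.ofNat 0, Int.ofNat 0, Int.ofNat 0, Int.ofNat 0, Int.ofNat 0, Int.ofNat 0, Int.ofNat 2, Int.ofNat 0, Int.ofNat 2, Int.ofNat 0, Int.ofNat 0, Int.ofNat 0, Int.ofNat 0, Int.negSucc 1, Int.ofNat 2, Int.ofNat 0, Int.negSucc 1, Int.ofNat 0, Int.negSucc 1],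
  [Int.ofNat 0, Int.ofNat 0, Int.negSucc 1, Int.ofNat 0, Int.negSucc 1, Int.ofNat 0, Int.ofNat 0, Int.ofNat 0, Int.ofNat 0, Int.ofNat 0, Int.ofNat 0, Int.negSucc 1, Int.ofNat 0, Int.ofNat 2, Int.ofNat 0, Int.ofNat 0, Int.ofNat 0, Int.ofNat 0, Int.ofNat 2, Int.ofNat 2, Int.ofNat 0, Int.ofNat 2, Int.ofNat 0, Int.negSucc 1]]

set_option maxRecDepth 100000 in
theorem c1te12_chk : pmChk (List.replicate 14 [12, 0, 26, 25]).flatten nxL c1te12M 0 0 = true := by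
  decide +kernel

theorem c1te12_ne : wE letE2 (List.replicate 14 [12, 0, 26, 25]).flatten ≠ 1 ∧ wE letE2 (List.replicate 14 [12, 0, 26, 25]).flatten ≠ negElt :=
  ne_pm_of_chk nxL_mem c1te12_chk

set_option maxRecDepth 100000 in
def c1te13M : List (List ℤ) :=
  [[Int.ofNat 4, Int.ofNat 0, Int.ofNat 0, Int.ofNat 0, Int.ofNat 0, Int.ofNat 0, Int.ofNat 0, Int.ofNat 0, Int.ofNat 0, Int.ofNat 0, Int.ofNat 0, Int.ofNat 0, Int.ofNat 0, Int.ofNat 0, Int.ofNat 0, Int.ofNat 0, Int.ofNat 0, Int.ofNat 0, Int.ofNat 0, Int.ofNat 0, Int.ofNat 0, Int.ofNat 0, Int.ofNat 0, Int.ofNat 4],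
  [Int.ofNat 4, Int.ofNat 0, Int.ofNat 0, Int.ofNat 0, Int.ofNat 0, Int.ofNat 0, Int.ofNat 0, Int.ofNat 0, Int.ofNat 0, Int.ofNat 0, Int.ofNat 0, Int.ofNat 0, Int.ofNat 0, Int.ofNat 0, Int.ofNat 0, Int.ofNat 0, Int.ofNat 0, Int.ofNat 0, Int.ofNat 0, Int.ofNat 0, Int.ofNat 0, Int.ofNat 0, Int.ofNat 0, Int.ofNat 4],
  [Int.negSucc 3, Int.ofNat 0, Int.ofNat 0, Int.ofNat 0, Int.ofNat 0, Int.ofNat 0, Int.ofNat 0, Int.ofNat 0, Int.ofNat 0, Int.ofNat 0, Int.ofNat 0, Int.ofNat 0, Int.ofNat 0, Int.ofNat 0, Int.ofNat 0, Int.ofNat 0, Int.ofNat 0, Int.ofNat 0, Int.ofNat 0, Int.ofNat 0, Int.ofNat 0, Int.ofNat 0, Int.ofNat 0, Int.ofNat 4],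
  [Int.ofNat 0, Int.negSucc 3, Int.ofNat 0, Int.ofNat 0, Int.ofNat 0, Int.ofNat 0, Int.ofNat 0, Int.ofNat 0, Int.ofNat 0, Int.ofNat 0, Int.ofNat 0, Int.ofNat 0, Int.ofNat 0, Int.ofNat 0, Int.ofNat 0, Int.ofNat 0, Int.ofNat 0, Int.ofNat 0, Int.ofNat 0, Int.ofNat 0, Int.ofNat 0, Int.ofNat 0, Int.ofNat 0, Int.ofNat 4],
  [Int.ofNat 0, Int.ofNat 4, Int.ofNat 0, Int.ofNat 0, Int.ofNat 0, Int.ofNat 0, Int.ofNat 0, Int.ofNat 0, Int.ofNat 0, Int.ofNat 0, Int.ofNat 0, Int.ofNat 0, Int.ofNat 0, Int.ofNat 0, Int.ofNat 0, Int.ofNat 0, Int.ofNat 0, Int.ofNat 0, Int.ofNat 0, Int.ofNat 0, Int.ofNat 0, Int.ofNat 0, Int.ofNat 0, Int.negSucc 3],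
  [Int.ofNat 0, Int.ofNat 0, Int.ofNat 0, Int.ofNat 0, Int.ofNat 0, Int.ofNat 0, Int.ofNat 0, Int.ofNat 0, Int.ofNat 0, Int.ofNat 0, Int.ofNat 0, Int.ofNat 0, Int.ofNat 0, Int.ofNat 0, Int.ofNat 0, Int.ofNat 0, Int.ofNat 0, Int.ofNat 0, Int.ofNat 0, Int.ofNat 0, Int.ofNat 0, Int.ofNat 4, Int.ofNat 0, Int.negSucc 3],
  [Int.negSucc 1, Int.negSucc 1, Int.negSucc 1, Int.ofNat 0, Int.ofNat 0, Int.ofNat 0, Int.negSucc 1, Int.negSucc 1, Int.ofNat 0, Int.ofNat 0, Int.ofNat 0, Int.ofNat 0, Int.ofNat 0, Int.ofNat 0, Int.ofNat 0, Int.ofNat 0, Int.ofNat 0, Int.ofNat 0, Int.ofNat 0, Int.negSucc 1, Int.ofNat 0, Int.ofNat 2, Int.ofNat 0, Int.ofNat 2],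
  [Int.negSucc 1, Int.negSucc 1, Int.ofNat 0, Int.ofNat 0, Int.ofNat 0, Int.negSucc 1, Int.negSucc 1, Int.ofNat 0, Int.ofNat 0, Int.ofNat 0, Int.ofNat 0, Int.ofNat 0, Int.ofNat 0, Int.ofNat 0, Int.ofNat 0, Int.ofNat 0, Int.ofNat 0, Int.ofNat 0, Int.negSucc 1, Int.ofNat 0, Int.ofNat 2, Int.ofNat 0, Int.negSucc 1, Int.ofNat 2],
  [Int.ofNat 1, Int.ofNat 1, Int.negSucc 0, Int.ofNat 1, Int.ofNat 1, Int.negSucc 0, Int.negSucc 0, Int.ofNat 1, Int.ofNat 1, Int.negSucc 0, Int.negSucc 0, Int.ofNat 1, Int.ofNat 1, Int.ofNat 1, Int.ofNat 1, Int.negSucc 0, Int.ofNat 1, Int.ofNat 1, Int.negSucc 0, Int.ofNat 1, Int.ofNat 1, Int.ofNat 1, Int.negSucc 0, Int.negSucc 2],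
  [Int.ofNat 1, Int.ofNat 1, Int.ofNat 1, Int.ofNat 1, Int.ofNat 1, Int.ofNat 1, Int.ofNat 1, Int.ofNat 1, Int.ofNat 1, Int.ofNat 1, Int.ofNat 1, Int.ofNat 1, Int.ofNat 1, Int.ofNat 1, Int.ofNat 1, Int.ofNat 1, Int.ofNat 1, Int.ofNat 1, Int.ofNat 1, Int.ofNat 1, Int.ofNat 1, Int.ofNat 1, Int.ofNat 1, Int.negSucc 2],
  [Int.ofNat 1, Int.ofNat 1, Int.ofNat 1, Int.ofNat 1, Int.ofNat 1, Int.ofNat 1, Int.ofNat 1, Int.ofNat 1, Int.ofNat 1, Int.ofNat 1, Int.ofNat 1, Int.ofNat 1, Int.ofNat 1, Int.ofNat 1, Int.ofNat 1, Int.ofNat 1, Int.ofNat 1, Int.ofNat 1, Int.ofNat 1, Int.ofNat 1, Int.ofNat 1, Int.ofNat 1, Int.ofNat 1, Int.negSucc 2],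
  [Int.negSucc 2, Int.ofNat 1, Int.ofNat 1, Int.ofNat 1, Int.ofNat 1, Int.ofNat 1, Int.ofNat 1, Int.ofNat 1, Int.ofNat 1, Int.ofNat 1, Int.ofNat 1, Int.ofNat 1, Int.ofNat 1, Int.ofNat 1, Int.ofNat 1, Int.ofNat 1, Int.ofNat 1, Int.ofNat 1, Int.ofNat 1, Int.ofNat 1, Int.ofNat 1, Int.ofNat 1, Int.ofNat 1, Int.ofNat 1],
  [Int.ofNat 3, Int.ofNat 1, Int.negSucc 0, Int.ofNat 1, Int.ofNat 1, Int.ofNat 1, Int.ofNat 1, Int.negSucc 0, Int.ofNat 1, Int.negSucc 0, Int.negSucc 0, Int.negSucc 0, Int.ofNat 1, Int.ofNat 1, Int.ofNat 1, Int.ofNat 1, Int.ofNat 1, Int.ofNat 1, Int.negSucc 0, Int.ofNat 1, Int.ofNat 1, Int.negSucc 0, Int.ofNat 1, Int.ofNat 1],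
  [Int.ofNat 1, Int.ofNat 3, Int.ofNat 1, Int.negSucc 0, Int.ofNat 1, Int.ofNat 1, Int.ofNat 1, Int.ofNat 1, Int.negSucc 0, Int.ofNat 1, Int.negSucc 0, Int.negSucc 0, Int.negSucc 0, Int.ofNat 1, Int.ofNat 1, Int.ofNat 1, Int.ofNat 1, Int.ofNat 1, Int.ofNat 1, Int.negSucc 0, Int.ofNat 1, Int.ofNat 1, Int.negSucc 0, Int.ofNat 1],
  [Int.ofNat 2, Int.ofNat 0, Int.ofNat 2, Int.negSucc 1, Int.ofNat 0, Int.ofNat 0, Int.ofNat 0, Int.ofNat 0, Int.ofNat 0, Int.ofNat 0, Int.negSucc 1, Int.ofNat 0, Int.ofNat 0, Int.ofNat 0, Int.ofNat 0, Int.ofNat 0, Int.ofNat 0, Int.ofNat 0, Int.ofNat 2, Int.negSucc 1, Int.ofNat 0, Int.ofNat 0, Int.negSucc 1, Int.ofNat 2],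
  [Int.negSucc 1, Int.ofNat 0, Int.ofNat 0, Int.ofNat 0, Int.ofNat 0, Int.ofNat 0, Int.ofNat 0, Int.negSucc 1, Int.ofNat 0, Int.ofNat 0, Int.ofNat 0, Int.ofNat 0, Int.ofNat 0, Int.ofNat 0, Int.ofNat 0, Int.ofNat 2, Int.negSucc 1, Int.ofNat 0, Int.ofNat 0, Int.negSucc 1, Int.ofNat 2, Int.ofNat 0, Int.ofNat 2, Int.ofNat 2],
  [Int.ofNat 2, Int.ofNat 0, Int.ofNat 0, Int.ofNat 0, Int.ofNat 0, Int.ofNat 0, Int.ofNat 2, Int.ofNat 0, Int.ofNat 0, Int.negSucc 1, Int.negSucc 1, Int.ofNat 0, Int.ofNat 0, Int.ofNat 0, Int.ofNat 0, Int.ofNat 0, Int.negSucc 1, Int.ofNat 0, Int.ofNat 0, Int.ofNat 0, Int.ofNat 0, Int.ofNat 2, Int.ofNat 2, Int.negSucc 1],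
  [Int.ofNat 2, Int.ofNat 2, Int.ofNat 0, Int.ofNat 0, Int.ofNat 0, Int.ofNat 0, Int.ofNat 0, Int.negSucc 1, Int.ofNat 0, Int.ofNat 0, Int.ofNat 0, Int.ofNat 0, Int.negSucc 1, Int.negSucc 1, Int.ofNat 2, Int.ofNat 0, Int.ofNat 0, Int.ofNat 0, Int.ofNat 0, Int.ofNat 0, Int.ofNat 2, Int.ofNat 0, Int.ofNat 0, Int.negSucc 1],
  [Int.negSucc 0, Int.negSucc 0, Int.ofNat 1, Int.negSucc 0, Int.ofNat 1, Int.negSucc 0, Int.ofNat 1, Int.negSucc 0, Int.ofNat 1, Int.negSucc 0, Int.negSucc 0, Int.ofNat 1, Int.negSucc 0, Int.negSucc 0, Int.ofNat 1, Int.negSucc 0, Int.ofNat 1, Int.negSucc 0, Int.ofNat 1, Int.ofNat 1, Int.ofNat 1, Int.ofNat 1, Int.ofNat 1, Int.ofNat 3],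
  [Int.negSucc 0, Int.negSucc 0, Int.negSucc 0, Int.negSucc 0, Int.ofNat 1, Int.ofNat 1, Int.negSucc 0, Int.negSucc 0, Int.ofNat 1, Int.ofNat 1, Int.ofNat 1, Int.ofNat 1, Int.negSucc 0, Int.negSucc 0, Int.ofNat 1, Int.ofNat 1, Int.ofNat 1, Int.negSucc 0, Int.negSucc 0, Int.ofNat 1, Int.ofNat 1, Int.ofNat 1, Int.negSucc 0, Int.ofNat 3],
  [Int.ofNat 1, Int.ofNat 1, Int.ofNat 1, Int.ofNat 1, Int.ofNat 1, Int.ofNat 1, Int.negSucc 0, Int.ofNat 1, Int.ofNat 1, Int.ofNat 1, Int.negSucc 0, Int.negSucc 0, Int.negSucc 0, Int.negSucc 0, Int.ofNat 1, Int.negSucc 0, Int.ofNat 1, Int.negSucc 0, Int.negSucc 0, Int.negSucc 0, Int.negSucc 0, Int.negSucc 0, Int.ofNat 1, Int.ofNat 3],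
  [Int.ofNat 1, Int.ofNat 1, Int.negSucc 0, Int.ofNat 1, Int.ofNat 1, Int.negSucc 0, Int.ofNat 1, Int.ofNat 1, Int.ofNat 1, Int.negSucc 0, Int.ofNat 1, Int.negSucc 0, Int.negSucc 0, Int.negSucc 0, Int.ofNat 1, Int.ofNat 1, Int.ofNat 1, Int.negSucc 0, Int.ofNat 1, Int.negSucc 0, Int.negSucc 0, Int.negSucc 0, Int.negSucc 0, Int.ofNat 3],
  [Int.ofNat 1, Int.ofNat 1, Int.ofNat 3, Int.ofNat 1, Int.ofNat 1, Int.negSucc 0, Int.ofNat 1, Int.ofNat 1, Int.ofNat 1, Int.negSucc 0, Int.ofNat 1, Int.negSucc 0, Int.negSucc 0, Int.negSucc 0, Int.ofNat 1, Int.ofNat 1, Int.ofNat 1, Int.negSucc 0, Int.ofNat 1, Int.negSucc 0, Int.negSucc 0, Int.negSucc 0, Int.negSucc 0, Int.negSucc 0],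
  [Int.ofNat 1, Int.ofNat 1, Int.ofNat 1, Int.ofNat 1, Int.ofNat 3, Int.negSucc 0, Int.ofNat 1, Int.negSucc 0, Int.ofNat 1, Int.negSucc 0, Int.ofNat 1, Int.negSucc 0, Int.ofNat 1, Int.negSucc 0, Int.negSucc 0, Int.ofNat 1, Int.negSucc 0, Int.negSucc 0, Int.ofNat 1, Int.negSucc 0, Int.ofNat 1, Int.negSucc 0, Int.ofNat 1, Int.negSucc 0],
  [Int.ofNat 0, Int.ofNat 0, Int.ofNat 0, Int.ofNat 2, Int.ofNat 2, Int.ofNat 0, Int.ofNat 2, Int.ofNat 0, Int.ofNat 0, Int.negSucc 1, Int.ofNat 0, Int.negSucc 1, Int.ofNat 0, Int.negSucc 1, Int.ofNat 0, Int.ofNat 0, Int.negSucc 1, Int.ofNat 0, Int.ofNat 0, Int.ofNat 0, Int.ofNat 0, Int.ofNat 0, Int.ofNat 0, Int.ofNat 2],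
  [Int.ofNat 0, Int.ofNat 0, Int.ofNat 0, Int.ofNat 0, Int.ofNat 0, Int.ofNat 0, Int.ofNat 2, Int.ofNat 2, Int.ofNat 0, Int.ofNat 2, Int.ofNat 0, Int.ofNat 0, Int.negSucc 1, Int.ofNat 0, Int.negSucc 1, Int.ofNat 0, Int.negSucc 1, Int.ofNat 0, Int.ofNat 0, Int.negSucc 1, Int.ofNat 0, Int.ofNat 0, Int.ofNat 0, Int.ofNat 2],
  [Int.ofNat 1, Int.ofNat 1, Int.ofNat 1, Int.ofNat 1, Int.ofNat 1, Int.ofNat 1, Int.ofNat 1, Int.ofNat 1, Int.ofNat 1, Int.ofNat 1, Int.negSucc 0, Int.ofNat 1, Int.negSucc 0, Int.ofNat 1, Int.negSucc 0, Int.negSucc 0, Int.negSucc 0, Int.ofNat 1, Int.ofNat 1, Int.negSucc 2, Int.negSucc 0, Int.negSucc 0, Int.ofNat 1, Int.negSucc 0],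
  [Int.ofNat 1, Int.ofNat 1, Int.ofNat 1, Int.ofNat 1, Int.ofNat 1, Int.ofNat 1, Int.ofNat 1, Int.ofNat 1, Int.ofNat 1, Int.negSucc 0, Int.ofNat 1, Int.negSucc 0, Int.ofNat 1, Int.negSucc 0, Int.negSucc 0, Int.negSucc 0, Int.ofNat 1, Int.ofNat 1, Int.negSucc 2, Int.negSucc 0, Int.negSucc 0, Int.ofNat 1, Int.ofNat 1, Int.negSucc 0],
  [Int.negSucc 0, Int.ofNat 1, Int.negSucc 0, Int.ofNat 1, Int.ofNat 1, Int.ofNat 1, Int.ofNat 1, Int.negSucc 0, Int.ofNat 1, Int.ofNat 1, Int.negSucc 0, Int.ofNat 1, Int.ofNat 1, Int.negSucc 0, Int.negSucc 0, Int.negSucc 0, Int.ofNat 1, Int.ofNat 1, Int.ofNat 3, Int.negSucc 0, Int.negSucc 0, Int.negSucc 0, Int.ofNat 1, Int.negSucc 0],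
  [Int.ofNat 1, Int.negSucc 0, Int.ofNat 1, Int.negSucc 0, Int.negSucc 0, Int.ofNat 1, Int.negSucc 0, Int.negSucc 0, Int.negSucc 0, Int.negSucc 0, Int.negSucc 0, Int.ofNat 1, Int.negSucc 0, Int.ofNat 1, Int.negSucc 0, Int.negSucc 0, Int.negSucc 0, Int.ofNat 1, Int.negSucc 2, Int.negSucc 0, Int.negSucc 0, Int.negSucc 0, Int.ofNat 1, Int.negSucc 0],
  [Int.ofNat 1, Int.ofNat 1, Int.negSucc 2, Int.negSucc 0, Int.negSucc 0, Int.negSucc 0, Int.negSucc 0, Int.negSucc 0, Int.negSucc 0, Int.negSucc 0, Int.negSucc 0, Int.negSucc 0, Int.ofNat 1, Int.negSucc 0, Int.negSucc 0, Int.negSucc 0, Int.negSucc 0, Int.ofNat 1, Int.negSucc 0, Int.ofNat 1, Int.ofNat 1, Int.negSucc 0, Int.ofNat 1, Int.negSucc 0],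
  [Int.negSucc 0, Int.ofNat 1, Int.ofNat 3, Int.negSucc 0, Int.negSucc 0, Int.negSucc 0, Int.negSucc 0, Int.ofNat 1, Int.negSucc 0, Int.ofNat 1, Int.ofNat 1, Int.ofNat 1, Int.ofNat 1, Int.negSucc 0, Int.negSucc 0, Int.negSucc 0, Int.negSucc 0, Int.ofNat 1, Int.ofNat 1, Int.ofNat 1, Int.ofNat 1, Int.ofNat 1, Int.ofNat 1, Int.negSucc 0],
  [Int.ofNat 1, Int.negSucc 0, Int.ofNat 1, Int.ofNat 3, Int.negSucc 0, Int.negSucc 0, Int.negSucc 0, Int.negSucc 0, Int.ofNat 1, Int.negSucc 0, Int.ofNat 1, Int.ofNat 1, Int.ofNat 1, Int.ofNat 1, Int.negSucc 0, Int.negSucc 0, Int.negSucc 0, Int.negSucc 0, Int.ofNat 1, Int.ofNat 1, Int.ofNat 1, Int.ofNat 1, Int.ofNat 1, Int.negSucc 0],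
  [Int.negSucc 0, Int.ofNat 1, Int.negSucc 0, Int.ofNat 3, Int.negSucc 0, Int.negSucc 0, Int.negSucc 0, Int.negSucc 0, Int.negSucc 0, Int.negSucc 0, Int.ofNat 1, Int.negSucc 0, Int.negSucc 0, Int.ofNat 1, Int.negSucc 0, Int.negSucc 0, Int.negSucc 0, Int.negSucc 0, Int.negSucc 0, Int.ofNat 1, Int.ofNat 1, Int.ofNat 1, Int.ofNat 1, Int.ofNat 1],
  [Int.ofNat 3, Int.negSucc 0, Int.negSucc 0, Int.negSucc 0, Int.negSucc 0, Int.negSucc 0, Int.negSucc 0, Int.ofNat 1, Int.negSucc 0, Int.negSucc 0, Int.ofNat 1, Int.negSucc 0, Int.negSucc 0, Int.negSucc 0, Int.negSucc 0, Int.negSucc 0, Int.ofNat 1, Int.ofNat 1, Int.ofNat 1, Int.ofNat 1, Int.negSucc 0, Int.ofNat 1, Int.negSucc 0, Int.ofNat 1],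
  [Int.negSucc 1, Int.ofNat 2, Int.ofNat 2, Int.ofNat 0, Int.ofNat 0, Int.ofNat 0, Int.negSucc 1, Int.ofNat 0, Int.ofNat 0, Int.ofNat 0, Int.ofNat 2, Int.ofNat 0, Int.ofNat 0, Int.ofNat 0, Int.ofNat 0, Int.ofNat 0, Int.ofNat 2, Int.ofNat 2, Int.ofNat 2, Int.ofNat 0, Int.ofNat 0, Int.ofNat 0, Int.ofNat 0, Int.ofNat 0],
  [Int.negSucc 1, Int.negSucc 1, Int.ofNat 0, Int.ofNat 0, Int.ofNat 2, Int.ofNat 0, Int.ofNat 2, Int.ofNat 2, Int.ofNat 0, Int.ofNat 0, Int.ofNat 0, Int.ofNat 2, Int.ofNat 0, Int.ofNat 2, Int.ofNat 0, Int.ofNat 0, Int.ofNat 0, Int.ofNat 0, Int.ofNat 2, Int.ofNat 0, Int.ofNat 0, Int.ofNat 0, Int.ofNat 0, Int.ofNat 0],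
  [Int.ofNat 0, Int.ofNat 0, Int.negSucc 1, Int.ofNat 0, Int.ofNat 0, Int.ofNat 0, Int.ofNat 0, Int.ofNat 0, Int.negSucc 1, Int.ofNat 0, Int.ofNat 0, Int.ofNat 0, Int.negSucc 1, Int.ofNat 0, Int.ofNat 0, Int.ofNat 0, Int.negSucc 1, Int.ofNat 0, Int.ofNat 0, Int.negSucc 1, Int.ofNat 0, Int.negSucc 1, Int.negSucc 1, Int.negSucc 1],
  [Int.ofNat 0, Int.ofNat 0, Int.ofNat 2, Int.ofNat 0, Int.ofNat 0, Int.ofNat 0, Int.ofNat 0, Int.ofNat 0, Int.negSucc 1, Int.ofNat 0, Int.ofNat 0, Int.ofNat 0, Int.negSucc 1, Int.ofNat 0, Int.ofNat 0, Int.ofNat 0, Int.negSucc 1, Int.ofNat 0, Int.ofNat 0, Int.negSucc 1, Int.ofNat 0, Int.negSucc 1, Int.ofNat 2, Int.negSucc 1],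
  [Int.ofNat 0, Int.negSucc 1, Int.ofNat 0, Int.negSucc 1, Int.ofNat 0, Int.ofNat 0, Int.negSucc 1, Int.ofNat 0, Int.ofNat 0, Int.ofNat 0, Int.ofNat 0, Int.ofNat 0, Int.ofNat 0, Int.ofNat 0, Int.ofNat 0, Int.ofNat 0, Int.negSucc 1, Int.negSucc 1, Int.ofNat 0, Int.ofNat 2, Int.ofNat 0, Int.ofNat 0, Int.ofNat 2, Int.negSucc 1],
  [Int.negSucc 1, Int.ofNat 2, Int.ofNat 0, Int.ofNat 0, Int.negSucc 1, Int.ofNat 0, Int.ofNat 2, Int.ofNat 0, Int.ofNat 0, Int.ofNat 0, Int.negSucc 1, Int.ofNat 0, Int.ofNat 0, Int.ofNat 0, Int.ofNat 0, Int.negSucc 1, Int.ofNat 0, Int.ofNat 0, Int.ofNat 0, Int.negSucc 1, Int.ofNat 0, Int.ofNat 0, Int.negSucc 1, Int.ofNat 0],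
  [Int.ofNat 2, Int.ofNat 2, Int.ofNat 0, Int.ofNat 0, Int.negSucc 1, Int.ofNat 0, Int.ofNat 2, Int.ofNat 0, Int.ofNat 0, Int.ofNat 0, Int.ofNat 2, Int.ofNat 0, Int.ofNat 0, Int.ofNat 0, Int.ofNat 0, Int.negSucc 1, Int.ofNat 0, Int.ofNat 0, Int.ofNat 0, Int.negSucc 1, Int.ofNat 0, Int.ofNat 0, Int.negSucc 1, Int.ofNat 0],
  [Int.negSucc 1, Int.ofNat 2, Int.ofNat 2, Int.ofNat 0, Int.ofNat 0, Int.negSucc 1, Int.ofNat 0, Int.ofNat 2, Int.ofNat 0, Int.ofNat 0, Int.ofNat 0, Int.ofNat 2, Int.ofNat 0, Int.ofNat 0, Int.ofNat 0, Int.ofNat 0, Int.negSucc 1, Int.ofNat 0, Int.ofNat 0, Int.ofNat 0, Int.negSucc 1, Int.ofNat 0, Int.ofNat 0, Int.ofNat 0],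
  [Int.ofNat 3, Int.negSucc 0, Int.negSucc 0, Int.ofNat 1, Int.ofNat 1, Int.negSucc 0, Int.negSucc 0, Int.ofNat 1, Int.negSucc 0, Int.ofNat 1, Int.ofNat 1, Int.ofNat 1, Int.negSucc 0, Int.ofNat 1, Int.ofNat 1, Int.ofNat 1, Int.negSucc 0, Int.ofNat 1, Int.negSucc 0, Int.negSucc 0, Int.negSucc 0, Int.negSucc 0, Int.ofNat 1, Int.ofNat 1],
  [Int.ofNat 1, Int.ofNat 1, Int.negSucc 0, Int.negSucc 0, Int.ofNat 1, Int.negSucc 0, Int.ofNat 1, Int.ofNat 1, Int.ofNat 1, Int.negSucc 0, Int.ofNat 1, Int.ofNat 1, Int.ofNat 1, Int.negSucc 0, Int.ofNat 1, Int.negSucc 0, Int.negSucc 0, Int.negSucc 0, Int.negSucc 0, Int.ofNat 1, Int.ofNat 3, Int.negSucc 0, Int.negSucc 0, Int.ofNat 1],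
  [Int.ofNat 0, Int.ofNat 0, Int.ofNat 2, Int.ofNat 0, Int.ofNat 2, Int.ofNat 0, Int.ofNat 0, Int.ofNat 0, Int.ofNat 0, Int.negSucc 1, Int.ofNat 0, Int.ofNat 0, Int.ofNat 0, Int.ofNat 0, Int.ofNat 2, Int.negSucc 1, Int.ofNat 0, Int.ofNat 0, Int.negSucc 1, Int.ofNat 0, Int.ofNat 2, Int.negSucc 1, Int.ofNat 0, Int.ofNat 0],
  [Int.ofNat 0, Int.ofNat 0, Int.ofNat 2, Int.ofNat 0, Int.negSucc 1, Int.ofNat 0, Int.ofNat 2, Int.ofNat 0, Int.ofNat 0, Int.ofNat 0, Int.ofNat 2, Int.ofNat 0, Int.negSucc 1, Int.ofNat 0, Int.ofNat 0, Int.negSucc 1, Int.ofNat 0, Int.ofNat 2, Int.ofNat 0, Int.ofNat 0, Int.negSucc 1, Int.ofNat 0, Int.ofNat 0, Int.ofNat 0],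
  [Int.ofNat 1, Int.ofNat 1, Int.negSucc 0, Int.negSucc 0, Int.negSucc 0, Int.negSucc 0, Int.ofNat 1, Int.negSucc 0, Int.ofNat 1, Int.ofNat 1, Int.ofNat 3, Int.ofNat 1, Int.negSucc 0, Int.ofNat 1, Int.negSucc 0, Int.negSucc 0, Int.ofNat 1, Int.ofNat 1, Int.ofNat 1, Int.negSucc 0, Int.negSucc 0, Int.negSucc 0, Int.ofNat 1, Int.ofNat 1],
  [Int.ofNat 1, Int.ofNat 1, Int.ofNat 1, Int.negSucc 0, Int.negSucc 0, Int.ofNat 1, Int.negSucc 0, Int.negSucc 0, Int.ofNat 1, Int.negSucc 0, Int.negSucc 2, Int.ofNat 1, Int.negSucc 0, Int.ofNat 1, Int.negSucc 0, Int.ofNat 1, Int.ofNat 1, Int.ofNat 1, Int.negSucc 0, Int.negSucc 0, Int.negSucc 0, Int.negSucc 0, Int.negSucc 0, Int.ofNat 1],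
  [Int.ofNat 1, Int.ofNat 1, Int.ofNat 1, Int.ofNat 1, Int.negSucc 0, Int.negSucc 0, Int.ofNat 1, Int.negSucc 0, Int.ofNat 1, Int.negSucc 2, Int.negSucc 0, Int.negSucc 0, Int.negSucc 0, Int.negSucc 0, Int.negSucc 0, Int.negSucc 0, Int.negSucc 0, Int.ofNat 1, Int.ofNat 1, Int.ofNat 1, Int.ofNat 1, Int.negSucc 0, Int.negSucc 0, Int.ofNat 1],
  [Int.ofNat 1, Int.ofNat 1, Int.negSucc 0, Int.ofNat 1, Int.negSucc 0, Int.ofNat 1, Int.negSucc 0, Int.negSucc 0, Int.ofNat 1, Int.ofNat 3, Int.ofNat 1, Int.negSucc 0, Int.negSucc 0, Int.negSucc 0, Int.negSucc 0, Int.ofNat 1, Int.negSucc 0, Int.ofNat 1, Int.negSucc 0, Int.ofNat 1, Int.ofNat 1, Int.negSucc 0, Int.ofNat 1, Int.ofNat 1],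
  [Int.ofNat 0, Int.ofNat 0, Int.ofNat 2, Int.ofNat 0, Int.ofNat 0, Int.ofNat 0, Int.ofNat 0, Int.ofNat 0, Int.ofNat 2, Int.ofNat 0, Int.negSucc 1, Int.ofNat 0, Int.ofNat 0, Int.ofNat 0, Int.negSucc 1, Int.negSucc 1, Int.ofNat 0, Int.ofNat 0, Int.ofNat 0, Int.ofNat 2, Int.negSucc 1, Int.ofNat 0, Int.ofNat 2, Int.ofNat 0],
  [Int.ofNat 0, Int.ofNat 0, Int.ofNat 0, Int.ofNat 0, Int.ofNat 2, Int.ofNat 0, Int.ofNat 0, Int.ofNat 0, Int.ofNat 0, Int.ofNat 0, Int.ofNat 0, Int.ofNat 2, Int.ofNat 2, Int.ofNat 0, Int.ofNat 0, Int.negSucc 1, Int.ofNat 0, Int.ofNat 0, Int.ofNat 0, Int.ofNat 2, Int.negSucc 1, Int.negSucc 1, Int.negSucc 1, Int.ofNat 0],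
  [Int.ofNat 0, Int.ofNat 0, Int.ofNat 0, Int.ofNat 0, Int.ofNat 2, Int.ofNat 0, Int.ofNat 0, Int.ofNat 0, Int.negSucc 1, Int.ofNat 2, Int.ofNat 2, Int.ofNat 0, Int.ofNat 0, Int.ofNat 0, Int.ofNat 0, Int.ofNat 0, Int.ofNat 0, Int.ofNat 0, Int.negSucc 1, Int.ofNat 2, Int.ofNat 0, Int.negSucc 1, Int.negSucc 1, Int.ofNat 0],
  [Int.ofNat 0, Int.negSucc 1, Int.negSucc 1, Int.ofNat 0, Int.ofNat 0, Int.ofNat 0, Int.ofNat 0, Int.ofNat 2, Int.ofNat 0, Int.ofNat 0, Int.ofNat 0, Int.negSucc 1, Int.ofNat 2, Int.ofNat 2, Int.ofNat 0, Int.ofNat 0, Int.ofNat 0, Int.ofNat 0, Int.ofNat 0, Int.ofNat 0, Int.ofNat 0, Int.negSucc 1, Int.ofNat 2, Int.ofNat 0],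
  [Int.negSucc 1, Int.ofNat 0, Int.ofNat 0, Int.ofNat 0, Int.negSucc 1, Int.ofNat 0, Int.ofNat 0, Int.ofNat 2, Int.ofNat 0, Int.ofNat 0, Int.ofNat 0, Int.negSucc 1, Int.ofNat 2, Int.ofNat 0, Int.ofNat 0, Int.ofNat 0, Int.negSucc 1, Int.ofNat 0, Int.ofNat 0, Int.ofNat 0, Int.ofNat 0, Int.negSucc 1, Int.ofNat 0, Int.negSucc 1],
  [Int.ofNat 0, Int.ofNat 0, Int.ofNat 0, Int.negSucc 1, Int.ofNat 0, Int.ofNat 0, Int.ofNat 2, Int.ofNat 0, Int.ofNat 0, Int.ofNat 0, Int.negSucc 1, Int.ofNat 2, Int.ofNat 0, Int.ofNat 0, Int.ofNat 0, Int.negSucc 1, Int.ofNat 0, Int.ofNat 0, Int.ofNat 0, Int.ofNat 0, Int.negSucc 1, Int.ofNat 0, Int.negSucc 1, Int.negSucc 1],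
  [Int.ofNat 0, Int.ofNat 0, Int.ofNat 0, Int.negSucc 1, Int.ofNat 0, Int.ofNat 0, Int.ofNat 2, Int.ofNat 0, Int.ofNat 0, Int.ofNat 0, Int.ofNat 2, Int.negSucc 1, Int.ofNat 0, Int.ofNat 0, Int.ofNat 0, Int.negSucc 1, Int.ofNat 0, Int.ofNat 0, Int.ofNat 0, Int.ofNat 0, Int.negSucc 1, Int.ofNat 0, Int.negSucc 1, Int.negSucc 1],
  [Int.ofNat 0, Int.ofNat 0, Int.ofNat 0, Int.ofNat 2, Int.ofNat 0, Int.ofNat 0, Int.negSucc 1, Int.ofNat 0, Int.ofNat 0, Int.ofNat 0, Int.ofNat 2, Int.negSucc 1, Int.ofNat 0, Int.ofNat 0, Int.ofNat 0, Int.negSucc 1, Int.ofNat 0, Int.ofNat 0, Int.ofNat 0, Int.ofNat 0, Int.negSucc 1, Int.ofNat 0, Int.negSucc 1, Int.negSucc 1],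
  [Int.ofNat 0, Int.ofNat 0, Int.ofNat 0, Int.ofNat 2, Int.ofNat 0, Int.ofNat 2, Int.ofNat 0, Int.negSucc 1, Int.ofNat 0, Int.ofNat 0, Int.ofNat 0, Int.ofNat 0, Int.ofNat 0, Int.ofNat 0, Int.ofNat 0, Int.negSucc 1, Int.ofNat 0, Int.negSucc 1, Int.negSucc 1, Int.ofNat 0, Int.ofNat 0, Int.ofNat 0, Int.negSucc 1, Int.negSucc 1],
  [Int.ofNat 0, Int.ofNat 0, Int.ofNat 0, Int.ofNat 2, Int.ofNat 0, Int.ofNat 2, Int.ofNat 0, Int.ofNat 2, Int.ofNat 0, Int.ofNat 0, Int.ofNat 0, Int.ofNat 0, Int.ofNat 0, Int.ofNat 0, Int.ofNat 0, Int.negSucc 1, Int.ofNat 0, Int.negSucc 1, Int.ofNat 2, Int.ofNat 0, Int.ofNat 0, Int.ofNat 0, Int.negSucc 1, Int.negSucc 1],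
  [Int.negSucc 1, Int.ofNat 0, Int.ofNat 0, Int.ofNat 0, Int.ofNat 2, Int.ofNat 0, Int.ofNat 2, Int.ofNat 0, Int.ofNat 2, Int.ofNat 0, Int.ofNat 0, Int.ofNat 0, Int.ofNat 0, Int.ofNat 0, Int.ofNat 0, Int.ofNat 0, Int.negSucc 1, Int.ofNat 0, Int.negSucc 1, Int.ofNat 2, Int.ofNat 0, Int.ofNat 0, Int.ofNat 0, Int.negSucc 1],
  [Int.ofNat 0, Int.negSucc 1, Int.negSucc 1, Int.ofNat 0, Int.ofNat 2, Int.ofNat 0, Int.ofNat 0, Int.negSucc 1, Int.ofNat 2, Int.ofNat 0, Int.ofNat 0, Int.ofNat 0, Int.ofNat 0, Int.ofNat 0, Int.ofNat 0, Int.ofNat 0, Int.negSucc 1, Int.ofNat 0, Int.negSucc 1, Int.ofNat 0, Int.ofNat 0, Int.negSucc 1, Int.ofNat 0, Int.ofNat 0],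
  [Int.ofNat 0, Int.ofNat 2, Int.ofNat 0, Int.ofNat 0, Int.negSucc 1, Int.ofNat 2, Int.ofNat 0, Int.ofNat 0, Int.ofNat 0, Int.ofNat 0, Int.ofNat 0, Int.ofNat 0, Int.ofNat 0, Int.negSucc 1, Int.ofNat 0, Int.negSucc 1, Int.ofNat 0, Int.ofNat 0, Int.negSucc 1, Int.ofNat 0, Int.ofNat 0, Int.negSucc 1, Int.negSucc 1, Int.ofNat 0],
  [Int.ofNat 1, Int.negSucc 0, Int.ofNat 1, Int.negSucc 0, Int.ofNat 1, Int.ofNat 1, Int.ofNat 1, Int.ofNat 1, Int.ofNat 1, Int.ofNat 1, Int.ofNat 1, Int.ofNat 1, Int.ofNat 1, Int.ofNat 1, Int.negSucc 0, Int.negSucc 0, Int.ofNat 3, Int.negSucc 0, Int.negSucc 0, Int.ofNat 1, Int.ofNat 1, Int.negSucc 0, Int.ofNat 1, Int.ofNat 1],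
  [Int.ofNat 1, Int.ofNat 1, Int.ofNat 1, Int.negSucc 0, Int.negSucc 0, Int.ofNat 1, Int.ofNat 1, Int.ofNat 1, Int.ofNat 1, Int.ofNat 1, Int.ofNat 1, Int.negSucc 0, Int.ofNat 1, Int.ofNat 3, Int.ofNat 1, Int.negSucc 0, Int.ofNat 1, Int.negSucc 0, Int.negSucc 0, Int.ofNat 1, Int.negSucc 0, Int.ofNat 1, Int.ofNat 1, Int.ofNat 1],
  [Int.ofNat 1, Int.ofNat 1, Int.ofNat 1, Int.negSucc 0, Int.negSucc 2, Int.ofNat 1, Int.negSucc 0, Int.negSucc 0, Int.ofNat 1, Int.ofNat 1, Int.ofNat 1, Int.negSucc 0, Int.ofNat 1, Int.ofNat 1, Int.ofNat 1, Int.negSucc 0, Int.negSucc 0, Int.negSucc 0, Int.negSucc 0, Int.negSucc 0, Int.negSucc 0, Int.negSucc 0, Int.negSucc 0, Int.ofNat 1],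
  [Int.ofNat 1, Int.ofNat 1, Int.negSucc 0, Int.negSucc 0, Int.negSucc 2, Int.negSucc 0, Int.ofNat 1, Int.negSucc 0, Int.ofNat 1, Int.negSucc 0, Int.negSucc 0, Int.negSucc 0, Int.ofNat 1, Int.ofNat 1, Int.ofNat 1, Int.ofNat 1, Int.negSucc 0, Int.negSucc 0, Int.ofNat 1, Int.negSucc 0, Int.negSucc 0, Int.negSucc 0, Int.ofNat 1, Int.ofNat 1],
  [Int.negSucc 0, Int.negSucc 0, Int.negSucc 0, Int.ofNat 1, Int.ofNat 1, Int.ofNat 1, Int.negSucc 0, Int.negSucc 0, Int.negSucc 0, Int.negSucc 0, Int.ofNat 1, Int.negSucc 0, Int.ofNat 1, Int.negSucc 2, Int.negSucc 0, Int.ofNat 1, Int.negSucc 0, Int.ofNat 1, Int.negSucc 0, Int.negSucc 0, Int.ofNat 1, Int.ofNat 1, Int.ofNat 1, Int.ofNat 1],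
  [Int.ofNat 1, Int.ofNat 1, Int.negSucc 0, Int.ofNat 1, Int.ofNat 1, Int.negSucc 0, Int.negSucc 0, Int.negSucc 2, Int.ofNat 1, Int.ofNat 1, Int.negSucc 0, Int.negSucc 0, Int.ofNat 1, Int.negSucc 0, Int.negSucc 0, Int.ofNat 1, Int.ofNat 1, Int.ofNat 1, Int.negSucc 0, Int.negSucc 0, Int.negSucc 0, Int.ofNat 1, Int.negSucc 0, Int.negSucc 0],
  [Int.negSucc 0, Int.ofNat 1, Int.ofNat 1, Int.ofNat 1, Int.ofNat 1, Int.negSucc 0, Int.negSucc 0, Int.ofNat 3, Int.ofNat 1, Int.negSucc 0, Int.ofNat 1, Int.ofNat 1, Int.ofNat 1, Int.negSucc 0, Int.negSucc 0, Int.ofNat 1, Int.ofNat 1, Int.ofNat 1, Int.ofNat 1, Int.negSucc 0, Int.negSucc 0, Int.negSucc 0, Int.negSucc 0, Int.negSucc 0],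
  [Int.negSucc 0, Int.negSucc 0, Int.ofNat 1, Int.ofNat 1, Int.ofNat 1, Int.ofNat 1, Int.negSucc 0, Int.negSucc 0, Int.ofNat 3, Int.ofNat 1, Int.negSucc 0, Int.ofNat 1, Int.ofNat 1, Int.ofNat 1, Int.negSucc 0, Int.negSucc 0, Int.ofNat 1, Int.ofNat 1, Int.ofNat 1, Int.ofNat 1, Int.negSucc 0, Int.negSucc 0, Int.negSucc 0, Int.negSucc 0],
  [Int.ofNat 0, Int.ofNat 0, Int.negSucc 1, Int.ofNat 0, Int.ofNat 0, Int.ofNat 0, Int.ofNat 0, Int.ofNat 0, Int.ofNat 0, Int.ofNat 2, Int.ofNat 0, Int.negSucc 1, Int.negSucc 1, Int.ofNat 0, Int.negSucc 1, Int.ofNat 0, Int.ofNat 0, Int.ofNat 0, Int.negSucc 1, Int.ofNat 2, Int.ofNat 0, Int.ofNat 0, Int.negSucc 1, Int.ofNat 0],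
  [Int.ofNat 0, Int.ofNat 0, Int.ofNat 0, Int.ofNat 0, Int.ofNat 0, Int.ofNat 0, Int.ofNat 2, Int.ofNat 0, Int.negSucc 1, Int.negSucc 1, Int.ofNat 0, Int.negSucc 1, Int.ofNat 0, Int.ofNat 0, Int.ofNat 0, Int.negSucc 1, Int.ofNat 2, Int.ofNat 0, Int.ofNat 0, Int.negSucc 1, Int.ofNat 0, Int.ofNat 0, Int.negSucc 1, Int.ofNat 0],
  [Int.ofNat 0, Int.ofNat 0, Int.ofNat 0, Int.ofNat 0, Int.ofNat 0, Int.ofNat 0, Int.ofNat 2, Int.ofNat 0, Int.ofNat 0, Int.ofNat 0, Int.ofNat 2, Int.ofNat 0, Int.ofNat 2, Int.ofNat 0, Int.ofNat 0, Int.ofNat 0, Int.ofNat 2, Int.ofNat 0, Int.ofNat 2, Int.negSucc 1, Int.ofNat 2, Int.ofNat 0, Int.negSucc 1, Int.ofNat 0],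
  [Int.ofNat 0, Int.ofNat 2, Int.ofNat 0, Int.ofNat 0, Int.ofNat 2, Int.ofNat 0, Int.ofNat 0, Int.ofNat 2, Int.ofNat 2, Int.ofNat 0, Int.ofNat 2, Int.ofNat 0, Int.ofNat 0, Int.ofNat 2, Int.negSucc 1, Int.ofNat 0, Int.ofNat 0, Int.ofNat 0, Int.ofNat 0, Int.ofNat 0, Int.ofNat 0, Int.ofNat 0, Int.negSucc 1, Int.ofNat 0],
  [Int.ofNat 1, Int.negSucc 0, Int.ofNat 1, Int.ofNat 1, Int.ofNat 1, Int.ofNat 1, Int.negSucc 0, Int.ofNat 1, Int.ofNat 1, Int.negSucc 0, Int.ofNat 1, Int.negSucc 0, Int.negSucc 0, Int.ofNat 1, Int.negSucc 0, Int.negSucc 0, Int.negSucc 0, Int.ofNat 1, Int.negSucc 0, Int.negSucc 0, Int.negSucc 0, Int.negSucc 0, Int.negSucc 2, Int.ofNat 1],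
  [Int.ofNat 1, Int.negSucc 0, Int.negSucc 0, Int.ofNat 1, Int.ofNat 1, Int.negSucc 0, Int.ofNat 1, Int.ofNat 1, Int.ofNat 1, Int.ofNat 1, Int.negSucc 0, Int.negSucc 0, Int.negSucc 0, Int.ofNat 1, Int.negSucc 0, Int.ofNat 1, Int.negSucc 0, Int.ofNat 1, Int.ofNat 1, Int.negSucc 0, Int.negSucc 0, Int.negSucc 0, Int.ofNat 3, Int.ofNat 1],
  [Int.negSucc 0, Int.ofNat 1, Int.negSucc 0, Int.ofNat 1, Int.ofNat 1, Int.ofNat 1, Int.ofNat 1, Int.negSucc 0, Int.negSucc 0, Int.negSucc 0, Int.ofNat 1, Int.ofNat 1, Int.ofNat 3, Int.ofNat 1, Int.negSucc 0, Int.negSucc 0, Int.negSucc 0, Int.negSucc 0, Int.ofNat 1, Int.negSucc 0, Int.ofNat 1, Int.ofNat 1, Int.negSucc 0, Int.ofNat 1],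
  [Int.negSucc 0, Int.ofNat 1, Int.ofNat 1, Int.ofNat 1, Int.ofNat 1, Int.negSucc 0, Int.negSucc 0, Int.negSucc 0, Int.negSucc 0, Int.ofNat 1, Int.negSucc 0, Int.ofNat 1, Int.ofNat 3, Int.ofNat 1, Int.negSucc 0, Int.ofNat 1, Int.negSucc 0, Int.negSucc 0, Int.negSucc 0, Int.negSucc 0, Int.ofNat 1, Int.ofNat 1, Int.ofNat 1, Int.ofNat 1],
  [Int.ofNat 2, Int.ofNat 0, Int.ofNat 0, Int.ofNat 2, Int.ofNat 0, Int.ofNat 0, Int.ofNat 0, Int.ofNat 0, Int.negSucc 1, Int.ofNat 0, Int.negSucc 1, Int.ofNat 0, Int.ofNat 2, Int.ofNat 0, Int.ofNat 0, Int.ofNat 0, Int.negSucc 1, Int.ofNat 0, Int.negSucc 1, Int.ofNat 0, Int.ofNat 0, Int.ofNat 2, Int.ofNat 0, Int.ofNat 0],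
  [Int.ofNat 2, Int.negSucc 1, Int.ofNat 0, Int.ofNat 2, Int.ofNat 0, Int.ofNat 2, Int.ofNat 0, Int.ofNat 0, Int.negSucc 1, Int.ofNat 2, Int.ofNat 0, Int.ofNat 0, Int.negSucc 1, Int.ofNat 0, Int.ofNat 0, Int.ofNat 0, Int.ofNat 0, Int.ofNat 0, Int.ofNat 0, Int.ofNat 0, Int.negSucc 1, Int.ofNat 0, Int.ofNat 0, Int.ofNat 0],
  [Int.negSucc 1, Int.ofNat 2, Int.ofNat 0, Int.ofNat 0, Int.ofNat 0, Int.ofNat 0, Int.ofNat 0, Int.ofNat 0, Int.ofNat 0, Int.ofNat 2, Int.ofNat 0, Int.ofNat 2, Int.ofNat 0, Int.ofNat 0, Int.negSucc 1, Int.ofNat 0, Int.ofNat 0, Int.negSucc 1, Int.ofNat 2, Int.ofNat 0, Int.negSucc 1, Int.ofNat 0, Int.ofNat 0, Int.ofNat 0],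
  [Int.negSucc 1, Int.ofNat 0, Int.ofNat 0, Int.negSucc 1, Int.ofNat 2, Int.ofNat 0, Int.ofNat 0, Int.ofNat 0, Int.ofNat 0, Int.ofNat 0, Int.ofNat 0, Int.ofNat 0, Int.ofNat 2, Int.ofNat 0, Int.ofNat 2, Int.ofNat 0, Int.ofNat 0, Int.negSucc 1, Int.ofNat 0, Int.ofNat 0, Int.negSucc 1, Int.ofNat 2, Int.ofNat 0, Int.ofNat 0],
  [Int.ofNat 1, Int.negSucc 0, Int.negSucc 0, Int.negSucc 0, Int.ofNat 1, Int.ofNat 1, Int.negSucc 0, Int.negSucc 0, Int.negSucc 0, Int.ofNat 1, Int.ofNat 1, Int.negSucc 0, Int.ofNat 1, Int.negSucc 0, Int.ofNat 3, Int.ofNat 1, Int.negSucc 0, Int.negSucc 0, Int.negSucc 0, Int.negSucc 0, Int.negSucc 0, Int.ofNat 1, Int.negSucc 0, Int.negSucc 0],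
  [Int.negSucc 0, Int.negSucc 0, Int.negSucc 0, Int.ofNat 1, Int.ofNat 1, Int.negSucc 0, Int.negSucc 0, Int.negSucc 0, Int.ofNat 1, Int.ofNat 1, Int.negSucc 0, Int.ofNat 1, Int.negSucc 0, Int.ofNat 3, Int.ofNat 1, Int.negSucc 0, Int.negSucc 0, Int.negSucc 0, Int.negSucc 0, Int.negSucc 0, Int.ofNat 1, Int.negSucc 0, Int.ofNat 1, Int.negSucc 0],
  [Int.ofNat 1, Int.negSucc 0, Int.ofNat 1, Int.ofNat 1, Int.ofNat 1, Int.negSucc 0, Int.negSucc 0, Int.ofNat 1, Int.ofNat 1, Int.negSucc 0, Int.ofNat 1, Int.negSucc 0, Int.negSucc 0, Int.ofNat 3, Int.ofNat 1, Int.negSucc 0, Int.negSucc 0, Int.negSucc 0, Int.ofNat 1, Int.negSucc 0, Int.ofNat 1, Int.ofNat 1, Int.ofNat 1, Int.negSucc 0],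
  [Int.negSucc 0, Int.ofNat 1, Int.negSucc 0, Int.negSucc 0, Int.negSucc 0, Int.negSucc 0, Int.ofNat 1, Int.ofNat 1, Int.negSucc 0, Int.ofNat 1, Int.ofNat 1, Int.negSucc 0, Int.ofNat 1, Int.negSucc 2, Int.ofNat 1, Int.negSucc 0, Int.ofNat 1, Int.negSucc 0, Int.negSucc 0, Int.negSucc 0, Int.ofNat 1, Int.ofNat 1, Int.ofNat 1, Int.negSucc 0],
  [Int.negSucc 0, Int.negSucc 0, Int.negSucc 0, Int.negSucc 0, Int.ofNat 1, Int.ofNat 1, Int.negSucc 0, Int.ofNat 1, Int.ofNat 1, Int.ofNat 1, Int.ofNat 1, Int.ofNat 1, Int.negSucc 2, Int.negSucc 0, Int.negSucc 0, Int.negSucc 0, Int.ofNat 1, Int.ofNat 1, Int.ofNat 1, Int.negSucc 0, Int.negSucc 0, Int.ofNat 1, Int.negSucc 0, Int.negSucc 0],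
  [Int.ofNat 1, Int.negSucc 0, Int.ofNat 1, Int.negSucc 0, Int.ofNat 1, Int.ofNat 1, Int.negSucc 0, Int.negSucc 0, Int.ofNat 1, Int.negSucc 0, Int.negSucc 0, Int.negSucc 0, Int.negSucc 2, Int.negSucc 0, Int.negSucc 0, Int.negSucc 0, Int.ofNat 1, Int.ofNat 1, Int.negSucc 0, Int.negSucc 0, Int.negSucc 0, Int.negSucc 0, Int.negSucc 0, Int.negSucc 0],
  [Int.negSucc 0, Int.ofNat 1, Int.negSucc 0, Int.ofNat 1, Int.negSucc 0, Int.ofNat 1, Int.ofNat 1, Int.negSucc 0, Int.negSucc 0, Int.ofNat 1, Int.negSucc 0, Int.negSucc 0, Int.negSucc 0, Int.negSucc 2, Int.negSucc 0, Int.negSucc 0, Int.negSucc 0, Int.ofNat 1, Int.ofNat 1, Int.negSucc 0, Int.negSucc 0, Int.negSucc 0, Int.negSucc 0, Int.negSucc 0],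
  [Int.ofNat 0, Int.negSucc 1, Int.ofNat 0, Int.ofNat 0, Int.ofNat 2, Int.ofNat 0, Int.ofNat 2, Int.ofNat 0, Int.ofNat 0, Int.ofNat 2, Int.ofNat 0, Int.ofNat 0, Int.ofNat 0, Int.ofNat 0, Int.negSucc 1, Int.ofNat 0, Int.ofNat 2, Int.ofNat 0, Int.ofNat 2, Int.ofNat 0, Int.ofNat 0, Int.ofNat 0, Int.ofNat 2, Int.ofNat 0],
  [Int.ofNat 0, Int.ofNat 2, Int.ofNat 0, Int.ofNat 2, Int.ofNat 0, Int.ofNat 0, Int.ofNat 2, Int.ofNat 0, Int.ofNat 0, Int.ofNat 0, Int.ofNat 0, Int.negSucc 1, Int.ofNat 0, Int.ofNat 2, Int.ofNat 0, Int.ofNat 2, Int.ofNat 0, Int.ofNat 0, Int.ofNat 0, Int.ofNat 2, Int.ofNat 0, Int.negSucc 1, Int.ofNat 0, Int.ofNat 0],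
  [Int.ofNat 1, Int.negSucc 0, Int.ofNat 1, Int.ofNat 1, Int.negSucc 0, Int.negSucc 0, Int.ofNat 1, Int.negSucc 0, Int.ofNat 1, Int.negSucc 0, Int.negSucc 0, Int.negSucc 0, Int.ofNat 1, Int.ofNat 1, Int.negSucc 0, Int.ofNat 1, Int.negSucc 0, Int.negSucc 0, Int.ofNat 1, Int.ofNat 1, Int.negSucc 0, Int.negSucc 2, Int.negSucc 0, Int.ofNat 1],
  [Int.ofNat 1, Int.ofNat 1, Int.negSucc 0, Int.ofNat 1, Int.ofNat 1, Int.negSucc 0, Int.ofNat 1, Int.negSucc 0, Int.ofNat 1, Int.ofNat 1, Int.negSucc 0, Int.negSucc 0, Int.negSucc 0, Int.negSucc 0, Int.negSucc 0, Int.ofNat 1, Int.ofNat 1, Int.negSucc 0, Int.negSucc 0, Int.negSucc 0, Int.negSucc 2, Int.negSucc 0, Int.ofNat 1, Int.ofNat 1],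
  [Int.ofNat 0, Int.ofNat 0, Int.ofNat 2, Int.ofNat 2, Int.ofNat 0, Int.ofNat 0, Int.ofNat 2, Int.ofNat 0, Int.ofNat 2, Int.ofNat 2, Int.ofNat 0, Int.ofNat 0, Int.ofNat 0, Int.negSucc 1, Int.ofNat 0, Int.ofNat 2, Int.ofNat 0, Int.ofNat 0, Int.ofNat 0, Int.ofNat 0, Int.negSucc 1, Int.ofNat 0, Int.ofNat 0, Int.ofNat 0],
  [Int.ofNat 0, Int.ofNat 0, Int.negSucc 1, Int.ofNat 2, Int.ofNat 0, Int.ofNat 0, Int.negSucc 1, Int.ofNat 0, Int.ofNat 2, Int.negSucc 1, Int.ofNat 0, Int.ofNat 0, Int.ofNat 0, Int.negSucc 1, Int.ofNat 0, Int.negSucc 1, Int.ofNat 0, Int.ofNat 0, Int.ofNat 0, Int.ofNat 0, Int.negSucc 1, Int.ofNat 0, Int.ofNat 0, Int.ofNat 0],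
  [Int.ofNat 0, Int.ofNat 0, Int.ofNat 0, Int.ofNat 2, Int.ofNat 0, Int.negSucc 1, Int.ofNat 0, Int.ofNat 2, Int.ofNat 0, Int.negSucc 1, Int.negSucc 1, Int.ofNat 0, Int.negSucc 1, Int.ofNat 0, Int.ofNat 0, Int.ofNat 0, Int.ofNat 0, Int.ofNat 0, Int.negSucc 1, Int.negSucc 1, Int.ofNat 0, Int.ofNat 0, Int.ofNat 0, Int.ofNat 0],
  [Int.ofNat 0, Int.ofNat 0, Int.ofNat 0, Int.ofNat 0, Int.ofNat 0, Int.negSucc 1, Int.negSucc 1, Int.ofNat 0, Int.ofNat 0, Int.negSucc 1, Int.ofNat 0, Int.ofNat 0, Int.ofNat 0, Int.ofNat 2, Int.negSucc 1, Int.ofNat 2, Int.negSucc 1, Int.ofNat 0, Int.ofNat 0, Int.ofNat 0, Int.ofNat 0, Int.negSucc 1, Int.ofNat 0, Int.ofNat 0],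
  [Int.ofNat 0, Int.ofNat 0, Int.ofNat 0, Int.ofNat 0, Int.ofNat 0, Int.negSucc 1, Int.negSucc 1, Int.ofNat 0, Int.ofNat 0, Int.ofNat 2, Int.ofNat 0, Int.ofNat 0, Int.ofNat 0, Int.ofNat 2, Int.negSucc 1, Int.ofNat 2, Int.negSucc 1, Int.ofNat 0, Int.ofNat 0, Int.ofNat 0, Int.ofNat 0, Int.ofNat 2, Int.ofNat 0, Int.ofNat 0],
  [Int.ofNat 0, Int.ofNat 0, Int.ofNat 0, Int.ofNat 0, Int.ofNat 0, Int.ofNat 0, Int.negSucc 1, Int.negSucc 1, Int.ofNat 0, Int.ofNat 0, Int.ofNat 2, Int.ofNat 0, Int.ofNat 0, Int.ofNat 0, Int.ofNat 2, Int.negSucc 1, Int.ofNat 2, Int.negSucc 1, Int.ofNat 0, Int.ofNat 0, Int.ofNat 0, Int.ofNat 0, Int.ofNat 2, Int.ofNat 0],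
  [Int.ofNat 0, Int.ofNat 0, Int.ofNat 0, Int.ofNat 0, Int.negSucc 1, Int.ofNat 0, Int.ofNat 0, Int.ofNat 0, Int.ofNat 0, Int.ofNat 0, Int.ofNat 2, Int.ofNat 0, Int.ofNat 0, Int.negSucc 1, Int.ofNat 2, Int.negSucc 1, Int.ofNat 0, Int.negSucc 1, Int.ofNat 0, Int.ofNat 2, Int.ofNat 0, Int.ofNat 2, Int.ofNat 0, Int.ofNat 0],
  [Int.ofNat 0, Int.negSucc 1, Int.ofNat 0, Int.ofNat 0, Int.ofNat 0, Int.ofNat 0, Int.ofNat 0, Int.ofNat 2, Int.ofNat 0, Int.ofNat 0, Int.negSucc 1, Int.ofNat 2, Int.negSucc 1, Int.ofNat 0, Int.negSucc 1, Int.ofNat 0, Int.ofNat 2, Int.ofNat 0, Int.ofNat 2, Int.ofNat 0, Int.ofNat 0, Int.ofNat 0, Int.ofNat 0, Int.ofNat 0],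
  [Int.negSucc 0, Int.ofNat 1, Int.negSucc 0, Int.ofNat 1, Int.negSucc 0, Int.ofNat 1, Int.negSucc 0, Int.ofNat 1, Int.negSucc 0, Int.ofNat 1, Int.negSucc 0, Int.ofNat 1, Int.negSucc 2, Int.negSucc 0, Int.negSucc 0, Int.ofNat 1, Int.ofNat 1, Int.ofNat 1, Int.ofNat 1, Int.negSucc 0, Int.ofNat 1, Int.negSucc 0, Int.negSucc 0, Int.negSucc 0],
  [Int.negSucc 0, Int.negSucc 0, Int.negSucc 0, Int.ofNat 1, Int.ofNat 1, Int.ofNat 1, Int.negSucc 0, Int.negSucc 0, Int.negSucc 2, Int.negSucc 0, Int.ofNat 1, Int.ofNat 1, Int.ofNat 1, Int.ofNat 1, Int.negSucc 0, Int.ofNat 1, Int.negSucc 0, Int.negSucc 0, Int.ofNat 1, Int.ofNat 1, Int.negSucc 0, Int.ofNat 1, Int.negSucc 0, Int.negSucc 0],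
  [Int.negSucc 0, Int.negSucc 0, Int.negSucc 0, Int.ofNat 1, Int.ofNat 1, Int.ofNat 1, Int.negSucc 0, Int.negSucc 0, Int.negSucc 2, Int.negSucc 0, Int.ofNat 1, Int.ofNat 1, Int.ofNat 1, Int.ofNat 1, Int.negSucc 0, Int.ofNat 1, Int.negSucc 0, Int.negSucc 0, Int.ofNat 1, Int.ofNat 1, Int.negSucc 0, Int.ofNat 1, Int.negSucc 0, Int.negSucc 0],
  [Int.negSucc 0, Int.negSucc 0, Int.ofNat 1, Int.ofNat 1, Int.ofNat 1, Int.negSucc 0, Int.ofNat 1, Int.negSucc 0, Int.negSucc 2, Int.ofNat 1, Int.negSucc 0, Int.ofNat 1, Int.ofNat 1, Int.ofNat 1, Int.negSucc 0, Int.negSucc 0, Int.negSucc 0, Int.negSucc 0, Int.negSucc 0, Int.ofNat 1, Int.negSucc 0, Int.ofNat 1, Int.ofNat 1, Int.negSucc 0],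
  [Int.ofNat 1, Int.negSucc 2, Int.negSucc 0, Int.negSucc 0, Int.ofNat 1, Int.ofNat 1, Int.ofNat 1, Int.ofNat 1, Int.negSucc 0, Int.negSucc 0, Int.ofNat 1, Int.ofNat 1, Int.ofNat 1, Int.negSucc 0, Int.negSucc 0, Int.ofNat 1, Int.ofNat 1, Int.ofNat 1, Int.negSucc 0, Int.negSucc 0, Int.negSucc 0, Int.negSucc 0, Int.negSucc 0, Int.negSucc 0],
  [Int.ofNat 1, Int.negSucc 2, Int.ofNat 1, Int.negSucc 0, Int.ofNat 1, Int.negSucc 0, Int.negSucc 0, Int.ofNat 1, Int.negSucc 0, Int.ofNat 1, Int.negSucc 0, Int.ofNat 1, Int.ofNat 1, Int.negSucc 0, Int.negSucc 0, Int.negSucc 0, Int.ofNat 1, Int.ofNat 1, Int.ofNat 1, Int.negSucc 0, Int.negSucc 0, Int.negSucc 0, Int.ofNat 1, Int.negSucc 0],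
  [Int.negSucc 1, Int.ofNat 2, Int.negSucc 1, Int.ofNat 0, Int.ofNat 0, Int.ofNat 0, Int.ofNat 0, Int.ofNat 2, Int.negSucc 1, Int.ofNat 2, Int.ofNat 0, Int.ofNat 0, Int.ofNat 0, Int.negSucc 1, Int.ofNat 0, Int.ofNat 0, Int.ofNat 0, Int.ofNat 2, Int.ofNat 0, Int.ofNat 0, Int.ofNat 0, Int.ofNat 0, Int.ofNat 0, Int.ofNat 0],
  [Int.negSucc 1, Int.ofNat 0, Int.ofNat 0, Int.ofNat 0, Int.negSucc 1, Int.ofNat 0, Int.ofNat 2, Int.ofNat 0, Int.ofNat 0, Int.ofNat 0, Int.ofNat 2, Int.ofNat 0, Int.negSucc 1, Int.ofNat 2, Int.ofNat 2, Int.ofNat 0, Int.negSucc 1, Int.ofNat 0, Int.ofNat 0, Int.ofNat 0, Int.ofNat 0, Int.ofNat 0, Int.ofNat 0, Int.ofNat 0],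
  [Int.ofNat 1, Int.negSucc 0, Int.negSucc 0, Int.negSucc 0, Int.negSucc 0, Int.negSucc 0, Int.ofNat 1, Int.negSucc 0, Int.ofNat 1, Int.negSucc 0, Int.ofNat 1, Int.ofNat 1, Int.negSucc 0, Int.ofNat 3, Int.ofNat 1, Int.negSucc 0, Int.negSucc 0, Int.negSucc 0, Int.ofNat 1, Int.negSucc 0, Int.negSucc 0, Int.negSucc 0, Int.ofNat 1, Int.negSucc 0],
  [Int.negSucc 0, Int.negSucc 0, Int.ofNat 1, Int.ofNat 1, Int.negSucc 0, Int.negSucc 0, Int.negSucc 0, Int.negSucc 0, Int.negSucc 0, Int.ofNat 1, Int.negSucc 0, Int.ofNat 1, Int.negSucc 0, Int.ofNat 1, Int.ofNat 1, Int.negSucc 0, Int.ofNat 3, Int.ofNat 1, Int.negSucc 0, Int.negSucc 0, Int.negSucc 0, Int.ofNat 1, Int.negSucc 0, Int.negSucc 0],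
  [Int.ofNat 0, Int.ofNat 0, Int.negSucc 1, Int.ofNat 0, Int.negSucc 1, Int.negSucc 1, Int.ofNat 0, Int.ofNat 0, Int.ofNat 0, Int.ofNat 2, Int.ofNat 0, Int.ofNat 2, Int.ofNat 0, Int.ofNat 0, Int.ofNat 0, Int.ofNat 0, Int.ofNat 2, Int.ofNat 0, Int.ofNat 0, Int.ofNat 0, Int.ofNat 0, Int.ofNat 2, Int.negSucc 1, Int.ofNat 0],
  [Int.ofNat 0, Int.negSucc 1, Int.ofNat 0, Int.negSucc 1, Int.negSucc 1, Int.ofNat 0, Int.ofNat 0, Int.ofNat 0, Int.ofNat 2, Int.ofNat 0, Int.ofNat 2, Int.ofNat 0, Int.ofNat 0, Int.ofNat 0, Int.ofNat 0, Int.ofNat 2, Int.ofNat 0, Int.ofNat 0, Int.ofNat 0, Int.ofNat 0, Int.ofNat 2, Int.negSucc 1, Int.ofNat 0, Int.ofNat 0],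
  [Int.ofNat 0, Int.negSucc 1, Int.ofNat 0, Int.negSucc 1, Int.negSucc 1, Int.ofNat 0, Int.ofNat 0, Int.ofNat 0, Int.ofNat 2, Int.ofNat 0, Int.negSucc 1, Int.ofNat 0, Int.ofNat 0, Int.ofNat 0, Int.ofNat 0, Int.ofNat 2, Int.ofNat 0, Int.ofNat 0, Int.ofNat 0, Int.ofNat 0, Int.ofNat 2, Int.ofNat 2, Int.ofNat 0, Int.ofNat 0],
  [Int.ofNat 0, Int.ofNat 2, Int.ofNat 0, Int.ofNat 2, Int.ofNat 2, Int.ofNat 0, Int.ofNat 0, Int.ofNat 0, Int.negSucc 1, Int.ofNat 0, Int.negSucc 1, Int.ofNat 0, Int.ofNat 0, Int.ofNat 0, Int.ofNat 0, Int.ofNat 2, Int.ofNat 0, Int.ofNat 0, Int.ofNat 0, Int.ofNat 0, Int.ofNat 2, Int.ofNat 2, Int.ofNat 0, Int.ofNat 0],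
  [Int.ofNat 0, Int.ofNat 0, Int.ofNat 0, Int.ofNat 2, Int.ofNat 2, Int.negSucc 1, Int.ofNat 2, Int.ofNat 2, Int.ofNat 0, Int.ofNat 0, Int.ofNat 2, Int.ofNat 0, Int.ofNat 0, Int.negSucc 1, Int.ofNat 0, Int.ofNat 2, Int.ofNat 0, Int.ofNat 0, Int.ofNat 0, Int.ofNat 0, Int.ofNat 0, Int.ofNat 0, Int.ofNat 0, Int.ofNat 0],
  [Int.ofNat 0, Int.ofNat 0, Int.ofNat 0, Int.ofNat 2, Int.ofNat 2, Int.negSucc 1, Int.ofNat 2, Int.negSucc 1, Int.ofNat 0, Int.ofNat 0, Int.negSucc 1, Int.ofNat 0, Int.ofNat 0, Int.negSucc 1, Int.ofNat 0, Int.ofNat 2, Int.ofNat 0, Int.ofNat 0, Int.ofNat 0, Int.ofNat 0, Int.ofNat 0, Int.ofNat 0, Int.ofNat 0, Int.ofNat 0],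
  [Int.ofNat 0, Int.ofNat 0, Int.ofNat 0, Int.ofNat 0, Int.ofNat 2, Int.ofNat 2, Int.negSucc 1, Int.ofNat 2, Int.negSucc 1, Int.ofNat 0, Int.ofNat 0, Int.negSucc 1, Int.ofNat 0, Int.ofNat 0, Int.negSucc 1, Int.ofNat 0, Int.ofNat 2, Int.ofNat 0, Int.ofNat 0, Int.ofNat 0, Int.ofNat 0, Int.ofNat 0, Int.ofNat 0, Int.ofNat 0],
  [Int.ofNat 0, Int.ofNat 0, Int.ofNat 0, Int.ofNat 0, Int.ofNat 0, Int.ofNat 2, Int.negSucc 1, Int.ofNat 2, Int.ofNat 0, Int.ofNat 0, Int.ofNat 0, Int.ofNat 0, Int.ofNat 2, Int.negSucc 1, Int.negSucc 1, Int.ofNat 0, Int.ofNat 0, Int.ofNat 0, Int.ofNat 2, Int.ofNat 0, Int.ofNat 0, Int.ofNat 0, Int.negSucc 1, Int.ofNat 0],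
  [Int.ofNat 0, Int.ofNat 0, Int.ofNat 2, Int.negSucc 1, Int.ofNat 2, Int.ofNat 0, Int.ofNat 0, Int.ofNat 0, Int.ofNat 0, Int.ofNat 2, Int.negSucc 1, Int.negSucc 1, Int.ofNat 0, Int.ofNat 0, Int.ofNat 0, Int.ofNat 2, Int.ofNat 0, Int.ofNat 0, Int.ofNat 0, Int.negSucc 1, Int.ofNat 0, Int.ofNat 0, Int.ofNat 0, Int.ofNat 0],
  [Int.ofNat 1, Int.ofNat 1, Int.negSucc 0, Int.negSucc 0, Int.ofNat 1, Int.ofNat 1, Int.ofNat 1, Int.ofNat 1, Int.ofNat 1, Int.ofNat 1, Int.negSucc 2, Int.negSucc 0, Int.ofNat 1, Int.negSucc 0, Int.ofNat 1, Int.ofNat 1, Int.negSucc 0, Int.ofNat 1, Int.ofNat 1, Int.negSucc 0, Int.negSucc 0, Int.ofNat 1, Int.negSucc 0, Int.ofNat 1],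
  [Int.ofNat 1, Int.ofNat 1, Int.ofNat 1, Int.negSucc 0, Int.ofNat 1, Int.ofNat 1, Int.negSucc 0, Int.negSucc 2, Int.ofNat 1, Int.negSucc 0, Int.negSucc 0, Int.ofNat 1, Int.ofNat 1, Int.negSucc 0, Int.negSucc 0, Int.ofNat 1, Int.ofNat 1, Int.ofNat 1, Int.ofNat 1, Int.negSucc 0, Int.ofNat 1, Int.ofNat 1, Int.negSucc 0, Int.ofNat 1],
  [Int.ofNat 1, Int.ofNat 1, Int.ofNat 1, Int.negSucc 0, Int.ofNat 1, Int.ofNat 1, Int.ofNat 1, Int.negSucc 0, Int.negSucc 0, Int.negSucc 0, Int.negSucc 0, Int.negSucc 0, Int.negSucc 0, Int.negSucc 0, Int.negSucc 0, Int.ofNat 1, Int.ofNat 1, Int.ofNat 1, Int.negSucc 0, Int.ofNat 1, Int.ofNat 1, Int.ofNat 3, Int.negSucc 0, Int.ofNat 1],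
  [Int.ofNat 1, Int.ofNat 1, Int.negSucc 0, Int.negSucc 0, Int.ofNat 1, Int.negSucc 0, Int.negSucc 0, Int.negSucc 0, Int.negSucc 0, Int.ofNat 1, Int.ofNat 1, Int.negSucc 0, Int.negSucc 0, Int.negSucc 0, Int.negSucc 0, Int.negSucc 0, Int.ofNat 1, Int.ofNat 1, Int.ofNat 1, Int.ofNat 1, Int.ofNat 1, Int.ofNat 3, Int.ofNat 1, Int.ofNat 1],
  [Int.ofNat 1, Int.ofNat 1, Int.negSucc 0, Int.negSucc 0, Int.negSucc 0, Int.negSucc 0, Int.ofNat 3, Int.negSucc 0, Int.negSucc 0, Int.ofNat 1, Int.negSucc 0, Int.negSucc 0, Int.negSucc 0, Int.ofNat 1, Int.ofNat 1, Int.ofNat 1, Int.ofNat 1, Int.negSucc 0, Int.ofNat 1, Int.negSucc 0, Int.ofNat 1, Int.ofNat 1, Int.ofNat 1, Int.ofNat 1],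
  [Int.ofNat 1, Int.ofNat 1, Int.negSucc 0, Int.ofNat 1, Int.negSucc 0, Int.ofNat 1, Int.negSucc 0, Int.ofNat 1, Int.ofNat 1, Int.negSucc 0, Int.ofNat 1, Int.negSucc 0, Int.ofNat 1, Int.negSucc 0, Int.ofNat 1, Int.negSucc 0, Int.negSucc 0, Int.negSucc 0, Int.ofNat 1, Int.ofNat 3, Int.negSucc 0, Int.negSucc 0, Int.ofNat 1, Int.ofNat 1],
  [Int.negSucc 0, Int.ofNat 1, Int.ofNat 1, Int.ofNat 1, Int.negSucc 0, Int.ofNat 1, Int.negSucc 0, Int.negSucc 0, Int.ofNat 1, Int.ofNat 1, Int.negSucc 0, Int.ofNat 1, Int.ofNat 1, Int.negSucc 0, Int.ofNat 1, Int.negSucc 0, Int.negSucc 0, Int.negSucc 0, Int.negSucc 0, Int.ofNat 3, Int.negSucc 0, Int.ofNat 1, Int.ofNat 1, Int.ofNat 1],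
  [Int.ofNat 1, Int.negSucc 0, Int.ofNat 1, Int.ofNat 1, Int.ofNat 1, Int.negSucc 0, Int.ofNat 1, Int.negSucc 0, Int.negSucc 0, Int.ofNat 1, Int.ofNat 1, Int.negSucc 0, Int.ofNat 1, Int.ofNat 1, Int.negSucc 0, Int.ofNat 1, Int.negSucc 0, Int.negSucc 0, Int.negSucc 0, Int.negSucc 0, Int.ofNat 3, Int.negSucc 0, Int.ofNat 1, Int.ofNat 1],
  [Int.ofNat 0, Int.ofNat 2, Int.ofNat 0, Int.ofNat 2, Int.ofNat 0, Int.ofNat 0, Int.ofNat 2, Int.ofNat 0, Int.ofNat 0, Int.negSucc 1, Int.negSucc 1, Int.ofNat 0, Int.ofNat 2, Int.ofNat 0, Int.ofNat 0, Int.negSucc 1, Int.negSucc 1, Int.ofNat 0, Int.ofNat 0, Int.ofNat 0, Int.ofNat 0, Int.ofNat 0, Int.ofNat 0, Int.ofNat 0],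
  [Int.ofNat 2, Int.ofNat 0, Int.ofNat 0, Int.ofNat 2, Int.ofNat 0, Int.ofNat 0, Int.negSucc 1, Int.negSucc 1, Int.ofNat 0, Int.ofNat 2, Int.ofNat 0, Int.ofNat 0, Int.negSucc 1, Int.negSucc 1, Int.ofNat 0, Int.ofNat 0, Int.ofNat 0, Int.ofNat 0, Int.ofNat 0, Int.ofNat 0, Int.ofNat 0, Int.ofNat 2, Int.ofNat 0, Int.ofNat 0],
  [Int.negSucc 0, Int.ofNat 1, Int.ofNat 1, Int.ofNat 1, Int.ofNat 1, Int.negSucc 0, Int.negSucc 0, Int.negSucc 0, Int.ofNat 1, Int.ofNat 1, Int.negSucc 0, Int.ofNat 1, Int.negSucc 0, Int.negSucc 0, Int.negSucc 0, Int.negSucc 0, Int.ofNat 1, Int.negSucc 0, Int.ofNat 1, Int.ofNat 1, Int.negSucc 0, Int.ofNat 3, Int.ofNat 1, Int.ofNat 1],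
  [Int.negSucc 0, Int.negSucc 0, Int.ofNat 1, Int.ofNat 1, Int.ofNat 1, Int.negSucc 0, Int.ofNat 1, Int.negSucc 0, Int.negSucc 0, Int.negSucc 0, Int.negSucc 0, Int.negSucc 0, Int.ofNat 1, Int.ofNat 1, Int.ofNat 1, Int.negSucc 0, Int.ofNat 1, Int.negSucc 0, Int.ofNat 1, Int.ofNat 1, Int.ofNat 3, Int.negSucc 0, Int.ofNat 1, Int.ofNat 1],
  [Int.ofNat 1, Int.ofNat 1, Int.negSucc 0, Int.ofNat 1, Int.negSucc 0, Int.negSucc 0, Int.ofNat 1, Int.negSucc 0, Int.negSucc 0, Int.negSucc 0, Int.negSucc 0, Int.negSucc 0, Int.ofNat 1, Int.negSucc 0, Int.ofNat 1, Int.negSucc 0, Int.negSucc 0, Int.negSucc 0, Int.ofNat 1, Int.ofNat 1, Int.ofNat 3, Int.negSucc 0, Int.negSucc 0, Int.negSucc 0],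
  [Int.ofNat 1, Int.ofNat 1, Int.ofNat 1, Int.ofNat 1, Int.negSucc 0, Int.ofNat 1, Int.negSucc 0, Int.negSucc 0, Int.negSucc 0, Int.ofNat 1, Int.ofNat 1, Int.negSucc 0, Int.ofNat 1, Int.negSucc 0, Int.ofNat 1, Int.ofNat 1, Int.negSucc 0, Int.negSucc 0, Int.negSucc 0, Int.ofNat 1, Int.ofNat 3, Int.negSucc 0, Int.ofNat 1, Int.negSucc 0],
  [Int.negSucc 0, Int.negSucc 0, Int.negSucc 0, Int.ofNat 1, Int.ofNat 1, Int.negSucc 0, Int.negSucc 0, Int.ofNat 1, Int.ofNat 1, Int.ofNat 1, Int.negSucc 0, Int.ofNat 1, Int.ofNat 1, Int.negSucc 0, Int.ofNat 3, Int.ofNat 1, Int.negSucc 0, Int.ofNat 1, Int.ofNat 1, Int.ofNat 1, Int.negSucc 0, Int.negSucc 0, Int.ofNat 1, Int.negSucc 0],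
  [Int.negSucc 0, Int.negSucc 0, Int.ofNat 1, Int.ofNat 1, Int.ofNat 1, Int.ofNat 1, Int.ofNat 1, Int.ofNat 1, Int.ofNat 1, Int.negSucc 0, Int.ofNat 1, Int.ofNat 1, Int.ofNat 1, Int.negSucc 0, Int.ofNat 3, Int.negSucc 0, Int.negSucc 0, Int.ofNat 1, Int.negSucc 0, Int.ofNat 1, Int.negSucc 0, Int.negSucc 0, Int.negSucc 0, Int.negSucc 0],
  [Int.ofNat 0, Int.ofNat 0, Int.negSucc 1, Int.negSucc 1, Int.ofNat 2, Int.negSucc 1, Int.ofNat 0, Int.ofNat 0, Int.ofNat 0, Int.ofNat 0, Int.ofNat 2, Int.ofNat 0, Int.ofNat 0, Int.ofNat 0, Int.ofNat 0, Int.ofNat 0, Int.ofNat 0, Int.negSucc 1, Int.negSucc 1, Int.ofNat 0, Int.ofNat 0, Int.negSucc 1, Int.ofNat 0, Int.ofNat 0],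
  [Int.ofNat 0, Int.negSucc 1, Int.ofNat 0, Int.negSucc 1, Int.negSucc 1, Int.negSucc 1, Int.ofNat 0, Int.negSucc 1, Int.ofNat 0, Int.ofNat 0, Int.ofNat 0, Int.ofNat 0, Int.ofNat 0, Int.ofNat 0, Int.negSucc 1, Int.ofNat 0, Int.ofNat 0, Int.ofNat 0, Int.ofNat 2, Int.ofNat 0, Int.ofNat 2, Int.ofNat 0, Int.ofNat 0, Int.ofNat 0],
  [Int.negSucc 0, Int.ofNat 1, Int.negSucc 0, Int.ofNat 1, Int.negSucc 0, Int.ofNat 1, Int.ofNat 1, Int.negSucc 0, Int.negSucc 0, Int.negSucc 0, Int.negSucc 0, Int.negSucc 0, Int.negSucc 0, Int.ofNat 1, Int.ofNat 1, Int.negSucc 0, Int.ofNat 1, Int.ofNat 3, Int.ofNat 1, Int.ofNat 1, Int.ofNat 1, Int.ofNat 1, Int.ofNat 1, Int.negSucc 0],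
  [Int.ofNat 1, Int.ofNat 1, Int.ofNat 1, Int.negSucc 0, Int.ofNat 1, Int.negSucc 0, Int.ofNat 1, Int.negSucc 0, Int.ofNat 1, Int.ofNat 1, Int.negSucc 0, Int.negSucc 0, Int.negSucc 0, Int.negSucc 0, Int.negSucc 0, Int.negSucc 0, Int.ofNat 1, Int.ofNat 1, Int.negSucc 0, Int.ofNat 1, Int.ofNat 3, Int.ofNat 1, Int.ofNat 1, Int.negSucc 0],
  [Int.ofNat 0, Int.ofNat 0, Int.ofNat 0, Int.ofNat 0, Int.ofNat 0, Int.ofNat 0, Int.ofNat 0, Int.negSucc 1, Int.ofNat 2, Int.ofNat 0, Int.negSucc 1, Int.ofNat 0, Int.ofNat 0, Int.negSucc 1, Int.ofNat 0, Int.negSucc 1, Int.ofNat 0, Int.ofNat 2, Int.ofNat 0, Int.ofNat 0, Int.ofNat 2, Int.ofNat 0, Int.ofNat 0, Int.ofNat 2],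
  [Int.ofNat 0, Int.ofNat 0, Int.ofNat 0, Int.ofNat 0, Int.ofNat 0, Int.ofNat 0, Int.negSucc 1, Int.ofNat 2, Int.ofNat 0, Int.negSucc 1, Int.ofNat 0, Int.ofNat 0, Int.negSucc 1, Int.ofNat 0, Int.negSucc 1, Int.ofNat 0, Int.ofNat 2, Int.ofNat 0, Int.ofNat 0, Int.ofNat 2, Int.ofNat 0, Int.ofNat 0, Int.ofNat 0, Int.ofNat 2],
  [Int.ofNat 0, Int.ofNat 0, Int.ofNat 0, Int.ofNat 0, Int.ofNat 0, Int.ofNat 0, Int.negSucc 1, Int.negSucc 1, Int.ofNat 0, Int.ofNat 2, Int.ofNat 0, Int.ofNat 0, Int.negSucc 1, Int.ofNat 0, Int.negSucc 1, Int.ofNat 0, Int.ofNat 2, Int.ofNat 0, Int.ofNat 0, Int.ofNat 2, Int.ofNat 0, Int.ofNat 0, Int.ofNat 0, Int.ofNat 2],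
  [Int.ofNat 0, Int.ofNat 0, Int.ofNat 0, Int.ofNat 0, Int.ofNat 0, Int.ofNat 0, Int.ofNat 2, Int.negSucc 1, Int.ofNat 0, Int.negSucc 1, Int.ofNat 0, Int.ofNat 0, Int.ofNat 2, Int.ofNat 0, Int.negSucc 1, Int.ofNat 0, Int.negSucc 1, Int.ofNat 0, Int.ofNat 0, Int.ofNat 2, Int.ofNat 0, Int.ofNat 0, Int.ofNat 0, Int.ofNat 2],
  [Int.ofNat 0, Int.ofNat 0, Int.ofNat 0, Int.ofNat 0, Int.ofNat 0, Int.ofNat 0, Int.ofNat 0, Int.ofNat 0, Int.negSucc 1, Int.negSucc 1, Int.ofNat 0, Int.negSucc 1, Int.ofNat 0, Int.ofNat 0, Int.ofNat 2, Int.ofNat 0, Int.ofNat 2, Int.ofNat 0, Int.ofNat 2, Int.ofNat 0, Int.ofNat 0, Int.negSucc 1, Int.ofNat 0, Int.ofNat 2],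
  [Int.ofNat 0, Int.ofNat 0, Int.ofNat 0, Int.ofNat 0, Int.ofNat 0, Int.ofNat 0, Int.ofNat 0, Int.ofNat 0, Int.negSucc 1, Int.ofNat 2, Int.ofNat 0, Int.ofNat 2, Int.ofNat 0, Int.ofNat 0, Int.ofNat 2, Int.ofNat 0, Int.ofNat 2, Int.ofNat 0, Int.negSucc 1, Int.ofNat 0, Int.ofNat 0, Int.ofNat 2, Int.ofNat 0, Int.ofNat 2],
  [Int.ofNat 0, Int.ofNat 0, Int.ofNat 0, Int.ofNat 0, Int.ofNat 0, Int.ofNat 0, Int.ofNat 0, Int.ofNat 0, Int.ofNat 0, Int.negSucc 1, Int.ofNat 2, Int.ofNat 0, Int.ofNat 2, Int.ofNat 0, Int.ofNat 0, Int.ofNat 2, Int.ofNat 0, Int.ofNat 2, Int.ofNat 0, Int.negSucc 1, Int.ofNat 0, Int.ofNat 0, Int.ofNat 2, Int.ofNat 2],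
  [Int.ofNat 1, Int.ofNat 1, Int.ofNat 1, Int.negSucc 0, Int.negSucc 0, Int.negSucc 0, Int.ofNat 1, Int.ofNat 1, Int.negSucc 0, Int.negSucc 2, Int.ofNat 1, Int.negSucc 0, Int.ofNat 1, Int.negSucc 0, Int.negSucc 0, Int.ofNat 1, Int.negSucc 0, Int.ofNat 1, Int.negSucc 0, Int.negSucc 0, Int.negSucc 0, Int.ofNat 1, Int.ofNat 1, Int.negSucc 0],
  [Int.negSucc 0, Int.negSucc 0, Int.negSucc 0, Int.ofNat 1, Int.ofNat 1, Int.negSucc 0, Int.negSucc 2, Int.ofNat 1, Int.negSucc 0, Int.ofNat 1, Int.negSucc 0, Int.negSucc 0, Int.ofNat 1, Int.negSucc 0, Int.ofNat 1, Int.negSucc 0, Int.negSucc 0, Int.negSucc 0, Int.ofNat 1, Int.ofNat 1, Int.ofNat 1, Int.ofNat 1, Int.ofNat 1, Int.negSucc 0],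
  [Int.negSucc 0, Int.negSucc 0, Int.negSucc 0, Int.ofNat 1, Int.ofNat 1, Int.negSucc 0, Int.negSucc 2, Int.ofNat 1, Int.negSucc 0, Int.ofNat 1, Int.negSucc 0, Int.negSucc 0, Int.ofNat 1, Int.negSucc 0, Int.ofNat 1, Int.negSucc 0, Int.negSucc 0, Int.negSucc 0, Int.ofNat 1, Int.ofNat 1, Int.ofNat 1, Int.ofNat 1, Int.ofNat 1, Int.negSucc 0],
  [Int.negSucc 0, Int.negSucc 2, Int.ofNat 1, Int.ofNat 1, Int.ofNat 1, Int.ofNat 1, Int.negSucc 0, Int.negSucc 0, Int.ofNat 1, Int.negSucc 0, Int.ofNat 1, Int.negSucc 0, Int.ofNat 1, Int.negSucc 0, Int.ofNat 1, Int.negSucc 0, Int.negSucc 0, Int.ofNat 1, Int.negSucc 0, Int.negSucc 0, Int.ofNat 1, Int.negSucc 0, Int.ofNat 1, Int.negSucc 0],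
  [Int.negSucc 0, Int.ofNat 1, Int.negSucc 2, Int.negSucc 0, Int.ofNat 1, Int.negSucc 0, Int.ofNat 1, Int.ofNat 1, Int.ofNat 1, Int.negSucc 0, Int.ofNat 1, Int.negSucc 0, Int.ofNat 1, Int.negSucc 0, Int.negSucc 0, Int.negSucc 0, Int.negSucc 0, Int.negSucc 0, Int.negSucc 0, Int.ofNat 1, Int.ofNat 1, Int.ofNat 1, Int.ofNat 1, Int.negSucc 0],
  [Int.negSucc 0, Int.ofNat 1, Int.ofNat 3, Int.negSucc 0, Int.ofNat 1, Int.ofNat 1, Int.negSucc 0, Int.ofNat 1, Int.ofNat 1, Int.ofNat 1, Int.negSucc 0, Int.negSucc 0, Int.ofNat 1, Int.negSucc 0, Int.negSucc 0, Int.ofNat 1, Int.negSucc 0, Int.negSucc 0, Int.ofNat 1, Int.ofNat 1, Int.ofNat 1, Int.ofNat 1, Int.negSucc 0, Int.negSucc 0],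
  [Int.negSucc 0, Int.negSucc 0, Int.negSucc 0, Int.ofNat 1, Int.negSucc 0, Int.negSucc 0, Int.ofNat 1, Int.negSucc 0, Int.ofNat 1, Int.ofNat 1, Int.negSucc 0, Int.ofNat 1, Int.ofNat 1, Int.ofNat 1, Int.negSucc 0, Int.ofNat 1, Int.ofNat 1, Int.ofNat 1, Int.ofNat 1, Int.ofNat 3, Int.negSucc 0, Int.ofNat 1, Int.negSucc 0, Int.negSucc 0],
  [Int.negSucc 0, Int.negSucc 0, Int.ofNat 1, Int.ofNat 1, Int.ofNat 1, Int.ofNat 1, Int.ofNat 3, Int.ofNat 1, Int.negSucc 0, Int.negSucc 0, Int.ofNat 1, Int.negSucc 0, Int.ofNat 1, Int.negSucc 0, Int.ofNat 1, Int.ofNat 1, Int.negSucc 0, Int.negSucc 0, Int.negSucc 0, Int.ofNat 1, Int.ofNat 1, Int.ofNat 1, Int.negSucc 0, Int.negSucc 0],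
  [Int.ofNat 1, Int.negSucc 0, Int.negSucc 0, Int.ofNat 1, Int.ofNat 1, Int.ofNat 1, Int.ofNat 3, Int.negSucc 0, Int.negSucc 0, Int.ofNat 1, Int.negSucc 0, Int.ofNat 1, Int.ofNat 1, Int.negSucc 0, Int.ofNat 1, Int.ofNat 1, Int.negSucc 0, Int.negSucc 0, Int.ofNat 1, Int.ofNat 1, Int.ofNat 1, Int.negSucc 0, Int.negSucc 0, Int.negSucc 0],
  [Int.negSucc 0, Int.ofNat 1, Int.negSucc 0, Int.negSucc 0, Int.ofNat 1, Int.ofNat 1, Int.ofNat 1, Int.ofNat 3, Int.negSucc 0, Int.negSucc 0, Int.ofNat 1, Int.negSucc 0, Int.ofNat 1, Int.ofNat 1, Int.negSucc 0, Int.ofNat 1, Int.ofNat 1, Int.negSucc 0, Int.negSucc 0, Int.ofNat 1, Int.ofNat 1, Int.ofNat 1, Int.negSucc 0, Int.negSucc 0],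
  [Int.ofNat 0, Int.negSucc 1, Int.ofNat 0, Int.ofNat 0, Int.ofNat 0, Int.ofNat 2, Int.negSucc 1, Int.ofNat 0, Int.ofNat 0, Int.negSucc 1, Int.ofNat 0, Int.ofNat 0, Int.ofNat 2, Int.ofNat 0, Int.ofNat 0, Int.ofNat 0, Int.ofNat 0, Int.ofNat 0, Int.ofNat 0, Int.negSucc 1, Int.ofNat 0, Int.negSucc 1, Int.negSucc 1, Int.ofNat 0],
  [Int.ofNat 0, Int.ofNat 0, Int.ofNat 2, Int.negSucc 1, Int.ofNat 0, Int.ofNat 0, Int.negSucc 1, Int.ofNat 0, Int.ofNat 0, Int.ofNat 2, Int.ofNat 0, Int.ofNat 0, Int.ofNat 0, Int.ofNat 0, Int.ofNat 0, Int.ofNat 0, Int.negSucc 1, Int.ofNat 0, Int.negSucc 1, Int.negSucc 1, Int.ofNat 0, Int.negSucc 1, Int.ofNat 0, Int.ofNat 0],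
  [Int.ofNat 1, Int.ofNat 1, Int.negSucc 0, Int.negSucc 0, Int.ofNat 1, Int.ofNat 1, Int.ofNat 1, Int.ofNat 3, Int.ofNat 1, Int.ofNat 1, Int.negSucc 0, Int.ofNat 1, Int.ofNat 1, Int.ofNat 1, Int.ofNat 1, Int.negSucc 0, Int.negSucc 0, Int.ofNat 1, Int.negSucc 0, Int.ofNat 1, Int.negSucc 0, Int.ofNat 1, Int.ofNat 1, Int.ofNat 1],
  [Int.ofNat 1, Int.ofNat 1, Int.ofNat 1, Int.negSucc 0, Int.negSucc 0, Int.ofNat 3, Int.negSucc 0, Int.negSucc 0, Int.ofNat 1, Int.ofNat 1, Int.negSucc 0, Int.ofNat 1, Int.ofNat 1, Int.negSucc 0, Int.ofNat 1, Int.negSucc 0, Int.ofNat 1, Int.ofNat 1, Int.ofNat 1, Int.ofNat 1, Int.ofNat 1, Int.ofNat 1, Int.ofNat 1, Int.ofNat 1],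
  [Int.ofNat 1, Int.ofNat 1, Int.ofNat 1, Int.negSucc 2, Int.negSucc 0, Int.ofNat 1, Int.negSucc 0, Int.negSucc 0, Int.negSucc 0, Int.ofNat 1, Int.negSucc 0, Int.negSucc 0, Int.negSucc 0, Int.negSucc 0, Int.negSucc 0, Int.negSucc 0, Int.ofNat 1, Int.negSucc 0, Int.negSucc 0, Int.ofNat 1, Int.ofNat 1, Int.ofNat 1, Int.ofNat 1, Int.ofNat 1],
  [Int.ofNat 1, Int.ofNat 1, Int.negSucc 0, Int.negSucc 2, Int.negSucc 0, Int.negSucc 0, Int.ofNat 1, Int.negSucc 0, Int.negSucc 0, Int.negSucc 0, Int.ofNat 1, Int.negSucc 0, Int.negSucc 0, Int.negSucc 0, Int.negSucc 0, Int.ofNat 1, Int.ofNat 1, Int.negSucc 0, Int.ofNat 1, Int.ofNat 1, Int.ofNat 1, Int.ofNat 1, Int.negSucc 0, Int.ofNat 1],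
  [Int.negSucc 0, Int.negSucc 0, Int.ofNat 1, Int.ofNat 1, Int.negSucc 0, Int.negSucc 0, Int.negSucc 0, Int.ofNat 1, Int.negSucc 0, Int.ofNat 1, Int.ofNat 1, Int.negSucc 2, Int.negSucc 0, Int.ofNat 1, Int.ofNat 1, Int.negSucc 0, Int.ofNat 1, Int.negSucc 0, Int.ofNat 1, Int.ofNat 1, Int.negSucc 0, Int.negSucc 0, Int.negSucc 0, Int.ofNat 1],
  [Int.negSucc 0, Int.negSucc 0, Int.negSucc 0, Int.ofNat 1, Int.negSucc 0, Int.ofNat 1, Int.ofNat 1, Int.ofNat 1, Int.negSucc 0, Int.negSucc 0, Int.negSucc 0, Int.negSucc 2, Int.negSucc 0, Int.ofNat 1, Int.ofNat 1, Int.ofNat 1, Int.ofNat 1, Int.negSucc 0, Int.negSucc 0, Int.ofNat 1, Int.negSucc 0, Int.negSucc 0, Int.ofNat 1, Int.ofNat 1],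
  [Int.ofNat 0, Int.ofNat 0, Int.ofNat 0, Int.ofNat 0, Int.negSucc 1, Int.ofNat 0, Int.ofNat 0, Int.ofNat 0, Int.ofNat 2, Int.ofNat 0, Int.ofNat 0, Int.ofNat 0, Int.ofNat 2, Int.ofNat 0, Int.ofNat 0, Int.ofNat 2, Int.ofNat 0, Int.negSucc 1, Int.ofNat 2, Int.ofNat 0, Int.ofNat 0, Int.negSucc 1, Int.ofNat 0, Int.negSucc 1],
  [Int.ofNat 0, Int.ofNat 2, Int.ofNat 0, Int.ofNat 0, Int.ofNat 0, Int.negSucc 1, Int.ofNat 0, Int.ofNat 0, Int.ofNat 0, Int.ofNat 2, Int.ofNat 0, Int.ofNat 0, Int.ofNat 2, Int.ofNat 0, Int.negSucc 1, Int.ofNat 2, Int.ofNat 0, Int.ofNat 0, Int.negSucc 1, Int.ofNat 0, Int.ofNat 0, Int.ofNat 0, Int.ofNat 0, Int.negSucc 1],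
  [Int.ofNat 0, Int.negSucc 1, Int.ofNat 0, Int.ofNat 2, Int.ofNat 0, Int.ofNat 0, Int.ofNat 0, Int.ofNat 0, Int.ofNat 0, Int.ofNat 0, Int.negSucc 1, Int.ofNat 0, Int.ofNat 2, Int.ofNat 0, Int.ofNat 0, Int.ofNat 0, Int.ofNat 0, Int.ofNat 2, Int.negSucc 1, Int.ofNat 0, Int.negSucc 1, Int.ofNat 0, Int.ofNat 0, Int.ofNat 2],
  [Int.negSucc 1, Int.ofNat 0, Int.ofNat 0, Int.ofNat 0, Int.negSucc 1, Int.ofNat 0, Int.ofNat 2, Int.ofNat 0, Int.ofNat 0, Int.ofNat 0, Int.ofNat 0, Int.ofNat 0, Int.ofNat 0, Int.negSucc 1, Int.ofNat 0, Int.ofNat 2, Int.ofNat 0, Int.ofNat 0, Int.ofNat 0, Int.ofNat 0, Int.ofNat 2, Int.negSucc 1, Int.ofNat 0, Int.ofNat 2],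
  [Int.ofNat 2, Int.ofNat 0, Int.ofNat 0, Int.ofNat 0, Int.ofNat 0, Int.ofNat 0, Int.ofNat 2, Int.ofNat 0, Int.ofNat 0, Int.negSucc 1, Int.negSucc 1, Int.ofNat 0, Int.ofNat 0, Int.ofNat 0, Int.ofNat 0, Int.ofNat 0, Int.ofNat 2, Int.ofNat 0, Int.ofNat 0, Int.ofNat 0, Int.ofNat 0, Int.negSucc 1, Int.ofNat 2, Int.negSucc 1],
  [Int.ofNat 0, Int.ofNat 0, Int.ofNat 0, Int.ofNat 0, Int.ofNat 0, Int.ofNat 2, Int.ofNat 0, Int.ofNat 0, Int.negSucc 1, Int.negSucc 1, Int.ofNat 0, Int.ofNat 0, Int.ofNat 0, Int.ofNat 0, Int.ofNat 0, Int.ofNat 2, Int.ofNat 0, Int.ofNat 0, Int.ofNat 0, Int.ofNat 0, Int.negSucc 1, Int.ofNat 2, Int.ofNat 2, Int.negSucc 1],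
  [Int.ofNat 0, Int.ofNat 0, Int.ofNat 0, Int.ofNat 0, Int.ofNat 0, Int.ofNat 2, Int.ofNat 0, Int.ofNat 0, Int.negSucc 1, Int.ofNat 2, Int.ofNat 0, Int.ofNat 0, Int.ofNat 0, Int.ofNat 0, Int.ofNat 0, Int.ofNat 2, Int.ofNat 0, Int.ofNat 0, Int.ofNat 0, Int.ofNat 0, Int.negSucc 1, Int.negSucc 1, Int.ofNat 2, Int.negSucc 1],
  [Int.ofNat 0, Int.ofNat 0, Int.ofNat 0, Int.ofNat 0, Int.ofNat 0, Int.ofNat 2, Int.ofNat 0, Int.ofNat 0, Int.ofNat 2, Int.negSucc 1, Int.ofNat 0, Int.ofNat 0, Int.ofNat 0, Int.ofNat 0, Int.ofNat 0, Int.ofNat 2, Int.ofNat 0, Int.ofNat 0, Int.ofNat 0, Int.ofNat 0, Int.negSucc 1, Int.negSucc 1, Int.ofNat 2, Int.negSucc 1],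
  [Int.ofNat 0, Int.ofNat 0, Int.ofNat 0, Int.ofNat 0, Int.ofNat 0, Int.ofNat 0, Int.ofNat 0, Int.negSucc 1, Int.negSucc 1, Int.ofNat 0, Int.negSucc 1, Int.ofNat 0, Int.ofNat 0, Int.ofNat 2, Int.ofNat 0, Int.ofNat 2, Int.ofNat 0, Int.ofNat 2, Int.ofNat 0, Int.ofNat 0, Int.ofNat 2, Int.ofNat 0, Int.ofNat 0, Int.negSucc 1],
  [Int.ofNat 0, Int.ofNat 0, Int.ofNat 0, Int.ofNat 0, Int.ofNat 0, Int.ofNat 0, Int.ofNat 0, Int.ofNat 2, Int.negSucc 1, Int.ofNat 0, Int.ofNat 2, Int.ofNat 0, Int.ofNat 0, Int.ofNat 2, Int.ofNat 0, Int.ofNat 2, Int.ofNat 0, Int.ofNat 2, Int.ofNat 0, Int.ofNat 0, Int.ofNat 2, Int.ofNat 0, Int.ofNat 0, Int.negSucc 1],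
  [Int.ofNat 0, Int.ofNat 0, Int.ofNat 0, Int.ofNat 0, Int.ofNat 0, Int.ofNat 0, Int.ofNat 0, Int.ofNat 0, Int.ofNat 2, Int.negSucc 1, Int.ofNat 0, Int.ofNat 2, Int.ofNat 0, Int.ofNat 0, Int.ofNat 2, Int.ofNat 0, Int.ofNat 2, Int.ofNat 0, Int.ofNat 2, Int.ofNat 0, Int.ofNat 0, Int.ofNat 2, Int.ofNat 0, Int.negSucc 1],
  [Int.negSucc 0, Int.negSucc 0, Int.negSucc 0, Int.negSucc 0, Int.negSucc 0, Int.negSucc 0, Int.negSucc 0, Int.negSucc 0, Int.negSucc 0, Int.negSucc 0, Int.ofNat 1, Int.negSucc 0, Int.negSucc 2, Int.negSucc 0, Int.ofNat 1, Int.ofNat 1, Int.ofNat 1, Int.negSucc 0, Int.negSucc 0, Int.negSucc 0, Int.ofNat 1, Int.ofNat 1, Int.negSucc 0, Int.ofNat 1],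
  [Int.negSucc 0, Int.negSucc 0, Int.negSucc 0, Int.negSucc 0, Int.negSucc 0, Int.negSucc 0, Int.negSucc 0, Int.ofNat 1, Int.negSucc 0, Int.negSucc 2, Int.negSucc 0, Int.ofNat 1, Int.ofNat 1, Int.ofNat 1, Int.negSucc 0, Int.negSucc 0, Int.negSucc 0, Int.ofNat 1, Int.ofNat 1, Int.negSucc 0, Int.negSucc 0, Int.negSucc 0, Int.negSucc 0, Int.ofNat 1],
  [Int.ofNat 0, Int.ofNat 0, Int.ofNat 0, Int.ofNat 0, Int.ofNat 0, Int.ofNat 0, Int.ofNat 0, Int.ofNat 2, Int.negSucc 1, Int.ofNat 0, Int.ofNat 2, Int.ofNat 0, Int.ofNat 0, Int.ofNat 2, Int.ofNat 0, Int.ofNat 2, Int.ofNat 0, Int.ofNat 2, Int.ofNat 0, Int.ofNat 0, Int.ofNat 2, Int.ofNat 0, Int.ofNat 0, Int.negSucc 1],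
  [Int.ofNat 0, Int.ofNat 0, Int.ofNat 0, Int.ofNat 0, Int.ofNat 0, Int.ofNat 2, Int.ofNat 0, Int.ofNat 2, Int.ofNat 0, Int.ofNat 2, Int.ofNat 2, Int.ofNat 2, Int.ofNat 0, Int.ofNat 0, Int.ofNat 0, Int.ofNat 2, Int.negSucc 1, Int.ofNat 0, Int.ofNat 0, Int.ofNat 0, Int.ofNat 0, Int.ofNat 0, Int.ofNat 0, Int.negSucc 1],
  [Int.negSucc 0, Int.negSucc 0, Int.negSucc 0, Int.negSucc 0, Int.ofNat 1, Int.ofNat 1, Int.negSucc 0, Int.ofNat 1, Int.negSucc 0, Int.negSucc 0, Int.negSucc 0, Int.ofNat 1, Int.negSucc 0, Int.ofNat 1, Int.negSucc 0, Int.negSucc 0, Int.negSucc 0, Int.negSucc 0, Int.negSucc 0, Int.negSucc 0, Int.negSucc 2, Int.negSucc 0, Int.ofNat 1, Int.ofNat 1],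
  [Int.negSucc 0, Int.negSucc 0, Int.ofNat 1, Int.negSucc 0, Int.ofNat 1, Int.negSucc 0, Int.ofNat 1, Int.ofNat 1, Int.negSucc 0, Int.ofNat 1, Int.ofNat 1, Int.ofNat 1, Int.negSucc 0, Int.ofNat 1, Int.negSucc 0, Int.ofNat 1, Int.negSucc 0, Int.negSucc 0, Int.ofNat 1, Int.negSucc 0, Int.negSucc 2, Int.negSucc 0, Int.negSucc 0, Int.ofNat 1],
  [Int.ofNat 1, Int.negSucc 0, Int.ofNat 1, Int.negSucc 0, Int.negSucc 0, Int.ofNat 1, Int.negSucc 0, Int.negSucc 0, Int.negSucc 0, Int.negSucc 2, Int.ofNat 1, Int.ofNat 1, Int.ofNat 1, Int.ofNat 1, Int.negSucc 0, Int.ofNat 1, Int.negSucc 0, Int.negSucc 0, Int.ofNat 1, Int.ofNat 1, Int.negSucc 0, Int.negSucc 0, Int.negSucc 0, Int.ofNat 1],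
  [Int.ofNat 1, Int.negSucc 0, Int.ofNat 1, Int.ofNat 1, Int.negSucc 0, Int.negSucc 2, Int.ofNat 1, Int.ofNat 1, Int.negSucc 0, Int.ofNat 1, Int.negSucc 0, Int.ofNat 1, Int.negSucc 0, Int.negSucc 0, Int.ofNat 1, Int.negSucc 0, Int.ofNat 1, Int.negSucc 0, Int.negSucc 0, Int.negSucc 0, Int.negSucc 0, Int.ofNat 1, Int.negSucc 0, Int.ofNat 1],
  [Int.negSucc 0, Int.negSucc 0, Int.negSucc 0, Int.ofNat 1, Int.negSucc 0, Int.negSucc 2, Int.ofNat 1, Int.negSucc 0, Int.negSucc 0, Int.negSucc 0, Int.ofNat 1, Int.negSucc 0, Int.negSucc 0, Int.negSucc 0, Int.ofNat 1, Int.negSucc 0, Int.ofNat 1, Int.negSucc 0, Int.ofNat 1, Int.negSucc 0, Int.negSucc 0, Int.negSucc 0, Int.negSucc 0, Int.ofNat 1],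
  [Int.negSucc 0, Int.negSucc 0, Int.negSucc 0, Int.negSucc 0, Int.ofNat 1, Int.negSucc 0, Int.negSucc 2, Int.ofNat 1, Int.negSucc 0, Int.negSucc 0, Int.negSucc 0, Int.ofNat 1, Int.negSucc 0, Int.negSucc 0, Int.negSucc 0, Int.ofNat 1, Int.negSucc 0, Int.ofNat 1, Int.negSucc 0, Int.ofNat 1, Int.negSucc 0, Int.negSucc 0, Int.negSucc 0, Int.ofNat 1],
  [Int.ofNat 0, Int.ofNat 0, Int.ofNat 0, Int.ofNat 0, Int.ofNat 2, Int.ofNat 0, Int.negSucc 1, Int.ofNat 2, Int.ofNat 0, Int.ofNat 0, Int.ofNat 0, Int.ofNat 2, Int.ofNat 0, Int.ofNat 0, Int.ofNat 0, Int.ofNat 2, Int.ofNat 0, Int.ofNat 2, Int.ofNat 0, Int.ofNat 2, Int.ofNat 0, Int.ofNat 0, Int.ofNat 0, Int.negSucc 1],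
  [Int.ofNat 0, Int.ofNat 2, Int.ofNat 0, Int.negSucc 1, Int.ofNat 2, Int.ofNat 0, Int.ofNat 0, Int.ofNat 0, Int.ofNat 2, Int.ofNat 0, Int.ofNat 0, Int.ofNat 0, Int.ofNat 2, Int.ofNat 0, Int.ofNat 2, Int.ofNat 0, Int.ofNat 2, Int.ofNat 0, Int.ofNat 0, Int.ofNat 0, Int.ofNat 0, Int.ofNat 0, Int.ofNat 0, Int.negSucc 1],
  [Int.ofNat 0, Int.negSucc 1, Int.ofNat 0, Int.negSucc 1, Int.ofNat 0, Int.ofNat 0, Int.ofNat 0, Int.ofNat 0, Int.ofNat 0, Int.ofNat 0, Int.ofNat 0, Int.negSucc 1, Int.ofNat 0, Int.negSucc 1, Int.ofNat 2, Int.ofNat 0, Int.ofNat 0, Int.ofNat 0, Int.negSucc 1, Int.ofNat 0, Int.ofNat 0, Int.ofNat 0, Int.negSucc 1, Int.ofNat 2],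
  [Int.ofNat 0, Int.ofNat 0, Int.ofNat 0, Int.negSucc 1, Int.negSucc 1, Int.ofNat 0, Int.ofNat 0, Int.ofNat 0, Int.ofNat 0, Int.negSucc 1, Int.ofNat 0, Int.ofNat 0, Int.ofNat 0, Int.ofNat 0, Int.negSucc 1, Int.ofNat 0, Int.ofNat 0, Int.ofNat 2, Int.negSucc 1, Int.negSucc 1, Int.ofNat 0, Int.ofNat 0, Int.ofNat 0, Int.ofNat 2],
  [Int.ofNat 1, Int.ofNat 1, Int.ofNat 1, Int.negSucc 0, Int.negSucc 0, Int.ofNat 1, Int.ofNat 1, Int.ofNat 1, Int.ofNat 1, Int.negSucc 0, Int.ofNat 1, Int.ofNat 1, Int.ofNat 1, Int.ofNat 1, Int.negSucc 0, Int.ofNat 1, Int.ofNat 1, Int.ofNat 3, Int.negSucc 0, Int.negSucc 0, Int.ofNat 1, Int.ofNat 1, Int.ofNat 1, Int.negSucc 0],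
  [Int.ofNat 1, Int.ofNat 1, Int.negSucc 0, Int.negSucc 0, Int.negSucc 0, Int.negSucc 0, Int.negSucc 0, Int.ofNat 1, Int.ofNat 1, Int.ofNat 1, Int.negSucc 0, Int.ofNat 1, Int.ofNat 1, Int.ofNat 1, Int.negSucc 0, Int.negSucc 0, Int.ofNat 1, Int.ofNat 3, Int.ofNat 1, Int.negSucc 0, Int.ofNat 1, Int.ofNat 1, Int.negSucc 0, Int.negSucc 0],
  [Int.ofNat 1, Int.ofNat 1, Int.ofNat 1, Int.negSucc 0, Int.ofNat 1, Int.negSucc 0, Int.ofNat 1, Int.negSucc 0, Int.negSucc 0, Int.negSucc 0, Int.negSucc 0, Int.negSucc 0, Int.negSucc 0, Int.ofNat 1, Int.ofNat 1, Int.ofNat 1, Int.ofNat 1, Int.negSucc 0, Int.ofNat 1, Int.ofNat 1, Int.ofNat 3, Int.ofNat 1, Int.negSucc 0, Int.negSucc 0],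
  [Int.ofNat 1, Int.ofNat 1, Int.negSucc 0, Int.negSucc 0, Int.ofNat 1, Int.ofNat 1, Int.negSucc 0, Int.negSucc 0, Int.negSucc 0, Int.ofNat 1, Int.ofNat 1, Int.negSucc 0, Int.negSucc 0, Int.ofNat 1, Int.ofNat 1, Int.negSucc 0, Int.ofNat 1, Int.negSucc 0, Int.negSucc 0, Int.ofNat 1, Int.ofNat 3, Int.ofNat 1, Int.ofNat 1, Int.negSucc 0],
  [Int.negSucc 0, Int.negSucc 0, Int.ofNat 1, Int.negSucc 0, Int.negSucc 0, Int.ofNat 1, Int.negSucc 0, Int.negSucc 0, Int.ofNat 1, Int.negSucc 0, Int.negSucc 0, Int.ofNat 1, Int.ofNat 1, Int.negSucc 0, Int.ofNat 1, Int.negSucc 2, Int.negSucc 0, Int.negSucc 0, Int.ofNat 1, Int.ofNat 1, Int.ofNat 1, Int.ofNat 1, Int.negSucc 0, Int.ofNat 1],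
  [Int.negSucc 0, Int.ofNat 1, Int.negSucc 0, Int.negSucc 0, Int.ofNat 1, Int.ofNat 1, Int.negSucc 0, Int.ofNat 1, Int.negSucc 0, Int.ofNat 1, Int.negSucc 0, Int.ofNat 1, Int.ofNat 1, Int.negSucc 0, Int.negSucc 0, Int.negSucc 2, Int.negSucc 0, Int.ofNat 1, Int.negSucc 0, Int.negSucc 0, Int.negSucc 0, Int.ofNat 1, Int.ofNat 1, Int.ofNat 1],
  [Int.ofNat 1, Int.negSucc 0, Int.ofNat 1, Int.negSucc 0, Int.ofNat 1, Int.ofNat 1, Int.negSucc 0, Int.ofNat 1, Int.negSucc 0, Int.ofNat 3, Int.ofNat 1, Int.ofNat 1, Int.ofNat 1, Int.negSucc 0, Int.negSucc 0, Int.negSucc 0, Int.negSucc 0, Int.ofNat 1, Int.negSucc 0, Int.negSucc 0, Int.ofNat 1, Int.ofNat 1, Int.ofNat 1, Int.negSucc 0],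
  [Int.ofNat 1, Int.ofNat 1, Int.ofNat 1, Int.ofNat 1, Int.negSucc 0, Int.ofNat 1, Int.negSucc 0, Int.ofNat 1, Int.ofNat 1, Int.negSucc 0, Int.ofNat 1, Int.negSucc 0, Int.ofNat 3, Int.ofNat 1, Int.ofNat 1, Int.ofNat 1, Int.negSucc 0, Int.negSucc 0, Int.negSucc 0, Int.negSucc 0, Int.ofNat 1, Int.negSucc 0, Int.negSucc 0, Int.negSucc 0],
  [Int.ofNat 0, Int.ofNat 0, Int.ofNat 0, Int.ofNat 0, Int.ofNat 0, Int.ofNat 0, Int.ofNat 0, Int.ofNat 2, Int.ofNat 0, Int.negSucc 1, Int.ofNat 0, Int.negSucc 1, Int.ofNat 2, Int.ofNat 2, Int.ofNat 0, Int.ofNat 0, Int.ofNat 0, Int.negSucc 1, Int.negSucc 1, Int.ofNat 0, Int.ofNat 0, Int.ofNat 0, Int.ofNat 0, Int.ofNat 2],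
  [Int.ofNat 0, Int.ofNat 0, Int.ofNat 0, Int.ofNat 0, Int.ofNat 0, Int.ofNat 0, Int.ofNat 2, Int.ofNat 0, Int.negSucc 1, Int.ofNat 0, Int.negSucc 1, Int.ofNat 2, Int.ofNat 2, Int.ofNat 0, Int.ofNat 0, Int.ofNat 0, Int.negSucc 1, Int.negSucc 1, Int.ofNat 0, Int.ofNat 0, Int.ofNat 0, Int.ofNat 0, Int.ofNat 0, Int.ofNat 2],
  [Int.ofNat 0, Int.ofNat 0, Int.ofNat 0, Int.ofNat 0, Int.ofNat 0, Int.ofNat 0, Int.ofNat 2, Int.ofNat 0, Int.negSucc 1, Int.ofNat 0, Int.ofNat 2, Int.negSucc 1, Int.ofNat 2, Int.ofNat 0, Int.ofNat 0, Int.ofNat 0, Int.negSucc 1, Int.negSucc 1, Int.ofNat 0, Int.ofNat 0, Int.ofNat 0, Int.ofNat 0, Int.ofNat 0, Int.ofNat 2],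
  [Int.ofNat 0, Int.ofNat 0, Int.ofNat 0, Int.ofNat 0, Int.ofNat 0, Int.ofNat 0, Int.negSucc 1, Int.ofNat 0, Int.ofNat 2, Int.ofNat 0, Int.ofNat 2, Int.negSucc 1, Int.negSucc 1, Int.ofNat 0, Int.ofNat 0, Int.ofNat 0, Int.ofNat 2, Int.negSucc 1, Int.ofNat 0, Int.ofNat 0, Int.ofNat 0, Int.ofNat 0, Int.ofNat 0, Int.ofNat 2],
  [Int.ofNat 0, Int.ofNat 0, Int.ofNat 0, Int.ofNat 0, Int.ofNat 0, Int.ofNat 2, Int.ofNat 0, Int.ofNat 0, Int.ofNat 0, Int.ofNat 2, Int.ofNat 0, Int.ofNat 0, Int.ofNat 0, Int.ofNat 2, Int.ofNat 0, Int.ofNat 0, Int.negSucc 1, Int.ofNat 0, Int.negSucc 1, Int.negSucc 1, Int.ofNat 0, Int.ofNat 0, Int.negSucc 1, Int.ofNat 2],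
  [Int.ofNat 0, Int.ofNat 0, Int.ofNat 0, Int.ofNat 0, Int.ofNat 0, Int.ofNat 2, Int.ofNat 0, Int.ofNat 0, Int.ofNat 0, Int.negSucc 1, Int.ofNat 0, Int.ofNat 0, Int.ofNat 0, Int.ofNat 2, Int.ofNat 0, Int.ofNat 0, Int.negSucc 1, Int.ofNat 0, Int.ofNat 2, Int.negSucc 1, Int.ofNat 0, Int.ofNat 0, Int.negSucc 1, Int.ofNat 2],
  [Int.negSucc 1, Int.ofNat 0, Int.ofNat 0, Int.ofNat 0, Int.ofNat 0, Int.ofNat 0, Int.ofNat 2, Int.ofNat 0, Int.ofNat 0, Int.ofNat 0, Int.negSucc 1, Int.ofNat 0, Int.ofNat 0, Int.ofNat 0, Int.ofNat 2, Int.ofNat 0, Int.ofNat 0, Int.negSucc 1, Int.ofNat 0, Int.ofNat 2, Int.negSucc 1, Int.ofNat 0, Int.ofNat 0, Int.ofNat 2],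
  [Int.ofNat 2, Int.ofNat 0, Int.ofNat 0, Int.ofNat 0, Int.ofNat 0, Int.ofNat 0, Int.ofNat 0, Int.negSucc 1, Int.ofNat 0, Int.ofNat 2, Int.ofNat 0, Int.ofNat 0, Int.ofNat 0, Int.ofNat 0, Int.ofNat 2, Int.ofNat 2, Int.ofNat 0, Int.negSucc 1, Int.ofNat 0, Int.ofNat 0, Int.ofNat 0, Int.negSucc 1, Int.ofNat 0, Int.negSucc 1],
  [Int.ofNat 0, Int.ofNat 0, Int.ofNat 0, Int.ofNat 0, Int.negSucc 1, Int.ofNat 0, Int.ofNat 2, Int.ofNat 0, Int.ofNat 0, Int.ofNat 0, Int.ofNat 0, Int.ofNat 2, Int.ofNat 2, Int.ofNat 0, Int.negSucc 1, Int.ofNat 0, Int.ofNat 0, Int.ofNat 0, Int.negSucc 1, Int.ofNat 0, Int.ofNat 2, Int.ofNat 0, Int.ofNat 0, Int.negSucc 1],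
  [Int.negSucc 0, Int.negSucc 0, Int.negSucc 0, Int.ofNat 1, Int.negSucc 0, Int.ofNat 1, Int.ofNat 1, Int.negSucc 0, Int.negSucc 0, Int.negSucc 0, Int.negSucc 0, Int.ofNat 1, Int.ofNat 1, Int.ofNat 1, Int.negSucc 0, Int.negSucc 0, Int.ofNat 1, Int.ofNat 1, Int.negSucc 2, Int.negSucc 0, Int.ofNat 1, Int.negSucc 0, Int.ofNat 1, Int.ofNat 1],
  [Int.negSucc 0, Int.ofNat 1, Int.negSucc 0, Int.ofNat 1, Int.negSucc 2, Int.negSucc 0, Int.negSucc 0, Int.negSucc 0, Int.ofNat 1, Int.ofNat 1, Int.ofNat 1, Int.ofNat 1, Int.negSucc 0, Int.ofNat 1, Int.ofNat 1, Int.negSucc 0, Int.negSucc 0, Int.negSucc 0, Int.negSucc 0, Int.ofNat 1, Int.negSucc 0, Int.ofNat 1, Int.negSucc 0, Int.ofNat 1],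
  [Int.ofNat 1, Int.negSucc 0, Int.ofNat 1, Int.ofNat 1, Int.negSucc 0, Int.negSucc 0, Int.negSucc 0, Int.negSucc 0, Int.ofNat 1, Int.ofNat 1, Int.ofNat 1, Int.ofNat 1, Int.negSucc 0, Int.ofNat 3, Int.ofNat 1, Int.negSucc 0, Int.ofNat 1, Int.negSucc 0, Int.negSucc 0, Int.ofNat 1, Int.negSucc 0, Int.ofNat 1, Int.ofNat 1, Int.negSucc 0],
  [Int.ofNat 1, Int.negSucc 0, Int.negSucc 0, Int.ofNat 1, Int.negSucc 0, Int.ofNat 1, Int.ofNat 1, Int.negSucc 0, Int.ofNat 1, Int.negSucc 0, Int.negSucc 0, Int.ofNat 1, Int.negSucc 0, Int.ofNat 3, Int.ofNat 1, Int.ofNat 1, Int.ofNat 1, Int.negSucc 0, Int.ofNat 1, Int.ofNat 1, Int.negSucc 0, Int.ofNat 1, Int.negSucc 0, Int.negSucc 0],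
  [Int.negSucc 0, Int.ofNat 1, Int.ofNat 1, Int.ofNat 1, Int.ofNat 1, Int.ofNat 1, Int.ofNat 1, Int.ofNat 1, Int.ofNat 1, Int.negSucc 0, Int.ofNat 3, Int.negSucc 0, Int.ofNat 1, Int.negSucc 0, Int.negSucc 0, Int.ofNat 1, Int.ofNat 1, Int.negSucc 0, Int.negSucc 0, Int.negSucc 0, Int.ofNat 1, Int.negSucc 0, Int.negSucc 0, Int.negSucc 0],
  [Int.negSucc 0, Int.negSucc 0, Int.negSucc 0, Int.ofNat 1, Int.negSucc 0, Int.negSucc 0, Int.negSucc 0, Int.negSucc 0, Int.ofNat 1, Int.ofNat 1, Int.ofNat 1, Int.ofNat 1, Int.negSucc 0, Int.ofNat 1, Int.negSucc 0, Int.ofNat 1, Int.ofNat 3, Int.ofNat 1, Int.negSucc 0, Int.ofNat 1, Int.ofNat 1, Int.ofNat 1, Int.ofNat 1, Int.negSucc 0],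
  [Int.ofNat 1, Int.negSucc 0, Int.ofNat 1, Int.ofNat 1, Int.negSucc 0, Int.negSucc 0, Int.negSucc 0, Int.ofNat 1, Int.ofNat 1, Int.negSucc 0, Int.negSucc 0, Int.negSucc 0, Int.negSucc 0, Int.ofNat 1, Int.negSucc 0, Int.ofNat 1, Int.ofNat 3, Int.ofNat 1, Int.ofNat 1, Int.ofNat 1, Int.ofNat 1, Int.negSucc 0, Int.ofNat 1, Int.negSucc 0],
  [Int.ofNat 1, Int.ofNat 1, Int.negSucc 0, Int.ofNat 1, Int.ofNat 1, Int.negSucc 0, Int.negSucc 0, Int.negSucc 0, Int.ofNat 1, Int.ofNat 1, Int.negSucc 0, Int.negSucc 0, Int.negSucc 0, Int.negSucc 0, Int.ofNat 1, Int.negSucc 0, Int.ofNat 1, Int.ofNat 3, Int.ofNat 1, Int.ofNat 1, Int.ofNat 1, Int.ofNat 1, Int.negSucc 0, Int.negSucc 0],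
  [Int.negSucc 0, Int.negSucc 0, Int.ofNat 1, Int.negSucc 0, Int.ofNat 1, Int.negSucc 2, Int.negSucc 0, Int.negSucc 0, Int.ofNat 1, Int.ofNat 1, Int.negSucc 0, Int.negSucc 0, Int.negSucc 0, Int.negSucc 0, Int.negSucc 0, Int.negSucc 0, Int.ofNat 1, Int.ofNat 1, Int.ofNat 1, Int.ofNat 1, Int.ofNat 1, Int.ofNat 1, Int.negSucc 0, Int.ofNat 1],
  [Int.negSucc 0, Int.ofNat 1, Int.negSucc 2, Int.negSucc 0, Int.negSucc 0, Int.ofNat 1, Int.ofNat 1, Int.negSucc 0, Int.negSucc 0, Int.negSucc 0, Int.negSucc 0, Int.negSucc 0, Int.negSucc 0, Int.ofNat 1, Int.ofNat 1, Int.ofNat 1, Int.ofNat 1, Int.ofNat 1, Int.ofNat 1, Int.negSucc 0, Int.negSucc 0, Int.negSucc 0, Int.ofNat 1, Int.ofNat 1],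
  [Int.ofNat 0, Int.negSucc 1, Int.ofNat 2, Int.negSucc 1, Int.negSucc 1, Int.ofNat 0, Int.ofNat 2, Int.ofNat 0, Int.ofNat 0, Int.ofNat 0, Int.ofNat 0, Int.ofNat 0, Int.ofNat 0, Int.ofNat 0, Int.ofNat 0, Int.ofNat 2, Int.ofNat 0, Int.ofNat 0, Int.ofNat 2, Int.ofNat 0, Int.ofNat 0, Int.ofNat 0, Int.ofNat 0, Int.negSucc 1],
  [Int.ofNat 0, Int.ofNat 2, Int.negSucc 1, Int.negSucc 1, Int.ofNat 2, Int.ofNat 0, Int.ofNat 2, Int.ofNat 0, Int.ofNat 0, Int.ofNat 0, Int.ofNat 0, Int.ofNat 0, Int.ofNat 0, Int.ofNat 0, Int.ofNat 0, Int.ofNat 2, Int.ofNat 0, Int.ofNat 0, Int.negSucc 1, Int.ofNat 0, Int.ofNat 0, Int.ofNat 0, Int.ofNat 0, Int.negSucc 1],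
  [Int.negSucc 0, Int.negSucc 2, Int.ofNat 1, Int.negSucc 0, Int.ofNat 1, Int.ofNat 1, Int.ofNat 1, Int.negSucc 0, Int.ofNat 1, Int.negSucc 0, Int.negSucc 0, Int.ofNat 1, Int.ofNat 1, Int.negSucc 0, Int.ofNat 1, Int.ofNat 1, Int.negSucc 0, Int.ofNat 1, Int.negSucc 0, Int.negSucc 0, Int.negSucc 0, Int.negSucc 0, Int.negSucc 0, Int.ofNat 1],
  [Int.negSucc 0, Int.negSucc 2, Int.negSucc 0, Int.negSucc 0, Int.ofNat 1, Int.negSucc 0, Int.negSucc 0, Int.negSucc 0, Int.ofNat 1, Int.ofNat 1, Int.ofNat 1, Int.ofNat 1, Int.ofNat 1, Int.negSucc 0, Int.ofNat 1, Int.negSucc 0, Int.negSucc 0, Int.ofNat 1, Int.ofNat 1, Int.negSucc 0, Int.negSucc 0, Int.negSucc 0, Int.ofNat 1, Int.ofNat 1],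
  [Int.ofNat 1, Int.ofNat 1, Int.negSucc 0, Int.negSucc 0, Int.ofNat 1, Int.ofNat 1, Int.negSucc 0, Int.negSucc 0, Int.negSucc 0, Int.ofNat 1, Int.negSucc 0, Int.negSucc 0, Int.ofNat 1, Int.ofNat 1, Int.negSucc 0, Int.ofNat 1, Int.negSucc 0, Int.negSucc 0, Int.negSucc 0, Int.negSucc 2, Int.ofNat 1, Int.negSucc 0, Int.ofNat 1, Int.ofNat 1],
  [Int.ofNat 1, Int.ofNat 1, Int.ofNat 1, Int.negSucc 0, Int.ofNat 1, Int.negSucc 0, Int.ofNat 1, Int.negSucc 0, Int.negSucc 0, Int.negSucc 0, Int.ofNat 1, Int.negSucc 0, Int.ofNat 1, Int.ofNat 1, Int.negSucc 0, Int.negSucc 0, Int.negSucc 0, Int.negSucc 0, Int.ofNat 1, Int.negSucc 2, Int.ofNat 1, Int.negSucc 0, Int.negSucc 0, Int.ofNat 1],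
  [Int.ofNat 1, Int.ofNat 1, Int.ofNat 1, Int.ofNat 1, Int.ofNat 1, Int.ofNat 1, Int.ofNat 3, Int.ofNat 1, Int.negSucc 0, Int.negSucc 0, Int.ofNat 1, Int.negSucc 0, Int.ofNat 1, Int.ofNat 1, Int.ofNat 1, Int.negSucc 0, Int.negSucc 0, Int.ofNat 1, Int.ofNat 1, Int.negSucc 0, Int.ofNat 1, Int.ofNat 1, Int.negSucc 0, Int.ofNat 1],
  [Int.ofNat 1, Int.ofNat 1, Int.ofNat 3, Int.ofNat 1, Int.ofNat 1, Int.ofNat 1, Int.ofNat 1, Int.ofNat 1, Int.negSucc 0, Int.ofNat 1, Int.ofNat 1, Int.negSucc 0, Int.negSucc 0, Int.negSucc 0, Int.ofNat 1, Int.negSucc 0, Int.ofNat 1, Int.negSucc 0, Int.ofNat 1, Int.negSucc 0, Int.ofNat 1, Int.ofNat 1, Int.ofNat 1, Int.ofNat 1],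
  [Int.ofNat 2, Int.ofNat 2, Int.ofNat 0, Int.ofNat 0, Int.ofNat 0, Int.ofNat 0, Int.ofNat 0, Int.ofNat 0, Int.ofNat 0, Int.ofNat 0, Int.ofNat 0, Int.ofNat 0, Int.ofNat 0, Int.negSucc 1, Int.ofNat 0, Int.negSucc 1, Int.ofNat 0, Int.negSucc 1, Int.ofNat 2, Int.negSucc 1, Int.ofNat 0, Int.ofNat 0, Int.ofNat 0, Int.ofNat 2],
  [Int.ofNat 0, Int.ofNat 0, Int.ofNat 0, Int.ofNat 2, Int.ofNat 2, Int.ofNat 0, Int.ofNat 0, Int.ofNat 0, Int.ofNat 0, Int.ofNat 0, Int.ofNat 0, Int.ofNat 0, Int.ofNat 0, Int.ofNat 0, Int.ofNat 0, Int.ofNat 0, Int.negSucc 1, Int.ofNat 0, Int.negSucc 1, Int.ofNat 0, Int.negSucc 1, Int.ofNat 2, Int.negSucc 1, Int.ofNat 2],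
  [Int.ofNat 1, Int.ofNat 1, Int.ofNat 1, Int.ofNat 1, Int.ofNat 3, Int.negSucc 0, Int.negSucc 0, Int.negSucc 0, Int.ofNat 1, Int.ofNat 1, Int.ofNat 1, Int.ofNat 1, Int.ofNat 1, Int.ofNat 1, Int.negSucc 0, Int.ofNat 1, Int.negSucc 0, Int.negSucc 0, Int.negSucc 0, Int.negSucc 0, Int.negSucc 0, Int.ofNat 1, Int.negSucc 0, Int.negSucc 0],
  [Int.ofNat 1, Int.ofNat 1, Int.ofNat 1, Int.ofNat 3, Int.negSucc 0, Int.negSucc 0, Int.negSucc 0, Int.ofNat 1, Int.ofNat 1, Int.ofNat 1, Int.ofNat 1, Int.ofNat 1, Int.ofNat 1, Int.negSucc 0, Int.ofNat 1, Int.negSucc 0, Int.negSucc 0, Int.negSucc 0, Int.negSucc 0, Int.negSucc 0, Int.ofNat 1, Int.negSucc 0, Int.ofNat 1, Int.negSucc 0],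
  [Int.negSucc 0, Int.ofNat 1, Int.negSucc 0, Int.ofNat 3, Int.negSucc 0, Int.negSucc 0, Int.negSucc 0, Int.negSucc 0, Int.ofNat 1, Int.negSucc 0, Int.negSucc 0, Int.negSucc 0, Int.ofNat 1, Int.negSucc 0, Int.ofNat 1, Int.negSucc 0, Int.negSucc 0, Int.negSucc 0, Int.ofNat 1, Int.negSucc 0, Int.ofNat 1, Int.ofNat 1, Int.ofNat 1, Int.negSucc 0],
  [Int.ofNat 1, Int.negSucc 0, Int.ofNat 1, Int.negSucc 2, Int.ofNat 1, Int.negSucc 0, Int.ofNat 1, Int.negSucc 0, Int.negSucc 0, Int.ofNat 1, Int.negSucc 0, Int.negSucc 0, Int.negSucc 0, Int.ofNat 1, Int.ofNat 1, Int.negSucc 0, Int.ofNat 1, Int.negSucc 0, Int.negSucc 0, Int.negSucc 0, Int.ofNat 1, Int.ofNat 1, Int.ofNat 1, Int.negSucc 0],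
  [Int.ofNat 1, Int.ofNat 1, Int.negSucc 0, Int.negSucc 2, Int.negSucc 0, Int.negSucc 0, Int.ofNat 1, Int.ofNat 1, Int.ofNat 1, Int.ofNat 1, Int.ofNat 1, Int.ofNat 1, Int.ofNat 1, Int.negSucc 0, Int.negSucc 0, Int.negSucc 0, Int.negSucc 0, Int.ofNat 1, Int.ofNat 1, Int.negSucc 0, Int.negSucc 0, Int.negSucc 0, Int.negSucc 0, Int.negSucc 0],
  [Int.negSucc 0, Int.ofNat 1, Int.ofNat 1, Int.negSucc 2, Int.negSucc 0, Int.negSucc 0, Int.ofNat 1, Int.negSucc 0, Int.ofNat 1, Int.negSucc 0, Int.negSucc 0, Int.negSucc 0, Int.ofNat 1, Int.negSucc 0, Int.negSucc 0, Int.negSucc 0, Int.negSucc 0, Int.ofNat 1, Int.negSucc 0, Int.negSucc 0, Int.negSucc 0, Int.ofNat 1, Int.negSucc 0, Int.negSucc 0],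
  [Int.negSucc 0, Int.negSucc 0, Int.ofNat 1, Int.ofNat 1, Int.negSucc 2, Int.negSucc 0, Int.negSucc 0, Int.ofNat 1, Int.negSucc 0, Int.ofNat 1, Int.negSucc 0, Int.negSucc 0, Int.negSucc 0, Int.ofNat 1, Int.negSucc 0, Int.negSucc 0, Int.negSucc 0, Int.negSucc 0, Int.ofNat 1, Int.negSucc 0, Int.negSucc 0, Int.negSucc 0, Int.ofNat 1, Int.negSucc 0],
  [Int.ofNat 0, Int.ofNat 0, Int.negSucc 1, Int.ofNat 2, Int.negSucc 1, Int.ofNat 0, Int.ofNat 0, Int.ofNat 2, Int.ofNat 0, Int.ofNat 2, Int.ofNat 0, Int.ofNat 0, Int.ofNat 0, Int.ofNat 2, Int.ofNat 0, Int.ofNat 0, Int.ofNat 0, Int.ofNat 0, Int.ofNat 2, Int.ofNat 0, Int.ofNat 0, Int.ofNat 0, Int.ofNat 2, Int.ofNat 0],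
  [Int.ofNat 2, Int.negSucc 1, Int.ofNat 0, Int.ofNat 0, Int.ofNat 2, Int.ofNat 0, Int.ofNat 2, Int.ofNat 0, Int.ofNat 0, Int.ofNat 0, Int.ofNat 2, Int.ofNat 0, Int.ofNat 0, Int.ofNat 0, Int.ofNat 0, Int.ofNat 2, Int.ofNat 0, Int.ofNat 0, Int.ofNat 0, Int.ofNat 2, Int.ofNat 0, Int.ofNat 0, Int.negSucc 1, Int.ofNat 0],
  [Int.negSucc 1, Int.ofNat 2, Int.ofNat 0, Int.ofNat 0, Int.ofNat 2, Int.ofNat 0, Int.ofNat 0, Int.negSucc 1, Int.ofNat 0, Int.negSucc 1, Int.ofNat 0, Int.ofNat 0, Int.ofNat 0, Int.ofNat 0, Int.ofNat 0, Int.ofNat 0, Int.ofNat 0, Int.ofNat 0, Int.ofNat 0, Int.ofNat 0, Int.negSucc 1, Int.negSucc 1, Int.negSucc 1, Int.ofNat 0],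
  [Int.negSucc 1, Int.ofNat 0, Int.ofNat 2, Int.ofNat 0, Int.ofNat 0, Int.negSucc 1, Int.ofNat 0, Int.ofNat 0, Int.ofNat 0, Int.ofNat 0, Int.negSucc 1, Int.ofNat 0, Int.negSucc 1, Int.ofNat 0, Int.negSucc 1, Int.ofNat 0, Int.ofNat 0, Int.ofNat 0, Int.ofNat 2, Int.ofNat 0, Int.negSucc 1, Int.ofNat 0, Int.ofNat 0, Int.ofNat 0],
  [Int.ofNat 2, Int.ofNat 0, Int.negSucc 1, Int.ofNat 2, Int.ofNat 0, Int.ofNat 0, Int.ofNat 0, Int.ofNat 0, Int.ofNat 0, Int.ofNat 2, Int.ofNat 0, Int.ofNat 0, Int.negSucc 1, Int.ofNat 0, Int.ofNat 0, Int.ofNat 2, Int.ofNat 0, Int.ofNat 2, Int.ofNat 2, Int.ofNat 0, Int.ofNat 0, Int.ofNat 0, Int.ofNat 0, Int.ofNat 0],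
  [Int.ofNat 2, Int.ofNat 0, Int.ofNat 2, Int.ofNat 2, Int.ofNat 0, Int.ofNat 0, Int.ofNat 0, Int.ofNat 0, Int.ofNat 0, Int.negSucc 1, Int.ofNat 0, Int.ofNat 0, Int.negSucc 1, Int.ofNat 0, Int.ofNat 0, Int.negSucc 1, Int.ofNat 0, Int.ofNat 2, Int.negSucc 1, Int.ofNat 0, Int.ofNat 0, Int.ofNat 0, Int.ofNat 0, Int.ofNat 0],
  [Int.ofNat 0, Int.ofNat 0, Int.ofNat 0, Int.ofNat 0, Int.ofNat 0, Int.ofNat 0, Int.ofNat 0, Int.ofNat 2, Int.ofNat 0, Int.ofNat 0, Int.ofNat 0, Int.ofNat 0, Int.negSucc 1, Int.ofNat 0, Int.ofNat 2, Int.negSucc 1, Int.ofNat 0, Int.negSucc 1, Int.negSucc 1, Int.ofNat 2, Int.ofNat 2, Int.ofNat 0, Int.ofNat 0, Int.ofNat 0],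
  [Int.ofNat 0, Int.ofNat 0, Int.ofNat 0, Int.negSucc 1, Int.negSucc 1, Int.ofNat 0, Int.ofNat 2, Int.ofNat 0, Int.ofNat 2, Int.ofNat 0, Int.ofNat 0, Int.ofNat 0, Int.ofNat 0, Int.ofNat 2, Int.negSucc 1, Int.ofNat 0, Int.ofNat 0, Int.ofNat 0, Int.ofNat 2, Int.ofNat 0, Int.ofNat 0, Int.negSucc 1, Int.ofNat 0, Int.ofNat 0],
  [Int.ofNat 0, Int.ofNat 0, Int.ofNat 0, Int.negSucc 1, Int.negSucc 1, Int.ofNat 0, Int.ofNat 2, Int.ofNat 0, Int.ofNat 2, Int.ofNat 0, Int.ofNat 0, Int.ofNat 0, Int.ofNat 0, Int.ofNat 2, Int.negSucc 1, Int.ofNat 0, Int.ofNat 0, Int.ofNat 0, Int.negSucc 1, Int.ofNat 0, Int.ofNat 0, Int.ofNat 2, Int.ofNat 0, Int.ofNat 0],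
  [Int.ofNat 0, Int.ofNat 0, Int.ofNat 0, Int.ofNat 0, Int.negSucc 1, Int.negSucc 1, Int.ofNat 0, Int.ofNat 2, Int.ofNat 0, Int.ofNat 2, Int.ofNat 0, Int.ofNat 0, Int.ofNat 0, Int.ofNat 0, Int.ofNat 2, Int.negSucc 1, Int.ofNat 0, Int.ofNat 0, Int.ofNat 0, Int.negSucc 1, Int.ofNat 0, Int.ofNat 0, Int.ofNat 2, Int.ofNat 0],
  [Int.ofNat 0, Int.ofNat 0, Int.ofNat 0, Int.ofNat 0, Int.negSucc 1, Int.negSucc 1, Int.ofNat 0, Int.ofNat 2, Int.ofNat 0, Int.ofNat 2, Int.ofNat 0, Int.ofNat 0, Int.ofNat 0, Int.ofNat 0, Int.ofNat 2, Int.negSucc 1, Int.ofNat 0, Int.ofNat 0, Int.ofNat 0, Int.negSucc 1, Int.ofNat 0, Int.ofNat 0, Int.ofNat 2, Int.ofNat 0],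
  [Int.ofNat 0, Int.negSucc 1, Int.negSucc 1, Int.ofNat 0, Int.ofNat 2, Int.ofNat 0, Int.ofNat 2, Int.ofNat 0, Int.ofNat 0, Int.ofNat 0, Int.ofNat 0, Int.ofNat 2, Int.negSucc 1, Int.ofNat 0, Int.ofNat 0, Int.ofNat 0, Int.negSucc 1, Int.ofNat 0, Int.ofNat 0, Int.ofNat 2, Int.ofNat 0, Int.ofNat 0, Int.ofNat 0, Int.ofNat 0],
  [Int.negSucc 1, Int.ofNat 0, Int.ofNat 0, Int.ofNat 0, Int.ofNat 2, Int.ofNat 0, Int.ofNat 0, Int.negSucc 1, Int.ofNat 0, Int.ofNat 0, Int.ofNat 0, Int.ofNat 2, Int.negSucc 1, Int.ofNat 0, Int.ofNat 0, Int.ofNat 0, Int.negSucc 1, Int.ofNat 0, Int.ofNat 0, Int.ofNat 0, Int.ofNat 0, Int.negSucc 1, Int.ofNat 0, Int.negSucc 1],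
  [Int.negSucc 1, Int.ofNat 0, Int.ofNat 2, Int.ofNat 0, Int.ofNat 0, Int.negSucc 1, Int.ofNat 0, Int.ofNat 0, Int.negSucc 1, Int.ofNat 0, Int.ofNat 0, Int.ofNat 0, Int.ofNat 0, Int.negSucc 1, Int.ofNat 0, Int.ofNat 0, Int.ofNat 0, Int.ofNat 0, Int.ofNat 0, Int.ofNat 2, Int.negSucc 1, Int.ofNat 0, Int.ofNat 0, Int.negSucc 1],
  [Int.ofNat 1, Int.negSucc 0, Int.negSucc 2, Int.ofNat 1, Int.ofNat 1, Int.negSucc 0, Int.negSucc 0, Int.negSucc 0, Int.negSucc 0, Int.ofNat 1, Int.ofNat 1, Int.ofNat 1, Int.ofNat 1, Int.negSucc 0, Int.ofNat 1, Int.ofNat 1, Int.ofNat 1, Int.ofNat 1, Int.ofNat 1, Int.ofNat 1, Int.negSucc 0, Int.negSucc 0, Int.ofNat 1, Int.ofNat 1],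
  [Int.ofNat 1, Int.negSucc 0, Int.ofNat 3, Int.ofNat 1, Int.ofNat 1, Int.ofNat 1, Int.ofNat 1, Int.negSucc 0, Int.negSucc 0, Int.negSucc 0, Int.negSucc 0, Int.ofNat 1, Int.ofNat 1, Int.negSucc 0, Int.ofNat 1, Int.negSucc 0, Int.ofNat 1, Int.ofNat 1, Int.negSucc 0, Int.ofNat 1, Int.negSucc 0, Int.negSucc 0, Int.negSucc 0, Int.ofNat 1],
  [Int.ofNat 1, Int.negSucc 0, Int.ofNat 1, Int.negSucc 0, Int.negSucc 0, Int.ofNat 1, Int.negSucc 0, Int.ofNat 1, Int.ofNat 1, Int.negSucc 0, Int.ofNat 1, Int.ofNat 1, Int.negSucc 0, Int.negSucc 0, Int.negSucc 0, Int.ofNat 1, Int.negSucc 0, Int.ofNat 3, Int.ofNat 1, Int.negSucc 0, Int.ofNat 1, Int.negSucc 0, Int.ofNat 1, Int.ofNat 1],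
  [Int.ofNat 1, Int.negSucc 0, Int.negSucc 0, Int.negSucc 0, Int.negSucc 0, Int.negSucc 0, Int.ofNat 1, Int.ofNat 1, Int.ofNat 1, Int.ofNat 1, Int.negSucc 0, Int.ofNat 1, Int.negSucc 0, Int.negSucc 0, Int.negSucc 0, Int.negSucc 0, Int.negSucc 0, Int.ofNat 3, Int.negSucc 0, Int.negSucc 0, Int.ofNat 1, Int.negSucc 0, Int.negSucc 0, Int.ofNat 1],
  [Int.negSucc 0, Int.ofNat 1, Int.ofNat 1, Int.negSucc 0, Int.ofNat 1, Int.negSucc 0, Int.ofNat 1, Int.ofNat 1, Int.ofNat 1, Int.ofNat 1, Int.negSucc 0, Int.ofNat 1, Int.negSucc 0, Int.ofNat 1, Int.negSucc 0, Int.negSucc 0, Int.ofNat 1, Int.ofNat 3, Int.negSucc 0, Int.negSucc 0, Int.ofNat 1, Int.negSucc 0, Int.ofNat 1, Int.negSucc 0],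
  [Int.negSucc 0, Int.negSucc 0, Int.ofNat 1, Int.negSucc 0, Int.ofNat 1, Int.negSucc 0, Int.ofNat 1, Int.negSucc 0, Int.ofNat 1, Int.negSucc 0, Int.ofNat 1, Int.negSucc 0, Int.ofNat 1, Int.ofNat 1, Int.ofNat 3, Int.negSucc 0, Int.ofNat 1, Int.ofNat 1, Int.ofNat 1, Int.ofNat 1, Int.negSucc 0, Int.ofNat 1, Int.negSucc 0, Int.negSucc 0],
  [Int.ofNat 0, Int.ofNat 0, Int.negSucc 1, Int.negSucc 1, Int.ofNat 0, Int.negSucc 1, Int.ofNat 0, Int.negSucc 1, Int.ofNat 0, Int.ofNat 0, Int.ofNat 2, Int.negSucc 1, Int.ofNat 0, Int.ofNat 0, Int.ofNat 2, Int.ofNat 0, Int.ofNat 0, Int.ofNat 0, Int.ofNat 0, Int.ofNat 0, Int.ofNat 0, Int.ofNat 0, Int.negSucc 1, Int.ofNat 0],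
  [Int.ofNat 0, Int.ofNat 0, Int.negSucc 1, Int.ofNat 0, Int.ofNat 0, Int.negSucc 1, Int.negSucc 1, Int.ofNat 0, Int.negSucc 1, Int.ofNat 0, Int.negSucc 1, Int.ofNat 0, Int.ofNat 0, Int.ofNat 2, Int.negSucc 1, Int.ofNat 0, Int.ofNat 0, Int.ofNat 2, Int.ofNat 0, Int.ofNat 0, Int.ofNat 0, Int.ofNat 0, Int.ofNat 0, Int.ofNat 0],
  [Int.negSucc 0, Int.negSucc 0, Int.ofNat 1, Int.ofNat 1, Int.negSucc 0, Int.negSucc 0, Int.negSucc 0, Int.ofNat 1, Int.negSucc 0, Int.ofNat 1, Int.negSucc 0, Int.ofNat 1, Int.ofNat 1, Int.ofNat 1, Int.negSucc 0, Int.ofNat 1, Int.negSucc 0, Int.ofNat 3, Int.ofNat 1, Int.ofNat 1, Int.ofNat 1, Int.ofNat 1, Int.negSucc 0, Int.negSucc 0],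
  [Int.negSucc 0, Int.ofNat 1, Int.ofNat 1, Int.negSucc 0, Int.negSucc 0, Int.negSucc 0, Int.ofNat 1, Int.negSucc 0, Int.ofNat 1, Int.negSucc 0, Int.ofNat 1, Int.ofNat 1, Int.ofNat 1, Int.negSucc 0, Int.ofNat 1, Int.negSucc 0, Int.ofNat 3, Int.ofNat 1, Int.ofNat 1, Int.ofNat 1, Int.ofNat 1, Int.negSucc 0, Int.negSucc 0, Int.negSucc 0],
  [Int.ofNat 1, Int.ofNat 1, Int.negSucc 0, Int.negSucc 0, Int.negSucc 0, Int.negSucc 0, Int.ofNat 1, Int.ofNat 1, Int.ofNat 1, Int.ofNat 1, Int.negSucc 0, Int.negSucc 0, Int.ofNat 1, Int.negSucc 0, Int.ofNat 1, Int.negSucc 0, Int.ofNat 3, Int.ofNat 1, Int.negSucc 0, Int.ofNat 1, Int.ofNat 1, Int.ofNat 1, Int.negSucc 0, Int.negSucc 0],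
  [Int.negSucc 0, Int.negSucc 0, Int.ofNat 1, Int.ofNat 1, Int.ofNat 1, Int.negSucc 0, Int.negSucc 0, Int.ofNat 1, Int.negSucc 0, Int.negSucc 0, Int.negSucc 0, Int.negSucc 0, Int.negSucc 0, Int.ofNat 1, Int.ofNat 1, Int.negSucc 0, Int.negSucc 2, Int.ofNat 1, Int.ofNat 1, Int.ofNat 1, Int.ofNat 1, Int.ofNat 1, Int.negSucc 0, Int.negSucc 0],
  [Int.negSucc 0, Int.ofNat 1, Int.ofNat 1, Int.ofNat 1, Int.negSucc 0, Int.negSucc 0, Int.ofNat 1, Int.ofNat 1, Int.negSucc 0, Int.negSucc 2, Int.ofNat 1, Int.ofNat 1, Int.ofNat 1, Int.negSucc 0, Int.ofNat 1, Int.negSucc 0, Int.negSucc 0, Int.negSucc 0, Int.negSucc 0, Int.ofNat 1, Int.negSucc 0, Int.ofNat 1, Int.negSucc 0, Int.negSucc 0],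
  [Int.ofNat 1, Int.ofNat 1, Int.negSucc 0, Int.ofNat 1, Int.negSucc 0, Int.negSucc 0, Int.ofNat 1, Int.negSucc 0, Int.negSucc 0, Int.ofNat 3, Int.negSucc 0, Int.negSucc 0, Int.ofNat 1, Int.negSucc 0, Int.ofNat 1, Int.negSucc 0, Int.negSucc 0, Int.negSucc 0, Int.ofNat 1, Int.ofNat 1, Int.negSucc 0, Int.negSucc 0, Int.negSucc 0, Int.negSucc 0],
  [Int.negSucc 0, Int.ofNat 1, Int.ofNat 1, Int.negSucc 0, Int.ofNat 1, Int.negSucc 0, Int.negSucc 0, Int.ofNat 1, Int.negSucc 0, Int.negSucc 0, Int.ofNat 3, Int.negSucc 0, Int.negSucc 0, Int.ofNat 1, Int.negSucc 0, Int.ofNat 1, Int.negSucc 0, Int.negSucc 0, Int.negSucc 0, Int.ofNat 1, Int.ofNat 1, Int.negSucc 0, Int.negSucc 0, Int.negSucc 0],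
  [Int.ofNat 1, Int.negSucc 0, Int.negSucc 0, Int.ofNat 1, Int.ofNat 1, Int.ofNat 1, Int.negSucc 0, Int.ofNat 1, Int.ofNat 1, Int.negSucc 2, Int.ofNat 1, Int.ofNat 1, Int.ofNat 1, Int.ofNat 1, Int.ofNat 1, Int.negSucc 0, Int.negSucc 0, Int.ofNat 1, Int.ofNat 1, Int.ofNat 1, Int.negSucc 0, Int.negSucc 0, Int.negSucc 0, Int.ofNat 1],
  [Int.ofNat 1, Int.ofNat 1, Int.ofNat 1, Int.negSucc 0, Int.ofNat 1, Int.ofNat 1, Int.negSucc 2, Int.ofNat 1, Int.ofNat 1, Int.ofNat 1, Int.ofNat 1, Int.ofNat 1, Int.negSucc 0, Int.negSucc 0, Int.ofNat 1, Int.ofNat 1, Int.ofNat 1, Int.negSucc 0, Int.negSucc 0, Int.negSucc 0, Int.ofNat 1, Int.negSucc 0, Int.negSucc 0, Int.ofNat 1],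
  [Int.ofNat 1, Int.ofNat 1, Int.ofNat 1, Int.negSucc 0, Int.ofNat 1, Int.ofNat 1, Int.negSucc 0, Int.ofNat 3, Int.ofNat 1, Int.negSucc 0, Int.negSucc 0, Int.ofNat 1, Int.negSucc 0, Int.negSucc 0, Int.ofNat 1, Int.negSucc 0, Int.ofNat 1, Int.negSucc 0, Int.negSucc 0, Int.ofNat 1, Int.negSucc 0, Int.ofNat 1, Int.negSucc 0, Int.ofNat 1],
  [Int.ofNat 1, Int.negSucc 0, Int.ofNat 1, Int.negSucc 0, Int.negSucc 0, Int.ofNat 3, Int.ofNat 1, Int.negSucc 0, Int.negSucc 0, Int.negSucc 0, Int.negSucc 0, Int.negSucc 0, Int.negSucc 0, Int.ofNat 1, Int.negSucc 0, Int.negSucc 0, Int.ofNat 1, Int.ofNat 1, Int.ofNat 1, Int.ofNat 1, Int.ofNat 1, Int.ofNat 1, Int.ofNat 1, Int.ofNat 1],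
  [Int.ofNat 0, Int.ofNat 2, Int.ofNat 0, Int.negSucc 1, Int.negSucc 1, Int.ofNat 2, Int.ofNat 0, Int.negSucc 1, Int.ofNat 0, Int.ofNat 0, Int.ofNat 0, Int.ofNat 0, Int.ofNat 0, Int.ofNat 0, Int.negSucc 1, Int.ofNat 0, Int.ofNat 0, Int.ofNat 0, Int.ofNat 2, Int.ofNat 0, Int.ofNat 2, Int.ofNat 0, Int.ofNat 0, Int.ofNat 0],
  [Int.ofNat 0, Int.ofNat 2, Int.ofNat 0, Int.negSucc 1, Int.negSucc 1, Int.negSucc 1, Int.ofNat 0, Int.negSucc 1, Int.ofNat 0, Int.ofNat 0, Int.ofNat 0, Int.ofNat 0, Int.ofNat 0, Int.ofNat 0, Int.negSucc 1, Int.ofNat 0, Int.ofNat 0, Int.ofNat 0, Int.negSucc 1, Int.ofNat 0, Int.ofNat 2, Int.ofNat 0, Int.ofNat 0, Int.ofNat 0],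
  [Int.ofNat 0, Int.ofNat 0, Int.ofNat 0, Int.ofNat 0, Int.negSucc 1, Int.ofNat 0, Int.ofNat 0, Int.negSucc 1, Int.negSucc 1, Int.ofNat 2, Int.ofNat 0, Int.negSucc 1, Int.ofNat 0, Int.negSucc 1, Int.ofNat 0, Int.negSucc 1, Int.ofNat 0, Int.ofNat 0, Int.ofNat 0, Int.ofNat 0, Int.ofNat 0, Int.ofNat 2, Int.ofNat 0, Int.ofNat 0],
  [Int.ofNat 0, Int.ofNat 0, Int.negSucc 1, Int.negSucc 1, Int.ofNat 0, Int.ofNat 2, Int.ofNat 0, Int.negSucc 1, Int.ofNat 0, Int.ofNat 0, Int.ofNat 0, Int.ofNat 0, Int.ofNat 2, Int.negSucc 1, Int.ofNat 0, Int.ofNat 0, Int.ofNat 0, Int.negSucc 1, Int.ofNat 0, Int.ofNat 0, Int.negSucc 1, Int.ofNat 0, Int.ofNat 0, Int.ofNat 0],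
  [Int.ofNat 0, Int.ofNat 0, Int.ofNat 2, Int.negSucc 1, Int.ofNat 0, Int.ofNat 2, Int.ofNat 0, Int.ofNat 2, Int.ofNat 0, Int.ofNat 0, Int.ofNat 0, Int.ofNat 0, Int.ofNat 2, Int.negSucc 1, Int.ofNat 0, Int.ofNat 0, Int.ofNat 0, Int.negSucc 1, Int.ofNat 0, Int.ofNat 0, Int.negSucc 1, Int.ofNat 0, Int.ofNat 0, Int.ofNat 0],
  [Int.ofNat 0, Int.ofNat 0, Int.ofNat 0, Int.ofNat 2, Int.negSucc 1, Int.ofNat 0, Int.ofNat 2, Int.ofNat 0, Int.ofNat 2, Int.ofNat 0, Int.ofNat 0, Int.ofNat 0, Int.ofNat 0, Int.ofNat 2, Int.negSucc 1, Int.ofNat 0, Int.ofNat 0, Int.ofNat 0, Int.negSucc 1, Int.ofNat 0, Int.ofNat 0, Int.negSucc 1, Int.ofNat 0, Int.ofNat 0],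
  [Int.ofNat 0, Int.ofNat 0, Int.ofNat 0, Int.ofNat 2, Int.negSucc 1, Int.ofNat 0, Int.ofNat 2, Int.ofNat 0, Int.ofNat 2, Int.ofNat 0, Int.ofNat 0, Int.ofNat 0, Int.ofNat 0, Int.ofNat 2, Int.negSucc 1, Int.ofNat 0, Int.ofNat 0, Int.ofNat 0, Int.negSucc 1, Int.ofNat 0, Int.ofNat 0, Int.negSucc 1, Int.ofNat 0, Int.ofNat 0],
  [Int.ofNat 2, Int.negSucc 1, Int.ofNat 0, Int.ofNat 2, Int.ofNat 0, Int.ofNat 2, Int.ofNat 0, Int.ofNat 0, Int.ofNat 0, Int.ofNat 0, Int.ofNat 2, Int.negSucc 1, Int.ofNat 0, Int.ofNat 0, Int.ofNat 0, Int.negSucc 1, Int.ofNat 0, Int.ofNat 0, Int.negSucc 1, Int.ofNat 0, Int.ofNat 0, Int.ofNat 0, Int.ofNat 0, Int.ofNat 0],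
  [Int.negSucc 1, Int.ofNat 2, Int.ofNat 0, Int.ofNat 0, Int.ofNat 0, Int.ofNat 0, Int.ofNat 0, Int.ofNat 0, Int.ofNat 2, Int.ofNat 0, Int.ofNat 2, Int.ofNat 0, Int.ofNat 2, Int.ofNat 0, Int.negSucc 1, Int.negSucc 1, Int.ofNat 0, Int.negSucc 1, Int.ofNat 0, Int.ofNat 0, Int.ofNat 0, Int.ofNat 0, Int.ofNat 0, Int.ofNat 0],
  [Int.negSucc 1, Int.ofNat 0, Int.ofNat 0, Int.ofNat 0, Int.ofNat 0, Int.ofNat 0, Int.ofNat 0, Int.ofNat 2, Int.ofNat 2, Int.ofNat 0, Int.ofNat 0, Int.negSucc 1, Int.ofNat 0, Int.ofNat 0, Int.ofNat 0, Int.negSucc 1, Int.ofNat 2, Int.negSucc 1, Int.ofNat 2, Int.ofNat 0, Int.ofNat 0, Int.ofNat 0, Int.ofNat 0, Int.ofNat 0],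
  [Int.ofNat 1, Int.negSucc 0, Int.negSucc 0, Int.ofNat 1, Int.negSucc 0, Int.ofNat 1, Int.negSucc 0, Int.ofNat 1, Int.ofNat 1, Int.ofNat 1, Int.ofNat 1, Int.negSucc 2, Int.negSucc 0, Int.negSucc 0, Int.ofNat 1, Int.negSucc 0, Int.ofNat 1, Int.negSucc 0, Int.ofNat 1, Int.negSucc 0, Int.ofNat 1, Int.negSucc 0, Int.negSucc 0, Int.negSucc 0],
  [Int.ofNat 1, Int.negSucc 0, Int.ofNat 1, Int.ofNat 1, Int.negSucc 0, Int.negSucc 0, Int.ofNat 1, Int.ofNat 1, Int.ofNat 1, Int.negSucc 0, Int.negSucc 0, Int.negSucc 2, Int.negSucc 0, Int.negSucc 0, Int.ofNat 1, Int.ofNat 1, Int.ofNat 1, Int.negSucc 0, Int.negSucc 0, Int.negSucc 0, Int.ofNat 1, Int.negSucc 0, Int.ofNat 1, Int.negSucc 0],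
  [Int.negSucc 2, Int.ofNat 1, Int.ofNat 1, Int.ofNat 1, Int.negSucc 0, Int.negSucc 0, Int.negSucc 0, Int.negSucc 0, Int.negSucc 0, Int.negSucc 0, Int.ofNat 1, Int.ofNat 1, Int.ofNat 1, Int.negSucc 0, Int.ofNat 1, Int.negSucc 0, Int.negSucc 0, Int.ofNat 1, Int.ofNat 1, Int.negSucc 0, Int.negSucc 0, Int.ofNat 1, Int.ofNat 1, Int.negSucc 0],
  [Int.negSucc 2, Int.ofNat 1, Int.negSucc 0, Int.ofNat 1, Int.negSucc 0, Int.ofNat 1, Int.ofNat 1, Int.negSucc 0, Int.negSucc 0, Int.ofNat 1, Int.negSucc 0, Int.ofNat 1, Int.ofNat 1, Int.negSucc 0, Int.ofNat 1, Int.ofNat 1, Int.negSucc 0, Int.ofNat 1, Int.negSucc 0, Int.negSucc 0, Int.negSucc 0, Int.ofNat 1, Int.negSucc 0, Int.negSucc 0],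
  [Int.ofNat 1, Int.negSucc 2, Int.negSucc 0, Int.negSucc 0, Int.ofNat 1, Int.negSucc 0, Int.ofNat 1, Int.negSucc 0, Int.negSucc 0, Int.ofNat 1, Int.negSucc 0, Int.ofNat 1, Int.ofNat 1, Int.ofNat 1, Int.negSucc 0, Int.ofNat 1, Int.ofNat 1, Int.negSucc 0, Int.negSucc 0, Int.negSucc 0, Int.negSucc 0, Int.ofNat 1, Int.ofNat 1, Int.negSucc 0],
  [Int.ofNat 1, Int.negSucc 0, Int.ofNat 1, Int.negSucc 0, Int.negSucc 0, Int.ofNat 1, Int.negSucc 2, Int.negSucc 0, Int.ofNat 1, Int.ofNat 1, Int.negSucc 0, Int.negSucc 0, Int.negSucc 0, Int.ofNat 1, Int.negSucc 0, Int.ofNat 1, Int.ofNat 1, Int.ofNat 1, Int.ofNat 1, Int.ofNat 1, Int.negSucc 0, Int.negSucc 0, Int.negSucc 0, Int.negSucc 0],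
  [Int.negSucc 0, Int.ofNat 1, Int.negSucc 0, Int.negSucc 0, Int.negSucc 0, Int.ofNat 1, Int.negSucc 0, Int.ofNat 1, Int.ofNat 1, Int.ofNat 1, Int.negSucc 0, Int.negSucc 0, Int.negSucc 0, Int.ofNat 1, Int.negSucc 0, Int.ofNat 1, Int.ofNat 1, Int.ofNat 1, Int.ofNat 1, Int.ofNat 3, Int.negSucc 0, Int.ofNat 1, Int.negSucc 0, Int.ofNat 1],
  [Int.negSucc 0, Int.ofNat 1, Int.negSucc 0, Int.negSucc 0, Int.ofNat 1, Int.negSucc 0, Int.negSucc 0, Int.negSucc 0, Int.ofNat 1, Int.negSucc 0, Int.ofNat 1, Int.ofNat 1, Int.ofNat 1, Int.negSucc 0, Int.negSucc 0, Int.negSucc 0, Int.ofNat 1, Int.negSucc 0, Int.ofNat 1, Int.ofNat 1, Int.ofNat 1, Int.ofNat 1, Int.ofNat 3, Int.ofNat 1],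
  [Int.ofNat 1, Int.negSucc 0, Int.ofNat 1, Int.ofNat 1, Int.negSucc 0, Int.ofNat 1, Int.negSucc 0, Int.negSucc 0, Int.negSucc 0, Int.negSucc 0, Int.ofNat 1, Int.negSucc 0, Int.negSucc 0, Int.negSucc 2, Int.ofNat 1, Int.negSucc 0, Int.negSucc 0, Int.ofNat 1, Int.negSucc 0, Int.ofNat 1, Int.ofNat 1, Int.ofNat 1, Int.ofNat 1, Int.negSucc 0],
  [Int.negSucc 0, Int.ofNat 1, Int.ofNat 1, Int.negSucc 0, Int.ofNat 1, Int.negSucc 0, Int.negSucc 0, Int.negSucc 0, Int.negSucc 0, Int.ofNat 1, Int.negSucc 0, Int.negSucc 0, Int.negSucc 2, Int.ofNat 1, Int.negSucc 0, Int.negSucc 0, Int.ofNat 1, Int.negSucc 0, Int.ofNat 1, Int.ofNat 1, Int.ofNat 1, Int.ofNat 1, Int.ofNat 1, Int.negSucc 0],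
  [Int.ofNat 1, Int.ofNat 1, Int.negSucc 0, Int.negSucc 0, Int.ofNat 1, Int.negSucc 0, Int.negSucc 0, Int.ofNat 1, Int.negSucc 0, Int.negSucc 0, Int.ofNat 1, Int.ofNat 1, Int.negSucc 2, Int.ofNat 1, Int.negSucc 0, Int.negSucc 0, Int.ofNat 1, Int.negSucc 0, Int.negSucc 0, Int.ofNat 1, Int.ofNat 1, Int.negSucc 0, Int.ofNat 1, Int.negSucc 0],
  [Int.negSucc 0, Int.negSucc 0, Int.ofNat 1, Int.ofNat 1, Int.negSucc 0, Int.negSucc 0, Int.ofNat 1, Int.ofNat 1, Int.ofNat 1, Int.ofNat 1, Int.ofNat 1, Int.ofNat 1, Int.ofNat 3, Int.negSucc 0, Int.negSucc 0, Int.negSucc 0, Int.negSucc 0, Int.negSucc 0, Int.ofNat 1, Int.ofNat 1, Int.ofNat 1, Int.negSucc 0, Int.ofNat 1, Int.negSucc 0],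
  [Int.negSucc 0, Int.ofNat 1, Int.ofNat 1, Int.ofNat 1, Int.negSucc 0, Int.ofNat 1, Int.negSucc 0, Int.ofNat 1, Int.ofNat 1, Int.negSucc 0, Int.negSucc 0, Int.negSucc 0, Int.negSucc 0, Int.ofNat 1, Int.ofNat 1, Int.negSucc 0, Int.ofNat 3, Int.ofNat 1, Int.ofNat 1, Int.negSucc 0, Int.negSucc 0, Int.ofNat 1, Int.ofNat 1, Int.negSucc 0],
  [Int.ofNat 1, Int.ofNat 1, Int.negSucc 0, Int.ofNat 1, Int.negSucc 0, Int.ofNat 1, Int.negSucc 0, Int.negSucc 0, Int.ofNat 1, Int.ofNat 1, Int.ofNat 1, Int.ofNat 1, Int.negSucc 0, Int.ofNat 1, Int.ofNat 1, Int.negSucc 0, Int.ofNat 3, Int.ofNat 1, Int.negSucc 0, Int.negSucc 0, Int.negSucc 0, Int.negSucc 0, Int.ofNat 1, Int.negSucc 0],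
  [Int.ofNat 1, Int.ofNat 1, Int.ofNat 1, Int.negSucc 0, Int.ofNat 1, Int.negSucc 0, Int.ofNat 1, Int.negSucc 0, Int.negSucc 0, Int.ofNat 1, Int.ofNat 1, Int.ofNat 1, Int.ofNat 1, Int.negSucc 0, Int.ofNat 1, Int.ofNat 1, Int.negSucc 0, Int.ofNat 3, Int.ofNat 1, Int.negSucc 0, Int.negSucc 0, Int.negSucc 0, Int.negSucc 0, Int.negSucc 0],
  [Int.ofNat 0, Int.ofNat 0, Int.ofNat 0, Int.negSucc 1, Int.ofNat 2, Int.negSucc 1, Int.ofNat 2, Int.ofNat 0, Int.negSucc 1, Int.ofNat 0, Int.ofNat 0, Int.ofNat 0, Int.ofNat 0, Int.ofNat 0, Int.ofNat 0, Int.ofNat 0, Int.ofNat 0, Int.ofNat 2, Int.ofNat 0, Int.ofNat 0, Int.negSucc 1, Int.ofNat 0, Int.ofNat 0, Int.ofNat 2],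
  [Int.negSucc 1, Int.ofNat 2, Int.negSucc 1, Int.ofNat 2, Int.ofNat 0, Int.negSucc 1, Int.ofNat 0, Int.ofNat 0, Int.ofNat 0, Int.ofNat 0, Int.ofNat 0, Int.ofNat 0, Int.ofNat 0, Int.ofNat 0, Int.ofNat 2, Int.ofNat 0, Int.ofNat 0, Int.negSucc 1, Int.ofNat 0, Int.ofNat 0, Int.ofNat 0, Int.ofNat 0, Int.ofNat 0, Int.ofNat 2],
  [Int.ofNat 2, Int.negSucc 1, Int.ofNat 2, Int.ofNat 2, Int.ofNat 0, Int.negSucc 1, Int.ofNat 0, Int.ofNat 0, Int.ofNat 0, Int.ofNat 0, Int.ofNat 0, Int.ofNat 0, Int.ofNat 0, Int.ofNat 0, Int.ofNat 2, Int.ofNat 0, Int.ofNat 0, Int.negSucc 1, Int.ofNat 0, Int.ofNat 0, Int.ofNat 0, Int.ofNat 0, Int.ofNat 0, Int.negSucc 1],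
  [Int.ofNat 2, Int.ofNat 0, Int.ofNat 0, Int.ofNat 2, Int.ofNat 0, Int.ofNat 0, Int.ofNat 2, Int.ofNat 0, Int.ofNat 0, Int.ofNat 0, Int.ofNat 0, Int.negSucc 1, Int.ofNat 0, Int.ofNat 0, Int.ofNat 0, Int.ofNat 0, Int.ofNat 0, Int.ofNat 2, Int.negSucc 1, Int.ofNat 0, Int.ofNat 0, Int.negSucc 1, Int.ofNat 0, Int.negSucc 1],
  [Int.negSucc 1, Int.ofNat 0, Int.ofNat 0, Int.ofNat 0, Int.ofNat 0, Int.negSucc 1, Int.ofNat 2, Int.ofNat 0, Int.ofNat 2, Int.ofNat 0, Int.ofNat 0, Int.ofNat 0, Int.ofNat 2, Int.ofNat 0, Int.negSucc 1, Int.ofNat 0, Int.ofNat 0, Int.ofNat 0, Int.ofNat 0, Int.ofNat 0, Int.ofNat 0, Int.negSucc 1, Int.ofNat 0, Int.ofNat 2],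
  [Int.negSucc 1, Int.ofNat 0, Int.ofNat 0, Int.ofNat 0, Int.ofNat 0, Int.ofNat 2, Int.negSucc 1, Int.ofNat 0, Int.ofNat 2, Int.ofNat 0, Int.ofNat 0, Int.ofNat 0, Int.ofNat 2, Int.ofNat 0, Int.negSucc 1, Int.ofNat 0, Int.ofNat 0, Int.ofNat 0, Int.ofNat 0, Int.ofNat 0, Int.ofNat 0, Int.negSucc 1, Int.ofNat 0, Int.ofNat 2],
  [Int.ofNat 0, Int.ofNat 0, Int.ofNat 0, Int.ofNat 2, Int.negSucc 1, Int.negSucc 1, Int.negSucc 1, Int.ofNat 0, Int.ofNat 2, Int.ofNat 0, Int.ofNat 0, Int.ofNat 0, Int.ofNat 0, Int.ofNat 0, Int.ofNat 0, Int.ofNat 0, Int.ofNat 0, Int.ofNat 2, Int.ofNat 0, Int.ofNat 0, Int.negSucc 1, Int.ofNat 0, Int.ofNat 0, Int.ofNat 2],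
  [Int.ofNat 2, Int.ofNat 0, Int.ofNat 0, Int.ofNat 0, Int.ofNat 2, Int.ofNat 0, Int.ofNat 0, Int.ofNat 0, Int.negSucc 1, Int.negSucc 1, Int.ofNat 0, Int.ofNat 0, Int.ofNat 0, Int.ofNat 0, Int.ofNat 0, Int.ofNat 2, Int.ofNat 0, Int.negSucc 1, Int.ofNat 0, Int.negSucc 1, Int.ofNat 2, Int.ofNat 0, Int.ofNat 0, Int.ofNat 0],
  [Int.negSucc 1, Int.ofNat 0, Int.ofNat 0, Int.ofNat 0, Int.ofNat 2, Int.ofNat 0, Int.ofNat 0, Int.ofNat 0, Int.negSucc 1, Int.ofNat 2, Int.ofNat 0, Int.ofNat 0, Int.ofNat 0, Int.ofNat 0, Int.ofNat 0, Int.ofNat 2, Int.ofNat 0, Int.negSucc 1, Int.ofNat 0, Int.negSucc 1, Int.ofNat 2, Int.ofNat 0, Int.ofNat 0, Int.ofNat 0],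
  [Int.ofNat 0, Int.negSucc 1, Int.ofNat 0, Int.ofNat 0, Int.ofNat 0, Int.ofNat 2, Int.ofNat 0, Int.ofNat 0, Int.ofNat 0, Int.negSucc 1, Int.ofNat 2, Int.ofNat 0, Int.ofNat 0, Int.ofNat 0, Int.ofNat 0, Int.ofNat 0, Int.ofNat 2, Int.ofNat 0, Int.negSucc 1, Int.ofNat 0, Int.negSucc 1, Int.ofNat 2, Int.ofNat 0, Int.ofNat 0],
  [Int.negSucc 0, Int.ofNat 1, Int.negSucc 0, Int.negSucc 0, Int.negSucc 0, Int.ofNat 1, Int.negSucc 0, Int.negSucc 0, Int.ofNat 1, Int.negSucc 0, Int.ofNat 3, Int.ofNat 1, Int.ofNat 1, Int.negSucc 0, Int.negSucc 0, Int.ofNat 1, Int.ofNat 1, Int.negSucc 0, Int.negSucc 0, Int.negSucc 0, Int.negSucc 0, Int.ofNat 1, Int.negSucc 0, Int.negSucc 0],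
  [Int.negSucc 0, Int.negSucc 0, Int.ofNat 1, Int.negSucc 0, Int.negSucc 0, Int.ofNat 1, Int.negSucc 0, Int.ofNat 3, Int.ofNat 1, Int.ofNat 1, Int.negSucc 0, Int.negSucc 0, Int.ofNat 1, Int.ofNat 1, Int.negSucc 0, Int.negSucc 0, Int.negSucc 0, Int.negSucc 0, Int.ofNat 1, Int.negSucc 0, Int.negSucc 0, Int.ofNat 1, Int.negSucc 0, Int.negSucc 0],
  [Int.ofNat 0, Int.ofNat 0, Int.negSucc 1, Int.ofNat 0, Int.ofNat 0, Int.ofNat 2, Int.negSucc 1, Int.ofNat 2, Int.ofNat 0, Int.ofNat 2, Int.ofNat 0, Int.negSucc 1, Int.ofNat 0, Int.ofNat 2, Int.ofNat 0, Int.ofNat 0, Int.ofNat 0, Int.ofNat 0, Int.ofNat 0, Int.negSucc 1, Int.ofNat 0, Int.ofNat 0, Int.ofNat 0, Int.ofNat 0],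
  [Int.ofNat 0, Int.negSucc 1, Int.ofNat 0, Int.ofNat 0, Int.ofNat 0, Int.ofNat 2, Int.negSucc 1, Int.ofNat 0, Int.ofNat 0, Int.ofNat 2, Int.ofNat 0, Int.ofNat 0, Int.ofNat 2, Int.ofNat 0, Int.ofNat 0, Int.ofNat 0, Int.ofNat 0, Int.ofNat 0, Int.ofNat 0, Int.negSucc 1, Int.ofNat 0, Int.ofNat 2, Int.negSucc 1, Int.ofNat 0],
  [Int.negSucc 0, Int.ofNat 1, Int.negSucc 0, Int.negSucc 0, Int.ofNat 1, Int.ofNat 1, Int.negSucc 0, Int.ofNat 1, Int.negSucc 0, Int.ofNat 1, Int.negSucc 0, Int.negSucc 0, Int.ofNat 1, Int.ofNat 1, Int.negSucc 0, Int.negSucc 0, Int.ofNat 1, Int.negSucc 0, Int.negSucc 0, Int.negSucc 0, Int.negSucc 0, Int.ofNat 3, Int.negSucc 0, Int.negSucc 0],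
  [Int.negSucc 0, Int.ofNat 1, Int.ofNat 1, Int.negSucc 0, Int.ofNat 1, Int.negSucc 0, Int.ofNat 1, Int.ofNat 1, Int.negSucc 0, Int.negSucc 0, Int.ofNat 1, Int.negSucc 0, Int.ofNat 1, Int.ofNat 1, Int.negSucc 0, Int.ofNat 1, Int.ofNat 1, Int.negSucc 0, Int.ofNat 1, Int.negSucc 0, Int.negSucc 0, Int.ofNat 3, Int.ofNat 1, Int.negSucc 0],
  [Int.negSucc 0, Int.negSucc 0, Int.ofNat 1, Int.ofNat 1, Int.negSucc 0, Int.ofNat 1, Int.ofNat 1, Int.negSucc 0, Int.negSucc 0, Int.ofNat 1, Int.ofNat 1, Int.negSucc 0, Int.ofNat 1, Int.ofNat 1, Int.negSucc 0, Int.ofNat 1, Int.ofNat 3, Int.ofNat 1, Int.negSucc 0, Int.ofNat 1, Int.negSucc 0, Int.ofNat 1, Int.negSucc 0, Int.negSucc 0],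
  [Int.negSucc 0, Int.negSucc 0, Int.negSucc 0, Int.ofNat 1, Int.negSucc 0, Int.negSucc 0, Int.negSucc 0, Int.negSucc 0, Int.negSucc 0, Int.negSucc 0, Int.negSucc 0, Int.negSucc 0, Int.ofNat 1, Int.ofNat 1, Int.negSucc 0, Int.negSucc 0, Int.ofNat 3, Int.ofNat 1, Int.ofNat 1, Int.ofNat 1, Int.negSucc 0, Int.ofNat 1, Int.ofNat 1, Int.negSucc 0],
  [Int.negSucc 0, Int.negSucc 0, Int.negSucc 0, Int.ofNat 1, Int.negSucc 2, Int.negSucc 0, Int.negSucc 0, Int.negSucc 0, Int.negSucc 0, Int.ofNat 1, Int.ofNat 1, Int.negSucc 0, Int.ofNat 1, Int.negSucc 0, Int.negSucc 0, Int.ofNat 1, Int.ofNat 1, Int.ofNat 1, Int.ofNat 1, Int.ofNat 1, Int.ofNat 1, Int.ofNat 1, Int.negSucc 0, Int.negSucc 0],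
  [Int.negSucc 0, Int.ofNat 1, Int.negSucc 0, Int.ofNat 1, Int.negSucc 0, Int.ofNat 1, Int.negSucc 0, Int.negSucc 0, Int.ofNat 1, Int.ofNat 1, Int.negSucc 0, Int.ofNat 1, Int.negSucc 0, Int.ofNat 1, Int.ofNat 1, Int.ofNat 1, Int.negSucc 0, Int.negSucc 0, Int.negSucc 2, Int.negSucc 0, Int.ofNat 1, Int.ofNat 1, Int.negSucc 0, Int.negSucc 0],
  [Int.ofNat 0, Int.negSucc 1, Int.ofNat 0, Int.ofNat 0, Int.ofNat 0, Int.ofNat 0, Int.ofNat 0, Int.ofNat 0, Int.ofNat 2, Int.ofNat 0, Int.negSucc 1, Int.ofNat 2, Int.ofNat 0, Int.ofNat 2, Int.ofNat 0, Int.ofNat 0, Int.ofNat 0, Int.negSucc 1, Int.negSucc 1, Int.ofNat 0, Int.ofNat 0, Int.ofNat 2, Int.ofNat 0, Int.ofNat 0],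
  [Int.ofNat 0, Int.ofNat 2, Int.ofNat 0, Int.ofNat 0, Int.negSucc 1, Int.ofNat 0, Int.ofNat 0, Int.ofNat 0, Int.ofNat 0, Int.ofNat 0, Int.ofNat 0, Int.ofNat 2, Int.ofNat 0, Int.negSucc 1, Int.ofNat 2, Int.ofNat 0, Int.ofNat 2, Int.ofNat 0, Int.ofNat 0, Int.ofNat 0, Int.negSucc 1, Int.negSucc 1, Int.ofNat 0, Int.ofNat 0],
  [Int.ofNat 1, Int.negSucc 0, Int.ofNat 1, Int.negSucc 0, Int.negSucc 0, Int.negSucc 0, Int.ofNat 1, Int.ofNat 1, Int.negSucc 0, Int.ofNat 1, Int.ofNat 1, Int.ofNat 1, Int.negSucc 0, Int.negSucc 0, Int.ofNat 1, Int.ofNat 1, Int.ofNat 3, Int.negSucc 0, Int.negSucc 0, Int.ofNat 1, Int.negSucc 0, Int.negSucc 0, Int.ofNat 1, Int.ofNat 1],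
  [Int.negSucc 0, Int.ofNat 1, Int.negSucc 0, Int.negSucc 0, Int.negSucc 0, Int.ofNat 1, Int.ofNat 1, Int.negSucc 0, Int.ofNat 1, Int.ofNat 1, Int.ofNat 1, Int.negSucc 0, Int.negSucc 0, Int.ofNat 1, Int.ofNat 1, Int.ofNat 3, Int.negSucc 0, Int.negSucc 0, Int.ofNat 1, Int.negSucc 0, Int.negSucc 0, Int.ofNat 1, Int.ofNat 1, Int.ofNat 1],
  [Int.ofNat 1, Int.ofNat 1, Int.ofNat 1, Int.negSucc 0, Int.negSucc 0, Int.ofNat 1, Int.ofNat 1, Int.ofNat 1, Int.ofNat 1, Int.negSucc 0, Int.negSucc 0, Int.ofNat 1, Int.negSucc 0, Int.ofNat 1, Int.ofNat 1, Int.ofNat 3, Int.negSucc 0, Int.negSucc 0, Int.negSucc 0, Int.negSucc 0, Int.negSucc 0, Int.negSucc 0, Int.ofNat 1, Int.ofNat 1],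
  [Int.negSucc 0, Int.negSucc 0, Int.negSucc 0, Int.ofNat 1, Int.ofNat 1, Int.ofNat 1, Int.negSucc 0, Int.ofNat 1, Int.negSucc 0, Int.ofNat 1, Int.negSucc 0, Int.ofNat 1, Int.ofNat 1, Int.negSucc 0, Int.ofNat 1, Int.ofNat 3, Int.ofNat 1, Int.negSucc 0, Int.ofNat 1, Int.negSucc 0, Int.negSucc 0, Int.negSucc 0, Int.ofNat 1, Int.ofNat 1],
  [Int.negSucc 0, Int.negSucc 0, Int.ofNat 1, Int.ofNat 1, Int.negSucc 0, Int.negSucc 0, Int.ofNat 1, Int.negSucc 0, Int.ofNat 1, Int.ofNat 1, Int.negSucc 0, Int.ofNat 1, Int.negSucc 0, Int.negSucc 0, Int.negSucc 0, Int.ofNat 3, Int.ofNat 1, Int.ofNat 1, Int.negSucc 0, Int.negSucc 0, Int.ofNat 1, Int.ofNat 1, Int.ofNat 1, Int.ofNat 1],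
  [Int.ofNat 1, Int.negSucc 0, Int.negSucc 0, Int.ofNat 1, Int.negSucc 0, Int.negSucc 0, Int.ofNat 1, Int.ofNat 1, Int.ofNat 1, Int.negSucc 0, Int.ofNat 1, Int.negSucc 0, Int.negSucc 0, Int.negSucc 0, Int.negSucc 0, Int.ofNat 3, Int.ofNat 1, Int.ofNat 1, Int.ofNat 1, Int.negSucc 0, Int.ofNat 1, Int.negSucc 0, Int.ofNat 1, Int.ofNat 1],
  [Int.ofNat 1, Int.ofNat 1, Int.negSucc 0, Int.negSucc 0, Int.ofNat 1, Int.negSucc 0, Int.negSucc 0, Int.ofNat 1, Int.ofNat 1, Int.ofNat 1, Int.negSucc 0, Int.ofNat 1, Int.negSucc 0, Int.negSucc 0, Int.negSucc 0, Int.negSucc 0, Int.ofNat 3, Int.ofNat 1, Int.ofNat 1, Int.ofNat 1, Int.negSucc 0, Int.ofNat 1, Int.negSucc 0, Int.ofNat 1],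
  [Int.ofNat 0, Int.ofNat 0, Int.ofNat 2, Int.ofNat 0, Int.ofNat 0, Int.ofNat 0, Int.negSucc 1, Int.ofNat 0, Int.ofNat 0, Int.ofNat 2, Int.ofNat 0, Int.ofNat 0, Int.negSucc 1, Int.negSucc 1, Int.ofNat 0, Int.ofNat 0, Int.ofNat 2, Int.ofNat 2, Int.ofNat 0, Int.ofNat 0, Int.ofNat 0, Int.ofNat 0, Int.negSucc 1, Int.ofNat 0],
  [Int.ofNat 0, Int.ofNat 0, Int.ofNat 0, Int.negSucc 1, Int.ofNat 0, Int.ofNat 0, Int.ofNat 2, Int.ofNat 0, Int.ofNat 0, Int.negSucc 1, Int.negSucc 1, Int.ofNat 0, Int.ofNat 0, Int.ofNat 2, Int.ofNat 2, Int.ofNat 0, Int.ofNat 0, Int.ofNat 0, Int.ofNat 0, Int.negSucc 1, Int.ofNat 0, Int.ofNat 0, Int.ofNat 2, Int.ofNat 0],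
  [Int.ofNat 0, Int.ofNat 0, Int.ofNat 0, Int.negSucc 1, Int.negSucc 1, Int.ofNat 0, Int.ofNat 2, Int.ofNat 0, Int.ofNat 0, Int.ofNat 0, Int.ofNat 0, Int.ofNat 0, Int.ofNat 0, Int.ofNat 0, Int.ofNat 2, Int.ofNat 2, Int.negSucc 1, Int.ofNat 0, Int.ofNat 0, Int.negSucc 1, Int.ofNat 2, Int.ofNat 0, Int.ofNat 0, Int.ofNat 0],
  [Int.ofNat 0, Int.ofNat 2, Int.negSucc 1, Int.negSucc 1, Int.ofNat 0, Int.ofNat 0, Int.ofNat 0, Int.ofNat 0, Int.ofNat 0, Int.ofNat 0, Int.ofNat 2, Int.ofNat 0, Int.ofNat 0, Int.negSucc 1, Int.ofNat 0, Int.ofNat 2, Int.ofNat 0, Int.ofNat 2, Int.ofNat 0, Int.ofNat 0, Int.ofNat 0, Int.ofNat 0, Int.negSucc 1, Int.ofNat 0],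
  [Int.ofNat 0, Int.negSucc 1, Int.ofNat 2, Int.negSucc 1, Int.ofNat 2, Int.ofNat 0, Int.ofNat 0, Int.ofNat 0, Int.ofNat 0, Int.negSucc 1, Int.ofNat 0, Int.ofNat 0, Int.ofNat 0, Int.ofNat 0, Int.ofNat 0, Int.ofNat 0, Int.ofNat 2, Int.ofNat 2, Int.ofNat 0, Int.ofNat 0, Int.negSucc 1, Int.ofNat 0, Int.ofNat 0, Int.ofNat 0],
  [Int.ofNat 0, Int.negSucc 1, Int.negSucc 1, Int.negSucc 1, Int.ofNat 2, Int.ofNat 0, Int.ofNat 0, Int.ofNat 0, Int.ofNat 0, Int.ofNat 2, Int.ofNat 0, Int.ofNat 0, Int.ofNat 0, Int.ofNat 0, Int.ofNat 0, Int.ofNat 0, Int.ofNat 2, Int.ofNat 2, Int.ofNat 0, Int.ofNat 0, Int.negSucc 1, Int.ofNat 0, Int.ofNat 0, Int.ofNat 0],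
  [Int.ofNat 0, Int.ofNat 2, Int.ofNat 0, Int.ofNat 0, Int.ofNat 0, Int.ofNat 0, Int.ofNat 0, Int.negSucc 1, Int.ofNat 0, Int.negSucc 1, Int.ofNat 0, Int.ofNat 0, Int.ofNat 0, Int.ofNat 2, Int.ofNat 2, Int.ofNat 0, Int.ofNat 0, Int.ofNat 0, Int.ofNat 2, Int.negSucc 1, Int.ofNat 0, Int.negSucc 1, Int.ofNat 0, Int.ofNat 0],
  [Int.ofNat 0, Int.ofNat 0, Int.ofNat 0, Int.ofNat 0, Int.ofNat 0, Int.negSucc 1, Int.negSucc 1, Int.ofNat 2, Int.ofNat 0, Int.ofNat 0, Int.ofNat 0, Int.ofNat 0, Int.negSucc 1, Int.negSucc 1, Int.ofNat 2, Int.ofNat 0, Int.ofNat 0, Int.ofNat 0, Int.ofNat 2, Int.ofNat 0, Int.ofNat 0, Int.ofNat 0, Int.ofNat 2, Int.ofNat 0],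
  [Int.ofNat 0, Int.ofNat 0, Int.ofNat 0, Int.ofNat 0, Int.ofNat 0, Int.negSucc 1, Int.negSucc 1, Int.negSucc 1, Int.ofNat 0, Int.ofNat 0, Int.ofNat 0, Int.ofNat 0, Int.negSucc 1, Int.negSucc 1, Int.ofNat 2, Int.ofNat 0, Int.ofNat 0, Int.ofNat 0, Int.negSucc 1, Int.ofNat 0, Int.ofNat 0, Int.ofNat 0, Int.ofNat 2, Int.ofNat 0],
  [Int.ofNat 2, Int.ofNat 0, Int.ofNat 0, Int.ofNat 0, Int.ofNat 0, Int.ofNat 0, Int.negSucc 1, Int.negSucc 1, Int.negSucc 1, Int.ofNat 0, Int.ofNat 0, Int.ofNat 0, Int.ofNat 0, Int.negSucc 1, Int.negSucc 1, Int.ofNat 2, Int.ofNat 0, Int.ofNat 0, Int.ofNat 0, Int.negSucc 1, Int.ofNat 0, Int.ofNat 0, Int.ofNat 0, Int.ofNat 0],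
  [Int.negSucc 0, Int.ofNat 1, Int.ofNat 1, Int.ofNat 1, Int.ofNat 1, Int.ofNat 1, Int.ofNat 1, Int.ofNat 1, Int.negSucc 0, Int.negSucc 0, Int.negSucc 0, Int.ofNat 1, Int.ofNat 1, Int.negSucc 0, Int.negSucc 0, Int.ofNat 1, Int.ofNat 1, Int.ofNat 1, Int.ofNat 1, Int.ofNat 1, Int.negSucc 0, Int.ofNat 3, Int.ofNat 1, Int.ofNat 1],
  [Int.ofNat 1, Int.ofNat 1, Int.ofNat 1, Int.ofNat 1, Int.ofNat 1, Int.negSucc 0, Int.negSucc 0, Int.negSucc 0, Int.ofNat 1, Int.ofNat 1, Int.negSucc 0, Int.negSucc 0, Int.ofNat 1, Int.ofNat 1, Int.ofNat 1, Int.ofNat 1, Int.ofNat 1, Int.negSucc 0, Int.ofNat 3, Int.ofNat 1, Int.negSucc 0, Int.ofNat 1, Int.ofNat 1, Int.ofNat 1],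
  [Int.ofNat 1, Int.ofNat 1, Int.ofNat 1, Int.ofNat 1, Int.negSucc 0, Int.negSucc 0, Int.negSucc 0, Int.negSucc 0, Int.negSucc 0, Int.ofNat 1, Int.negSucc 0, Int.negSucc 2, Int.negSucc 0, Int.negSucc 0, Int.ofNat 1, Int.ofNat 1, Int.negSucc 0, Int.negSucc 0, Int.ofNat 1, Int.ofNat 1, Int.negSucc 0, Int.ofNat 1, Int.negSucc 0, Int.ofNat 1],
  [Int.ofNat 1, Int.negSucc 0, Int.negSucc 0, Int.ofNat 1, Int.ofNat 1, Int.negSucc 0, Int.ofNat 1, Int.negSucc 0, Int.negSucc 0, Int.negSucc 0, Int.negSucc 0, Int.negSucc 0, Int.ofNat 1, Int.negSucc 0, Int.negSucc 0, Int.ofNat 1, Int.negSucc 0, Int.ofNat 1, Int.ofNat 1, Int.negSucc 2, Int.ofNat 1, Int.negSucc 0, Int.ofNat 1, Int.ofNat 1],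
  [Int.negSucc 0, Int.ofNat 1, Int.ofNat 1, Int.ofNat 1, Int.ofNat 1, Int.negSucc 0, Int.ofNat 3, Int.ofNat 1, Int.negSucc 0, Int.negSucc 0, Int.negSucc 0, Int.negSucc 0, Int.ofNat 1, Int.negSucc 0, Int.negSucc 0, Int.ofNat 1, Int.negSucc 0, Int.ofNat 1, Int.ofNat 1, Int.negSucc 0, Int.ofNat 1, Int.ofNat 1, Int.ofNat 1, Int.negSucc 0],
  [Int.negSucc 0, Int.ofNat 1, Int.negSucc 0, Int.ofNat 1, Int.ofNat 1, Int.ofNat 1, Int.negSucc 2, Int.ofNat 1, Int.negSucc 0, Int.ofNat 1, Int.ofNat 1, Int.negSucc 0, Int.ofNat 1, Int.negSucc 0, Int.negSucc 0, Int.negSucc 0, Int.negSucc 0, Int.ofNat 1, Int.negSucc 0, Int.negSucc 0, Int.ofNat 1, Int.ofNat 1, Int.negSucc 0, Int.negSucc 0],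
  [Int.negSucc 0, Int.negSucc 0, Int.negSucc 0, Int.negSucc 0, Int.ofNat 1, Int.ofNat 1, Int.negSucc 0, Int.negSucc 0, Int.ofNat 1, Int.ofNat 1, Int.negSucc 2, Int.ofNat 1, Int.negSucc 0, Int.negSucc 0, Int.ofNat 1, Int.ofNat 1, Int.ofNat 1, Int.negSucc 0, Int.negSucc 0, Int.ofNat 1, Int.ofNat 1, Int.ofNat 1, Int.negSucc 0, Int.negSucc 0],
  [Int.negSucc 0, Int.negSucc 0, Int.ofNat 1, Int.negSucc 0, Int.ofNat 1, Int.negSucc 0, Int.ofNat 1, Int.negSucc 0, Int.ofNat 1, Int.negSucc 0, Int.ofNat 3, Int.ofNat 1, Int.negSucc 0, Int.negSucc 0, Int.ofNat 1, Int.negSucc 0, Int.ofNat 1, Int.negSucc 0, Int.ofNat 1, Int.ofNat 1, Int.ofNat 1, Int.ofNat 1, Int.ofNat 1, Int.negSucc 0],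
  [Int.ofNat 0, Int.ofNat 0, Int.negSucc 1, Int.ofNat 0, Int.ofNat 0, Int.ofNat 0, Int.ofNat 0, Int.negSucc 1, Int.ofNat 0, Int.negSucc 1, Int.ofNat 2, Int.ofNat 0, Int.negSucc 1, Int.negSucc 1, Int.ofNat 2, Int.negSucc 1, Int.ofNat 0, Int.ofNat 0, Int.ofNat 0, Int.ofNat 0, Int.ofNat 0, Int.ofNat 0, Int.ofNat 0, Int.ofNat 0],
  [Int.ofNat 0, Int.ofNat 0, Int.ofNat 0, Int.ofNat 0, Int.negSucc 1, Int.ofNat 0, Int.ofNat 0, Int.ofNat 0, Int.ofNat 0, Int.negSucc 1, Int.negSucc 1, Int.ofNat 0, Int.ofNat 0, Int.negSucc 1, Int.ofNat 0, Int.negSucc 1, Int.negSucc 1, Int.ofNat 0, Int.ofNat 0, Int.ofNat 0, Int.ofNat 2, Int.ofNat 0, Int.ofNat 2, Int.ofNat 0],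
  [Int.ofNat 0, Int.ofNat 0, Int.ofNat 0, Int.ofNat 0, Int.ofNat 0, Int.ofNat 0, Int.ofNat 0, Int.ofNat 0, Int.ofNat 0, Int.ofNat 0, Int.ofNat 0, Int.ofNat 0, Int.ofNat 0, Int.ofNat 0, Int.ofNat 0, Int.ofNat 0, Int.ofNat 0, Int.ofNat 0, Int.ofNat 0, Int.ofNat 0, Int.ofNat 4, Int.ofNat 0, Int.ofNat 4, Int.ofNat 0],
  [Int.ofNat 4, Int.ofNat 0, Int.ofNat 4, Int.ofNat 0, Int.ofNat 0, Int.ofNat 0, Int.ofNat 0, Int.ofNat 0, Int.ofNat 0, Int.ofNat 0, Int.ofNat 0, Int.ofNat 0, Int.ofNat 0, Int.ofNat 0, Int.ofNat 0, Int.ofNat 0, Int.ofNat 0, Int.ofNat 0, Int.ofNat 0, Int.ofNat 0, Int.ofNat 0, Int.ofNat 0, Int.ofNat 0, Int.ofNat 0],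
  [Int.ofNat 0, Int.ofNat 4, Int.ofNat 0, Int.ofNat 0, Int.ofNat 0, Int.ofNat 0, Int.ofNat 0, Int.ofNat 0, Int.ofNat 0, Int.ofNat 0, Int.ofNat 0, Int.ofNat 0, Int.ofNat 0, Int.ofNat 0, Int.ofNat 0, Int.ofNat 0, Int.ofNat 0, Int.ofNat 0, Int.ofNat 0, Int.ofNat 0, Int.ofNat 0, Int.ofNat 0, Int.ofNat 0, Int.ofNat 4],
  [Int.ofNat 4, Int.ofNat 0, Int.ofNat 0, Int.ofNat 0, Int.ofNat 0, Int.ofNat 0, Int.ofNat 0, Int.ofNat 0, Int.ofNat 0, Int.ofNat 0, Int.ofNat 0, Int.ofNat 0, Int.ofNat 0, Int.ofNat 0, Int.ofNat 0, Int.ofNat 0, Int.ofNat 0, Int.ofNat 0, Int.ofNat 0, Int.ofNat 0, Int.ofNat 0, Int.ofNat 0, Int.ofNat 0, Int.ofNat 4],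
  [Int.negSucc 3, Int.ofNat 0, Int.ofNat 0, Int.ofNat 0, Int.ofNat 0, Int.ofNat 0, Int.ofNat 0, Int.ofNat 0, Int.ofNat 0, Int.ofNat 0, Int.ofNat 0, Int.ofNat 0, Int.ofNat 0, Int.ofNat 0, Int.ofNat 0, Int.ofNat 0, Int.ofNat 0, Int.ofNat 0, Int.ofNat 0, Int.ofNat 0, Int.ofNat 0, Int.ofNat 0, Int.ofNat 0, Int.ofNat 4],
  [Int.ofNat 4, Int.ofNat 0, Int.ofNat 0, Int.ofNat 0, Int.ofNat 0, Int.ofNat 0, Int.ofNat 0, Int.ofNat 0, Int.ofNat 0, Int.ofNat 0, Int.ofNat 0, Int.ofNat 0, Int.ofNat 0, Int.ofNat 0, Int.ofNat 0, Int.ofNat 0, Int.ofNat 0, Int.ofNat 0, Int.ofNat 0, Int.ofNat 0, Int.ofNat 0, Int.ofNat 0, Int.ofNat 0, Int.ofNat 4],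
  [Int.ofNat 4, Int.ofNat 0, Int.ofNat 0, Int.ofNat 0, Int.ofNat 0, Int.ofNat 0, Int.ofNat 0, Int.ofNat 0, Int.ofNat 0, Int.ofNat 0, Int.ofNat 0, Int.ofNat 0, Int.ofNat 0, Int.ofNat 0, Int.ofNat 0, Int.ofNat 0, Int.ofNat 0, Int.ofNat 0, Int.ofNat 0, Int.ofNat 0, Int.ofNat 0, Int.ofNat 0, Int.ofNat 0, Int.ofNat 4],
  [Int.negSucc 3, Int.ofNat 0, Int.ofNat 0, Int.ofNat 0, Int.ofNat 0, Int.ofNat 0, Int.ofNat 0, Int.ofNat 0, Int.ofNat 0, Int.ofNat 0, Int.ofNat 0, Int.ofNat 0, Int.ofNat 0, Int.ofNat 0, Int.ofNat 0, Int.ofNat 0, Int.ofNat 0, Int.ofNat 0, Int.ofNat 0, Int.ofNat 0, Int.ofNat 0, Int.ofNat 0, Int.ofNat 0, Int.ofNat 4],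
  [Int.ofNat 0, Int.negSucc 3, Int.ofNat 0, Int.ofNat 0, Int.ofNat 0, Int.ofNat 0, Int.ofNat 0, Int.ofNat 0, Int.ofNat 0, Int.ofNat 0, Int.ofNat 0, Int.ofNat 0, Int.ofNat 0, Int.ofNat 0, Int.ofNat 0, Int.ofNat 0, Int.ofNat 0, Int.ofNat 0, Int.ofNat 0, Int.ofNat 0, Int.ofNat 0, Int.ofNat 0, Int.ofNat 0, Int.ofNat 4],
  [Int.ofNat 0, Int.ofNat 4, Int.ofNat 0, Int.ofNat 0, Int.ofNat 0, Int.ofNat 0, Int.ofNat 0, Int.ofNat 0, Int.ofNat 0, Int.ofNat 0, Int.ofNat 0, Int.ofNat 0, Int.ofNat 0, Int.ofNat 0, Int.ofNat 0, Int.ofNat 0, Int.ofNat 0, Int.ofNat 0, Int.ofNat 0, Int.ofNat 0, Int.ofNat 0, Int.ofNat 0, Int.ofNat 0, Int.negSucc 3],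
  [Int.ofNat 0, Int.ofNat 0, Int.ofNat 0, Int.ofNat 0, Int.ofNat 0, Int.ofNat 0, Int.ofNat 0, Int.ofNat 0, Int.ofNat 0, Int.ofNat 0, Int.ofNat 0, Int.ofNat 0, Int.ofNat 0, Int.ofNat 0, Int.ofNat 0, Int.ofNat 0, Int.ofNat 0, Int.ofNat 0, Int.ofNat 0, Int.ofNat 0, Int.ofNat 0, Int.ofNat 4, Int.ofNat 0, Int.negSucc 3],
  [Int.negSucc 1, Int.negSucc 1, Int.negSucc 1, Int.ofNat 0, Int.ofNat 0, Int.ofNat 0, Int.negSucc 1, Int.negSucc 1, Int.ofNat 0, Int.ofNat 0, Int.ofNat 0, Int.ofNat 0, Int.ofNat 0, Int.ofNat 0, Int.ofNat 0, Int.ofNat 0, Int.ofNat 0, Int.ofNat 0, Int.ofNat 0, Int.negSucc 1, Int.ofNat 0, Int.ofNat 2, Int.ofNat 0, Int.ofNat 2],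
  [Int.negSucc 1, Int.negSucc 1, Int.ofNat 0, Int.ofNat 0, Int.ofNat 0, Int.negSucc 1, Int.negSucc 1, Int.ofNat 0, Int.ofNat 0, Int.ofNat 0, Int.ofNat 0, Int.ofNat 0, Int.ofNat 0, Int.ofNat 0, Int.ofNat 0, Int.ofNat 0, Int.ofNat 0, Int.ofNat 0, Int.negSucc 1, Int.ofNat 0, Int.ofNat 2, Int.ofNat 0, Int.negSucc 1, Int.ofNat 2],
  [Int.ofNat 1, Int.ofNat 1, Int.negSucc 0, Int.ofNat 1, Int.ofNat 1, Int.negSucc 0, Int.negSucc 0, Int.ofNat 1, Int.ofNat 1, Int.negSucc 0, Int.negSucc 0, Int.ofNat 1, Int.ofNat 1, Int.ofNat 1, Int.ofNat 1, Int.negSucc 0, Int.ofNat 1, Int.ofNat 1, Int.negSucc 0, Int.ofNat 1, Int.ofNat 1, Int.ofNat 1, Int.negSucc 0, Int.negSucc 2],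
  [Int.ofNat 1, Int.ofNat 1, Int.ofNat 1, Int.ofNat 1, Int.ofNat 1, Int.ofNat 1, Int.ofNat 1, Int.ofNat 1, Int.ofNat 1, Int.ofNat 1, Int.ofNat 1, Int.ofNat 1, Int.ofNat 1, Int.ofNat 1, Int.ofNat 1, Int.ofNat 1, Int.ofNat 1, Int.ofNat 1, Int.ofNat 1, Int.ofNat 1, Int.ofNat 1, Int.ofNat 1, Int.ofNat 1, Int.negSucc 2],
  [Int.ofNat 1, Int.ofNat 1, Int.ofNat 1, Int.ofNat 1, Int.ofNat 1, Int.ofNat 1, Int.ofNat 1, Int.ofNat 1, Int.ofNat 1, Int.ofNat 1, Int.ofNat 1, Int.ofNat 1, Int.ofNat 1, Int.ofNat 1, Int.ofNat 1, Int.ofNat 1, Int.ofNat 1, Int.ofNat 1, Int.ofNat 1, Int.ofNat 1, Int.ofNat 1, Int.ofNat 1, Int.ofNat 1, Int.negSucc 2],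
  [Int.negSucc 2, Int.ofNat 1, Int.ofNat 1, Int.ofNat 1, Int.ofNat 1, Int.ofNat 1, Int.ofNat 1, Int.ofNat 1, Int.ofNat 1, Int.ofNat 1, Int.ofNat 1, Int.ofNat 1, Int.ofNat 1, Int.ofNat 1, Int.ofNat 1, Int.ofNat 1, Int.ofNat 1, Int.ofNat 1, Int.ofNat 1, Int.ofNat 1, Int.ofNat 1, Int.ofNat 1, Int.ofNat 1, Int.ofNat 1],
  [Int.ofNat 3, Int.ofNat 1, Int.negSucc 0, Int.ofNat 1, Int.ofNat 1, Int.ofNat 1, Int.ofNat 1, Int.negSucc 0, Int.ofNat 1, Int.negSucc 0, Int.negSucc 0, Int.negSucc 0, Int.ofNat 1, Int.ofNat 1, Int.ofNat 1, Int.ofNat 1, Int.ofNat 1, Int.ofNat 1, Int.negSucc 0, Int.ofNat 1, Int.ofNat 1, Int.negSucc 0, Int.ofNat 1, Int.ofNat 1],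
  [Int.ofNat 1, Int.ofNat 3, Int.ofNat 1, Int.negSucc 0, Int.ofNat 1, Int.ofNat 1, Int.ofNat 1, Int.ofNat 1, Int.negSucc 0, Int.ofNat 1, Int.negSucc 0, Int.negSucc 0, Int.negSucc 0, Int.ofNat 1, Int.ofNat 1, Int.ofNat 1, Int.ofNat 1, Int.ofNat 1, Int.ofNat 1, Int.negSucc 0, Int.ofNat 1, Int.ofNat 1, Int.negSucc 0, Int.ofNat 1],
  [Int.ofNat 2, Int.ofNat 0, Int.ofNat 2, Int.negSucc 1, Int.ofNat 0, Int.ofNat 0, Int.ofNat 0, Int.ofNat 0, Int.ofNat 0, Int.ofNat 0, Int.negSucc 1, Int.ofNat 0, Int.ofNat 0, Int.ofNat 0, Int.ofNat 0, Int.ofNat 0, Int.ofNat 0, Int.ofNat 0, Int.ofNat 2, Int.negSucc 1, Int.ofNat 0, Int.ofNat 0, Int.negSucc 1, Int.ofNat 2],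
  [Int.negSucc 1, Int.ofNat 0, Int.ofNat 0, Int.ofNat 0, Int.ofNat 0, Int.ofNat 0, Int.ofNat 0, Int.negSucc 1, Int.ofNat 0, Int.ofNat 0, Int.ofNat 0, Int.ofNat 0, Int.ofNat 0, Int.ofNat 0, Int.ofNat 0, Int.ofNat 2, Int.negSucc 1, Int.ofNat 0, Int.ofNat 0, Int.negSucc 1, Int.ofNat 2, Int.ofNat 0, Int.ofNat 2, Int.ofNat 2],
  [Int.ofNat 2, Int.ofNat 0, Int.ofNat 0, Int.ofNat 0, Int.ofNat 0, Int.ofNat 0, Int.ofNat 2, Int.ofNat 0, Int.ofNat 0, Int.negSucc 1, Int.negSucc 1, Int.ofNat 0, Int.ofNat 0, Int.ofNat 0, Int.ofNat 0, Int.ofNat 0, Int.negSucc 1, Int.ofNat 0, Int.ofNat 0, Int.ofNat 0, Int.ofNat 0, Int.ofNat 2, Int.ofNat 2, Int.negSucc 1],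
  [Int.ofNat 2, Int.ofNat 2, Int.ofNat 0, Int.ofNat 0, Int.ofNat 0, Int.ofNat 0, Int.ofNat 0, Int.negSucc 1, Int.ofNat 0, Int.ofNat 0, Int.ofNat 0, Int.ofNat 0, Int.negSucc 1, Int.negSucc 1, Int.ofNat 2, Int.ofNat 0, Int.ofNat 0, Int.ofNat 0, Int.ofNat 0, Int.ofNat 0, Int.ofNat 2, Int.ofNat 0, Int.ofNat 0, Int.negSucc 1],
  [Int.negSucc 0, Int.negSucc 0, Int.ofNat 1, Int.negSucc 0, Int.ofNat 1, Int.negSucc 0, Int.ofNat 1, Int.negSucc 0, Int.ofNat 1, Int.negSucc 0, Int.negSucc 0, Int.ofNat 1, Int.negSucc 0, Int.negSucc 0, Int.ofNat 1, Int.negSucc 0, Int.ofNat 1, Int.negSucc 0, Int.ofNat 1, Int.ofNat 1, Int.ofNat 1, Int.ofNat 1, Int.ofNat 1, Int.ofNat 3],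
  [Int.negSucc 0, Int.negSucc 0, Int.negSucc 0, Int.negSucc 0, Int.ofNat 1, Int.ofNat 1, Int.negSucc 0, Int.negSucc 0, Int.ofNat 1, Int.ofNat 1, Int.ofNat 1, Int.ofNat 1, Int.negSucc 0, Int.negSucc 0, Int.ofNat 1, Int.ofNat 1, Int.ofNat 1, Int.negSucc 0, Int.negSucc 0, Int.ofNat 1, Int.ofNat 1, Int.ofNat 1, Int.negSucc 0, Int.ofNat 3],
  [Int.ofNat 1, Int.ofNat 1, Int.ofNat 1, Int.ofNat 1, Int.ofNat 1, Int.ofNat 1, Int.negSucc 0, Int.ofNat 1, Int.ofNat 1, Int.ofNat 1, Int.negSucc 0, Int.negSucc 0, Int.negSucc 0, Int.negSucc 0, Int.ofNat 1, Int.negSucc 0, Int.ofNat 1, Int.negSucc 0, Int.negSucc 0, Int.negSucc 0, Int.negSucc 0, Int.negSucc 0, Int.ofNat 1, Int.ofNat 3],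
  [Int.ofNat 1, Int.ofNat 1, Int.negSucc 0, Int.ofNat 1, Int.ofNat 1, Int.negSucc 0, Int.ofNat 1, Int.ofNat 1, Int.ofNat 1, Int.negSucc 0, Int.ofNat 1, Int.negSucc 0, Int.negSucc 0, Int.negSucc 0, Int.ofNat 1, Int.ofNat 1, Int.ofNat 1, Int.negSucc 0, Int.ofNat 1, Int.negSucc 0, Int.negSucc 0, Int.negSucc 0, Int.negSucc 0, Int.ofNat 3],
  [Int.ofNat 1, Int.ofNat 1, Int.ofNat 3, Int.ofNat 1, Int.ofNat 1, Int.negSucc 0, Int.ofNat 1, Int.ofNat 1, Int.ofNat 1, Int.negSucc 0, Int.ofNat 1, Int.negSucc 0, Int.negSucc 0, Int.negSucc 0, Int.ofNat 1, Int.ofNat 1, Int.ofNat 1, Int.negSucc 0, Int.ofNat 1, Int.negSucc 0, Int.negSucc 0, Int.negSucc 0, Int.negSucc 0, Int.negSucc 0],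
  [Int.ofNat 1, Int.ofNat 1, Int.ofNat 1, Int.ofNat 1, Int.ofNat 3, Int.negSucc 0, Int.ofNat 1, Int.negSucc 0, Int.ofNat 1, Int.negSucc 0, Int.ofNat 1, Int.negSucc 0, Int.ofNat 1, Int.negSucc 0, Int.negSucc 0, Int.ofNat 1, Int.negSucc 0, Int.negSucc 0, Int.ofNat 1, Int.negSucc 0, Int.ofNat 1, Int.negSucc 0, Int.ofNat 1, Int.negSucc 0],
  [Int.ofNat 0, Int.ofNat 0, Int.ofNat 0, Int.ofNat 2, Int.ofNat 2, Int.ofNat 0, Int.ofNat 2, Int.ofNat 0, Int.ofNat 0, Int.negSucc 1, Int.ofNat 0, Int.negSucc 1, Int.ofNat 0, Int.negSucc 1, Int.ofNat 0, Int.ofNat 0, Int.negSucc 1, Int.ofNat 0, Int.ofNat 0, Int.ofNat 0, Int.ofNat 0, Int.ofNat 0, Int.ofNat 0, Int.ofNat 2],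
  [Int.ofNat 0, Int.ofNat 0, Int.ofNat 0, Int.ofNat 0, Int.ofNat 0, Int.ofNat 0, Int.ofNat 2, Int.ofNat 2, Int.ofNat 0, Int.ofNat 2, Int.ofNat 0, Int.ofNat 0, Int.negSucc 1, Int.ofNat 0, Int.negSucc 1, Int.ofNat 0, Int.negSucc 1, Int.ofNat 0, Int.ofNat 0, Int.negSucc 1, Int.ofNat 0, Int.ofNat 0, Int.ofNat 0, Int.ofNat 2],
  [Int.ofNat 1, Int.ofNat 1, Int.ofNat 1, Int.ofNat 1, Int.ofNat 1, Int.ofNat 1, Int.ofNat 1, Int.ofNat 1, Int.ofNat 1, Int.ofNat 1, Int.negSucc 0, Int.ofNat 1, Int.negSucc 0, Int.ofNat 1, Int.negSucc 0, Int.negSucc 0, Int.negSucc 0, Int.ofNat 1, Int.ofNat 1, Int.negSucc 2, Int.negSucc 0, Int.negSucc 0, Int.ofNat 1, Int.negSucc 0],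
  [Int.ofNat 1, Int.ofNat 1, Int.ofNat 1, Int.ofNat 1, Int.ofNat 1, Int.ofNat 1, Int.ofNat 1, Int.ofNat 1, Int.ofNat 1, Int.negSucc 0, Int.ofNat 1, Int.negSucc 0, Int.ofNat 1, Int.negSucc 0, Int.negSucc 0, Int.negSucc 0, Int.ofNat 1, Int.ofNat 1, Int.negSucc 2, Int.negSucc 0, Int.negSucc 0, Int.ofNat 1, Int.ofNat 1, Int.negSucc 0],
  [Int.negSucc 0, Int.ofNat 1, Int.negSucc 0, Int.ofNat 1, Int.ofNat 1, Int.ofNat 1, Int.ofNat 1, Int.negSucc 0, Int.ofNat 1, Int.ofNat 1, Int.negSucc 0, Int.ofNat 1, Int.ofNat 1, Int.negSucc 0, Int.negSucc 0, Int.negSucc 0, Int.ofNat 1, Int.ofNat 1, Int.ofNat 3, Int.negSucc 0, Int.negSucc 0, Int.negSucc 0, Int.ofNat 1, Int.negSucc 0],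
  [Int.ofNat 1, Int.negSucc 0, Int.ofNat 1, Int.negSucc 0, Int.negSucc 0, Int.ofNat 1, Int.negSucc 0, Int.negSucc 0, Int.negSucc 0, Int.negSucc 0, Int.negSucc 0, Int.ofNat 1, Int.negSucc 0, Int.ofNat 1, Int.negSucc 0, Int.negSucc 0, Int.negSucc 0, Int.ofNat 1, Int.negSucc 2, Int.negSucc 0, Int.negSucc 0, Int.negSucc 0, Int.ofNat 1, Int.negSucc 0],
  [Int.ofNat 1, Int.ofNat 1, Int.negSucc 2, Int.negSucc 0, Int.negSucc 0, Int.negSucc 0, Int.negSucc 0, Int.negSucc 0, Int.negSucc 0, Int.negSucc 0, Int.negSucc 0, Int.negSucc 0, Int.ofNat 1, Int.negSucc 0, Int.negSucc 0, Int.negSucc 0, Int.negSucc 0, Int.ofNat 1, Int.negSucc 0, Int.ofNat 1, Int.ofNat 1, Int.negSucc 0, Int.ofNat 1, Int.negSucc 0],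
  [Int.negSucc 0, Int.ofNat 1, Int.ofNat 3, Int.negSucc 0, Int.negSucc 0, Int.negSucc 0, Int.negSucc 0, Int.ofNat 1, Int.negSucc 0, Int.ofNat 1, Int.ofNat 1, Int.ofNat 1, Int.ofNat 1, Int.negSucc 0, Int.negSucc 0, Int.negSucc 0, Int.negSucc 0, Int.ofNat 1, Int.ofNat 1, Int.ofNat 1, Int.ofNat 1, Int.ofNat 1, Int.ofNat 1, Int.negSucc 0],
  [Int.ofNat 1, Int.negSucc 0, Int.ofNat 1, Int.ofNat 3, Int.negSucc 0, Int.negSucc 0, Int.negSucc 0, Int.negSucc 0, Int.ofNat 1, Int.negSucc 0, Int.ofNat 1, Int.ofNat 1, Int.ofNat 1, Int.ofNat 1, Int.negSucc 0, Int.negSucc 0, Int.negSucc 0, Int.negSucc 0, Int.ofNat 1, Int.ofNat 1, Int.ofNat 1, Int.ofNat 1, Int.ofNat 1, Int.negSucc 0],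
  [Int.negSucc 0, Int.ofNat 1, Int.negSucc 0, Int.ofNat 3, Int.negSucc 0, Int.negSucc 0, Int.negSucc 0, Int.negSucc 0, Int.negSucc 0, Int.negSucc 0, Int.ofNat 1, Int.negSucc 0, Int.negSucc 0, Int.ofNat 1, Int.negSucc 0, Int.negSucc 0, Int.negSucc 0, Int.negSucc 0, Int.negSucc 0, Int.ofNat 1, Int.ofNat 1, Int.ofNat 1, Int.ofNat 1, Int.ofNat 1],
  [Int.ofNat 3, Int.negSucc 0, Int.negSucc 0, Int.negSucc 0, Int.negSucc 0, Int.negSucc 0, Int.negSucc 0, Int.ofNat 1, Int.negSucc 0, Int.negSucc 0, Int.ofNat 1, Int.negSucc 0, Int.negSucc 0, Int.negSucc 0, Int.negSucc 0, Int.negSucc 0, Int.ofNat 1, Int.ofNat 1, Int.ofNat 1, Int.ofNat 1, Int.negSucc 0, Int.ofNat 1, Int.negSucc 0, Int.ofNat 1],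
  [Int.negSucc 1, Int.ofNat 2, Int.ofNat 2, Int.ofNat 0, Int.ofNat 0, Int.ofNat 0, Int.negSucc 1, Int.ofNat 0, Int.ofNat 0, Int.ofNat 0, Int.ofNat 2, Int.ofNat 0, Int.ofNat 0, Int.ofNat 0, Int.ofNat 0, Int.ofNat 0, Int.ofNat 2, Int.ofNat 2, Int.ofNat 2, Int.ofNat 0, Int.ofNat 0, Int.ofNat 0, Int.ofNat 0, Int.ofNat 0],
  [Int.negSucc 1, Int.negSucc 1, Int.ofNat 0, Int.ofNat 0, Int.ofNat 2, Int.ofNat 0, Int.ofNat 2, Int.ofNat 2, Int.ofNat 0, Int.ofNat 0, Int.ofNat 0, Int.ofNat 2, Int.ofNat 0, Int.ofNat 2, Int.ofNat 0, Int.ofNat 0, Int.ofNat 0, Int.ofNat 0, Int.ofNat 2, Int.ofNat 0, Int.ofNat 0, Int.ofNat 0, Int.ofNat 0, Int.ofNat 0],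
  [Int.ofNat 0, Int.ofNat 0, Int.negSucc 1, Int.ofNat 0, Int.ofNat 0, Int.ofNat 0, Int.ofNat 0, Int.ofNat 0, Int.negSucc 1, Int.ofNat 0, Int.ofNat 0, Int.ofNat 0, Int.negSucc 1, Int.ofNat 0, Int.ofNat 0, Int.ofNat 0, Int.negSucc 1, Int.ofNat 0, Int.ofNat 0, Int.negSucc 1, Int.ofNat 0, Int.negSucc 1, Int.negSucc 1, Int.negSucc 1],
  [Int.ofNat 0, Int.ofNat 0, Int.ofNat 2, Int.ofNat 0, Int.ofNat 0, Int.ofNat 0, Int.ofNat 0, Int.ofNat 0, Int.negSucc 1, Int.ofNat 0, Int.ofNat 0, Int.ofNat 0, Int.negSucc 1, Int.ofNat 0, Int.ofNat 0, Int.ofNat 0, Int.negSucc 1, Int.ofNat 0, Int.ofNat 0, Int.negSucc 1, Int.ofNat 0, Int.negSucc 1, Int.ofNat 2, Int.negSucc 1],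
  [Int.ofNat 0, Int.negSucc 1, Int.ofNat 0, Int.negSucc 1, Int.ofNat 0, Int.ofNat 0, Int.negSucc 1, Int.ofNat 0, Int.ofNat 0, Int.ofNat 0, Int.ofNat 0, Int.ofNat 0, Int.ofNat 0, Int.ofNat 0, Int.ofNat 0, Int.ofNat 0, Int.negSucc 1, Int.negSucc 1, Int.ofNat 0, Int.ofNat 2, Int.ofNat 0, Int.ofNat 0, Int.ofNat 2, Int.negSucc 1],
  [Int.negSucc 1, Int.ofNat 2, Int.ofNat 0, Int.ofNat 0, Int.negSucc 1, Int.ofNat 0, Int.ofNat 2, Int.ofNat 0, Int.ofNat 0, Int.ofNat 0, Int.negSucc 1, Int.ofNat 0, Int.ofNat 0, Int.ofNat 0, Int.ofNat 0, Int.negSucc 1, Int.ofNat 0, Int.ofNat 0, Int.ofNat 0, Int.negSucc 1, Int.ofNat 0, Int.ofNat 0, Int.negSucc 1, Int.ofNat 0],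
  [Int.ofNat 2, Int.ofNat 2, Int.ofNat 0, Int.ofNat 0, Int.negSucc 1, Int.ofNat 0, Int.ofNat 2, Int.ofNat 0, Int.ofNat 0, Int.ofNat 0, Int.ofNat 2, Int.ofNat 0, Int.ofNat 0, Int.ofNat 0, Int.ofNat 0, Int.negSucc 1, Int.ofNat 0, Int.ofNat 0, Int.ofNat 0, Int.negSucc 1, Int.ofNat 0, Int.ofNat 0, Int.negSucc 1, Int.ofNat 0],
  [Int.negSucc 1, Int.ofNat 2, Int.ofNat 2, Int.ofNat 0, Int.ofNat 0, Int.negSucc 1, Int.ofNat 0, Int.ofNat 2, Int.ofNat 0, Int.ofNat 0, Int.ofNat 0, Int.ofNat 2, Int.ofNat 0, Int.ofNat 0, Int.ofNat 0, Int.ofNat 0, Int.negSucc 1, Int.ofNat 0, Int.ofNat 0, Int.ofNat 0, Int.negSucc 1, Int.ofNat 0, Int.ofNat 0, Int.ofNat 0],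
  [Int.ofNat 3, Int.negSucc 0, Int.negSucc 0, Int.ofNat 1, Int.ofNat 1, Int.negSucc 0, Int.negSucc 0, Int.ofNat 1, Int.negSucc 0, Int.ofNat 1, Int.ofNat 1, Int.ofNat 1, Int.negSucc 0, Int.ofNat 1, Int.ofNat 1, Int.ofNat 1, Int.negSucc 0, Int.ofNat 1, Int.negSucc 0, Int.negSucc 0, Int.negSucc 0, Int.negSucc 0, Int.ofNat 1, Int.ofNat 1],
  [Int.ofNat 1, Int.ofNat 1, Int.negSucc 0, Int.negSucc 0, Int.ofNat 1, Int.negSucc 0, Int.ofNat 1, Int.ofNat 1, Int.ofNat 1, Int.negSucc 0, Int.ofNat 1, Int.ofNat 1, Int.ofNat 1, Int.negSucc 0, Int.ofNat 1, Int.negSucc 0, Int.negSucc 0, Int.negSucc 0, Int.negSucc 0, Int.ofNat 1, Int.ofNat 3, Int.negSucc 0, Int.negSucc 0, Int.ofNat 1],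
  [Int.ofNat 0, Int.ofNat 0, Int.ofNat 2, Int.ofNat 0, Int.ofNat 2, Int.ofNat 0, Int.ofNat 0, Int.ofNat 0, Int.ofNat 0, Int.negSucc 1, Int.ofNat 0, Int.ofNat 0, Int.ofNat 0, Int.ofNat 0, Int.ofNat 2, Int.negSucc 1, Int.ofNat 0, Int.ofNat 0, Int.negSucc 1, Int.ofNat 0, Int.ofNat 2, Int.negSucc 1, Int.ofNat 0, Int.ofNat 0],
  [Int.ofNat 0, Int.ofNat 0, Int.ofNat 2, Int.ofNat 0, Int.negSucc 1, Int.ofNat 0, Int.ofNat 2, Int.ofNat 0, Int.ofNat 0, Int.ofNat 0, Int.ofNat 2, Int.ofNat 0, Int.negSucc 1, Int.ofNat 0, Int.ofNat 0, Int.negSucc 1, Int.ofNat 0, Int.ofNat 2, Int.ofNat 0, Int.ofNat 0, Int.negSucc 1, Int.ofNat 0, Int.ofNat 0, Int.ofNat 0],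
  [Int.ofNat 1, Int.ofNat 1, Int.negSucc 0, Int.negSucc 0, Int.negSucc 0, Int.negSucc 0, Int.ofNat 1, Int.negSucc 0, Int.ofNat 1, Int.ofNat 1, Int.ofNat 3, Int.ofNat 1, Int.negSucc 0, Int.ofNat 1, Int.negSucc 0, Int.negSucc 0, Int.ofNat 1, Int.ofNat 1, Int.ofNat 1, Int.negSucc 0, Int.negSucc 0, Int.negSucc 0, Int.ofNat 1, Int.ofNat 1],
  [Int.ofNat 1, Int.ofNat 1, Int.ofNat 1, Int.negSucc 0, Int.negSucc 0, Int.ofNat 1, Int.negSucc 0, Int.negSucc 0, Int.ofNat 1, Int.negSucc 0, Int.negSucc 2, Int.ofNat 1, Int.negSucc 0, Int.ofNat 1, Int.negSucc 0, Int.ofNat 1, Int.ofNat 1, Int.ofNat 1, Int.negSucc 0, Int.negSucc 0, Int.negSucc 0, Int.negSucc 0, Int.negSucc 0, Int.ofNat 1],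
  [Int.ofNat 1, Int.ofNat 1, Int.ofNat 1, Int.ofNat 1, Int.negSucc 0, Int.negSucc 0, Int.ofNat 1, Int.negSucc 0, Int.ofNat 1, Int.negSucc 2, Int.negSucc 0, Int.negSucc 0, Int.negSucc 0, Int.negSucc 0, Int.negSucc 0, Int.negSucc 0, Int.negSucc 0, Int.ofNat 1, Int.ofNat 1, Int.ofNat 1, Int.ofNat 1, Int.negSucc 0, Int.negSucc 0, Int.ofNat 1],
  [Int.ofNat 1, Int.ofNat 1, Int.negSucc 0, Int.ofNat 1, Int.negSucc 0, Int.ofNat 1, Int.negSucc 0, Int.negSucc 0, Int.ofNat 1, Int.ofNat 3, Int.ofNat 1, Int.negSucc 0, Int.negSucc 0, Int.negSucc 0, Int.negSucc 0, Int.ofNat 1, Int.negSucc 0, Int.ofNat 1, Int.negSucc 0, Int.ofNat 1, Int.ofNat 1, Int.negSucc 0, Int.ofNat 1, Int.ofNat 1],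
  [Int.ofNat 0, Int.ofNat 0, Int.ofNat 2, Int.ofNat 0, Int.ofNat 0, Int.ofNat 0, Int.ofNat 0, Int.ofNat 0, Int.ofNat 2, Int.ofNat 0, Int.negSucc 1, Int.ofNat 0, Int.ofNat 0, Int.ofNat 0, Int.negSucc 1, Int.negSucc 1, Int.ofNat 0, Int.ofNat 0, Int.ofNat 0, Int.ofNat 2, Int.negSucc 1, Int.ofNat 0, Int.ofNat 2, Int.ofNat 0],
  [Int.ofNat 0, Int.ofNat 0, Int.ofNat 0, Int.ofNat 0, Int.ofNat 2, Int.ofNat 0, Int.ofNat 0, Int.ofNat 0, Int.ofNat 0, Int.ofNat 0, Int.ofNat 0, Int.ofNat 2, Int.ofNat 2, Int.ofNat 0, Int.ofNat 0, Int.negSucc 1, Int.ofNat 0, Int.ofNat 0, Int.ofNat 0, Int.ofNat 2, Int.negSucc 1, Int.negSucc 1, Int.negSucc 1, Int.ofNat 0],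
  [Int.ofNat 0, Int.ofNat 0, Int.ofNat 0, Int.ofNat 0, Int.ofNat 2, Int.ofNat 0, Int.ofNat 0, Int.ofNat 0, Int.negSucc 1, Int.ofNat 2, Int.ofNat 2, Int.ofNat 0, Int.ofNat 0, Int.ofNat 0, Int.ofNat 0, Int.ofNat 0, Int.ofNat 0, Int.ofNat 0, Int.negSucc 1, Int.ofNat 2, Int.ofNat 0, Int.negSucc 1, Int.negSucc 1, Int.ofNat 0],
  [Int.ofNat 0, Int.negSucc 1, Int.negSucc 1, Int.ofNat 0, Int.ofNat 0, Int.ofNat 0, Int.ofNat 0, Int.ofNat 2, Int.ofNat 0, Int.ofNat 0, Int.ofNat 0, Int.negSucc 1, Int.ofNat 2, Int.ofNat 2, Int.ofNat 0, Int.ofNat 0, Int.ofNat 0, Int.ofNat 0, Int.ofNat 0, Int.ofNat 0, Int.ofNat 0, Int.negSucc 1, Int.ofNat 2, Int.ofNat 0],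
  [Int.negSucc 1, Int.ofNat 0, Int.ofNat 0, Int.ofNat 0, Int.negSucc 1, Int.ofNat 0, Int.ofNat 0, Int.ofNat 2, Int.ofNat 0, Int.ofNat 0, Int.ofNat 0, Int.negSucc 1, Int.ofNat 2, Int.ofNat 0, Int.ofNat 0, Int.ofNat 0, Int.negSucc 1, Int.ofNat 0, Int.ofNat 0, Int.ofNat 0, Int.ofNat 0, Int.negSucc 1, Int.ofNat 0, Int.negSucc 1],
  [Int.ofNat 0, Int.ofNat 0, Int.ofNat 0, Int.negSucc 1, Int.ofNat 0, Int.ofNat 0, Int.ofNat 2, Int.ofNat 0, Int.ofNat 0, Int.ofNat 0, Int.negSucc 1, Int.ofNat 2, Int.ofNat 0, Int.ofNat 0, Int.ofNat 0, Int.negSucc 1, Int.ofNat 0, Int.ofNat 0, Int.ofNat 0, Int.ofNat 0, Int.negSucc 1, Int.ofNat 0, Int.negSucc 1, Int.negSucc 1],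
  [Int.ofNat 0, Int.ofNat 0, Int.ofNat 0, Int.negSucc 1, Int.ofNat 0, Int.ofNat 0, Int.ofNat 2, Int.ofNat 0, Int.ofNat 0, Int.ofNat 0, Int.ofNat 2, Int.negSucc 1, Int.ofNat 0, Int.ofNat 0, Int.ofNat 0, Int.negSucc 1, Int.ofNat 0, Int.ofNat 0, Int.ofNat 0, Int.ofNat 0, Int.negSucc 1, Int.ofNat 0, Int.negSucc 1, Int.negSucc 1]]

set_option maxRecDepth 100000 in
theorem c1te13_chk : pmChk (List.replicate 14 [13, 0, 26, 25]).flatten nxL c1te13M 0 0 = true := by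
  decide +kernel

theorem c1te13_ne : wE letE2 (List.replicate 14 [13, 0, 26, 25]).flatten ≠ 1 ∧ wE letE2 (List.replicate 14 [13, 0, 26, 25]).flatten ≠ negElt :=
  ne_pm_of_chk nxL_mem c1te13_chk

set_option maxRecDepth 100000 in
def c1te14M : List (List ℤ) :=
  [[Int.ofNat 4, Int.ofNat 0, Int.ofNat 0, Int.ofNat 0, Int.ofNat 0, Int.ofNat 0, Int.ofNat 0, Int.ofNat 0, Int.ofNat 0, Int.ofNat 0, Int.ofNat 0, Int.ofNat 0, Int.ofNat 0, Int.ofNat 0, Int.ofNat 0, Int.ofNat 0, Int.ofNat 0, Int.ofNat 0, Int.ofNat 0, Int.ofNat 0, Int.ofNat 0, Int.ofNat 0, Int.ofNat 0, Int.ofNat 4],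
  [Int.ofNat 4, Int.ofNat 0, Int.ofNat 0, Int.ofNat 0, Int.ofNat 0, Int.ofNat 0, Int.ofNat 0, Int.ofNat 0, Int.ofNat 0, Int.ofNat 0, Int.ofNat 0, Int.ofNat 0, Int.ofNat 0, Int.ofNat 0, Int.ofNat 0, Int.ofNat 0, Int.ofNat 0, Int.ofNat 0, Int.ofNat 0, Int.ofNat 0, Int.ofNat 0, Int.ofNat 0, Int.ofNat 0, Int.ofNat 4],
  [Int.negSucc 3, Int.ofNat 0, Int.ofNat 0, Int.ofNat 0, Int.ofNat 0, Int.ofNat 0, Int.ofNat 0, Int.ofNat 0, Int.ofNat 0, Int.ofNat 0, Int.ofNat 0, Int.ofNat 0, Int.ofNat 0, Int.ofNat 0, Int.ofNat 0, Int.ofNat 0, Int.ofNat 0, Int.ofNat 0, Int.ofNat 0, Int.ofNat 0, Int.ofNat 0, Int.ofNat 0, Int.ofNat 0, Int.ofNat 4],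
  [Int.ofNat 0, Int.negSucc 3, Int.ofNat 0, Int.ofNat 0, Int.ofNat 0, Int.ofNat 0, Int.ofNat 0, Int.ofNat 0, Int.ofNat 0, Int.ofNat 0, Int.ofNat 0, Int.ofNat 0, Int.ofNat 0, Int.ofNat 0, Int.ofNat 0, Int.ofNat 0, Int.ofNat 0, Int.ofNat 0, Int.ofNat 0, Int.ofNat 0, Int.ofNat 0, Int.ofNat 0, Int.ofNat 0, Int.ofNat 4],
  [Int.ofNat 0, Int.ofNat 4, Int.ofNat 0, Int.ofNat 0, Int.ofNat 0, Int.ofNat 0, Int.ofNat 0, Int.ofNat 0, Int.ofNat 0, Int.ofNat 0, Int.ofNat 0, Int.ofNat 0, Int.ofNat 0, Int.ofNat 0, Int.ofNat 0, Int.ofNat 0, Int.ofNat 0, Int.ofNat 0, Int.ofNat 0, Int.ofNat 0, Int.ofNat 0, Int.ofNat 0, Int.ofNat 0, Int.negSucc 3],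
  [Int.ofNat 0, Int.ofNat 0, Int.ofNat 0, Int.ofNat 0, Int.ofNat 0, Int.ofNat 0, Int.ofNat 0, Int.ofNat 0, Int.ofNat 0, Int.ofNat 0, Int.ofNat 0, Int.ofNat 0, Int.ofNat 0, Int.ofNat 0, Int.ofNat 0, Int.ofNat 0, Int.ofNat 0, Int.ofNat 0, Int.ofNat 0, Int.ofNat 0, Int.ofNat 0, Int.ofNat 4, Int.ofNat 0, Int.negSucc 3],
  [Int.negSucc 1, Int.negSucc 1, Int.negSucc 1, Int.ofNat 0, Int.ofNat 0, Int.ofNat 0, Int.negSucc 1, Int.negSucc 1, Int.ofNat 0, Int.ofNat 0, Int.ofNat 0, Int.ofNat 0, Int.ofNat 0, Int.ofNat 0, Int.ofNat 0, Int.ofNat 0, Int.ofNat 0, Int.ofNat 0, Int.ofNat 0, Int.negSucc 1, Int.ofNat 0, Int.ofNat 2, Int.ofNat 0, Int.ofNat 2],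
  [Int.negSucc 1, Int.negSucc 1, Int.ofNat 0, Int.ofNat 0, Int.ofNat 0, Int.negSucc 1, Int.negSucc 1, Int.ofNat 0, Int.ofNat 0, Int.ofNat 0, Int.ofNat 0, Int.ofNat 0, Int.ofNat 0, Int.ofNat 0, Int.ofNat 0, Int.ofNat 0, Int.ofNat 0, Int.ofNat 0, Int.negSucc 1, Int.ofNat 0, Int.ofNat 2, Int.ofNat 0, Int.negSucc 1, Int.ofNat 2],
  [Int.ofNat 1, Int.ofNat 1, Int.negSucc 0, Int.ofNat 1, Int.ofNat 1, Int.negSucc 0, Int.negSucc 0, Int.ofNat 1, Int.ofNat 1, Int.negSucc 0, Int.negSucc 0, Int.ofNat 1, Int.ofNat 1, Int.ofNat 1, Int.ofNat 1, Int.negSucc 0, Int.ofNat 1, Int.ofNat 1, Int.negSucc 0, Int.ofNat 1, Int.ofNat 1, Int.ofNat 1, Int.negSucc 0, Int.negSucc 2],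
  [Int.ofNat 1, Int.ofNat 1, Int.ofNat 1, Int.ofNat 1, Int.ofNat 1, Int.ofNat 1, Int.ofNat 1, Int.ofNat 1, Int.ofNat 1, Int.ofNat 1, Int.ofNat 1, Int.ofNat 1, Int.ofNat 1, Int.ofNat 1, Int.ofNat 1, Int.ofNat 1, Int.ofNat 1, Int.ofNat 1, Int.ofNat 1, Int.ofNat 1, Int.ofNat 1, Int.ofNat 1, Int.ofNat 1, Int.negSucc 2],
  [Int.ofNat 1, Int.ofNat 1, Int.ofNat 1, Int.ofNat 1, Int.ofNat 1, Int.ofNat 1, Int.ofNat 1, Int.ofNat 1, Int.ofNat 1, Int.ofNat 1, Int.ofNat 1, Int.ofNat 1, Int.ofNat 1, Int.ofNat 1, Int.ofNat 1, Int.ofNat 1, Int.ofNat 1, Int.ofNat 1, Int.ofNat 1, Int.ofNat 1, Int.ofNat 1, Int.ofNat 1, Int.ofNat 1, Int.negSucc 2],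
  [Int.negSucc 2, Int.ofNat 1, Int.ofNat 1, Int.ofNat 1, Int.ofNat 1, Int.ofNat 1, Int.ofNat 1, Int.ofNat 1, Int.ofNat 1, Int.ofNat 1, Int.ofNat 1, Int.ofNat 1, Int.ofNat 1, Int.ofNat 1, Int.ofNat 1, Int.ofNat 1, Int.ofNat 1, Int.ofNat 1, Int.ofNat 1, Int.ofNat 1, Int.ofNat 1, Int.ofNat 1, Int.ofNat 1, Int.ofNat 1],
  [Int.ofNat 3, Int.ofNat 1, Int.negSucc 0, Int.ofNat 1, Int.ofNat 1, Int.ofNat 1, Int.ofNat 1, Int.negSucc 0, Int.ofNat 1, Int.negSucc 0, Int.negSucc 0, Int.negSucc 0, Int.ofNat 1, Int.ofNat 1, Int.ofNat 1, Int.ofNat 1, Int.ofNat 1, Int.ofNat 1, Int.negSucc 0, Int.ofNat 1, Int.ofNat 1, Int.negSucc 0, Int.ofNat 1, Int.ofNat 1],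
  [Int.ofNat 1, Int.ofNat 3, Int.ofNat 1, Int.negSucc 0, Int.ofNat 1, Int.ofNat 1, Int.ofNat 1, Int.ofNat 1, Int.negSucc 0, Int.ofNat 1, Int.negSucc 0, Int.negSucc 0, Int.negSucc 0, Int.ofNat 1, Int.ofNat 1, Int.ofNat 1, Int.ofNat 1, Int.ofNat 1, Int.ofNat 1, Int.negSucc 0, Int.ofNat 1, Int.ofNat 1, Int.negSucc 0, Int.ofNat 1],
  [Int.ofNat 2, Int.ofNat 0, Int.ofNat 2, Int.negSucc 1, Int.ofNat 0, Int.ofNat 0, Int.ofNat 0, Int.ofNat 0, Int.ofNat 0, Int.ofNat 0, Int.negSucc 1, Int.ofNat 0, Int.ofNat 0, Int.ofNat 0, Int.ofNat 0, Int.ofNat 0, Int.ofNat 0, Int.ofNat 0, Int.ofNat 2, Int.negSucc 1, Int.ofNat 0, Int.ofNat 0, Int.negSucc 1, Int.ofNat 2],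
  [Int.negSucc 1, Int.ofNat 0, Int.ofNat 0, Int.ofNat 0, Int.ofNat 0, Int.ofNat 0, Int.ofNat 0, Int.negSucc 1, Int.ofNat 0, Int.ofNat 0, Int.ofNat 0, Int.ofNat 0, Int.ofNat 0, Int.ofNat 0, Int.ofNat 0, Int.ofNat 2, Int.negSucc 1, Int.ofNat 0, Int.ofNat 0, Int.negSucc 1, Int.ofNat 2, Int.ofNat 0, Int.ofNat 2, Int.ofNat 2],
  [Int.ofNat 2, Int.ofNat 0, Int.ofNat 0, Int.ofNat 0, Int.ofNat 0, Int.ofNat 0, Int.ofNat 2, Int.ofNat 0, Int.ofNat 0, Int.negSucc 1, Int.negSucc 1, Int.ofNat 0, Int.ofNat 0, Int.ofNat 0, Int.ofNat 0, Int.ofNat 0, Int.negSucc 1, Int.ofNat 0, Int.ofNat 0, Int.ofNat 0, Int.ofNat 0, Int.ofNat 2, Int.ofNat 2, Int.negSucc 1],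
  [Int.ofNat 2, Int.ofNat 2, Int.ofNat 0, Int.ofNat 0, Int.ofNat 0, Int.ofNat 0, Int.ofNat 0, Int.negSucc 1, Int.ofNat 0, Int.ofNat 0, Int.ofNat 0, Int.ofNat 0, Int.negSucc 1, Int.negSucc 1, Int.ofNat 2, Int.ofNat 0, Int.ofNat 0, Int.ofNat 0, Int.ofNat 0, Int.ofNat 0, Int.ofNat 2, Int.ofNat 0, Int.ofNat 0, Int.negSucc 1],
  [Int.negSucc 0, Int.negSucc 0, Int.ofNat 1, Int.negSucc 0, Int.ofNat 1, Int.negSucc 0, Int.ofNat 1, Int.negSucc 0, Int.ofNat 1, Int.negSucc 0, Int.negSucc 0, Int.ofNat 1, Int.negSucc 0, Int.negSucc 0, Int.ofNat 1, Int.negSucc 0, Int.ofNat 1, Int.negSucc 0, Int.ofNat 1, Int.ofNat 1, Int.ofNat 1, Int.ofNat 1, Int.ofNat 1, Int.ofNat 3],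
  [Int.negSucc 0, Int.negSucc 0, Int.negSucc 0, Int.negSucc 0, Int.ofNat 1, Int.ofNat 1, Int.negSucc 0, Int.negSucc 0, Int.ofNat 1, Int.ofNat 1, Int.ofNat 1, Int.ofNat 1, Int.negSucc 0, Int.negSucc 0, Int.ofNat 1, Int.ofNat 1, Int.ofNat 1, Int.negSucc 0, Int.negSucc 0, Int.ofNat 1, Int.ofNat 1, Int.ofNat 1, Int.negSucc 0, Int.ofNat 3],
  [Int.ofNat 1, Int.negSucc 0, Int.ofNat 1, Int.ofNat 1, Int.ofNat 1, Int.ofNat 1, Int.negSucc 0, Int.ofNat 1, Int.negSucc 0, Int.negSucc 0, Int.ofNat 1, Int.ofNat 1, Int.negSucc 0, Int.ofNat 1, Int.negSucc 0, Int.negSucc 0, Int.negSucc 0, Int.negSucc 0, Int.ofNat 1, Int.ofNat 1, Int.ofNat 1, Int.negSucc 0, Int.negSucc 0, Int.ofNat 3],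
  [Int.ofNat 1, Int.negSucc 0, Int.negSucc 0, Int.ofNat 1, Int.ofNat 1, Int.negSucc 0, Int.ofNat 1, Int.ofNat 1, Int.negSucc 0, Int.ofNat 1, Int.negSucc 0, Int.ofNat 1, Int.negSucc 0, Int.ofNat 1, Int.negSucc 0, Int.ofNat 1, Int.negSucc 0, Int.negSucc 0, Int.negSucc 0, Int.ofNat 1, Int.ofNat 1, Int.negSucc 0, Int.ofNat 1, Int.ofNat 3],
  [Int.ofNat 0, Int.ofNat 2, Int.ofNat 2, Int.ofNat 2, Int.ofNat 0, Int.ofNat 0, Int.ofNat 0, Int.ofNat 0, Int.ofNat 0, Int.ofNat 0, Int.negSucc 1, Int.ofNat 2, Int.ofNat 0, Int.ofNat 0, Int.ofNat 0, Int.ofNat 0, Int.negSucc 1, Int.ofNat 0, Int.ofNat 0, Int.ofNat 0, Int.ofNat 0, Int.negSucc 1, Int.ofNat 0, Int.negSucc 1],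
  [Int.ofNat 0, Int.ofNat 0, Int.ofNat 0, Int.ofNat 2, Int.ofNat 2, Int.negSucc 1, Int.ofNat 2, Int.ofNat 0, Int.negSucc 1, Int.ofNat 0, Int.ofNat 0, Int.ofNat 0, Int.ofNat 0, Int.ofNat 0, Int.ofNat 0, Int.ofNat 0, Int.ofNat 0, Int.ofNat 2, Int.ofNat 0, Int.ofNat 0, Int.negSucc 1, Int.ofNat 0, Int.ofNat 0, Int.negSucc 1],
  [Int.negSucc 0, Int.negSucc 0, Int.negSucc 0, Int.ofNat 1, Int.ofNat 1, Int.negSucc 2, Int.ofNat 1, Int.negSucc 0, Int.negSucc 0, Int.ofNat 1, Int.ofNat 1, Int.ofNat 1, Int.ofNat 1, Int.negSucc 0, Int.negSucc 0, Int.ofNat 1, Int.negSucc 0, Int.ofNat 1, Int.ofNat 1, Int.negSucc 0, Int.negSucc 0, Int.negSucc 0, Int.negSucc 0, Int.ofNat 1],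
  [Int.negSucc 0, Int.negSucc 0, Int.negSucc 0, Int.negSucc 0, Int.negSucc 0, Int.negSucc 0, Int.ofNat 1, Int.ofNat 1, Int.negSucc 2, Int.ofNat 1, Int.negSucc 0, Int.negSucc 0, Int.ofNat 1, Int.ofNat 1, Int.ofNat 1, Int.ofNat 1, Int.negSucc 0, Int.negSucc 0, Int.ofNat 1, Int.negSucc 0, Int.ofNat 1, Int.ofNat 1, Int.negSucc 0, Int.ofNat 1],
  [Int.ofNat 0, Int.ofNat 0, Int.ofNat 0, Int.ofNat 0, Int.ofNat 0, Int.ofNat 0, Int.ofNat 0, Int.ofNat 0, Int.negSucc 1, Int.ofNat 0, Int.negSucc 1, Int.ofNat 0, Int.ofNat 2, Int.ofNat 2, Int.ofNat 2, Int.ofNat 0, Int.ofNat 0, Int.ofNat 0, Int.ofNat 2, Int.negSucc 1, Int.ofNat 0, Int.ofNat 0, Int.ofNat 0, Int.negSucc 1],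
  [Int.ofNat 0, Int.ofNat 0, Int.ofNat 0, Int.ofNat 0, Int.ofNat 0, Int.ofNat 0, Int.ofNat 0, Int.negSucc 1, Int.ofNat 0, Int.negSucc 1, Int.ofNat 0, Int.ofNat 2, Int.ofNat 2, Int.ofNat 2, Int.ofNat 0, Int.ofNat 0, Int.ofNat 0, Int.ofNat 2, Int.negSucc 1, Int.ofNat 0, Int.ofNat 0, Int.ofNat 0, Int.ofNat 0, Int.negSucc 1],
  [Int.ofNat 0, Int.ofNat 0, Int.ofNat 0, Int.ofNat 0, Int.ofNat 0, Int.ofNat 0, Int.ofNat 0, Int.ofNat 2, Int.ofNat 0, Int.ofNat 2, Int.ofNat 0, Int.negSucc 1, Int.ofNat 2, Int.ofNat 2, Int.ofNat 0, Int.ofNat 0, Int.ofNat 0, Int.ofNat 2, Int.ofNat 2, Int.ofNat 0, Int.ofNat 0, Int.ofNat 0, Int.ofNat 0, Int.negSucc 1],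
  [Int.ofNat 0, Int.ofNat 0, Int.ofNat 0, Int.ofNat 0, Int.ofNat 0, Int.ofNat 0, Int.ofNat 0, Int.ofNat 2, Int.ofNat 0, Int.negSucc 1, Int.ofNat 0, Int.negSucc 1, Int.negSucc 1, Int.negSucc 1, Int.ofNat 0, Int.ofNat 0, Int.ofNat 0, Int.ofNat 2, Int.negSucc 1, Int.ofNat 0, Int.ofNat 0, Int.ofNat 0, Int.ofNat 0, Int.negSucc 1],
  [Int.ofNat 0, Int.ofNat 0, Int.negSucc 1, Int.ofNat 0, Int.ofNat 0, Int.ofNat 0, Int.ofNat 0, Int.ofNat 0, Int.negSucc 1, Int.ofNat 0, Int.ofNat 0, Int.ofNat 0, Int.negSucc 1, Int.ofNat 0, Int.ofNat 0, Int.ofNat 0, Int.negSucc 1, Int.ofNat 0, Int.ofNat 0, Int.ofNat 2, Int.ofNat 0, Int.ofNat 2, Int.negSucc 1, Int.negSucc 1],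
  [Int.ofNat 0, Int.ofNat 0, Int.ofNat 2, Int.ofNat 0, Int.ofNat 0, Int.ofNat 0, Int.ofNat 0, Int.ofNat 0, Int.negSucc 1, Int.ofNat 0, Int.ofNat 0, Int.ofNat 0, Int.negSucc 1, Int.ofNat 0, Int.ofNat 0, Int.ofNat 0, Int.negSucc 1, Int.ofNat 0, Int.ofNat 0, Int.ofNat 2, Int.ofNat 0, Int.negSucc 1, Int.negSucc 1, Int.negSucc 1],
  [Int.negSucc 1, Int.ofNat 0, Int.ofNat 0, Int.ofNat 2, Int.ofNat 0, Int.ofNat 0, Int.ofNat 0, Int.ofNat 0, Int.ofNat 0, Int.negSucc 1, Int.ofNat 0, Int.ofNat 0, Int.ofNat 0, Int.negSucc 1, Int.ofNat 0, Int.ofNat 0, Int.ofNat 0, Int.negSucc 1, Int.ofNat 0, Int.ofNat 0, Int.ofNat 2, Int.ofNat 0, Int.negSucc 1, Int.negSucc 1],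
  [Int.ofNat 0, Int.negSucc 1, Int.negSucc 1, Int.ofNat 2, Int.ofNat 2, Int.ofNat 0, Int.ofNat 0, Int.ofNat 0, Int.ofNat 0, Int.negSucc 1, Int.ofNat 0, Int.ofNat 0, Int.ofNat 0, Int.ofNat 0, Int.ofNat 0, Int.ofNat 0, Int.ofNat 2, Int.negSucc 1, Int.ofNat 0, Int.ofNat 0, Int.ofNat 2, Int.ofNat 0, Int.ofNat 0, Int.ofNat 0],
  [Int.ofNat 2, Int.ofNat 2, Int.ofNat 0, Int.ofNat 0, Int.ofNat 0, Int.ofNat 0, Int.negSucc 1, Int.ofNat 0, Int.ofNat 0, Int.ofNat 0, Int.ofNat 0, Int.ofNat 0, Int.ofNat 0, Int.ofNat 2, Int.negSucc 1, Int.ofNat 0, Int.ofNat 0, Int.ofNat 2, Int.ofNat 0, Int.ofNat 0, Int.ofNat 0, Int.negSucc 1, Int.negSucc 1, Int.ofNat 0],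
  [Int.ofNat 0, Int.ofNat 0, Int.ofNat 2, Int.ofNat 0, Int.ofNat 0, Int.ofNat 0, Int.ofNat 0, Int.ofNat 2, Int.ofNat 0, Int.ofNat 0, Int.ofNat 0, Int.ofNat 0, Int.ofNat 0, Int.ofNat 2, Int.negSucc 1, Int.ofNat 0, Int.ofNat 0, Int.ofNat 2, Int.ofNat 0, Int.ofNat 2, Int.ofNat 0, Int.ofNat 0, Int.negSucc 1, Int.ofNat 2],
  [Int.ofNat 0, Int.ofNat 0, Int.ofNat 0, Int.ofNat 0, Int.ofNat 0, Int.ofNat 2, Int.ofNat 2, Int.ofNat 0, Int.ofNat 0, Int.ofNat 2, Int.ofNat 0, Int.ofNat 2, Int.ofNat 0, Int.ofNat 0, Int.negSucc 1, Int.ofNat 0, Int.ofNat 0, Int.negSucc 1, Int.ofNat 0, Int.ofNat 0, Int.ofNat 0, Int.ofNat 0, Int.ofNat 2, Int.ofNat 2],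
  [Int.ofNat 1, Int.ofNat 1, Int.ofNat 1, Int.ofNat 1, Int.negSucc 0, Int.ofNat 3, Int.ofNat 1, Int.negSucc 0, Int.negSucc 0, Int.ofNat 1, Int.negSucc 0, Int.ofNat 1, Int.negSucc 0, Int.negSucc 0, Int.negSucc 0, Int.negSucc 0, Int.negSucc 0, Int.negSucc 0, Int.negSucc 0, Int.negSucc 0, Int.negSucc 0, Int.negSucc 0, Int.ofNat 1, Int.negSucc 0],
  [Int.ofNat 1, Int.ofNat 1, Int.negSucc 0, Int.ofNat 1, Int.negSucc 0, Int.negSucc 2, Int.negSucc 0, Int.negSucc 0, Int.negSucc 0, Int.negSucc 0, Int.ofNat 1, Int.ofNat 1, Int.negSucc 0, Int.negSucc 0, Int.negSucc 0, Int.ofNat 1, Int.negSucc 0, Int.negSucc 0, Int.ofNat 1, Int.negSucc 0, Int.negSucc 0, Int.negSucc 0, Int.negSucc 0, Int.negSucc 0],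
  [Int.ofNat 1, Int.negSucc 0, Int.ofNat 1, Int.negSucc 0, Int.negSucc 0, Int.negSucc 0, Int.negSucc 0, Int.ofNat 1, Int.negSucc 2, Int.negSucc 0, Int.negSucc 0, Int.negSucc 0, Int.ofNat 1, Int.negSucc 0, Int.negSucc 0, Int.ofNat 1, Int.negSucc 0, Int.negSucc 0, Int.negSucc 0, Int.negSucc 0, Int.ofNat 1, Int.ofNat 1, Int.negSucc 0, Int.negSucc 0],
  [Int.negSucc 0, Int.negSucc 0, Int.negSucc 0, Int.ofNat 1, Int.negSucc 0, Int.negSucc 0, Int.negSucc 0, Int.negSucc 0, Int.ofNat 1, Int.negSucc 0, Int.negSucc 0, Int.ofNat 1, Int.ofNat 1, Int.ofNat 1, Int.negSucc 0, Int.negSucc 0, Int.negSucc 0, Int.negSucc 0, Int.negSucc 0, Int.negSucc 0, Int.negSucc 2, Int.ofNat 1, Int.negSucc 0, Int.ofNat 1],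
  [Int.ofNat 1, Int.negSucc 0, Int.ofNat 1, Int.ofNat 1, Int.negSucc 0, Int.negSucc 0, Int.negSucc 0, Int.ofNat 1, Int.ofNat 1, Int.ofNat 1, Int.ofNat 1, Int.negSucc 0, Int.ofNat 1, Int.ofNat 1, Int.negSucc 0, Int.negSucc 0, Int.negSucc 0, Int.negSucc 0, Int.ofNat 1, Int.negSucc 0, Int.negSucc 2, Int.negSucc 0, Int.negSucc 0, Int.ofNat 1],
  [Int.negSucc 0, Int.ofNat 1, Int.negSucc 0, Int.ofNat 1, Int.ofNat 1, Int.negSucc 0, Int.negSucc 0, Int.negSucc 0, Int.ofNat 1, Int.ofNat 1, Int.ofNat 1, Int.ofNat 1, Int.negSucc 0, Int.ofNat 1, Int.ofNat 1, Int.negSucc 0, Int.negSucc 0, Int.negSucc 0, Int.negSucc 0, Int.ofNat 1, Int.negSucc 0, Int.negSucc 2, Int.negSucc 0, Int.ofNat 1],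
  [Int.ofNat 1, Int.negSucc 0, Int.ofNat 1, Int.ofNat 1, Int.ofNat 1, Int.negSucc 0, Int.ofNat 1, Int.ofNat 1, Int.ofNat 1, Int.ofNat 1, Int.ofNat 1, Int.ofNat 1, Int.negSucc 0, Int.ofNat 1, Int.ofNat 1, Int.negSucc 0, Int.negSucc 0, Int.negSucc 0, Int.negSucc 0, Int.ofNat 3, Int.negSucc 0, Int.negSucc 0, Int.negSucc 0, Int.negSucc 0],
  [Int.ofNat 1, Int.ofNat 1, Int.negSucc 0, Int.ofNat 1, Int.ofNat 1, Int.ofNat 1, Int.ofNat 1, Int.ofNat 1, Int.ofNat 1, Int.negSucc 0, Int.ofNat 1, Int.ofNat 1, Int.negSucc 0, Int.negSucc 0, Int.negSucc 0, Int.negSucc 0, Int.ofNat 3, Int.negSucc 0, Int.negSucc 0, Int.negSucc 0, Int.ofNat 1, Int.negSucc 0, Int.ofNat 1, Int.negSucc 0],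
  [Int.negSucc 0, Int.negSucc 0, Int.ofNat 1, Int.ofNat 1, Int.negSucc 0, Int.ofNat 1, Int.ofNat 1, Int.ofNat 1, Int.ofNat 1, Int.negSucc 0, Int.ofNat 1, Int.ofNat 1, Int.negSucc 0, Int.negSucc 2, Int.negSucc 0, Int.negSucc 0, Int.ofNat 1, Int.negSucc 0, Int.negSucc 0, Int.negSucc 0, Int.ofNat 1, Int.negSucc 0, Int.negSucc 0, Int.ofNat 1],
  [Int.negSucc 0, Int.ofNat 1, Int.negSucc 0, Int.ofNat 1, Int.negSucc 0, Int.ofNat 1, Int.ofNat 1, Int.ofNat 1, Int.negSucc 0, Int.negSucc 2, Int.ofNat 1, Int.negSucc 0, Int.negSucc 0, Int.ofNat 1, Int.negSucc 0, Int.negSucc 0, Int.ofNat 1, Int.negSucc 0, Int.negSucc 0, Int.ofNat 1, Int.negSucc 0, Int.ofNat 1, Int.negSucc 0, Int.ofNat 1],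
  [Int.ofNat 1, Int.negSucc 0, Int.ofNat 1, Int.ofNat 1, Int.negSucc 0, Int.ofNat 1, Int.negSucc 0, Int.negSucc 0, Int.ofNat 1, Int.negSucc 0, Int.ofNat 3, Int.ofNat 1, Int.ofNat 1, Int.ofNat 1, Int.negSucc 0, Int.ofNat 1, Int.ofNat 1, Int.negSucc 0, Int.ofNat 1, Int.negSucc 0, Int.ofNat 1, Int.negSucc 0, Int.negSucc 0, Int.negSucc 0],
  [Int.ofNat 1, Int.negSucc 0, Int.negSucc 0, Int.ofNat 1, Int.negSucc 0, Int.negSucc 0, Int.ofNat 1, Int.negSucc 0, Int.ofNat 1, Int.ofNat 1, Int.negSucc 2, Int.ofNat 1, Int.ofNat 1, Int.ofNat 1, Int.negSucc 0, Int.negSucc 0, Int.ofNat 1, Int.negSucc 0, Int.negSucc 0, Int.negSucc 0, Int.ofNat 1, Int.negSucc 0, Int.ofNat 1, Int.negSucc 0],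
  [Int.negSucc 0, Int.negSucc 0, Int.negSucc 0, Int.negSucc 2, Int.negSucc 0, Int.ofNat 1, Int.negSucc 0, Int.negSucc 0, Int.negSucc 0, Int.negSucc 0, Int.negSucc 0, Int.ofNat 1, Int.ofNat 1, Int.ofNat 1, Int.ofNat 1, Int.ofNat 1, Int.ofNat 1, Int.ofNat 1, Int.negSucc 0, Int.ofNat 1, Int.ofNat 1, Int.ofNat 1, Int.negSucc 0, Int.negSucc 0],
  [Int.negSucc 0, Int.negSucc 0, Int.ofNat 1, Int.negSucc 2, Int.negSucc 0, Int.negSucc 0, Int.ofNat 1, Int.negSucc 0, Int.negSucc 0, Int.ofNat 1, Int.ofNat 1, Int.ofNat 1, Int.ofNat 1, Int.ofNat 1, Int.ofNat 1, Int.negSucc 0, Int.ofNat 1, Int.ofNat 1, Int.ofNat 1, Int.ofNat 1, Int.ofNat 1, Int.ofNat 1, Int.ofNat 1, Int.negSucc 0],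
  [Int.ofNat 0, Int.ofNat 0, Int.negSucc 1, Int.negSucc 1, Int.negSucc 1, Int.ofNat 0, Int.ofNat 0, Int.negSucc 1, Int.negSucc 1, Int.ofNat 0, Int.ofNat 0, Int.ofNat 0, Int.ofNat 0, Int.ofNat 0, Int.ofNat 2, Int.negSucc 1, Int.ofNat 0, Int.ofNat 2, Int.ofNat 0, Int.ofNat 0, Int.ofNat 0, Int.ofNat 0, Int.ofNat 0, Int.ofNat 0],
  [Int.ofNat 0, Int.ofNat 0, Int.ofNat 0, Int.negSucc 1, Int.negSucc 1, Int.ofNat 0, Int.ofNat 0, Int.ofNat 0, Int.ofNat 0, Int.ofNat 0, Int.negSucc 1, Int.ofNat 0, Int.negSucc 1, Int.ofNat 0, Int.ofNat 2, Int.negSucc 1, Int.ofNat 0, Int.ofNat 0, Int.negSucc 1, Int.ofNat 0, Int.ofNat 0, Int.ofNat 0, Int.ofNat 2, Int.ofNat 0],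
  [Int.ofNat 0, Int.ofNat 0, Int.ofNat 0, Int.negSucc 1, Int.negSucc 1, Int.ofNat 0, Int.ofNat 0, Int.ofNat 0, Int.ofNat 2, Int.ofNat 2, Int.ofNat 0, Int.ofNat 2, Int.ofNat 0, Int.ofNat 0, Int.ofNat 2, Int.ofNat 0, Int.ofNat 0, Int.ofNat 0, Int.ofNat 0, Int.ofNat 0, Int.ofNat 2, Int.ofNat 0, Int.ofNat 2, Int.ofNat 0],
  [Int.ofNat 2, Int.ofNat 0, Int.ofNat 2, Int.ofNat 0, Int.ofNat 0, Int.ofNat 0, Int.negSucc 1, Int.negSucc 1, Int.ofNat 0, Int.ofNat 0, Int.ofNat 0, Int.ofNat 2, Int.ofNat 2, Int.ofNat 0, Int.ofNat 2, Int.ofNat 0, Int.ofNat 0, Int.ofNat 2, Int.ofNat 0, Int.ofNat 0, Int.ofNat 0, Int.ofNat 0, Int.ofNat 0, Int.ofNat 0],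
  [Int.ofNat 0, Int.ofNat 2, Int.ofNat 0, Int.negSucc 1, Int.ofNat 0, Int.negSucc 1, Int.ofNat 0, Int.ofNat 0, Int.negSucc 1, Int.ofNat 0, Int.ofNat 0, Int.ofNat 0, Int.ofNat 0, Int.ofNat 0, Int.ofNat 0, Int.ofNat 0, Int.ofNat 0, Int.ofNat 0, Int.negSucc 1, Int.ofNat 2, Int.ofNat 0, Int.ofNat 2, Int.ofNat 0, Int.ofNat 2],
  [Int.ofNat 2, Int.ofNat 0, Int.negSucc 1, Int.ofNat 0, Int.negSucc 1, Int.ofNat 0, Int.ofNat 0, Int.negSucc 1, Int.ofNat 0, Int.ofNat 0, Int.ofNat 0, Int.ofNat 0, Int.ofNat 0, Int.ofNat 0, Int.ofNat 0, Int.ofNat 0, Int.ofNat 0, Int.negSucc 1, Int.ofNat 2, Int.ofNat 0, Int.ofNat 2, Int.ofNat 0, Int.ofNat 0, Int.ofNat 2],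
  [Int.negSucc 1, Int.ofNat 0, Int.ofNat 2, Int.ofNat 0, Int.negSucc 1, Int.ofNat 0, Int.ofNat 0, Int.ofNat 2, Int.ofNat 0, Int.ofNat 0, Int.ofNat 0, Int.ofNat 0, Int.ofNat 0, Int.ofNat 0, Int.ofNat 0, Int.ofNat 0, Int.ofNat 0, Int.negSucc 1, Int.negSucc 1, Int.ofNat 0, Int.ofNat 2, Int.ofNat 0, Int.ofNat 0, Int.ofNat 2],
  [Int.ofNat 2, Int.ofNat 0, Int.negSucc 1, Int.ofNat 0, Int.ofNat 2, Int.ofNat 0, Int.ofNat 0, Int.ofNat 2, Int.ofNat 0, Int.ofNat 0, Int.ofNat 0, Int.ofNat 0, Int.ofNat 0, Int.ofNat 0, Int.ofNat 0, Int.ofNat 0, Int.ofNat 0, Int.negSucc 1, Int.ofNat 2, Int.ofNat 0, Int.ofNat 2, Int.ofNat 0, Int.ofNat 0, Int.ofNat 2],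
  [Int.ofNat 2, Int.negSucc 1, Int.ofNat 2, Int.ofNat 0, Int.ofNat 0, Int.ofNat 0, Int.ofNat 2, Int.ofNat 2, Int.ofNat 0, Int.ofNat 0, Int.ofNat 0, Int.ofNat 0, Int.ofNat 0, Int.ofNat 0, Int.ofNat 0, Int.ofNat 0, Int.ofNat 0, Int.ofNat 0, Int.ofNat 0, Int.negSucc 1, Int.ofNat 0, Int.ofNat 2, Int.ofNat 0, Int.ofNat 2],
  [Int.negSucc 1, Int.negSucc 1, Int.negSucc 1, Int.ofNat 0, Int.ofNat 0, Int.ofNat 0, Int.ofNat 2, Int.negSucc 1, Int.ofNat 0, Int.ofNat 0, Int.ofNat 0, Int.ofNat 0, Int.ofNat 0, Int.ofNat 0, Int.ofNat 0, Int.ofNat 0, Int.ofNat 0, Int.ofNat 0, Int.ofNat 0, Int.negSucc 1, Int.ofNat 0, Int.negSucc 1, Int.ofNat 0, Int.ofNat 2],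
  [Int.ofNat 0, Int.negSucc 1, Int.negSucc 1, Int.negSucc 1, Int.ofNat 0, Int.ofNat 0, Int.ofNat 0, Int.ofNat 2, Int.negSucc 1, Int.ofNat 0, Int.ofNat 0, Int.ofNat 0, Int.ofNat 0, Int.ofNat 0, Int.ofNat 0, Int.ofNat 0, Int.ofNat 0, Int.ofNat 0, Int.ofNat 0, Int.ofNat 0, Int.negSucc 1, Int.ofNat 0, Int.negSucc 1, Int.ofNat 2],
  [Int.negSucc 0, Int.ofNat 1, Int.ofNat 1, Int.negSucc 0, Int.ofNat 1, Int.ofNat 1, Int.negSucc 0, Int.ofNat 1, Int.negSucc 0, Int.ofNat 1, Int.ofNat 1, Int.ofNat 1, Int.ofNat 1, Int.ofNat 1, Int.ofNat 1, Int.ofNat 1, Int.ofNat 1, Int.ofNat 1, Int.ofNat 1, Int.negSucc 0, Int.negSucc 0, Int.negSucc 0, Int.negSucc 0, Int.negSucc 2],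
  [Int.negSucc 0, Int.ofNat 1, Int.ofNat 1, Int.negSucc 0, Int.ofNat 1, Int.negSucc 0, Int.ofNat 1, Int.ofNat 1, Int.ofNat 1, Int.ofNat 1, Int.ofNat 1, Int.ofNat 1, Int.ofNat 1, Int.ofNat 1, Int.ofNat 1, Int.ofNat 1, Int.negSucc 0, Int.negSucc 0, Int.negSucc 0, Int.negSucc 0, Int.negSucc 0, Int.ofNat 1, Int.ofNat 1, Int.negSucc 2],
  [Int.ofNat 0, Int.negSucc 1, Int.negSucc 1, Int.ofNat 0, Int.ofNat 0, Int.ofNat 0, Int.ofNat 0, Int.ofNat 0, Int.ofNat 0, Int.ofNat 0, Int.ofNat 0, Int.ofNat 0, Int.ofNat 0, Int.ofNat 0, Int.ofNat 2, Int.ofNat 0, Int.negSucc 1, Int.ofNat 0, Int.negSucc 1, Int.negSucc 1, Int.negSucc 1, Int.ofNat 0, Int.ofNat 0, Int.ofNat 2],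
  [Int.ofNat 0, Int.ofNat 0, Int.ofNat 0, Int.ofNat 0, Int.negSucc 1, Int.ofNat 0, Int.negSucc 1, Int.ofNat 0, Int.ofNat 0, Int.ofNat 0, Int.negSucc 1, Int.ofNat 0, Int.ofNat 0, Int.negSucc 1, Int.ofNat 0, Int.ofNat 0, Int.ofNat 0, Int.ofNat 2, Int.negSucc 1, Int.ofNat 0, Int.ofNat 0, Int.ofNat 0, Int.negSucc 1, Int.ofNat 2],
  [Int.ofNat 1, Int.ofNat 1, Int.ofNat 1, Int.negSucc 0, Int.ofNat 1, Int.negSucc 0, Int.negSucc 0, Int.ofNat 1, Int.ofNat 1, Int.ofNat 1, Int.negSucc 0, Int.ofNat 1, Int.ofNat 1, Int.ofNat 1, Int.negSucc 0, Int.ofNat 1, Int.ofNat 3, Int.ofNat 1, Int.negSucc 0, Int.ofNat 1, Int.ofNat 1, Int.ofNat 1, Int.ofNat 1, Int.negSucc 0],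
  [Int.ofNat 1, Int.ofNat 1, Int.negSucc 0, Int.negSucc 0, Int.ofNat 1, Int.ofNat 1, Int.ofNat 1, Int.ofNat 1, Int.ofNat 1, Int.negSucc 0, Int.ofNat 1, Int.ofNat 1, Int.ofNat 1, Int.ofNat 1, Int.negSucc 0, Int.negSucc 0, Int.ofNat 3, Int.ofNat 1, Int.ofNat 1, Int.ofNat 1, Int.ofNat 1, Int.ofNat 1, Int.negSucc 0, Int.negSucc 0],
  [Int.ofNat 1, Int.ofNat 3, Int.ofNat 1, Int.ofNat 1, Int.negSucc 0, Int.ofNat 1, Int.ofNat 1, Int.negSucc 0, Int.ofNat 1, Int.ofNat 1, Int.ofNat 1, Int.ofNat 1, Int.negSucc 0, Int.ofNat 1, Int.ofNat 1, Int.ofNat 1, Int.ofNat 1, Int.ofNat 1, Int.negSucc 0, Int.negSucc 0, Int.ofNat 1, Int.ofNat 1, Int.negSucc 0, Int.negSucc 0],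
  [Int.negSucc 0, Int.negSucc 0, Int.ofNat 1, Int.ofNat 1, Int.ofNat 1, Int.ofNat 1, Int.negSucc 0, Int.ofNat 1, Int.ofNat 1, Int.ofNat 1, Int.ofNat 1, Int.ofNat 1, Int.ofNat 1, Int.negSucc 0, Int.negSucc 0, Int.ofNat 1, Int.ofNat 1, Int.negSucc 0, Int.ofNat 1, Int.ofNat 1, Int.ofNat 1, Int.negSucc 0, Int.ofNat 3, Int.ofNat 1],
  [Int.ofNat 1, Int.negSucc 0, Int.negSucc 0, Int.ofNat 1, Int.ofNat 1, Int.ofNat 1, Int.negSucc 0, Int.negSucc 0, Int.ofNat 1, Int.negSucc 0, Int.negSucc 0, Int.negSucc 0, Int.ofNat 1, Int.negSucc 0, Int.negSucc 0, Int.ofNat 1, Int.ofNat 1, Int.negSucc 0, Int.negSucc 0, Int.ofNat 1, Int.ofNat 1, Int.ofNat 1, Int.ofNat 3, Int.ofNat 1],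
  [Int.ofNat 3, Int.ofNat 1, Int.negSucc 0, Int.negSucc 0, Int.ofNat 1, Int.ofNat 1, Int.ofNat 1, Int.negSucc 0, Int.negSucc 0, Int.ofNat 1, Int.negSucc 0, Int.negSucc 0, Int.negSucc 0, Int.ofNat 1, Int.negSucc 0, Int.negSucc 0, Int.ofNat 1, Int.ofNat 1, Int.negSucc 0, Int.negSucc 0, Int.ofNat 1, Int.ofNat 1, Int.ofNat 1, Int.ofNat 1],
  [Int.negSucc 0, Int.ofNat 1, Int.ofNat 3, Int.negSucc 0, Int.negSucc 0, Int.ofNat 1, Int.ofNat 1, Int.negSucc 0, Int.ofNat 1, Int.ofNat 1, Int.negSucc 0, Int.ofNat 1, Int.ofNat 1, Int.negSucc 0, Int.negSucc 0, Int.negSucc 0, Int.negSucc 0, Int.ofNat 1, Int.ofNat 1, Int.negSucc 0, Int.ofNat 1, Int.ofNat 1, Int.negSucc 0, Int.ofNat 1],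
  [Int.negSucc 0, Int.negSucc 0, Int.ofNat 1, Int.ofNat 1, Int.negSucc 0, Int.ofNat 1, Int.ofNat 1, Int.negSucc 0, Int.ofNat 1, Int.ofNat 1, Int.negSucc 0, Int.negSucc 0, Int.negSucc 0, Int.negSucc 0, Int.ofNat 1, Int.ofNat 1, Int.negSucc 0, Int.ofNat 1, Int.ofNat 1, Int.negSucc 0, Int.negSucc 0, Int.ofNat 1, Int.ofNat 3, Int.ofNat 1],
  [Int.ofNat 1, Int.ofNat 1, Int.negSucc 0, Int.negSucc 0, Int.negSucc 0, Int.negSucc 0, Int.ofNat 1, Int.negSucc 0, Int.ofNat 1, Int.ofNat 1, Int.negSucc 0, Int.negSucc 0, Int.negSucc 0, Int.negSucc 0, Int.negSucc 0, Int.ofNat 1, Int.negSucc 0, Int.negSucc 0, Int.ofNat 1, Int.negSucc 0, Int.negSucc 0, Int.ofNat 1, Int.ofNat 3, Int.negSucc 0],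
  [Int.ofNat 1, Int.ofNat 1, Int.negSucc 0, Int.negSucc 0, Int.ofNat 1, Int.negSucc 0, Int.negSucc 0, Int.negSucc 0, Int.negSucc 0, Int.negSucc 0, Int.negSucc 0, Int.negSucc 0, Int.ofNat 1, Int.negSucc 0, Int.ofNat 3, Int.ofNat 1, Int.ofNat 1, Int.negSucc 0, Int.ofNat 1, Int.negSucc 0, Int.ofNat 1, Int.negSucc 0, Int.negSucc 0, Int.negSucc 0],
  [Int.negSucc 0, Int.negSucc 0, Int.ofNat 1, Int.negSucc 0, Int.ofNat 1, Int.negSucc 0, Int.ofNat 1, Int.ofNat 1, Int.negSucc 0, Int.negSucc 0, Int.negSucc 0, Int.negSucc 0, Int.ofNat 1, Int.negSucc 0, Int.ofNat 3, Int.ofNat 1, Int.ofNat 1, Int.negSucc 0, Int.ofNat 1, Int.ofNat 1, Int.ofNat 1, Int.ofNat 1, Int.negSucc 0, Int.ofNat 1],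
  [Int.negSucc 0, Int.negSucc 0, Int.negSucc 0, Int.negSucc 0, Int.ofNat 1, Int.ofNat 1, Int.negSucc 0, Int.ofNat 1, Int.negSucc 0, Int.ofNat 1, Int.ofNat 1, Int.negSucc 0, Int.ofNat 1, Int.negSucc 0, Int.ofNat 3, Int.negSucc 0, Int.ofNat 1, Int.negSucc 0, Int.negSucc 0, Int.ofNat 1, Int.ofNat 1, Int.ofNat 1, Int.ofNat 1, Int.ofNat 1],
  [Int.ofNat 1, Int.negSucc 0, Int.negSucc 0, Int.ofNat 1, Int.ofNat 1, Int.ofNat 1, Int.negSucc 0, Int.ofNat 3, Int.negSucc 0, Int.ofNat 1, Int.ofNat 1, Int.ofNat 1, Int.negSucc 0, Int.negSucc 0, Int.negSucc 0, Int.negSucc 0, Int.ofNat 1, Int.negSucc 0, Int.ofNat 1, Int.ofNat 1, Int.negSucc 0, Int.ofNat 1, Int.negSucc 0, Int.ofNat 1],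
  [Int.ofNat 1, Int.negSucc 0, Int.ofNat 1, Int.ofNat 1, Int.ofNat 1, Int.negSucc 0, Int.ofNat 1, Int.ofNat 3, Int.negSucc 0, Int.negSucc 0, Int.negSucc 0, Int.ofNat 1, Int.negSucc 0, Int.negSucc 0, Int.negSucc 0, Int.ofNat 1, Int.ofNat 1, Int.negSucc 0, Int.negSucc 0, Int.ofNat 1, Int.negSucc 0, Int.ofNat 1, Int.ofNat 1, Int.ofNat 1],
  [Int.ofNat 0, Int.ofNat 2, Int.ofNat 0, Int.ofNat 2, Int.ofNat 0, Int.ofNat 0, Int.negSucc 1, Int.ofNat 0, Int.ofNat 0, Int.ofNat 0, Int.ofNat 0, Int.ofNat 2, Int.ofNat 0, Int.negSucc 1, Int.ofNat 0, Int.ofNat 2, Int.ofNat 0, Int.ofNat 0, Int.ofNat 0, Int.negSucc 1, Int.ofNat 0, Int.negSucc 1, Int.ofNat 0, Int.ofNat 0],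
  [Int.ofNat 0, Int.ofNat 0, Int.negSucc 1, Int.ofNat 2, Int.ofNat 0, Int.negSucc 1, Int.ofNat 2, Int.ofNat 0, Int.ofNat 0, Int.ofNat 0, Int.ofNat 0, Int.negSucc 1, Int.ofNat 0, Int.ofNat 0, Int.ofNat 0, Int.ofNat 2, Int.negSucc 1, Int.ofNat 2, Int.ofNat 0, Int.ofNat 0, Int.ofNat 0, Int.ofNat 0, Int.ofNat 0, Int.ofNat 0],
  [Int.negSucc 0, Int.negSucc 0, Int.ofNat 1, Int.ofNat 1, Int.ofNat 1, Int.negSucc 2, Int.ofNat 1, Int.negSucc 0, Int.ofNat 1, Int.negSucc 0, Int.negSucc 0, Int.negSucc 0, Int.ofNat 1, Int.ofNat 1, Int.negSucc 0, Int.ofNat 1, Int.negSucc 0, Int.ofNat 1, Int.ofNat 1, Int.negSucc 0, Int.negSucc 0, Int.negSucc 0, Int.ofNat 1, Int.negSucc 0],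
  [Int.negSucc 0, Int.negSucc 0, Int.ofNat 1, Int.negSucc 0, Int.negSucc 0, Int.ofNat 1, Int.ofNat 1, Int.ofNat 1, Int.negSucc 2, Int.ofNat 1, Int.negSucc 0, Int.ofNat 1, Int.negSucc 0, Int.negSucc 0, Int.negSucc 0, Int.ofNat 1, Int.ofNat 1, Int.negSucc 0, Int.ofNat 1, Int.negSucc 0, Int.ofNat 1, Int.ofNat 1, Int.negSucc 0, Int.negSucc 0],
  [Int.ofNat 0, Int.ofNat 0, Int.negSucc 1, Int.ofNat 0, Int.ofNat 0, Int.ofNat 2, Int.ofNat 0, Int.ofNat 0, Int.negSucc 1, Int.ofNat 0, Int.negSucc 1, Int.ofNat 2, Int.ofNat 0, Int.ofNat 0, Int.ofNat 0, Int.ofNat 0, Int.ofNat 2, Int.ofNat 0, Int.ofNat 2, Int.negSucc 1, Int.ofNat 0, Int.ofNat 0, Int.ofNat 0, Int.ofNat 0],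
  [Int.ofNat 0, Int.negSucc 1, Int.ofNat 0, Int.ofNat 0, Int.ofNat 2, Int.ofNat 0, Int.ofNat 0, Int.negSucc 1, Int.ofNat 0, Int.negSucc 1, Int.ofNat 2, Int.ofNat 0, Int.ofNat 0, Int.ofNat 0, Int.ofNat 0, Int.ofNat 2, Int.ofNat 0, Int.ofNat 2, Int.negSucc 1, Int.ofNat 0, Int.ofNat 0, Int.ofNat 0, Int.ofNat 0, Int.ofNat 0],
  [Int.ofNat 0, Int.negSucc 1, Int.ofNat 0, Int.ofNat 0, Int.ofNat 2, Int.ofNat 0, Int.ofNat 0, Int.ofNat 2, Int.ofNat 0, Int.ofNat 2, Int.negSucc 1, Int.ofNat 0, Int.ofNat 0, Int.ofNat 0, Int.ofNat 0, Int.ofNat 2, Int.ofNat 0, Int.ofNat 2, Int.ofNat 2, Int.ofNat 0, Int.ofNat 0, Int.ofNat 0, Int.ofNat 0, Int.ofNat 0],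
  [Int.ofNat 0, Int.ofNat 2, Int.ofNat 0, Int.ofNat 0, Int.negSucc 1, Int.ofNat 0, Int.ofNat 0, Int.ofNat 2, Int.ofNat 0, Int.negSucc 1, Int.negSucc 1, Int.ofNat 0, Int.ofNat 0, Int.ofNat 0, Int.ofNat 0, Int.ofNat 2, Int.ofNat 0, Int.ofNat 2, Int.negSucc 1, Int.ofNat 0, Int.ofNat 0, Int.ofNat 0, Int.ofNat 0, Int.ofNat 0],
  [Int.ofNat 0, Int.ofNat 0, Int.negSucc 1, Int.ofNat 0, Int.ofNat 2, Int.negSucc 1, Int.negSucc 1, Int.ofNat 0, Int.negSucc 1, Int.ofNat 0, Int.ofNat 0, Int.ofNat 0, Int.ofNat 0, Int.ofNat 0, Int.ofNat 0, Int.ofNat 2, Int.ofNat 0, Int.ofNat 0, Int.ofNat 0, Int.ofNat 2, Int.ofNat 0, Int.ofNat 2, Int.ofNat 0, Int.ofNat 0],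
  [Int.ofNat 0, Int.ofNat 0, Int.ofNat 2, Int.ofNat 0, Int.ofNat 2, Int.negSucc 1, Int.negSucc 1, Int.ofNat 0, Int.negSucc 1, Int.ofNat 0, Int.ofNat 0, Int.ofNat 0, Int.ofNat 0, Int.ofNat 0, Int.ofNat 0, Int.ofNat 2, Int.ofNat 0, Int.ofNat 0, Int.ofNat 0, Int.ofNat 2, Int.ofNat 0, Int.negSucc 1, Int.ofNat 0, Int.ofNat 0],
  [Int.ofNat 0, Int.ofNat 0, Int.ofNat 0, Int.ofNat 2, Int.ofNat 0, Int.ofNat 2, Int.negSucc 1, Int.negSucc 1, Int.ofNat 0, Int.negSucc 1, Int.ofNat 0, Int.ofNat 0, Int.ofNat 0, Int.ofNat 0, Int.ofNat 0, Int.ofNat 0, Int.ofNat 2, Int.ofNat 0, Int.ofNat 0, Int.ofNat 0, Int.ofNat 2, Int.ofNat 0, Int.negSucc 1, Int.ofNat 0],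
  [Int.ofNat 0, Int.ofNat 0, Int.ofNat 0, Int.ofNat 0, Int.ofNat 0, Int.ofNat 0, Int.ofNat 0, Int.ofNat 0, Int.ofNat 0, Int.negSucc 1, Int.ofNat 0, Int.ofNat 0, Int.ofNat 0, Int.ofNat 0, Int.negSucc 1, Int.ofNat 0, Int.ofNat 2, Int.negSucc 1, Int.ofNat 0, Int.ofNat 2, Int.ofNat 2, Int.ofNat 2, Int.negSucc 1, Int.ofNat 0],
  [Int.ofNat 0, Int.ofNat 0, Int.ofNat 0, Int.ofNat 0, Int.ofNat 0, Int.ofNat 0, Int.negSucc 1, Int.ofNat 0, Int.ofNat 0, Int.ofNat 0, Int.ofNat 0, Int.negSucc 1, Int.ofNat 0, Int.ofNat 2, Int.negSucc 1, Int.ofNat 0, Int.ofNat 2, Int.ofNat 2, Int.ofNat 2, Int.negSucc 1, Int.ofNat 0, Int.ofNat 0, Int.ofNat 0, Int.ofNat 0],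
  [Int.ofNat 0, Int.ofNat 0, Int.ofNat 0, Int.ofNat 0, Int.negSucc 1, Int.ofNat 0, Int.ofNat 0, Int.ofNat 2, Int.ofNat 0, Int.ofNat 0, Int.ofNat 0, Int.negSucc 1, Int.ofNat 0, Int.ofNat 0, Int.negSucc 1, Int.ofNat 0, Int.ofNat 0, Int.ofNat 2, Int.ofNat 2, Int.ofNat 0, Int.ofNat 0, Int.ofNat 2, Int.negSucc 1, Int.ofNat 0],
  [Int.ofNat 0, Int.ofNat 0, Int.negSucc 1, Int.ofNat 0, Int.ofNat 2, Int.ofNat 2, Int.ofNat 0, Int.ofNat 0, Int.ofNat 0, Int.ofNat 0, Int.ofNat 0, Int.ofNat 2, Int.ofNat 0, Int.ofNat 0, Int.negSucc 1, Int.ofNat 0, Int.ofNat 0, Int.negSucc 1, Int.ofNat 0, Int.negSucc 1, Int.ofNat 2, Int.ofNat 0, Int.ofNat 0, Int.ofNat 0],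
  [Int.negSucc 0, Int.negSucc 0, Int.ofNat 1, Int.ofNat 1, Int.ofNat 1, Int.ofNat 3, Int.ofNat 1, Int.ofNat 1, Int.negSucc 0, Int.negSucc 0, Int.negSucc 0, Int.ofNat 1, Int.negSucc 0, Int.negSucc 0, Int.negSucc 0, Int.negSucc 0, Int.negSucc 0, Int.negSucc 0, Int.negSucc 0, Int.negSucc 0, Int.ofNat 1, Int.ofNat 1, Int.negSucc 0, Int.negSucc 0],
  [Int.negSucc 0, Int.negSucc 0, Int.negSucc 0, Int.ofNat 1, Int.ofNat 1, Int.negSucc 2, Int.negSucc 0, Int.ofNat 1, Int.negSucc 0, Int.ofNat 1, Int.ofNat 1, Int.ofNat 1, Int.negSucc 0, Int.negSucc 0, Int.negSucc 0, Int.ofNat 1, Int.negSucc 0, Int.negSucc 0, Int.ofNat 1, Int.negSucc 0, Int.ofNat 1, Int.ofNat 1, Int.ofNat 1, Int.negSucc 0],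
  [Int.ofNat 1, Int.negSucc 0, Int.ofNat 1, Int.negSucc 0, Int.negSucc 0, Int.negSucc 0, Int.ofNat 1, Int.ofNat 1, Int.negSucc 2, Int.ofNat 1, Int.negSucc 0, Int.ofNat 1, Int.ofNat 1, Int.ofNat 1, Int.negSucc 0, Int.ofNat 1, Int.negSucc 0, Int.negSucc 0, Int.ofNat 1, Int.negSucc 0, Int.negSucc 0, Int.negSucc 0, Int.ofNat 1, Int.negSucc 0],
  [Int.negSucc 0, Int.ofNat 1, Int.ofNat 1, Int.ofNat 1, Int.negSucc 0, Int.ofNat 1, Int.negSucc 0, Int.ofNat 1, Int.negSucc 0, Int.negSucc 0, Int.negSucc 0, Int.ofNat 1, Int.negSucc 0, Int.ofNat 1, Int.ofNat 1, Int.negSucc 0, Int.negSucc 0, Int.negSucc 0, Int.negSucc 0, Int.ofNat 1, Int.negSucc 2, Int.ofNat 1, Int.negSucc 0, Int.ofNat 1],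
  [Int.ofNat 1, Int.ofNat 1, Int.negSucc 0, Int.ofNat 1, Int.negSucc 0, Int.ofNat 1, Int.negSucc 0, Int.negSucc 0, Int.negSucc 0, Int.ofNat 1, Int.ofNat 1, Int.negSucc 0, Int.negSucc 0, Int.ofNat 1, Int.ofNat 1, Int.negSucc 0, Int.negSucc 0, Int.negSucc 0, Int.ofNat 1, Int.ofNat 1, Int.negSucc 2, Int.negSucc 0, Int.negSucc 0, Int.ofNat 1],
  [Int.negSucc 0, Int.ofNat 1, Int.ofNat 1, Int.negSucc 0, Int.ofNat 1, Int.negSucc 0, Int.ofNat 1, Int.negSucc 0, Int.negSucc 0, Int.negSucc 0, Int.ofNat 1, Int.ofNat 1, Int.negSucc 0, Int.negSucc 0, Int.ofNat 1, Int.ofNat 1, Int.negSucc 0, Int.negSucc 0, Int.negSucc 0, Int.ofNat 1, Int.ofNat 1, Int.negSucc 2, Int.negSucc 0, Int.ofNat 1],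
  [Int.ofNat 2, Int.ofNat 0, Int.ofNat 0, Int.ofNat 0, Int.ofNat 2, Int.ofNat 0, Int.ofNat 2, Int.ofNat 0, Int.ofNat 0, Int.negSucc 1, Int.ofNat 0, Int.ofNat 2, Int.ofNat 0, Int.ofNat 0, Int.ofNat 2, Int.ofNat 0, Int.ofNat 0, Int.ofNat 0, Int.ofNat 0, Int.ofNat 2, Int.ofNat 0, Int.negSucc 1, Int.ofNat 0, Int.ofNat 0],
  [Int.ofNat 0, Int.ofNat 2, Int.ofNat 0, Int.ofNat 2, Int.ofNat 0, Int.ofNat 0, Int.negSucc 1, Int.ofNat 0, Int.ofNat 2, Int.ofNat 0, Int.ofNat 0, Int.ofNat 2, Int.ofNat 0, Int.ofNat 0, Int.ofNat 0, Int.ofNat 0, Int.ofNat 2, Int.ofNat 0, Int.negSucc 1, Int.ofNat 0, Int.ofNat 2, Int.ofNat 0, Int.ofNat 0, Int.ofNat 0],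
  [Int.ofNat 1, Int.negSucc 0, Int.ofNat 1, Int.ofNat 1, Int.negSucc 0, Int.negSucc 0, Int.negSucc 0, Int.ofNat 1, Int.ofNat 1, Int.negSucc 0, Int.negSucc 0, Int.ofNat 1, Int.negSucc 0, Int.negSucc 0, Int.negSucc 0, Int.negSucc 0, Int.ofNat 1, Int.negSucc 0, Int.negSucc 2, Int.ofNat 1, Int.ofNat 1, Int.ofNat 1, Int.negSucc 0, Int.ofNat 1],
  [Int.ofNat 1, Int.negSucc 0, Int.negSucc 0, Int.ofNat 1, Int.negSucc 2, Int.ofNat 1, Int.ofNat 1, Int.negSucc 0, Int.negSucc 0, Int.negSucc 0, Int.ofNat 1, Int.negSucc 0, Int.negSucc 0, Int.ofNat 1, Int.negSucc 0, Int.negSucc 0, Int.ofNat 1, Int.negSucc 0, Int.negSucc 0, Int.ofNat 1, Int.ofNat 1, Int.negSucc 0, Int.ofNat 1, Int.ofNat 1],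
  [Int.negSucc 0, Int.ofNat 1, Int.ofNat 1, Int.ofNat 1, Int.negSucc 2, Int.ofNat 1, Int.ofNat 1, Int.negSucc 0, Int.ofNat 1, Int.negSucc 0, Int.ofNat 1, Int.ofNat 1, Int.ofNat 1, Int.ofNat 1, Int.negSucc 0, Int.negSucc 0, Int.ofNat 1, Int.negSucc 0, Int.ofNat 1, Int.ofNat 1, Int.ofNat 1, Int.negSucc 0, Int.ofNat 1, Int.negSucc 0],
  [Int.negSucc 0, Int.ofNat 1, Int.negSucc 0, Int.ofNat 1, Int.negSucc 2, Int.negSucc 0, Int.negSucc 0, Int.negSucc 0, Int.ofNat 1, Int.ofNat 1, Int.negSucc 0, Int.ofNat 1, Int.ofNat 1, Int.ofNat 1, Int.negSucc 0, Int.ofNat 1, Int.ofNat 1, Int.negSucc 0, Int.negSucc 0, Int.ofNat 1, Int.ofNat 1, Int.negSucc 0, Int.negSucc 0, Int.negSucc 0],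
  [Int.negSucc 2, Int.negSucc 0, Int.ofNat 1, Int.negSucc 0, Int.negSucc 0, Int.ofNat 1, Int.ofNat 1, Int.negSucc 0, Int.negSucc 0, Int.negSucc 0, Int.ofNat 1, Int.ofNat 1, Int.ofNat 1, Int.ofNat 1, Int.negSucc 0, Int.negSucc 0, Int.ofNat 1, Int.ofNat 1, Int.negSucc 0, Int.ofNat 1, Int.ofNat 1, Int.negSucc 0, Int.negSucc 0, Int.negSucc 0],
  [Int.negSucc 2, Int.negSucc 0, Int.negSucc 0, Int.negSucc 0, Int.negSucc 0, Int.negSucc 0, Int.negSucc 0, Int.negSucc 0, Int.negSucc 0, Int.ofNat 1, Int.negSucc 0, Int.ofNat 1, Int.ofNat 1, Int.ofNat 1, Int.negSucc 0, Int.ofNat 1, Int.ofNat 1, Int.ofNat 1, Int.ofNat 1, Int.ofNat 1, Int.ofNat 1, Int.negSucc 0, Int.ofNat 1, Int.negSucc 0],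
  [Int.ofNat 0, Int.negSucc 1, Int.negSucc 1, Int.ofNat 0, Int.negSucc 1, Int.ofNat 0, Int.ofNat 0, Int.ofNat 0, Int.negSucc 1, Int.ofNat 0, Int.negSucc 1, Int.ofNat 0, Int.ofNat 0, Int.ofNat 0, Int.ofNat 0, Int.ofNat 0, Int.ofNat 0, Int.ofNat 2, Int.ofNat 0, Int.ofNat 2, Int.ofNat 0, Int.ofNat 0, Int.ofNat 0, Int.negSucc 1],
  [Int.ofNat 0, Int.ofNat 0, Int.ofNat 0, Int.ofNat 0, Int.negSucc 1, Int.ofNat 0, Int.negSucc 1, Int.ofNat 0, Int.ofNat 0, Int.ofNat 0, Int.ofNat 0, Int.ofNat 2, Int.negSucc 1, Int.ofNat 0, Int.ofNat 2, Int.ofNat 0, Int.ofNat 0, Int.ofNat 0, Int.negSucc 1, Int.ofNat 0, Int.negSucc 1, Int.ofNat 0, Int.ofNat 0, Int.negSucc 1],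
  [Int.negSucc 0, Int.negSucc 0, Int.negSucc 0, Int.negSucc 0, Int.negSucc 0, Int.negSucc 0, Int.negSucc 0, Int.ofNat 1, Int.ofNat 1, Int.ofNat 1, Int.ofNat 1, Int.ofNat 3, Int.negSucc 0, Int.ofNat 1, Int.ofNat 1, Int.ofNat 1, Int.ofNat 1, Int.negSucc 0, Int.negSucc 0, Int.ofNat 1, Int.negSucc 0, Int.ofNat 1, Int.ofNat 1, Int.ofNat 1],
  [Int.negSucc 0, Int.ofNat 1, Int.ofNat 1, Int.negSucc 0, Int.negSucc 0, Int.negSucc 0, Int.negSucc 0, Int.negSucc 0, Int.negSucc 0, Int.negSucc 0, Int.ofNat 1, Int.ofNat 1, Int.ofNat 1, Int.ofNat 1, Int.ofNat 3, Int.negSucc 0, Int.ofNat 1, Int.ofNat 1, Int.ofNat 1, Int.ofNat 1, Int.negSucc 0, Int.negSucc 0, Int.ofNat 1, Int.ofNat 1],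
  [Int.ofNat 2, Int.ofNat 0, Int.ofNat 0, Int.negSucc 1, Int.negSucc 1, Int.negSucc 1, Int.ofNat 0, Int.ofNat 0, Int.negSucc 1, Int.ofNat 0, Int.ofNat 2, Int.ofNat 0, Int.ofNat 0, Int.ofNat 0, Int.ofNat 2, Int.ofNat 0, Int.ofNat 0, Int.ofNat 0, Int.ofNat 0, Int.ofNat 2, Int.ofNat 0, Int.ofNat 0, Int.ofNat 0, Int.ofNat 0],
  [Int.ofNat 0, Int.ofNat 0, Int.negSucc 1, Int.negSucc 1, Int.negSucc 1, Int.ofNat 0, Int.ofNat 0, Int.negSucc 1, Int.ofNat 0, Int.ofNat 2, Int.ofNat 0, Int.ofNat 0, Int.ofNat 0, Int.ofNat 2, Int.ofNat 0, Int.ofNat 0, Int.ofNat 0, Int.ofNat 0, Int.ofNat 2, Int.ofNat 0, Int.ofNat 0, Int.ofNat 0, Int.ofNat 2, Int.ofNat 0],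
  [Int.ofNat 0, Int.ofNat 0, Int.ofNat 2, Int.negSucc 1, Int.negSucc 1, Int.ofNat 0, Int.ofNat 0, Int.ofNat 2, Int.ofNat 0, Int.negSucc 1, Int.ofNat 0, Int.ofNat 0, Int.ofNat 0, Int.ofNat 2, Int.ofNat 0, Int.ofNat 0, Int.ofNat 0, Int.ofNat 0, Int.negSucc 1, Int.ofNat 0, Int.ofNat 0, Int.ofNat 0, Int.ofNat 2, Int.ofNat 0],
  [Int.ofNat 0, Int.ofNat 0, Int.negSucc 1, Int.ofNat 2, Int.ofNat 2, Int.ofNat 0, Int.ofNat 0, Int.ofNat 2, Int.ofNat 0, Int.ofNat 2, Int.ofNat 0, Int.ofNat 0, Int.ofNat 0, Int.negSucc 1, Int.ofNat 0, Int.ofNat 0, Int.ofNat 0, Int.ofNat 0, Int.ofNat 2, Int.ofNat 0, Int.ofNat 0, Int.ofNat 0, Int.ofNat 2, Int.ofNat 0],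
  [Int.ofNat 0, Int.negSucc 1, Int.ofNat 2, Int.ofNat 2, Int.ofNat 0, Int.ofNat 0, Int.ofNat 2, Int.ofNat 0, Int.ofNat 2, Int.ofNat 0, Int.ofNat 0, Int.ofNat 0, Int.negSucc 1, Int.ofNat 0, Int.ofNat 0, Int.ofNat 0, Int.ofNat 0, Int.ofNat 2, Int.ofNat 0, Int.ofNat 0, Int.ofNat 0, Int.ofNat 2, Int.ofNat 0, Int.ofNat 0],
  [Int.ofNat 0, Int.negSucc 1, Int.negSucc 1, Int.ofNat 2, Int.ofNat 0, Int.ofNat 0, Int.ofNat 2, Int.ofNat 0, Int.ofNat 2, Int.ofNat 0, Int.ofNat 0, Int.ofNat 0, Int.negSucc 1, Int.ofNat 0, Int.ofNat 0, Int.ofNat 0, Int.ofNat 0, Int.ofNat 2, Int.ofNat 0, Int.ofNat 0, Int.ofNat 0, Int.negSucc 1, Int.ofNat 0, Int.ofNat 0],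
  [Int.ofNat 0, Int.ofNat 0, Int.negSucc 1, Int.negSucc 1, Int.ofNat 2, Int.ofNat 0, Int.ofNat 0, Int.ofNat 2, Int.ofNat 0, Int.ofNat 2, Int.ofNat 0, Int.ofNat 0, Int.ofNat 0, Int.negSucc 1, Int.ofNat 0, Int.ofNat 0, Int.ofNat 0, Int.ofNat 0, Int.ofNat 2, Int.ofNat 0, Int.ofNat 0, Int.ofNat 0, Int.negSucc 1, Int.ofNat 0],
  [Int.negSucc 0, Int.negSucc 0, Int.ofNat 1, Int.negSucc 0, Int.ofNat 3, Int.ofNat 1, Int.negSucc 0, Int.ofNat 1, Int.negSucc 0, Int.ofNat 1, Int.negSucc 0, Int.negSucc 0, Int.negSucc 0, Int.negSucc 0, Int.ofNat 1, Int.negSucc 0, Int.ofNat 1, Int.ofNat 1, Int.ofNat 1, Int.negSucc 0, Int.negSucc 0, Int.negSucc 0, Int.negSucc 0, Int.negSucc 0],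
  [Int.negSucc 0, Int.ofNat 3, Int.ofNat 1, Int.negSucc 0, Int.ofNat 1, Int.negSucc 0, Int.ofNat 1, Int.negSucc 0, Int.negSucc 0, Int.negSucc 0, Int.negSucc 0, Int.ofNat 1, Int.negSucc 0, Int.ofNat 1, Int.ofNat 1, Int.ofNat 1, Int.negSucc 0, Int.negSucc 0, Int.negSucc 0, Int.negSucc 0, Int.negSucc 0, Int.negSucc 0, Int.ofNat 1, Int.negSucc 0],
  [Int.ofNat 2, Int.negSucc 1, Int.ofNat 0, Int.ofNat 0, Int.ofNat 0, Int.ofNat 0, Int.ofNat 2, Int.ofNat 0, Int.ofNat 0, Int.ofNat 0, Int.ofNat 0, Int.ofNat 2, Int.ofNat 0, Int.ofNat 0, Int.ofNat 2, Int.ofNat 2, Int.negSucc 1, Int.ofNat 0, Int.ofNat 0, Int.ofNat 0, Int.ofNat 0, Int.ofNat 0, Int.ofNat 0, Int.ofNat 2],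
  [Int.ofNat 2, Int.ofNat 2, Int.ofNat 0, Int.ofNat 0, Int.ofNat 0, Int.ofNat 0, Int.ofNat 0, Int.ofNat 0, Int.ofNat 0, Int.ofNat 0, Int.ofNat 0, Int.ofNat 0, Int.ofNat 0, Int.negSucc 1, Int.ofNat 0, Int.ofNat 2, Int.ofNat 0, Int.ofNat 2, Int.negSucc 1, Int.ofNat 2, Int.ofNat 0, Int.ofNat 0, Int.ofNat 0, Int.ofNat 2],
  [Int.ofNat 1, Int.ofNat 1, Int.ofNat 3, Int.negSucc 0, Int.ofNat 1, Int.negSucc 0, Int.negSucc 0, Int.negSucc 0, Int.ofNat 1, Int.negSucc 0, Int.negSucc 0, Int.ofNat 1, Int.ofNat 1, Int.negSucc 0, Int.negSucc 0, Int.ofNat 1, Int.ofNat 1, Int.ofNat 1, Int.negSucc 0, Int.ofNat 1, Int.negSucc 0, Int.negSucc 0, Int.ofNat 1, Int.ofNat 1],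
  [Int.ofNat 1, Int.ofNat 1, Int.negSucc 2, Int.negSucc 0, Int.ofNat 1, Int.ofNat 1, Int.ofNat 1, Int.negSucc 0, Int.ofNat 1, Int.ofNat 1, Int.ofNat 1, Int.ofNat 1, Int.ofNat 1, Int.negSucc 0, Int.negSucc 0, Int.negSucc 0, Int.ofNat 1, Int.ofNat 1, Int.ofNat 1, Int.ofNat 1, Int.negSucc 0, Int.negSucc 0, Int.negSucc 0, Int.ofNat 1],
  [Int.ofNat 1, Int.ofNat 1, Int.ofNat 1, Int.ofNat 1, Int.negSucc 0, Int.ofNat 1, Int.negSucc 0, Int.negSucc 0, Int.ofNat 1, Int.negSucc 0, Int.negSucc 0, Int.negSucc 0, Int.negSucc 0, Int.ofNat 1, Int.ofNat 1, Int.ofNat 1, Int.ofNat 1, Int.ofNat 1, Int.ofNat 1, Int.negSucc 2, Int.ofNat 1, Int.ofNat 1, Int.negSucc 0, Int.ofNat 1],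
  [Int.ofNat 1, Int.negSucc 0, Int.negSucc 0, Int.ofNat 1, Int.ofNat 1, Int.negSucc 0, Int.negSucc 2, Int.ofNat 1, Int.ofNat 1, Int.ofNat 1, Int.ofNat 1, Int.ofNat 1, Int.ofNat 1, Int.negSucc 0, Int.ofNat 1, Int.ofNat 1, Int.negSucc 0, Int.negSucc 0, Int.ofNat 1, Int.negSucc 0, Int.ofNat 1, Int.negSucc 0, Int.ofNat 1, Int.ofNat 1],
  [Int.negSucc 0, Int.negSucc 0, Int.ofNat 1, Int.ofNat 1, Int.ofNat 1, Int.negSucc 0, Int.negSucc 2, Int.negSucc 0, Int.ofNat 1, Int.negSucc 0, Int.negSucc 0, Int.negSucc 0, Int.ofNat 1, Int.negSucc 0, Int.ofNat 1, Int.ofNat 1, Int.negSucc 0, Int.negSucc 0, Int.negSucc 0, Int.negSucc 0, Int.ofNat 1, Int.ofNat 1, Int.ofNat 1, Int.ofNat 1],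
  [Int.ofNat 1, Int.negSucc 0, Int.negSucc 0, Int.ofNat 1, Int.ofNat 1, Int.ofNat 1, Int.negSucc 0, Int.negSucc 2, Int.negSucc 0, Int.ofNat 1, Int.negSucc 0, Int.negSucc 0, Int.negSucc 0, Int.ofNat 1, Int.negSucc 0, Int.ofNat 1, Int.ofNat 1, Int.negSucc 0, Int.negSucc 0, Int.negSucc 0, Int.negSucc 0, Int.ofNat 1, Int.ofNat 1, Int.ofNat 1],
  [Int.negSucc 0, Int.ofNat 1, Int.ofNat 1, Int.ofNat 1, Int.negSucc 0, Int.ofNat 1, Int.ofNat 1, Int.negSucc 0, Int.ofNat 1, Int.ofNat 1, Int.negSucc 0, Int.ofNat 1, Int.ofNat 1, Int.negSucc 0, Int.negSucc 0, Int.ofNat 1, Int.negSucc 0, Int.negSucc 0, Int.ofNat 1, Int.ofNat 1, Int.negSucc 0, Int.ofNat 3, Int.negSucc 0, Int.negSucc 0],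
  [Int.ofNat 1, Int.negSucc 0, Int.ofNat 1, Int.ofNat 1, Int.negSucc 0, Int.ofNat 1, Int.ofNat 1, Int.negSucc 0, Int.ofNat 1, Int.ofNat 1, Int.negSucc 0, Int.negSucc 0, Int.ofNat 1, Int.negSucc 0, Int.negSucc 0, Int.ofNat 1, Int.ofNat 1, Int.negSucc 0, Int.ofNat 3, Int.negSucc 0, Int.negSucc 0, Int.ofNat 1, Int.ofNat 1, Int.negSucc 0],
  [Int.negSucc 0, Int.ofNat 1, Int.negSucc 0, Int.ofNat 1, Int.negSucc 0, Int.ofNat 1, Int.ofNat 1, Int.negSucc 0, Int.negSucc 0, Int.ofNat 1, Int.negSucc 0, Int.negSucc 2, Int.negSucc 0, Int.negSucc 0, Int.negSucc 0, Int.ofNat 1, Int.ofNat 1, Int.negSucc 0, Int.ofNat 1, Int.negSucc 0, Int.negSucc 0, Int.ofNat 1, Int.ofNat 1, Int.ofNat 1],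
  [Int.negSucc 0, Int.ofNat 1, Int.negSucc 0, Int.ofNat 1, Int.ofNat 1, Int.negSucc 0, Int.negSucc 0, Int.negSucc 0, Int.negSucc 0, Int.negSucc 0, Int.negSucc 0, Int.negSucc 0, Int.ofNat 1, Int.ofNat 1, Int.ofNat 1, Int.ofNat 1, Int.negSucc 0, Int.negSucc 0, Int.ofNat 1, Int.negSucc 2, Int.ofNat 1, Int.ofNat 1, Int.negSucc 0, Int.ofNat 1],
  [Int.ofNat 1, Int.negSucc 0, Int.ofNat 1, Int.ofNat 1, Int.ofNat 1, Int.negSucc 0, Int.ofNat 1, Int.ofNat 1, Int.negSucc 0, Int.negSucc 0, Int.negSucc 0, Int.negSucc 0, Int.ofNat 1, Int.ofNat 1, Int.ofNat 1, Int.ofNat 1, Int.negSucc 0, Int.negSucc 0, Int.ofNat 1, Int.negSucc 0, Int.ofNat 1, Int.ofNat 3, Int.negSucc 0, Int.negSucc 0],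
  [Int.ofNat 1, Int.negSucc 0, Int.negSucc 0, Int.ofNat 1, Int.ofNat 1, Int.ofNat 1, Int.negSucc 0, Int.ofNat 1, Int.negSucc 0, Int.ofNat 1, Int.ofNat 1, Int.negSucc 0, Int.ofNat 1, Int.ofNat 1, Int.ofNat 1, Int.negSucc 0, Int.negSucc 0, Int.negSucc 0, Int.negSucc 0, Int.negSucc 0, Int.ofNat 1, Int.ofNat 3, Int.ofNat 1, Int.negSucc 0],
  [Int.ofNat 1, Int.negSucc 0, Int.negSucc 0, Int.ofNat 1, Int.ofNat 3, Int.negSucc 0, Int.negSucc 0, Int.ofNat 1, Int.negSucc 0, Int.ofNat 1, Int.negSucc 0, Int.ofNat 1, Int.ofNat 1, Int.negSucc 0, Int.ofNat 1, Int.negSucc 0, Int.ofNat 1, Int.ofNat 1, Int.ofNat 1, Int.ofNat 1, Int.negSucc 0, Int.ofNat 1, Int.negSucc 0, Int.negSucc 0],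
  [Int.ofNat 1, Int.negSucc 0, Int.ofNat 1, Int.ofNat 1, Int.ofNat 3, Int.ofNat 1, Int.ofNat 1, Int.ofNat 1, Int.negSucc 0, Int.negSucc 0, Int.ofNat 1, Int.ofNat 1, Int.ofNat 1, Int.negSucc 0, Int.ofNat 1, Int.ofNat 1, Int.ofNat 1, Int.ofNat 1, Int.negSucc 0, Int.ofNat 1, Int.negSucc 0, Int.ofNat 1, Int.ofNat 1, Int.negSucc 0],
  [Int.negSucc 0, Int.ofNat 1, Int.negSucc 0, Int.negSucc 0, Int.ofNat 1, Int.negSucc 0, Int.negSucc 0, Int.negSucc 0, Int.negSucc 0, Int.negSucc 0, Int.ofNat 1, Int.ofNat 1, Int.ofNat 1, Int.negSucc 2, Int.negSucc 0, Int.ofNat 1, Int.negSucc 0, Int.negSucc 0, Int.negSucc 0, Int.negSucc 0, Int.negSucc 0, Int.negSucc 0, Int.negSucc 0, Int.ofNat 1],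
  [Int.negSucc 0, Int.negSucc 0, Int.negSucc 0, Int.negSucc 0, Int.negSucc 0, Int.negSucc 0, Int.ofNat 1, Int.negSucc 0, Int.negSucc 0, Int.ofNat 1, Int.negSucc 0, Int.negSucc 0, Int.negSucc 0, Int.negSucc 0, Int.negSucc 0, Int.ofNat 1, Int.negSucc 2, Int.ofNat 1, Int.ofNat 1, Int.negSucc 0, Int.ofNat 1, Int.negSucc 0, Int.negSucc 0, Int.ofNat 1],
  [Int.ofNat 0, Int.ofNat 0, Int.ofNat 0, Int.ofNat 0, Int.ofNat 2, Int.ofNat 0, Int.ofNat 2, Int.ofNat 0, Int.ofNat 0, Int.ofNat 0, Int.negSucc 1, Int.ofNat 0, Int.ofNat 0, Int.ofNat 2, Int.ofNat 0, Int.ofNat 0, Int.ofNat 0, Int.ofNat 2, Int.ofNat 2, Int.ofNat 0, Int.ofNat 0, Int.ofNat 0, Int.ofNat 2, Int.negSucc 1],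
  [Int.ofNat 0, Int.ofNat 0, Int.ofNat 2, Int.ofNat 0, Int.ofNat 0, Int.ofNat 0, Int.ofNat 0, Int.ofNat 2, Int.ofNat 0, Int.ofNat 2, Int.ofNat 0, Int.ofNat 0, Int.ofNat 0, Int.negSucc 1, Int.ofNat 0, Int.ofNat 0, Int.ofNat 2, Int.ofNat 0, Int.ofNat 0, Int.ofNat 0, Int.ofNat 2, Int.ofNat 2, Int.ofNat 0, Int.negSucc 1],
  [Int.ofNat 0, Int.ofNat 0, Int.negSucc 1, Int.ofNat 0, Int.ofNat 0, Int.ofNat 0, Int.negSucc 1, Int.ofNat 0, Int.ofNat 0, Int.ofNat 0, Int.negSucc 1, Int.ofNat 0, Int.ofNat 0, Int.negSucc 1, Int.ofNat 0, Int.negSucc 1, Int.ofNat 2, Int.ofNat 0, Int.ofNat 0, Int.negSucc 1, Int.ofNat 0, Int.ofNat 0, Int.ofNat 0, Int.ofNat 2],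
  [Int.ofNat 0, Int.negSucc 1, Int.ofNat 0, Int.ofNat 0, Int.ofNat 0, Int.negSucc 1, Int.ofNat 0, Int.ofNat 0, Int.ofNat 0, Int.negSucc 1, Int.ofNat 0, Int.ofNat 0, Int.negSucc 1, Int.ofNat 0, Int.negSucc 1, Int.ofNat 2, Int.ofNat 0, Int.ofNat 0, Int.negSucc 1, Int.ofNat 0, Int.ofNat 0, Int.ofNat 0, Int.ofNat 0, Int.ofNat 2],
  [Int.ofNat 0, Int.negSucc 1, Int.ofNat 0, Int.ofNat 0, Int.ofNat 0, Int.negSucc 1, Int.ofNat 0, Int.ofNat 0, Int.ofNat 0, Int.ofNat 2, Int.ofNat 0, Int.ofNat 0, Int.negSucc 1, Int.ofNat 0, Int.negSucc 1, Int.ofNat 2, Int.ofNat 0, Int.ofNat 0, Int.ofNat 2, Int.ofNat 0, Int.ofNat 0, Int.ofNat 0, Int.ofNat 0, Int.ofNat 2],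
  [Int.ofNat 0, Int.ofNat 2, Int.ofNat 0, Int.ofNat 0, Int.ofNat 0, Int.negSucc 1, Int.ofNat 0, Int.ofNat 0, Int.ofNat 0, Int.negSucc 1, Int.ofNat 0, Int.ofNat 0, Int.ofNat 2, Int.ofNat 0, Int.negSucc 1, Int.ofNat 2, Int.ofNat 0, Int.ofNat 0, Int.negSucc 1, Int.ofNat 0, Int.ofNat 0, Int.ofNat 0, Int.ofNat 0, Int.ofNat 2],
  [Int.ofNat 0, Int.ofNat 0, Int.negSucc 1, Int.ofNat 0, Int.ofNat 2, Int.ofNat 0, Int.ofNat 0, Int.ofNat 0, Int.negSucc 1, Int.ofNat 0, Int.ofNat 0, Int.negSucc 1, Int.ofNat 0, Int.ofNat 0, Int.ofNat 0, Int.ofNat 2, Int.ofNat 2, Int.ofNat 0, Int.ofNat 0, Int.ofNat 0, Int.negSucc 1, Int.ofNat 0, Int.ofNat 0, Int.ofNat 2],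
  [Int.ofNat 0, Int.ofNat 0, Int.ofNat 2, Int.ofNat 0, Int.ofNat 2, Int.ofNat 0, Int.ofNat 0, Int.ofNat 0, Int.negSucc 1, Int.ofNat 0, Int.ofNat 0, Int.ofNat 2, Int.ofNat 0, Int.ofNat 0, Int.ofNat 0, Int.ofNat 2, Int.ofNat 2, Int.ofNat 0, Int.ofNat 0, Int.ofNat 0, Int.negSucc 1, Int.ofNat 0, Int.ofNat 0, Int.ofNat 2],
  [Int.ofNat 0, Int.ofNat 0, Int.ofNat 0, Int.ofNat 2, Int.ofNat 0, Int.ofNat 2, Int.ofNat 0, Int.ofNat 0, Int.ofNat 0, Int.negSucc 1, Int.ofNat 0, Int.ofNat 0, Int.ofNat 2, Int.ofNat 0, Int.ofNat 0, Int.ofNat 0, Int.ofNat 2, Int.ofNat 2, Int.ofNat 0, Int.ofNat 0, Int.ofNat 0, Int.negSucc 1, Int.ofNat 0, Int.ofNat 2],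
  [Int.ofNat 1, Int.ofNat 1, Int.ofNat 1, Int.negSucc 0, Int.negSucc 0, Int.negSucc 0, Int.ofNat 1, Int.ofNat 1, Int.negSucc 0, Int.negSucc 0, Int.ofNat 1, Int.negSucc 0, Int.ofNat 1, Int.negSucc 0, Int.negSucc 2, Int.ofNat 1, Int.ofNat 1, Int.negSucc 0, Int.negSucc 0, Int.ofNat 1, Int.ofNat 1, Int.negSucc 0, Int.negSucc 0, Int.negSucc 0],
  [Int.negSucc 0, Int.negSucc 0, Int.negSucc 0, Int.ofNat 1, Int.ofNat 1, Int.negSucc 0, Int.negSucc 0, Int.ofNat 1, Int.negSucc 0, Int.ofNat 1, Int.negSucc 0, Int.negSucc 2, Int.ofNat 1, Int.ofNat 1, Int.negSucc 0, Int.negSucc 0, Int.ofNat 1, Int.ofNat 1, Int.negSucc 0, Int.negSucc 0, Int.ofNat 1, Int.ofNat 1, Int.ofNat 1, Int.negSucc 0],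
  [Int.negSucc 0, Int.negSucc 0, Int.negSucc 0, Int.ofNat 1, Int.negSucc 0, Int.negSucc 0, Int.negSucc 0, Int.ofNat 1, Int.ofNat 1, Int.ofNat 1, Int.negSucc 0, Int.negSucc 0, Int.ofNat 3, Int.negSucc 0, Int.negSucc 0, Int.negSucc 0, Int.negSucc 0, Int.ofNat 1, Int.ofNat 1, Int.negSucc 0, Int.ofNat 1, Int.ofNat 1, Int.negSucc 0, Int.negSucc 0],
  [Int.negSucc 0, Int.negSucc 0, Int.negSucc 0, Int.ofNat 1, Int.ofNat 1, Int.ofNat 1, Int.negSucc 0, Int.negSucc 0, Int.ofNat 3, Int.negSucc 0, Int.ofNat 1, Int.ofNat 1, Int.ofNat 1, Int.negSucc 0, Int.negSucc 0, Int.negSucc 0, Int.ofNat 1, Int.negSucc 0, Int.negSucc 0, Int.negSucc 0, Int.ofNat 1, Int.negSucc 0, Int.negSucc 0, Int.negSucc 0],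
  [Int.negSucc 0, Int.negSucc 0, Int.negSucc 0, Int.ofNat 1, Int.ofNat 1, Int.ofNat 1, Int.ofNat 1, Int.ofNat 1, Int.ofNat 1, Int.negSucc 0, Int.ofNat 1, Int.negSucc 0, Int.negSucc 0, Int.negSucc 0, Int.negSucc 0, Int.negSucc 0, Int.ofNat 1, Int.negSucc 0, Int.negSucc 2, Int.ofNat 1, Int.ofNat 1, Int.ofNat 1, Int.negSucc 0, Int.negSucc 0],
  [Int.negSucc 0, Int.negSucc 0, Int.ofNat 1, Int.ofNat 1, Int.ofNat 1, Int.negSucc 0, Int.negSucc 0, Int.ofNat 1, Int.ofNat 1, Int.ofNat 1, Int.negSucc 0, Int.negSucc 0, Int.negSucc 0, Int.negSucc 0, Int.negSucc 0, Int.ofNat 1, Int.ofNat 1, Int.negSucc 0, Int.ofNat 3, Int.ofNat 1, Int.ofNat 1, Int.ofNat 1, Int.ofNat 1, Int.negSucc 0],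
  [Int.negSucc 0, Int.ofNat 1, Int.negSucc 0, Int.ofNat 1, Int.negSucc 0, Int.negSucc 0, Int.ofNat 1, Int.ofNat 1, Int.negSucc 0, Int.ofNat 1, Int.negSucc 0, Int.ofNat 1, Int.ofNat 1, Int.ofNat 1, Int.negSucc 0, Int.ofNat 3, Int.ofNat 1, Int.negSucc 0, Int.ofNat 1, Int.ofNat 1, Int.negSucc 0, Int.negSucc 0, Int.ofNat 1, Int.negSucc 0],
  [Int.negSucc 0, Int.ofNat 1, Int.ofNat 1, Int.ofNat 3, Int.negSucc 0, Int.ofNat 1, Int.ofNat 1, Int.ofNat 1, Int.negSucc 0, Int.negSucc 0, Int.ofNat 1, Int.negSucc 0, Int.negSucc 0, Int.ofNat 1, Int.ofNat 1, Int.ofNat 1, Int.negSucc 0, Int.negSucc 0, Int.negSucc 0, Int.ofNat 1, Int.negSucc 0, Int.ofNat 1, Int.ofNat 1, Int.negSucc 0],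
  [Int.ofNat 1, Int.ofNat 1, Int.negSucc 0, Int.ofNat 3, Int.negSucc 0, Int.ofNat 1, Int.ofNat 1, Int.negSucc 0, Int.negSucc 0, Int.ofNat 1, Int.negSucc 0, Int.ofNat 1, Int.negSucc 0, Int.ofNat 1, Int.ofNat 1, Int.ofNat 1, Int.negSucc 0, Int.negSucc 0, Int.ofNat 1, Int.ofNat 1, Int.negSucc 0, Int.negSucc 0, Int.ofNat 1, Int.negSucc 0],
  [Int.ofNat 1, Int.ofNat 1, Int.ofNat 1, Int.negSucc 0, Int.ofNat 3, Int.negSucc 0, Int.ofNat 1, Int.ofNat 1, Int.negSucc 0, Int.negSucc 0, Int.ofNat 1, Int.negSucc 0, Int.ofNat 1, Int.negSucc 0, Int.ofNat 1, Int.ofNat 1, Int.ofNat 1, Int.negSucc 0, Int.negSucc 0, Int.ofNat 1, Int.ofNat 1, Int.negSucc 0, Int.negSucc 0, Int.negSucc 0],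
  [Int.ofNat 0, Int.ofNat 0, Int.ofNat 0, Int.ofNat 0, Int.ofNat 2, Int.ofNat 0, Int.ofNat 0, Int.ofNat 0, Int.ofNat 0, Int.negSucc 1, Int.ofNat 0, Int.ofNat 0, Int.ofNat 2, Int.negSucc 1, Int.ofNat 2, Int.ofNat 0, Int.ofNat 0, Int.ofNat 0, Int.ofNat 0, Int.ofNat 0, Int.ofNat 0, Int.negSucc 1, Int.negSucc 1, Int.ofNat 2],
  [Int.ofNat 0, Int.ofNat 2, Int.ofNat 0, Int.ofNat 0, Int.ofNat 0, Int.ofNat 0, Int.negSucc 1, Int.ofNat 0, Int.ofNat 0, Int.ofNat 2, Int.negSucc 1, Int.ofNat 2, Int.ofNat 0, Int.ofNat 0, Int.ofNat 0, Int.ofNat 0, Int.ofNat 0, Int.ofNat 0, Int.negSucc 1, Int.negSucc 1, Int.ofNat 0, Int.ofNat 0, Int.ofNat 0, Int.ofNat 2],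
  [Int.ofNat 2, Int.ofNat 0, Int.ofNat 2, Int.ofNat 0, Int.ofNat 0, Int.ofNat 0, Int.ofNat 0, Int.ofNat 2, Int.ofNat 0, Int.ofNat 2, Int.negSucc 1, Int.ofNat 2, Int.ofNat 0, Int.ofNat 0, Int.ofNat 0, Int.ofNat 0, Int.ofNat 0, Int.ofNat 0, Int.negSucc 1, Int.ofNat 0, Int.ofNat 0, Int.ofNat 2, Int.ofNat 0, Int.ofNat 0],
  [Int.ofNat 2, Int.ofNat 0, Int.ofNat 0, Int.ofNat 0, Int.negSucc 1, Int.ofNat 2, Int.ofNat 2, Int.negSucc 1, Int.ofNat 0, Int.ofNat 0, Int.ofNat 0, Int.ofNat 0, Int.ofNat 2, Int.ofNat 0, Int.ofNat 0, Int.ofNat 0, Int.ofNat 0, Int.ofNat 0, Int.ofNat 0, Int.ofNat 2, Int.ofNat 2, Int.ofNat 0, Int.ofNat 0, Int.ofNat 0],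
  [Int.negSucc 0, Int.ofNat 1, Int.ofNat 1, Int.negSucc 0, Int.negSucc 0, Int.ofNat 1, Int.ofNat 1, Int.negSucc 2, Int.negSucc 0, Int.negSucc 0, Int.negSucc 0, Int.negSucc 0, Int.ofNat 1, Int.ofNat 1, Int.negSucc 0, Int.negSucc 0, Int.ofNat 1, Int.negSucc 0, Int.negSucc 0, Int.ofNat 1, Int.ofNat 1, Int.negSucc 0, Int.ofNat 1, Int.ofNat 1],
  [Int.negSucc 0, Int.ofNat 1, Int.negSucc 0, Int.negSucc 0, Int.negSucc 0, Int.negSucc 0, Int.negSucc 0, Int.negSucc 2, Int.negSucc 0, Int.ofNat 1, Int.ofNat 1, Int.negSucc 0, Int.ofNat 1, Int.ofNat 1, Int.negSucc 0, Int.ofNat 1, Int.ofNat 1, Int.negSucc 0, Int.ofNat 1, Int.ofNat 1, Int.ofNat 1, Int.negSucc 0, Int.negSucc 0, Int.ofNat 1],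
  [Int.negSucc 0, Int.negSucc 0, Int.ofNat 1, Int.ofNat 1, Int.negSucc 0, Int.ofNat 1, Int.ofNat 1, Int.negSucc 0, Int.negSucc 0, Int.negSucc 2, Int.ofNat 1, Int.ofNat 1, Int.ofNat 1, Int.negSucc 0, Int.negSucc 0, Int.negSucc 0, Int.ofNat 1, Int.negSucc 0, Int.negSucc 0, Int.ofNat 1, Int.negSucc 0, Int.negSucc 0, Int.ofNat 1, Int.ofNat 1],
  [Int.negSucc 0, Int.negSucc 0, Int.negSucc 0, Int.ofNat 1, Int.negSucc 0, Int.negSucc 0, Int.negSucc 0, Int.negSucc 0, Int.negSucc 0, Int.ofNat 3, Int.negSucc 0, Int.ofNat 1, Int.ofNat 1, Int.negSucc 0, Int.negSucc 0, Int.ofNat 1, Int.ofNat 1, Int.negSucc 0, Int.ofNat 1, Int.ofNat 1, Int.negSucc 0, Int.negSucc 0, Int.negSucc 0, Int.ofNat 1],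
  [Int.ofNat 0, Int.ofNat 0, Int.ofNat 0, Int.ofNat 2, Int.ofNat 0, Int.ofNat 0, Int.ofNat 0, Int.ofNat 0, Int.negSucc 1, Int.ofNat 2, Int.negSucc 1, Int.ofNat 0, Int.ofNat 0, Int.ofNat 0, Int.ofNat 0, Int.ofNat 0, Int.ofNat 2, Int.ofNat 0, Int.ofNat 0, Int.ofNat 2, Int.negSucc 1, Int.ofNat 0, Int.ofNat 0, Int.negSucc 1],
  [Int.ofNat 0, Int.ofNat 0, Int.ofNat 0, Int.ofNat 2, Int.ofNat 0, Int.ofNat 0, Int.ofNat 0, Int.ofNat 0, Int.ofNat 2, Int.ofNat 0, Int.ofNat 0, Int.ofNat 2, Int.negSucc 1, Int.ofNat 2, Int.ofNat 0, Int.ofNat 0, Int.ofNat 0, Int.ofNat 0, Int.ofNat 0, Int.ofNat 0, Int.negSucc 1, Int.negSucc 1, Int.ofNat 0, Int.negSucc 1],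
  [Int.negSucc 0, Int.negSucc 0, Int.negSucc 0, Int.ofNat 1, Int.negSucc 0, Int.negSucc 0, Int.ofNat 1, Int.ofNat 1, Int.ofNat 1, Int.ofNat 1, Int.ofNat 1, Int.ofNat 1, Int.negSucc 2, Int.ofNat 1, Int.negSucc 0, Int.ofNat 1, Int.negSucc 0, Int.negSucc 0, Int.negSucc 0, Int.ofNat 1, Int.negSucc 0, Int.negSucc 0, Int.negSucc 0, Int.ofNat 1],
  [Int.negSucc 0, Int.negSucc 0, Int.negSucc 0, Int.negSucc 0, Int.negSucc 0, Int.negSucc 0, Int.ofNat 1, Int.negSucc 0, Int.negSucc 0, Int.ofNat 1, Int.ofNat 1, Int.ofNat 1, Int.ofNat 1, Int.ofNat 1, Int.ofNat 1, Int.negSucc 2, Int.ofNat 1, Int.negSucc 0, Int.ofNat 1, Int.negSucc 0, Int.negSucc 0, Int.negSucc 0, Int.ofNat 1, Int.ofNat 1],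
  [Int.ofNat 0, Int.ofNat 0, Int.ofNat 0, Int.ofNat 0, Int.negSucc 1, Int.ofNat 0, Int.ofNat 2, Int.ofNat 0, Int.negSucc 1, Int.ofNat 2, Int.ofNat 2, Int.ofNat 0, Int.ofNat 0, Int.ofNat 0, Int.ofNat 2, Int.negSucc 1, Int.ofNat 0, Int.ofNat 0, Int.ofNat 0, Int.ofNat 0, Int.ofNat 0, Int.ofNat 0, Int.ofNat 0, Int.negSucc 1],
  [Int.ofNat 0, Int.ofNat 0, Int.ofNat 0, Int.negSucc 1, Int.ofNat 0, Int.ofNat 2, Int.ofNat 0, Int.negSucc 1, Int.ofNat 2, Int.ofNat 2, Int.ofNat 0, Int.ofNat 0, Int.ofNat 0, Int.ofNat 2, Int.negSucc 1, Int.ofNat 0, Int.ofNat 0, Int.ofNat 0, Int.ofNat 0, Int.ofNat 0, Int.ofNat 0, Int.ofNat 0, Int.ofNat 0, Int.negSucc 1],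
  [Int.ofNat 0, Int.ofNat 0, Int.ofNat 0, Int.negSucc 1, Int.ofNat 0, Int.ofNat 2, Int.ofNat 0, Int.ofNat 2, Int.ofNat 2, Int.negSucc 1, Int.ofNat 0, Int.ofNat 0, Int.ofNat 0, Int.ofNat 2, Int.negSucc 1, Int.ofNat 0, Int.ofNat 0, Int.ofNat 0, Int.ofNat 0, Int.ofNat 0, Int.ofNat 0, Int.ofNat 0, Int.ofNat 0, Int.negSucc 1],
  [Int.ofNat 0, Int.ofNat 0, Int.ofNat 0, Int.ofNat 2, Int.ofNat 0, Int.ofNat 2, Int.ofNat 0, Int.ofNat 2, Int.negSucc 1, Int.ofNat 2, Int.ofNat 0, Int.ofNat 0, Int.ofNat 0, Int.negSucc 1, Int.negSucc 1, Int.ofNat 0, Int.ofNat 0, Int.ofNat 0, Int.ofNat 0, Int.ofNat 0, Int.ofNat 0, Int.ofNat 0, Int.ofNat 0, Int.negSucc 1],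
  [Int.ofNat 0, Int.ofNat 0, Int.ofNat 0, Int.ofNat 2, Int.ofNat 0, Int.ofNat 0, Int.ofNat 0, Int.ofNat 0, Int.ofNat 2, Int.ofNat 0, Int.ofNat 0, Int.negSucc 1, Int.negSucc 1, Int.negSucc 1, Int.ofNat 0, Int.ofNat 0, Int.ofNat 0, Int.ofNat 0, Int.ofNat 0, Int.ofNat 0, Int.ofNat 2, Int.ofNat 2, Int.ofNat 0, Int.negSucc 1],
  [Int.ofNat 0, Int.ofNat 0, Int.ofNat 0, Int.ofNat 2, Int.ofNat 0, Int.ofNat 0, Int.ofNat 0, Int.ofNat 0, Int.ofNat 2, Int.ofNat 0, Int.ofNat 0, Int.ofNat 2, Int.negSucc 1, Int.negSucc 1, Int.ofNat 0, Int.ofNat 0, Int.ofNat 0, Int.ofNat 0, Int.ofNat 0, Int.ofNat 0, Int.ofNat 2, Int.negSucc 1, Int.ofNat 0, Int.negSucc 1],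
  [Int.ofNat 0, Int.ofNat 0, Int.ofNat 0, Int.ofNat 0, Int.ofNat 2, Int.ofNat 0, Int.ofNat 0, Int.ofNat 0, Int.ofNat 0, Int.ofNat 2, Int.ofNat 0, Int.ofNat 0, Int.ofNat 2, Int.negSucc 1, Int.negSucc 1, Int.ofNat 0, Int.ofNat 0, Int.ofNat 0, Int.ofNat 0, Int.ofNat 0, Int.ofNat 0, Int.ofNat 2, Int.negSucc 1, Int.negSucc 1],
  [Int.negSucc 0, Int.negSucc 0, Int.negSucc 0, Int.ofNat 1, Int.ofNat 3, Int.ofNat 1, Int.negSucc 0, Int.negSucc 0, Int.negSucc 0, Int.ofNat 1, Int.negSucc 0, Int.negSucc 0, Int.ofNat 1, Int.negSucc 0, Int.negSucc 0, Int.negSucc 0, Int.ofNat 1, Int.ofNat 1, Int.negSucc 0, Int.negSucc 0, Int.negSucc 0, Int.ofNat 1, Int.negSucc 0, Int.ofNat 1],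
  [Int.ofNat 1, Int.ofNat 3, Int.ofNat 1, Int.negSucc 0, Int.negSucc 0, Int.negSucc 0, Int.ofNat 1, Int.negSucc 0, Int.negSucc 0, Int.ofNat 1, Int.negSucc 0, Int.negSucc 0, Int.negSucc 0, Int.ofNat 1, Int.ofNat 1, Int.negSucc 0, Int.negSucc 0, Int.negSucc 0, Int.ofNat 1, Int.negSucc 0, Int.negSucc 0, Int.negSucc 0, Int.negSucc 0, Int.ofNat 1],
  [Int.ofNat 2, Int.ofNat 0, Int.ofNat 2, Int.ofNat 0, Int.ofNat 0, Int.ofNat 0, Int.ofNat 2, Int.ofNat 0, Int.ofNat 0, Int.ofNat 2, Int.ofNat 0, Int.ofNat 0, Int.ofNat 0, Int.ofNat 2, Int.ofNat 2, Int.ofNat 0, Int.ofNat 0, Int.ofNat 0, Int.ofNat 2, Int.ofNat 0, Int.ofNat 0, Int.ofNat 0, Int.ofNat 0, Int.ofNat 2],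
  [Int.ofNat 2, Int.ofNat 2, Int.ofNat 0, Int.ofNat 0, Int.ofNat 2, Int.ofNat 0, Int.ofNat 2, Int.ofNat 0, Int.ofNat 0, Int.ofNat 2, Int.ofNat 0, Int.ofNat 0, Int.ofNat 2, Int.ofNat 0, Int.ofNat 0, Int.ofNat 0, Int.ofNat 0, Int.ofNat 2, Int.ofNat 0, Int.ofNat 0, Int.ofNat 0, Int.ofNat 0, Int.ofNat 0, Int.ofNat 2],
  [Int.ofNat 1, Int.ofNat 1, Int.ofNat 3, Int.negSucc 0, Int.ofNat 1, Int.negSucc 0, Int.ofNat 1, Int.negSucc 0, Int.negSucc 0, Int.ofNat 1, Int.negSucc 0, Int.negSucc 0, Int.ofNat 1, Int.negSucc 0, Int.negSucc 0, Int.negSucc 0, Int.negSucc 0, Int.ofNat 1, Int.negSucc 0, Int.negSucc 0, Int.negSucc 0, Int.negSucc 0, Int.negSucc 0, Int.ofNat 1],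
  [Int.ofNat 1, Int.ofNat 1, Int.negSucc 2, Int.negSucc 0, Int.ofNat 1, Int.ofNat 1, Int.negSucc 0, Int.negSucc 0, Int.negSucc 0, Int.negSucc 0, Int.ofNat 1, Int.negSucc 0, Int.ofNat 1, Int.negSucc 0, Int.negSucc 0, Int.ofNat 1, Int.negSucc 0, Int.ofNat 1, Int.ofNat 1, Int.negSucc 0, Int.negSucc 0, Int.negSucc 0, Int.ofNat 1, Int.ofNat 1],
  [Int.ofNat 1, Int.negSucc 0, Int.negSucc 0, Int.negSucc 0, Int.negSucc 0, Int.negSucc 0, Int.negSucc 0, Int.negSucc 0, Int.ofNat 1, Int.negSucc 0, Int.negSucc 0, Int.negSucc 0, Int.ofNat 1, Int.ofNat 1, Int.ofNat 1, Int.ofNat 1, Int.negSucc 0, Int.ofNat 1, Int.negSucc 0, Int.negSucc 2, Int.ofNat 1, Int.ofNat 1, Int.ofNat 1, Int.ofNat 1],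
  [Int.ofNat 1, Int.ofNat 1, Int.negSucc 0, Int.ofNat 1, Int.ofNat 1, Int.negSucc 0, Int.negSucc 2, Int.ofNat 1, Int.ofNat 1, Int.negSucc 0, Int.negSucc 0, Int.negSucc 0, Int.ofNat 1, Int.negSucc 0, Int.negSucc 0, Int.negSucc 0, Int.negSucc 0, Int.negSucc 0, Int.ofNat 1, Int.negSucc 0, Int.ofNat 1, Int.ofNat 1, Int.negSucc 0, Int.ofNat 1],
  [Int.negSucc 0, Int.ofNat 1, Int.ofNat 1, Int.ofNat 1, Int.ofNat 1, Int.negSucc 0, Int.negSucc 2, Int.negSucc 0, Int.ofNat 1, Int.ofNat 1, Int.ofNat 1, Int.ofNat 1, Int.ofNat 1, Int.negSucc 0, Int.negSucc 0, Int.negSucc 0, Int.negSucc 0, Int.negSucc 0, Int.negSucc 0, Int.negSucc 0, Int.ofNat 1, Int.negSucc 0, Int.negSucc 0, Int.ofNat 1],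
  [Int.negSucc 0, Int.negSucc 0, Int.ofNat 1, Int.ofNat 1, Int.ofNat 1, Int.ofNat 1, Int.negSucc 0, Int.negSucc 2, Int.negSucc 0, Int.ofNat 1, Int.ofNat 1, Int.ofNat 1, Int.ofNat 1, Int.ofNat 1, Int.negSucc 0, Int.negSucc 0, Int.negSucc 0, Int.negSucc 0, Int.negSucc 0, Int.negSucc 0, Int.negSucc 0, Int.ofNat 1, Int.negSucc 0, Int.ofNat 1],
  [Int.ofNat 1, Int.ofNat 1, Int.negSucc 0, Int.ofNat 1, Int.ofNat 1, Int.ofNat 1, Int.ofNat 1, Int.negSucc 0, Int.negSucc 0, Int.ofNat 1, Int.ofNat 1, Int.ofNat 1, Int.ofNat 1, Int.ofNat 1, Int.negSucc 0, Int.negSucc 0, Int.negSucc 0, Int.negSucc 0, Int.negSucc 0, Int.ofNat 1, Int.negSucc 0, Int.ofNat 3, Int.negSucc 0, Int.negSucc 0],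
  [Int.ofNat 1, Int.ofNat 1, Int.ofNat 1, Int.ofNat 1, Int.negSucc 0, Int.negSucc 0, Int.ofNat 1, Int.ofNat 1, Int.ofNat 1, Int.ofNat 1, Int.ofNat 1, Int.negSucc 0, Int.negSucc 0, Int.negSucc 0, Int.negSucc 0, Int.negSucc 0, Int.ofNat 1, Int.negSucc 0, Int.ofNat 3, Int.negSucc 0, Int.ofNat 1, Int.ofNat 1, Int.negSucc 0, Int.negSucc 0],
  [Int.ofNat 0, Int.ofNat 0, Int.ofNat 0, Int.ofNat 2, Int.ofNat 0, Int.ofNat 0, Int.ofNat 0, Int.ofNat 0, Int.ofNat 0, Int.ofNat 0, Int.ofNat 0, Int.negSucc 1, Int.negSucc 1, Int.ofNat 0, Int.ofNat 0, Int.negSucc 1, Int.ofNat 2, Int.ofNat 0, Int.ofNat 2, Int.negSucc 1, Int.ofNat 0, Int.ofNat 0, Int.ofNat 0, Int.ofNat 2],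
  [Int.ofNat 0, Int.ofNat 0, Int.ofNat 0, Int.ofNat 2, Int.ofNat 2, Int.ofNat 0, Int.ofNat 0, Int.ofNat 0, Int.negSucc 1, Int.ofNat 0, Int.ofNat 0, Int.ofNat 0, Int.ofNat 0, Int.ofNat 2, Int.ofNat 0, Int.negSucc 1, Int.ofNat 0, Int.ofNat 0, Int.ofNat 0, Int.negSucc 1, Int.ofNat 0, Int.ofNat 0, Int.negSucc 1, Int.ofNat 2],
  [Int.ofNat 1, Int.ofNat 1, Int.ofNat 1, Int.ofNat 1, Int.ofNat 1, Int.negSucc 0, Int.ofNat 1, Int.ofNat 1, Int.negSucc 0, Int.ofNat 1, Int.ofNat 1, Int.ofNat 1, Int.ofNat 1, Int.ofNat 1, Int.negSucc 0, Int.negSucc 0, Int.negSucc 0, Int.negSucc 0, Int.ofNat 1, Int.negSucc 0, Int.ofNat 1, Int.ofNat 1, Int.negSucc 2, Int.negSucc 0],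
  [Int.ofNat 1, Int.ofNat 1, Int.negSucc 0, Int.ofNat 1, Int.ofNat 1, Int.ofNat 1, Int.negSucc 0, Int.ofNat 1, Int.negSucc 0, Int.negSucc 0, Int.negSucc 0, Int.ofNat 1, Int.ofNat 1, Int.ofNat 1, Int.negSucc 0, Int.ofNat 1, Int.negSucc 0, Int.negSucc 0, Int.negSucc 0, Int.negSucc 0, Int.ofNat 1, Int.ofNat 1, Int.ofNat 3, Int.negSucc 0],
  [Int.ofNat 1, Int.negSucc 0, Int.ofNat 1, Int.negSucc 0, Int.ofNat 1, Int.negSucc 0, Int.ofNat 1, Int.negSucc 0, Int.negSucc 0, Int.ofNat 1, Int.negSucc 0, Int.negSucc 0, Int.ofNat 1, Int.negSucc 0, Int.ofNat 1, Int.negSucc 0, Int.ofNat 1, Int.ofNat 1, Int.ofNat 1, Int.ofNat 1, Int.ofNat 1, Int.ofNat 3, Int.negSucc 0, Int.negSucc 0],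
  [Int.ofNat 1, Int.negSucc 0, Int.negSucc 0, Int.negSucc 0, Int.ofNat 1, Int.ofNat 1, Int.negSucc 0, Int.negSucc 0, Int.negSucc 0, Int.negSucc 0, Int.ofNat 1, Int.negSucc 0, Int.ofNat 1, Int.negSucc 0, Int.ofNat 1, Int.ofNat 1, Int.ofNat 1, Int.ofNat 1, Int.negSucc 0, Int.ofNat 1, Int.ofNat 1, Int.ofNat 3, Int.ofNat 1, Int.negSucc 0],
  [Int.negSucc 1, Int.ofNat 0, Int.ofNat 0, Int.negSucc 1, Int.ofNat 0, Int.ofNat 0, Int.negSucc 1, Int.negSucc 1, Int.ofNat 0, Int.negSucc 1, Int.ofNat 0, Int.ofNat 0, Int.ofNat 2, Int.negSucc 1, Int.ofNat 0, Int.ofNat 0, Int.ofNat 0, Int.ofNat 0, Int.ofNat 0, Int.ofNat 0, Int.ofNat 0, Int.ofNat 2, Int.ofNat 0, Int.ofNat 0],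
  [Int.negSucc 1, Int.ofNat 0, Int.negSucc 1, Int.negSucc 1, Int.ofNat 0, Int.ofNat 2, Int.ofNat 0, Int.ofNat 0, Int.ofNat 0, Int.ofNat 2, Int.negSucc 1, Int.ofNat 0, Int.ofNat 0, Int.negSucc 1, Int.ofNat 0, Int.ofNat 0, Int.negSucc 1, Int.ofNat 0, Int.ofNat 0, Int.ofNat 0, Int.ofNat 0, Int.ofNat 0, Int.ofNat 0, Int.ofNat 0],
  [Int.ofNat 0, Int.negSucc 1, Int.ofNat 0, Int.negSucc 1, Int.ofNat 2, Int.ofNat 2, Int.ofNat 0, Int.ofNat 0, Int.ofNat 0, Int.ofNat 2, Int.negSucc 1, Int.ofNat 0, Int.ofNat 0, Int.ofNat 0, Int.ofNat 0, Int.ofNat 0, Int.ofNat 0, Int.ofNat 0, Int.ofNat 0, Int.ofNat 0, Int.ofNat 0, Int.ofNat 0, Int.ofNat 2, Int.negSucc 1],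
  [Int.ofNat 0, Int.ofNat 0, Int.ofNat 2, Int.ofNat 0, Int.negSucc 1, Int.ofNat 0, Int.negSucc 1, Int.ofNat 2, Int.ofNat 2, Int.ofNat 0, Int.ofNat 0, Int.ofNat 0, Int.ofNat 2, Int.negSucc 1, Int.ofNat 0, Int.ofNat 0, Int.ofNat 0, Int.ofNat 0, Int.ofNat 0, Int.ofNat 0, Int.ofNat 0, Int.ofNat 0, Int.ofNat 0, Int.negSucc 1],
  [Int.ofNat 0, Int.ofNat 0, Int.negSucc 1, Int.ofNat 0, Int.ofNat 0, Int.ofNat 0, Int.negSucc 1, Int.ofNat 2, Int.ofNat 0, Int.ofNat 0, Int.ofNat 0, Int.negSucc 1, Int.ofNat 0, Int.ofNat 0, Int.ofNat 0, Int.ofNat 0, Int.ofNat 2, Int.ofNat 0, Int.negSucc 1, Int.ofNat 0, Int.ofNat 0, Int.ofNat 0, Int.ofNat 2, Int.ofNat 2],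
  [Int.ofNat 0, Int.negSucc 1, Int.ofNat 0, Int.ofNat 0, Int.ofNat 0, Int.negSucc 1, Int.ofNat 2, Int.ofNat 0, Int.ofNat 0, Int.ofNat 0, Int.negSucc 1, Int.ofNat 0, Int.ofNat 0, Int.ofNat 0, Int.ofNat 0, Int.ofNat 2, Int.ofNat 0, Int.negSucc 1, Int.ofNat 0, Int.ofNat 0, Int.ofNat 0, Int.ofNat 2, Int.ofNat 0, Int.ofNat 2],
  [Int.ofNat 0, Int.negSucc 1, Int.ofNat 0, Int.ofNat 0, Int.ofNat 0, Int.negSucc 1, Int.ofNat 2, Int.ofNat 0, Int.ofNat 0, Int.ofNat 0, Int.ofNat 2, Int.ofNat 0, Int.ofNat 0, Int.ofNat 0, Int.ofNat 0, Int.ofNat 2, Int.ofNat 0, Int.negSucc 1, Int.ofNat 0, Int.ofNat 0, Int.ofNat 0, Int.negSucc 1, Int.ofNat 0, Int.ofNat 2],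
  [Int.ofNat 0, Int.ofNat 2, Int.ofNat 0, Int.ofNat 0, Int.ofNat 0, Int.negSucc 1, Int.negSucc 1, Int.ofNat 0, Int.ofNat 0, Int.ofNat 0, Int.ofNat 2, Int.ofNat 0, Int.ofNat 0, Int.ofNat 0, Int.ofNat 0, Int.ofNat 2, Int.ofNat 0, Int.negSucc 1, Int.ofNat 0, Int.ofNat 0, Int.ofNat 0, Int.negSucc 1, Int.ofNat 0, Int.ofNat 2],
  [Int.ofNat 0, Int.ofNat 0, Int.ofNat 0, Int.ofNat 0, Int.ofNat 2, Int.ofNat 2, Int.ofNat 0, Int.ofNat 0, Int.ofNat 0, Int.ofNat 0, Int.negSucc 1, Int.ofNat 0, Int.ofNat 0, Int.ofNat 0, Int.ofNat 0, Int.ofNat 2, Int.ofNat 0, Int.ofNat 0, Int.negSucc 1, Int.negSucc 1, Int.negSucc 1, Int.ofNat 0, Int.ofNat 0, Int.ofNat 2],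
  [Int.ofNat 0, Int.ofNat 0, Int.ofNat 0, Int.ofNat 0, Int.ofNat 2, Int.ofNat 2, Int.ofNat 0, Int.ofNat 0, Int.ofNat 0, Int.ofNat 0, Int.ofNat 2, Int.ofNat 0, Int.ofNat 0, Int.ofNat 0, Int.ofNat 0, Int.ofNat 2, Int.ofNat 0, Int.ofNat 0, Int.ofNat 2, Int.negSucc 1, Int.negSucc 1, Int.ofNat 0, Int.ofNat 0, Int.ofNat 2],
  [Int.ofNat 0, Int.ofNat 0, Int.ofNat 0, Int.ofNat 0, Int.ofNat 0, Int.ofNat 2, Int.ofNat 2, Int.ofNat 0, Int.ofNat 0, Int.ofNat 0, Int.ofNat 0, Int.ofNat 2, Int.ofNat 0, Int.ofNat 0, Int.ofNat 0, Int.ofNat 0, Int.ofNat 2, Int.ofNat 0, Int.ofNat 0, Int.ofNat 2, Int.negSucc 1, Int.negSucc 1, Int.ofNat 0, Int.ofNat 2],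
  [Int.ofNat 1, Int.ofNat 1, Int.ofNat 1, Int.negSucc 0, Int.negSucc 0, Int.ofNat 1, Int.ofNat 1, Int.negSucc 0, Int.negSucc 0, Int.ofNat 1, Int.ofNat 1, Int.ofNat 1, Int.negSucc 0, Int.negSucc 0, Int.negSucc 0, Int.ofNat 1, Int.ofNat 1, Int.negSucc 0, Int.negSucc 0, Int.ofNat 1, Int.negSucc 0, Int.negSucc 2, Int.negSucc 0, Int.negSucc 0],
  [Int.negSucc 0, Int.negSucc 0, Int.ofNat 1, Int.ofNat 1, Int.negSucc 0, Int.negSucc 0, Int.ofNat 1, Int.ofNat 1, Int.ofNat 1, Int.negSucc 0, Int.negSucc 0, Int.negSucc 0, Int.ofNat 1, Int.ofNat 1, Int.negSucc 0, Int.negSucc 0, Int.ofNat 1, Int.negSucc 0, Int.negSucc 2, Int.negSucc 0, Int.ofNat 1, Int.ofNat 1, Int.ofNat 1, Int.negSucc 0],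
  [Int.ofNat 0, Int.ofNat 0, Int.negSucc 1, Int.ofNat 2, Int.negSucc 1, Int.ofNat 0, Int.ofNat 0, Int.ofNat 0, Int.ofNat 2, Int.ofNat 0, Int.ofNat 0, Int.ofNat 0, Int.ofNat 2, Int.ofNat 0, Int.ofNat 0, Int.ofNat 0, Int.ofNat 0, Int.ofNat 0, Int.negSucc 1, Int.negSucc 1, Int.ofNat 2, Int.ofNat 0, Int.ofNat 0, Int.ofNat 0],
  [Int.ofNat 0, Int.ofNat 0, Int.negSucc 1, Int.ofNat 2, Int.negSucc 1, Int.ofNat 0, Int.negSucc 1, Int.ofNat 0, Int.ofNat 2, Int.ofNat 0, Int.ofNat 2, Int.ofNat 0, Int.ofNat 0, Int.ofNat 0, Int.ofNat 0, Int.ofNat 0, Int.ofNat 2, Int.ofNat 0, Int.ofNat 0, Int.ofNat 0, Int.ofNat 0, Int.ofNat 0, Int.negSucc 1, Int.ofNat 0],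
  [Int.negSucc 0, Int.negSucc 0, Int.ofNat 1, Int.ofNat 1, Int.negSucc 0, Int.negSucc 0, Int.negSucc 0, Int.ofNat 1, Int.ofNat 1, Int.negSucc 0, Int.ofNat 1, Int.negSucc 0, Int.negSucc 0, Int.ofNat 1, Int.negSucc 0, Int.negSucc 0, Int.ofNat 3, Int.negSucc 0, Int.negSucc 0, Int.ofNat 1, Int.negSucc 0, Int.ofNat 1, Int.negSucc 0, Int.negSucc 0],
  [Int.negSucc 0, Int.negSucc 0, Int.negSucc 0, Int.ofNat 1, Int.negSucc 0, Int.ofNat 1, Int.ofNat 1, Int.ofNat 1, Int.ofNat 1, Int.ofNat 1, Int.negSucc 0, Int.negSucc 0, Int.negSucc 0, Int.ofNat 1, Int.negSucc 0, Int.ofNat 1, Int.ofNat 3, Int.negSucc 0, Int.ofNat 1, Int.ofNat 1, Int.negSucc 0, Int.ofNat 1, Int.ofNat 1, Int.negSucc 0],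
  [Int.negSucc 0, Int.ofNat 3, Int.negSucc 0, Int.ofNat 1, Int.negSucc 0, Int.ofNat 1, Int.ofNat 1, Int.ofNat 1, Int.ofNat 1, Int.negSucc 0, Int.ofNat 1, Int.ofNat 1, Int.ofNat 1, Int.negSucc 0, Int.negSucc 0, Int.ofNat 1, Int.ofNat 1, Int.negSucc 0, Int.ofNat 1, Int.negSucc 0, Int.negSucc 0, Int.negSucc 0, Int.ofNat 1, Int.negSucc 0],
  [Int.negSucc 0, Int.ofNat 1, Int.ofNat 1, Int.ofNat 1, Int.negSucc 0, Int.negSucc 0, Int.negSucc 0, Int.negSucc 0, Int.negSucc 0, Int.ofNat 1, Int.ofNat 1, Int.negSucc 0, Int.negSucc 0, Int.ofNat 1, Int.ofNat 1, Int.ofNat 1, Int.ofNat 1, Int.negSucc 0, Int.negSucc 0, Int.ofNat 1, Int.ofNat 1, Int.ofNat 1, Int.ofNat 3, Int.negSucc 0],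
  [Int.ofNat 1, Int.ofNat 1, Int.negSucc 0, Int.ofNat 1, Int.negSucc 0, Int.negSucc 0, Int.negSucc 0, Int.ofNat 1, Int.negSucc 0, Int.negSucc 0, Int.negSucc 0, Int.ofNat 1, Int.negSucc 0, Int.ofNat 1, Int.ofNat 1, Int.ofNat 1, Int.ofNat 1, Int.negSucc 0, Int.ofNat 1, Int.ofNat 1, Int.ofNat 1, Int.negSucc 0, Int.ofNat 3, Int.negSucc 0],
  [Int.ofNat 3, Int.ofNat 1, Int.ofNat 1, Int.negSucc 0, Int.ofNat 1, Int.negSucc 0, Int.negSucc 0, Int.negSucc 0, Int.ofNat 1, Int.negSucc 0, Int.negSucc 0, Int.negSucc 0, Int.ofNat 1, Int.negSucc 0, Int.ofNat 1, Int.ofNat 1, Int.ofNat 1, Int.ofNat 1, Int.negSucc 0, Int.ofNat 1, Int.ofNat 1, Int.ofNat 1, Int.negSucc 0, Int.negSucc 0],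
  [Int.negSucc 0, Int.ofNat 1, Int.ofNat 1, Int.negSucc 0, Int.ofNat 1, Int.negSucc 0, Int.negSucc 0, Int.negSucc 0, Int.ofNat 1, Int.negSucc 0, Int.negSucc 0, Int.negSucc 0, Int.ofNat 1, Int.negSucc 0, Int.ofNat 1, Int.ofNat 1, Int.ofNat 1, Int.ofNat 1, Int.negSucc 0, Int.ofNat 1, Int.ofNat 1, Int.ofNat 1, Int.negSucc 0, Int.ofNat 3],
  [Int.negSucc 0, Int.ofNat 1, Int.negSucc 0, Int.negSucc 0, Int.negSucc 0, Int.ofNat 1, Int.negSucc 0, Int.negSucc 0, Int.negSucc 0, Int.ofNat 1, Int.negSucc 0, Int.ofNat 1, Int.ofNat 1, Int.ofNat 1, Int.ofNat 1, Int.negSucc 0, Int.ofNat 1, Int.ofNat 1, Int.ofNat 1, Int.negSucc 0, Int.negSucc 0, Int.ofNat 1, Int.ofNat 1, Int.ofNat 3],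
  [Int.ofNat 2, Int.ofNat 0, Int.ofNat 2, Int.negSucc 1, Int.negSucc 1, Int.ofNat 0, Int.ofNat 0, Int.ofNat 0, Int.negSucc 1, Int.ofNat 2, Int.ofNat 0, Int.ofNat 0, Int.ofNat 0, Int.ofNat 0, Int.ofNat 0, Int.ofNat 0, Int.ofNat 0, Int.ofNat 0, Int.ofNat 0, Int.ofNat 0, Int.ofNat 0, Int.ofNat 2, Int.ofNat 0, Int.negSucc 1],
  [Int.ofNat 2, Int.ofNat 0, Int.negSucc 1, Int.negSucc 1, Int.ofNat 0, Int.ofNat 0, Int.ofNat 2, Int.ofNat 0, Int.ofNat 0, Int.ofNat 0, Int.ofNat 0, Int.ofNat 0, Int.ofNat 2, Int.ofNat 0, Int.ofNat 0, Int.ofNat 0, Int.negSucc 1, Int.ofNat 0, Int.ofNat 0, Int.ofNat 0, Int.ofNat 2, Int.ofNat 0, Int.ofNat 0, Int.negSucc 1],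
  [Int.negSucc 2, Int.negSucc 0, Int.ofNat 1, Int.negSucc 0, Int.ofNat 1, Int.ofNat 1, Int.ofNat 1, Int.negSucc 0, Int.negSucc 0, Int.negSucc 0, Int.negSucc 0, Int.negSucc 0, Int.ofNat 1, Int.ofNat 1, Int.ofNat 1, Int.negSucc 0, Int.negSucc 0, Int.ofNat 1, Int.negSucc 0, Int.negSucc 0, Int.ofNat 1, Int.negSucc 0, Int.ofNat 1, Int.ofNat 1],
  [Int.negSucc 2, Int.negSucc 0, Int.negSucc 0, Int.negSucc 0, Int.ofNat 1, Int.negSucc 0, Int.negSucc 0, Int.negSucc 0, Int.negSucc 0, Int.ofNat 1, Int.ofNat 1, Int.negSucc 0, Int.ofNat 1, Int.ofNat 1, Int.ofNat 1, Int.ofNat 1, Int.negSucc 0, Int.ofNat 1, Int.ofNat 1, Int.negSucc 0, Int.ofNat 1, Int.negSucc 0, Int.negSucc 0, Int.ofNat 1],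
  [Int.ofNat 1, Int.ofNat 1, Int.ofNat 1, Int.ofNat 1, Int.negSucc 0, Int.negSucc 0, Int.negSucc 0, Int.ofNat 1, Int.negSucc 0, Int.negSucc 0, Int.negSucc 0, Int.ofNat 1, Int.ofNat 1, Int.negSucc 0, Int.negSucc 2, Int.negSucc 0, Int.ofNat 1, Int.negSucc 0, Int.negSucc 0, Int.ofNat 1, Int.negSucc 0, Int.negSucc 0, Int.ofNat 1, Int.ofNat 1],
  [Int.ofNat 1, Int.ofNat 1, Int.negSucc 0, Int.ofNat 1, Int.negSucc 0, Int.ofNat 1, Int.ofNat 1, Int.ofNat 1, Int.negSucc 0, Int.ofNat 1, Int.ofNat 1, Int.ofNat 1, Int.ofNat 1, Int.negSucc 0, Int.negSucc 2, Int.ofNat 1, Int.ofNat 1, Int.negSucc 0, Int.ofNat 1, Int.ofNat 1, Int.negSucc 0, Int.negSucc 0, Int.negSucc 0, Int.ofNat 1],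
  [Int.ofNat 0, Int.ofNat 0, Int.ofNat 2, Int.ofNat 2, Int.ofNat 0, Int.ofNat 2, Int.ofNat 0, Int.ofNat 0, Int.negSucc 1, Int.ofNat 0, Int.ofNat 0, Int.ofNat 0, Int.ofNat 0, Int.ofNat 0, Int.negSucc 1, Int.ofNat 0, Int.ofNat 2, Int.ofNat 0, Int.ofNat 0, Int.ofNat 0, Int.negSucc 1, Int.negSucc 1, Int.ofNat 0, Int.ofNat 0],
  [Int.ofNat 0, Int.ofNat 0, Int.ofNat 0, Int.ofNat 2, Int.ofNat 2, Int.negSucc 1, Int.ofNat 0, Int.ofNat 2, Int.ofNat 2, Int.ofNat 0, Int.ofNat 0, Int.ofNat 0, Int.negSucc 1, Int.ofNat 0, Int.ofNat 0, Int.ofNat 0, Int.ofNat 0, Int.ofNat 0, Int.ofNat 0, Int.ofNat 0, Int.ofNat 0, Int.negSucc 1, Int.negSucc 1, Int.ofNat 0],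
  [Int.ofNat 0, Int.ofNat 0, Int.ofNat 0, Int.ofNat 2, Int.ofNat 2, Int.negSucc 1, Int.ofNat 0, Int.ofNat 2, Int.ofNat 2, Int.ofNat 0, Int.ofNat 0, Int.ofNat 0, Int.negSucc 1, Int.ofNat 0, Int.ofNat 0, Int.ofNat 0, Int.ofNat 0, Int.ofNat 0, Int.ofNat 0, Int.ofNat 0, Int.ofNat 0, Int.negSucc 1, Int.negSucc 1, Int.ofNat 0],
  [Int.ofNat 0, Int.negSucc 1, Int.negSucc 1, Int.ofNat 0, Int.ofNat 0, Int.ofNat 0, Int.ofNat 2, Int.ofNat 2, Int.negSucc 1, Int.ofNat 0, Int.ofNat 2, Int.ofNat 2, Int.ofNat 0, Int.ofNat 0, Int.ofNat 0, Int.negSucc 1, Int.ofNat 0, Int.ofNat 0, Int.ofNat 0, Int.ofNat 0, Int.ofNat 0, Int.ofNat 0, Int.ofNat 0, Int.ofNat 0],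
  [Int.negSucc 1, Int.ofNat 0, Int.ofNat 0, Int.ofNat 0, Int.ofNat 0, Int.ofNat 0, Int.ofNat 0, Int.ofNat 0, Int.negSucc 1, Int.ofNat 0, Int.ofNat 2, Int.ofNat 2, Int.ofNat 0, Int.ofNat 0, Int.ofNat 0, Int.negSucc 1, Int.ofNat 0, Int.ofNat 0, Int.ofNat 0, Int.negSucc 1, Int.ofNat 0, Int.negSucc 1, Int.ofNat 0, Int.negSucc 1],
  [Int.ofNat 0, Int.ofNat 0, Int.ofNat 0, Int.ofNat 0, Int.ofNat 0, Int.ofNat 0, Int.ofNat 0, Int.negSucc 1, Int.ofNat 0, Int.ofNat 2, Int.ofNat 2, Int.ofNat 0, Int.ofNat 0, Int.ofNat 0, Int.negSucc 1, Int.ofNat 0, Int.ofNat 0, Int.ofNat 0, Int.negSucc 1, Int.ofNat 0, Int.negSucc 1, Int.ofNat 0, Int.negSucc 1, Int.negSucc 1],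
  [Int.ofNat 0, Int.ofNat 0, Int.ofNat 0, Int.ofNat 0, Int.ofNat 0, Int.ofNat 0, Int.ofNat 0, Int.ofNat 2, Int.ofNat 0, Int.negSucc 1, Int.negSucc 1, Int.ofNat 0, Int.ofNat 0, Int.ofNat 0, Int.negSucc 1, Int.ofNat 0, Int.ofNat 0, Int.ofNat 0, Int.ofNat 2, Int.ofNat 0, Int.negSucc 1, Int.ofNat 0, Int.negSucc 1, Int.negSucc 1],
  [Int.ofNat 0, Int.ofNat 0, Int.ofNat 0, Int.ofNat 0, Int.ofNat 0, Int.ofNat 0, Int.ofNat 0, Int.ofNat 2, Int.ofNat 0, Int.ofNat 2, Int.negSucc 1, Int.ofNat 0, Int.ofNat 0, Int.ofNat 0, Int.negSucc 1, Int.ofNat 0, Int.ofNat 0, Int.ofNat 0, Int.negSucc 1, Int.ofNat 0, Int.negSucc 1, Int.ofNat 0, Int.negSucc 1, Int.negSucc 1],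
  [Int.ofNat 0, Int.ofNat 0, Int.negSucc 1, Int.ofNat 0, Int.ofNat 0, Int.negSucc 1, Int.ofNat 0, Int.negSucc 1, Int.ofNat 2, Int.ofNat 0, Int.ofNat 0, Int.negSucc 1, Int.ofNat 0, Int.ofNat 0, Int.ofNat 0, Int.ofNat 0, Int.ofNat 0, Int.negSucc 1, Int.ofNat 0, Int.ofNat 0, Int.ofNat 0, Int.ofNat 2, Int.ofNat 0, Int.negSucc 1],
  [Int.ofNat 0, Int.ofNat 0, Int.ofNat 2, Int.ofNat 0, Int.ofNat 0, Int.negSucc 1, Int.ofNat 0, Int.ofNat 2, Int.ofNat 2, Int.ofNat 0, Int.ofNat 0, Int.ofNat 2, Int.ofNat 0, Int.ofNat 0, Int.ofNat 0, Int.ofNat 0, Int.ofNat 0, Int.negSucc 1, Int.ofNat 0, Int.ofNat 0, Int.ofNat 0, Int.negSucc 1, Int.ofNat 0, Int.negSucc 1],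
  [Int.ofNat 0, Int.ofNat 0, Int.ofNat 0, Int.ofNat 2, Int.ofNat 0, Int.ofNat 0, Int.negSucc 1, Int.ofNat 0, Int.ofNat 2, Int.ofNat 2, Int.ofNat 0, Int.ofNat 0, Int.ofNat 2, Int.ofNat 0, Int.ofNat 0, Int.ofNat 0, Int.ofNat 0, Int.ofNat 0, Int.negSucc 1, Int.ofNat 0, Int.ofNat 0, Int.ofNat 0, Int.negSucc 1, Int.negSucc 1],
  [Int.negSucc 0, Int.negSucc 0, Int.negSucc 0, Int.ofNat 1, Int.ofNat 1, Int.negSucc 0, Int.negSucc 0, Int.ofNat 1, Int.ofNat 1, Int.ofNat 1, Int.negSucc 0, Int.negSucc 0, Int.ofNat 1, Int.ofNat 1, Int.negSucc 0, Int.negSucc 0, Int.ofNat 1, Int.negSucc 0, Int.negSucc 2, Int.ofNat 1, Int.negSucc 0, Int.ofNat 1, Int.negSucc 0, Int.ofNat 1],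
  [Int.ofNat 1, Int.ofNat 1, Int.negSucc 0, Int.negSucc 0, Int.ofNat 1, Int.ofNat 1, Int.ofNat 1, Int.negSucc 0, Int.negSucc 0, Int.ofNat 1, Int.ofNat 1, Int.negSucc 0, Int.negSucc 0, Int.ofNat 1, Int.negSucc 0, Int.negSucc 2, Int.ofNat 1, Int.negSucc 0, Int.ofNat 1, Int.negSucc 0, Int.negSucc 0, Int.negSucc 0, Int.negSucc 0, Int.ofNat 1],
  [Int.ofNat 0, Int.ofNat 0, Int.ofNat 2, Int.ofNat 0, Int.ofNat 0, Int.ofNat 2, Int.ofNat 2, Int.ofNat 0, Int.ofNat 0, Int.ofNat 2, Int.ofNat 2, Int.ofNat 0, Int.ofNat 0, Int.ofNat 0, Int.ofNat 0, Int.negSucc 1, Int.ofNat 0, Int.ofNat 0, Int.ofNat 2, Int.ofNat 0, Int.ofNat 0, Int.ofNat 0, Int.negSucc 1, Int.ofNat 0],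
  [Int.ofNat 0, Int.ofNat 2, Int.ofNat 0, Int.ofNat 0, Int.ofNat 2, Int.ofNat 0, Int.ofNat 2, Int.ofNat 2, Int.ofNat 0, Int.ofNat 0, Int.ofNat 0, Int.ofNat 0, Int.ofNat 2, Int.ofNat 0, Int.negSucc 1, Int.negSucc 1, Int.ofNat 0, Int.ofNat 0, Int.ofNat 0, Int.ofNat 0, Int.ofNat 0, Int.ofNat 2, Int.ofNat 0, Int.ofNat 0],
  [Int.ofNat 1, Int.negSucc 0, Int.ofNat 1, Int.ofNat 1, Int.ofNat 1, Int.ofNat 1, Int.negSucc 0, Int.negSucc 0, Int.negSucc 0, Int.ofNat 1, Int.ofNat 1, Int.negSucc 0, Int.ofNat 1, Int.negSucc 0, Int.negSucc 0, Int.negSucc 0, Int.negSucc 0, Int.ofNat 1, Int.negSucc 0, Int.negSucc 2, Int.ofNat 1, Int.negSucc 0, Int.negSucc 0, Int.ofNat 1],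
  [Int.ofNat 1, Int.negSucc 0, Int.negSucc 0, Int.ofNat 1, Int.ofNat 1, Int.negSucc 0, Int.ofNat 1, Int.negSucc 0, Int.negSucc 0, Int.negSucc 0, Int.negSucc 0, Int.negSucc 0, Int.ofNat 1, Int.negSucc 0, Int.negSucc 0, Int.ofNat 1, Int.negSucc 0, Int.ofNat 1, Int.ofNat 1, Int.negSucc 2, Int.ofNat 1, Int.negSucc 0, Int.ofNat 1, Int.ofNat 1],
  [Int.negSucc 0, Int.negSucc 0, Int.negSucc 0, Int.negSucc 0, Int.negSucc 0, Int.ofNat 1, Int.negSucc 0, Int.ofNat 1, Int.negSucc 0, Int.ofNat 1, Int.negSucc 0, Int.negSucc 0, Int.ofNat 1, Int.ofNat 1, Int.ofNat 1, Int.ofNat 1, Int.negSucc 2, Int.ofNat 1, Int.negSucc 0, Int.negSucc 0, Int.ofNat 1, Int.negSucc 0, Int.ofNat 1, Int.ofNat 1],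
  [Int.ofNat 1, Int.ofNat 1, Int.negSucc 0, Int.ofNat 1, Int.ofNat 1, Int.ofNat 1, Int.negSucc 0, Int.ofNat 1, Int.ofNat 1, Int.ofNat 1, Int.negSucc 2, Int.negSucc 0, Int.negSucc 0, Int.ofNat 1, Int.negSucc 0, Int.negSucc 0, Int.negSucc 0, Int.negSucc 0, Int.ofNat 1, Int.negSucc 0, Int.negSucc 0, Int.ofNat 1, Int.negSucc 0, Int.negSucc 0],
  [Int.negSucc 0, Int.ofNat 1, Int.ofNat 1, Int.ofNat 1, Int.ofNat 1, Int.ofNat 1, Int.negSucc 0, Int.negSucc 0, Int.ofNat 1, Int.negSucc 0, Int.ofNat 3, Int.ofNat 1, Int.negSucc 0, Int.ofNat 1, Int.negSucc 0, Int.negSucc 0, Int.negSucc 0, Int.negSucc 0, Int.negSucc 0, Int.negSucc 0, Int.negSucc 0, Int.negSucc 0, Int.negSucc 0, Int.negSucc 0],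
  [Int.negSucc 0, Int.negSucc 0, Int.ofNat 1, Int.ofNat 1, Int.ofNat 1, Int.ofNat 1, Int.ofNat 1, Int.negSucc 0, Int.negSucc 0, Int.ofNat 1, Int.negSucc 0, Int.ofNat 3, Int.ofNat 1, Int.negSucc 0, Int.ofNat 1, Int.negSucc 0, Int.negSucc 0, Int.negSucc 0, Int.negSucc 0, Int.negSucc 0, Int.negSucc 0, Int.negSucc 0, Int.negSucc 0, Int.negSucc 0],
  [Int.ofNat 0, Int.ofNat 0, Int.negSucc 1, Int.ofNat 0, Int.ofNat 2, Int.ofNat 0, Int.ofNat 2, Int.ofNat 0, Int.negSucc 1, Int.ofNat 2, Int.ofNat 0, Int.ofNat 2, Int.ofNat 0, Int.ofNat 0, Int.ofNat 0, Int.ofNat 0, Int.ofNat 0, Int.negSucc 1, Int.negSucc 1, Int.ofNat 0, Int.ofNat 0, Int.ofNat 0, Int.ofNat 0, Int.ofNat 0],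
  [Int.ofNat 0, Int.ofNat 2, Int.ofNat 0, Int.ofNat 2, Int.ofNat 0, Int.negSucc 1, Int.ofNat 2, Int.ofNat 0, Int.ofNat 2, Int.ofNat 0, Int.ofNat 0, Int.ofNat 0, Int.ofNat 0, Int.ofNat 0, Int.negSucc 1, Int.negSucc 1, Int.ofNat 0, Int.ofNat 0, Int.ofNat 0, Int.ofNat 0, Int.ofNat 0, Int.ofNat 0, Int.negSucc 1, Int.ofNat 0],
  [Int.ofNat 1, Int.negSucc 0, Int.ofNat 1, Int.ofNat 3, Int.ofNat 1, Int.negSucc 0, Int.ofNat 1, Int.negSucc 0, Int.ofNat 1, Int.ofNat 1, Int.ofNat 1, Int.negSucc 0, Int.negSucc 0, Int.ofNat 1, Int.negSucc 0, Int.negSucc 0, Int.ofNat 1, Int.ofNat 1, Int.negSucc 0, Int.negSucc 0, Int.ofNat 1, Int.negSucc 0, Int.negSucc 0, Int.ofNat 1],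
  [Int.ofNat 1, Int.ofNat 1, Int.ofNat 1, Int.ofNat 3, Int.negSucc 0, Int.negSucc 0, Int.ofNat 1, Int.ofNat 1, Int.negSucc 0, Int.ofNat 1, Int.ofNat 1, Int.ofNat 1, Int.ofNat 1, Int.ofNat 1, Int.negSucc 0, Int.negSucc 0, Int.ofNat 1, Int.negSucc 0, Int.negSucc 0, Int.negSucc 0, Int.negSucc 0, Int.negSucc 0, Int.negSucc 0, Int.ofNat 1],
  [Int.ofNat 1, Int.ofNat 1, Int.ofNat 1, Int.ofNat 3, Int.negSucc 0, Int.negSucc 0, Int.ofNat 1, Int.ofNat 1, Int.negSucc 0, Int.ofNat 1, Int.ofNat 1, Int.ofNat 1, Int.ofNat 1, Int.ofNat 1, Int.negSucc 0, Int.negSucc 0, Int.ofNat 1, Int.negSucc 0, Int.negSucc 0, Int.negSucc 0, Int.negSucc 0, Int.negSucc 0, Int.negSucc 0, Int.ofNat 1],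
  [Int.ofNat 1, Int.ofNat 1, Int.negSucc 0, Int.ofNat 3, Int.negSucc 0, Int.ofNat 1, Int.negSucc 0, Int.ofNat 1, Int.negSucc 0, Int.negSucc 0, Int.negSucc 0, Int.ofNat 1, Int.ofNat 1, Int.ofNat 1, Int.negSucc 0, Int.ofNat 1, Int.ofNat 1, Int.negSucc 0, Int.ofNat 1, Int.negSucc 0, Int.negSucc 0, Int.negSucc 0, Int.ofNat 1, Int.ofNat 1],
  [Int.negSucc 0, Int.negSucc 0, Int.ofNat 1, Int.negSucc 0, Int.negSucc 0, Int.ofNat 1, Int.ofNat 1, Int.negSucc 0, Int.negSucc 0, Int.ofNat 1, Int.negSucc 0, Int.negSucc 0, Int.ofNat 1, Int.negSucc 0, Int.ofNat 1, Int.negSucc 0, Int.ofNat 1, Int.ofNat 3, Int.ofNat 1, Int.negSucc 0, Int.ofNat 1, Int.ofNat 1, Int.ofNat 1, Int.ofNat 1],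
  [Int.negSucc 0, Int.negSucc 0, Int.negSucc 0, Int.negSucc 0, Int.negSucc 0, Int.negSucc 0, Int.negSucc 0, Int.negSucc 0, Int.negSucc 0, Int.negSucc 0, Int.ofNat 1, Int.negSucc 0, Int.ofNat 1, Int.negSucc 0, Int.ofNat 1, Int.ofNat 1, Int.ofNat 1, Int.ofNat 3, Int.negSucc 0, Int.negSucc 0, Int.ofNat 1, Int.ofNat 1, Int.negSucc 0, Int.ofNat 1],
  [Int.ofNat 0, Int.ofNat 0, Int.ofNat 0, Int.negSucc 1, Int.ofNat 0, Int.negSucc 1, Int.ofNat 0, Int.ofNat 0, Int.ofNat 0, Int.negSucc 1, Int.ofNat 0, Int.ofNat 0, Int.ofNat 2, Int.ofNat 0, Int.ofNat 0, Int.ofNat 0, Int.ofNat 2, Int.ofNat 2, Int.ofNat 0, Int.ofNat 0, Int.ofNat 0, Int.ofNat 2, Int.ofNat 0, Int.negSucc 1],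
  [Int.ofNat 0, Int.ofNat 0, Int.ofNat 0, Int.negSucc 1, Int.ofNat 0, Int.ofNat 2, Int.ofNat 0, Int.negSucc 1, Int.ofNat 2, Int.ofNat 2, Int.ofNat 0, Int.ofNat 0, Int.ofNat 0, Int.negSucc 1, Int.ofNat 2, Int.ofNat 0, Int.ofNat 0, Int.ofNat 0, Int.ofNat 0, Int.ofNat 0, Int.ofNat 0, Int.ofNat 0, Int.ofNat 0, Int.negSucc 1],
  [Int.negSucc 0, Int.negSucc 0, Int.negSucc 0, Int.negSucc 2, Int.ofNat 1, Int.ofNat 1, Int.ofNat 1, Int.negSucc 0, Int.ofNat 1, Int.ofNat 1, Int.negSucc 0, Int.negSucc 0, Int.negSucc 0, Int.negSucc 0, Int.ofNat 1, Int.negSucc 0, Int.ofNat 1, Int.negSucc 0, Int.negSucc 0, Int.ofNat 1, Int.negSucc 0, Int.ofNat 1, Int.ofNat 1, Int.ofNat 1],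
  [Int.negSucc 0, Int.ofNat 1, Int.ofNat 1, Int.negSucc 0, Int.negSucc 0, Int.negSucc 0, Int.negSucc 2, Int.ofNat 1, Int.ofNat 1, Int.ofNat 1, Int.negSucc 0, Int.ofNat 1, Int.ofNat 1, Int.negSucc 0, Int.negSucc 0, Int.negSucc 0, Int.negSucc 0, Int.ofNat 1, Int.negSucc 0, Int.ofNat 1, Int.negSucc 0, Int.negSucc 0, Int.ofNat 1, Int.ofNat 1],
  [Int.ofNat 2, Int.ofNat 0, Int.ofNat 0, Int.ofNat 0, Int.ofNat 0, Int.ofNat 0, Int.negSucc 1, Int.ofNat 2, Int.ofNat 0, Int.ofNat 2, Int.ofNat 0, Int.ofNat 0, Int.ofNat 0, Int.ofNat 0, Int.ofNat 0, Int.ofNat 0, Int.ofNat 0, Int.ofNat 2, Int.negSucc 1, Int.ofNat 2, Int.ofNat 0, Int.ofNat 0, Int.ofNat 2, Int.ofNat 0],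
  [Int.ofNat 0, Int.ofNat 0, Int.ofNat 0, Int.ofNat 0, Int.ofNat 0, Int.negSucc 1, Int.ofNat 2, Int.ofNat 0, Int.ofNat 2, Int.ofNat 0, Int.ofNat 0, Int.ofNat 0, Int.ofNat 0, Int.ofNat 0, Int.ofNat 0, Int.ofNat 0, Int.ofNat 2, Int.negSucc 1, Int.ofNat 2, Int.ofNat 0, Int.ofNat 0, Int.ofNat 2, Int.ofNat 2, Int.ofNat 0],
  [Int.ofNat 0, Int.ofNat 0, Int.ofNat 0, Int.ofNat 0, Int.ofNat 0, Int.negSucc 1, Int.ofNat 2, Int.ofNat 0, Int.ofNat 2, Int.ofNat 0, Int.ofNat 0, Int.ofNat 0, Int.ofNat 0, Int.ofNat 0, Int.ofNat 0, Int.ofNat 0, Int.ofNat 2, Int.negSucc 1, Int.negSucc 1, Int.ofNat 0, Int.ofNat 0, Int.negSucc 1, Int.ofNat 2, Int.ofNat 0],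
  [Int.ofNat 0, Int.ofNat 0, Int.ofNat 0, Int.ofNat 0, Int.ofNat 0, Int.negSucc 1, Int.negSucc 1, Int.ofNat 0, Int.negSucc 1, Int.ofNat 0, Int.ofNat 0, Int.ofNat 0, Int.ofNat 0, Int.ofNat 0, Int.ofNat 0, Int.ofNat 0, Int.negSucc 1, Int.negSucc 1, Int.ofNat 2, Int.ofNat 0, Int.ofNat 0, Int.negSucc 1, Int.ofNat 2, Int.ofNat 0],
  [Int.ofNat 0, Int.ofNat 0, Int.ofNat 2, Int.ofNat 0, Int.ofNat 0, Int.ofNat 0, Int.ofNat 0, Int.ofNat 0, Int.ofNat 0, Int.negSucc 1, Int.negSucc 1, Int.ofNat 0, Int.ofNat 0, Int.negSucc 1, Int.ofNat 0, Int.ofNat 0, Int.ofNat 0, Int.ofNat 2, Int.negSucc 1, Int.negSucc 1, Int.negSucc 1, Int.ofNat 0, Int.ofNat 0, Int.ofNat 0],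
  [Int.ofNat 0, Int.ofNat 0, Int.negSucc 1, Int.ofNat 0, Int.ofNat 0, Int.ofNat 0, Int.ofNat 0, Int.ofNat 0, Int.ofNat 0, Int.ofNat 2, Int.ofNat 2, Int.ofNat 0, Int.ofNat 0, Int.negSucc 1, Int.ofNat 0, Int.ofNat 0, Int.ofNat 0, Int.ofNat 2, Int.ofNat 2, Int.negSucc 1, Int.negSucc 1, Int.ofNat 0, Int.ofNat 0, Int.ofNat 0],
  [Int.ofNat 0, Int.ofNat 0, Int.ofNat 0, Int.negSucc 1, Int.ofNat 0, Int.ofNat 0, Int.ofNat 0, Int.ofNat 0, Int.ofNat 0, Int.ofNat 0, Int.ofNat 2, Int.ofNat 2, Int.ofNat 0, Int.ofNat 0, Int.negSucc 1, Int.ofNat 0, Int.ofNat 0, Int.ofNat 0, Int.ofNat 2, Int.ofNat 2, Int.negSucc 1, Int.negSucc 1, Int.ofNat 0, Int.ofNat 0],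
  [Int.ofNat 0, Int.ofNat 0, Int.ofNat 0, Int.ofNat 0, Int.ofNat 0, Int.ofNat 2, Int.ofNat 0, Int.ofNat 0, Int.negSucc 1, Int.ofNat 0, Int.ofNat 2, Int.ofNat 0, Int.negSucc 1, Int.ofNat 0, Int.ofNat 0, Int.ofNat 0, Int.ofNat 0, Int.ofNat 2, Int.ofNat 0, Int.ofNat 2, Int.negSucc 1, Int.negSucc 1, Int.ofNat 0, Int.ofNat 0],
  [Int.ofNat 0, Int.ofNat 0, Int.ofNat 2, Int.ofNat 0, Int.ofNat 0, Int.negSucc 1, Int.ofNat 0, Int.ofNat 2, Int.ofNat 0, Int.negSucc 1, Int.ofNat 0, Int.ofNat 0, Int.ofNat 0, Int.ofNat 0, Int.ofNat 2, Int.ofNat 0, Int.ofNat 2, Int.negSucc 1, Int.negSucc 1, Int.ofNat 0, Int.ofNat 0, Int.ofNat 0, Int.ofNat 0, Int.ofNat 0],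
  [Int.ofNat 1, Int.ofNat 1, Int.negSucc 0, Int.ofNat 1, Int.negSucc 0, Int.negSucc 0, Int.negSucc 0, Int.ofNat 1, Int.ofNat 1, Int.negSucc 0, Int.ofNat 1, Int.ofNat 1, Int.ofNat 1, Int.negSucc 0, Int.ofNat 3, Int.ofNat 1, Int.ofNat 1, Int.negSucc 0, Int.negSucc 0, Int.negSucc 0, Int.ofNat 1, Int.negSucc 0, Int.negSucc 0, Int.ofNat 1],
  [Int.ofNat 1, Int.negSucc 0, Int.negSucc 0, Int.ofNat 1, Int.negSucc 0, Int.ofNat 1, Int.negSucc 0, Int.ofNat 1, Int.ofNat 1, Int.negSucc 0, Int.ofNat 1, Int.negSucc 0, Int.negSucc 0, Int.ofNat 1, Int.negSucc 0, Int.ofNat 1, Int.ofNat 1, Int.ofNat 3, Int.ofNat 1, Int.ofNat 1, Int.negSucc 0, Int.negSucc 0, Int.negSucc 0, Int.ofNat 1],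
  [Int.negSucc 0, Int.ofNat 1, Int.ofNat 1, Int.negSucc 0, Int.negSucc 0, Int.negSucc 0, Int.negSucc 0, Int.ofNat 1, Int.ofNat 1, Int.negSucc 0, Int.ofNat 1, Int.negSucc 0, Int.negSucc 0, Int.ofNat 1, Int.negSucc 2, Int.ofNat 1, Int.ofNat 1, Int.ofNat 1, Int.ofNat 1, Int.ofNat 1, Int.negSucc 0, Int.negSucc 0, Int.negSucc 0, Int.negSucc 0],
  [Int.negSucc 0, Int.ofNat 1, Int.negSucc 0, Int.negSucc 0, Int.negSucc 0, Int.ofNat 1, Int.ofNat 1, Int.ofNat 1, Int.ofNat 1, Int.ofNat 1, Int.negSucc 0, Int.negSucc 0, Int.negSucc 0, Int.ofNat 1, Int.negSucc 2, Int.negSucc 0, Int.ofNat 1, Int.ofNat 1, Int.negSucc 0, Int.ofNat 1, Int.negSucc 0, Int.negSucc 0, Int.ofNat 1, Int.negSucc 0],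
  [Int.negSucc 0, Int.ofNat 1, Int.negSucc 0, Int.ofNat 1, Int.negSucc 2, Int.ofNat 1, Int.negSucc 0, Int.negSucc 0, Int.ofNat 1, Int.negSucc 0, Int.ofNat 1, Int.ofNat 1, Int.negSucc 0, Int.negSucc 0, Int.ofNat 1, Int.negSucc 0, Int.ofNat 1, Int.negSucc 0, Int.ofNat 1, Int.negSucc 0, Int.negSucc 0, Int.ofNat 1, Int.ofNat 1, Int.negSucc 0],
  [Int.negSucc 0, Int.ofNat 1, Int.ofNat 1, Int.negSucc 0, Int.negSucc 0, Int.negSucc 0, Int.negSucc 0, Int.negSucc 0, Int.negSucc 0, Int.ofNat 1, Int.ofNat 1, Int.negSucc 0, Int.ofNat 1, Int.negSucc 0, Int.ofNat 1, Int.ofNat 1, Int.ofNat 1, Int.negSucc 2, Int.ofNat 1, Int.negSucc 0, Int.ofNat 1, Int.negSucc 0, Int.ofNat 1, Int.negSucc 0],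
  [Int.ofNat 1, Int.ofNat 1, Int.negSucc 0, Int.negSucc 0, Int.negSucc 0, Int.negSucc 0, Int.negSucc 0, Int.ofNat 1, Int.negSucc 0, Int.negSucc 0, Int.negSucc 0, Int.ofNat 1, Int.ofNat 1, Int.negSucc 0, Int.ofNat 1, Int.ofNat 1, Int.ofNat 1, Int.negSucc 2, Int.negSucc 0, Int.negSucc 0, Int.ofNat 1, Int.ofNat 1, Int.ofNat 1, Int.negSucc 0],
  [Int.ofNat 1, Int.ofNat 1, Int.ofNat 1, Int.negSucc 0, Int.negSucc 0, Int.negSucc 0, Int.negSucc 0, Int.negSucc 0, Int.ofNat 1, Int.negSucc 0, Int.negSucc 0, Int.negSucc 0, Int.ofNat 1, Int.ofNat 1, Int.negSucc 0, Int.ofNat 1, Int.ofNat 1, Int.ofNat 1, Int.negSucc 2, Int.negSucc 0, Int.negSucc 0, Int.ofNat 1, Int.ofNat 1, Int.negSucc 0],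
  [Int.ofNat 0, Int.ofNat 0, Int.ofNat 0, Int.ofNat 0, Int.negSucc 1, Int.ofNat 0, Int.ofNat 0, Int.ofNat 0, Int.ofNat 2, Int.ofNat 0, Int.ofNat 0, Int.ofNat 0, Int.ofNat 2, Int.ofNat 0, Int.ofNat 0, Int.ofNat 2, Int.ofNat 0, Int.ofNat 2, Int.negSucc 1, Int.ofNat 0, Int.ofNat 0, Int.ofNat 2, Int.ofNat 0, Int.ofNat 2],
  [Int.ofNat 0, Int.negSucc 1, Int.ofNat 0, Int.ofNat 0, Int.ofNat 0, Int.ofNat 2, Int.ofNat 0, Int.ofNat 0, Int.ofNat 0, Int.ofNat 2, Int.ofNat 0, Int.ofNat 0, Int.ofNat 2, Int.ofNat 0, Int.ofNat 2, Int.negSucc 1, Int.ofNat 0, Int.ofNat 0, Int.ofNat 2, Int.ofNat 0, Int.ofNat 0, Int.ofNat 0, Int.ofNat 0, Int.ofNat 2],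
  [Int.ofNat 0, Int.ofNat 2, Int.ofNat 0, Int.negSucc 1, Int.ofNat 0, Int.ofNat 0, Int.ofNat 0, Int.ofNat 0, Int.negSucc 1, Int.ofNat 2, Int.ofNat 0, Int.negSucc 1, Int.ofNat 0, Int.ofNat 0, Int.ofNat 0, Int.negSucc 1, Int.ofNat 0, Int.negSucc 1, Int.ofNat 0, Int.ofNat 0, Int.ofNat 0, Int.ofNat 0, Int.ofNat 0, Int.negSucc 1],
  [Int.ofNat 0, Int.ofNat 0, Int.ofNat 0, Int.negSucc 1, Int.ofNat 0, Int.ofNat 0, Int.ofNat 0, Int.ofNat 0, Int.ofNat 0, Int.ofNat 0, Int.ofNat 0, Int.negSucc 1, Int.ofNat 2, Int.ofNat 0, Int.ofNat 0, Int.negSucc 1, Int.negSucc 1, Int.ofNat 0, Int.ofNat 2, Int.negSucc 1, Int.ofNat 0, Int.ofNat 0, Int.ofNat 0, Int.negSucc 1],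
  [Int.negSucc 0, Int.negSucc 0, Int.negSucc 0, Int.negSucc 0, Int.ofNat 1, Int.ofNat 1, Int.ofNat 1, Int.ofNat 1, Int.negSucc 0, Int.ofNat 1, Int.ofNat 1, Int.negSucc 2, Int.ofNat 1, Int.ofNat 1, Int.ofNat 1, Int.negSucc 0, Int.negSucc 0, Int.ofNat 1, Int.ofNat 1, Int.negSucc 0, Int.ofNat 1, Int.ofNat 1, Int.ofNat 1, Int.ofNat 1],
  [Int.negSucc 0, Int.negSucc 0, Int.ofNat 1, Int.negSucc 0, Int.ofNat 1, Int.negSucc 0, Int.negSucc 0, Int.ofNat 1, Int.negSucc 0, Int.negSucc 0, Int.negSucc 0, Int.negSucc 2, Int.ofNat 1, Int.ofNat 1, Int.ofNat 1, Int.ofNat 1, Int.negSucc 0, Int.ofNat 1, Int.negSucc 0, Int.negSucc 0, Int.ofNat 1, Int.ofNat 1, Int.negSucc 0, Int.ofNat 1],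
  [Int.ofNat 1, Int.ofNat 1, Int.ofNat 1, Int.negSucc 0, Int.ofNat 1, Int.negSucc 0, Int.negSucc 0, Int.ofNat 1, Int.ofNat 1, Int.ofNat 1, Int.negSucc 0, Int.negSucc 0, Int.ofNat 1, Int.negSucc 0, Int.negSucc 0, Int.negSucc 0, Int.ofNat 1, Int.negSucc 0, Int.negSucc 0, Int.ofNat 1, Int.negSucc 2, Int.negSucc 0, Int.negSucc 0, Int.ofNat 1],
  [Int.ofNat 1, Int.ofNat 1, Int.negSucc 0, Int.negSucc 0, Int.ofNat 1, Int.ofNat 1, Int.ofNat 1, Int.ofNat 1, Int.ofNat 1, Int.negSucc 0, Int.ofNat 1, Int.negSucc 0, Int.ofNat 1, Int.negSucc 0, Int.negSucc 0, Int.ofNat 1, Int.ofNat 1, Int.negSucc 0, Int.ofNat 1, Int.ofNat 1, Int.negSucc 2, Int.negSucc 0, Int.ofNat 1, Int.ofNat 1],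
  [Int.ofNat 0, Int.ofNat 0, Int.ofNat 2, Int.ofNat 0, Int.ofNat 0, Int.ofNat 2, Int.ofNat 0, Int.ofNat 0, Int.ofNat 0, Int.ofNat 0, Int.ofNat 2, Int.negSucc 1, Int.ofNat 0, Int.negSucc 1, Int.ofNat 0, Int.ofNat 2, Int.ofNat 0, Int.ofNat 0, Int.ofNat 0, Int.ofNat 0, Int.negSucc 1, Int.negSucc 1, Int.ofNat 0, Int.ofNat 0],
  [Int.ofNat 0, Int.ofNat 0, Int.ofNat 0, Int.ofNat 0, Int.ofNat 2, Int.negSucc 1, Int.ofNat 0, Int.ofNat 2, Int.ofNat 0, Int.ofNat 0, Int.ofNat 0, Int.ofNat 0, Int.ofNat 0, Int.ofNat 0, Int.ofNat 0, Int.ofNat 2, Int.negSucc 1, Int.negSucc 1, Int.ofNat 0, Int.ofNat 0, Int.ofNat 2, Int.negSucc 1, Int.ofNat 0, Int.ofNat 0],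
  [Int.ofNat 0, Int.ofNat 0, Int.ofNat 0, Int.ofNat 2, Int.ofNat 2, Int.ofNat 0, Int.ofNat 0, Int.ofNat 2, Int.ofNat 0, Int.negSucc 1, Int.negSucc 1, Int.ofNat 0, Int.ofNat 0, Int.ofNat 0, Int.ofNat 2, Int.ofNat 0, Int.negSucc 1, Int.ofNat 0, Int.ofNat 0, Int.ofNat 0, Int.ofNat 0, Int.negSucc 1, Int.ofNat 0, Int.ofNat 0],
  [Int.ofNat 0, Int.negSucc 1, Int.ofNat 0, Int.ofNat 0, Int.ofNat 0, Int.ofNat 0, Int.ofNat 2, Int.ofNat 2, Int.ofNat 0, Int.ofNat 0, Int.ofNat 2, Int.ofNat 0, Int.negSucc 1, Int.negSucc 1, Int.ofNat 0, Int.ofNat 0, Int.ofNat 0, Int.ofNat 2, Int.ofNat 0, Int.negSucc 1, Int.ofNat 0, Int.ofNat 0, Int.ofNat 0, Int.ofNat 0],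
  [Int.negSucc 0, Int.ofNat 1, Int.negSucc 0, Int.negSucc 0, Int.ofNat 1, Int.negSucc 0, Int.ofNat 1, Int.ofNat 1, Int.ofNat 1, Int.negSucc 0, Int.ofNat 1, Int.ofNat 1, Int.negSucc 0, Int.negSucc 0, Int.negSucc 0, Int.negSucc 0, Int.ofNat 1, Int.ofNat 1, Int.ofNat 1, Int.negSucc 2, Int.negSucc 0, Int.negSucc 0, Int.ofNat 1, Int.negSucc 0],
  [Int.ofNat 1, Int.negSucc 0, Int.negSucc 0, Int.ofNat 1, Int.negSucc 0, Int.ofNat 1, Int.ofNat 1, Int.ofNat 1, Int.negSucc 0, Int.ofNat 1, Int.ofNat 1, Int.negSucc 0, Int.negSucc 0, Int.negSucc 0, Int.negSucc 0, Int.ofNat 1, Int.ofNat 1, Int.ofNat 1, Int.negSucc 2, Int.negSucc 0, Int.negSucc 0, Int.ofNat 1, Int.negSucc 0, Int.negSucc 0],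
  [Int.negSucc 0, Int.negSucc 0, Int.ofNat 1, Int.ofNat 1, Int.negSucc 0, Int.ofNat 1, Int.ofNat 1, Int.negSucc 0, Int.negSucc 0, Int.negSucc 0, Int.negSucc 0, Int.ofNat 1, Int.negSucc 0, Int.negSucc 0, Int.negSucc 0, Int.ofNat 1, Int.ofNat 1, Int.ofNat 1, Int.ofNat 3, Int.negSucc 0, Int.negSucc 0, Int.negSucc 0, Int.negSucc 0, Int.negSucc 0],
  [Int.ofNat 1, Int.ofNat 1, Int.negSucc 0, Int.negSucc 0, Int.ofNat 1, Int.ofNat 1, Int.negSucc 0, Int.negSucc 0, Int.ofNat 1, Int.ofNat 1, Int.negSucc 0, Int.ofNat 1, Int.ofNat 1, Int.ofNat 1, Int.negSucc 0, Int.ofNat 1, Int.negSucc 0, Int.ofNat 1, Int.negSucc 2, Int.negSucc 0, Int.negSucc 0, Int.negSucc 0, Int.negSucc 0, Int.negSucc 0],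
  [Int.ofNat 1, Int.negSucc 0, Int.negSucc 2, Int.negSucc 0, Int.ofNat 1, Int.negSucc 0, Int.ofNat 1, Int.negSucc 0, Int.ofNat 1, Int.negSucc 0, Int.negSucc 0, Int.negSucc 0, Int.ofNat 1, Int.ofNat 1, Int.negSucc 0, Int.ofNat 1, Int.ofNat 1, Int.negSucc 0, Int.negSucc 0, Int.ofNat 1, Int.ofNat 1, Int.negSucc 0, Int.ofNat 1, Int.negSucc 0],
  [Int.negSucc 0, Int.negSucc 0, Int.ofNat 3, Int.negSucc 0, Int.ofNat 1, Int.negSucc 0, Int.ofNat 1, Int.ofNat 1, Int.ofNat 1, Int.ofNat 1, Int.ofNat 1, Int.ofNat 1, Int.ofNat 1, Int.ofNat 1, Int.negSucc 0, Int.ofNat 1, Int.ofNat 1, Int.negSucc 0, Int.ofNat 1, Int.ofNat 1, Int.ofNat 1, Int.ofNat 1, Int.ofNat 1, Int.negSucc 0],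
  [Int.ofNat 1, Int.negSucc 0, Int.negSucc 0, Int.ofNat 3, Int.negSucc 0, Int.ofNat 1, Int.negSucc 0, Int.ofNat 1, Int.ofNat 1, Int.ofNat 1, Int.ofNat 1, Int.ofNat 1, Int.ofNat 1, Int.ofNat 1, Int.ofNat 1, Int.negSucc 0, Int.ofNat 1, Int.ofNat 1, Int.negSucc 0, Int.ofNat 1, Int.ofNat 1, Int.ofNat 1, Int.ofNat 1, Int.negSucc 0],
  [Int.negSucc 1, Int.ofNat 0, Int.ofNat 0, Int.ofNat 0, Int.negSucc 1, Int.negSucc 1, Int.negSucc 1, Int.ofNat 0, Int.ofNat 0, Int.ofNat 0, Int.ofNat 0, Int.ofNat 0, Int.ofNat 0, Int.ofNat 0, Int.negSucc 1, Int.negSucc 1, Int.ofNat 0, Int.negSucc 1, Int.negSucc 1, Int.ofNat 0, Int.ofNat 0, Int.ofNat 0, Int.ofNat 0, Int.ofNat 0],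
  [Int.ofNat 0, Int.negSucc 1, Int.negSucc 1, Int.negSucc 1, Int.ofNat 0, Int.ofNat 0, Int.ofNat 0, Int.ofNat 0, Int.ofNat 0, Int.ofNat 0, Int.ofNat 0, Int.negSucc 1, Int.negSucc 1, Int.ofNat 0, Int.negSucc 1, Int.negSucc 1, Int.ofNat 0, Int.ofNat 0, Int.ofNat 0, Int.ofNat 0, Int.negSucc 1, Int.ofNat 0, Int.ofNat 0, Int.ofNat 0],
  [Int.negSucc 1, Int.ofNat 0, Int.ofNat 0, Int.ofNat 0, Int.ofNat 0, Int.ofNat 2, Int.ofNat 0, Int.ofNat 0, Int.ofNat 2, Int.ofNat 2, Int.ofNat 2, Int.ofNat 0, Int.ofNat 0, Int.ofNat 0, Int.ofNat 0, Int.ofNat 0, Int.ofNat 0, Int.ofNat 2, Int.ofNat 2, Int.ofNat 0, Int.ofNat 0, Int.ofNat 0, Int.ofNat 0, Int.negSucc 1],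
  [Int.negSucc 1, Int.ofNat 0, Int.ofNat 0, Int.ofNat 0, Int.ofNat 2, Int.ofNat 0, Int.ofNat 0, Int.ofNat 2, Int.ofNat 0, Int.ofNat 0, Int.ofNat 0, Int.ofNat 2, Int.ofNat 2, Int.ofNat 0, Int.ofNat 0, Int.ofNat 0, Int.ofNat 2, Int.ofNat 0, Int.ofNat 0, Int.ofNat 0, Int.ofNat 0, Int.ofNat 2, Int.ofNat 0, Int.negSucc 1],
  [Int.ofNat 0, Int.negSucc 1, Int.negSucc 1, Int.ofNat 0, Int.ofNat 0, Int.ofNat 0, Int.negSucc 1, Int.ofNat 0, Int.negSucc 1, Int.ofNat 0, Int.ofNat 0, Int.ofNat 0, Int.ofNat 0, Int.negSucc 1, Int.ofNat 0, Int.ofNat 0, Int.ofNat 0, Int.ofNat 0, Int.negSucc 1, Int.negSucc 1, Int.ofNat 0, Int.ofNat 0, Int.negSucc 1, Int.ofNat 0],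
  [Int.ofNat 0, Int.negSucc 1, Int.ofNat 2, Int.ofNat 0, Int.ofNat 0, Int.ofNat 0, Int.ofNat 2, Int.ofNat 0, Int.negSucc 1, Int.ofNat 0, Int.ofNat 0, Int.ofNat 0, Int.ofNat 0, Int.negSucc 1, Int.ofNat 0, Int.ofNat 0, Int.ofNat 0, Int.ofNat 0, Int.ofNat 2, Int.negSucc 1, Int.ofNat 0, Int.ofNat 0, Int.ofNat 2, Int.ofNat 0],
  [Int.ofNat 0, Int.ofNat 0, Int.ofNat 0, Int.negSucc 1, Int.ofNat 0, Int.ofNat 2, Int.ofNat 0, Int.ofNat 0, Int.ofNat 0, Int.ofNat 0, Int.negSucc 1, Int.ofNat 0, Int.ofNat 0, Int.ofNat 0, Int.ofNat 0, Int.ofNat 2, Int.negSucc 1, Int.ofNat 0, Int.ofNat 0, Int.ofNat 2, Int.ofNat 0, Int.negSucc 1, Int.ofNat 2, Int.ofNat 0],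
  [Int.ofNat 0, Int.ofNat 2, Int.ofNat 0, Int.ofNat 2, Int.ofNat 0, Int.ofNat 0, Int.ofNat 2, Int.ofNat 0, Int.ofNat 0, Int.ofNat 2, Int.negSucc 1, Int.ofNat 0, Int.negSucc 1, Int.ofNat 0, Int.ofNat 0, Int.negSucc 1, Int.negSucc 1, Int.ofNat 0, Int.ofNat 0, Int.ofNat 0, Int.ofNat 0, Int.ofNat 0, Int.ofNat 0, Int.ofNat 0],
  [Int.ofNat 0, Int.ofNat 2, Int.ofNat 0, Int.ofNat 2, Int.ofNat 0, Int.ofNat 0, Int.ofNat 2, Int.ofNat 0, Int.ofNat 0, Int.negSucc 1, Int.ofNat 2, Int.ofNat 0, Int.negSucc 1, Int.ofNat 0, Int.ofNat 0, Int.negSucc 1, Int.negSucc 1, Int.ofNat 0, Int.ofNat 0, Int.ofNat 0, Int.ofNat 0, Int.ofNat 0, Int.ofNat 0, Int.ofNat 0],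
  [Int.ofNat 0, Int.ofNat 0, Int.ofNat 2, Int.ofNat 0, Int.ofNat 2, Int.ofNat 0, Int.ofNat 0, Int.ofNat 2, Int.ofNat 0, Int.ofNat 0, Int.negSucc 1, Int.ofNat 2, Int.ofNat 0, Int.negSucc 1, Int.ofNat 0, Int.ofNat 0, Int.negSucc 1, Int.negSucc 1, Int.ofNat 0, Int.ofNat 0, Int.ofNat 0, Int.ofNat 0, Int.ofNat 0, Int.ofNat 0],
  [Int.ofNat 1, Int.ofNat 1, Int.negSucc 0, Int.ofNat 1, Int.ofNat 3, Int.ofNat 1, Int.negSucc 0, Int.ofNat 1, Int.negSucc 0, Int.ofNat 1, Int.negSucc 0, Int.ofNat 1, Int.negSucc 0, Int.negSucc 0, Int.ofNat 1, Int.ofNat 1, Int.negSucc 0, Int.negSucc 0, Int.negSucc 0, Int.negSucc 0, Int.ofNat 1, Int.negSucc 0, Int.ofNat 1, Int.ofNat 1],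
  [Int.ofNat 1, Int.ofNat 3, Int.ofNat 1, Int.negSucc 0, Int.ofNat 1, Int.negSucc 0, Int.ofNat 1, Int.negSucc 0, Int.ofNat 1, Int.negSucc 0, Int.negSucc 0, Int.ofNat 1, Int.ofNat 1, Int.negSucc 0, Int.negSucc 0, Int.negSucc 0, Int.negSucc 0, Int.ofNat 1, Int.negSucc 0, Int.ofNat 1, Int.ofNat 1, Int.ofNat 1, Int.negSucc 0, Int.ofNat 1],
  [Int.ofNat 2, Int.ofNat 0, Int.ofNat 2, Int.ofNat 0, Int.ofNat 2, Int.ofNat 0, Int.ofNat 0, Int.negSucc 1, Int.ofNat 0, Int.ofNat 0, Int.ofNat 0, Int.ofNat 0, Int.ofNat 0, Int.ofNat 0, Int.ofNat 0, Int.ofNat 0, Int.ofNat 0, Int.ofNat 2, Int.negSucc 1, Int.ofNat 0, Int.ofNat 2, Int.ofNat 0, Int.ofNat 0, Int.ofNat 2],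
  [Int.ofNat 2, Int.ofNat 0, Int.ofNat 2, Int.ofNat 0, Int.negSucc 1, Int.negSucc 1, Int.ofNat 2, Int.ofNat 0, Int.ofNat 0, Int.ofNat 0, Int.ofNat 2, Int.ofNat 2, Int.ofNat 0, Int.ofNat 0, Int.ofNat 0, Int.ofNat 0, Int.ofNat 0, Int.ofNat 0, Int.ofNat 0, Int.ofNat 0, Int.ofNat 0, Int.ofNat 0, Int.ofNat 0, Int.ofNat 2],
  [Int.ofNat 1, Int.ofNat 3, Int.ofNat 1, Int.ofNat 1, Int.negSucc 0, Int.negSucc 0, Int.ofNat 1, Int.negSucc 0, Int.negSucc 0, Int.negSucc 0, Int.ofNat 1, Int.ofNat 1, Int.negSucc 0, Int.ofNat 1, Int.ofNat 1, Int.negSucc 0, Int.ofNat 1, Int.ofNat 1, Int.negSucc 0, Int.negSucc 0, Int.negSucc 0, Int.negSucc 0, Int.ofNat 1, Int.ofNat 1],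
  [Int.ofNat 1, Int.ofNat 3, Int.negSucc 0, Int.ofNat 1, Int.negSucc 0, Int.ofNat 1, Int.negSucc 0, Int.negSucc 0, Int.negSucc 0, Int.ofNat 1, Int.negSucc 0, Int.ofNat 1, Int.negSucc 0, Int.ofNat 1, Int.ofNat 1, Int.ofNat 1, Int.ofNat 1, Int.ofNat 1, Int.ofNat 1, Int.negSucc 0, Int.negSucc 0, Int.negSucc 0, Int.negSucc 0, Int.ofNat 1],
  [Int.negSucc 0, Int.ofNat 1, Int.ofNat 1, Int.negSucc 0, Int.negSucc 0, Int.ofNat 1, Int.ofNat 3, Int.ofNat 1, Int.negSucc 0, Int.negSucc 0, Int.negSucc 0, Int.ofNat 1, Int.ofNat 1, Int.negSucc 0, Int.ofNat 1, Int.negSucc 0, Int.negSucc 0, Int.ofNat 1, Int.ofNat 1, Int.negSucc 0, Int.ofNat 1, Int.negSucc 0, Int.ofNat 1, Int.ofNat 1],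
  [Int.negSucc 0, Int.ofNat 1, Int.negSucc 0, Int.negSucc 0, Int.negSucc 0, Int.negSucc 0, Int.negSucc 2, Int.ofNat 1, Int.negSucc 0, Int.ofNat 1, Int.ofNat 1, Int.ofNat 1, Int.ofNat 1, Int.negSucc 0, Int.ofNat 1, Int.ofNat 1, Int.negSucc 0, Int.ofNat 1, Int.negSucc 0, Int.negSucc 0, Int.ofNat 1, Int.negSucc 0, Int.negSucc 0, Int.ofNat 1],
  [Int.ofNat 1, Int.negSucc 0, Int.ofNat 1, Int.negSucc 0, Int.ofNat 1, Int.negSucc 0, Int.negSucc 0, Int.ofNat 3, Int.negSucc 0, Int.negSucc 0, Int.negSucc 0, Int.ofNat 1, Int.ofNat 1, Int.ofNat 1, Int.ofNat 1, Int.negSucc 0, Int.ofNat 1, Int.ofNat 1, Int.negSucc 0, Int.ofNat 1, Int.negSucc 0, Int.ofNat 1, Int.ofNat 1, Int.negSucc 0],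
  [Int.ofNat 1, Int.negSucc 0, Int.negSucc 0, Int.negSucc 0, Int.ofNat 1, Int.ofNat 1, Int.negSucc 0, Int.negSucc 0, Int.ofNat 1, Int.ofNat 1, Int.ofNat 3, Int.ofNat 1, Int.negSucc 0, Int.negSucc 0, Int.ofNat 1, Int.negSucc 0, Int.ofNat 1, Int.ofNat 1, Int.ofNat 1, Int.ofNat 1, Int.negSucc 0, Int.negSucc 0, Int.ofNat 1, Int.negSucc 0],
  [Int.negSucc 1, Int.ofNat 0, Int.ofNat 0, Int.negSucc 1, Int.ofNat 0, Int.ofNat 0, Int.ofNat 0, Int.ofNat 0, Int.ofNat 0, Int.ofNat 0, Int.ofNat 2, Int.ofNat 0, Int.negSucc 1, Int.negSucc 1, Int.ofNat 0, Int.negSucc 1, Int.ofNat 0, Int.ofNat 0, Int.ofNat 0, Int.ofNat 2, Int.negSucc 1, Int.ofNat 0, Int.ofNat 0, Int.ofNat 0],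
  [Int.negSucc 1, Int.ofNat 0, Int.ofNat 0, Int.negSucc 1, Int.ofNat 0, Int.ofNat 0, Int.negSucc 1, Int.ofNat 0, Int.ofNat 0, Int.ofNat 0, Int.ofNat 0, Int.ofNat 0, Int.ofNat 0, Int.ofNat 2, Int.ofNat 0, Int.negSucc 1, Int.negSucc 1, Int.ofNat 0, Int.negSucc 1, Int.ofNat 0, Int.ofNat 0, Int.ofNat 0, Int.ofNat 2, Int.ofNat 0],
  [Int.ofNat 1, Int.negSucc 0, Int.negSucc 0, Int.negSucc 0, Int.negSucc 0, Int.ofNat 1, Int.negSucc 0, Int.ofNat 1, Int.ofNat 1, Int.ofNat 1, Int.ofNat 1, Int.ofNat 1, Int.ofNat 1, Int.ofNat 1, Int.ofNat 1, Int.negSucc 0, Int.negSucc 2, Int.ofNat 1, Int.negSucc 0, Int.ofNat 1, Int.ofNat 1, Int.ofNat 1, Int.ofNat 1, Int.negSucc 0],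
  [Int.negSucc 0, Int.negSucc 0, Int.negSucc 0, Int.negSucc 0, Int.ofNat 1, Int.negSucc 0, Int.ofNat 1, Int.ofNat 1, Int.ofNat 1, Int.ofNat 1, Int.ofNat 1, Int.ofNat 1, Int.ofNat 1, Int.ofNat 1, Int.negSucc 0, Int.negSucc 2, Int.ofNat 1, Int.negSucc 0, Int.ofNat 1, Int.ofNat 1, Int.ofNat 1, Int.ofNat 1, Int.ofNat 1, Int.negSucc 0],
  [Int.ofNat 1, Int.negSucc 0, Int.ofNat 1, Int.negSucc 0, Int.ofNat 1, Int.negSucc 0, Int.ofNat 1, Int.negSucc 0, Int.ofNat 1, Int.negSucc 0, Int.negSucc 0, Int.negSucc 0, Int.ofNat 1, Int.ofNat 1, Int.negSucc 0, Int.negSucc 2, Int.ofNat 1, Int.negSucc 0, Int.negSucc 0, Int.ofNat 1, Int.ofNat 1, Int.negSucc 0, Int.ofNat 1, Int.negSucc 0],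
  [Int.negSucc 0, Int.ofNat 1, Int.negSucc 0, Int.ofNat 1, Int.negSucc 0, Int.negSucc 0, Int.negSucc 0, Int.negSucc 0, Int.negSucc 0, Int.ofNat 1, Int.negSucc 0, Int.negSucc 0, Int.negSucc 0, Int.negSucc 0, Int.negSucc 0, Int.negSucc 2, Int.negSucc 0, Int.negSucc 0, Int.ofNat 1, Int.ofNat 1, Int.ofNat 1, Int.negSucc 0, Int.ofNat 1, Int.negSucc 0],
  [Int.negSucc 0, Int.negSucc 0, Int.ofNat 1, Int.ofNat 1, Int.ofNat 1, Int.negSucc 0, Int.negSucc 0, Int.ofNat 1, Int.ofNat 1, Int.negSucc 0, Int.negSucc 0, Int.negSucc 0, Int.negSucc 0, Int.negSucc 0, Int.ofNat 1, Int.negSucc 2, Int.negSucc 0, Int.ofNat 1, Int.negSucc 0, Int.negSucc 0, Int.negSucc 0, Int.negSucc 0, Int.negSucc 0, Int.negSucc 0],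
  [Int.ofNat 1, Int.negSucc 0, Int.negSucc 0, Int.ofNat 1, Int.ofNat 1, Int.negSucc 0, Int.negSucc 0, Int.negSucc 0, Int.ofNat 1, Int.ofNat 1, Int.ofNat 1, Int.ofNat 1, Int.negSucc 0, Int.negSucc 0, Int.ofNat 1, Int.negSucc 2, Int.negSucc 0, Int.ofNat 1, Int.ofNat 1, Int.negSucc 0, Int.negSucc 0, Int.ofNat 1, Int.negSucc 0, Int.negSucc 0],
  [Int.negSucc 0, Int.ofNat 1, Int.negSucc 0, Int.negSucc 0, Int.ofNat 1, Int.ofNat 1, Int.negSucc 0, Int.negSucc 0, Int.negSucc 0, Int.ofNat 1, Int.ofNat 1, Int.ofNat 1, Int.ofNat 1, Int.negSucc 0, Int.negSucc 0, Int.ofNat 1, Int.negSucc 2, Int.negSucc 0, Int.ofNat 1, Int.ofNat 1, Int.negSucc 0, Int.negSucc 0, Int.ofNat 1, Int.negSucc 0],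
  [Int.ofNat 0, Int.negSucc 1, Int.ofNat 0, Int.ofNat 0, Int.ofNat 2, Int.ofNat 2, Int.ofNat 0, Int.ofNat 0, Int.negSucc 1, Int.ofNat 0, Int.ofNat 0, Int.ofNat 0, Int.ofNat 0, Int.ofNat 0, Int.ofNat 0, Int.ofNat 0, Int.negSucc 1, Int.ofNat 0, Int.ofNat 0, Int.ofNat 2, Int.negSucc 1, Int.ofNat 0, Int.ofNat 2, Int.ofNat 0],
  [Int.ofNat 0, Int.ofNat 2, Int.ofNat 2, Int.ofNat 0, Int.ofNat 0, Int.negSucc 1, Int.ofNat 0, Int.ofNat 0, Int.ofNat 0, Int.ofNat 0, Int.ofNat 0, Int.ofNat 0, Int.ofNat 0, Int.negSucc 1, Int.ofNat 0, Int.ofNat 0, Int.ofNat 2, Int.negSucc 1, Int.ofNat 0, Int.ofNat 2, Int.ofNat 0, Int.negSucc 1, Int.ofNat 0, Int.ofNat 0],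
  [Int.ofNat 2, Int.ofNat 0, Int.ofNat 0, Int.ofNat 2, Int.ofNat 0, Int.ofNat 0, Int.ofNat 0, Int.ofNat 0, Int.ofNat 0, Int.ofNat 0, Int.ofNat 0, Int.ofNat 0, Int.ofNat 0, Int.negSucc 1, Int.ofNat 2, Int.ofNat 0, Int.ofNat 2, Int.ofNat 0, Int.ofNat 0, Int.ofNat 2, Int.ofNat 0, Int.negSucc 1, Int.ofNat 0, Int.ofNat 2],
  [Int.ofNat 2, Int.ofNat 0, Int.ofNat 0, Int.ofNat 2, Int.ofNat 0, Int.ofNat 0, Int.ofNat 0, Int.ofNat 0, Int.ofNat 0, Int.negSucc 1, Int.ofNat 0, Int.ofNat 0, Int.ofNat 0, Int.ofNat 2, Int.ofNat 0, Int.ofNat 0, Int.ofNat 0, Int.ofNat 2, Int.ofNat 0, Int.ofNat 0, Int.negSucc 1, Int.ofNat 0, Int.ofNat 2, Int.ofNat 2],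
  [Int.ofNat 0, Int.ofNat 2, Int.ofNat 2, Int.ofNat 0, Int.negSucc 1, Int.negSucc 1, Int.ofNat 0, Int.ofNat 0, Int.ofNat 0, Int.ofNat 0, Int.ofNat 2, Int.ofNat 0, Int.ofNat 0, Int.ofNat 0, Int.negSucc 1, Int.ofNat 2, Int.negSucc 1, Int.ofNat 0, Int.ofNat 0, Int.ofNat 0, Int.ofNat 0, Int.ofNat 0, Int.ofNat 0, Int.ofNat 0],
  [Int.ofNat 0, Int.ofNat 2, Int.negSucc 1, Int.ofNat 0, Int.negSucc 1, Int.ofNat 2, Int.ofNat 0, Int.ofNat 0, Int.ofNat 0, Int.ofNat 0, Int.negSucc 1, Int.ofNat 0, Int.ofNat 0, Int.ofNat 0, Int.negSucc 1, Int.negSucc 1, Int.negSucc 1, Int.ofNat 0, Int.ofNat 0, Int.ofNat 0, Int.ofNat 0, Int.ofNat 0, Int.ofNat 0, Int.ofNat 0],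
  [Int.negSucc 1, Int.negSucc 1, Int.ofNat 0, Int.ofNat 0, Int.negSucc 1, Int.ofNat 0, Int.ofNat 0, Int.ofNat 0, Int.ofNat 2, Int.ofNat 0, Int.ofNat 0, Int.ofNat 0, Int.negSucc 1, Int.negSucc 1, Int.ofNat 0, Int.ofNat 0, Int.ofNat 0, Int.ofNat 0, Int.ofNat 0, Int.negSucc 1, Int.ofNat 0, Int.ofNat 2, Int.ofNat 0, Int.ofNat 0],
  [Int.ofNat 0, Int.ofNat 0, Int.ofNat 0, Int.ofNat 0, Int.ofNat 0, Int.ofNat 0, Int.negSucc 1, Int.negSucc 1, Int.ofNat 0, Int.ofNat 0, Int.ofNat 0, Int.ofNat 0, Int.ofNat 2, Int.ofNat 0, Int.ofNat 0, Int.ofNat 0, Int.ofNat 0, Int.negSucc 1, Int.ofNat 0, Int.ofNat 0, Int.ofNat 2, Int.negSucc 1, Int.negSucc 1, Int.negSucc 1],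
  [Int.ofNat 0, Int.ofNat 0, Int.ofNat 0, Int.ofNat 0, Int.ofNat 0, Int.ofNat 0, Int.negSucc 1, Int.ofNat 2, Int.ofNat 0, Int.ofNat 0, Int.ofNat 0, Int.ofNat 0, Int.ofNat 2, Int.ofNat 0, Int.ofNat 0, Int.ofNat 0, Int.ofNat 0, Int.negSucc 1, Int.ofNat 0, Int.ofNat 0, Int.ofNat 2, Int.ofNat 2, Int.negSucc 1, Int.negSucc 1],
  [Int.negSucc 1, Int.ofNat 0, Int.ofNat 0, Int.ofNat 0, Int.ofNat 0, Int.ofNat 0, Int.ofNat 0, Int.negSucc 1, Int.ofNat 2, Int.ofNat 0, Int.ofNat 0, Int.ofNat 0, Int.ofNat 0, Int.ofNat 2, Int.ofNat 0, Int.ofNat 0, Int.ofNat 0, Int.ofNat 0, Int.negSucc 1, Int.ofNat 0, Int.ofNat 0, Int.ofNat 2, Int.ofNat 2, Int.negSucc 1],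
  [Int.ofNat 0, Int.negSucc 1, Int.negSucc 1, Int.ofNat 0, Int.negSucc 1, Int.ofNat 0, Int.ofNat 0, Int.negSucc 1, Int.ofNat 2, Int.ofNat 0, Int.ofNat 0, Int.ofNat 0, Int.ofNat 0, Int.ofNat 0, Int.ofNat 0, Int.ofNat 0, Int.negSucc 1, Int.ofNat 0, Int.negSucc 1, Int.ofNat 0, Int.ofNat 0, Int.ofNat 2, Int.ofNat 0, Int.ofNat 0],
  [Int.ofNat 0, Int.negSucc 1, Int.ofNat 0, Int.ofNat 0, Int.negSucc 1, Int.ofNat 2, Int.ofNat 0, Int.ofNat 0, Int.ofNat 0, Int.ofNat 0, Int.ofNat 0, Int.ofNat 0, Int.ofNat 0, Int.negSucc 1, Int.ofNat 0, Int.negSucc 1, Int.ofNat 0, Int.ofNat 0, Int.ofNat 2, Int.ofNat 0, Int.ofNat 0, Int.negSucc 1, Int.negSucc 1, Int.ofNat 0],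
  [Int.negSucc 0, Int.ofNat 1, Int.negSucc 0, Int.negSucc 0, Int.ofNat 1, Int.ofNat 1, Int.ofNat 1, Int.ofNat 1, Int.negSucc 0, Int.ofNat 1, Int.ofNat 1, Int.negSucc 0, Int.negSucc 0, Int.ofNat 1, Int.negSucc 0, Int.negSucc 0, Int.ofNat 3, Int.negSucc 0, Int.ofNat 1, Int.ofNat 1, Int.ofNat 1, Int.negSucc 0, Int.ofNat 1, Int.negSucc 0],
  [Int.negSucc 0, Int.ofNat 1, Int.ofNat 1, Int.negSucc 0, Int.ofNat 1, Int.ofNat 1, Int.negSucc 0, Int.ofNat 1, Int.negSucc 0, Int.ofNat 1, Int.ofNat 1, Int.negSucc 0, Int.ofNat 1, Int.ofNat 3, Int.ofNat 1, Int.negSucc 0, Int.negSucc 0, Int.negSucc 0, Int.ofNat 1, Int.negSucc 0, Int.negSucc 0, Int.ofNat 1, Int.ofNat 1, Int.negSucc 0],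
  [Int.ofNat 1, Int.negSucc 0, Int.negSucc 0, Int.negSucc 0, Int.negSucc 0, Int.ofNat 1, Int.negSucc 0, Int.ofNat 1, Int.negSucc 0, Int.ofNat 1, Int.ofNat 1, Int.negSucc 0, Int.ofNat 1, Int.ofNat 1, Int.ofNat 1, Int.negSucc 0, Int.negSucc 2, Int.negSucc 0, Int.ofNat 1, Int.negSucc 0, Int.negSucc 0, Int.ofNat 1, Int.negSucc 0, Int.ofNat 1],
  [Int.ofNat 1, Int.negSucc 0, Int.ofNat 1, Int.negSucc 0, Int.negSucc 0, Int.negSucc 0, Int.ofNat 1, Int.ofNat 1, Int.negSucc 0, Int.negSucc 0, Int.negSucc 0, Int.negSucc 0, Int.ofNat 1, Int.ofNat 1, Int.ofNat 1, Int.ofNat 1, Int.negSucc 2, Int.negSucc 0, Int.negSucc 0, Int.negSucc 0, Int.negSucc 0, Int.ofNat 1, Int.ofNat 1, Int.ofNat 1],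
  [Int.negSucc 0, Int.negSucc 0, Int.ofNat 1, Int.negSucc 0, Int.ofNat 1, Int.negSucc 2, Int.negSucc 0, Int.ofNat 1, Int.ofNat 1, Int.ofNat 1, Int.negSucc 0, Int.negSucc 0, Int.ofNat 1, Int.negSucc 0, Int.ofNat 1, Int.ofNat 1, Int.ofNat 1, Int.negSucc 0, Int.negSucc 0, Int.negSucc 0, Int.negSucc 0, Int.ofNat 1, Int.negSucc 0, Int.ofNat 1],
  [Int.negSucc 0, Int.negSucc 0, Int.negSucc 0, Int.negSucc 0, Int.ofNat 1, Int.ofNat 3, Int.ofNat 1, Int.ofNat 1, Int.ofNat 1, Int.negSucc 0, Int.ofNat 1, Int.negSucc 0, Int.ofNat 1, Int.negSucc 0, Int.ofNat 1, Int.negSucc 0, Int.ofNat 1, Int.negSucc 0, Int.ofNat 1, Int.negSucc 0, Int.negSucc 0, Int.ofNat 1, Int.ofNat 1, Int.ofNat 1],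
  [Int.ofNat 0, Int.ofNat 0, Int.ofNat 0, Int.negSucc 1, Int.ofNat 0, Int.ofNat 2, Int.ofNat 0, Int.ofNat 0, Int.ofNat 0, Int.ofNat 0, Int.ofNat 2, Int.negSucc 1, Int.ofNat 0, Int.negSucc 1, Int.ofNat 0, Int.ofNat 0, Int.ofNat 0, Int.negSucc 1, Int.ofNat 0, Int.negSucc 1, Int.ofNat 0, Int.ofNat 0, Int.ofNat 0, Int.negSucc 1],
  [Int.ofNat 0, Int.ofNat 0, Int.ofNat 0, Int.negSucc 1, Int.ofNat 0, Int.ofNat 0, Int.ofNat 0, Int.ofNat 2, Int.ofNat 0, Int.ofNat 0, Int.ofNat 0, Int.negSucc 1, Int.ofNat 0, Int.ofNat 0, Int.negSucc 1, Int.ofNat 0, Int.negSucc 1, Int.negSucc 1, Int.ofNat 0, Int.ofNat 0, Int.ofNat 2, Int.ofNat 0, Int.ofNat 0, Int.negSucc 1],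
  [Int.negSucc 0, Int.negSucc 0, Int.negSucc 0, Int.ofNat 1, Int.ofNat 1, Int.ofNat 3, Int.negSucc 0, Int.ofNat 1, Int.ofNat 1, Int.negSucc 0, Int.negSucc 0, Int.negSucc 0, Int.ofNat 1, Int.ofNat 1, Int.ofNat 1, Int.negSucc 0, Int.negSucc 0, Int.ofNat 1, Int.ofNat 1, Int.negSucc 0, Int.ofNat 1, Int.negSucc 0, Int.ofNat 1, Int.ofNat 1],
  [Int.ofNat 1, Int.negSucc 0, Int.ofNat 1, Int.negSucc 0, Int.negSucc 0, Int.negSucc 0, Int.ofNat 1, Int.ofNat 1, Int.ofNat 3, Int.negSucc 0, Int.ofNat 1, Int.ofNat 1, Int.negSucc 0, Int.negSucc 0, Int.negSucc 0, Int.ofNat 1, Int.ofNat 1, Int.ofNat 1, Int.negSucc 0, Int.negSucc 0, Int.ofNat 1, Int.ofNat 1, Int.negSucc 0, Int.ofNat 1],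
  [Int.ofNat 0, Int.ofNat 2, Int.ofNat 0, Int.ofNat 0, Int.ofNat 0, Int.ofNat 0, Int.ofNat 0, Int.ofNat 0, Int.ofNat 2, Int.negSucc 1, Int.ofNat 0, Int.ofNat 0, Int.negSucc 1, Int.ofNat 0, Int.ofNat 0, Int.ofNat 0, Int.ofNat 2, Int.ofNat 2, Int.negSucc 1, Int.negSucc 1, Int.ofNat 0, Int.ofNat 0, Int.ofNat 0, Int.ofNat 0],
  [Int.ofNat 2, Int.ofNat 0, Int.ofNat 0, Int.ofNat 0, Int.ofNat 0, Int.ofNat 0, Int.ofNat 0, Int.ofNat 2, Int.negSucc 1, Int.ofNat 0, Int.ofNat 0, Int.negSucc 1, Int.ofNat 0, Int.ofNat 0, Int.ofNat 0, Int.ofNat 2, Int.ofNat 2, Int.negSucc 1, Int.negSucc 1, Int.ofNat 0, Int.ofNat 0, Int.ofNat 0, Int.ofNat 0, Int.ofNat 0],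
  [Int.negSucc 1, Int.ofNat 0, Int.ofNat 0, Int.ofNat 0, Int.ofNat 0, Int.ofNat 0, Int.ofNat 0, Int.negSucc 1, Int.negSucc 1, Int.ofNat 0, Int.ofNat 0, Int.ofNat 2, Int.ofNat 0, Int.ofNat 0, Int.ofNat 0, Int.ofNat 2, Int.ofNat 2, Int.negSucc 1, Int.ofNat 2, Int.ofNat 0, Int.ofNat 0, Int.ofNat 0, Int.ofNat 0, Int.ofNat 0],
  [Int.ofNat 2, Int.ofNat 0, Int.ofNat 0, Int.ofNat 0, Int.ofNat 0, Int.ofNat 0, Int.ofNat 0, Int.negSucc 1, Int.ofNat 2, Int.ofNat 0, Int.ofNat 0, Int.ofNat 2, Int.ofNat 0, Int.ofNat 0, Int.ofNat 0, Int.ofNat 2, Int.negSucc 1, Int.negSucc 1, Int.negSucc 1, Int.ofNat 0, Int.ofNat 0, Int.ofNat 0, Int.ofNat 0, Int.ofNat 0],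
  [Int.ofNat 2, Int.ofNat 0, Int.negSucc 1, Int.ofNat 0, Int.ofNat 0, Int.ofNat 0, Int.ofNat 0, Int.ofNat 0, Int.ofNat 0, Int.negSucc 1, Int.ofNat 0, Int.ofNat 0, Int.ofNat 0, Int.ofNat 2, Int.ofNat 0, Int.ofNat 2, Int.ofNat 0, Int.ofNat 0, Int.ofNat 0, Int.negSucc 1, Int.ofNat 0, Int.negSucc 1, Int.ofNat 2, Int.ofNat 0],
  [Int.negSucc 1, Int.ofNat 0, Int.ofNat 2, Int.ofNat 0, Int.ofNat 0, Int.ofNat 0, Int.ofNat 0, Int.ofNat 0, Int.ofNat 0, Int.ofNat 2, Int.ofNat 0, Int.ofNat 0, Int.ofNat 0, Int.ofNat 2, Int.ofNat 0, Int.ofNat 2, Int.ofNat 0, Int.ofNat 0, Int.ofNat 0, Int.negSucc 1, Int.ofNat 0, Int.ofNat 2, Int.ofNat 2, Int.ofNat 0],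
  [Int.ofNat 2, Int.negSucc 1, Int.ofNat 0, Int.ofNat 2, Int.ofNat 0, Int.ofNat 0, Int.ofNat 0, Int.ofNat 0, Int.ofNat 0, Int.ofNat 0, Int.ofNat 2, Int.ofNat 0, Int.ofNat 0, Int.ofNat 0, Int.ofNat 2, Int.ofNat 0, Int.ofNat 2, Int.ofNat 0, Int.ofNat 0, Int.ofNat 0, Int.negSucc 1, Int.ofNat 0, Int.ofNat 2, Int.ofNat 0],
  [Int.negSucc 1, Int.ofNat 2, Int.ofNat 0, Int.ofNat 0, Int.negSucc 1, Int.negSucc 1, Int.ofNat 0, Int.ofNat 0, Int.ofNat 0, Int.ofNat 0, Int.ofNat 2, Int.ofNat 0, Int.ofNat 0, Int.negSucc 1, Int.ofNat 0, Int.ofNat 0, Int.ofNat 0, Int.negSucc 1, Int.ofNat 0, Int.ofNat 0, Int.negSucc 1, Int.ofNat 0, Int.ofNat 0, Int.ofNat 0],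
  [Int.ofNat 0, Int.negSucc 1, Int.negSucc 1, Int.ofNat 0, Int.ofNat 0, Int.ofNat 0, Int.ofNat 0, Int.ofNat 2, Int.ofNat 0, Int.ofNat 0, Int.negSucc 1, Int.ofNat 0, Int.ofNat 0, Int.ofNat 0, Int.negSucc 1, Int.ofNat 0, Int.ofNat 0, Int.negSucc 1, Int.ofNat 0, Int.ofNat 0, Int.negSucc 1, Int.ofNat 2, Int.ofNat 0, Int.ofNat 0],
  [Int.negSucc 1, Int.ofNat 0, Int.ofNat 0, Int.ofNat 2, Int.ofNat 0, Int.ofNat 2, Int.negSucc 1, Int.ofNat 0, Int.ofNat 0, Int.ofNat 2, Int.ofNat 0, Int.ofNat 0, Int.ofNat 0, Int.ofNat 0, Int.ofNat 0, Int.ofNat 2, Int.ofNat 0, Int.ofNat 0, Int.ofNat 0, Int.negSucc 1, Int.ofNat 0, Int.ofNat 0, Int.ofNat 0, Int.negSucc 1],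
  [Int.negSucc 1, Int.negSucc 1, Int.ofNat 0, Int.ofNat 2, Int.ofNat 0, Int.ofNat 0, Int.ofNat 0, Int.ofNat 0, Int.ofNat 0, Int.ofNat 0, Int.ofNat 0, Int.ofNat 0, Int.ofNat 2, Int.ofNat 0, Int.ofNat 0, Int.ofNat 2, Int.ofNat 0, Int.ofNat 0, Int.ofNat 0, Int.ofNat 0, Int.ofNat 0, Int.ofNat 2, Int.negSucc 1, Int.negSucc 1],
  [Int.negSucc 0, Int.negSucc 0, Int.negSucc 2, Int.ofNat 1, Int.ofNat 1, Int.negSucc 0, Int.negSucc 0, Int.negSucc 0, Int.negSucc 0, Int.negSucc 0, Int.negSucc 0, Int.negSucc 0, Int.ofNat 1, Int.ofNat 1, Int.negSucc 0, Int.ofNat 1, Int.ofNat 1, Int.negSucc 0, Int.negSucc 0, Int.negSucc 0, Int.negSucc 0, Int.ofNat 1, Int.negSucc 0, Int.negSucc 0],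
  [Int.negSucc 0, Int.negSucc 0, Int.ofNat 3, Int.ofNat 1, Int.ofNat 1, Int.ofNat 1, Int.ofNat 1, Int.negSucc 0, Int.negSucc 0, Int.ofNat 1, Int.ofNat 1, Int.negSucc 0, Int.ofNat 1, Int.ofNat 1, Int.negSucc 0, Int.negSucc 0, Int.ofNat 1, Int.negSucc 0, Int.ofNat 1, Int.negSucc 0, Int.negSucc 0, Int.ofNat 1, Int.ofNat 1, Int.negSucc 0],
  [Int.ofNat 1, Int.ofNat 1, Int.negSucc 0, Int.negSucc 0, Int.negSucc 0, Int.ofNat 1, Int.ofNat 1, Int.ofNat 1, Int.ofNat 1, Int.negSucc 0, Int.ofNat 1, Int.negSucc 0, Int.negSucc 0, Int.ofNat 1, Int.negSucc 0, Int.ofNat 1, Int.negSucc 0, Int.ofNat 1, Int.ofNat 1, Int.ofNat 3, Int.negSucc 0, Int.negSucc 0, Int.ofNat 1, Int.negSucc 0],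
  [Int.negSucc 0, Int.ofNat 1, Int.negSucc 0, Int.ofNat 1, Int.ofNat 1, Int.negSucc 0, Int.ofNat 3, Int.ofNat 1, Int.negSucc 0, Int.ofNat 1, Int.negSucc 0, Int.negSucc 0, Int.negSucc 0, Int.ofNat 1, Int.ofNat 1, Int.negSucc 0, Int.ofNat 1, Int.negSucc 0, Int.negSucc 0, Int.ofNat 1, Int.ofNat 1, Int.negSucc 0, Int.ofNat 1, Int.ofNat 1],
  [Int.ofNat 1, Int.ofNat 1, Int.ofNat 1, Int.ofNat 1, Int.ofNat 1, Int.negSucc 0, Int.ofNat 3, Int.negSucc 0, Int.negSucc 0, Int.negSucc 0, Int.ofNat 1, Int.ofNat 1, Int.negSucc 0, Int.ofNat 1, Int.ofNat 1, Int.negSucc 0, Int.ofNat 1, Int.negSucc 0, Int.ofNat 1, Int.ofNat 1, Int.ofNat 1, Int.ofNat 1, Int.ofNat 1, Int.ofNat 1],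
  [Int.ofNat 1, Int.ofNat 1, Int.ofNat 1, Int.ofNat 1, Int.ofNat 1, Int.ofNat 1, Int.negSucc 0, Int.ofNat 3, Int.negSucc 0, Int.negSucc 0, Int.negSucc 0, Int.ofNat 1, Int.ofNat 1, Int.negSucc 0, Int.ofNat 1, Int.ofNat 1, Int.negSucc 0, Int.ofNat 1, Int.negSucc 0, Int.ofNat 1, Int.ofNat 1, Int.ofNat 1, Int.ofNat 1, Int.ofNat 1],
  [Int.ofNat 1, Int.ofNat 1, Int.ofNat 1, Int.negSucc 0, Int.ofNat 1, Int.negSucc 0, Int.negSucc 2, Int.ofNat 1, Int.negSucc 0, Int.negSucc 0, Int.negSucc 0, Int.ofNat 1, Int.ofNat 1, Int.negSucc 0, Int.negSucc 0, Int.ofNat 1, Int.negSucc 0, Int.negSucc 0, Int.negSucc 0, Int.negSucc 0, Int.ofNat 1, Int.negSucc 0, Int.ofNat 1, Int.ofNat 1],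
  [Int.negSucc 0, Int.ofNat 1, Int.negSucc 0, Int.negSucc 2, Int.ofNat 1, Int.negSucc 0, Int.negSucc 0, Int.negSucc 0, Int.ofNat 1, Int.ofNat 1, Int.negSucc 0, Int.negSucc 0, Int.ofNat 1, Int.negSucc 0, Int.negSucc 0, Int.negSucc 0, Int.negSucc 0, Int.ofNat 1, Int.negSucc 0, Int.ofNat 1, Int.ofNat 1, Int.ofNat 1, Int.ofNat 1, Int.ofNat 1],
  [Int.ofNat 1, Int.negSucc 0, Int.ofNat 1, Int.negSucc 0, Int.ofNat 1, Int.ofNat 1, Int.negSucc 0, Int.negSucc 0, Int.ofNat 1, Int.ofNat 1, Int.negSucc 0, Int.negSucc 0, Int.ofNat 1, Int.negSucc 0, Int.ofNat 1, Int.negSucc 0, Int.negSucc 0, Int.ofNat 3, Int.negSucc 0, Int.ofNat 1, Int.ofNat 1, Int.ofNat 1, Int.ofNat 1, Int.negSucc 0],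
  [Int.ofNat 1, Int.negSucc 0, Int.ofNat 1, Int.negSucc 0, Int.negSucc 0, Int.negSucc 0, Int.ofNat 1, Int.negSucc 0, Int.ofNat 1, Int.negSucc 0, Int.ofNat 1, Int.ofNat 3, Int.ofNat 1, Int.negSucc 0, Int.ofNat 1, Int.negSucc 0, Int.ofNat 1, Int.ofNat 1, Int.negSucc 0, Int.negSucc 0, Int.ofNat 1, Int.ofNat 1, Int.ofNat 1, Int.negSucc 0],
  [Int.negSucc 0, Int.ofNat 1, Int.negSucc 0, Int.negSucc 0, Int.negSucc 0, Int.negSucc 0, Int.ofNat 1, Int.negSucc 0, Int.negSucc 0, Int.negSucc 0, Int.ofNat 1, Int.ofNat 1, Int.negSucc 0, Int.negSucc 0, Int.ofNat 1, Int.negSucc 0, Int.ofNat 1, Int.ofNat 1, Int.negSucc 2, Int.negSucc 0, Int.ofNat 1, Int.ofNat 1, Int.ofNat 1, Int.ofNat 1],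
  [Int.negSucc 0, Int.ofNat 1, Int.ofNat 1, Int.negSucc 0, Int.negSucc 0, Int.ofNat 1, Int.negSucc 0, Int.negSucc 0, Int.negSucc 0, Int.ofNat 1, Int.negSucc 0, Int.ofNat 1, Int.negSucc 0, Int.negSucc 0, Int.ofNat 1, Int.ofNat 1, Int.ofNat 1, Int.ofNat 1, Int.ofNat 3, Int.negSucc 0, Int.ofNat 1, Int.ofNat 1, Int.negSucc 0, Int.ofNat 1],
  [Int.negSucc 0, Int.ofNat 1, Int.ofNat 1, Int.negSucc 0, Int.ofNat 1, Int.ofNat 1, Int.ofNat 1, Int.ofNat 1, Int.ofNat 1, Int.negSucc 0, Int.negSucc 0, Int.ofNat 1, Int.negSucc 0, Int.negSucc 0, Int.negSucc 0, Int.negSucc 0, Int.negSucc 0, Int.negSucc 0, Int.ofNat 1, Int.ofNat 1, Int.ofNat 1, Int.negSucc 0, Int.ofNat 3, Int.ofNat 1],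
  [Int.negSucc 0, Int.ofNat 1, Int.negSucc 0, Int.negSucc 0, Int.ofNat 1, Int.negSucc 0, Int.negSucc 0, Int.ofNat 1, Int.ofNat 1, Int.ofNat 1, Int.ofNat 1, Int.ofNat 1, Int.negSucc 0, Int.negSucc 0, Int.negSucc 0, Int.ofNat 1, Int.negSucc 0, Int.negSucc 0, Int.negSucc 0, Int.ofNat 1, Int.ofNat 1, Int.negSucc 0, Int.negSucc 2, Int.ofNat 1],
  [Int.ofNat 1, Int.negSucc 0, Int.ofNat 1, Int.ofNat 1, Int.ofNat 3, Int.ofNat 1, Int.negSucc 0, Int.ofNat 1, Int.ofNat 1, Int.negSucc 0, Int.negSucc 0, Int.ofNat 1, Int.negSucc 0, Int.ofNat 1, Int.ofNat 1, Int.negSucc 0, Int.ofNat 1, Int.ofNat 1, Int.negSucc 0, Int.ofNat 1, Int.negSucc 0, Int.negSucc 0, Int.negSucc 0, Int.negSucc 0],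
  [Int.ofNat 1, Int.negSucc 0, Int.negSucc 0, Int.ofNat 1, Int.ofNat 1, Int.negSucc 0, Int.negSucc 0, Int.ofNat 1, Int.ofNat 1, Int.negSucc 0, Int.ofNat 1, Int.ofNat 1, Int.ofNat 1, Int.negSucc 0, Int.ofNat 1, Int.negSucc 0, Int.ofNat 1, Int.ofNat 1, Int.ofNat 3, Int.negSucc 0, Int.negSucc 0, Int.negSucc 0, Int.ofNat 1, Int.negSucc 0],
  [Int.negSucc 1, Int.ofNat 0, Int.ofNat 0, Int.ofNat 0, Int.ofNat 0, Int.negSucc 1, Int.ofNat 0, Int.ofNat 2, Int.negSucc 1, Int.ofNat 0, Int.ofNat 2, Int.negSucc 1, Int.negSucc 1, Int.negSucc 1, Int.ofNat 0, Int.ofNat 0, Int.ofNat 0, Int.ofNat 0, Int.ofNat 0, Int.ofNat 0, Int.ofNat 0, Int.ofNat 0, Int.ofNat 0, Int.ofNat 0],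
  [Int.ofNat 0, Int.ofNat 0, Int.ofNat 0, Int.negSucc 1, Int.ofNat 0, Int.ofNat 0, Int.ofNat 0, Int.ofNat 0, Int.negSucc 1, Int.ofNat 0, Int.ofNat 2, Int.negSucc 1, Int.ofNat 0, Int.ofNat 2, Int.negSucc 1, Int.negSucc 1, Int.negSucc 1, Int.ofNat 0, Int.ofNat 0, Int.ofNat 0, Int.ofNat 0, Int.ofNat 0, Int.ofNat 0, Int.ofNat 0],
  [Int.ofNat 0, Int.ofNat 0, Int.ofNat 0, Int.ofNat 0, Int.ofNat 0, Int.ofNat 2, Int.ofNat 0, Int.ofNat 0, Int.ofNat 0, Int.ofNat 0, Int.ofNat 2, Int.ofNat 0, Int.ofNat 2, Int.ofNat 2, Int.ofNat 0, Int.negSucc 1, Int.negSucc 1, Int.ofNat 2, Int.ofNat 2, Int.ofNat 0, Int.ofNat 0, Int.ofNat 0, Int.ofNat 0, Int.ofNat 0],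
  [Int.ofNat 0, Int.ofNat 0, Int.ofNat 0, Int.ofNat 0, Int.ofNat 2, Int.ofNat 0, Int.ofNat 0, Int.ofNat 0, Int.ofNat 0, Int.ofNat 2, Int.ofNat 0, Int.ofNat 2, Int.ofNat 2, Int.ofNat 0, Int.negSucc 1, Int.negSucc 1, Int.ofNat 2, Int.ofNat 2, Int.ofNat 0, Int.ofNat 0, Int.ofNat 0, Int.ofNat 0, Int.ofNat 0, Int.ofNat 0],
  [Int.ofNat 0, Int.ofNat 0, Int.ofNat 0, Int.ofNat 0, Int.ofNat 2, Int.ofNat 0, Int.ofNat 0, Int.ofNat 0, Int.ofNat 0, Int.negSucc 1, Int.ofNat 0, Int.negSucc 1, Int.ofNat 2, Int.ofNat 0, Int.negSucc 1, Int.negSucc 1, Int.ofNat 2, Int.ofNat 2, Int.ofNat 0, Int.ofNat 0, Int.ofNat 0, Int.ofNat 0, Int.ofNat 0, Int.ofNat 0],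
  [Int.ofNat 0, Int.ofNat 0, Int.ofNat 0, Int.ofNat 0, Int.negSucc 1, Int.ofNat 0, Int.ofNat 0, Int.ofNat 0, Int.ofNat 0, Int.ofNat 2, Int.ofNat 0, Int.negSucc 1, Int.negSucc 1, Int.ofNat 0, Int.negSucc 1, Int.negSucc 1, Int.negSucc 1, Int.ofNat 2, Int.ofNat 0, Int.ofNat 0, Int.ofNat 0, Int.ofNat 0, Int.ofNat 0, Int.ofNat 0],
  [Int.ofNat 0, Int.ofNat 0, Int.ofNat 0, Int.ofNat 0, Int.ofNat 0, Int.ofNat 0, Int.negSucc 1, Int.ofNat 0, Int.ofNat 2, Int.negSucc 1, Int.ofNat 0, Int.negSucc 1, Int.ofNat 0, Int.ofNat 0, Int.ofNat 0, Int.negSucc 1, Int.negSucc 1, Int.ofNat 0, Int.ofNat 0, Int.ofNat 2, Int.ofNat 0, Int.ofNat 0, Int.negSucc 1, Int.ofNat 0],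
  [Int.ofNat 0, Int.ofNat 0, Int.ofNat 0, Int.ofNat 0, Int.ofNat 0, Int.ofNat 0, Int.negSucc 1, Int.ofNat 0, Int.ofNat 2, Int.ofNat 2, Int.ofNat 0, Int.ofNat 2, Int.ofNat 0, Int.ofNat 0, Int.ofNat 0, Int.negSucc 1, Int.negSucc 1, Int.ofNat 0, Int.ofNat 0, Int.ofNat 2, Int.ofNat 0, Int.ofNat 0, Int.negSucc 1, Int.ofNat 0],
  [Int.negSucc 1, Int.ofNat 0, Int.ofNat 0, Int.ofNat 0, Int.ofNat 0, Int.ofNat 0, Int.ofNat 0, Int.negSucc 1, Int.ofNat 0, Int.ofNat 2, Int.ofNat 2, Int.ofNat 0, Int.ofNat 2, Int.ofNat 0, Int.ofNat 0, Int.ofNat 0, Int.negSucc 1, Int.negSucc 1, Int.ofNat 0, Int.ofNat 0, Int.ofNat 2, Int.ofNat 0, Int.ofNat 0, Int.ofNat 0],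
  [Int.ofNat 1, Int.negSucc 0, Int.negSucc 0, Int.ofNat 1, Int.ofNat 1, Int.ofNat 1, Int.ofNat 1, Int.negSucc 0, Int.negSucc 0, Int.negSucc 0, Int.negSucc 0, Int.negSucc 0, Int.ofNat 1, Int.ofNat 1, Int.ofNat 1, Int.negSucc 2, Int.negSucc 0, Int.negSucc 0, Int.negSucc 0, Int.ofNat 1, Int.negSucc 0, Int.ofNat 1, Int.ofNat 1, Int.negSucc 0],
  [Int.ofNat 1, Int.ofNat 1, Int.ofNat 1, Int.ofNat 1, Int.negSucc 0, Int.negSucc 0, Int.negSucc 0, Int.negSucc 0, Int.negSucc 0, Int.ofNat 1, Int.ofNat 1, Int.ofNat 1, Int.negSucc 2, Int.negSucc 0, Int.negSucc 0, Int.negSucc 0, Int.ofNat 1, Int.negSucc 0, Int.ofNat 1, Int.ofNat 1, Int.ofNat 1, Int.negSucc 0, Int.negSucc 0, Int.negSucc 0],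
  [Int.ofNat 0, Int.ofNat 0, Int.ofNat 0, Int.ofNat 2, Int.ofNat 0, Int.ofNat 0, Int.ofNat 0, Int.ofNat 0, Int.ofNat 0, Int.ofNat 0, Int.ofNat 0, Int.ofNat 2, Int.negSucc 1, Int.ofNat 0, Int.ofNat 0, Int.negSucc 1, Int.ofNat 2, Int.ofNat 0, Int.ofNat 2, Int.ofNat 2, Int.ofNat 0, Int.ofNat 0, Int.ofNat 0, Int.ofNat 2],
  [Int.ofNat 0, Int.ofNat 0, Int.ofNat 0, Int.ofNat 2, Int.ofNat 2, Int.ofNat 0, Int.ofNat 0, Int.ofNat 0, Int.negSucc 1, Int.ofNat 0, Int.ofNat 0, Int.ofNat 0, Int.ofNat 0, Int.ofNat 2, Int.ofNat 0, Int.negSucc 1, Int.ofNat 0, Int.ofNat 0, Int.ofNat 0, Int.ofNat 2, Int.ofNat 0, Int.ofNat 0, Int.ofNat 2, Int.ofNat 2],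
  [Int.ofNat 1, Int.ofNat 1, Int.ofNat 1, Int.ofNat 1, Int.negSucc 0, Int.negSucc 0, Int.negSucc 0, Int.negSucc 0, Int.negSucc 0, Int.ofNat 1, Int.ofNat 1, Int.ofNat 1, Int.ofNat 1, Int.negSucc 0, Int.negSucc 0, Int.negSucc 0, Int.negSucc 2, Int.negSucc 0, Int.ofNat 1, Int.ofNat 1, Int.ofNat 1, Int.negSucc 0, Int.negSucc 0, Int.negSucc 0],
  [Int.ofNat 1, Int.ofNat 1, Int.negSucc 0, Int.ofNat 1, Int.negSucc 0, Int.ofNat 1, Int.ofNat 1, Int.negSucc 0, Int.negSucc 0, Int.negSucc 0, Int.negSucc 0, Int.ofNat 1, Int.ofNat 1, Int.negSucc 0, Int.negSucc 0, Int.ofNat 1, Int.negSucc 2, Int.negSucc 0, Int.negSucc 0, Int.ofNat 1, Int.ofNat 1, Int.negSucc 0, Int.ofNat 1, Int.negSucc 0],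
  [Int.negSucc 0, Int.negSucc 2, Int.ofNat 1, Int.negSucc 0, Int.negSucc 0, Int.ofNat 1, Int.negSucc 0, Int.ofNat 1, Int.ofNat 1, Int.ofNat 1, Int.negSucc 0, Int.negSucc 0, Int.ofNat 1, Int.negSucc 0, Int.negSucc 0, Int.negSucc 0, Int.ofNat 1, Int.ofNat 1, Int.negSucc 0, Int.negSucc 0, Int.ofNat 1, Int.ofNat 1, Int.ofNat 1, Int.negSucc 0],
  [Int.negSucc 0, Int.ofNat 1, Int.negSucc 0, Int.negSucc 0, Int.ofNat 1, Int.ofNat 1, Int.negSucc 0, Int.negSucc 0, Int.ofNat 1, Int.ofNat 1, Int.ofNat 1, Int.ofNat 1, Int.ofNat 1, Int.ofNat 1, Int.negSucc 0, Int.negSucc 0, Int.negSucc 0, Int.negSucc 0, Int.negSucc 0, Int.negSucc 0, Int.ofNat 1, Int.ofNat 1, Int.negSucc 2, Int.negSucc 0],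
  [Int.ofNat 1, Int.ofNat 1, Int.ofNat 1, Int.negSucc 0, Int.ofNat 1, Int.ofNat 1, Int.negSucc 0, Int.ofNat 1, Int.ofNat 1, Int.negSucc 0, Int.negSucc 0, Int.negSucc 0, Int.ofNat 1, Int.ofNat 1, Int.negSucc 0, Int.negSucc 0, Int.negSucc 0, Int.negSucc 0, Int.ofNat 1, Int.negSucc 0, Int.ofNat 1, Int.negSucc 0, Int.negSucc 2, Int.negSucc 0],
  [Int.negSucc 2, Int.ofNat 1, Int.ofNat 1, Int.ofNat 1, Int.negSucc 0, Int.ofNat 1, Int.ofNat 1, Int.negSucc 0, Int.ofNat 1, Int.ofNat 1, Int.negSucc 0, Int.negSucc 0, Int.negSucc 0, Int.ofNat 1, Int.ofNat 1, Int.negSucc 0, Int.negSucc 0, Int.negSucc 0, Int.negSucc 0, Int.ofNat 1, Int.negSucc 0, Int.ofNat 1, Int.negSucc 0, Int.negSucc 0],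
  [Int.ofNat 2, Int.negSucc 1, Int.negSucc 1, Int.ofNat 0, Int.ofNat 0, Int.ofNat 0, Int.ofNat 0, Int.negSucc 1, Int.ofNat 2, Int.ofNat 2, Int.ofNat 0, Int.ofNat 0, Int.ofNat 0, Int.ofNat 2, Int.ofNat 0, Int.ofNat 0, Int.ofNat 0, Int.negSucc 1, Int.ofNat 0, Int.ofNat 0, Int.ofNat 0, Int.ofNat 0, Int.ofNat 0, Int.ofNat 0],
  [Int.ofNat 0, Int.ofNat 0, Int.ofNat 0, Int.ofNat 0, Int.negSucc 1, Int.ofNat 2, Int.ofNat 2, Int.ofNat 0, Int.ofNat 0, Int.ofNat 0, Int.ofNat 2, Int.ofNat 0, Int.ofNat 0, Int.ofNat 0, Int.negSucc 1, Int.ofNat 0, Int.ofNat 0, Int.ofNat 0, Int.ofNat 0, Int.ofNat 0, Int.ofNat 2, Int.negSucc 1, Int.negSucc 1, Int.ofNat 0],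
  [Int.ofNat 0, Int.ofNat 0, Int.ofNat 0, Int.ofNat 0, Int.ofNat 0, Int.ofNat 2, Int.ofNat 2, Int.ofNat 0, Int.ofNat 0, Int.negSucc 1, Int.ofNat 0, Int.ofNat 0, Int.ofNat 0, Int.ofNat 2, Int.negSucc 1, Int.negSucc 1, Int.ofNat 2, Int.ofNat 0, Int.ofNat 0, Int.ofNat 0, Int.ofNat 0, Int.negSucc 1, Int.ofNat 0, Int.ofNat 0],
  [Int.ofNat 0, Int.ofNat 2, Int.ofNat 0, Int.ofNat 0, Int.ofNat 0, Int.ofNat 0, Int.ofNat 0, Int.ofNat 0, Int.ofNat 0, Int.ofNat 2, Int.ofNat 0, Int.ofNat 0, Int.negSucc 1, Int.ofNat 2, Int.ofNat 0, Int.negSucc 1, Int.ofNat 0, Int.negSucc 1, Int.ofNat 0, Int.ofNat 0, Int.negSucc 1, Int.ofNat 2, Int.ofNat 0, Int.ofNat 0],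
  [Int.ofNat 1, Int.negSucc 0, Int.ofNat 1, Int.ofNat 1, Int.negSucc 0, Int.ofNat 1, Int.negSucc 0, Int.negSucc 0, Int.ofNat 1, Int.ofNat 3, Int.ofNat 1, Int.ofNat 1, Int.negSucc 0, Int.ofNat 1, Int.ofNat 1, Int.negSucc 0, Int.negSucc 0, Int.negSucc 0, Int.ofNat 1, Int.negSucc 0, Int.negSucc 0, Int.ofNat 1, Int.negSucc 0, Int.ofNat 1],
  [Int.ofNat 1, Int.negSucc 0, Int.negSucc 0, Int.ofNat 1, Int.negSucc 0, Int.negSucc 0, Int.ofNat 1, Int.negSucc 0, Int.ofNat 1, Int.negSucc 2, Int.negSucc 0, Int.ofNat 1, Int.negSucc 0, Int.ofNat 1, Int.ofNat 1, Int.ofNat 1, Int.negSucc 0, Int.negSucc 0, Int.negSucc 0, Int.negSucc 0, Int.negSucc 0, Int.ofNat 1, Int.ofNat 1, Int.ofNat 1],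
  [Int.negSucc 0, Int.negSucc 0, Int.ofNat 1, Int.negSucc 0, Int.ofNat 1, Int.negSucc 0, Int.negSucc 0, Int.ofNat 1, Int.negSucc 0, Int.negSucc 0, Int.negSucc 0, Int.negSucc 2, Int.ofNat 1, Int.ofNat 1, Int.ofNat 1, Int.ofNat 1, Int.negSucc 0, Int.ofNat 1, Int.negSucc 0, Int.negSucc 0, Int.ofNat 1, Int.ofNat 1, Int.negSucc 0, Int.ofNat 1],
  [Int.negSucc 0, Int.negSucc 0, Int.negSucc 0, Int.negSucc 0, Int.ofNat 1, Int.ofNat 1, Int.ofNat 1, Int.ofNat 1, Int.negSucc 0, Int.ofNat 1, Int.ofNat 1, Int.negSucc 2, Int.ofNat 1, Int.ofNat 1, Int.ofNat 1, Int.negSucc 0, Int.negSucc 0, Int.ofNat 1, Int.ofNat 1, Int.negSucc 0, Int.ofNat 1, Int.ofNat 1, Int.ofNat 1, Int.ofNat 1],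
  [Int.ofNat 0, Int.ofNat 0, Int.ofNat 0, Int.negSucc 1, Int.ofNat 0, Int.ofNat 0, Int.ofNat 0, Int.ofNat 0, Int.ofNat 0, Int.ofNat 0, Int.ofNat 0, Int.negSucc 1, Int.ofNat 2, Int.ofNat 0, Int.ofNat 0, Int.negSucc 1, Int.negSucc 1, Int.ofNat 0, Int.ofNat 2, Int.negSucc 1, Int.ofNat 0, Int.ofNat 0, Int.ofNat 0, Int.negSucc 1],
  [Int.ofNat 0, Int.ofNat 2, Int.ofNat 0, Int.negSucc 1, Int.ofNat 0, Int.ofNat 0, Int.ofNat 0, Int.ofNat 0, Int.negSucc 1, Int.ofNat 2, Int.ofNat 0, Int.negSucc 1, Int.ofNat 0, Int.ofNat 0, Int.ofNat 0, Int.negSucc 1, Int.ofNat 0, Int.negSucc 1, Int.ofNat 0, Int.ofNat 0, Int.ofNat 0, Int.ofNat 0, Int.ofNat 0, Int.negSucc 1],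
  [Int.ofNat 0, Int.negSucc 1, Int.ofNat 0, Int.ofNat 0, Int.ofNat 0, Int.ofNat 2, Int.ofNat 0, Int.ofNat 0, Int.ofNat 0, Int.ofNat 2, Int.ofNat 0, Int.ofNat 0, Int.ofNat 2, Int.ofNat 0, Int.ofNat 2, Int.negSucc 1, Int.ofNat 0, Int.ofNat 0, Int.ofNat 2, Int.ofNat 0, Int.ofNat 0, Int.ofNat 0, Int.ofNat 0, Int.ofNat 2],
  [Int.ofNat 0, Int.ofNat 0, Int.ofNat 0, Int.ofNat 0, Int.negSucc 1, Int.ofNat 0, Int.ofNat 0, Int.ofNat 0, Int.ofNat 2, Int.ofNat 0, Int.ofNat 0, Int.ofNat 0, Int.ofNat 2, Int.ofNat 0, Int.ofNat 0, Int.ofNat 2, Int.ofNat 0, Int.ofNat 2, Int.negSucc 1, Int.ofNat 0, Int.ofNat 0, Int.ofNat 2, Int.ofNat 0, Int.ofNat 2],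
  [Int.ofNat 1, Int.ofNat 1, Int.ofNat 1, Int.negSucc 0, Int.negSucc 0, Int.negSucc 0, Int.negSucc 0, Int.negSucc 0, Int.ofNat 1, Int.negSucc 0, Int.negSucc 0, Int.negSucc 0, Int.ofNat 1, Int.ofNat 1, Int.negSucc 0, Int.ofNat 1, Int.ofNat 1, Int.ofNat 1, Int.negSucc 2, Int.negSucc 0, Int.negSucc 0, Int.ofNat 1, Int.ofNat 1, Int.negSucc 0],
  [Int.ofNat 1, Int.ofNat 1, Int.negSucc 0, Int.negSucc 0, Int.negSucc 0, Int.negSucc 0, Int.negSucc 0, Int.ofNat 1, Int.negSucc 0, Int.negSucc 0, Int.negSucc 0, Int.ofNat 1, Int.ofNat 1, Int.negSucc 0, Int.ofNat 1, Int.ofNat 1, Int.ofNat 1, Int.negSucc 2, Int.negSucc 0, Int.negSucc 0, Int.ofNat 1, Int.ofNat 1, Int.ofNat 1, Int.negSucc 0],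
  [Int.negSucc 0, Int.ofNat 1, Int.ofNat 1, Int.negSucc 0, Int.negSucc 0, Int.negSucc 0, Int.negSucc 0, Int.negSucc 0, Int.negSucc 0, Int.ofNat 1, Int.ofNat 1, Int.negSucc 0, Int.ofNat 1, Int.negSucc 0, Int.ofNat 1, Int.ofNat 1, Int.ofNat 1, Int.negSucc 2, Int.ofNat 1, Int.negSucc 0, Int.ofNat 1, Int.negSucc 0, Int.ofNat 1, Int.negSucc 0]]

set_option maxRecDepth 100000 in
theorem c1te14_chk : pmChk (List.replicate 14 [14, 0, 26, 25]).flatten nxL c1te14M 0 0 = true := by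
  decide +kernel

theorem c1te14_ne : wE letE2 (List.replicate 14 [14, 0, 26, 25]).flatten ≠ 1 ∧ wE letE2 (List.replicate 14 [14, 0, 26, 25]).flatten ≠ negElt :=
  ne_pm_of_chk nxL_mem c1te14_chk

set_option maxRecDepth 100000 in
def c1te15M : List (List ℤ) :=
  [[Int.ofNat 4, Int.ofNat 0, Int.ofNat 0, Int.ofNat 0, Int.ofNat 0, Int.ofNat 0, Int.ofNat 0, Int.ofNat 0, Int.ofNat 0, Int.ofNat 0, Int.ofNat 0, Int.ofNat 0, Int.ofNat 0, Int.ofNat 0, Int.ofNat 0, Int.ofNat 0, Int.ofNat 0, Int.ofNat 0, Int.ofNat 0, Int.ofNat 0, Int.ofNat 0, Int.ofNat 0, Int.ofNat 0, Int.ofNat 4],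
  [Int.ofNat 4, Int.ofNat 0, Int.ofNat 0, Int.ofNat 0, Int.ofNat 0, Int.ofNat 0, Int.ofNat 0, Int.ofNat 0, Int.ofNat 0, Int.ofNat 0, Int.ofNat 0, Int.ofNat 0, Int.ofNat 0, Int.ofNat 0, Int.ofNat 0, Int.ofNat 0, Int.ofNat 0, Int.ofNat 0, Int.ofNat 0, Int.ofNat 0, Int.ofNat 0, Int.ofNat 0, Int.ofNat 0, Int.ofNat 4],
  [Int.negSucc 3, Int.ofNat 0, Int.ofNat 0, Int.ofNat 0, Int.ofNat 0, Int.ofNat 0, Int.ofNat 0, Int.ofNat 0, Int.ofNat 0, Int.ofNat 0, Int.ofNat 0, Int.ofNat 0, Int.ofNat 0, Int.ofNat 0, Int.ofNat 0, Int.ofNat 0, Int.ofNat 0, Int.ofNat 0, Int.ofNat 0, Int.ofNat 0, Int.ofNat 0, Int.ofNat 0, Int.ofNat 0, Int.ofNat 4],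
  [Int.ofNat 0, Int.negSucc 3, Int.ofNat 0, Int.ofNat 0, Int.ofNat 0, Int.ofNat 0, Int.ofNat 0, Int.ofNat 0, Int.ofNat 0, Int.ofNat 0, Int.ofNat 0, Int.ofNat 0, Int.ofNat 0, Int.ofNat 0, Int.ofNat 0, Int.ofNat 0, Int.ofNat 0, Int.ofNat 0, Int.ofNat 0, Int.ofNat 0, Int.ofNat 0, Int.ofNat 0, Int.ofNat 0, Int.ofNat 4],
  [Int.ofNat 0, Int.ofNat 4, Int.ofNat 0, Int.ofNat 0, Int.ofNat 0, Int.ofNat 0, Int.ofNat 0, Int.ofNat 0, Int.ofNat 0, Int.ofNat 0, Int.ofNat 0, Int.ofNat 0, Int.ofNat 0, Int.ofNat 0, Int.ofNat 0, Int.ofNat 0, Int.ofNat 0, Int.ofNat 0, Int.ofNat 0, Int.ofNat 0, Int.ofNat 0, Int.ofNat 0, Int.ofNat 0, Int.negSucc 3],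
  [Int.ofNat 0, Int.ofNat 0, Int.ofNat 0, Int.ofNat 0, Int.ofNat 0, Int.ofNat 0, Int.ofNat 0, Int.ofNat 0, Int.ofNat 0, Int.ofNat 0, Int.ofNat 0, Int.ofNat 0, Int.ofNat 0, Int.ofNat 0, Int.ofNat 0, Int.ofNat 0, Int.ofNat 0, Int.ofNat 0, Int.ofNat 0, Int.ofNat 0, Int.ofNat 0, Int.ofNat 4, Int.ofNat 0, Int.negSucc 3],
  [Int.negSucc 1, Int.negSucc 1, Int.negSucc 1, Int.ofNat 0, Int.ofNat 0, Int.ofNat 0, Int.negSucc 1, Int.negSucc 1, Int.ofNat 0, Int.ofNat 0, Int.ofNat 0, Int.ofNat 0, Int.ofNat 0, Int.ofNat 0, Int.ofNat 0, Int.ofNat 0, Int.ofNat 0, Int.ofNat 0, Int.ofNat 0, Int.negSucc 1, Int.ofNat 0, Int.ofNat 2, Int.ofNat 0, Int.ofNat 2],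
  [Int.negSucc 1, Int.negSucc 1, Int.ofNat 0, Int.ofNat 0, Int.ofNat 0, Int.negSucc 1, Int.negSucc 1, Int.ofNat 0, Int.ofNat 0, Int.ofNat 0, Int.ofNat 0, Int.ofNat 0, Int.ofNat 0, Int.ofNat 0, Int.ofNat 0, Int.ofNat 0, Int.ofNat 0, Int.ofNat 0, Int.negSucc 1, Int.ofNat 0, Int.ofNat 2, Int.ofNat 0, Int.negSucc 1, Int.ofNat 2],
  [Int.ofNat 1, Int.ofNat 1, Int.negSucc 0, Int.ofNat 1, Int.ofNat 1, Int.negSucc 0, Int.negSucc 0, Int.ofNat 1, Int.ofNat 1, Int.negSucc 0, Int.negSucc 0, Int.ofNat 1, Int.ofNat 1, Int.ofNat 1, Int.ofNat 1, Int.negSucc 0, Int.ofNat 1, Int.ofNat 1, Int.negSucc 0, Int.ofNat 1, Int.ofNat 1, Int.ofNat 1, Int.negSucc 0, Int.negSucc 2],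
  [Int.ofNat 1, Int.ofNat 1, Int.ofNat 1, Int.ofNat 1, Int.ofNat 1, Int.ofNat 1, Int.ofNat 1, Int.ofNat 1, Int.ofNat 1, Int.ofNat 1, Int.ofNat 1, Int.ofNat 1, Int.ofNat 1, Int.ofNat 1, Int.ofNat 1, Int.ofNat 1, Int.ofNat 1, Int.ofNat 1, Int.ofNat 1, Int.ofNat 1, Int.ofNat 1, Int.ofNat 1, Int.ofNat 1, Int.negSucc 2],
  [Int.ofNat 1, Int.ofNat 1, Int.ofNat 1, Int.ofNat 1, Int.ofNat 1, Int.ofNat 1, Int.ofNat 1, Int.ofNat 1, Int.ofNat 1, Int.ofNat 1, Int.ofNat 1, Int.ofNat 1, Int.ofNat 1, Int.ofNat 1, Int.ofNat 1, Int.ofNat 1, Int.ofNat 1, Int.ofNat 1, Int.ofNat 1, Int.ofNat 1, Int.ofNat 1, Int.ofNat 1, Int.ofNat 1, Int.negSucc 2],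
  [Int.negSucc 2, Int.ofNat 1, Int.ofNat 1, Int.ofNat 1, Int.ofNat 1, Int.ofNat 1, Int.ofNat 1, Int.ofNat 1, Int.ofNat 1, Int.ofNat 1, Int.ofNat 1, Int.ofNat 1, Int.ofNat 1, Int.ofNat 1, Int.ofNat 1, Int.ofNat 1, Int.ofNat 1, Int.ofNat 1, Int.ofNat 1, Int.ofNat 1, Int.ofNat 1, Int.ofNat 1, Int.ofNat 1, Int.ofNat 1],
  [Int.ofNat 3, Int.ofNat 1, Int.negSucc 0, Int.ofNat 1, Int.ofNat 1, Int.ofNat 1, Int.ofNat 1, Int.negSucc 0, Int.ofNat 1, Int.negSucc 0, Int.negSucc 0, Int.negSucc 0, Int.ofNat 1, Int.ofNat 1, Int.ofNat 1, Int.ofNat 1, Int.ofNat 1, Int.ofNat 1, Int.negSucc 0, Int.ofNat 1, Int.ofNat 1, Int.negSucc 0, Int.ofNat 1, Int.ofNat 1],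
  [Int.ofNat 1, Int.ofNat 3, Int.ofNat 1, Int.negSucc 0, Int.ofNat 1, Int.ofNat 1, Int.ofNat 1, Int.ofNat 1, Int.negSucc 0, Int.ofNat 1, Int.negSucc 0, Int.negSucc 0, Int.negSucc 0, Int.ofNat 1, Int.ofNat 1, Int.ofNat 1, Int.ofNat 1, Int.ofNat 1, Int.ofNat 1, Int.negSucc 0, Int.ofNat 1, Int.ofNat 1, Int.negSucc 0, Int.ofNat 1],
  [Int.ofNat 2, Int.ofNat 0, Int.ofNat 2, Int.negSucc 1, Int.ofNat 0, Int.ofNat 0, Int.ofNat 0, Int.ofNat 0, Int.ofNat 0, Int.ofNat 0, Int.negSucc 1, Int.ofNat 0, Int.ofNat 0, Int.ofNat 0, Int.ofNat 0, Int.ofNat 0, Int.ofNat 0, Int.ofNat 0, Int.ofNat 2, Int.negSucc 1, Int.ofNat 0, Int.ofNat 0, Int.negSucc 1, Int.ofNat 2],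
  [Int.negSucc 1, Int.ofNat 0, Int.ofNat 0, Int.ofNat 0, Int.ofNat 0, Int.ofNat 0, Int.ofNat 0, Int.negSucc 1, Int.ofNat 0, Int.ofNat 0, Int.ofNat 0, Int.ofNat 0, Int.ofNat 0, Int.ofNat 0, Int.ofNat 0, Int.ofNat 2, Int.negSucc 1, Int.ofNat 0, Int.ofNat 0, Int.negSucc 1, Int.ofNat 2, Int.ofNat 0, Int.ofNat 2, Int.ofNat 2],
  [Int.ofNat 2, Int.ofNat 0, Int.ofNat 0, Int.ofNat 0, Int.ofNat 0, Int.ofNat 0, Int.ofNat 2, Int.ofNat 0, Int.ofNat 0, Int.negSucc 1, Int.negSucc 1, Int.ofNat 0, Int.ofNat 0, Int.ofNat 0, Int.ofNat 0, Int.ofNat 0, Int.negSucc 1, Int.ofNat 0, Int.ofNat 0, Int.ofNat 0, Int.ofNat 0, Int.ofNat 2, Int.ofNat 2, Int.negSucc 1],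
  [Int.ofNat 2, Int.ofNat 2, Int.ofNat 0, Int.ofNat 0, Int.ofNat 0, Int.ofNat 0, Int.ofNat 0, Int.negSucc 1, Int.ofNat 0, Int.ofNat 0, Int.ofNat 0, Int.ofNat 0, Int.negSucc 1, Int.negSucc 1, Int.ofNat 2, Int.ofNat 0, Int.ofNat 0, Int.ofNat 0, Int.ofNat 0, Int.ofNat 0, Int.ofNat 2, Int.ofNat 0, Int.ofNat 0, Int.negSucc 1],
  [Int.negSucc 0, Int.negSucc 0, Int.ofNat 1, Int.negSucc 0, Int.ofNat 1, Int.negSucc 0, Int.ofNat 1, Int.negSucc 0, Int.ofNat 1, Int.negSucc 0, Int.negSucc 0, Int.ofNat 1, Int.negSucc 0, Int.negSucc 0, Int.ofNat 1, Int.negSucc 0, Int.ofNat 1, Int.negSucc 0, Int.ofNat 1, Int.ofNat 1, Int.ofNat 1, Int.ofNat 1, Int.ofNat 1, Int.ofNat 3],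
  [Int.negSucc 0, Int.negSucc 0, Int.negSucc 0, Int.negSucc 0, Int.ofNat 1, Int.ofNat 1, Int.negSucc 0, Int.negSucc 0, Int.ofNat 1, Int.ofNat 1, Int.ofNat 1, Int.ofNat 1, Int.negSucc 0, Int.negSucc 0, Int.ofNat 1, Int.ofNat 1, Int.ofNat 1, Int.negSucc 0, Int.negSucc 0, Int.ofNat 1, Int.ofNat 1, Int.ofNat 1, Int.negSucc 0, Int.ofNat 3],
  [Int.ofNat 1, Int.ofNat 1, Int.ofNat 1, Int.negSucc 0, Int.negSucc 0, Int.ofNat 1, Int.ofNat 1, Int.negSucc 0, Int.negSucc 0, Int.negSucc 0, Int.ofNat 1, Int.ofNat 1, Int.negSucc 0, Int.negSucc 0, Int.ofNat 1, Int.ofNat 1, Int.negSucc 0, Int.ofNat 1, Int.negSucc 0, Int.negSucc 0, Int.ofNat 1, Int.negSucc 0, Int.ofNat 1, Int.ofNat 3],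
  [Int.ofNat 1, Int.ofNat 1, Int.negSucc 0, Int.negSucc 0, Int.negSucc 0, Int.negSucc 0, Int.negSucc 0, Int.negSucc 0, Int.negSucc 0, Int.ofNat 1, Int.negSucc 0, Int.ofNat 1, Int.negSucc 0, Int.negSucc 0, Int.ofNat 1, Int.negSucc 0, Int.negSucc 0, Int.ofNat 1, Int.ofNat 1, Int.negSucc 0, Int.ofNat 1, Int.negSucc 0, Int.negSucc 0, Int.ofNat 3],
  [Int.ofNat 1, Int.ofNat 1, Int.ofNat 3, Int.negSucc 0, Int.ofNat 1, Int.negSucc 0, Int.ofNat 1, Int.ofNat 1, Int.negSucc 0, Int.ofNat 1, Int.negSucc 0, Int.ofNat 1, Int.negSucc 0, Int.ofNat 1, Int.ofNat 1, Int.negSucc 0, Int.ofNat 1, Int.ofNat 1, Int.ofNat 1, Int.ofNat 1, Int.ofNat 1, Int.ofNat 1, Int.ofNat 1, Int.negSucc 0],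
  [Int.ofNat 1, Int.ofNat 1, Int.ofNat 1, Int.negSucc 0, Int.ofNat 3, Int.ofNat 1, Int.ofNat 1, Int.negSucc 0, Int.ofNat 1, Int.negSucc 0, Int.ofNat 1, Int.ofNat 1, Int.negSucc 0, Int.ofNat 1, Int.ofNat 1, Int.negSucc 0, Int.ofNat 1, Int.ofNat 1, Int.ofNat 1, Int.ofNat 1, Int.negSucc 0, Int.ofNat 1, Int.ofNat 1, Int.negSucc 0],
  [Int.ofNat 0, Int.ofNat 0, Int.ofNat 0, Int.negSucc 1, Int.ofNat 0, Int.ofNat 0, Int.ofNat 0, Int.negSucc 1, Int.ofNat 0, Int.ofNat 0, Int.ofNat 2, Int.ofNat 0, Int.negSucc 1, Int.negSucc 1, Int.ofNat 0, Int.ofNat 0, Int.negSucc 1, Int.ofNat 0, Int.ofNat 0, Int.ofNat 0, Int.ofNat 0, Int.ofNat 0, Int.negSucc 1, Int.ofNat 2],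
  [Int.ofNat 0, Int.ofNat 0, Int.negSucc 1, Int.ofNat 0, Int.ofNat 0, Int.ofNat 0, Int.negSucc 1, Int.ofNat 0, Int.ofNat 0, Int.ofNat 0, Int.negSucc 1, Int.ofNat 0, Int.ofNat 0, Int.ofNat 2, Int.ofNat 0, Int.negSucc 1, Int.negSucc 1, Int.ofNat 0, Int.ofNat 0, Int.negSucc 1, Int.ofNat 0, Int.ofNat 0, Int.ofNat 0, Int.ofNat 2],
  [Int.ofNat 0, Int.ofNat 0, Int.ofNat 2, Int.ofNat 0, Int.ofNat 0, Int.ofNat 0, Int.ofNat 0, Int.ofNat 2, Int.ofNat 0, Int.ofNat 2, Int.ofNat 0, Int.ofNat 0, Int.ofNat 0, Int.ofNat 2, Int.ofNat 0, Int.ofNat 0, Int.negSucc 1, Int.ofNat 0, Int.ofNat 0, Int.ofNat 0, Int.ofNat 2, Int.ofNat 2, Int.ofNat 0, Int.negSucc 1],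
  [Int.ofNat 0, Int.ofNat 2, Int.ofNat 0, Int.ofNat 0, Int.ofNat 0, Int.ofNat 0, Int.ofNat 2, Int.ofNat 0, Int.ofNat 2, Int.ofNat 0, Int.ofNat 0, Int.ofNat 0, Int.ofNat 2, Int.ofNat 0, Int.ofNat 0, Int.negSucc 1, Int.ofNat 0, Int.ofNat 0, Int.ofNat 0, Int.ofNat 2, Int.ofNat 2, Int.ofNat 0, Int.ofNat 0, Int.negSucc 1],
  [Int.ofNat 0, Int.ofNat 2, Int.ofNat 0, Int.ofNat 0, Int.ofNat 0, Int.ofNat 0, Int.ofNat 2, Int.ofNat 0, Int.ofNat 2, Int.ofNat 0, Int.ofNat 0, Int.ofNat 0, Int.ofNat 2, Int.ofNat 0, Int.ofNat 0, Int.negSucc 1, Int.ofNat 0, Int.ofNat 0, Int.ofNat 0, Int.ofNat 2, Int.ofNat 2, Int.ofNat 0, Int.ofNat 0, Int.negSucc 1],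
  [Int.ofNat 0, Int.negSucc 1, Int.ofNat 0, Int.ofNat 0, Int.ofNat 0, Int.ofNat 0, Int.negSucc 1, Int.ofNat 0, Int.negSucc 1, Int.ofNat 0, Int.ofNat 0, Int.ofNat 0, Int.negSucc 1, Int.ofNat 0, Int.ofNat 0, Int.negSucc 1, Int.ofNat 0, Int.ofNat 0, Int.ofNat 0, Int.ofNat 2, Int.ofNat 2, Int.ofNat 0, Int.ofNat 0, Int.negSucc 1],
  [Int.ofNat 0, Int.ofNat 0, Int.ofNat 0, Int.ofNat 0, Int.negSucc 1, Int.ofNat 0, Int.ofNat 0, Int.ofNat 2, Int.ofNat 0, Int.ofNat 0, Int.ofNat 0, Int.ofNat 0, Int.ofNat 0, Int.negSucc 1, Int.ofNat 2, Int.negSucc 1, Int.negSucc 1, Int.ofNat 0, Int.negSucc 1, Int.ofNat 0, Int.ofNat 0, Int.ofNat 0, Int.ofNat 0, Int.negSucc 1],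
  [Int.ofNat 0, Int.ofNat 0, Int.ofNat 0, Int.ofNat 0, Int.negSucc 1, Int.ofNat 0, Int.ofNat 0, Int.negSucc 1, Int.ofNat 0, Int.ofNat 0, Int.ofNat 0, Int.ofNat 0, Int.ofNat 0, Int.negSucc 1, Int.ofNat 2, Int.negSucc 1, Int.negSucc 1, Int.ofNat 0, Int.ofNat 2, Int.ofNat 0, Int.ofNat 0, Int.ofNat 0, Int.ofNat 0, Int.negSucc 1],
  [Int.ofNat 0, Int.ofNat 0, Int.ofNat 0, Int.ofNat 0, Int.ofNat 0, Int.negSucc 1, Int.ofNat 0, Int.ofNat 0, Int.negSucc 1, Int.ofNat 0, Int.ofNat 0, Int.ofNat 0, Int.ofNat 0, Int.ofNat 0, Int.negSucc 1, Int.ofNat 2, Int.negSucc 1, Int.negSucc 1, Int.ofNat 0, Int.ofNat 2, Int.ofNat 0, Int.ofNat 0, Int.ofNat 0, Int.negSucc 1],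
  [Int.negSucc 0, Int.negSucc 0, Int.negSucc 0, Int.ofNat 3, Int.ofNat 1, Int.ofNat 1, Int.negSucc 0, Int.negSucc 0, Int.negSucc 0, Int.negSucc 0, Int.negSucc 0, Int.ofNat 1, Int.ofNat 1, Int.ofNat 1, Int.ofNat 1, Int.ofNat 1, Int.negSucc 0, Int.ofNat 1, Int.ofNat 1, Int.ofNat 1, Int.negSucc 0, Int.negSucc 0, Int.ofNat 1, Int.ofNat 1],
  [Int.ofNat 3, Int.ofNat 1, Int.ofNat 1, Int.negSucc 0, Int.negSucc 0, Int.negSucc 0, Int.negSucc 0, Int.negSucc 0, Int.ofNat 1, Int.ofNat 1, Int.ofNat 1, Int.ofNat 1, Int.ofNat 1, Int.negSucc 0, Int.ofNat 1, Int.ofNat 1, Int.ofNat 1, Int.negSucc 0, Int.negSucc 0, Int.ofNat 1, Int.negSucc 0, Int.negSucc 0, Int.negSucc 0, Int.ofNat 1],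
  [Int.ofNat 0, Int.ofNat 2, Int.ofNat 2, Int.ofNat 0, Int.ofNat 0, Int.ofNat 0, Int.ofNat 0, Int.ofNat 0, Int.ofNat 0, Int.ofNat 0, Int.ofNat 0, Int.ofNat 0, Int.ofNat 0, Int.ofNat 0, Int.ofNat 2, Int.ofNat 0, Int.ofNat 2, Int.ofNat 0, Int.negSucc 1, Int.ofNat 2, Int.negSucc 1, Int.ofNat 0, Int.ofNat 0, Int.ofNat 2],
  [Int.ofNat 0, Int.ofNat 0, Int.ofNat 0, Int.ofNat 0, Int.negSucc 1, Int.ofNat 0, Int.ofNat 2, Int.ofNat 0, Int.ofNat 0, Int.ofNat 0, Int.negSucc 1, Int.ofNat 0, Int.ofNat 0, Int.ofNat 2, Int.ofNat 0, Int.ofNat 0, Int.ofNat 0, Int.ofNat 2, Int.ofNat 2, Int.ofNat 0, Int.ofNat 0, Int.ofNat 0, Int.ofNat 2, Int.ofNat 2],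
  [Int.ofNat 1, Int.ofNat 1, Int.ofNat 1, Int.negSucc 0, Int.negSucc 2, Int.negSucc 0, Int.ofNat 1, Int.negSucc 0, Int.negSucc 0, Int.ofNat 1, Int.negSucc 0, Int.negSucc 0, Int.negSucc 0, Int.ofNat 1, Int.negSucc 0, Int.ofNat 1, Int.negSucc 0, Int.ofNat 1, Int.ofNat 1, Int.negSucc 0, Int.ofNat 1, Int.negSucc 0, Int.ofNat 1, Int.negSucc 0],
  [Int.ofNat 1, Int.ofNat 1, Int.negSucc 0, Int.negSucc 0, Int.negSucc 2, Int.ofNat 1, Int.negSucc 0, Int.negSucc 0, Int.negSucc 0, Int.negSucc 0, Int.ofNat 1, Int.negSucc 0, Int.negSucc 0, Int.ofNat 1, Int.negSucc 0, Int.negSucc 0, Int.negSucc 0, Int.ofNat 1, Int.negSucc 0, Int.negSucc 0, Int.ofNat 1, Int.negSucc 0, Int.negSucc 0, Int.negSucc 0],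
  [Int.ofNat 1, Int.negSucc 0, Int.negSucc 0, Int.negSucc 0, Int.negSucc 0, Int.negSucc 0, Int.negSucc 0, Int.negSucc 0, Int.ofNat 1, Int.ofNat 1, Int.ofNat 1, Int.negSucc 0, Int.negSucc 0, Int.negSucc 2, Int.ofNat 1, Int.negSucc 0, Int.negSucc 0, Int.negSucc 0, Int.negSucc 0, Int.negSucc 0, Int.ofNat 1, Int.ofNat 1, Int.negSucc 0, Int.negSucc 0],
  [Int.negSucc 0, Int.negSucc 0, Int.negSucc 0, Int.negSucc 0, Int.negSucc 0, Int.ofNat 1, Int.negSucc 0, Int.negSucc 2, Int.ofNat 1, Int.negSucc 0, Int.negSucc 0, Int.negSucc 0, Int.ofNat 1, Int.negSucc 0, Int.negSucc 0, Int.negSucc 0, Int.ofNat 1, Int.negSucc 0, Int.ofNat 1, Int.negSucc 0, Int.ofNat 1, Int.negSucc 0, Int.negSucc 0, Int.ofNat 1],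
  [Int.ofNat 1, Int.negSucc 0, Int.ofNat 1, Int.negSucc 0, Int.negSucc 0, Int.ofNat 1, Int.negSucc 0, Int.ofNat 3, Int.ofNat 1, Int.ofNat 1, Int.ofNat 1, Int.ofNat 1, Int.ofNat 1, Int.negSucc 0, Int.negSucc 0, Int.negSucc 0, Int.ofNat 1, Int.negSucc 0, Int.negSucc 0, Int.negSucc 0, Int.ofNat 1, Int.ofNat 1, Int.negSucc 0, Int.ofNat 1],
  [Int.negSucc 0, Int.ofNat 1, Int.negSucc 0, Int.ofNat 1, Int.negSucc 0, Int.negSucc 0, Int.ofNat 1, Int.negSucc 0, Int.ofNat 3, Int.ofNat 1, Int.ofNat 1, Int.ofNat 1, Int.ofNat 1, Int.ofNat 1, Int.negSucc 0, Int.negSucc 0, Int.negSucc 0, Int.ofNat 1, Int.negSucc 0, Int.negSucc 0, Int.negSucc 0, Int.ofNat 1, Int.ofNat 1, Int.ofNat 1],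
  [Int.ofNat 1, Int.negSucc 0, Int.ofNat 1, Int.ofNat 1, Int.negSucc 0, Int.negSucc 0, Int.ofNat 1, Int.negSucc 0, Int.ofNat 1, Int.ofNat 1, Int.ofNat 1, Int.negSucc 0, Int.negSucc 0, Int.ofNat 1, Int.negSucc 0, Int.negSucc 0, Int.negSucc 0, Int.ofNat 1, Int.negSucc 2, Int.negSucc 0, Int.negSucc 0, Int.ofNat 1, Int.ofNat 1, Int.negSucc 0],
  [Int.ofNat 1, Int.negSucc 0, Int.negSucc 0, Int.ofNat 1, Int.negSucc 0, Int.ofNat 1, Int.ofNat 1, Int.ofNat 1, Int.negSucc 0, Int.negSucc 0, Int.ofNat 1, Int.negSucc 0, Int.negSucc 0, Int.negSucc 0, Int.ofNat 1, Int.negSucc 2, Int.negSucc 0, Int.negSucc 0, Int.ofNat 1, Int.ofNat 1, Int.ofNat 1, Int.negSucc 0, Int.ofNat 1, Int.negSucc 0],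
  [Int.negSucc 1, Int.ofNat 0, Int.ofNat 0, Int.ofNat 0, Int.ofNat 0, Int.ofNat 0, Int.ofNat 0, Int.ofNat 0, Int.ofNat 0, Int.ofNat 0, Int.ofNat 2, Int.ofNat 0, Int.ofNat 0, Int.ofNat 0, Int.ofNat 0, Int.negSucc 1, Int.ofNat 0, Int.negSucc 1, Int.ofNat 2, Int.ofNat 0, Int.ofNat 2, Int.negSucc 1, Int.ofNat 2, Int.ofNat 0],
  [Int.negSucc 1, Int.ofNat 0, Int.ofNat 0, Int.ofNat 0, Int.ofNat 2, Int.ofNat 0, Int.ofNat 0, Int.ofNat 2, Int.ofNat 0, Int.ofNat 0, Int.ofNat 2, Int.negSucc 1, Int.ofNat 0, Int.ofNat 0, Int.ofNat 2, Int.negSucc 1, Int.ofNat 0, Int.ofNat 0, Int.ofNat 0, Int.ofNat 0, Int.negSucc 1, Int.ofNat 0, Int.ofNat 0, Int.ofNat 0],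
  [Int.ofNat 1, Int.negSucc 0, Int.negSucc 0, Int.negSucc 0, Int.ofNat 1, Int.negSucc 0, Int.negSucc 0, Int.ofNat 1, Int.ofNat 1, Int.ofNat 1, Int.ofNat 3, Int.negSucc 0, Int.ofNat 1, Int.negSucc 0, Int.ofNat 1, Int.negSucc 0, Int.negSucc 0, Int.negSucc 0, Int.ofNat 1, Int.negSucc 0, Int.negSucc 0, Int.negSucc 0, Int.negSucc 0, Int.negSucc 0],
  [Int.ofNat 1, Int.negSucc 0, Int.ofNat 1, Int.negSucc 0, Int.ofNat 1, Int.ofNat 1, Int.ofNat 1, Int.ofNat 1, Int.ofNat 1, Int.negSucc 0, Int.negSucc 2, Int.negSucc 0, Int.ofNat 1, Int.negSucc 0, Int.ofNat 1, Int.ofNat 1, Int.negSucc 0, Int.negSucc 0, Int.negSucc 0, Int.negSucc 0, Int.negSucc 0, Int.negSucc 0, Int.ofNat 1, Int.negSucc 0],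
  [Int.negSucc 0, Int.negSucc 0, Int.negSucc 2, Int.ofNat 1, Int.ofNat 1, Int.ofNat 1, Int.negSucc 0, Int.negSucc 0, Int.negSucc 0, Int.ofNat 1, Int.ofNat 1, Int.negSucc 0, Int.negSucc 0, Int.negSucc 0, Int.ofNat 1, Int.negSucc 0, Int.ofNat 1, Int.negSucc 0, Int.ofNat 1, Int.ofNat 1, Int.ofNat 1, Int.negSucc 0, Int.ofNat 1, Int.negSucc 0],
  [Int.negSucc 0, Int.negSucc 0, Int.ofNat 3, Int.ofNat 1, Int.ofNat 1, Int.negSucc 0, Int.ofNat 1, Int.negSucc 0, Int.negSucc 0, Int.negSucc 0, Int.negSucc 0, Int.negSucc 0, Int.negSucc 0, Int.negSucc 0, Int.ofNat 1, Int.ofNat 1, Int.ofNat 1, Int.negSucc 0, Int.negSucc 0, Int.ofNat 1, Int.ofNat 1, Int.negSucc 0, Int.negSucc 0, Int.negSucc 0],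
  [Int.ofNat 1, Int.ofNat 1, Int.negSucc 2, Int.ofNat 1, Int.ofNat 1, Int.negSucc 0, Int.ofNat 1, Int.negSucc 0, Int.ofNat 1, Int.negSucc 0, Int.negSucc 0, Int.ofNat 1, Int.ofNat 1, Int.negSucc 0, Int.ofNat 1, Int.ofNat 1, Int.ofNat 1, Int.negSucc 0, Int.ofNat 1, Int.ofNat 1, Int.ofNat 1, Int.negSucc 0, Int.negSucc 0, Int.ofNat 1],
  [Int.ofNat 1, Int.ofNat 1, Int.ofNat 1, Int.ofNat 1, Int.negSucc 2, Int.negSucc 0, Int.ofNat 1, Int.negSucc 0, Int.ofNat 1, Int.ofNat 1, Int.negSucc 0, Int.ofNat 1, Int.ofNat 1, Int.negSucc 0, Int.negSucc 0, Int.ofNat 1, Int.negSucc 0, Int.ofNat 1, Int.ofNat 1, Int.negSucc 0, Int.negSucc 0, Int.ofNat 1, Int.ofNat 1, Int.ofNat 1],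
  [Int.ofNat 1, Int.ofNat 1, Int.ofNat 1, Int.ofNat 1, Int.negSucc 0, Int.negSucc 0, Int.ofNat 1, Int.negSucc 0, Int.negSucc 0, Int.ofNat 1, Int.negSucc 0, Int.negSucc 0, Int.negSucc 0, Int.ofNat 1, Int.negSucc 0, Int.ofNat 1, Int.ofNat 1, Int.ofNat 1, Int.negSucc 0, Int.negSucc 0, Int.negSucc 0, Int.ofNat 1, Int.ofNat 3, Int.ofNat 1],
  [Int.negSucc 0, Int.ofNat 1, Int.ofNat 3, Int.ofNat 1, Int.ofNat 1, Int.ofNat 1, Int.ofNat 1, Int.negSucc 0, Int.negSucc 0, Int.ofNat 1, Int.negSucc 0, Int.negSucc 0, Int.ofNat 1, Int.negSucc 0, Int.negSucc 0, Int.negSucc 0, Int.ofNat 1, Int.negSucc 0, Int.ofNat 1, Int.ofNat 1, Int.ofNat 1, Int.negSucc 0, Int.negSucc 0, Int.ofNat 1],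
  [Int.ofNat 3, Int.ofNat 1, Int.negSucc 0, Int.ofNat 1, Int.ofNat 1, Int.ofNat 1, Int.ofNat 1, Int.negSucc 0, Int.negSucc 0, Int.ofNat 1, Int.negSucc 0, Int.negSucc 0, Int.ofNat 1, Int.negSucc 0, Int.negSucc 0, Int.negSucc 0, Int.ofNat 1, Int.negSucc 0, Int.ofNat 1, Int.ofNat 1, Int.ofNat 1, Int.negSucc 0, Int.negSucc 0, Int.ofNat 1],
  [Int.ofNat 1, Int.negSucc 0, Int.ofNat 1, Int.ofNat 1, Int.ofNat 1, Int.ofNat 1, Int.negSucc 0, Int.negSucc 0, Int.ofNat 1, Int.negSucc 0, Int.negSucc 0, Int.ofNat 1, Int.negSucc 0, Int.negSucc 0, Int.negSucc 0, Int.ofNat 1, Int.negSucc 0, Int.ofNat 1, Int.ofNat 1, Int.ofNat 1, Int.negSucc 0, Int.negSucc 0, Int.ofNat 3, Int.ofNat 1],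
  [Int.negSucc 0, Int.negSucc 0, Int.negSucc 0, Int.ofNat 1, Int.ofNat 1, Int.ofNat 1, Int.negSucc 0, Int.ofNat 1, Int.ofNat 1, Int.ofNat 1, Int.ofNat 1, Int.negSucc 0, Int.negSucc 0, Int.negSucc 0, Int.negSucc 0, Int.ofNat 1, Int.negSucc 0, Int.ofNat 1, Int.negSucc 0, Int.ofNat 1, Int.negSucc 0, Int.ofNat 1, Int.ofNat 3, Int.ofNat 1],
  [Int.ofNat 1, Int.ofNat 1, Int.ofNat 1, Int.negSucc 0, Int.negSucc 0, Int.ofNat 1, Int.ofNat 1, Int.ofNat 1, Int.negSucc 0, Int.negSucc 0, Int.ofNat 1, Int.negSucc 0, Int.ofNat 1, Int.ofNat 1, Int.negSucc 0, Int.ofNat 1, Int.ofNat 1, Int.ofNat 1, Int.ofNat 1, Int.ofNat 1, Int.negSucc 0, Int.ofNat 1, Int.ofNat 3, Int.ofNat 1],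
  [Int.ofNat 1, Int.ofNat 1, Int.ofNat 1, Int.negSucc 0, Int.ofNat 1, Int.ofNat 1, Int.negSucc 0, Int.negSucc 0, Int.negSucc 0, Int.ofNat 1, Int.ofNat 1, Int.negSucc 0, Int.ofNat 1, Int.negSucc 0, Int.ofNat 1, Int.ofNat 1, Int.ofNat 1, Int.ofNat 3, Int.ofNat 1, Int.ofNat 1, Int.ofNat 1, Int.ofNat 1, Int.negSucc 0, Int.ofNat 1],
  [Int.negSucc 0, Int.ofNat 1, Int.negSucc 0, Int.negSucc 0, Int.ofNat 1, Int.ofNat 1, Int.negSucc 0, Int.ofNat 1, Int.negSucc 0, Int.negSucc 0, Int.negSucc 0, Int.ofNat 1, Int.ofNat 1, Int.negSucc 0, Int.ofNat 1, Int.ofNat 1, Int.ofNat 1, Int.ofNat 3, Int.negSucc 0, Int.ofNat 1, Int.ofNat 1, Int.negSucc 0, Int.negSucc 0, Int.ofNat 1],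
  [Int.negSucc 0, Int.negSucc 0, Int.ofNat 1, Int.negSucc 0, Int.negSucc 0, Int.ofNat 1, Int.ofNat 1, Int.negSucc 0, Int.ofNat 1, Int.negSucc 0, Int.negSucc 0, Int.negSucc 0, Int.ofNat 1, Int.ofNat 1, Int.negSucc 0, Int.ofNat 1, Int.ofNat 1, Int.ofNat 1, Int.ofNat 3, Int.negSucc 0, Int.ofNat 1, Int.ofNat 1, Int.negSucc 0, Int.ofNat 1],
  [Int.ofNat 1, Int.ofNat 1, Int.negSucc 0, Int.negSucc 0, Int.negSucc 0, Int.ofNat 1, Int.ofNat 1, Int.negSucc 0, Int.negSucc 0, Int.negSucc 0, Int.negSucc 0, Int.negSucc 2, Int.negSucc 0, Int.ofNat 1, Int.negSucc 0, Int.ofNat 1, Int.ofNat 1, Int.ofNat 1, Int.ofNat 1, Int.negSucc 0, Int.ofNat 1, Int.ofNat 1, Int.negSucc 0, Int.negSucc 0],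
  [Int.negSucc 0, Int.negSucc 0, Int.ofNat 1, Int.ofNat 1, Int.negSucc 0, Int.negSucc 0, Int.negSucc 0, Int.negSucc 0, Int.negSucc 2, Int.negSucc 0, Int.ofNat 1, Int.negSucc 0, Int.ofNat 1, Int.ofNat 1, Int.ofNat 1, Int.ofNat 1, Int.negSucc 0, Int.ofNat 1, Int.ofNat 1, Int.negSucc 0, Int.ofNat 1, Int.ofNat 1, Int.negSucc 0, Int.negSucc 0],
  [Int.ofNat 0, Int.ofNat 0, Int.negSucc 1, Int.ofNat 0, Int.ofNat 0, Int.negSucc 1, Int.ofNat 0, Int.ofNat 0, Int.negSucc 1, Int.negSucc 1, Int.ofNat 0, Int.ofNat 0, Int.ofNat 2, Int.ofNat 2, Int.ofNat 0, Int.ofNat 0, Int.ofNat 0, Int.ofNat 0, Int.ofNat 2, Int.ofNat 0, Int.ofNat 0, Int.ofNat 2, Int.ofNat 0, Int.ofNat 0],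
  [Int.ofNat 0, Int.ofNat 0, Int.ofNat 0, Int.ofNat 0, Int.ofNat 2, Int.ofNat 0, Int.negSucc 1, Int.ofNat 0, Int.ofNat 2, Int.ofNat 2, Int.ofNat 0, Int.ofNat 0, Int.negSucc 1, Int.ofNat 0, Int.ofNat 0, Int.ofNat 0, Int.negSucc 1, Int.ofNat 0, Int.ofNat 0, Int.ofNat 0, Int.ofNat 2, Int.negSucc 1, Int.ofNat 0, Int.ofNat 0],
  [Int.ofNat 0, Int.ofNat 0, Int.ofNat 0, Int.ofNat 0, Int.ofNat 2, Int.ofNat 0, Int.ofNat 0, Int.ofNat 2, Int.ofNat 2, Int.ofNat 0, Int.negSucc 1, Int.ofNat 0, Int.negSucc 1, Int.ofNat 0, Int.ofNat 0, Int.negSucc 1, Int.negSucc 1, Int.ofNat 0, Int.ofNat 0, Int.ofNat 2, Int.ofNat 0, Int.ofNat 0, Int.ofNat 0, Int.ofNat 0],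
  [Int.ofNat 0, Int.ofNat 0, Int.ofNat 0, Int.ofNat 0, Int.ofNat 2, Int.ofNat 0, Int.ofNat 0, Int.ofNat 2, Int.ofNat 2, Int.ofNat 0, Int.ofNat 2, Int.ofNat 0, Int.negSucc 1, Int.ofNat 0, Int.ofNat 0, Int.ofNat 2, Int.negSucc 1, Int.ofNat 0, Int.ofNat 0, Int.ofNat 2, Int.ofNat 0, Int.ofNat 0, Int.ofNat 0, Int.ofNat 0],
  [Int.ofNat 2, Int.negSucc 1, Int.ofNat 0, Int.ofNat 2, Int.ofNat 0, Int.ofNat 0, Int.ofNat 0, Int.ofNat 0, Int.ofNat 0, Int.ofNat 0, Int.ofNat 0, Int.ofNat 2, Int.ofNat 2, Int.ofNat 2, Int.ofNat 0, Int.ofNat 0, Int.ofNat 2, Int.negSucc 1, Int.ofNat 0, Int.ofNat 0, Int.ofNat 0, Int.ofNat 0, Int.ofNat 0, Int.ofNat 0],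
  [Int.ofNat 0, Int.ofNat 0, Int.ofNat 2, Int.ofNat 0, Int.negSucc 1, Int.ofNat 0, Int.ofNat 0, Int.ofNat 2, Int.ofNat 0, Int.ofNat 0, Int.ofNat 2, Int.ofNat 0, Int.ofNat 0, Int.ofNat 0, Int.ofNat 0, Int.ofNat 2, Int.ofNat 0, Int.ofNat 0, Int.ofNat 0, Int.ofNat 0, Int.ofNat 0, Int.ofNat 2, Int.negSucc 1, Int.ofNat 2],
  [Int.ofNat 0, Int.ofNat 0, Int.negSucc 1, Int.ofNat 0, Int.negSucc 1, Int.ofNat 0, Int.ofNat 0, Int.negSucc 1, Int.ofNat 0, Int.ofNat 0, Int.negSucc 1, Int.ofNat 0, Int.ofNat 0, Int.ofNat 0, Int.ofNat 0, Int.ofNat 2, Int.ofNat 0, Int.ofNat 0, Int.ofNat 0, Int.ofNat 0, Int.ofNat 0, Int.negSucc 1, Int.negSucc 1, Int.ofNat 2],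
  [Int.negSucc 1, Int.ofNat 0, Int.ofNat 0, Int.negSucc 1, Int.ofNat 0, Int.negSucc 1, Int.ofNat 0, Int.ofNat 0, Int.negSucc 1, Int.ofNat 0, Int.ofNat 0, Int.negSucc 1, Int.ofNat 0, Int.ofNat 0, Int.ofNat 0, Int.ofNat 0, Int.ofNat 2, Int.ofNat 0, Int.ofNat 0, Int.ofNat 0, Int.ofNat 0, Int.ofNat 0, Int.negSucc 1, Int.ofNat 2],
  [Int.ofNat 2, Int.ofNat 0, Int.ofNat 0, Int.ofNat 0, Int.ofNat 0, Int.ofNat 0, Int.ofNat 0, Int.ofNat 0, Int.ofNat 0, Int.ofNat 0, Int.ofNat 0, Int.ofNat 0, Int.ofNat 2, Int.ofNat 0, Int.ofNat 2, Int.ofNat 0, Int.ofNat 2, Int.ofNat 2, Int.ofNat 2, Int.ofNat 0, Int.ofNat 0, Int.ofNat 0, Int.negSucc 1, Int.negSucc 1],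
  [Int.ofNat 0, Int.ofNat 0, Int.ofNat 0, Int.ofNat 0, Int.ofNat 0, Int.ofNat 0, Int.ofNat 0, Int.ofNat 0, Int.ofNat 0, Int.ofNat 2, Int.ofNat 0, Int.ofNat 2, Int.ofNat 0, Int.ofNat 2, Int.ofNat 2, Int.ofNat 2, Int.ofNat 0, Int.ofNat 0, Int.ofNat 0, Int.negSucc 1, Int.ofNat 2, Int.ofNat 0, Int.ofNat 0, Int.negSucc 1],
  [Int.negSucc 0, Int.negSucc 0, Int.negSucc 0, Int.negSucc 0, Int.negSucc 0, Int.negSucc 0, Int.ofNat 1, Int.ofNat 1, Int.negSucc 0, Int.negSucc 0, Int.negSucc 2, Int.ofNat 1, Int.negSucc 0, Int.ofNat 1, Int.ofNat 1, Int.negSucc 0, Int.negSucc 0, Int.negSucc 0, Int.negSucc 0, Int.negSucc 0, Int.negSucc 0, Int.ofNat 1, Int.negSucc 0, Int.ofNat 1],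
  [Int.negSucc 0, Int.ofNat 1, Int.negSucc 0, Int.negSucc 0, Int.negSucc 0, Int.ofNat 1, Int.negSucc 0, Int.negSucc 2, Int.negSucc 0, Int.ofNat 1, Int.negSucc 0, Int.negSucc 0, Int.negSucc 0, Int.negSucc 0, Int.negSucc 0, Int.negSucc 0, Int.negSucc 0, Int.ofNat 1, Int.negSucc 0, Int.ofNat 1, Int.ofNat 1, Int.negSucc 0, Int.negSucc 0, Int.ofNat 1],
  [Int.ofNat 1, Int.negSucc 0, Int.ofNat 1, Int.negSucc 0, Int.ofNat 1, Int.ofNat 1, Int.ofNat 1, Int.negSucc 0, Int.ofNat 1, Int.ofNat 1, Int.negSucc 0, Int.ofNat 1, Int.ofNat 1, Int.ofNat 1, Int.negSucc 0, Int.negSucc 0, Int.ofNat 1, Int.ofNat 1, Int.ofNat 1, Int.ofNat 3, Int.ofNat 1, Int.ofNat 1, Int.ofNat 1, Int.negSucc 0],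
  [Int.ofNat 1, Int.negSucc 0, Int.negSucc 0, Int.negSucc 0, Int.ofNat 1, Int.negSucc 0, Int.negSucc 0, Int.negSucc 0, Int.ofNat 1, Int.negSucc 0, Int.ofNat 1, Int.ofNat 1, Int.ofNat 1, Int.ofNat 1, Int.negSucc 0, Int.ofNat 1, Int.ofNat 1, Int.ofNat 1, Int.negSucc 0, Int.ofNat 3, Int.ofNat 1, Int.ofNat 1, Int.negSucc 0, Int.negSucc 0],
  [Int.ofNat 1, Int.ofNat 1, Int.ofNat 1, Int.negSucc 0, Int.ofNat 1, Int.ofNat 1, Int.ofNat 1, Int.negSucc 0, Int.negSucc 0, Int.negSucc 0, Int.negSucc 0, Int.ofNat 1, Int.negSucc 0, Int.ofNat 1, Int.negSucc 0, Int.ofNat 3, Int.negSucc 0, Int.negSucc 0, Int.negSucc 0, Int.ofNat 1, Int.ofNat 1, Int.ofNat 1, Int.ofNat 1, Int.negSucc 0],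
  [Int.ofNat 1, Int.ofNat 1, Int.negSucc 0, Int.negSucc 0, Int.ofNat 1, Int.negSucc 0, Int.negSucc 0, Int.negSucc 0, Int.negSucc 0, Int.ofNat 1, Int.ofNat 1, Int.ofNat 1, Int.negSucc 0, Int.ofNat 1, Int.negSucc 0, Int.negSucc 2, Int.negSucc 0, Int.negSucc 0, Int.ofNat 1, Int.ofNat 1, Int.ofNat 1, Int.ofNat 1, Int.negSucc 0, Int.negSucc 0],
  [Int.negSucc 0, Int.negSucc 0, Int.ofNat 1, Int.ofNat 1, Int.ofNat 1, Int.ofNat 1, Int.negSucc 0, Int.negSucc 0, Int.negSucc 0, Int.ofNat 1, Int.ofNat 1, Int.ofNat 1, Int.negSucc 0, Int.ofNat 1, Int.ofNat 1, Int.negSucc 2, Int.negSucc 0, Int.ofNat 1, Int.ofNat 1, Int.ofNat 1, Int.ofNat 1, Int.ofNat 1, Int.negSucc 0, Int.ofNat 1],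
  [Int.negSucc 0, Int.ofNat 1, Int.negSucc 0, Int.ofNat 1, Int.ofNat 1, Int.ofNat 1, Int.negSucc 0, Int.ofNat 1, Int.negSucc 0, Int.negSucc 0, Int.negSucc 0, Int.ofNat 1, Int.negSucc 0, Int.ofNat 1, Int.ofNat 1, Int.negSucc 2, Int.ofNat 1, Int.ofNat 1, Int.ofNat 1, Int.negSucc 0, Int.ofNat 1, Int.ofNat 1, Int.ofNat 1, Int.ofNat 1],
  [Int.ofNat 1, Int.negSucc 0, Int.ofNat 1, Int.negSucc 0, Int.negSucc 0, Int.negSucc 0, Int.negSucc 0, Int.ofNat 1, Int.negSucc 0, Int.ofNat 1, Int.ofNat 1, Int.ofNat 1, Int.negSucc 0, Int.negSucc 0, Int.negSucc 0, Int.negSucc 0, Int.negSucc 0, Int.negSucc 0, Int.ofNat 1, Int.negSucc 0, Int.ofNat 3, Int.ofNat 1, Int.negSucc 0, Int.negSucc 0],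
  [Int.ofNat 3, Int.ofNat 1, Int.negSucc 0, Int.ofNat 1, Int.negSucc 0, Int.ofNat 1, Int.negSucc 0, Int.negSucc 0, Int.negSucc 0, Int.negSucc 0, Int.ofNat 1, Int.negSucc 0, Int.ofNat 1, Int.ofNat 1, Int.ofNat 1, Int.negSucc 0, Int.negSucc 0, Int.negSucc 0, Int.negSucc 0, Int.negSucc 0, Int.negSucc 0, Int.ofNat 1, Int.negSucc 0, Int.negSucc 0],
  [Int.negSucc 1, Int.ofNat 0, Int.ofNat 2, Int.ofNat 0, Int.ofNat 0, Int.ofNat 0, Int.ofNat 0, Int.ofNat 0, Int.ofNat 0, Int.ofNat 0, Int.ofNat 2, Int.ofNat 0, Int.ofNat 2, Int.ofNat 2, Int.ofNat 0, Int.ofNat 0, Int.ofNat 0, Int.negSucc 1, Int.ofNat 0, Int.ofNat 0, Int.ofNat 0, Int.ofNat 2, Int.ofNat 0, Int.ofNat 2],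
  [Int.ofNat 0, Int.ofNat 2, Int.ofNat 0, Int.ofNat 0, Int.ofNat 0, Int.ofNat 0, Int.ofNat 0, Int.ofNat 0, Int.ofNat 0, Int.ofNat 2, Int.ofNat 0, Int.ofNat 2, Int.ofNat 2, Int.ofNat 0, Int.ofNat 0, Int.ofNat 0, Int.negSucc 1, Int.ofNat 0, Int.ofNat 0, Int.ofNat 0, Int.ofNat 2, Int.ofNat 0, Int.negSucc 1, Int.ofNat 2],
  [Int.ofNat 0, Int.ofNat 2, Int.ofNat 0, Int.ofNat 0, Int.ofNat 0, Int.ofNat 0, Int.ofNat 0, Int.ofNat 0, Int.ofNat 0, Int.negSucc 1, Int.ofNat 0, Int.negSucc 1, Int.ofNat 2, Int.ofNat 0, Int.ofNat 0, Int.ofNat 0, Int.negSucc 1, Int.ofNat 0, Int.ofNat 0, Int.ofNat 0, Int.ofNat 2, Int.ofNat 0, Int.negSucc 1, Int.ofNat 2],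
  [Int.ofNat 0, Int.negSucc 1, Int.ofNat 0, Int.ofNat 0, Int.ofNat 0, Int.ofNat 0, Int.ofNat 0, Int.ofNat 0, Int.ofNat 0, Int.ofNat 2, Int.ofNat 0, Int.negSucc 1, Int.negSucc 1, Int.ofNat 0, Int.ofNat 0, Int.ofNat 0, Int.ofNat 2, Int.ofNat 0, Int.ofNat 0, Int.ofNat 0, Int.ofNat 2, Int.ofNat 0, Int.negSucc 1, Int.ofNat 2],
  [Int.ofNat 0, Int.ofNat 0, Int.ofNat 0, Int.ofNat 0, Int.negSucc 1, Int.ofNat 0, Int.ofNat 0, Int.ofNat 2, Int.ofNat 2, Int.ofNat 2, Int.ofNat 0, Int.ofNat 0, Int.ofNat 0, Int.ofNat 0, Int.ofNat 0, Int.ofNat 0, Int.negSucc 1, Int.negSucc 1, Int.ofNat 0, Int.ofNat 0, Int.ofNat 0, Int.ofNat 0, Int.negSucc 1, Int.ofNat 2],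
  [Int.ofNat 0, Int.ofNat 0, Int.ofNat 0, Int.ofNat 0, Int.negSucc 1, Int.ofNat 0, Int.ofNat 0, Int.negSucc 1, Int.ofNat 2, Int.negSucc 1, Int.ofNat 0, Int.ofNat 0, Int.ofNat 0, Int.ofNat 0, Int.ofNat 0, Int.ofNat 0, Int.negSucc 1, Int.negSucc 1, Int.ofNat 0, Int.ofNat 0, Int.ofNat 0, Int.ofNat 0, Int.negSucc 1, Int.ofNat 2],
  [Int.negSucc 1, Int.ofNat 0, Int.ofNat 0, Int.ofNat 0, Int.ofNat 0, Int.negSucc 1, Int.ofNat 0, Int.ofNat 0, Int.negSucc 1, Int.ofNat 2, Int.negSucc 1, Int.ofNat 0, Int.ofNat 0, Int.ofNat 0, Int.ofNat 0, Int.ofNat 0, Int.ofNat 0, Int.negSucc 1, Int.negSucc 1, Int.ofNat 0, Int.ofNat 0, Int.ofNat 0, Int.ofNat 0, Int.ofNat 2],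
  [Int.ofNat 2, Int.ofNat 0, Int.ofNat 0, Int.ofNat 2, Int.ofNat 0, Int.ofNat 0, Int.ofNat 0, Int.ofNat 0, Int.ofNat 0, Int.ofNat 2, Int.negSucc 1, Int.ofNat 2, Int.ofNat 2, Int.ofNat 0, Int.ofNat 2, Int.ofNat 0, Int.ofNat 0, Int.ofNat 0, Int.ofNat 0, Int.ofNat 0, Int.ofNat 0, Int.ofNat 0, Int.ofNat 0, Int.negSucc 1],
  [Int.ofNat 2, Int.ofNat 0, Int.ofNat 0, Int.ofNat 0, Int.ofNat 0, Int.ofNat 0, Int.ofNat 2, Int.negSucc 1, Int.ofNat 2, Int.ofNat 2, Int.ofNat 0, Int.ofNat 2, Int.ofNat 0, Int.ofNat 0, Int.ofNat 0, Int.ofNat 0, Int.ofNat 0, Int.ofNat 0, Int.ofNat 0, Int.ofNat 0, Int.ofNat 2, Int.ofNat 0, Int.ofNat 0, Int.negSucc 1],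
  [Int.negSucc 1, Int.ofNat 0, Int.ofNat 0, Int.ofNat 0, Int.ofNat 0, Int.ofNat 0, Int.ofNat 2, Int.negSucc 1, Int.ofNat 0, Int.ofNat 0, Int.negSucc 1, Int.ofNat 0, Int.negSucc 1, Int.ofNat 0, Int.ofNat 0, Int.negSucc 1, Int.ofNat 0, Int.ofNat 0, Int.negSucc 1, Int.ofNat 0, Int.ofNat 0, Int.ofNat 0, Int.ofNat 0, Int.ofNat 2],
  [Int.negSucc 1, Int.ofNat 2, Int.ofNat 0, Int.ofNat 0, Int.negSucc 1, Int.negSucc 1, Int.ofNat 0, Int.negSucc 1, Int.negSucc 1, Int.ofNat 0, Int.ofNat 0, Int.ofNat 0, Int.ofNat 0, Int.ofNat 0, Int.ofNat 0, Int.negSucc 1, Int.ofNat 0, Int.ofNat 0, Int.ofNat 0, Int.ofNat 0, Int.ofNat 0, Int.ofNat 0, Int.ofNat 0, Int.ofNat 2],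
  [Int.ofNat 3, Int.negSucc 0, Int.ofNat 1, Int.ofNat 1, Int.negSucc 0, Int.negSucc 0, Int.ofNat 1, Int.negSucc 0, Int.negSucc 0, Int.ofNat 1, Int.ofNat 1, Int.ofNat 1, Int.ofNat 1, Int.ofNat 1, Int.ofNat 1, Int.negSucc 0, Int.ofNat 1, Int.ofNat 1, Int.ofNat 1, Int.ofNat 1, Int.ofNat 1, Int.ofNat 1, Int.ofNat 1, Int.negSucc 0],
  [Int.ofNat 3, Int.negSucc 0, Int.negSucc 0, Int.ofNat 1, Int.negSucc 0, Int.ofNat 1, Int.negSucc 0, Int.negSucc 0, Int.negSucc 0, Int.negSucc 0, Int.negSucc 0, Int.ofNat 1, Int.ofNat 1, Int.ofNat 1, Int.ofNat 1, Int.ofNat 1, Int.ofNat 1, Int.ofNat 1, Int.negSucc 0, Int.ofNat 1, Int.ofNat 1, Int.ofNat 1, Int.negSucc 0, Int.negSucc 0],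
  [Int.negSucc 0, Int.ofNat 1, Int.ofNat 1, Int.negSucc 0, Int.ofNat 1, Int.negSucc 0, Int.ofNat 1, Int.ofNat 1, Int.ofNat 1, Int.ofNat 1, Int.ofNat 1, Int.negSucc 0, Int.ofNat 1, Int.negSucc 0, Int.ofNat 1, Int.negSucc 0, Int.ofNat 1, Int.ofNat 1, Int.negSucc 0, Int.negSucc 0, Int.ofNat 3, Int.negSucc 0, Int.negSucc 0, Int.negSucc 0],
  [Int.negSucc 0, Int.negSucc 0, Int.negSucc 0, Int.negSucc 0, Int.ofNat 1, Int.ofNat 1, Int.negSucc 0, Int.negSucc 0, Int.ofNat 3, Int.negSucc 0, Int.ofNat 1, Int.ofNat 1, Int.negSucc 0, Int.ofNat 1, Int.negSucc 0, Int.negSucc 0, Int.ofNat 1, Int.ofNat 1, Int.ofNat 1, Int.ofNat 1, Int.ofNat 1, Int.ofNat 1, Int.ofNat 1, Int.negSucc 0],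
  [Int.ofNat 1, Int.negSucc 0, Int.ofNat 1, Int.negSucc 0, Int.ofNat 1, Int.ofNat 1, Int.negSucc 0, Int.ofNat 1, Int.ofNat 3, Int.ofNat 1, Int.negSucc 0, Int.negSucc 0, Int.negSucc 0, Int.ofNat 1, Int.negSucc 0, Int.negSucc 0, Int.ofNat 1, Int.ofNat 1, Int.negSucc 0, Int.ofNat 1, Int.ofNat 1, Int.negSucc 0, Int.ofNat 1, Int.negSucc 0],
  [Int.ofNat 1, Int.ofNat 1, Int.negSucc 0, Int.ofNat 1, Int.negSucc 0, Int.ofNat 1, Int.ofNat 1, Int.negSucc 0, Int.ofNat 1, Int.ofNat 3, Int.ofNat 1, Int.negSucc 0, Int.negSucc 0, Int.negSucc 0, Int.ofNat 1, Int.negSucc 0, Int.negSucc 0, Int.ofNat 1, Int.ofNat 1, Int.negSucc 0, Int.ofNat 1, Int.ofNat 1, Int.negSucc 0, Int.negSucc 0],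
  [Int.negSucc 0, Int.negSucc 0, Int.ofNat 1, Int.negSucc 0, Int.ofNat 1, Int.negSucc 0, Int.ofNat 1, Int.negSucc 0, Int.ofNat 1, Int.ofNat 1, Int.negSucc 0, Int.negSucc 0, Int.negSucc 0, Int.ofNat 1, Int.negSucc 0, Int.negSucc 2, Int.ofNat 1, Int.negSucc 0, Int.ofNat 1, Int.negSucc 0, Int.negSucc 0, Int.ofNat 1, Int.ofNat 1, Int.ofNat 1],
  [Int.negSucc 0, Int.ofNat 1, Int.negSucc 0, Int.ofNat 1, Int.negSucc 0, Int.ofNat 1, Int.ofNat 1, Int.negSucc 0, Int.negSucc 0, Int.negSucc 0, Int.ofNat 1, Int.negSucc 0, Int.negSucc 2, Int.ofNat 1, Int.negSucc 0, Int.ofNat 1, Int.negSucc 0, Int.negSucc 0, Int.ofNat 1, Int.ofNat 1, Int.negSucc 0, Int.negSucc 0, Int.ofNat 1, Int.ofNat 1],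
  [Int.ofNat 1, Int.negSucc 0, Int.ofNat 1, Int.ofNat 1, Int.negSucc 0, Int.ofNat 1, Int.ofNat 1, Int.negSucc 0, Int.ofNat 1, Int.negSucc 0, Int.ofNat 1, Int.ofNat 1, Int.negSucc 0, Int.ofNat 1, Int.negSucc 0, Int.ofNat 1, Int.negSucc 0, Int.negSucc 0, Int.ofNat 3, Int.ofNat 1, Int.negSucc 0, Int.negSucc 0, Int.ofNat 1, Int.negSucc 0],
  [Int.ofNat 1, Int.ofNat 1, Int.negSucc 0, Int.ofNat 1, Int.ofNat 3, Int.negSucc 0, Int.ofNat 1, Int.ofNat 1, Int.negSucc 0, Int.ofNat 1, Int.negSucc 0, Int.negSucc 0, Int.negSucc 0, Int.negSucc 0, Int.ofNat 1, Int.ofNat 1, Int.ofNat 1, Int.negSucc 0, Int.negSucc 0, Int.ofNat 1, Int.negSucc 0, Int.ofNat 1, Int.ofNat 1, Int.negSucc 0],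
  [Int.negSucc 0, Int.negSucc 0, Int.ofNat 1, Int.ofNat 1, Int.ofNat 1, Int.negSucc 0, Int.negSucc 0, Int.negSucc 0, Int.ofNat 1, Int.ofNat 1, Int.negSucc 0, Int.ofNat 1, Int.ofNat 1, Int.negSucc 2, Int.ofNat 1, Int.ofNat 1, Int.negSucc 0, Int.negSucc 0, Int.ofNat 1, Int.negSucc 0, Int.negSucc 0, Int.negSucc 0, Int.negSucc 0, Int.ofNat 1],
  [Int.negSucc 0, Int.negSucc 0, Int.negSucc 0, Int.ofNat 1, Int.ofNat 1, Int.ofNat 1, Int.ofNat 1, Int.negSucc 0, Int.ofNat 1, Int.negSucc 0, Int.ofNat 1, Int.ofNat 1, Int.ofNat 1, Int.negSucc 2, Int.ofNat 1, Int.negSucc 0, Int.negSucc 0, Int.negSucc 0, Int.negSucc 0, Int.negSucc 0, Int.negSucc 0, Int.negSucc 0, Int.ofNat 1, Int.ofNat 1],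
  [Int.negSucc 0, Int.ofNat 1, Int.ofNat 1, Int.negSucc 0, Int.ofNat 1, Int.negSucc 0, Int.negSucc 0, Int.negSucc 0, Int.ofNat 1, Int.ofNat 1, Int.ofNat 1, Int.negSucc 0, Int.negSucc 0, Int.negSucc 0, Int.ofNat 1, Int.negSucc 0, Int.ofNat 1, Int.negSucc 0, Int.negSucc 0, Int.negSucc 0, Int.ofNat 1, Int.negSucc 2, Int.ofNat 1, Int.ofNat 1],
  [Int.negSucc 0, Int.ofNat 1, Int.negSucc 0, Int.negSucc 0, Int.ofNat 1, Int.ofNat 1, Int.ofNat 1, Int.negSucc 0, Int.ofNat 1, Int.negSucc 0, Int.negSucc 0, Int.negSucc 0, Int.negSucc 0, Int.negSucc 0, Int.ofNat 1, Int.ofNat 1, Int.ofNat 1, Int.negSucc 0, Int.ofNat 1, Int.negSucc 0, Int.ofNat 1, Int.negSucc 2, Int.negSucc 0, Int.ofNat 1],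
  [Int.ofNat 1, Int.negSucc 0, Int.ofNat 1, Int.negSucc 0, Int.ofNat 1, Int.ofNat 1, Int.ofNat 3, Int.ofNat 1, Int.ofNat 1, Int.negSucc 0, Int.negSucc 0, Int.negSucc 0, Int.negSucc 0, Int.negSucc 0, Int.ofNat 1, Int.ofNat 1, Int.ofNat 1, Int.negSucc 0, Int.ofNat 1, Int.ofNat 1, Int.ofNat 1, Int.negSucc 0, Int.negSucc 0, Int.negSucc 0],
  [Int.ofNat 1, Int.ofNat 1, Int.ofNat 3, Int.negSucc 0, Int.ofNat 1, Int.negSucc 0, Int.negSucc 0, Int.ofNat 1, Int.ofNat 1, Int.negSucc 0, Int.ofNat 1, Int.ofNat 1, Int.ofNat 1, Int.negSucc 0, Int.negSucc 0, Int.ofNat 1, Int.negSucc 0, Int.negSucc 0, Int.ofNat 1, Int.negSucc 0, Int.negSucc 0, Int.ofNat 1, Int.ofNat 1, Int.negSucc 0],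
  [Int.ofNat 1, Int.ofNat 1, Int.negSucc 0, Int.ofNat 1, Int.ofNat 1, Int.ofNat 1, Int.negSucc 0, Int.ofNat 1, Int.negSucc 0, Int.negSucc 0, Int.ofNat 1, Int.negSucc 0, Int.negSucc 0, Int.negSucc 0, Int.ofNat 1, Int.ofNat 1, Int.negSucc 0, Int.ofNat 1, Int.negSucc 0, Int.negSucc 0, Int.negSucc 0, Int.ofNat 1, Int.ofNat 1, Int.ofNat 3],
  [Int.negSucc 0, Int.ofNat 1, Int.ofNat 1, Int.ofNat 1, Int.ofNat 1, Int.negSucc 0, Int.ofNat 1, Int.ofNat 1, Int.ofNat 1, Int.negSucc 0, Int.ofNat 1, Int.negSucc 0, Int.negSucc 0, Int.ofNat 1, Int.negSucc 0, Int.negSucc 0, Int.negSucc 0, Int.ofNat 1, Int.ofNat 1, Int.negSucc 0, Int.ofNat 1, Int.negSucc 0, Int.negSucc 0, Int.ofNat 3],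
  [Int.ofNat 3, Int.ofNat 1, Int.ofNat 1, Int.ofNat 1, Int.ofNat 1, Int.negSucc 0, Int.ofNat 1, Int.ofNat 1, Int.ofNat 1, Int.negSucc 0, Int.ofNat 1, Int.negSucc 0, Int.negSucc 0, Int.ofNat 1, Int.negSucc 0, Int.negSucc 0, Int.negSucc 0, Int.ofNat 1, Int.ofNat 1, Int.negSucc 0, Int.ofNat 1, Int.negSucc 0, Int.negSucc 0, Int.negSucc 0],
  [Int.ofNat 1, Int.ofNat 1, Int.ofNat 1, Int.ofNat 1, Int.negSucc 0, Int.ofNat 1, Int.ofNat 1, Int.ofNat 1, Int.negSucc 0, Int.ofNat 1, Int.negSucc 0, Int.negSucc 0, Int.ofNat 1, Int.negSucc 0, Int.negSucc 0, Int.negSucc 0, Int.ofNat 1, Int.ofNat 1, Int.negSucc 0, Int.ofNat 1, Int.negSucc 0, Int.negSucc 0, Int.ofNat 3, Int.negSucc 0],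
  [Int.negSucc 0, Int.ofNat 1, Int.negSucc 0, Int.ofNat 1, Int.negSucc 0, Int.ofNat 1, Int.ofNat 1, Int.negSucc 0, Int.negSucc 0, Int.negSucc 0, Int.ofNat 1, Int.ofNat 1, Int.ofNat 1, Int.negSucc 0, Int.negSucc 0, Int.negSucc 0, Int.ofNat 1, Int.ofNat 1, Int.ofNat 1, Int.ofNat 1, Int.negSucc 0, Int.ofNat 1, Int.ofNat 3, Int.negSucc 0],
  [Int.ofNat 1, Int.negSucc 0, Int.ofNat 1, Int.negSucc 0, Int.ofNat 1, Int.ofNat 1, Int.negSucc 0, Int.negSucc 0, Int.ofNat 1, Int.ofNat 1, Int.ofNat 1, Int.ofNat 1, Int.negSucc 0, Int.ofNat 1, Int.negSucc 0, Int.negSucc 0, Int.negSucc 0, Int.ofNat 1, Int.negSucc 0, Int.ofNat 1, Int.negSucc 0, Int.ofNat 1, Int.ofNat 3, Int.negSucc 0],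
  [Int.ofNat 1, Int.ofNat 1, Int.negSucc 0, Int.negSucc 0, Int.negSucc 0, Int.ofNat 1, Int.ofNat 1, Int.negSucc 0, Int.ofNat 1, Int.negSucc 0, Int.ofNat 1, Int.negSucc 0, Int.ofNat 1, Int.ofNat 1, Int.ofNat 1, Int.negSucc 0, Int.negSucc 0, Int.ofNat 3, Int.negSucc 0, Int.ofNat 1, Int.ofNat 1, Int.negSucc 0, Int.ofNat 1, Int.negSucc 0],
  [Int.negSucc 0, Int.ofNat 1, Int.ofNat 1, Int.negSucc 0, Int.negSucc 0, Int.ofNat 1, Int.ofNat 1, Int.ofNat 1, Int.ofNat 1, Int.ofNat 1, Int.negSucc 0, Int.ofNat 1, Int.ofNat 1, Int.ofNat 1, Int.ofNat 1, Int.negSucc 0, Int.negSucc 0, Int.ofNat 3, Int.ofNat 1, Int.ofNat 1, Int.ofNat 1, Int.ofNat 1, Int.ofNat 1, Int.negSucc 0],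
  [Int.ofNat 1, Int.negSucc 0, Int.ofNat 1, Int.ofNat 1, Int.negSucc 0, Int.negSucc 0, Int.ofNat 1, Int.ofNat 1, Int.ofNat 1, Int.ofNat 1, Int.ofNat 1, Int.negSucc 0, Int.ofNat 1, Int.ofNat 1, Int.ofNat 1, Int.ofNat 1, Int.negSucc 0, Int.negSucc 0, Int.ofNat 3, Int.ofNat 1, Int.ofNat 1, Int.ofNat 1, Int.ofNat 1, Int.negSucc 0],
  [Int.negSucc 0, Int.ofNat 1, Int.negSucc 0, Int.ofNat 1, Int.negSucc 0, Int.negSucc 0, Int.negSucc 0, Int.negSucc 0, Int.negSucc 0, Int.negSucc 0, Int.negSucc 0, Int.negSucc 2, Int.negSucc 0, Int.ofNat 1, Int.ofNat 1, Int.negSucc 0, Int.negSucc 0, Int.negSucc 0, Int.ofNat 1, Int.negSucc 0, Int.negSucc 0, Int.negSucc 0, Int.ofNat 1, Int.ofNat 1],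
  [Int.ofNat 1, Int.negSucc 0, Int.negSucc 0, Int.negSucc 0, Int.negSucc 0, Int.negSucc 0, Int.negSucc 0, Int.negSucc 0, Int.negSucc 2, Int.negSucc 0, Int.ofNat 1, Int.ofNat 1, Int.negSucc 0, Int.negSucc 0, Int.negSucc 0, Int.ofNat 1, Int.negSucc 0, Int.negSucc 0, Int.negSucc 0, Int.ofNat 1, Int.negSucc 0, Int.ofNat 1, Int.negSucc 0, Int.ofNat 1],
  [Int.negSucc 0, Int.ofNat 1, Int.ofNat 1, Int.ofNat 1, Int.ofNat 1, Int.ofNat 1, Int.negSucc 0, Int.negSucc 0, Int.negSucc 0, Int.negSucc 0, Int.ofNat 1, Int.ofNat 3, Int.ofNat 1, Int.ofNat 1, Int.ofNat 1, Int.ofNat 1, Int.ofNat 1, Int.ofNat 1, Int.ofNat 1, Int.ofNat 1, Int.negSucc 0, Int.ofNat 1, Int.ofNat 1, Int.negSucc 0],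
  [Int.negSucc 0, Int.negSucc 0, Int.ofNat 1, Int.ofNat 1, Int.ofNat 1, Int.negSucc 0, Int.ofNat 1, Int.ofNat 1, Int.ofNat 1, Int.ofNat 1, Int.negSucc 0, Int.ofNat 1, Int.negSucc 0, Int.ofNat 1, Int.ofNat 1, Int.ofNat 1, Int.negSucc 0, Int.ofNat 1, Int.ofNat 1, Int.ofNat 3, Int.ofNat 1, Int.ofNat 1, Int.ofNat 1, Int.negSucc 0],
  [Int.ofNat 0, Int.ofNat 0, Int.negSucc 1, Int.ofNat 0, Int.ofNat 0, Int.negSucc 1, Int.negSucc 1, Int.negSucc 1, Int.ofNat 0, Int.ofNat 0, Int.negSucc 1, Int.ofNat 0, Int.negSucc 1, Int.ofNat 0, Int.ofNat 0, Int.ofNat 0, Int.negSucc 1, Int.ofNat 0, Int.ofNat 0, Int.ofNat 0, Int.ofNat 0, Int.negSucc 1, Int.ofNat 0, Int.ofNat 0],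
  [Int.ofNat 0, Int.ofNat 0, Int.ofNat 2, Int.ofNat 0, Int.ofNat 0, Int.ofNat 2, Int.ofNat 2, Int.negSucc 1, Int.ofNat 0, Int.ofNat 0, Int.ofNat 2, Int.ofNat 0, Int.negSucc 1, Int.ofNat 0, Int.ofNat 0, Int.ofNat 0, Int.negSucc 1, Int.ofNat 0, Int.ofNat 0, Int.ofNat 0, Int.ofNat 0, Int.negSucc 1, Int.ofNat 0, Int.ofNat 0],
  [Int.ofNat 2, Int.negSucc 1, Int.ofNat 0, Int.ofNat 0, Int.ofNat 0, Int.ofNat 2, Int.negSucc 1, Int.ofNat 0, Int.ofNat 2, Int.ofNat 0, Int.ofNat 0, Int.negSucc 1, Int.ofNat 0, Int.ofNat 0, Int.ofNat 0, Int.ofNat 0, Int.ofNat 0, Int.negSucc 1, Int.ofNat 0, Int.ofNat 2, Int.ofNat 0, Int.ofNat 0, Int.ofNat 0, Int.ofNat 0],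
  [Int.ofNat 0, Int.ofNat 0, Int.negSucc 1, Int.ofNat 0, Int.negSucc 1, Int.ofNat 0, Int.ofNat 2, Int.ofNat 0, Int.ofNat 0, Int.ofNat 2, Int.ofNat 0, Int.ofNat 0, Int.ofNat 0, Int.ofNat 0, Int.ofNat 0, Int.ofNat 0, Int.ofNat 0, Int.ofNat 0, Int.ofNat 0, Int.negSucc 1, Int.ofNat 2, Int.ofNat 0, Int.negSucc 1, Int.ofNat 2],
  [Int.ofNat 0, Int.ofNat 0, Int.ofNat 2, Int.ofNat 0, Int.negSucc 1, Int.ofNat 0, Int.ofNat 2, Int.ofNat 0, Int.ofNat 0, Int.negSucc 1, Int.ofNat 0, Int.ofNat 0, Int.ofNat 0, Int.ofNat 0, Int.ofNat 0, Int.ofNat 0, Int.ofNat 0, Int.ofNat 0, Int.ofNat 0, Int.negSucc 1, Int.ofNat 2, Int.ofNat 0, Int.negSucc 1, Int.ofNat 2],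
  [Int.negSucc 1, Int.ofNat 0, Int.ofNat 0, Int.ofNat 2, Int.ofNat 0, Int.negSucc 1, Int.ofNat 0, Int.ofNat 2, Int.ofNat 0, Int.ofNat 0, Int.negSucc 1, Int.ofNat 0, Int.ofNat 0, Int.ofNat 0, Int.ofNat 0, Int.ofNat 0, Int.ofNat 0, Int.ofNat 0, Int.ofNat 0, Int.ofNat 0, Int.negSucc 1, Int.ofNat 2, Int.ofNat 0, Int.ofNat 2],
  [Int.ofNat 2, Int.ofNat 0, Int.ofNat 0, Int.ofNat 2, Int.ofNat 0, Int.negSucc 1, Int.negSucc 1, Int.ofNat 0, Int.ofNat 0, Int.ofNat 2, Int.ofNat 0, Int.ofNat 0, Int.ofNat 0, Int.ofNat 0, Int.ofNat 0, Int.ofNat 2, Int.ofNat 0, Int.ofNat 0, Int.ofNat 0, Int.negSucc 1, Int.ofNat 0, Int.ofNat 0, Int.ofNat 0, Int.negSucc 1],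
  [Int.ofNat 2, Int.ofNat 0, Int.negSucc 1, Int.negSucc 1, Int.ofNat 0, Int.ofNat 0, Int.ofNat 2, Int.ofNat 0, Int.ofNat 0, Int.ofNat 0, Int.ofNat 0, Int.ofNat 0, Int.ofNat 2, Int.ofNat 0, Int.ofNat 0, Int.ofNat 0, Int.negSucc 1, Int.ofNat 0, Int.ofNat 0, Int.ofNat 0, Int.ofNat 2, Int.ofNat 0, Int.ofNat 0, Int.negSucc 1],
  [Int.negSucc 2, Int.negSucc 0, Int.ofNat 1, Int.negSucc 0, Int.ofNat 1, Int.ofNat 1, Int.ofNat 1, Int.negSucc 0, Int.negSucc 0, Int.negSucc 0, Int.negSucc 0, Int.negSucc 0, Int.ofNat 1, Int.ofNat 1, Int.ofNat 1, Int.negSucc 0, Int.negSucc 0, Int.ofNat 1, Int.negSucc 0, Int.negSucc 0, Int.ofNat 1, Int.negSucc 0, Int.ofNat 1, Int.ofNat 1],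
  [Int.negSucc 2, Int.ofNat 1, Int.ofNat 1, Int.negSucc 0, Int.negSucc 0, Int.negSucc 0, Int.ofNat 1, Int.negSucc 0, Int.ofNat 1, Int.ofNat 1, Int.ofNat 1, Int.ofNat 1, Int.negSucc 0, Int.negSucc 0, Int.ofNat 1, Int.negSucc 0, Int.negSucc 0, Int.ofNat 1, Int.negSucc 0, Int.negSucc 0, Int.negSucc 0, Int.ofNat 1, Int.negSucc 0, Int.ofNat 1],
  [Int.ofNat 3, Int.negSucc 0, Int.negSucc 0, Int.negSucc 0, Int.ofNat 1, Int.negSucc 0, Int.ofNat 1, Int.negSucc 0, Int.ofNat 1, Int.ofNat 1, Int.ofNat 1, Int.ofNat 1, Int.negSucc 0, Int.ofNat 1, Int.ofNat 1, Int.negSucc 0, Int.ofNat 1, Int.ofNat 1, Int.negSucc 0, Int.negSucc 0, Int.negSucc 0, Int.ofNat 1, Int.ofNat 1, Int.negSucc 0],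
  [Int.ofNat 3, Int.negSucc 0, Int.ofNat 1, Int.negSucc 0, Int.ofNat 1, Int.ofNat 1, Int.negSucc 0, Int.negSucc 0, Int.ofNat 1, Int.negSucc 0, Int.negSucc 0, Int.ofNat 1, Int.negSucc 0, Int.ofNat 1, Int.ofNat 1, Int.ofNat 1, Int.ofNat 1, Int.ofNat 1, Int.ofNat 1, Int.negSucc 0, Int.negSucc 0, Int.ofNat 1, Int.negSucc 0, Int.negSucc 0],
  [Int.ofNat 1, Int.ofNat 1, Int.negSucc 0, Int.negSucc 0, Int.negSucc 0, Int.ofNat 1, Int.negSucc 0, Int.ofNat 1, Int.negSucc 0, Int.negSucc 0, Int.ofNat 1, Int.ofNat 1, Int.negSucc 0, Int.ofNat 1, Int.ofNat 1, Int.negSucc 0, Int.negSucc 0, Int.negSucc 0, Int.ofNat 1, Int.ofNat 3, Int.ofNat 1, Int.ofNat 1, Int.ofNat 1, Int.negSucc 0],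
  [Int.ofNat 1, Int.ofNat 1, Int.ofNat 1, Int.negSucc 0, Int.negSucc 0, Int.negSucc 0, Int.ofNat 1, Int.ofNat 1, Int.negSucc 0, Int.ofNat 1, Int.negSucc 0, Int.ofNat 1, Int.negSucc 0, Int.ofNat 1, Int.ofNat 1, Int.ofNat 1, Int.negSucc 0, Int.negSucc 0, Int.negSucc 0, Int.ofNat 3, Int.ofNat 1, Int.ofNat 1, Int.negSucc 0, Int.negSucc 0],
  [Int.ofNat 0, Int.ofNat 0, Int.ofNat 0, Int.ofNat 0, Int.ofNat 0, Int.ofNat 0, Int.negSucc 1, Int.negSucc 1, Int.ofNat 0, Int.ofNat 0, Int.negSucc 1, Int.ofNat 2, Int.ofNat 0, Int.ofNat 2, Int.ofNat 2, Int.ofNat 0, Int.ofNat 0, Int.ofNat 0, Int.ofNat 0, Int.ofNat 0, Int.ofNat 0, Int.negSucc 1, Int.ofNat 0, Int.ofNat 2],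
  [Int.ofNat 0, Int.ofNat 0, Int.negSucc 1, Int.ofNat 0, Int.ofNat 0, Int.negSucc 1, Int.ofNat 0, Int.ofNat 0, Int.ofNat 0, Int.ofNat 0, Int.negSucc 1, Int.ofNat 0, Int.ofNat 0, Int.ofNat 0, Int.ofNat 0, Int.ofNat 0, Int.ofNat 2, Int.ofNat 2, Int.ofNat 0, Int.ofNat 0, Int.negSucc 1, Int.ofNat 0, Int.ofNat 2, Int.ofNat 2],
  [Int.ofNat 0, Int.ofNat 0, Int.ofNat 2, Int.ofNat 0, Int.negSucc 1, Int.negSucc 1, Int.ofNat 0, Int.ofNat 0, Int.ofNat 0, Int.ofNat 2, Int.ofNat 0, Int.ofNat 0, Int.ofNat 0, Int.negSucc 1, Int.ofNat 0, Int.ofNat 2, Int.ofNat 0, Int.ofNat 2, Int.ofNat 0, Int.ofNat 0, Int.ofNat 0, Int.ofNat 0, Int.ofNat 0, Int.negSucc 1],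
  [Int.ofNat 0, Int.ofNat 0, Int.ofNat 0, Int.ofNat 0, Int.ofNat 0, Int.ofNat 2, Int.ofNat 0, Int.negSucc 1, Int.negSucc 1, Int.ofNat 0, Int.ofNat 0, Int.ofNat 0, Int.ofNat 2, Int.ofNat 0, Int.ofNat 0, Int.ofNat 0, Int.negSucc 1, Int.ofNat 0, Int.ofNat 2, Int.ofNat 0, Int.ofNat 2, Int.ofNat 0, Int.ofNat 0, Int.negSucc 1],
  [Int.negSucc 0, Int.negSucc 0, Int.negSucc 0, Int.negSucc 0, Int.ofNat 1, Int.ofNat 1, Int.ofNat 1, Int.negSucc 0, Int.negSucc 2, Int.negSucc 0, Int.negSucc 0, Int.negSucc 0, Int.ofNat 1, Int.ofNat 1, Int.negSucc 0, Int.negSucc 0, Int.negSucc 0, Int.negSucc 0, Int.ofNat 1, Int.ofNat 1, Int.ofNat 1, Int.ofNat 1, Int.ofNat 1, Int.ofNat 1],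
  [Int.negSucc 0, Int.negSucc 0, Int.negSucc 0, Int.ofNat 1, Int.ofNat 1, Int.ofNat 1, Int.negSucc 0, Int.negSucc 2, Int.negSucc 0, Int.negSucc 0, Int.negSucc 0, Int.ofNat 1, Int.ofNat 1, Int.negSucc 0, Int.negSucc 0, Int.negSucc 0, Int.negSucc 0, Int.ofNat 1, Int.ofNat 1, Int.ofNat 1, Int.ofNat 1, Int.ofNat 1, Int.negSucc 0, Int.ofNat 1],
  [Int.ofNat 1, Int.negSucc 0, Int.ofNat 1, Int.ofNat 1, Int.ofNat 1, Int.ofNat 1, Int.negSucc 0, Int.ofNat 3, Int.negSucc 0, Int.ofNat 1, Int.ofNat 1, Int.negSucc 0, Int.ofNat 1, Int.negSucc 0, Int.negSucc 0, Int.negSucc 0, Int.negSucc 0, Int.ofNat 1, Int.negSucc 0, Int.ofNat 1, Int.ofNat 1, Int.negSucc 0, Int.negSucc 0, Int.ofNat 1],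
  [Int.negSucc 0, Int.ofNat 1, Int.negSucc 0, Int.negSucc 0, Int.negSucc 0, Int.ofNat 1, Int.ofNat 1, Int.ofNat 3, Int.ofNat 1, Int.negSucc 0, Int.ofNat 1, Int.negSucc 0, Int.negSucc 0, Int.ofNat 1, Int.negSucc 0, Int.negSucc 0, Int.ofNat 1, Int.ofNat 1, Int.ofNat 1, Int.ofNat 1, Int.ofNat 1, Int.negSucc 0, Int.negSucc 0, Int.ofNat 1],
  [Int.negSucc 0, Int.negSucc 0, Int.ofNat 1, Int.negSucc 0, Int.ofNat 1, Int.ofNat 1, Int.negSucc 0, Int.ofNat 1, Int.negSucc 0, Int.ofNat 1, Int.negSucc 0, Int.negSucc 0, Int.ofNat 1, Int.ofNat 1, Int.ofNat 1, Int.negSucc 0, Int.negSucc 0, Int.negSucc 0, Int.ofNat 1, Int.ofNat 1, Int.ofNat 1, Int.ofNat 3, Int.negSucc 0, Int.ofNat 1],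
  [Int.ofNat 1, Int.negSucc 0, Int.negSucc 0, Int.negSucc 0, Int.ofNat 1, Int.ofNat 1, Int.negSucc 0, Int.negSucc 0, Int.negSucc 0, Int.negSucc 0, Int.ofNat 1, Int.ofNat 1, Int.ofNat 1, Int.ofNat 1, Int.ofNat 1, Int.negSucc 0, Int.negSucc 0, Int.negSucc 0, Int.negSucc 0, Int.ofNat 1, Int.ofNat 1, Int.negSucc 2, Int.negSucc 0, Int.ofNat 1],
  [Int.negSucc 0, Int.ofNat 1, Int.negSucc 0, Int.negSucc 0, Int.negSucc 0, Int.ofNat 1, Int.ofNat 1, Int.negSucc 0, Int.negSucc 0, Int.negSucc 0, Int.negSucc 0, Int.ofNat 1, Int.ofNat 1, Int.ofNat 1, Int.ofNat 1, Int.ofNat 1, Int.negSucc 0, Int.negSucc 0, Int.negSucc 0, Int.negSucc 0, Int.ofNat 1, Int.ofNat 1, Int.negSucc 2, Int.ofNat 1],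
  [Int.ofNat 1, Int.negSucc 0, Int.ofNat 1, Int.negSucc 0, Int.ofNat 1, Int.ofNat 1, Int.ofNat 1, Int.negSucc 0, Int.negSucc 0, Int.negSucc 0, Int.negSucc 0, Int.ofNat 1, Int.ofNat 1, Int.ofNat 3, Int.ofNat 1, Int.ofNat 1, Int.ofNat 1, Int.negSucc 0, Int.negSucc 0, Int.negSucc 0, Int.ofNat 1, Int.ofNat 1, Int.negSucc 0, Int.negSucc 0],
  [Int.negSucc 0, Int.ofNat 1, Int.ofNat 1, Int.ofNat 1, Int.negSucc 0, Int.negSucc 0, Int.negSucc 0, Int.negSucc 0, Int.ofNat 1, Int.ofNat 1, Int.ofNat 3, Int.ofNat 1, Int.ofNat 1, Int.ofNat 1, Int.negSucc 0, Int.negSucc 0, Int.negSucc 0, Int.ofNat 1, Int.ofNat 1, Int.negSucc 0, Int.ofNat 1, Int.negSucc 0, Int.ofNat 1, Int.negSucc 0],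
  [Int.ofNat 1, Int.negSucc 0, Int.negSucc 0, Int.ofNat 1, Int.negSucc 0, Int.negSucc 0, Int.ofNat 1, Int.ofNat 1, Int.negSucc 0, Int.negSucc 0, Int.ofNat 1, Int.negSucc 0, Int.negSucc 0, Int.ofNat 1, Int.negSucc 0, Int.negSucc 2, Int.negSucc 0, Int.ofNat 1, Int.negSucc 0, Int.ofNat 1, Int.negSucc 0, Int.ofNat 1, Int.ofNat 1, Int.ofNat 1],
  [Int.ofNat 1, Int.ofNat 1, Int.negSucc 0, Int.ofNat 1, Int.negSucc 0, Int.ofNat 1, Int.negSucc 0, Int.ofNat 1, Int.negSucc 0, Int.ofNat 1, Int.negSucc 0, Int.ofNat 1, Int.negSucc 0, Int.negSucc 0, Int.ofNat 1, Int.negSucc 2, Int.negSucc 0, Int.negSucc 0, Int.negSucc 0, Int.negSucc 0, Int.ofNat 1, Int.negSucc 0, Int.ofNat 1, Int.ofNat 1],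
  [Int.ofNat 0, Int.ofNat 0, Int.ofNat 2, Int.ofNat 0, Int.ofNat 0, Int.ofNat 0, Int.ofNat 0, Int.ofNat 2, Int.ofNat 0, Int.ofNat 2, Int.ofNat 0, Int.ofNat 2, Int.ofNat 0, Int.ofNat 0, Int.ofNat 0, Int.negSucc 1, Int.ofNat 0, Int.negSucc 1, Int.ofNat 0, Int.ofNat 0, Int.ofNat 2, Int.ofNat 0, Int.ofNat 2, Int.ofNat 0],
  [Int.ofNat 0, Int.ofNat 0, Int.negSucc 1, Int.ofNat 0, Int.ofNat 0, Int.ofNat 0, Int.ofNat 0, Int.ofNat 2, Int.ofNat 0, Int.negSucc 1, Int.ofNat 0, Int.ofNat 2, Int.ofNat 0, Int.ofNat 0, Int.ofNat 0, Int.ofNat 2, Int.ofNat 0, Int.negSucc 1, Int.ofNat 0, Int.ofNat 0, Int.ofNat 2, Int.ofNat 0, Int.negSucc 1, Int.ofNat 0],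
  [Int.ofNat 0, Int.ofNat 0, Int.ofNat 2, Int.ofNat 0, Int.ofNat 0, Int.ofNat 0, Int.ofNat 0, Int.ofNat 0, Int.ofNat 0, Int.ofNat 2, Int.ofNat 0, Int.ofNat 2, Int.ofNat 2, Int.ofNat 0, Int.negSucc 1, Int.ofNat 0, Int.ofNat 0, Int.ofNat 0, Int.negSucc 1, Int.negSucc 1, Int.ofNat 0, Int.ofNat 0, Int.negSucc 1, Int.ofNat 0],
  [Int.ofNat 0, Int.negSucc 1, Int.ofNat 2, Int.ofNat 0, Int.ofNat 0, Int.ofNat 2, Int.negSucc 1, Int.ofNat 0, Int.ofNat 0, Int.ofNat 0, Int.ofNat 0, Int.ofNat 2, Int.ofNat 0, Int.ofNat 0, Int.negSucc 1, Int.ofNat 0, Int.ofNat 0, Int.ofNat 0, Int.negSucc 1, Int.ofNat 0, Int.ofNat 0, Int.ofNat 2, Int.ofNat 0, Int.ofNat 0],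
  [Int.ofNat 0, Int.negSucc 1, Int.negSucc 1, Int.ofNat 0, Int.ofNat 0, Int.ofNat 2, Int.negSucc 1, Int.ofNat 0, Int.ofNat 0, Int.ofNat 0, Int.ofNat 0, Int.negSucc 1, Int.ofNat 0, Int.ofNat 0, Int.negSucc 1, Int.ofNat 0, Int.ofNat 0, Int.ofNat 0, Int.ofNat 2, Int.ofNat 0, Int.ofNat 0, Int.negSucc 1, Int.ofNat 0, Int.ofNat 0],
  [Int.ofNat 0, Int.ofNat 0, Int.negSucc 1, Int.negSucc 1, Int.ofNat 0, Int.ofNat 0, Int.ofNat 2, Int.negSucc 1, Int.ofNat 0, Int.ofNat 0, Int.ofNat 0, Int.ofNat 0, Int.negSucc 1, Int.ofNat 0, Int.ofNat 0, Int.negSucc 1, Int.ofNat 0, Int.ofNat 0, Int.ofNat 0, Int.ofNat 2, Int.ofNat 0, Int.ofNat 0, Int.negSucc 1, Int.ofNat 0],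
  [Int.negSucc 0, Int.negSucc 0, Int.ofNat 1, Int.negSucc 0, Int.ofNat 1, Int.ofNat 1, Int.ofNat 1, Int.negSucc 2, Int.ofNat 1, Int.ofNat 1, Int.ofNat 1, Int.ofNat 1, Int.negSucc 0, Int.ofNat 1, Int.ofNat 1, Int.negSucc 0, Int.ofNat 1, Int.ofNat 1, Int.ofNat 1, Int.ofNat 1, Int.ofNat 1, Int.negSucc 0, Int.negSucc 0, Int.negSucc 0],
  [Int.negSucc 0, Int.ofNat 1, Int.ofNat 1, Int.ofNat 1, Int.negSucc 2, Int.ofNat 1, Int.ofNat 1, Int.ofNat 1, Int.ofNat 1, Int.negSucc 0, Int.ofNat 1, Int.ofNat 1, Int.negSucc 0, Int.ofNat 1, Int.ofNat 1, Int.ofNat 1, Int.ofNat 1, Int.ofNat 1, Int.negSucc 0, Int.negSucc 0, Int.negSucc 0, Int.negSucc 0, Int.ofNat 1, Int.negSucc 0],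
  [Int.ofNat 1, Int.negSucc 0, Int.negSucc 0, Int.negSucc 0, Int.negSucc 2, Int.negSucc 0, Int.ofNat 1, Int.ofNat 1, Int.ofNat 1, Int.negSucc 0, Int.ofNat 1, Int.ofNat 1, Int.negSucc 0, Int.ofNat 1, Int.negSucc 0, Int.ofNat 1, Int.ofNat 1, Int.negSucc 0, Int.negSucc 0, Int.negSucc 0, Int.negSucc 0, Int.negSucc 0, Int.ofNat 1, Int.ofNat 1],
  [Int.ofNat 1, Int.ofNat 1, Int.negSucc 2, Int.negSucc 0, Int.negSucc 0, Int.ofNat 1, Int.negSucc 0, Int.ofNat 1, Int.negSucc 0, Int.ofNat 1, Int.negSucc 0, Int.negSucc 0, Int.negSucc 0, Int.ofNat 1, Int.ofNat 1, Int.ofNat 1, Int.ofNat 1, Int.negSucc 0, Int.negSucc 0, Int.ofNat 1, Int.negSucc 0, Int.negSucc 0, Int.negSucc 0, Int.ofNat 1],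
  [Int.negSucc 0, Int.negSucc 0, Int.ofNat 3, Int.negSucc 0, Int.negSucc 0, Int.ofNat 1, Int.negSucc 0, Int.ofNat 1, Int.ofNat 1, Int.ofNat 1, Int.negSucc 0, Int.ofNat 1, Int.ofNat 1, Int.ofNat 1, Int.ofNat 1, Int.ofNat 1, Int.ofNat 1, Int.negSucc 0, Int.ofNat 1, Int.ofNat 1, Int.negSucc 0, Int.negSucc 0, Int.negSucc 0, Int.negSucc 0],
  [Int.negSucc 0, Int.negSucc 0, Int.negSucc 2, Int.negSucc 0, Int.negSucc 0, Int.negSucc 0, Int.ofNat 1, Int.ofNat 1, Int.ofNat 1, Int.negSucc 0, Int.ofNat 1, Int.ofNat 1, Int.ofNat 1, Int.ofNat 1, Int.ofNat 1, Int.negSucc 0, Int.ofNat 1, Int.negSucc 0, Int.negSucc 0, Int.ofNat 1, Int.negSucc 0, Int.negSucc 0, Int.ofNat 1, Int.negSucc 0],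
  [Int.ofNat 1, Int.ofNat 1, Int.ofNat 1, Int.ofNat 1, Int.ofNat 1, Int.negSucc 0, Int.negSucc 0, Int.negSucc 0, Int.negSucc 0, Int.ofNat 1, Int.ofNat 1, Int.negSucc 0, Int.negSucc 0, Int.negSucc 0, Int.negSucc 0, Int.ofNat 1, Int.ofNat 1, Int.negSucc 0, Int.negSucc 2, Int.negSucc 0, Int.negSucc 0, Int.ofNat 1, Int.ofNat 1, Int.negSucc 0],
  [Int.ofNat 1, Int.ofNat 1, Int.negSucc 0, Int.ofNat 1, Int.ofNat 1, Int.ofNat 1, Int.ofNat 1, Int.negSucc 0, Int.negSucc 0, Int.negSucc 0, Int.negSucc 0, Int.negSucc 0, Int.negSucc 0, Int.negSucc 0, Int.negSucc 0, Int.negSucc 0, Int.ofNat 1, Int.negSucc 0, Int.ofNat 3, Int.negSucc 0, Int.negSucc 0, Int.ofNat 1, Int.negSucc 0, Int.negSucc 0],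
  [Int.negSucc 0, Int.negSucc 0, Int.ofNat 1, Int.ofNat 1, Int.ofNat 1, Int.ofNat 1, Int.ofNat 1, Int.negSucc 0, Int.negSucc 0, Int.ofNat 1, Int.ofNat 1, Int.negSucc 0, Int.negSucc 0, Int.negSucc 0, Int.negSucc 0, Int.ofNat 1, Int.ofNat 1, Int.negSucc 0, Int.ofNat 3, Int.negSucc 0, Int.ofNat 1, Int.ofNat 1, Int.negSucc 0, Int.ofNat 1],
  [Int.negSucc 0, Int.ofNat 3, Int.ofNat 1, Int.ofNat 1, Int.ofNat 1, Int.ofNat 1, Int.negSucc 0, Int.ofNat 1, Int.ofNat 1, Int.negSucc 0, Int.negSucc 0, Int.negSucc 0, Int.negSucc 0, Int.ofNat 1, Int.negSucc 0, Int.ofNat 1, Int.negSucc 0, Int.negSucc 0, Int.ofNat 1, Int.negSucc 0, Int.ofNat 1, Int.ofNat 1, Int.negSucc 0, Int.ofNat 1],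
  [Int.ofNat 3, Int.negSucc 0, Int.ofNat 1, Int.ofNat 1, Int.ofNat 1, Int.ofNat 1, Int.negSucc 0, Int.ofNat 1, Int.ofNat 1, Int.negSucc 0, Int.negSucc 0, Int.negSucc 0, Int.negSucc 0, Int.ofNat 1, Int.negSucc 0, Int.ofNat 1, Int.negSucc 0, Int.negSucc 0, Int.ofNat 1, Int.negSucc 0, Int.ofNat 1, Int.ofNat 1, Int.negSucc 0, Int.ofNat 1],
  [Int.ofNat 1, Int.ofNat 1, Int.negSucc 0, Int.ofNat 3, Int.negSucc 0, Int.ofNat 1, Int.ofNat 1, Int.ofNat 1, Int.ofNat 1, Int.negSucc 0, Int.ofNat 1, Int.ofNat 1, Int.negSucc 0, Int.negSucc 0, Int.negSucc 0, Int.negSucc 0, Int.ofNat 1, Int.negSucc 0, Int.ofNat 1, Int.negSucc 0, Int.negSucc 0, Int.ofNat 1, Int.negSucc 0, Int.ofNat 1],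
  [Int.ofNat 0, Int.ofNat 0, Int.ofNat 2, Int.ofNat 2, Int.ofNat 0, Int.ofNat 0, Int.ofNat 0, Int.ofNat 0, Int.ofNat 0, Int.ofNat 0, Int.ofNat 2, Int.ofNat 0, Int.negSucc 1, Int.ofNat 0, Int.negSucc 1, Int.ofNat 0, Int.ofNat 2, Int.negSucc 1, Int.ofNat 0, Int.negSucc 1, Int.ofNat 0, Int.ofNat 0, Int.ofNat 0, Int.ofNat 0],
  [Int.ofNat 0, Int.ofNat 2, Int.ofNat 2, Int.ofNat 0, Int.ofNat 0, Int.ofNat 0, Int.ofNat 0, Int.ofNat 0, Int.ofNat 0, Int.ofNat 2, Int.ofNat 0, Int.negSucc 1, Int.ofNat 0, Int.negSucc 1, Int.ofNat 0, Int.ofNat 2, Int.negSucc 1, Int.ofNat 0, Int.negSucc 1, Int.ofNat 0, Int.ofNat 0, Int.ofNat 0, Int.ofNat 0, Int.ofNat 0],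
  [Int.ofNat 0, Int.ofNat 2, Int.negSucc 1, Int.ofNat 0, Int.ofNat 0, Int.ofNat 0, Int.ofNat 0, Int.ofNat 0, Int.ofNat 0, Int.negSucc 1, Int.ofNat 0, Int.ofNat 2, Int.ofNat 0, Int.negSucc 1, Int.ofNat 0, Int.ofNat 2, Int.negSucc 1, Int.ofNat 0, Int.ofNat 2, Int.ofNat 0, Int.ofNat 0, Int.ofNat 0, Int.ofNat 0, Int.ofNat 0],
  [Int.ofNat 0, Int.negSucc 1, Int.ofNat 2, Int.ofNat 0, Int.ofNat 0, Int.ofNat 0, Int.ofNat 0, Int.ofNat 0, Int.ofNat 0, Int.ofNat 2, Int.ofNat 0, Int.ofNat 2, Int.ofNat 0, Int.ofNat 2, Int.ofNat 0, Int.ofNat 2, Int.ofNat 2, Int.ofNat 0, Int.negSucc 1, Int.ofNat 0, Int.ofNat 0, Int.ofNat 0, Int.ofNat 0, Int.ofNat 0],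
  [Int.ofNat 0, Int.ofNat 2, Int.negSucc 1, Int.ofNat 0, Int.negSucc 1, Int.ofNat 0, Int.ofNat 0, Int.ofNat 0, Int.ofNat 2, Int.ofNat 2, Int.ofNat 0, Int.ofNat 0, Int.ofNat 2, Int.ofNat 0, Int.ofNat 0, Int.ofNat 2, Int.ofNat 0, Int.ofNat 0, Int.ofNat 0, Int.ofNat 0, Int.ofNat 0, Int.ofNat 0, Int.ofNat 2, Int.ofNat 0],
  [Int.ofNat 0, Int.ofNat 2, Int.ofNat 2, Int.ofNat 0, Int.negSucc 1, Int.ofNat 0, Int.ofNat 0, Int.ofNat 0, Int.ofNat 2, Int.negSucc 1, Int.ofNat 0, Int.ofNat 0, Int.ofNat 2, Int.ofNat 0, Int.ofNat 0, Int.ofNat 2, Int.ofNat 0, Int.ofNat 0, Int.ofNat 0, Int.ofNat 0, Int.ofNat 0, Int.ofNat 0, Int.ofNat 2, Int.ofNat 0],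
  [Int.ofNat 2, Int.ofNat 0, Int.ofNat 2, Int.ofNat 2, Int.ofNat 0, Int.negSucc 1, Int.ofNat 0, Int.ofNat 0, Int.ofNat 0, Int.ofNat 2, Int.negSucc 1, Int.ofNat 0, Int.ofNat 0, Int.ofNat 2, Int.ofNat 0, Int.ofNat 0, Int.ofNat 2, Int.ofNat 0, Int.ofNat 0, Int.ofNat 0, Int.ofNat 0, Int.ofNat 0, Int.ofNat 0, Int.ofNat 0],
  [Int.ofNat 0, Int.ofNat 2, Int.ofNat 0, Int.ofNat 2, Int.negSucc 1, Int.negSucc 1, Int.ofNat 0, Int.ofNat 0, Int.ofNat 0, Int.ofNat 2, Int.negSucc 1, Int.ofNat 0, Int.ofNat 0, Int.ofNat 0, Int.ofNat 0, Int.ofNat 0, Int.ofNat 0, Int.ofNat 0, Int.ofNat 0, Int.ofNat 0, Int.ofNat 0, Int.ofNat 0, Int.negSucc 1, Int.ofNat 2],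
  [Int.ofNat 2, Int.negSucc 1, Int.negSucc 1, Int.ofNat 0, Int.ofNat 0, Int.ofNat 0, Int.ofNat 2, Int.negSucc 1, Int.ofNat 0, Int.ofNat 0, Int.ofNat 0, Int.ofNat 0, Int.ofNat 0, Int.ofNat 0, Int.ofNat 0, Int.ofNat 0, Int.ofNat 0, Int.ofNat 0, Int.ofNat 0, Int.negSucc 1, Int.ofNat 0, Int.ofNat 2, Int.ofNat 0, Int.ofNat 2],
  [Int.negSucc 1, Int.ofNat 2, Int.ofNat 2, Int.ofNat 0, Int.ofNat 0, Int.ofNat 0, Int.ofNat 2, Int.negSucc 1, Int.ofNat 0, Int.ofNat 0, Int.ofNat 0, Int.ofNat 0, Int.ofNat 0, Int.ofNat 0, Int.ofNat 0, Int.ofNat 0, Int.ofNat 0, Int.ofNat 0, Int.ofNat 0, Int.negSucc 1, Int.ofNat 0, Int.ofNat 2, Int.ofNat 0, Int.negSucc 1],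
  [Int.negSucc 1, Int.ofNat 2, Int.ofNat 0, Int.ofNat 0, Int.ofNat 0, Int.negSucc 1, Int.ofNat 2, Int.ofNat 0, Int.ofNat 0, Int.ofNat 0, Int.ofNat 0, Int.ofNat 0, Int.ofNat 0, Int.ofNat 0, Int.ofNat 0, Int.ofNat 0, Int.ofNat 0, Int.ofNat 0, Int.ofNat 2, Int.ofNat 0, Int.ofNat 2, Int.ofNat 0, Int.negSucc 1, Int.negSucc 1],
  [Int.ofNat 1, Int.negSucc 2, Int.negSucc 0, Int.ofNat 1, Int.ofNat 1, Int.negSucc 0, Int.ofNat 1, Int.negSucc 0, Int.negSucc 0, Int.negSucc 0, Int.negSucc 0, Int.negSucc 0, Int.negSucc 0, Int.ofNat 1, Int.ofNat 1, Int.negSucc 0, Int.ofNat 1, Int.ofNat 1, Int.ofNat 1, Int.negSucc 0, Int.ofNat 1, Int.negSucc 0, Int.negSucc 0, Int.ofNat 1],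
  [Int.ofNat 1, Int.negSucc 2, Int.ofNat 1, Int.ofNat 1, Int.ofNat 1, Int.ofNat 1, Int.negSucc 0, Int.negSucc 0, Int.negSucc 0, Int.ofNat 1, Int.ofNat 1, Int.negSucc 0, Int.negSucc 0, Int.ofNat 1, Int.ofNat 1, Int.ofNat 1, Int.ofNat 1, Int.ofNat 1, Int.negSucc 0, Int.negSucc 0, Int.ofNat 1, Int.negSucc 0, Int.ofNat 1, Int.ofNat 1],
  [Int.ofNat 1, Int.ofNat 1, Int.negSucc 0, Int.negSucc 0, Int.ofNat 1, Int.negSucc 0, Int.negSucc 0, Int.ofNat 1, Int.ofNat 1, Int.ofNat 1, Int.ofNat 1, Int.negSucc 0, Int.ofNat 1, Int.ofNat 1, Int.ofNat 1, Int.negSucc 0, Int.negSucc 0, Int.negSucc 0, Int.ofNat 1, Int.ofNat 1, Int.ofNat 1, Int.negSucc 2, Int.ofNat 1, Int.ofNat 1],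
  [Int.ofNat 1, Int.ofNat 1, Int.negSucc 0, Int.negSucc 0, Int.negSucc 0, Int.ofNat 1, Int.ofNat 1, Int.ofNat 1, Int.ofNat 1, Int.negSucc 0, Int.negSucc 0, Int.negSucc 0, Int.negSucc 2, Int.ofNat 1, Int.ofNat 1, Int.negSucc 0, Int.ofNat 1, Int.ofNat 1, Int.ofNat 1, Int.negSucc 0, Int.ofNat 1, Int.ofNat 1, Int.ofNat 1, Int.ofNat 1],
  [Int.negSucc 0, Int.ofNat 1, Int.ofNat 1, Int.negSucc 0, Int.negSucc 0, Int.ofNat 1, Int.ofNat 1, Int.negSucc 0, Int.ofNat 1, Int.ofNat 1, Int.ofNat 1, Int.ofNat 1, Int.negSucc 2, Int.ofNat 1, Int.ofNat 1, Int.negSucc 0, Int.ofNat 1, Int.ofNat 1, Int.negSucc 0, Int.negSucc 0, Int.ofNat 1, Int.negSucc 0, Int.ofNat 1, Int.ofNat 1],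
  [Int.ofNat 1, Int.negSucc 0, Int.ofNat 1, Int.ofNat 1, Int.negSucc 0, Int.negSucc 0, Int.ofNat 1, Int.ofNat 1, Int.negSucc 0, Int.ofNat 1, Int.ofNat 1, Int.ofNat 1, Int.ofNat 1, Int.negSucc 2, Int.ofNat 1, Int.ofNat 1, Int.negSucc 0, Int.ofNat 1, Int.ofNat 1, Int.negSucc 0, Int.negSucc 0, Int.ofNat 1, Int.negSucc 0, Int.ofNat 1],
  [Int.ofNat 0, Int.ofNat 2, Int.ofNat 0, Int.ofNat 0, Int.ofNat 2, Int.negSucc 1, Int.ofNat 0, Int.ofNat 0, Int.negSucc 1, Int.ofNat 0, Int.ofNat 0, Int.ofNat 0, Int.ofNat 0, Int.ofNat 0, Int.ofNat 0, Int.ofNat 0, Int.ofNat 2, Int.ofNat 0, Int.ofNat 0, Int.negSucc 1, Int.negSucc 1, Int.ofNat 0, Int.ofNat 2, Int.ofNat 0],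
  [Int.ofNat 0, Int.ofNat 2, Int.negSucc 1, Int.ofNat 0, Int.ofNat 0, Int.negSucc 1, Int.ofNat 0, Int.ofNat 0, Int.ofNat 0, Int.ofNat 0, Int.ofNat 0, Int.ofNat 0, Int.ofNat 0, Int.ofNat 2, Int.ofNat 0, Int.ofNat 0, Int.negSucc 1, Int.negSucc 1, Int.ofNat 0, Int.ofNat 2, Int.ofNat 0, Int.ofNat 2, Int.ofNat 0, Int.ofNat 0],
  [Int.ofNat 0, Int.negSucc 1, Int.ofNat 2, Int.ofNat 2, Int.ofNat 0, Int.ofNat 0, Int.negSucc 1, Int.negSucc 1, Int.ofNat 0, Int.ofNat 0, Int.ofNat 0, Int.ofNat 0, Int.ofNat 0, Int.ofNat 2, Int.ofNat 2, Int.ofNat 0, Int.negSucc 1, Int.ofNat 0, Int.ofNat 0, Int.ofNat 0, Int.ofNat 0, Int.ofNat 0, Int.ofNat 0, Int.ofNat 0],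
  [Int.ofNat 0, Int.negSucc 1, Int.ofNat 0, Int.ofNat 2, Int.ofNat 0, Int.negSucc 1, Int.ofNat 2, Int.ofNat 0, Int.ofNat 0, Int.ofNat 2, Int.ofNat 0, Int.ofNat 0, Int.ofNat 0, Int.negSucc 1, Int.ofNat 0, Int.ofNat 0, Int.ofNat 0, Int.ofNat 2, Int.negSucc 1, Int.ofNat 0, Int.ofNat 0, Int.ofNat 0, Int.ofNat 0, Int.ofNat 0],
  [Int.negSucc 0, Int.ofNat 1, Int.negSucc 0, Int.ofNat 1, Int.ofNat 1, Int.negSucc 2, Int.ofNat 1, Int.negSucc 0, Int.ofNat 1, Int.ofNat 1, Int.negSucc 0, Int.ofNat 1, Int.ofNat 1, Int.negSucc 0, Int.negSucc 0, Int.negSucc 0, Int.ofNat 1, Int.ofNat 1, Int.negSucc 0, Int.negSucc 0, Int.negSucc 0, Int.negSucc 0, Int.ofNat 1, Int.negSucc 0],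
  [Int.negSucc 0, Int.ofNat 1, Int.ofNat 1, Int.ofNat 1, Int.ofNat 1, Int.ofNat 3, Int.negSucc 0, Int.negSucc 0, Int.ofNat 1, Int.negSucc 0, Int.ofNat 1, Int.ofNat 1, Int.ofNat 1, Int.negSucc 0, Int.negSucc 0, Int.ofNat 1, Int.ofNat 1, Int.ofNat 1, Int.ofNat 1, Int.negSucc 0, Int.negSucc 0, Int.negSucc 0, Int.negSucc 0, Int.negSucc 0],
  [Int.ofNat 1, Int.ofNat 1, Int.ofNat 1, Int.negSucc 0, Int.ofNat 1, Int.ofNat 1, Int.negSucc 0, Int.ofNat 1, Int.ofNat 1, Int.negSucc 0, Int.negSucc 0, Int.negSucc 0, Int.ofNat 1, Int.ofNat 1, Int.ofNat 3, Int.negSucc 0, Int.negSucc 0, Int.negSucc 0, Int.ofNat 1, Int.negSucc 0, Int.ofNat 1, Int.negSucc 0, Int.ofNat 1, Int.negSucc 0],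
  [Int.ofNat 1, Int.ofNat 1, Int.negSucc 0, Int.negSucc 0, Int.ofNat 1, Int.negSucc 0, Int.ofNat 1, Int.ofNat 1, Int.ofNat 1, Int.ofNat 1, Int.ofNat 1, Int.negSucc 0, Int.ofNat 1, Int.ofNat 1, Int.ofNat 3, Int.ofNat 1, Int.negSucc 0, Int.negSucc 0, Int.negSucc 0, Int.negSucc 0, Int.ofNat 1, Int.negSucc 0, Int.negSucc 0, Int.negSucc 0],
  [Int.negSucc 0, Int.negSucc 0, Int.ofNat 1, Int.negSucc 0, Int.ofNat 1, Int.negSucc 0, Int.ofNat 1, Int.ofNat 1, Int.ofNat 1, Int.negSucc 0, Int.negSucc 0, Int.negSucc 0, Int.ofNat 1, Int.ofNat 1, Int.ofNat 3, Int.negSucc 0, Int.negSucc 0, Int.negSucc 0, Int.negSucc 0, Int.negSucc 0, Int.negSucc 0, Int.negSucc 0, Int.negSucc 0, Int.ofNat 1],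
  [Int.negSucc 0, Int.negSucc 0, Int.ofNat 1, Int.negSucc 0, Int.ofNat 1, Int.negSucc 0, Int.negSucc 0, Int.negSucc 0, Int.negSucc 0, Int.ofNat 1, Int.ofNat 1, Int.negSucc 0, Int.ofNat 1, Int.negSucc 0, Int.negSucc 0, Int.negSucc 0, Int.ofNat 1, Int.negSucc 0, Int.ofNat 1, Int.negSucc 0, Int.negSucc 0, Int.negSucc 0, Int.ofNat 3, Int.ofNat 1],
  [Int.ofNat 1, Int.ofNat 1, Int.negSucc 0, Int.ofNat 1, Int.negSucc 0, Int.ofNat 1, Int.ofNat 1, Int.ofNat 1, Int.negSucc 0, Int.ofNat 1, Int.ofNat 1, Int.negSucc 0, Int.ofNat 1, Int.negSucc 2, Int.ofNat 1, Int.negSucc 0, Int.negSucc 0, Int.ofNat 1, Int.ofNat 1, Int.ofNat 1, Int.negSucc 0, Int.ofNat 1, Int.ofNat 1, Int.negSucc 0],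
  [Int.negSucc 0, Int.ofNat 1, Int.ofNat 1, Int.ofNat 1, Int.ofNat 1, Int.negSucc 0, Int.ofNat 1, Int.negSucc 0, Int.ofNat 1, Int.ofNat 1, Int.ofNat 1, Int.negSucc 0, Int.ofNat 1, Int.ofNat 1, Int.negSucc 0, Int.ofNat 1, Int.negSucc 2, Int.ofNat 1, Int.negSucc 0, Int.negSucc 0, Int.ofNat 1, Int.ofNat 1, Int.ofNat 1, Int.negSucc 0],
  [Int.ofNat 1, Int.negSucc 0, Int.negSucc 0, Int.ofNat 1, Int.ofNat 1, Int.negSucc 0, Int.ofNat 1, Int.negSucc 0, Int.ofNat 1, Int.negSucc 0, Int.negSucc 0, Int.negSucc 0, Int.ofNat 1, Int.ofNat 1, Int.negSucc 0, Int.negSucc 0, Int.negSucc 2, Int.ofNat 1, Int.negSucc 0, Int.negSucc 0, Int.negSucc 0, Int.ofNat 1, Int.ofNat 1, Int.ofNat 1],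
  [Int.negSucc 0, Int.negSucc 0, Int.ofNat 1, Int.ofNat 1, Int.negSucc 0, Int.ofNat 1, Int.negSucc 0, Int.ofNat 1, Int.negSucc 0, Int.negSucc 0, Int.negSucc 0, Int.ofNat 1, Int.ofNat 1, Int.negSucc 0, Int.negSucc 0, Int.negSucc 2, Int.ofNat 1, Int.negSucc 0, Int.negSucc 0, Int.negSucc 0, Int.ofNat 1, Int.ofNat 1, Int.ofNat 1, Int.ofNat 1],
  [Int.ofNat 1, Int.negSucc 0, Int.negSucc 0, Int.ofNat 1, Int.negSucc 0, Int.ofNat 1, Int.negSucc 0, Int.negSucc 0, Int.negSucc 0, Int.ofNat 1, Int.ofNat 1, Int.negSucc 0, Int.ofNat 1, Int.negSucc 0, Int.negSucc 0, Int.negSucc 2, Int.ofNat 1, Int.negSucc 0, Int.ofNat 1, Int.negSucc 0, Int.ofNat 1, Int.negSucc 0, Int.ofNat 1, Int.ofNat 1],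
  [Int.negSucc 0, Int.ofNat 1, Int.ofNat 1, Int.negSucc 0, Int.ofNat 1, Int.ofNat 1, Int.ofNat 1, Int.negSucc 0, Int.ofNat 1, Int.negSucc 0, Int.ofNat 1, Int.negSucc 0, Int.negSucc 0, Int.ofNat 1, Int.negSucc 0, Int.negSucc 2, Int.negSucc 0, Int.negSucc 0, Int.negSucc 0, Int.negSucc 0, Int.ofNat 1, Int.negSucc 0, Int.ofNat 1, Int.ofNat 1],
  [Int.negSucc 0, Int.ofNat 1, Int.negSucc 0, Int.negSucc 0, Int.ofNat 1, Int.ofNat 1, Int.ofNat 1, Int.ofNat 1, Int.negSucc 0, Int.negSucc 0, Int.negSucc 0, Int.negSucc 0, Int.ofNat 1, Int.ofNat 1, Int.negSucc 0, Int.negSucc 2, Int.negSucc 0, Int.ofNat 1, Int.ofNat 1, Int.negSucc 0, Int.ofNat 1, Int.negSucc 0, Int.negSucc 0, Int.ofNat 1],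
  [Int.ofNat 1, Int.ofNat 1, Int.ofNat 1, Int.negSucc 0, Int.ofNat 1, Int.ofNat 1, Int.ofNat 1, Int.negSucc 0, Int.negSucc 0, Int.ofNat 1, Int.ofNat 1, Int.ofNat 1, Int.ofNat 1, Int.ofNat 1, Int.negSucc 0, Int.negSucc 2, Int.negSucc 0, Int.ofNat 1, Int.negSucc 0, Int.negSucc 0, Int.ofNat 1, Int.ofNat 1, Int.negSucc 0, Int.ofNat 1],
  [Int.negSucc 0, Int.ofNat 1, Int.ofNat 1, Int.ofNat 1, Int.negSucc 0, Int.ofNat 1, Int.ofNat 1, Int.ofNat 1, Int.negSucc 0, Int.negSucc 0, Int.ofNat 1, Int.ofNat 1, Int.ofNat 1, Int.ofNat 1, Int.ofNat 1, Int.negSucc 0, Int.negSucc 2, Int.negSucc 0, Int.ofNat 1, Int.negSucc 0, Int.negSucc 0, Int.ofNat 1, Int.ofNat 1, Int.ofNat 1],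
  [Int.ofNat 2, Int.ofNat 0, Int.ofNat 0, Int.ofNat 0, Int.ofNat 0, Int.ofNat 0, Int.ofNat 0, Int.ofNat 0, Int.negSucc 1, Int.ofNat 0, Int.ofNat 2, Int.ofNat 0, Int.ofNat 0, Int.ofNat 2, Int.ofNat 0, Int.ofNat 0, Int.negSucc 1, Int.negSucc 1, Int.ofNat 0, Int.negSucc 1, Int.ofNat 0, Int.ofNat 0, Int.ofNat 2, Int.ofNat 0],
  [Int.ofNat 0, Int.ofNat 0, Int.ofNat 0, Int.ofNat 0, Int.ofNat 0, Int.negSucc 1, Int.ofNat 0, Int.ofNat 2, Int.ofNat 0, Int.ofNat 0, Int.ofNat 2, Int.ofNat 0, Int.ofNat 0, Int.negSucc 1, Int.negSucc 1, Int.ofNat 0, Int.negSucc 1, Int.ofNat 0, Int.ofNat 0, Int.ofNat 2, Int.ofNat 2, Int.ofNat 0, Int.ofNat 0, Int.ofNat 0],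
  [Int.ofNat 0, Int.ofNat 0, Int.ofNat 0, Int.ofNat 2, Int.ofNat 2, Int.ofNat 0, Int.negSucc 1, Int.ofNat 0, Int.ofNat 0, Int.negSucc 1, Int.ofNat 0, Int.ofNat 0, Int.ofNat 0, Int.ofNat 0, Int.ofNat 0, Int.negSucc 1, Int.ofNat 0, Int.ofNat 2, Int.ofNat 0, Int.ofNat 0, Int.ofNat 0, Int.negSucc 1, Int.ofNat 2, Int.ofNat 0],
  [Int.ofNat 0, Int.negSucc 1, Int.ofNat 2, Int.ofNat 2, Int.ofNat 0, Int.ofNat 0, Int.ofNat 0, Int.ofNat 0, Int.ofNat 0, Int.ofNat 0, Int.ofNat 0, Int.ofNat 2, Int.negSucc 1, Int.ofNat 0, Int.ofNat 2, Int.negSucc 1, Int.ofNat 0, Int.ofNat 0, Int.ofNat 0, Int.ofNat 0, Int.negSucc 1, Int.ofNat 0, Int.ofNat 0, Int.ofNat 0],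
  [Int.ofNat 0, Int.ofNat 2, Int.negSucc 1, Int.ofNat 0, Int.ofNat 0, Int.negSucc 1, Int.ofNat 0, Int.ofNat 0, Int.ofNat 0, Int.ofNat 2, Int.ofNat 2, Int.ofNat 2, Int.negSucc 1, Int.ofNat 0, Int.ofNat 0, Int.ofNat 0, Int.ofNat 0, Int.negSucc 1, Int.ofNat 0, Int.ofNat 0, Int.ofNat 0, Int.ofNat 0, Int.ofNat 0, Int.ofNat 0],
  [Int.ofNat 0, Int.ofNat 2, Int.ofNat 2, Int.ofNat 0, Int.ofNat 0, Int.ofNat 2, Int.ofNat 0, Int.ofNat 0, Int.ofNat 0, Int.negSucc 1, Int.negSucc 1, Int.ofNat 2, Int.negSucc 1, Int.ofNat 0, Int.ofNat 0, Int.ofNat 0, Int.ofNat 0, Int.negSucc 1, Int.ofNat 0, Int.ofNat 0, Int.ofNat 0, Int.ofNat 0, Int.ofNat 0, Int.ofNat 0],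
  [Int.negSucc 1, Int.ofNat 0, Int.ofNat 2, Int.ofNat 0, Int.ofNat 0, Int.ofNat 0, Int.ofNat 0, Int.ofNat 0, Int.ofNat 2, Int.ofNat 0, Int.ofNat 0, Int.ofNat 0, Int.ofNat 0, Int.ofNat 0, Int.negSucc 1, Int.ofNat 0, Int.ofNat 0, Int.negSucc 1, Int.negSucc 1, Int.ofNat 2, Int.ofNat 0, Int.ofNat 2, Int.ofNat 0, Int.ofNat 0],
  [Int.ofNat 0, Int.ofNat 0, Int.ofNat 0, Int.ofNat 0, Int.negSucc 1, Int.ofNat 0, Int.ofNat 2, Int.ofNat 0, Int.ofNat 0, Int.ofNat 0, Int.ofNat 0, Int.ofNat 2, Int.ofNat 2, Int.ofNat 0, Int.negSucc 1, Int.ofNat 0, Int.ofNat 0, Int.ofNat 0, Int.negSucc 1, Int.ofNat 0, Int.ofNat 2, Int.ofNat 0, Int.ofNat 0, Int.negSucc 1],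
  [Int.ofNat 0, Int.ofNat 0, Int.ofNat 0, Int.ofNat 0, Int.negSucc 1, Int.ofNat 0, Int.ofNat 2, Int.ofNat 0, Int.ofNat 0, Int.ofNat 0, Int.ofNat 0, Int.negSucc 1, Int.ofNat 2, Int.ofNat 0, Int.negSucc 1, Int.ofNat 0, Int.ofNat 0, Int.ofNat 0, Int.ofNat 2, Int.ofNat 0, Int.ofNat 2, Int.ofNat 0, Int.ofNat 0, Int.negSucc 1],
  [Int.ofNat 0, Int.ofNat 0, Int.ofNat 0, Int.ofNat 0, Int.ofNat 0, Int.negSucc 1, Int.ofNat 0, Int.ofNat 2, Int.ofNat 0, Int.ofNat 0, Int.ofNat 0, Int.ofNat 0, Int.negSucc 1, Int.ofNat 2, Int.ofNat 0, Int.negSucc 1, Int.ofNat 0, Int.ofNat 0, Int.ofNat 0, Int.ofNat 2, Int.ofNat 0, Int.ofNat 2, Int.ofNat 0, Int.negSucc 1],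
  [Int.negSucc 0, Int.negSucc 0, Int.negSucc 0, Int.ofNat 1, Int.negSucc 0, Int.negSucc 0, Int.negSucc 2, Int.negSucc 0, Int.ofNat 1, Int.ofNat 1, Int.ofNat 1, Int.ofNat 1, Int.negSucc 0, Int.ofNat 1, Int.ofNat 1, Int.negSucc 0, Int.negSucc 0, Int.ofNat 1, Int.ofNat 1, Int.negSucc 0, Int.ofNat 1, Int.negSucc 0, Int.negSucc 0, Int.ofNat 1],
  [Int.ofNat 1, Int.negSucc 0, Int.negSucc 0, Int.negSucc 2, Int.negSucc 0, Int.ofNat 1, Int.ofNat 1, Int.ofNat 1, Int.ofNat 1, Int.negSucc 0, Int.ofNat 1, Int.ofNat 1, Int.negSucc 0, Int.negSucc 0, Int.ofNat 1, Int.ofNat 1, Int.negSucc 0, Int.ofNat 1, Int.negSucc 0, Int.negSucc 0, Int.negSucc 0, Int.negSucc 0, Int.negSucc 0, Int.ofNat 1],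
  [Int.negSucc 0, Int.ofNat 1, Int.ofNat 1, Int.negSucc 2, Int.ofNat 1, Int.ofNat 1, Int.ofNat 1, Int.ofNat 1, Int.ofNat 1, Int.negSucc 0, Int.ofNat 1, Int.ofNat 1, Int.negSucc 0, Int.ofNat 1, Int.ofNat 1, Int.ofNat 1, Int.ofNat 1, Int.ofNat 1, Int.negSucc 0, Int.negSucc 0, Int.negSucc 0, Int.negSucc 0, Int.ofNat 1, Int.negSucc 0],
  [Int.negSucc 0, Int.ofNat 1, Int.ofNat 1, Int.negSucc 2, Int.negSucc 0, Int.ofNat 1, Int.ofNat 1, Int.ofNat 1, Int.negSucc 0, Int.ofNat 1, Int.negSucc 0, Int.ofNat 1, Int.negSucc 0, Int.ofNat 1, Int.ofNat 1, Int.ofNat 1, Int.ofNat 1, Int.ofNat 1, Int.ofNat 1, Int.ofNat 1, Int.negSucc 0, Int.ofNat 1, Int.negSucc 0, Int.negSucc 0],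
  [Int.ofNat 1, Int.negSucc 0, Int.negSucc 0, Int.negSucc 2, Int.negSucc 0, Int.ofNat 1, Int.negSucc 0, Int.negSucc 0, Int.negSucc 0, Int.ofNat 1, Int.negSucc 0, Int.ofNat 1, Int.negSucc 0, Int.ofNat 1, Int.ofNat 1, Int.ofNat 1, Int.ofNat 1, Int.ofNat 1, Int.ofNat 1, Int.negSucc 0, Int.negSucc 0, Int.negSucc 0, Int.negSucc 0, Int.ofNat 1],
  [Int.ofNat 1, Int.negSucc 0, Int.ofNat 1, Int.negSucc 2, Int.negSucc 0, Int.negSucc 0, Int.ofNat 1, Int.negSucc 0, Int.negSucc 0, Int.negSucc 0, Int.ofNat 1, Int.ofNat 1, Int.negSucc 0, Int.ofNat 1, Int.ofNat 1, Int.negSucc 0, Int.ofNat 1, Int.ofNat 1, Int.negSucc 0, Int.negSucc 0, Int.negSucc 0, Int.negSucc 0, Int.ofNat 1, Int.ofNat 1],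
  [Int.ofNat 1, Int.ofNat 1, Int.ofNat 1, Int.negSucc 0, Int.negSucc 0, Int.negSucc 0, Int.negSucc 0, Int.negSucc 0, Int.negSucc 2, Int.ofNat 1, Int.ofNat 1, Int.negSucc 0, Int.negSucc 0, Int.ofNat 1, Int.negSucc 0, Int.negSucc 0, Int.ofNat 1, Int.negSucc 0, Int.ofNat 1, Int.ofNat 1, Int.negSucc 0, Int.ofNat 1, Int.negSucc 0, Int.ofNat 1],
  [Int.ofNat 1, Int.ofNat 1, Int.negSucc 0, Int.negSucc 0, Int.negSucc 0, Int.ofNat 1, Int.ofNat 1, Int.negSucc 0, Int.negSucc 2, Int.negSucc 0, Int.negSucc 0, Int.negSucc 0, Int.negSucc 0, Int.ofNat 1, Int.negSucc 0, Int.ofNat 1, Int.ofNat 1, Int.negSucc 0, Int.negSucc 0, Int.ofNat 1, Int.negSucc 0, Int.ofNat 1, Int.ofNat 1, Int.ofNat 1],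
  [Int.ofNat 0, Int.ofNat 0, Int.ofNat 2, Int.ofNat 0, Int.negSucc 1, Int.ofNat 2, Int.ofNat 0, Int.negSucc 1, Int.ofNat 0, Int.ofNat 0, Int.ofNat 0, Int.ofNat 2, Int.ofNat 2, Int.ofNat 0, Int.ofNat 0, Int.ofNat 2, Int.ofNat 0, Int.ofNat 0, Int.ofNat 2, Int.ofNat 0, Int.ofNat 0, Int.ofNat 0, Int.ofNat 0, Int.ofNat 0],
  [Int.ofNat 0, Int.ofNat 2, Int.ofNat 0, Int.ofNat 0, Int.ofNat 2, Int.ofNat 0, Int.ofNat 0, Int.ofNat 2, Int.ofNat 0, Int.ofNat 2, Int.negSucc 1, Int.ofNat 0, Int.ofNat 0, Int.ofNat 0, Int.ofNat 0, Int.ofNat 2, Int.ofNat 0, Int.ofNat 2, Int.negSucc 1, Int.ofNat 0, Int.ofNat 0, Int.ofNat 0, Int.ofNat 0, Int.ofNat 0],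
  [Int.ofNat 1, Int.negSucc 0, Int.ofNat 1, Int.negSucc 0, Int.ofNat 1, Int.negSucc 0, Int.negSucc 0, Int.ofNat 1, Int.ofNat 1, Int.ofNat 1, Int.negSucc 2, Int.ofNat 1, Int.ofNat 1, Int.negSucc 0, Int.negSucc 0, Int.ofNat 1, Int.negSucc 0, Int.ofNat 1, Int.negSucc 0, Int.negSucc 0, Int.negSucc 0, Int.negSucc 0, Int.negSucc 0, Int.ofNat 1],
  [Int.negSucc 0, Int.negSucc 0, Int.negSucc 0, Int.ofNat 1, Int.negSucc 0, Int.ofNat 1, Int.negSucc 0, Int.ofNat 1, Int.negSucc 0, Int.negSucc 0, Int.ofNat 1, Int.ofNat 1, Int.ofNat 1, Int.negSucc 2, Int.ofNat 1, Int.ofNat 1, Int.negSucc 0, Int.negSucc 0, Int.ofNat 1, Int.negSucc 0, Int.ofNat 1, Int.negSucc 0, Int.negSucc 0, Int.ofNat 1],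
  [Int.ofNat 0, Int.ofNat 0, Int.ofNat 0, Int.ofNat 0, Int.ofNat 2, Int.ofNat 0, Int.ofNat 0, Int.ofNat 2, Int.negSucc 1, Int.negSucc 1, Int.ofNat 0, Int.ofNat 0, Int.ofNat 0, Int.ofNat 0, Int.ofNat 0, Int.ofNat 0, Int.ofNat 2, Int.negSucc 1, Int.ofNat 0, Int.ofNat 0, Int.ofNat 0, Int.ofNat 0, Int.ofNat 2, Int.negSucc 1],
  [Int.ofNat 0, Int.ofNat 0, Int.ofNat 0, Int.ofNat 2, Int.ofNat 0, Int.ofNat 0, Int.ofNat 2, Int.negSucc 1, Int.negSucc 1, Int.ofNat 0, Int.ofNat 0, Int.ofNat 0, Int.ofNat 0, Int.ofNat 0, Int.ofNat 0, Int.ofNat 2, Int.negSucc 1, Int.ofNat 0, Int.ofNat 0, Int.ofNat 0, Int.ofNat 0, Int.ofNat 2, Int.ofNat 0, Int.negSucc 1],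
  [Int.ofNat 0, Int.ofNat 0, Int.ofNat 0, Int.ofNat 2, Int.ofNat 0, Int.ofNat 0, Int.ofNat 2, Int.ofNat 2, Int.negSucc 1, Int.ofNat 0, Int.ofNat 0, Int.ofNat 0, Int.ofNat 0, Int.ofNat 0, Int.ofNat 0, Int.ofNat 2, Int.negSucc 1, Int.ofNat 0, Int.ofNat 0, Int.ofNat 0, Int.ofNat 0, Int.negSucc 1, Int.ofNat 0, Int.negSucc 1],
  [Int.ofNat 0, Int.ofNat 0, Int.ofNat 0, Int.negSucc 1, Int.ofNat 0, Int.ofNat 0, Int.negSucc 1, Int.ofNat 2, Int.ofNat 2, Int.ofNat 0, Int.ofNat 0, Int.ofNat 0, Int.ofNat 0, Int.ofNat 0, Int.ofNat 0, Int.ofNat 2, Int.ofNat 2, Int.ofNat 0, Int.ofNat 0, Int.ofNat 0, Int.ofNat 0, Int.negSucc 1, Int.ofNat 0, Int.negSucc 1],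
  [Int.ofNat 0, Int.ofNat 0, Int.ofNat 0, Int.negSucc 1, Int.ofNat 0, Int.ofNat 0, Int.ofNat 0, Int.ofNat 0, Int.ofNat 0, Int.ofNat 2, Int.negSucc 1, Int.ofNat 0, Int.ofNat 0, Int.ofNat 2, Int.ofNat 0, Int.ofNat 2, Int.ofNat 0, Int.ofNat 0, Int.negSucc 1, Int.ofNat 0, Int.ofNat 0, Int.ofNat 2, Int.ofNat 0, Int.negSucc 1],
  [Int.ofNat 0, Int.ofNat 0, Int.ofNat 0, Int.negSucc 1, Int.ofNat 0, Int.ofNat 0, Int.ofNat 0, Int.ofNat 0, Int.ofNat 0, Int.negSucc 1, Int.ofNat 2, Int.ofNat 0, Int.ofNat 0, Int.ofNat 2, Int.ofNat 0, Int.ofNat 2, Int.ofNat 0, Int.ofNat 0, Int.ofNat 2, Int.ofNat 0, Int.ofNat 0, Int.negSucc 1, Int.ofNat 0, Int.negSucc 1],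
  [Int.ofNat 0, Int.ofNat 0, Int.ofNat 0, Int.ofNat 0, Int.negSucc 1, Int.ofNat 0, Int.ofNat 0, Int.ofNat 0, Int.ofNat 0, Int.ofNat 0, Int.negSucc 1, Int.ofNat 2, Int.ofNat 0, Int.ofNat 0, Int.ofNat 2, Int.ofNat 0, Int.ofNat 2, Int.ofNat 0, Int.ofNat 0, Int.ofNat 2, Int.ofNat 0, Int.ofNat 0, Int.negSucc 1, Int.negSucc 1],
  [Int.negSucc 0, Int.negSucc 0, Int.negSucc 0, Int.negSucc 0, Int.negSucc 0, Int.negSucc 0, Int.negSucc 0, Int.negSucc 0, Int.negSucc 0, Int.ofNat 1, Int.negSucc 0, Int.ofNat 1, Int.negSucc 0, Int.ofNat 1, Int.ofNat 1, Int.ofNat 1, Int.ofNat 3, Int.negSucc 0, Int.negSucc 0, Int.ofNat 1, Int.ofNat 1, Int.negSucc 0, Int.negSucc 0, Int.ofNat 1],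
  [Int.negSucc 0, Int.negSucc 0, Int.negSucc 0, Int.negSucc 0, Int.negSucc 0, Int.negSucc 0, Int.ofNat 1, Int.negSucc 0, Int.ofNat 1, Int.negSucc 0, Int.ofNat 1, Int.ofNat 1, Int.ofNat 1, Int.ofNat 3, Int.negSucc 0, Int.negSucc 0, Int.ofNat 1, Int.ofNat 1, Int.negSucc 0, Int.negSucc 0, Int.negSucc 0, Int.negSucc 0, Int.negSucc 0, Int.ofNat 1],
  [Int.ofNat 0, Int.ofNat 0, Int.ofNat 0, Int.ofNat 0, Int.negSucc 1, Int.ofNat 0, Int.ofNat 2, Int.ofNat 0, Int.ofNat 0, Int.ofNat 0, Int.ofNat 2, Int.ofNat 0, Int.ofNat 0, Int.ofNat 2, Int.ofNat 0, Int.ofNat 0, Int.ofNat 0, Int.ofNat 2, Int.negSucc 1, Int.ofNat 0, Int.ofNat 0, Int.ofNat 0, Int.negSucc 1, Int.negSucc 1],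
  [Int.ofNat 0, Int.ofNat 2, Int.negSucc 1, Int.ofNat 0, Int.negSucc 1, Int.ofNat 0, Int.ofNat 0, Int.ofNat 2, Int.ofNat 0, Int.ofNat 2, Int.ofNat 0, Int.ofNat 2, Int.ofNat 0, Int.ofNat 0, Int.negSucc 1, Int.ofNat 0, Int.ofNat 0, Int.ofNat 0, Int.ofNat 0, Int.ofNat 0, Int.ofNat 0, Int.ofNat 0, Int.ofNat 0, Int.negSucc 1],
  [Int.negSucc 0, Int.negSucc 2, Int.ofNat 1, Int.ofNat 1, Int.negSucc 0, Int.ofNat 1, Int.negSucc 0, Int.ofNat 1, Int.negSucc 0, Int.ofNat 1, Int.negSucc 0, Int.ofNat 1, Int.negSucc 0, Int.ofNat 1, Int.negSucc 0, Int.negSucc 0, Int.ofNat 1, Int.ofNat 1, Int.negSucc 0, Int.negSucc 0, Int.negSucc 0, Int.negSucc 0, Int.ofNat 1, Int.ofNat 1],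
  [Int.negSucc 0, Int.negSucc 2, Int.negSucc 0, Int.ofNat 1, Int.negSucc 0, Int.negSucc 0, Int.ofNat 1, Int.ofNat 1, Int.negSucc 0, Int.negSucc 0, Int.ofNat 1, Int.ofNat 1, Int.negSucc 0, Int.ofNat 1, Int.negSucc 0, Int.ofNat 1, Int.ofNat 1, Int.ofNat 1, Int.ofNat 1, Int.negSucc 0, Int.negSucc 0, Int.negSucc 0, Int.negSucc 0, Int.ofNat 1],
  [Int.ofNat 1, Int.ofNat 1, Int.ofNat 1, Int.negSucc 0, Int.negSucc 0, Int.ofNat 1, Int.negSucc 0, Int.ofNat 1, Int.negSucc 0, Int.negSucc 0, Int.ofNat 1, Int.ofNat 1, Int.ofNat 1, Int.negSucc 0, Int.ofNat 1, Int.ofNat 1, Int.negSucc 0, Int.negSucc 0, Int.negSucc 0, Int.negSucc 0, Int.negSucc 0, Int.negSucc 2, Int.negSucc 0, Int.ofNat 1],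
  [Int.ofNat 1, Int.negSucc 0, Int.ofNat 1, Int.ofNat 1, Int.negSucc 0, Int.negSucc 0, Int.negSucc 0, Int.negSucc 0, Int.negSucc 0, Int.ofNat 1, Int.negSucc 0, Int.ofNat 1, Int.negSucc 2, Int.ofNat 1, Int.negSucc 0, Int.negSucc 0, Int.ofNat 1, Int.negSucc 0, Int.ofNat 1, Int.negSucc 0, Int.negSucc 0, Int.ofNat 1, Int.ofNat 1, Int.ofNat 1],
  [Int.negSucc 0, Int.negSucc 0, Int.negSucc 0, Int.ofNat 1, Int.negSucc 0, Int.negSucc 0, Int.negSucc 0, Int.ofNat 1, Int.negSucc 0, Int.negSucc 0, Int.ofNat 1, Int.negSucc 0, Int.negSucc 2, Int.ofNat 1, Int.negSucc 0, Int.negSucc 0, Int.ofNat 1, Int.negSucc 0, Int.negSucc 0, Int.negSucc 0, Int.negSucc 0, Int.negSucc 0, Int.ofNat 1, Int.ofNat 1],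
  [Int.ofNat 1, Int.negSucc 0, Int.negSucc 0, Int.negSucc 0, Int.ofNat 1, Int.negSucc 0, Int.negSucc 0, Int.negSucc 0, Int.ofNat 1, Int.negSucc 0, Int.negSucc 0, Int.ofNat 1, Int.negSucc 0, Int.negSucc 2, Int.ofNat 1, Int.negSucc 0, Int.negSucc 0, Int.ofNat 1, Int.negSucc 0, Int.negSucc 0, Int.negSucc 0, Int.negSucc 0, Int.negSucc 0, Int.ofNat 1],
  [Int.negSucc 0, Int.ofNat 1, Int.ofNat 1, Int.negSucc 0, Int.ofNat 3, Int.negSucc 0, Int.ofNat 1, Int.ofNat 1, Int.ofNat 1, Int.ofNat 1, Int.ofNat 1, Int.ofNat 1, Int.negSucc 0, Int.negSucc 0, Int.ofNat 1, Int.ofNat 1, Int.ofNat 1, Int.ofNat 1, Int.negSucc 0, Int.ofNat 1, Int.ofNat 1, Int.ofNat 1, Int.ofNat 1, Int.negSucc 0],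
  [Int.negSucc 0, Int.ofNat 3, Int.negSucc 0, Int.ofNat 1, Int.ofNat 1, Int.ofNat 1, Int.ofNat 1, Int.ofNat 1, Int.ofNat 1, Int.negSucc 0, Int.negSucc 0, Int.ofNat 1, Int.ofNat 1, Int.ofNat 1, Int.ofNat 1, Int.negSucc 0, Int.ofNat 1, Int.ofNat 1, Int.ofNat 1, Int.ofNat 1, Int.negSucc 0, Int.ofNat 1, Int.ofNat 1, Int.negSucc 0],
  [Int.ofNat 1, Int.negSucc 2, Int.ofNat 1, Int.negSucc 0, Int.negSucc 0, Int.negSucc 0, Int.negSucc 0, Int.negSucc 0, Int.negSucc 0, Int.ofNat 1, Int.ofNat 1, Int.negSucc 0, Int.negSucc 0, Int.negSucc 0, Int.negSucc 0, Int.ofNat 1, Int.negSucc 0, Int.negSucc 0, Int.negSucc 0, Int.negSucc 0, Int.ofNat 1, Int.negSucc 0, Int.negSucc 0, Int.ofNat 1],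
  [Int.ofNat 1, Int.negSucc 0, Int.negSucc 0, Int.negSucc 0, Int.negSucc 0, Int.negSucc 0, Int.ofNat 1, Int.ofNat 1, Int.negSucc 0, Int.negSucc 0, Int.ofNat 1, Int.negSucc 0, Int.ofNat 1, Int.negSucc 0, Int.negSucc 0, Int.ofNat 1, Int.negSucc 0, Int.negSucc 0, Int.negSucc 2, Int.negSucc 0, Int.negSucc 0, Int.negSucc 0, Int.negSucc 0, Int.ofNat 1],
  [Int.negSucc 0, Int.ofNat 1, Int.ofNat 1, Int.ofNat 1, Int.ofNat 1, Int.ofNat 1, Int.ofNat 1, Int.ofNat 1, Int.ofNat 1, Int.negSucc 0, Int.ofNat 1, Int.ofNat 1, Int.ofNat 3, Int.ofNat 1, Int.ofNat 1, Int.ofNat 1, Int.ofNat 1, Int.ofNat 1, Int.negSucc 0, Int.negSucc 0, Int.negSucc 0, Int.negSucc 0, Int.ofNat 1, Int.negSucc 0],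
  [Int.negSucc 0, Int.ofNat 1, Int.negSucc 0, Int.ofNat 1, Int.ofNat 1, Int.negSucc 0, Int.negSucc 0, Int.ofNat 1, Int.ofNat 1, Int.ofNat 1, Int.negSucc 0, Int.ofNat 1, Int.ofNat 3, Int.ofNat 1, Int.ofNat 1, Int.negSucc 0, Int.ofNat 1, Int.ofNat 1, Int.ofNat 1, Int.negSucc 0, Int.negSucc 0, Int.negSucc 0, Int.negSucc 0, Int.negSucc 0],
  [Int.ofNat 1, Int.ofNat 1, Int.negSucc 0, Int.ofNat 1, Int.ofNat 3, Int.negSucc 0, Int.negSucc 0, Int.ofNat 1, Int.ofNat 1, Int.negSucc 0, Int.ofNat 1, Int.negSucc 0, Int.ofNat 1, Int.ofNat 1, Int.negSucc 0, Int.negSucc 0, Int.negSucc 0, Int.ofNat 1, Int.negSucc 0, Int.negSucc 0, Int.ofNat 1, Int.ofNat 1, Int.ofNat 1, Int.negSucc 0],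
  [Int.ofNat 1, Int.ofNat 1, Int.ofNat 1, Int.ofNat 1, Int.ofNat 3, Int.ofNat 1, Int.ofNat 1, Int.ofNat 1, Int.ofNat 1, Int.ofNat 1, Int.negSucc 0, Int.negSucc 0, Int.ofNat 1, Int.ofNat 1, Int.negSucc 0, Int.ofNat 1, Int.negSucc 0, Int.ofNat 1, Int.ofNat 1, Int.negSucc 0, Int.ofNat 1, Int.ofNat 1, Int.negSucc 0, Int.negSucc 0],
  [Int.ofNat 0, Int.ofNat 0, Int.ofNat 0, Int.ofNat 0, Int.ofNat 2, Int.ofNat 0, Int.ofNat 0, Int.ofNat 0, Int.ofNat 0, Int.ofNat 0, Int.negSucc 1, Int.negSucc 1, Int.ofNat 0, Int.ofNat 0, Int.negSucc 1, Int.ofNat 0, Int.negSucc 1, Int.ofNat 0, Int.ofNat 0, Int.negSucc 1, Int.ofNat 0, Int.ofNat 0, Int.negSucc 1, Int.ofNat 2],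
  [Int.ofNat 0, Int.ofNat 0, Int.ofNat 0, Int.ofNat 0, Int.ofNat 0, Int.ofNat 0, Int.ofNat 0, Int.ofNat 0, Int.negSucc 1, Int.ofNat 0, Int.ofNat 0, Int.negSucc 1, Int.ofNat 0, Int.ofNat 0, Int.ofNat 0, Int.ofNat 0, Int.ofNat 0, Int.negSucc 1, Int.ofNat 2, Int.negSucc 1, Int.negSucc 1, Int.ofNat 0, Int.negSucc 1, Int.ofNat 2],
  [Int.ofNat 1, Int.ofNat 1, Int.ofNat 1, Int.ofNat 1, Int.ofNat 1, Int.ofNat 1, Int.ofNat 1, Int.ofNat 1, Int.negSucc 0, Int.ofNat 1, Int.ofNat 1, Int.negSucc 0, Int.ofNat 1, Int.ofNat 1, Int.ofNat 1, Int.ofNat 1, Int.ofNat 1, Int.negSucc 0, Int.ofNat 3, Int.negSucc 0, Int.negSucc 0, Int.ofNat 1, Int.negSucc 0, Int.negSucc 0],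
  [Int.negSucc 0, Int.ofNat 1, Int.negSucc 0, Int.ofNat 1, Int.ofNat 1, Int.ofNat 1, Int.ofNat 1, Int.ofNat 1, Int.ofNat 1, Int.ofNat 1, Int.ofNat 1, Int.negSucc 0, Int.ofNat 1, Int.ofNat 1, Int.negSucc 0, Int.ofNat 1, Int.ofNat 1, Int.ofNat 1, Int.ofNat 1, Int.ofNat 1, Int.negSucc 0, Int.ofNat 3, Int.negSucc 0, Int.negSucc 0],
  [Int.ofNat 0, Int.negSucc 1, Int.ofNat 0, Int.ofNat 0, Int.ofNat 0, Int.ofNat 0, Int.negSucc 1, Int.negSucc 1, Int.ofNat 0, Int.ofNat 0, Int.ofNat 0, Int.negSucc 1, Int.ofNat 0, Int.ofNat 0, Int.negSucc 1, Int.ofNat 0, Int.ofNat 0, Int.ofNat 0, Int.ofNat 0, Int.negSucc 1, Int.negSucc 1, Int.ofNat 0, Int.negSucc 1, Int.ofNat 0],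
  [Int.negSucc 1, Int.ofNat 0, Int.ofNat 0, Int.ofNat 0, Int.ofNat 0, Int.negSucc 1, Int.negSucc 1, Int.ofNat 0, Int.ofNat 0, Int.ofNat 0, Int.negSucc 1, Int.ofNat 0, Int.ofNat 0, Int.negSucc 1, Int.ofNat 0, Int.ofNat 0, Int.ofNat 0, Int.ofNat 0, Int.negSucc 1, Int.negSucc 1, Int.ofNat 0, Int.negSucc 1, Int.ofNat 0, Int.ofNat 0],
  [Int.ofNat 2, Int.ofNat 0, Int.ofNat 0, Int.ofNat 0, Int.ofNat 0, Int.negSucc 1, Int.negSucc 1, Int.ofNat 0, Int.ofNat 0, Int.ofNat 0, Int.ofNat 2, Int.ofNat 0, Int.ofNat 0, Int.negSucc 1, Int.ofNat 0, Int.ofNat 0, Int.ofNat 0, Int.ofNat 0, Int.ofNat 2, Int.negSucc 1, Int.ofNat 0, Int.ofNat 2, Int.ofNat 0, Int.ofNat 0],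
  [Int.negSucc 1, Int.ofNat 0, Int.ofNat 0, Int.ofNat 0, Int.ofNat 0, Int.negSucc 1, Int.ofNat 2, Int.ofNat 0, Int.ofNat 0, Int.ofNat 0, Int.ofNat 2, Int.ofNat 0, Int.ofNat 0, Int.ofNat 2, Int.ofNat 0, Int.ofNat 0, Int.ofNat 0, Int.ofNat 0, Int.negSucc 1, Int.negSucc 1, Int.ofNat 0, Int.ofNat 2, Int.ofNat 0, Int.ofNat 0],
  [Int.negSucc 1, Int.ofNat 0, Int.negSucc 1, Int.ofNat 0, Int.ofNat 0, Int.ofNat 2, Int.ofNat 0, Int.ofNat 0, Int.ofNat 0, Int.ofNat 0, Int.ofNat 2, Int.ofNat 0, Int.ofNat 2, Int.ofNat 0, Int.negSucc 1, Int.ofNat 0, Int.ofNat 0, Int.ofNat 0, Int.ofNat 2, Int.ofNat 0, Int.negSucc 1, Int.ofNat 0, Int.ofNat 0, Int.ofNat 0],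
  [Int.ofNat 2, Int.ofNat 0, Int.ofNat 2, Int.ofNat 0, Int.ofNat 0, Int.ofNat 2, Int.ofNat 0, Int.ofNat 0, Int.ofNat 0, Int.ofNat 0, Int.negSucc 1, Int.ofNat 0, Int.ofNat 2, Int.ofNat 0, Int.negSucc 1, Int.ofNat 0, Int.ofNat 0, Int.ofNat 0, Int.negSucc 1, Int.ofNat 0, Int.negSucc 1, Int.ofNat 0, Int.ofNat 0, Int.ofNat 0],
  [Int.ofNat 0, Int.ofNat 2, Int.ofNat 0, Int.ofNat 2, Int.ofNat 0, Int.ofNat 0, Int.ofNat 2, Int.ofNat 0, Int.ofNat 0, Int.ofNat 0, Int.ofNat 0, Int.negSucc 1, Int.ofNat 0, Int.ofNat 2, Int.ofNat 0, Int.negSucc 1, Int.ofNat 0, Int.ofNat 0, Int.ofNat 0, Int.negSucc 1, Int.ofNat 0, Int.negSucc 1, Int.ofNat 0, Int.ofNat 0],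
  [Int.ofNat 1, Int.negSucc 0, Int.ofNat 1, Int.ofNat 1, Int.negSucc 0, Int.negSucc 0, Int.ofNat 3, Int.ofNat 1, Int.ofNat 1, Int.ofNat 1, Int.ofNat 1, Int.negSucc 0, Int.ofNat 1, Int.ofNat 1, Int.negSucc 0, Int.negSucc 0, Int.negSucc 0, Int.negSucc 0, Int.ofNat 1, Int.negSucc 0, Int.ofNat 1, Int.negSucc 0, Int.negSucc 0, Int.ofNat 1],
  [Int.ofNat 1, Int.negSucc 0, Int.negSucc 0, Int.ofNat 3, Int.ofNat 1, Int.ofNat 1, Int.ofNat 1, Int.ofNat 1, Int.negSucc 0, Int.ofNat 1, Int.ofNat 1, Int.negSucc 0, Int.negSucc 0, Int.negSucc 0, Int.negSucc 0, Int.ofNat 1, Int.negSucc 0, Int.ofNat 1, Int.negSucc 0, Int.negSucc 0, Int.ofNat 1, Int.negSucc 0, Int.ofNat 1, Int.ofNat 1],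
  [Int.negSucc 0, Int.ofNat 1, Int.ofNat 1, Int.ofNat 1, Int.ofNat 1, Int.negSucc 0, Int.ofNat 1, Int.ofNat 1, Int.ofNat 1, Int.negSucc 0, Int.negSucc 0, Int.ofNat 1, Int.ofNat 1, Int.negSucc 0, Int.negSucc 2, Int.negSucc 0, Int.negSucc 0, Int.negSucc 0, Int.ofNat 1, Int.negSucc 0, Int.negSucc 0, Int.negSucc 0, Int.ofNat 1, Int.negSucc 0],
  [Int.negSucc 0, Int.ofNat 1, Int.ofNat 1, Int.ofNat 1, Int.ofNat 1, Int.ofNat 1, Int.ofNat 1, Int.negSucc 0, Int.ofNat 1, Int.negSucc 0, Int.negSucc 0, Int.negSucc 0, Int.negSucc 0, Int.negSucc 0, Int.ofNat 1, Int.negSucc 0, Int.ofNat 1, Int.negSucc 2, Int.ofNat 1, Int.ofNat 1, Int.negSucc 0, Int.negSucc 0, Int.negSucc 0, Int.negSucc 0],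
  [Int.ofNat 1, Int.negSucc 0, Int.negSucc 0, Int.ofNat 1, Int.ofNat 1, Int.ofNat 1, Int.ofNat 1, Int.negSucc 0, Int.ofNat 1, Int.ofNat 1, Int.ofNat 1, Int.negSucc 0, Int.negSucc 0, Int.negSucc 0, Int.ofNat 1, Int.ofNat 1, Int.ofNat 1, Int.negSucc 2, Int.ofNat 1, Int.ofNat 1, Int.ofNat 1, Int.negSucc 0, Int.negSucc 0, Int.ofNat 1],
  [Int.ofNat 1, Int.negSucc 0, Int.ofNat 1, Int.ofNat 1, Int.ofNat 1, Int.negSucc 0, Int.negSucc 0, Int.negSucc 0, Int.ofNat 1, Int.negSucc 0, Int.negSucc 0, Int.negSucc 0, Int.negSucc 0, Int.negSucc 0, Int.ofNat 1, Int.negSucc 0, Int.ofNat 1, Int.negSucc 2, Int.negSucc 0, Int.ofNat 1, Int.ofNat 1, Int.negSucc 0, Int.ofNat 1, Int.ofNat 1],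
  [Int.negSucc 0, Int.ofNat 1, Int.negSucc 0, Int.ofNat 1, Int.ofNat 1, Int.negSucc 0, Int.negSucc 0, Int.ofNat 1, Int.negSucc 0, Int.ofNat 1, Int.negSucc 0, Int.negSucc 0, Int.negSucc 0, Int.ofNat 1, Int.negSucc 2, Int.negSucc 0, Int.ofNat 1, Int.negSucc 0, Int.negSucc 0, Int.ofNat 1, Int.ofNat 1, Int.negSucc 0, Int.ofNat 1, Int.ofNat 1],
  [Int.ofNat 1, Int.ofNat 1, Int.negSucc 0, Int.negSucc 0, Int.negSucc 0, Int.ofNat 1, Int.ofNat 1, Int.ofNat 1, Int.ofNat 1, Int.negSucc 0, Int.ofNat 1, Int.negSucc 0, Int.negSucc 0, Int.ofNat 1, Int.negSucc 0, Int.ofNat 1, Int.negSucc 0, Int.ofNat 1, Int.negSucc 2, Int.negSucc 0, Int.negSucc 0, Int.negSucc 0, Int.ofNat 1, Int.negSucc 0],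
  [Int.negSucc 0, Int.ofNat 1, Int.ofNat 1, Int.negSucc 0, Int.negSucc 0, Int.ofNat 1, Int.ofNat 1, Int.negSucc 0, Int.ofNat 1, Int.ofNat 1, Int.negSucc 0, Int.ofNat 1, Int.negSucc 0, Int.ofNat 1, Int.negSucc 0, Int.ofNat 1, Int.negSucc 0, Int.ofNat 1, Int.ofNat 3, Int.negSucc 0, Int.negSucc 0, Int.ofNat 1, Int.ofNat 1, Int.negSucc 0],
  [Int.ofNat 1, Int.negSucc 0, Int.ofNat 1, Int.ofNat 1, Int.negSucc 0, Int.negSucc 0, Int.ofNat 1, Int.ofNat 1, Int.negSucc 0, Int.ofNat 1, Int.ofNat 1, Int.negSucc 0, Int.ofNat 1, Int.negSucc 0, Int.ofNat 1, Int.negSucc 0, Int.ofNat 1, Int.negSucc 0, Int.ofNat 1, Int.ofNat 3, Int.negSucc 0, Int.negSucc 0, Int.ofNat 1, Int.negSucc 0],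
  [Int.negSucc 0, Int.ofNat 1, Int.negSucc 0, Int.ofNat 1, Int.negSucc 0, Int.negSucc 0, Int.negSucc 0, Int.negSucc 0, Int.negSucc 0, Int.ofNat 1, Int.ofNat 1, Int.negSucc 0, Int.ofNat 1, Int.negSucc 0, Int.ofNat 1, Int.negSucc 0, Int.ofNat 1, Int.negSucc 0, Int.ofNat 1, Int.ofNat 1, Int.negSucc 0, Int.negSucc 2, Int.ofNat 1, Int.ofNat 1],
  [Int.ofNat 1, Int.negSucc 0, Int.negSucc 0, Int.negSucc 0, Int.negSucc 0, Int.negSucc 0, Int.ofNat 1, Int.ofNat 1, Int.negSucc 0, Int.ofNat 1, Int.negSucc 0, Int.ofNat 1, Int.negSucc 0, Int.ofNat 1, Int.negSucc 0, Int.ofNat 1, Int.ofNat 1, Int.negSucc 0, Int.negSucc 2, Int.ofNat 1, Int.negSucc 0, Int.ofNat 1, Int.negSucc 0, Int.ofNat 1],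
  [Int.negSucc 0, Int.ofNat 1, Int.ofNat 1, Int.ofNat 1, Int.negSucc 0, Int.ofNat 1, Int.negSucc 0, Int.negSucc 0, Int.ofNat 1, Int.ofNat 1, Int.negSucc 0, Int.ofNat 3, Int.ofNat 1, Int.ofNat 1, Int.ofNat 1, Int.ofNat 1, Int.ofNat 1, Int.ofNat 1, Int.negSucc 0, Int.negSucc 0, Int.negSucc 0, Int.negSucc 0, Int.negSucc 0, Int.negSucc 0],
  [Int.negSucc 0, Int.negSucc 0, Int.negSucc 0, Int.ofNat 1, Int.negSucc 0, Int.negSucc 0, Int.ofNat 1, Int.negSucc 0, Int.ofNat 1, Int.ofNat 1, Int.negSucc 0, Int.ofNat 1, Int.ofNat 1, Int.ofNat 1, Int.negSucc 0, Int.ofNat 1, Int.ofNat 1, Int.ofNat 1, Int.ofNat 1, Int.ofNat 3, Int.negSucc 0, Int.ofNat 1, Int.negSucc 0, Int.negSucc 0],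
  [Int.negSucc 0, Int.negSucc 0, Int.negSucc 0, Int.ofNat 1, Int.negSucc 0, Int.negSucc 0, Int.negSucc 0, Int.negSucc 2, Int.negSucc 0, Int.ofNat 1, Int.negSucc 0, Int.negSucc 0, Int.negSucc 0, Int.ofNat 1, Int.negSucc 0, Int.ofNat 1, Int.ofNat 1, Int.ofNat 1, Int.negSucc 0, Int.ofNat 1, Int.negSucc 0, Int.negSucc 0, Int.negSucc 0, Int.negSucc 0],
  [Int.negSucc 0, Int.negSucc 0, Int.ofNat 1, Int.ofNat 1, Int.negSucc 0, Int.ofNat 1, Int.ofNat 1, Int.negSucc 2, Int.negSucc 0, Int.negSucc 0, Int.ofNat 1, Int.negSucc 0, Int.negSucc 0, Int.ofNat 1, Int.negSucc 0, Int.negSucc 0, Int.ofNat 1, Int.ofNat 1, Int.ofNat 1, Int.ofNat 1, Int.negSucc 0, Int.negSucc 0, Int.ofNat 1, Int.negSucc 0],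
  [Int.ofNat 1, Int.negSucc 0, Int.ofNat 1, Int.negSucc 2, Int.negSucc 0, Int.negSucc 0, Int.negSucc 0, Int.ofNat 1, Int.ofNat 1, Int.ofNat 1, Int.negSucc 0, Int.negSucc 0, Int.negSucc 0, Int.ofNat 1, Int.ofNat 1, Int.ofNat 1, Int.ofNat 1, Int.negSucc 0, Int.ofNat 1, Int.negSucc 0, Int.negSucc 0, Int.ofNat 1, Int.negSucc 0, Int.negSucc 0],
  [Int.ofNat 1, Int.negSucc 0, Int.negSucc 0, Int.negSucc 2, Int.negSucc 0, Int.ofNat 1, Int.ofNat 1, Int.ofNat 1, Int.ofNat 1, Int.negSucc 0, Int.ofNat 1, Int.negSucc 0, Int.negSucc 0, Int.ofNat 1, Int.ofNat 1, Int.negSucc 0, Int.ofNat 1, Int.negSucc 0, Int.negSucc 0, Int.negSucc 0, Int.negSucc 0, Int.ofNat 1, Int.ofNat 1, Int.negSucc 0],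
  [Int.negSucc 1, Int.ofNat 0, Int.ofNat 0, Int.negSucc 1, Int.negSucc 1, Int.ofNat 2, Int.ofNat 0, Int.ofNat 0, Int.ofNat 2, Int.ofNat 0, Int.ofNat 2, Int.ofNat 0, Int.ofNat 0, Int.ofNat 0, Int.ofNat 2, Int.ofNat 0, Int.ofNat 0, Int.ofNat 0, Int.ofNat 0, Int.negSucc 1, Int.ofNat 0, Int.ofNat 0, Int.ofNat 0, Int.ofNat 0],
  [Int.negSucc 1, Int.ofNat 0, Int.ofNat 0, Int.negSucc 1, Int.ofNat 0, Int.ofNat 0, Int.ofNat 0, Int.ofNat 2, Int.ofNat 0, Int.ofNat 0, Int.ofNat 0, Int.negSucc 1, Int.ofNat 2, Int.ofNat 0, Int.ofNat 0, Int.ofNat 0, Int.ofNat 0, Int.ofNat 0, Int.negSucc 1, Int.ofNat 0, Int.ofNat 2, Int.ofNat 0, Int.ofNat 2, Int.ofNat 0],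
  [Int.ofNat 1, Int.negSucc 0, Int.negSucc 0, Int.negSucc 0, Int.negSucc 0, Int.ofNat 1, Int.negSucc 0, Int.ofNat 1, Int.ofNat 1, Int.negSucc 0, Int.negSucc 0, Int.negSucc 0, Int.ofNat 3, Int.negSucc 0, Int.ofNat 1, Int.negSucc 0, Int.negSucc 0, Int.ofNat 1, Int.negSucc 0, Int.negSucc 0, Int.ofNat 1, Int.negSucc 0, Int.ofNat 1, Int.negSucc 0],
  [Int.ofNat 1, Int.negSucc 0, Int.ofNat 1, Int.ofNat 1, Int.negSucc 0, Int.negSucc 0, Int.negSucc 0, Int.negSucc 0, Int.ofNat 1, Int.negSucc 0, Int.ofNat 1, Int.ofNat 1, Int.negSucc 0, Int.negSucc 0, Int.negSucc 0, Int.ofNat 3, Int.negSucc 0, Int.ofNat 1, Int.negSucc 0, Int.negSucc 0, Int.ofNat 1, Int.negSucc 0, Int.negSucc 0, Int.negSucc 0],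
  [Int.negSucc 0, Int.ofNat 1, Int.negSucc 0, Int.ofNat 1, Int.ofNat 1, Int.negSucc 0, Int.ofNat 1, Int.ofNat 1, Int.ofNat 1, Int.negSucc 2, Int.negSucc 0, Int.ofNat 1, Int.negSucc 0, Int.ofNat 1, Int.negSucc 0, Int.ofNat 1, Int.ofNat 1, Int.ofNat 1, Int.negSucc 0, Int.ofNat 1, Int.negSucc 0, Int.ofNat 1, Int.ofNat 1, Int.ofNat 1],
  [Int.ofNat 1, Int.negSucc 0, Int.ofNat 1, Int.ofNat 1, Int.negSucc 0, Int.ofNat 1, Int.ofNat 1, Int.ofNat 1, Int.negSucc 2, Int.negSucc 0, Int.ofNat 1, Int.negSucc 0, Int.ofNat 1, Int.negSucc 0, Int.ofNat 1, Int.ofNat 1, Int.ofNat 1, Int.negSucc 0, Int.ofNat 1, Int.negSucc 0, Int.ofNat 1, Int.ofNat 1, Int.negSucc 0, Int.ofNat 1],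
  [Int.negSucc 0, Int.negSucc 0, Int.negSucc 0, Int.ofNat 1, Int.negSucc 0, Int.ofNat 1, Int.ofNat 1, Int.negSucc 0, Int.negSucc 2, Int.ofNat 1, Int.negSucc 0, Int.ofNat 1, Int.ofNat 1, Int.negSucc 0, Int.ofNat 1, Int.ofNat 1, Int.ofNat 1, Int.negSucc 0, Int.negSucc 0, Int.negSucc 0, Int.ofNat 1, Int.negSucc 0, Int.negSucc 0, Int.ofNat 1],
  [Int.ofNat 1, Int.ofNat 1, Int.ofNat 1, Int.negSucc 0, Int.ofNat 1, Int.ofNat 1, Int.negSucc 0, Int.negSucc 0, Int.ofNat 3, Int.negSucc 0, Int.negSucc 0, Int.ofNat 1, Int.negSucc 0, Int.ofNat 1, Int.ofNat 1, Int.ofNat 1, Int.negSucc 0, Int.negSucc 0, Int.ofNat 1, Int.negSucc 0, Int.ofNat 1, Int.negSucc 0, Int.negSucc 0, Int.ofNat 1],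
  [Int.ofNat 1, Int.ofNat 1, Int.ofNat 1, Int.negSucc 0, Int.ofNat 1, Int.negSucc 0, Int.ofNat 1, Int.ofNat 1, Int.negSucc 0, Int.negSucc 0, Int.negSucc 0, Int.ofNat 1, Int.ofNat 1, Int.ofNat 3, Int.negSucc 0, Int.ofNat 1, Int.negSucc 0, Int.negSucc 0, Int.negSucc 0, Int.negSucc 0, Int.ofNat 1, Int.negSucc 0, Int.ofNat 1, Int.ofNat 1],
  [Int.negSucc 0, Int.ofNat 1, Int.negSucc 0, Int.negSucc 0, Int.ofNat 1, Int.negSucc 0, Int.ofNat 1, Int.negSucc 0, Int.negSucc 0, Int.ofNat 1, Int.ofNat 1, Int.negSucc 0, Int.ofNat 1, Int.ofNat 3, Int.negSucc 0, Int.ofNat 1, Int.negSucc 0, Int.negSucc 0, Int.ofNat 1, Int.negSucc 0, Int.ofNat 1, Int.ofNat 1, Int.ofNat 1, Int.ofNat 1],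
  [Int.ofNat 1, Int.negSucc 0, Int.ofNat 1, Int.negSucc 0, Int.negSucc 0, Int.ofNat 1, Int.negSucc 0, Int.ofNat 1, Int.negSucc 0, Int.negSucc 0, Int.ofNat 1, Int.ofNat 1, Int.negSucc 0, Int.ofNat 1, Int.ofNat 3, Int.negSucc 0, Int.ofNat 1, Int.negSucc 0, Int.negSucc 0, Int.ofNat 1, Int.negSucc 0, Int.ofNat 1, Int.ofNat 1, Int.ofNat 1],
  [Int.ofNat 0, Int.ofNat 2, Int.ofNat 0, Int.negSucc 1, Int.negSucc 1, Int.ofNat 0, Int.negSucc 1, Int.ofNat 0, Int.ofNat 0, Int.ofNat 0, Int.ofNat 2, Int.ofNat 2, Int.ofNat 0, Int.ofNat 0, Int.ofNat 2, Int.ofNat 0, Int.ofNat 0, Int.negSucc 1, Int.ofNat 0, Int.ofNat 0, Int.ofNat 0, Int.ofNat 0, Int.ofNat 0, Int.ofNat 0],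
  [Int.negSucc 1, Int.negSucc 1, Int.ofNat 0, Int.negSucc 1, Int.ofNat 0, Int.ofNat 0, Int.ofNat 0, Int.ofNat 2, Int.ofNat 2, Int.ofNat 0, Int.ofNat 0, Int.ofNat 2, Int.ofNat 0, Int.ofNat 0, Int.negSucc 1, Int.ofNat 0, Int.ofNat 0, Int.ofNat 0, Int.ofNat 0, Int.ofNat 0, Int.ofNat 0, Int.ofNat 2, Int.ofNat 0, Int.ofNat 0],
  [Int.ofNat 0, Int.ofNat 0, Int.negSucc 1, Int.ofNat 0, Int.ofNat 0, Int.ofNat 2, Int.negSucc 1, Int.ofNat 0, Int.ofNat 0, Int.ofNat 0, Int.ofNat 0, Int.ofNat 0, Int.negSucc 1, Int.ofNat 0, Int.ofNat 0, Int.ofNat 0, Int.ofNat 0, Int.ofNat 2, Int.negSucc 1, Int.negSucc 1, Int.ofNat 0, Int.ofNat 0, Int.ofNat 0, Int.negSucc 1],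
  [Int.ofNat 0, Int.negSucc 1, Int.ofNat 0, Int.ofNat 0, Int.negSucc 1, Int.ofNat 0, Int.negSucc 1, Int.ofNat 0, Int.negSucc 1, Int.ofNat 0, Int.ofNat 0, Int.ofNat 2, Int.ofNat 0, Int.ofNat 0, Int.ofNat 0, Int.ofNat 0, Int.ofNat 0, Int.ofNat 0, Int.ofNat 0, Int.ofNat 0, Int.ofNat 0, Int.ofNat 2, Int.negSucc 1, Int.negSucc 1],
  [Int.negSucc 1, Int.ofNat 0, Int.negSucc 1, Int.ofNat 0, Int.ofNat 0, Int.ofNat 0, Int.negSucc 1, Int.ofNat 0, Int.negSucc 1, Int.ofNat 0, Int.ofNat 0, Int.ofNat 2, Int.ofNat 0, Int.ofNat 2, Int.ofNat 0, Int.ofNat 0, Int.ofNat 2, Int.ofNat 0, Int.ofNat 0, Int.ofNat 0, Int.ofNat 0, Int.ofNat 2, Int.ofNat 0, Int.ofNat 0],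
  [Int.negSucc 1, Int.ofNat 0, Int.ofNat 2, Int.ofNat 0, Int.ofNat 0, Int.ofNat 0, Int.ofNat 2, Int.ofNat 0, Int.negSucc 1, Int.ofNat 0, Int.ofNat 0, Int.ofNat 2, Int.ofNat 0, Int.ofNat 2, Int.ofNat 0, Int.ofNat 0, Int.ofNat 2, Int.ofNat 0, Int.ofNat 0, Int.ofNat 0, Int.ofNat 0, Int.ofNat 2, Int.ofNat 0, Int.ofNat 0],
  [Int.ofNat 0, Int.ofNat 2, Int.ofNat 2, Int.negSucc 1, Int.ofNat 0, Int.ofNat 2, Int.ofNat 2, Int.ofNat 0, Int.ofNat 0, Int.ofNat 0, Int.ofNat 2, Int.ofNat 0, Int.ofNat 0, Int.ofNat 0, Int.ofNat 0, Int.ofNat 0, Int.ofNat 0, Int.ofNat 0, Int.ofNat 0, Int.ofNat 2, Int.negSucc 1, Int.ofNat 0, Int.ofNat 0, Int.ofNat 0],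
  [Int.ofNat 0, Int.ofNat 0, Int.ofNat 0, Int.ofNat 0, Int.ofNat 0, Int.ofNat 0, Int.ofNat 2, Int.ofNat 0, Int.negSucc 1, Int.ofNat 2, Int.ofNat 0, Int.ofNat 2, Int.ofNat 0, Int.ofNat 0, Int.ofNat 0, Int.negSucc 1, Int.ofNat 2, Int.ofNat 0, Int.ofNat 0, Int.ofNat 2, Int.ofNat 0, Int.ofNat 0, Int.ofNat 2, Int.ofNat 0],
  [Int.ofNat 0, Int.ofNat 0, Int.ofNat 0, Int.ofNat 0, Int.ofNat 0, Int.ofNat 0, Int.ofNat 2, Int.ofNat 0, Int.negSucc 1, Int.negSucc 1, Int.ofNat 0, Int.negSucc 1, Int.ofNat 0, Int.ofNat 0, Int.ofNat 0, Int.negSucc 1, Int.ofNat 2, Int.ofNat 0, Int.ofNat 0, Int.ofNat 2, Int.ofNat 0, Int.ofNat 0, Int.ofNat 2, Int.ofNat 0],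
  [Int.ofNat 2, Int.ofNat 0, Int.ofNat 0, Int.ofNat 0, Int.ofNat 0, Int.ofNat 0, Int.ofNat 0, Int.ofNat 2, Int.ofNat 0, Int.negSucc 1, Int.negSucc 1, Int.ofNat 0, Int.negSucc 1, Int.ofNat 0, Int.ofNat 0, Int.ofNat 0, Int.negSucc 1, Int.ofNat 2, Int.ofNat 0, Int.ofNat 0, Int.ofNat 2, Int.ofNat 0, Int.ofNat 0, Int.ofNat 0],
  [Int.negSucc 0, Int.ofNat 1, Int.ofNat 1, Int.negSucc 0, Int.ofNat 1, Int.negSucc 0, Int.negSucc 0, Int.ofNat 1, Int.ofNat 1, Int.negSucc 0, Int.negSucc 0, Int.ofNat 1, Int.negSucc 0, Int.ofNat 1, Int.negSucc 0, Int.ofNat 1, Int.negSucc 0, Int.ofNat 1, Int.ofNat 1, Int.negSucc 0, Int.ofNat 3, Int.negSucc 0, Int.ofNat 1, Int.ofNat 1],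
  [Int.negSucc 0, Int.ofNat 1, Int.negSucc 0, Int.negSucc 0, Int.ofNat 1, Int.ofNat 1, Int.negSucc 0, Int.negSucc 0, Int.ofNat 1, Int.negSucc 0, Int.ofNat 1, Int.negSucc 0, Int.ofNat 1, Int.negSucc 0, Int.ofNat 1, Int.ofNat 1, Int.negSucc 0, Int.ofNat 3, Int.negSucc 0, Int.ofNat 1, Int.negSucc 0, Int.ofNat 1, Int.ofNat 1, Int.ofNat 1],
  [Int.ofNat 1, Int.negSucc 0, Int.ofNat 1, Int.negSucc 2, Int.ofNat 1, Int.negSucc 0, Int.negSucc 0, Int.negSucc 0, Int.ofNat 1, Int.negSucc 0, Int.ofNat 1, Int.negSucc 0, Int.ofNat 1, Int.negSucc 0, Int.negSucc 0, Int.ofNat 1, Int.negSucc 0, Int.ofNat 1, Int.negSucc 0, Int.ofNat 1, Int.negSucc 0, Int.ofNat 1, Int.ofNat 1, Int.negSucc 0],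
  [Int.ofNat 1, Int.negSucc 0, Int.ofNat 1, Int.negSucc 2, Int.negSucc 0, Int.negSucc 0, Int.ofNat 1, Int.ofNat 1, Int.ofNat 1, Int.negSucc 0, Int.negSucc 0, Int.ofNat 1, Int.negSucc 0, Int.negSucc 0, Int.ofNat 1, Int.ofNat 1, Int.ofNat 1, Int.negSucc 0, Int.negSucc 0, Int.negSucc 0, Int.ofNat 1, Int.negSucc 0, Int.ofNat 1, Int.negSucc 0],
  [Int.negSucc 0, Int.ofNat 1, Int.negSucc 0, Int.negSucc 0, Int.negSucc 0, Int.ofNat 1, Int.ofNat 1, Int.ofNat 1, Int.ofNat 1, Int.negSucc 0, Int.negSucc 0, Int.ofNat 1, Int.negSucc 0, Int.negSucc 0, Int.ofNat 3, Int.ofNat 1, Int.ofNat 1, Int.ofNat 1, Int.negSucc 0, Int.negSucc 0, Int.ofNat 1, Int.negSucc 0, Int.ofNat 1, Int.ofNat 1],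
  [Int.negSucc 0, Int.ofNat 1, Int.ofNat 1, Int.negSucc 0, Int.negSucc 0, Int.negSucc 0, Int.negSucc 0, Int.ofNat 1, Int.ofNat 1, Int.ofNat 1, Int.ofNat 1, Int.ofNat 1, Int.negSucc 0, Int.negSucc 0, Int.ofNat 3, Int.negSucc 0, Int.ofNat 1, Int.ofNat 1, Int.ofNat 1, Int.negSucc 0, Int.ofNat 1, Int.negSucc 0, Int.negSucc 0, Int.ofNat 1],
  [Int.ofNat 1, Int.ofNat 1, Int.ofNat 1, Int.ofNat 1, Int.negSucc 0, Int.negSucc 0, Int.ofNat 1, Int.ofNat 1, Int.negSucc 0, Int.negSucc 0, Int.ofNat 3, Int.negSucc 0, Int.ofNat 1, Int.ofNat 1, Int.negSucc 0, Int.negSucc 0, Int.negSucc 0, Int.ofNat 1, Int.ofNat 1, Int.negSucc 0, Int.negSucc 0, Int.negSucc 0, Int.ofNat 1, Int.ofNat 1],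
  [Int.ofNat 1, Int.ofNat 1, Int.negSucc 0, Int.ofNat 1, Int.negSucc 0, Int.ofNat 1, Int.negSucc 0, Int.ofNat 1, Int.negSucc 0, Int.ofNat 1, Int.negSucc 2, Int.negSucc 0, Int.ofNat 1, Int.ofNat 1, Int.negSucc 0, Int.ofNat 1, Int.negSucc 0, Int.ofNat 1, Int.negSucc 0, Int.negSucc 0, Int.negSucc 0, Int.negSucc 0, Int.negSucc 0, Int.ofNat 1],
  [Int.ofNat 0, Int.ofNat 0, Int.ofNat 2, Int.ofNat 0, Int.ofNat 0, Int.ofNat 0, Int.ofNat 0, Int.ofNat 2, Int.ofNat 0, Int.ofNat 2, Int.negSucc 1, Int.ofNat 0, Int.ofNat 2, Int.ofNat 2, Int.negSucc 1, Int.ofNat 2, Int.ofNat 0, Int.ofNat 0, Int.ofNat 0, Int.ofNat 0, Int.ofNat 0, Int.ofNat 0, Int.ofNat 0, Int.ofNat 0],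
  [Int.ofNat 0, Int.ofNat 0, Int.ofNat 0, Int.ofNat 0, Int.ofNat 2, Int.ofNat 0, Int.ofNat 0, Int.ofNat 0, Int.ofNat 0, Int.ofNat 2, Int.ofNat 2, Int.ofNat 0, Int.ofNat 0, Int.ofNat 2, Int.ofNat 0, Int.ofNat 2, Int.ofNat 2, Int.ofNat 0, Int.ofNat 0, Int.ofNat 0, Int.negSucc 1, Int.ofNat 0, Int.negSucc 1, Int.ofNat 0],
  [Int.ofNat 0, Int.ofNat 0, Int.ofNat 0, Int.ofNat 0, Int.ofNat 0, Int.ofNat 0, Int.ofNat 0, Int.ofNat 0, Int.ofNat 0, Int.ofNat 0, Int.ofNat 0, Int.ofNat 0, Int.ofNat 0, Int.ofNat 0, Int.ofNat 0, Int.ofNat 0, Int.ofNat 0, Int.ofNat 0, Int.ofNat 0, Int.ofNat 0, Int.negSucc 3, Int.ofNat 0, Int.negSucc 3, Int.ofNat 0],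
  [Int.negSucc 3, Int.ofNat 0, Int.negSucc 3, Int.ofNat 0, Int.ofNat 0, Int.ofNat 0, Int.ofNat 0, Int.ofNat 0, Int.ofNat 0, Int.ofNat 0, Int.ofNat 0, Int.ofNat 0, Int.ofNat 0, Int.ofNat 0, Int.ofNat 0, Int.ofNat 0, Int.ofNat 0, Int.ofNat 0, Int.ofNat 0, Int.ofNat 0, Int.ofNat 0, Int.ofNat 0, Int.ofNat 0, Int.ofNat 0],
  [Int.ofNat 0, Int.negSucc 3, Int.ofNat 0, Int.ofNat 0, Int.ofNat 0, Int.ofNat 0, Int.ofNat 0, Int.ofNat 0, Int.ofNat 0, Int.ofNat 0, Int.ofNat 0, Int.ofNat 0, Int.ofNat 0, Int.ofNat 0, Int.ofNat 0, Int.ofNat 0, Int.ofNat 0, Int.ofNat 0, Int.ofNat 0, Int.ofNat 0, Int.ofNat 0, Int.ofNat 0, Int.ofNat 0, Int.negSucc 3],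
  [Int.negSucc 3, Int.ofNat 0, Int.ofNat 0, Int.ofNat 0, Int.ofNat 0, Int.ofNat 0, Int.ofNat 0, Int.ofNat 0, Int.ofNat 0, Int.ofNat 0, Int.ofNat 0, Int.ofNat 0, Int.ofNat 0, Int.ofNat 0, Int.ofNat 0, Int.ofNat 0, Int.ofNat 0, Int.ofNat 0, Int.ofNat 0, Int.ofNat 0, Int.ofNat 0, Int.ofNat 0, Int.ofNat 0, Int.negSucc 3],
  [Int.ofNat 4, Int.ofNat 0, Int.ofNat 0, Int.ofNat 0, Int.ofNat 0, Int.ofNat 0, Int.ofNat 0, Int.ofNat 0, Int.ofNat 0, Int.ofNat 0, Int.ofNat 0, Int.ofNat 0, Int.ofNat 0, Int.ofNat 0, Int.ofNat 0, Int.ofNat 0, Int.ofNat 0, Int.ofNat 0, Int.ofNat 0, Int.ofNat 0, Int.ofNat 0, Int.ofNat 0, Int.ofNat 0, Int.negSucc 3],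
  [Int.negSucc 3, Int.ofNat 0, Int.ofNat 0, Int.ofNat 0, Int.ofNat 0, Int.ofNat 0, Int.ofNat 0, Int.ofNat 0, Int.ofNat 0, Int.ofNat 0, Int.ofNat 0, Int.ofNat 0, Int.ofNat 0, Int.ofNat 0, Int.ofNat 0, Int.ofNat 0, Int.ofNat 0, Int.ofNat 0, Int.ofNat 0, Int.ofNat 0, Int.ofNat 0, Int.ofNat 0, Int.ofNat 0, Int.negSucc 3],
  [Int.negSucc 3, Int.ofNat 0, Int.ofNat 0, Int.ofNat 0, Int.ofNat 0, Int.ofNat 0, Int.ofNat 0, Int.ofNat 0, Int.ofNat 0, Int.ofNat 0, Int.ofNat 0, Int.ofNat 0, Int.ofNat 0, Int.ofNat 0, Int.ofNat 0, Int.ofNat 0, Int.ofNat 0, Int.ofNat 0, Int.ofNat 0, Int.ofNat 0, Int.ofNat 0, Int.ofNat 0, Int.ofNat 0, Int.negSucc 3],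
  [Int.ofNat 4, Int.ofNat 0, Int.ofNat 0, Int.ofNat 0, Int.ofNat 0, Int.ofNat 0, Int.ofNat 0, Int.ofNat 0, Int.ofNat 0, Int.ofNat 0, Int.ofNat 0, Int.ofNat 0, Int.ofNat 0, Int.ofNat 0, Int.ofNat 0, Int.ofNat 0, Int.ofNat 0, Int.ofNat 0, Int.ofNat 0, Int.ofNat 0, Int.ofNat 0, Int.ofNat 0, Int.ofNat 0, Int.negSucc 3],
  [Int.ofNat 0, Int.ofNat 4, Int.ofNat 0, Int.ofNat 0, Int.ofNat 0, Int.ofNat 0, Int.ofNat 0, Int.ofNat 0, Int.ofNat 0, Int.ofNat 0, Int.ofNat 0, Int.ofNat 0, Int.ofNat 0, Int.ofNat 0, Int.ofNat 0, Int.ofNat 0, Int.ofNat 0, Int.ofNat 0, Int.ofNat 0, Int.ofNat 0, Int.ofNat 0, Int.ofNat 0, Int.ofNat 0, Int.negSucc 3],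
  [Int.ofNat 0, Int.negSucc 3, Int.ofNat 0, Int.ofNat 0, Int.ofNat 0, Int.ofNat 0, Int.ofNat 0, Int.ofNat 0, Int.ofNat 0, Int.ofNat 0, Int.ofNat 0, Int.ofNat 0, Int.ofNat 0, Int.ofNat 0, Int.ofNat 0, Int.ofNat 0, Int.ofNat 0, Int.ofNat 0, Int.ofNat 0, Int.ofNat 0, Int.ofNat 0, Int.ofNat 0, Int.ofNat 0, Int.ofNat 4],
  [Int.ofNat 0, Int.ofNat 0, Int.ofNat 0, Int.ofNat 0, Int.ofNat 0, Int.ofNat 0, Int.ofNat 0, Int.ofNat 0, Int.ofNat 0, Int.ofNat 0, Int.ofNat 0, Int.ofNat 0, Int.ofNat 0, Int.ofNat 0, Int.ofNat 0, Int.ofNat 0, Int.ofNat 0, Int.ofNat 0, Int.ofNat 0, Int.ofNat 0, Int.ofNat 0, Int.negSucc 3, Int.ofNat 0, Int.ofNat 4],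
  [Int.ofNat 2, Int.ofNat 2, Int.ofNat 2, Int.ofNat 0, Int.ofNat 0, Int.ofNat 0, Int.ofNat 2, Int.ofNat 2, Int.ofNat 0, Int.ofNat 0, Int.ofNat 0, Int.ofNat 0, Int.ofNat 0, Int.ofNat 0, Int.ofNat 0, Int.ofNat 0, Int.ofNat 0, Int.ofNat 0, Int.ofNat 0, Int.ofNat 2, Int.ofNat 0, Int.negSucc 1, Int.ofNat 0, Int.negSucc 1],
  [Int.ofNat 2, Int.ofNat 2, Int.ofNat 0, Int.ofNat 0, Int.ofNat 0, Int.ofNat 2, Int.ofNat 2, Int.ofNat 0, Int.ofNat 0, Int.ofNat 0, Int.ofNat 0, Int.ofNat 0, Int.ofNat 0, Int.ofNat 0, Int.ofNat 0, Int.ofNat 0, Int.ofNat 0, Int.ofNat 0, Int.ofNat 2, Int.ofNat 0, Int.negSucc 1, Int.ofNat 0, Int.ofNat 2, Int.negSucc 1],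
  [Int.negSucc 0, Int.negSucc 0, Int.ofNat 1, Int.negSucc 0, Int.negSucc 0, Int.ofNat 1, Int.ofNat 1, Int.negSucc 0, Int.negSucc 0, Int.ofNat 1, Int.ofNat 1, Int.negSucc 0, Int.negSucc 0, Int.negSucc 0, Int.negSucc 0, Int.ofNat 1, Int.negSucc 0, Int.negSucc 0, Int.ofNat 1, Int.negSucc 0, Int.negSucc 0, Int.negSucc 0, Int.ofNat 1, Int.ofNat 3],
  [Int.negSucc 0, Int.negSucc 0, Int.negSucc 0, Int.negSucc 0, Int.negSucc 0, Int.negSucc 0, Int.negSucc 0, Int.negSucc 0, Int.negSucc 0, Int.negSucc 0, Int.negSucc 0, Int.negSucc 0, Int.negSucc 0, Int.negSucc 0, Int.negSucc 0, Int.negSucc 0, Int.negSucc 0, Int.negSucc 0, Int.negSucc 0, Int.negSucc 0, Int.negSucc 0, Int.negSucc 0, Int.negSucc 0, Int.ofNat 3],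
  [Int.negSucc 0, Int.negSucc 0, Int.negSucc 0, Int.negSucc 0, Int.negSucc 0, Int.negSucc 0, Int.negSucc 0, Int.negSucc 0, Int.negSucc 0, Int.negSucc 0, Int.negSucc 0, Int.negSucc 0, Int.negSucc 0, Int.negSucc 0, Int.negSucc 0, Int.negSucc 0, Int.negSucc 0, Int.negSucc 0, Int.negSucc 0, Int.negSucc 0, Int.negSucc 0, Int.negSucc 0, Int.negSucc 0, Int.ofNat 3],
  [Int.ofNat 3, Int.negSucc 0, Int.negSucc 0, Int.negSucc 0, Int.negSucc 0, Int.negSucc 0, Int.negSucc 0, Int.negSucc 0, Int.negSucc 0, Int.negSucc 0, Int.negSucc 0, Int.negSucc 0, Int.negSucc 0, Int.negSucc 0, Int.negSucc 0, Int.negSucc 0, Int.negSucc 0, Int.negSucc 0, Int.negSucc 0, Int.negSucc 0, Int.negSucc 0, Int.negSucc 0, Int.negSucc 0, Int.negSucc 0],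
  [Int.negSucc 2, Int.negSucc 0, Int.ofNat 1, Int.negSucc 0, Int.negSucc 0, Int.negSucc 0, Int.negSucc 0, Int.ofNat 1, Int.negSucc 0, Int.ofNat 1, Int.ofNat 1, Int.ofNat 1, Int.negSucc 0, Int.negSucc 0, Int.negSucc 0, Int.negSucc 0, Int.negSucc 0, Int.negSucc 0, Int.ofNat 1, Int.negSucc 0, Int.negSucc 0, Int.ofNat 1, Int.negSucc 0, Int.negSucc 0],
  [Int.negSucc 0, Int.negSucc 2, Int.negSucc 0, Int.ofNat 1, Int.negSucc 0, Int.negSucc 0, Int.negSucc 0, Int.negSucc 0, Int.ofNat 1, Int.negSucc 0, Int.ofNat 1, Int.ofNat 1, Int.ofNat 1, Int.negSucc 0, Int.negSucc 0, Int.negSucc 0, Int.negSucc 0, Int.negSucc 0, Int.negSucc 0, Int.ofNat 1, Int.negSucc 0, Int.negSucc 0, Int.ofNat 1, Int.negSucc 0],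
  [Int.negSucc 1, Int.ofNat 0, Int.negSucc 1, Int.ofNat 2, Int.ofNat 0, Int.ofNat 0, Int.ofNat 0, Int.ofNat 0, Int.ofNat 0, Int.ofNat 0, Int.ofNat 2, Int.ofNat 0, Int.ofNat 0, Int.ofNat 0, Int.ofNat 0, Int.ofNat 0, Int.ofNat 0, Int.ofNat 0, Int.negSucc 1, Int.ofNat 2, Int.ofNat 0, Int.ofNat 0, Int.ofNat 2, Int.negSucc 1],
  [Int.ofNat 2, Int.ofNat 0, Int.ofNat 0, Int.ofNat 0, Int.ofNat 0, Int.ofNat 0, Int.ofNat 0, Int.ofNat 2, Int.ofNat 0, Int.ofNat 0, Int.ofNat 0, Int.ofNat 0, Int.ofNat 0, Int.ofNat 0, Int.ofNat 0, Int.negSucc 1, Int.ofNat 2, Int.ofNat 0, Int.ofNat 0, Int.ofNat 2, Int.negSucc 1, Int.ofNat 0, Int.negSucc 1, Int.negSucc 1],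
  [Int.negSucc 1, Int.ofNat 0, Int.ofNat 0, Int.ofNat 0, Int.ofNat 0, Int.ofNat 0, Int.negSucc 1, Int.ofNat 0, Int.ofNat 0, Int.ofNat 2, Int.ofNat 2, Int.ofNat 0, Int.ofNat 0, Int.ofNat 0, Int.ofNat 0, Int.ofNat 0, Int.ofNat 2, Int.ofNat 0, Int.ofNat 0, Int.ofNat 0, Int.ofNat 0, Int.negSucc 1, Int.negSucc 1, Int.ofNat 2],
  [Int.negSucc 1, Int.negSucc 1, Int.ofNat 0, Int.ofNat 0, Int.ofNat 0, Int.ofNat 0, Int.ofNat 0, Int.ofNat 2, Int.ofNat 0, Int.ofNat 0, Int.ofNat 0, Int.ofNat 0, Int.ofNat 2, Int.ofNat 2, Int.negSucc 1, Int.ofNat 0, Int.ofNat 0, Int.ofNat 0, Int.ofNat 0, Int.ofNat 0, Int.negSucc 1, Int.ofNat 0, Int.ofNat 0, Int.ofNat 2],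
  [Int.ofNat 1, Int.ofNat 1, Int.negSucc 0, Int.ofNat 1, Int.negSucc 0, Int.ofNat 1, Int.negSucc 0, Int.ofNat 1, Int.negSucc 0, Int.ofNat 1, Int.ofNat 1, Int.negSucc 0, Int.ofNat 1, Int.ofNat 1, Int.negSucc 0, Int.ofNat 1, Int.negSucc 0, Int.ofNat 1, Int.negSucc 0, Int.negSucc 0, Int.negSucc 0, Int.negSucc 0, Int.negSucc 0, Int.negSucc 2],
  [Int.ofNat 1, Int.ofNat 1, Int.ofNat 1, Int.ofNat 1, Int.negSucc 0, Int.negSucc 0, Int.ofNat 1, Int.ofNat 1, Int.negSucc 0, Int.negSucc 0, Int.negSucc 0, Int.negSucc 0, Int.ofNat 1, Int.ofNat 1, Int.negSucc 0, Int.negSucc 0, Int.negSucc 0, Int.ofNat 1, Int.ofNat 1, Int.negSucc 0, Int.negSucc 0, Int.negSucc 0, Int.ofNat 1, Int.negSucc 2],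
  [Int.negSucc 0, Int.negSucc 0, Int.negSucc 0, Int.ofNat 1, Int.ofNat 1, Int.negSucc 0, Int.negSucc 0, Int.ofNat 1, Int.ofNat 1, Int.ofNat 1, Int.negSucc 0, Int.negSucc 0, Int.ofNat 1, Int.ofNat 1, Int.negSucc 0, Int.negSucc 0, Int.ofNat 1, Int.negSucc 0, Int.ofNat 1, Int.ofNat 1, Int.negSucc 0, Int.ofNat 1, Int.negSucc 0, Int.negSucc 2],
  [Int.negSucc 0, Int.negSucc 0, Int.ofNat 1, Int.ofNat 1, Int.ofNat 1, Int.ofNat 1, Int.ofNat 1, Int.ofNat 1, Int.ofNat 1, Int.negSucc 0, Int.ofNat 1, Int.negSucc 0, Int.ofNat 1, Int.ofNat 1, Int.negSucc 0, Int.ofNat 1, Int.ofNat 1, Int.negSucc 0, Int.negSucc 0, Int.ofNat 1, Int.negSucc 0, Int.ofNat 1, Int.ofNat 1, Int.negSucc 2],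
  [Int.negSucc 0, Int.negSucc 0, Int.negSucc 2, Int.ofNat 1, Int.negSucc 0, Int.ofNat 1, Int.negSucc 0, Int.negSucc 0, Int.ofNat 1, Int.negSucc 0, Int.ofNat 1, Int.negSucc 0, Int.ofNat 1, Int.negSucc 0, Int.negSucc 0, Int.ofNat 1, Int.negSucc 0, Int.negSucc 0, Int.negSucc 0, Int.negSucc 0, Int.negSucc 0, Int.negSucc 0, Int.negSucc 0, Int.ofNat 1],
  [Int.negSucc 0, Int.negSucc 0, Int.negSucc 0, Int.ofNat 1, Int.negSucc 2, Int.negSucc 0, Int.negSucc 0, Int.ofNat 1, Int.negSucc 0, Int.ofNat 1, Int.negSucc 0, Int.negSucc 0, Int.ofNat 1, Int.negSucc 0, Int.negSucc 0, Int.ofNat 1, Int.negSucc 0, Int.negSucc 0, Int.negSucc 0, Int.negSucc 0, Int.ofNat 1, Int.negSucc 0, Int.negSucc 0, Int.ofNat 1],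
  [Int.ofNat 0, Int.ofNat 0, Int.ofNat 0, Int.ofNat 2, Int.ofNat 0, Int.ofNat 0, Int.ofNat 0, Int.ofNat 2, Int.ofNat 0, Int.ofNat 0, Int.negSucc 1, Int.ofNat 0, Int.ofNat 2, Int.ofNat 2, Int.ofNat 0, Int.ofNat 0, Int.ofNat 2, Int.ofNat 0, Int.ofNat 0, Int.ofNat 0, Int.ofNat 0, Int.ofNat 0, Int.ofNat 2, Int.negSucc 1],
  [Int.ofNat 0, Int.ofNat 0, Int.ofNat 2, Int.ofNat 0, Int.ofNat 0, Int.ofNat 0, Int.ofNat 2, Int.ofNat 0, Int.ofNat 0, Int.ofNat 0, Int.ofNat 2, Int.ofNat 0, Int.ofNat 0, Int.negSucc 1, Int.ofNat 0, Int.ofNat 2, Int.ofNat 2, Int.ofNat 0, Int.ofNat 0, Int.ofNat 2, Int.ofNat 0, Int.ofNat 0, Int.ofNat 0, Int.negSucc 1],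
  [Int.ofNat 0, Int.ofNat 0, Int.negSucc 1, Int.ofNat 0, Int.ofNat 0, Int.ofNat 0, Int.ofNat 0, Int.negSucc 1, Int.ofNat 0, Int.negSucc 1, Int.ofNat 0, Int.ofNat 0, Int.ofNat 0, Int.negSucc 1, Int.ofNat 0, Int.ofNat 0, Int.ofNat 2, Int.ofNat 0, Int.ofNat 0, Int.ofNat 0, Int.negSucc 1, Int.negSucc 1, Int.ofNat 0, Int.ofNat 2],
  [Int.ofNat 0, Int.negSucc 1, Int.ofNat 0, Int.ofNat 0, Int.ofNat 0, Int.ofNat 0, Int.negSucc 1, Int.ofNat 0, Int.negSucc 1, Int.ofNat 0, Int.ofNat 0, Int.ofNat 0, Int.negSucc 1, Int.ofNat 0, Int.ofNat 0, Int.ofNat 2, Int.ofNat 0, Int.ofNat 0, Int.ofNat 0, Int.negSucc 1, Int.negSucc 1, Int.ofNat 0, Int.ofNat 0, Int.ofNat 2],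
  [Int.ofNat 0, Int.negSucc 1, Int.ofNat 0, Int.ofNat 0, Int.ofNat 0, Int.ofNat 0, Int.negSucc 1, Int.ofNat 0, Int.negSucc 1, Int.ofNat 0, Int.ofNat 0, Int.ofNat 0, Int.negSucc 1, Int.ofNat 0, Int.ofNat 0, Int.ofNat 2, Int.ofNat 0, Int.ofNat 0, Int.ofNat 0, Int.negSucc 1, Int.negSucc 1, Int.ofNat 0, Int.ofNat 0, Int.ofNat 2],
  [Int.ofNat 0, Int.ofNat 2, Int.ofNat 0, Int.ofNat 0, Int.ofNat 0, Int.ofNat 0, Int.ofNat 2, Int.ofNat 0, Int.ofNat 2, Int.ofNat 0, Int.ofNat 0, Int.ofNat 0, Int.ofNat 2, Int.ofNat 0, Int.ofNat 0, Int.ofNat 2, Int.ofNat 0, Int.ofNat 0, Int.ofNat 0, Int.negSucc 1, Int.negSucc 1, Int.ofNat 0, Int.ofNat 0, Int.ofNat 2],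
  [Int.ofNat 0, Int.ofNat 0, Int.ofNat 0, Int.ofNat 0, Int.ofNat 2, Int.ofNat 0, Int.ofNat 0, Int.negSucc 1, Int.ofNat 0, Int.ofNat 0, Int.ofNat 0, Int.ofNat 0, Int.ofNat 0, Int.ofNat 2, Int.negSucc 1, Int.ofNat 2, Int.ofNat 2, Int.ofNat 0, Int.ofNat 2, Int.ofNat 0, Int.ofNat 0, Int.ofNat 0, Int.ofNat 0, Int.ofNat 2],
  [Int.ofNat 0, Int.ofNat 0, Int.ofNat 0, Int.ofNat 0, Int.ofNat 2, Int.ofNat 0, Int.ofNat 0, Int.ofNat 2, Int.ofNat 0, Int.ofNat 0, Int.ofNat 0, Int.ofNat 0, Int.ofNat 0, Int.ofNat 2, Int.negSucc 1, Int.ofNat 2, Int.ofNat 2, Int.ofNat 0, Int.negSucc 1, Int.ofNat 0, Int.ofNat 0, Int.ofNat 0, Int.ofNat 0, Int.ofNat 2],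
  [Int.ofNat 0, Int.ofNat 0, Int.ofNat 0, Int.ofNat 0, Int.ofNat 0, Int.ofNat 2, Int.ofNat 0, Int.ofNat 0, Int.ofNat 2, Int.ofNat 0, Int.ofNat 0, Int.ofNat 0, Int.ofNat 0, Int.ofNat 0, Int.ofNat 2, Int.negSucc 1, Int.ofNat 2, Int.ofNat 2, Int.ofNat 0, Int.negSucc 1, Int.ofNat 0, Int.ofNat 0, Int.ofNat 0, Int.ofNat 2],
  [Int.ofNat 1, Int.ofNat 1, Int.ofNat 1, Int.negSucc 2, Int.negSucc 0, Int.negSucc 0, Int.ofNat 1, Int.ofNat 1, Int.ofNat 1, Int.ofNat 1, Int.ofNat 1, Int.negSucc 0, Int.negSucc 0, Int.negSucc 0, Int.negSucc 0, Int.negSucc 0, Int.ofNat 1, Int.negSucc 0, Int.negSucc 0, Int.negSucc 0, Int.ofNat 1, Int.ofNat 1, Int.negSucc 0, Int.negSucc 0],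
  [Int.negSucc 2, Int.negSucc 0, Int.negSucc 0, Int.ofNat 1, Int.ofNat 1, Int.ofNat 1, Int.ofNat 1, Int.ofNat 1, Int.negSucc 0, Int.negSucc 0, Int.negSucc 0, Int.negSucc 0, Int.negSucc 0, Int.ofNat 1, Int.negSucc 0, Int.negSucc 0, Int.negSucc 0, Int.ofNat 1, Int.ofNat 1, Int.negSucc 0, Int.ofNat 1, Int.ofNat 1, Int.ofNat 1, Int.negSucc 0],
  [Int.ofNat 0, Int.negSucc 1, Int.negSucc 1, Int.ofNat 0, Int.ofNat 0, Int.ofNat 0, Int.ofNat 0, Int.ofNat 0, Int.ofNat 0, Int.ofNat 0, Int.ofNat 0, Int.ofNat 0, Int.ofNat 0, Int.ofNat 0, Int.negSucc 1, Int.ofNat 0, Int.negSucc 1, Int.ofNat 0, Int.ofNat 2, Int.negSucc 1, Int.ofNat 2, Int.ofNat 0, Int.ofNat 0, Int.negSucc 1],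
  [Int.ofNat 0, Int.ofNat 0, Int.ofNat 0, Int.ofNat 0, Int.ofNat 2, Int.ofNat 0, Int.negSucc 1, Int.ofNat 0, Int.ofNat 0, Int.ofNat 0, Int.ofNat 2, Int.ofNat 0, Int.ofNat 0, Int.negSucc 1, Int.ofNat 0, Int.ofNat 0, Int.ofNat 0, Int.negSucc 1, Int.negSucc 1, Int.ofNat 0, Int.ofNat 0, Int.ofNat 0, Int.negSucc 1, Int.negSucc 1],
  [Int.negSucc 0, Int.negSucc 0, Int.negSucc 0, Int.ofNat 1, Int.ofNat 3, Int.ofNat 1, Int.negSucc 0, Int.ofNat 1, Int.ofNat 1, Int.negSucc 0, Int.ofNat 1, Int.ofNat 1, Int.ofNat 1, Int.negSucc 0, Int.ofNat 1, Int.negSucc 0, Int.ofNat 1, Int.negSucc 0, Int.negSucc 0, Int.ofNat 1, Int.negSucc 0, Int.ofNat 1, Int.negSucc 0, Int.ofNat 1],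
  [Int.negSucc 0, Int.negSucc 0, Int.ofNat 1, Int.ofNat 1, Int.ofNat 3, Int.negSucc 0, Int.ofNat 1, Int.ofNat 1, Int.ofNat 1, Int.ofNat 1, Int.negSucc 0, Int.ofNat 1, Int.ofNat 1, Int.negSucc 0, Int.ofNat 1, Int.ofNat 1, Int.ofNat 1, Int.negSucc 0, Int.ofNat 1, Int.ofNat 1, Int.negSucc 0, Int.ofNat 1, Int.ofNat 1, Int.ofNat 1],
  [Int.negSucc 0, Int.ofNat 1, Int.ofNat 1, Int.ofNat 1, Int.ofNat 1, Int.ofNat 1, Int.ofNat 1, Int.ofNat 1, Int.negSucc 0, Int.negSucc 0, Int.negSucc 0, Int.ofNat 1, Int.ofNat 1, Int.ofNat 3, Int.negSucc 0, Int.ofNat 1, Int.ofNat 1, Int.ofNat 1, Int.ofNat 1, Int.ofNat 1, Int.negSucc 0, Int.negSucc 0, Int.ofNat 1, Int.ofNat 1],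
  [Int.ofNat 1, Int.ofNat 1, Int.ofNat 1, Int.ofNat 1, Int.ofNat 1, Int.negSucc 0, Int.ofNat 1, Int.ofNat 3, Int.negSucc 0, Int.ofNat 1, Int.ofNat 1, Int.ofNat 1, Int.negSucc 0, Int.ofNat 1, Int.ofNat 1, Int.ofNat 1, Int.negSucc 0, Int.ofNat 1, Int.negSucc 0, Int.ofNat 1, Int.negSucc 0, Int.ofNat 1, Int.ofNat 1, Int.negSucc 0],
  [Int.negSucc 0, Int.ofNat 1, Int.negSucc 0, Int.ofNat 1, Int.ofNat 1, Int.negSucc 0, Int.ofNat 1, Int.negSucc 2, Int.negSucc 0, Int.negSucc 0, Int.negSucc 0, Int.negSucc 0, Int.negSucc 0, Int.ofNat 1, Int.ofNat 1, Int.ofNat 1, Int.negSucc 0, Int.ofNat 1, Int.ofNat 1, Int.ofNat 1, Int.negSucc 0, Int.negSucc 0, Int.ofNat 1, Int.negSucc 0],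
  [Int.ofNat 1, Int.negSucc 0, Int.ofNat 1, Int.negSucc 0, Int.ofNat 1, Int.ofNat 1, Int.negSucc 0, Int.ofNat 1, Int.negSucc 2, Int.negSucc 0, Int.negSucc 0, Int.negSucc 0, Int.negSucc 0, Int.negSucc 0, Int.ofNat 1, Int.ofNat 1, Int.ofNat 1, Int.negSucc 0, Int.ofNat 1, Int.ofNat 1, Int.ofNat 1, Int.negSucc 0, Int.negSucc 0, Int.negSucc 0],
  [Int.negSucc 0, Int.ofNat 1, Int.negSucc 0, Int.negSucc 0, Int.ofNat 1, Int.ofNat 1, Int.negSucc 0, Int.ofNat 1, Int.negSucc 0, Int.negSucc 0, Int.negSucc 0, Int.ofNat 1, Int.ofNat 1, Int.negSucc 0, Int.ofNat 1, Int.ofNat 1, Int.ofNat 1, Int.negSucc 0, Int.ofNat 3, Int.ofNat 1, Int.ofNat 1, Int.negSucc 0, Int.negSucc 0, Int.ofNat 1],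
  [Int.negSucc 0, Int.ofNat 1, Int.ofNat 1, Int.negSucc 0, Int.ofNat 1, Int.negSucc 0, Int.negSucc 0, Int.negSucc 0, Int.ofNat 1, Int.ofNat 1, Int.negSucc 0, Int.ofNat 1, Int.ofNat 1, Int.ofNat 1, Int.negSucc 0, Int.ofNat 3, Int.ofNat 1, Int.ofNat 1, Int.negSucc 0, Int.negSucc 0, Int.negSucc 0, Int.ofNat 1, Int.negSucc 0, Int.ofNat 1],
  [Int.ofNat 2, Int.ofNat 0, Int.ofNat 0, Int.ofNat 0, Int.ofNat 0, Int.ofNat 0, Int.ofNat 0, Int.ofNat 0, Int.ofNat 0, Int.ofNat 0, Int.negSucc 1, Int.ofNat 0, Int.ofNat 0, Int.ofNat 0, Int.ofNat 0, Int.ofNat 2, Int.ofNat 0, Int.ofNat 2, Int.negSucc 1, Int.ofNat 0, Int.negSucc 1, Int.ofNat 2, Int.negSucc 1, Int.ofNat 0],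
  [Int.ofNat 2, Int.ofNat 0, Int.ofNat 0, Int.ofNat 0, Int.negSucc 1, Int.ofNat 0, Int.ofNat 0, Int.negSucc 1, Int.ofNat 0, Int.ofNat 0, Int.negSucc 1, Int.ofNat 2, Int.ofNat 0, Int.ofNat 0, Int.negSucc 1, Int.ofNat 2, Int.ofNat 0, Int.ofNat 0, Int.ofNat 0, Int.ofNat 0, Int.ofNat 2, Int.ofNat 0, Int.ofNat 0, Int.ofNat 0],
  [Int.negSucc 0, Int.ofNat 1, Int.ofNat 1, Int.ofNat 1, Int.negSucc 0, Int.ofNat 1, Int.ofNat 1, Int.negSucc 0, Int.negSucc 0, Int.negSucc 0, Int.negSucc 2, Int.ofNat 1, Int.negSucc 0, Int.ofNat 1, Int.negSucc 0, Int.ofNat 1, Int.ofNat 1, Int.ofNat 1, Int.negSucc 0, Int.ofNat 1, Int.ofNat 1, Int.ofNat 1, Int.ofNat 1, Int.ofNat 1],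
  [Int.negSucc 0, Int.ofNat 1, Int.negSucc 0, Int.ofNat 1, Int.negSucc 0, Int.negSucc 0, Int.negSucc 0, Int.negSucc 0, Int.negSucc 0, Int.ofNat 1, Int.ofNat 3, Int.ofNat 1, Int.negSucc 0, Int.ofNat 1, Int.negSucc 0, Int.negSucc 0, Int.ofNat 1, Int.ofNat 1, Int.ofNat 1, Int.ofNat 1, Int.ofNat 1, Int.ofNat 1, Int.negSucc 0, Int.ofNat 1],
  [Int.ofNat 1, Int.ofNat 1, Int.ofNat 3, Int.negSucc 0, Int.negSucc 0, Int.negSucc 0, Int.ofNat 1, Int.ofNat 1, Int.ofNat 1, Int.negSucc 0, Int.negSucc 0, Int.ofNat 1, Int.ofNat 1, Int.ofNat 1, Int.negSucc 0, Int.ofNat 1, Int.negSucc 0, Int.ofNat 1, Int.negSucc 0, Int.negSucc 0, Int.negSucc 0, Int.ofNat 1, Int.negSucc 0, Int.ofNat 1],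
  [Int.ofNat 1, Int.ofNat 1, Int.negSucc 2, Int.negSucc 0, Int.negSucc 0, Int.ofNat 1, Int.negSucc 0, Int.ofNat 1, Int.ofNat 1, Int.ofNat 1, Int.ofNat 1, Int.ofNat 1, Int.ofNat 1, Int.ofNat 1, Int.negSucc 0, Int.negSucc 0, Int.negSucc 0, Int.ofNat 1, Int.ofNat 1, Int.negSucc 0, Int.negSucc 0, Int.ofNat 1, Int.ofNat 1, Int.ofNat 1],
  [Int.negSucc 0, Int.negSucc 0, Int.ofNat 3, Int.negSucc 0, Int.negSucc 0, Int.ofNat 1, Int.negSucc 0, Int.ofNat 1, Int.negSucc 0, Int.ofNat 1, Int.ofNat 1, Int.negSucc 0, Int.negSucc 0, Int.ofNat 1, Int.negSucc 0, Int.negSucc 0, Int.negSucc 0, Int.ofNat 1, Int.negSucc 0, Int.negSucc 0, Int.negSucc 0, Int.ofNat 1, Int.ofNat 1, Int.negSucc 0],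
  [Int.negSucc 0, Int.negSucc 0, Int.negSucc 0, Int.negSucc 0, Int.ofNat 3, Int.ofNat 1, Int.negSucc 0, Int.ofNat 1, Int.negSucc 0, Int.negSucc 0, Int.ofNat 1, Int.negSucc 0, Int.negSucc 0, Int.ofNat 1, Int.ofNat 1, Int.negSucc 0, Int.ofNat 1, Int.negSucc 0, Int.negSucc 0, Int.ofNat 1, Int.ofNat 1, Int.negSucc 0, Int.negSucc 0, Int.negSucc 0],
  [Int.negSucc 0, Int.negSucc 0, Int.negSucc 0, Int.negSucc 0, Int.ofNat 1, Int.ofNat 1, Int.negSucc 0, Int.ofNat 1, Int.ofNat 1, Int.negSucc 0, Int.ofNat 1, Int.ofNat 1, Int.ofNat 1, Int.negSucc 0, Int.ofNat 1, Int.negSucc 0, Int.negSucc 0, Int.negSucc 0, Int.ofNat 1, Int.ofNat 1, Int.ofNat 1, Int.negSucc 0, Int.negSucc 2, Int.negSucc 0],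
  [Int.ofNat 1, Int.negSucc 0, Int.negSucc 2, Int.negSucc 0, Int.negSucc 0, Int.negSucc 0, Int.negSucc 0, Int.ofNat 1, Int.ofNat 1, Int.negSucc 0, Int.ofNat 1, Int.ofNat 1, Int.negSucc 0, Int.ofNat 1, Int.ofNat 1, Int.ofNat 1, Int.negSucc 0, Int.ofNat 1, Int.negSucc 0, Int.negSucc 0, Int.negSucc 0, Int.ofNat 1, Int.ofNat 1, Int.negSucc 0],
  [Int.negSucc 2, Int.negSucc 0, Int.ofNat 1, Int.negSucc 0, Int.negSucc 0, Int.negSucc 0, Int.negSucc 0, Int.ofNat 1, Int.ofNat 1, Int.negSucc 0, Int.ofNat 1, Int.ofNat 1, Int.negSucc 0, Int.ofNat 1, Int.ofNat 1, Int.ofNat 1, Int.negSucc 0, Int.ofNat 1, Int.negSucc 0, Int.negSucc 0, Int.negSucc 0, Int.ofNat 1, Int.ofNat 1, Int.negSucc 0],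
  [Int.negSucc 0, Int.ofNat 1, Int.negSucc 0, Int.negSucc 0, Int.negSucc 0, Int.negSucc 0, Int.ofNat 1, Int.ofNat 1, Int.negSucc 0, Int.ofNat 1, Int.ofNat 1, Int.negSucc 0, Int.ofNat 1, Int.ofNat 1, Int.ofNat 1, Int.negSucc 0, Int.ofNat 1, Int.negSucc 0, Int.negSucc 0, Int.negSucc 0, Int.ofNat 1, Int.ofNat 1, Int.negSucc 2, Int.negSucc 0],
  [Int.ofNat 1, Int.ofNat 1, Int.ofNat 1, Int.negSucc 0, Int.negSucc 0, Int.negSucc 0, Int.ofNat 1, Int.negSucc 0, Int.negSucc 0, Int.negSucc 0, Int.negSucc 0, Int.ofNat 1, Int.ofNat 1, Int.ofNat 1, Int.ofNat 1, Int.negSucc 0, Int.ofNat 1, Int.negSucc 0, Int.ofNat 1, Int.negSucc 0, Int.ofNat 1, Int.negSucc 0, Int.negSucc 2, Int.negSucc 0],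
  [Int.negSucc 0, Int.negSucc 0, Int.negSucc 0, Int.ofNat 1, Int.ofNat 1, Int.negSucc 0, Int.negSucc 0, Int.negSucc 0, Int.ofNat 1, Int.ofNat 1, Int.negSucc 0, Int.ofNat 1, Int.negSucc 0, Int.negSucc 0, Int.ofNat 1, Int.negSucc 0, Int.negSucc 0, Int.negSucc 0, Int.negSucc 0, Int.negSucc 0, Int.ofNat 1, Int.negSucc 0, Int.negSucc 2, Int.negSucc 0],
  [Int.negSucc 0, Int.negSucc 0, Int.negSucc 0, Int.ofNat 1, Int.negSucc 0, Int.negSucc 0, Int.ofNat 1, Int.ofNat 1, Int.ofNat 1, Int.negSucc 0, Int.negSucc 0, Int.ofNat 1, Int.negSucc 0, Int.ofNat 1, Int.negSucc 0, Int.negSucc 0, Int.negSucc 0, Int.negSucc 2, Int.negSucc 0, Int.negSucc 0, Int.negSucc 0, Int.negSucc 0, Int.ofNat 1, Int.negSucc 0],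
  [Int.ofNat 1, Int.negSucc 0, Int.ofNat 1, Int.ofNat 1, Int.negSucc 0, Int.negSucc 0, Int.ofNat 1, Int.negSucc 0, Int.ofNat 1, Int.ofNat 1, Int.ofNat 1, Int.negSucc 0, Int.negSucc 0, Int.ofNat 1, Int.negSucc 0, Int.negSucc 0, Int.negSucc 0, Int.negSucc 2, Int.ofNat 1, Int.negSucc 0, Int.negSucc 0, Int.ofNat 1, Int.ofNat 1, Int.negSucc 0],
  [Int.ofNat 1, Int.ofNat 1, Int.negSucc 0, Int.ofNat 1, Int.ofNat 1, Int.negSucc 0, Int.negSucc 0, Int.ofNat 1, Int.negSucc 0, Int.ofNat 1, Int.ofNat 1, Int.ofNat 1, Int.negSucc 0, Int.negSucc 0, Int.ofNat 1, Int.negSucc 0, Int.negSucc 0, Int.negSucc 0, Int.negSucc 2, Int.ofNat 1, Int.negSucc 0, Int.negSucc 0, Int.ofNat 1, Int.negSucc 0],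
  [Int.negSucc 0, Int.negSucc 0, Int.ofNat 1, Int.ofNat 1, Int.ofNat 1, Int.negSucc 0, Int.negSucc 0, Int.ofNat 1, Int.ofNat 1, Int.ofNat 1, Int.ofNat 1, Int.ofNat 3, Int.ofNat 1, Int.negSucc 0, Int.ofNat 1, Int.negSucc 0, Int.negSucc 0, Int.negSucc 0, Int.negSucc 0, Int.ofNat 1, Int.negSucc 0, Int.negSucc 0, Int.ofNat 1, Int.ofNat 1],
  [Int.ofNat 1, Int.ofNat 1, Int.negSucc 0, Int.negSucc 0, Int.ofNat 1, Int.ofNat 1, Int.ofNat 1, Int.ofNat 1, Int.ofNat 3, Int.ofNat 1, Int.negSucc 0, Int.ofNat 1, Int.negSucc 0, Int.negSucc 0, Int.negSucc 0, Int.negSucc 0, Int.ofNat 1, Int.negSucc 0, Int.negSucc 0, Int.ofNat 1, Int.negSucc 0, Int.negSucc 0, Int.ofNat 1, Int.ofNat 1],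
  [Int.ofNat 0, Int.ofNat 0, Int.ofNat 2, Int.ofNat 0, Int.ofNat 0, Int.ofNat 2, Int.ofNat 0, Int.ofNat 0, Int.ofNat 2, Int.ofNat 2, Int.ofNat 0, Int.ofNat 0, Int.negSucc 1, Int.negSucc 1, Int.ofNat 0, Int.ofNat 0, Int.ofNat 0, Int.ofNat 0, Int.negSucc 1, Int.ofNat 0, Int.ofNat 0, Int.negSucc 1, Int.ofNat 0, Int.ofNat 0],
  [Int.ofNat 0, Int.ofNat 0, Int.ofNat 0, Int.ofNat 0, Int.negSucc 1, Int.ofNat 0, Int.ofNat 2, Int.ofNat 0, Int.negSucc 1, Int.negSucc 1, Int.ofNat 0, Int.ofNat 0, Int.ofNat 2, Int.ofNat 0, Int.ofNat 0, Int.ofNat 0, Int.ofNat 2, Int.ofNat 0, Int.ofNat 0, Int.ofNat 0, Int.negSucc 1, Int.ofNat 2, Int.ofNat 0, Int.ofNat 0],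
  [Int.ofNat 0, Int.ofNat 0, Int.ofNat 0, Int.ofNat 0, Int.negSucc 1, Int.ofNat 0, Int.ofNat 0, Int.negSucc 1, Int.negSucc 1, Int.ofNat 0, Int.ofNat 2, Int.ofNat 0, Int.ofNat 2, Int.ofNat 0, Int.ofNat 0, Int.ofNat 2, Int.ofNat 2, Int.ofNat 0, Int.ofNat 0, Int.negSucc 1, Int.ofNat 0, Int.ofNat 0, Int.ofNat 0, Int.ofNat 0],
  [Int.ofNat 0, Int.ofNat 0, Int.ofNat 0, Int.ofNat 0, Int.negSucc 1, Int.ofNat 0, Int.ofNat 0, Int.negSucc 1, Int.negSucc 1, Int.ofNat 0, Int.negSucc 1, Int.ofNat 0, Int.ofNat 2, Int.ofNat 0, Int.ofNat 0, Int.negSucc 1, Int.ofNat 2, Int.ofNat 0, Int.ofNat 0, Int.negSucc 1, Int.ofNat 0, Int.ofNat 0, Int.ofNat 0, Int.ofNat 0],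
  [Int.negSucc 1, Int.ofNat 2, Int.ofNat 0, Int.negSucc 1, Int.ofNat 0, Int.ofNat 0, Int.ofNat 0, Int.ofNat 0, Int.ofNat 0, Int.ofNat 0, Int.ofNat 0, Int.negSucc 1, Int.negSucc 1, Int.negSucc 1, Int.ofNat 0, Int.ofNat 0, Int.negSucc 1, Int.ofNat 2, Int.ofNat 0, Int.ofNat 0, Int.ofNat 0, Int.ofNat 0, Int.ofNat 0, Int.ofNat 0],
  [Int.ofNat 0, Int.ofNat 0, Int.negSucc 1, Int.ofNat 0, Int.ofNat 2, Int.ofNat 0, Int.ofNat 0, Int.negSucc 1, Int.ofNat 0, Int.ofNat 0, Int.negSucc 1, Int.ofNat 0, Int.ofNat 0, Int.ofNat 0, Int.ofNat 0, Int.negSucc 1, Int.ofNat 0, Int.ofNat 0, Int.ofNat 0, Int.ofNat 0, Int.ofNat 0, Int.negSucc 1, Int.ofNat 2, Int.negSucc 1],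
  [Int.ofNat 0, Int.ofNat 0, Int.ofNat 2, Int.ofNat 0, Int.ofNat 2, Int.ofNat 0, Int.ofNat 0, Int.ofNat 2, Int.ofNat 0, Int.ofNat 0, Int.ofNat 2, Int.ofNat 0, Int.ofNat 0, Int.ofNat 0, Int.ofNat 0, Int.negSucc 1, Int.ofNat 0, Int.ofNat 0, Int.ofNat 0, Int.ofNat 0, Int.ofNat 0, Int.ofNat 2, Int.ofNat 2, Int.negSucc 1],
  [Int.ofNat 2, Int.ofNat 0, Int.ofNat 0, Int.ofNat 2, Int.ofNat 0, Int.ofNat 2, Int.ofNat 0, Int.ofNat 0, Int.ofNat 2, Int.ofNat 0, Int.ofNat 0, Int.ofNat 2, Int.ofNat 0, Int.ofNat 0, Int.ofNat 0, Int.ofNat 0, Int.negSucc 1, Int.ofNat 0, Int.ofNat 0, Int.ofNat 0, Int.ofNat 0, Int.ofNat 0, Int.ofNat 2, Int.negSucc 1],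
  [Int.negSucc 1, Int.ofNat 0, Int.ofNat 0, Int.ofNat 0, Int.ofNat 0, Int.ofNat 0, Int.ofNat 0, Int.ofNat 0, Int.ofNat 0, Int.ofNat 0, Int.ofNat 0, Int.ofNat 0, Int.negSucc 1, Int.ofNat 0, Int.negSucc 1, Int.ofNat 0, Int.negSucc 1, Int.negSucc 1, Int.negSucc 1, Int.ofNat 0, Int.ofNat 0, Int.ofNat 0, Int.ofNat 2, Int.ofNat 2],
  [Int.ofNat 0, Int.ofNat 0, Int.ofNat 0, Int.ofNat 0, Int.ofNat 0, Int.ofNat 0, Int.ofNat 0, Int.ofNat 0, Int.ofNat 0, Int.negSucc 1, Int.ofNat 0, Int.negSucc 1, Int.ofNat 0, Int.negSucc 1, Int.negSucc 1, Int.negSucc 1, Int.ofNat 0, Int.ofNat 0, Int.ofNat 0, Int.ofNat 2, Int.negSucc 1, Int.ofNat 0, Int.ofNat 0, Int.ofNat 2],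
  [Int.ofNat 1, Int.ofNat 1, Int.ofNat 1, Int.ofNat 1, Int.ofNat 1, Int.ofNat 1, Int.negSucc 0, Int.negSucc 0, Int.ofNat 1, Int.ofNat 1, Int.ofNat 3, Int.negSucc 0, Int.ofNat 1, Int.negSucc 0, Int.negSucc 0, Int.ofNat 1, Int.ofNat 1, Int.ofNat 1, Int.ofNat 1, Int.ofNat 1, Int.ofNat 1, Int.negSucc 0, Int.ofNat 1, Int.negSucc 0],
  [Int.ofNat 1, Int.negSucc 0, Int.ofNat 1, Int.ofNat 1, Int.ofNat 1, Int.negSucc 0, Int.ofNat 1, Int.ofNat 3, Int.ofNat 1, Int.negSucc 0, Int.ofNat 1, Int.ofNat 1, Int.ofNat 1, Int.ofNat 1, Int.ofNat 1, Int.ofNat 1, Int.ofNat 1, Int.negSucc 0, Int.ofNat 1, Int.negSucc 0, Int.negSucc 0, Int.ofNat 1, Int.ofNat 1, Int.negSucc 0],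
  [Int.negSucc 0, Int.ofNat 1, Int.negSucc 0, Int.ofNat 1, Int.negSucc 0, Int.negSucc 0, Int.negSucc 0, Int.ofNat 1, Int.negSucc 0, Int.negSucc 0, Int.ofNat 1, Int.negSucc 0, Int.negSucc 0, Int.negSucc 0, Int.ofNat 1, Int.ofNat 1, Int.negSucc 0, Int.negSucc 0, Int.negSucc 0, Int.negSucc 2, Int.negSucc 0, Int.negSucc 0, Int.negSucc 0, Int.ofNat 1],
  [Int.negSucc 0, Int.ofNat 1, Int.ofNat 1, Int.ofNat 1, Int.negSucc 0, Int.ofNat 1, Int.ofNat 1, Int.ofNat 1, Int.negSucc 0, Int.ofNat 1, Int.negSucc 0, Int.negSucc 0, Int.negSucc 0, Int.negSucc 0, Int.ofNat 1, Int.negSucc 0, Int.negSucc 0, Int.negSucc 0, Int.ofNat 1, Int.negSucc 2, Int.negSucc 0, Int.negSucc 0, Int.ofNat 1, Int.ofNat 1],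
  [Int.negSucc 0, Int.negSucc 0, Int.negSucc 0, Int.ofNat 1, Int.negSucc 0, Int.negSucc 0, Int.negSucc 0, Int.ofNat 1, Int.ofNat 1, Int.ofNat 1, Int.ofNat 1, Int.negSucc 0, Int.ofNat 1, Int.negSucc 0, Int.ofNat 1, Int.negSucc 2, Int.ofNat 1, Int.ofNat 1, Int.ofNat 1, Int.negSucc 0, Int.negSucc 0, Int.negSucc 0, Int.negSucc 0, Int.ofNat 1],
  [Int.negSucc 0, Int.negSucc 0, Int.ofNat 1, Int.ofNat 1, Int.negSucc 0, Int.ofNat 1, Int.ofNat 1, Int.ofNat 1, Int.ofNat 1, Int.negSucc 0, Int.negSucc 0, Int.negSucc 0, Int.ofNat 1, Int.negSucc 0, Int.ofNat 1, Int.ofNat 3, Int.ofNat 1, Int.ofNat 1, Int.negSucc 0, Int.negSucc 0, Int.negSucc 0, Int.negSucc 0, Int.ofNat 1, Int.ofNat 1],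
  [Int.ofNat 1, Int.ofNat 1, Int.negSucc 0, Int.negSucc 0, Int.negSucc 0, Int.negSucc 0, Int.ofNat 1, Int.ofNat 1, Int.ofNat 1, Int.negSucc 0, Int.negSucc 0, Int.negSucc 0, Int.ofNat 1, Int.negSucc 0, Int.negSucc 0, Int.ofNat 3, Int.ofNat 1, Int.negSucc 0, Int.negSucc 0, Int.negSucc 0, Int.negSucc 0, Int.negSucc 0, Int.ofNat 1, Int.negSucc 0],
  [Int.ofNat 1, Int.negSucc 0, Int.ofNat 1, Int.negSucc 0, Int.negSucc 0, Int.negSucc 0, Int.ofNat 1, Int.negSucc 0, Int.ofNat 1, Int.ofNat 1, Int.ofNat 1, Int.negSucc 0, Int.ofNat 1, Int.negSucc 0, Int.negSucc 0, Int.ofNat 3, Int.negSucc 0, Int.negSucc 0, Int.negSucc 0, Int.ofNat 1, Int.negSucc 0, Int.negSucc 0, Int.negSucc 0, Int.negSucc 0],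
  [Int.negSucc 0, Int.ofNat 1, Int.negSucc 0, Int.ofNat 1, Int.ofNat 1, Int.ofNat 1, Int.ofNat 1, Int.negSucc 0, Int.ofNat 1, Int.negSucc 0, Int.negSucc 0, Int.negSucc 0, Int.ofNat 1, Int.ofNat 1, Int.ofNat 1, Int.ofNat 1, Int.ofNat 1, Int.ofNat 1, Int.negSucc 0, Int.ofNat 1, Int.negSucc 2, Int.negSucc 0, Int.ofNat 1, Int.ofNat 1],
  [Int.negSucc 2, Int.negSucc 0, Int.ofNat 1, Int.negSucc 0, Int.ofNat 1, Int.negSucc 0, Int.ofNat 1, Int.ofNat 1, Int.ofNat 1, Int.ofNat 1, Int.negSucc 0, Int.ofNat 1, Int.negSucc 0, Int.negSucc 0, Int.negSucc 0, Int.ofNat 1, Int.ofNat 1, Int.ofNat 1, Int.ofNat 1, Int.ofNat 1, Int.ofNat 1, Int.negSucc 0, Int.ofNat 1, Int.ofNat 1],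
  [Int.ofNat 2, Int.ofNat 0, Int.negSucc 1, Int.ofNat 0, Int.ofNat 0, Int.ofNat 0, Int.ofNat 0, Int.ofNat 0, Int.ofNat 0, Int.ofNat 0, Int.negSucc 1, Int.ofNat 0, Int.negSucc 1, Int.negSucc 1, Int.ofNat 0, Int.ofNat 0, Int.ofNat 0, Int.ofNat 2, Int.ofNat 0, Int.ofNat 0, Int.ofNat 0, Int.negSucc 1, Int.ofNat 0, Int.negSucc 1],
  [Int.ofNat 0, Int.negSucc 1, Int.ofNat 0, Int.ofNat 0, Int.ofNat 0, Int.ofNat 0, Int.ofNat 0, Int.ofNat 0, Int.ofNat 0, Int.negSucc 1, Int.ofNat 0, Int.negSucc 1, Int.negSucc 1, Int.ofNat 0, Int.ofNat 0, Int.ofNat 0, Int.ofNat 2, Int.ofNat 0, Int.ofNat 0, Int.ofNat 0, Int.negSucc 1, Int.ofNat 0, Int.ofNat 2, Int.negSucc 1],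
  [Int.ofNat 0, Int.negSucc 1, Int.ofNat 0, Int.ofNat 0, Int.ofNat 0, Int.ofNat 0, Int.ofNat 0, Int.ofNat 0, Int.ofNat 0, Int.ofNat 2, Int.ofNat 0, Int.ofNat 2, Int.negSucc 1, Int.ofNat 0, Int.ofNat 0, Int.ofNat 0, Int.ofNat 2, Int.ofNat 0, Int.ofNat 0, Int.ofNat 0, Int.negSucc 1, Int.ofNat 0, Int.ofNat 2, Int.negSucc 1]]

set_option maxRecDepth 100000 in
theorem c1te15_chk : pmChk (List.replicate 14 [15, 0, 26, 25]).flatten nxL c1te15M 0 0 = true := by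
  decide +kernel

theorem c1te15_ne : wE letE2 (List.replicate 14 [15, 0, 26, 25]).flatten ≠ 1 ∧ wE letE2 (List.replicate 14 [15, 0, 26, 25]).flatten ≠ negElt :=
  ne_pm_of_chk nxL_mem c1te15_chk

set_option maxRecDepth 100000 in
def c1te16M : List (List ℤ) :=
  [[Int.ofNat 4, Int.ofNat 0, Int.ofNat 0, Int.ofNat 0, Int.ofNat 0, Int.ofNat 0, Int.ofNat 0, Int.ofNat 0, Int.ofNat 0, Int.ofNat 0, Int.ofNat 0, Int.ofNat 0, Int.ofNat 0, Int.ofNat 0, Int.ofNat 0, Int.ofNat 0, Int.ofNat 0, Int.ofNat 0, Int.ofNat 0, Int.ofNat 0, Int.ofNat 0, Int.ofNat 0, Int.ofNat 0, Int.ofNat 4],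
  [Int.ofNat 4, Int.ofNat 0, Int.ofNat 0, Int.ofNat 0, Int.ofNat 0, Int.ofNat 0, Int.ofNat 0, Int.ofNat 0, Int.ofNat 0, Int.ofNat 0, Int.ofNat 0, Int.ofNat 0, Int.ofNat 0, Int.ofNat 0, Int.ofNat 0, Int.ofNat 0, Int.ofNat 0, Int.ofNat 0, Int.ofNat 0, Int.ofNat 0, Int.ofNat 0, Int.ofNat 0, Int.ofNat 0, Int.ofNat 4],
  [Int.negSucc 3, Int.ofNat 0, Int.ofNat 0, Int.ofNat 0, Int.ofNat 0, Int.ofNat 0, Int.ofNat 0, Int.ofNat 0, Int.ofNat 0, Int.ofNat 0, Int.ofNat 0, Int.ofNat 0, Int.ofNat 0, Int.ofNat 0, Int.ofNat 0, Int.ofNat 0, Int.ofNat 0, Int.ofNat 0, Int.ofNat 0, Int.ofNat 0, Int.ofNat 0, Int.ofNat 0, Int.ofNat 0, Int.ofNat 4],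
  [Int.ofNat 0, Int.negSucc 3, Int.ofNat 0, Int.ofNat 0, Int.ofNat 0, Int.ofNat 0, Int.ofNat 0, Int.ofNat 0, Int.ofNat 0, Int.ofNat 0, Int.ofNat 0, Int.ofNat 0, Int.ofNat 0, Int.ofNat 0, Int.ofNat 0, Int.ofNat 0, Int.ofNat 0, Int.ofNat 0, Int.ofNat 0, Int.ofNat 0, Int.ofNat 0, Int.ofNat 0, Int.ofNat 0, Int.ofNat 4],
  [Int.ofNat 0, Int.ofNat 4, Int.ofNat 0, Int.ofNat 0, Int.ofNat 0, Int.ofNat 0, Int.ofNat 0, Int.ofNat 0, Int.ofNat 0, Int.ofNat 0, Int.ofNat 0, Int.ofNat 0, Int.ofNat 0, Int.ofNat 0, Int.ofNat 0, Int.ofNat 0, Int.ofNat 0, Int.ofNat 0, Int.ofNat 0, Int.ofNat 0, Int.ofNat 0, Int.ofNat 0, Int.ofNat 0, Int.negSucc 3],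
  [Int.ofNat 0, Int.ofNat 0, Int.ofNat 0, Int.ofNat 0, Int.ofNat 0, Int.ofNat 0, Int.ofNat 0, Int.ofNat 0, Int.ofNat 0, Int.ofNat 0, Int.ofNat 0, Int.ofNat 0, Int.ofNat 0, Int.ofNat 0, Int.ofNat 0, Int.ofNat 0, Int.ofNat 0, Int.ofNat 0, Int.ofNat 0, Int.ofNat 0, Int.ofNat 0, Int.ofNat 4, Int.ofNat 0, Int.negSucc 3],
  [Int.negSucc 1, Int.negSucc 1, Int.negSucc 1, Int.ofNat 0, Int.ofNat 0, Int.ofNat 0, Int.negSucc 1, Int.negSucc 1, Int.ofNat 0, Int.ofNat 0, Int.ofNat 0, Int.ofNat 0, Int.ofNat 0, Int.ofNat 0, Int.ofNat 0, Int.ofNat 0, Int.ofNat 0, Int.ofNat 0, Int.ofNat 0, Int.negSucc 1, Int.ofNat 0, Int.ofNat 2, Int.ofNat 0, Int.ofNat 2],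
  [Int.negSucc 1, Int.negSucc 1, Int.ofNat 0, Int.ofNat 0, Int.ofNat 0, Int.negSucc 1, Int.negSucc 1, Int.ofNat 0, Int.ofNat 0, Int.ofNat 0, Int.ofNat 0, Int.ofNat 0, Int.ofNat 0, Int.ofNat 0, Int.ofNat 0, Int.ofNat 0, Int.ofNat 0, Int.ofNat 0, Int.negSucc 1, Int.ofNat 0, Int.ofNat 2, Int.ofNat 0, Int.negSucc 1, Int.ofNat 2],
  [Int.ofNat 1, Int.ofNat 1, Int.negSucc 0, Int.ofNat 1, Int.ofNat 1, Int.negSucc 0, Int.negSucc 0, Int.ofNat 1, Int.ofNat 1, Int.negSucc 0, Int.negSucc 0, Int.ofNat 1, Int.ofNat 1, Int.ofNat 1, Int.ofNat 1, Int.negSucc 0, Int.ofNat 1, Int.ofNat 1, Int.negSucc 0, Int.ofNat 1, Int.ofNat 1, Int.ofNat 1, Int.negSucc 0, Int.negSucc 2],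
  [Int.ofNat 1, Int.ofNat 1, Int.ofNat 1, Int.ofNat 1, Int.ofNat 1, Int.ofNat 1, Int.ofNat 1, Int.ofNat 1, Int.ofNat 1, Int.ofNat 1, Int.ofNat 1, Int.ofNat 1, Int.ofNat 1, Int.ofNat 1, Int.ofNat 1, Int.ofNat 1, Int.ofNat 1, Int.ofNat 1, Int.ofNat 1, Int.ofNat 1, Int.ofNat 1, Int.ofNat 1, Int.ofNat 1, Int.negSucc 2],
  [Int.ofNat 1, Int.ofNat 1, Int.ofNat 1, Int.ofNat 1, Int.ofNat 1, Int.ofNat 1, Int.ofNat 1, Int.ofNat 1, Int.ofNat 1, Int.ofNat 1, Int.ofNat 1, Int.ofNat 1, Int.ofNat 1, Int.ofNat 1, Int.ofNat 1, Int.ofNat 1, Int.ofNat 1, Int.ofNat 1, Int.ofNat 1, Int.ofNat 1, Int.ofNat 1, Int.ofNat 1, Int.ofNat 1, Int.negSucc 2],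
  [Int.negSucc 2, Int.ofNat 1, Int.ofNat 1, Int.ofNat 1, Int.ofNat 1, Int.ofNat 1, Int.ofNat 1, Int.ofNat 1, Int.ofNat 1, Int.ofNat 1, Int.ofNat 1, Int.ofNat 1, Int.ofNat 1, Int.ofNat 1, Int.ofNat 1, Int.ofNat 1, Int.ofNat 1, Int.ofNat 1, Int.ofNat 1, Int.ofNat 1, Int.ofNat 1, Int.ofNat 1, Int.ofNat 1, Int.ofNat 1],
  [Int.ofNat 3, Int.ofNat 1, Int.negSucc 0, Int.ofNat 1, Int.ofNat 1, Int.ofNat 1, Int.ofNat 1, Int.negSucc 0, Int.ofNat 1, Int.negSucc 0, Int.negSucc 0, Int.negSucc 0, Int.ofNat 1, Int.ofNat 1, Int.ofNat 1, Int.ofNat 1, Int.ofNat 1, Int.ofNat 1, Int.negSucc 0, Int.ofNat 1, Int.ofNat 1, Int.negSucc 0, Int.ofNat 1, Int.ofNat 1],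
  [Int.ofNat 1, Int.ofNat 3, Int.ofNat 1, Int.negSucc 0, Int.ofNat 1, Int.ofNat 1, Int.ofNat 1, Int.ofNat 1, Int.negSucc 0, Int.ofNat 1, Int.negSucc 0, Int.negSucc 0, Int.negSucc 0, Int.ofNat 1, Int.ofNat 1, Int.ofNat 1, Int.ofNat 1, Int.ofNat 1, Int.ofNat 1, Int.negSucc 0, Int.ofNat 1, Int.ofNat 1, Int.negSucc 0, Int.ofNat 1],
  [Int.ofNat 2, Int.ofNat 0, Int.ofNat 2, Int.negSucc 1, Int.ofNat 0, Int.ofNat 0, Int.ofNat 0, Int.ofNat 0, Int.ofNat 0, Int.ofNat 0, Int.negSucc 1, Int.ofNat 0, Int.ofNat 0, Int.ofNat 0, Int.ofNat 0, Int.ofNat 0, Int.ofNat 0, Int.ofNat 0, Int.ofNat 2, Int.negSucc 1, Int.ofNat 0, Int.ofNat 0, Int.negSucc 1, Int.ofNat 2],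
  [Int.negSucc 1, Int.ofNat 0, Int.ofNat 0, Int.ofNat 0, Int.ofNat 0, Int.ofNat 0, Int.ofNat 0, Int.negSucc 1, Int.ofNat 0, Int.ofNat 0, Int.ofNat 0, Int.ofNat 0, Int.ofNat 0, Int.ofNat 0, Int.ofNat 0, Int.ofNat 2, Int.negSucc 1, Int.ofNat 0, Int.ofNat 0, Int.negSucc 1, Int.ofNat 2, Int.ofNat 0, Int.ofNat 2, Int.ofNat 2],
  [Int.ofNat 2, Int.ofNat 0, Int.ofNat 0, Int.ofNat 0, Int.ofNat 0, Int.ofNat 0, Int.ofNat 2, Int.ofNat 0, Int.ofNat 0, Int.negSucc 1, Int.negSucc 1, Int.ofNat 0, Int.ofNat 0, Int.ofNat 0, Int.ofNat 0, Int.ofNat 0, Int.negSucc 1, Int.ofNat 0, Int.ofNat 0, Int.ofNat 0, Int.ofNat 0, Int.ofNat 2, Int.ofNat 2, Int.negSucc 1],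
  [Int.ofNat 2, Int.ofNat 2, Int.ofNat 0, Int.ofNat 0, Int.ofNat 0, Int.ofNat 0, Int.ofNat 0, Int.negSucc 1, Int.ofNat 0, Int.ofNat 0, Int.ofNat 0, Int.ofNat 0, Int.negSucc 1, Int.negSucc 1, Int.ofNat 2, Int.ofNat 0, Int.ofNat 0, Int.ofNat 0, Int.ofNat 0, Int.ofNat 0, Int.ofNat 2, Int.ofNat 0, Int.ofNat 0, Int.negSucc 1],
  [Int.negSucc 0, Int.negSucc 0, Int.ofNat 1, Int.negSucc 0, Int.ofNat 1, Int.negSucc 0, Int.ofNat 1, Int.negSucc 0, Int.ofNat 1, Int.negSucc 0, Int.negSucc 0, Int.ofNat 1, Int.negSucc 0, Int.negSucc 0, Int.ofNat 1, Int.negSucc 0, Int.ofNat 1, Int.negSucc 0, Int.ofNat 1, Int.ofNat 1, Int.ofNat 1, Int.ofNat 1, Int.ofNat 1, Int.ofNat 3],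
  [Int.negSucc 0, Int.negSucc 0, Int.negSucc 0, Int.negSucc 0, Int.ofNat 1, Int.ofNat 1, Int.negSucc 0, Int.negSucc 0, Int.ofNat 1, Int.ofNat 1, Int.ofNat 1, Int.ofNat 1, Int.negSucc 0, Int.negSucc 0, Int.ofNat 1, Int.ofNat 1, Int.ofNat 1, Int.negSucc 0, Int.negSucc 0, Int.ofNat 1, Int.ofNat 1, Int.ofNat 1, Int.negSucc 0, Int.ofNat 3],
  [Int.ofNat 1, Int.ofNat 1, Int.negSucc 0, Int.negSucc 0, Int.negSucc 0, Int.ofNat 1, Int.negSucc 0, Int.ofNat 1, Int.ofNat 1, Int.negSucc 0, Int.negSucc 0, Int.negSucc 0, Int.ofNat 1, Int.ofNat 1, Int.negSucc 0, Int.ofNat 1, Int.ofNat 1, Int.ofNat 1, Int.negSucc 0, Int.ofNat 1, Int.ofNat 1, Int.negSucc 0, Int.negSucc 0, Int.ofNat 3],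
  [Int.ofNat 1, Int.ofNat 1, Int.ofNat 1, Int.negSucc 0, Int.negSucc 0, Int.negSucc 0, Int.ofNat 1, Int.ofNat 1, Int.ofNat 1, Int.ofNat 1, Int.ofNat 1, Int.negSucc 0, Int.ofNat 1, Int.ofNat 1, Int.negSucc 0, Int.negSucc 0, Int.ofNat 1, Int.ofNat 1, Int.ofNat 1, Int.ofNat 1, Int.ofNat 1, Int.negSucc 0, Int.ofNat 1, Int.ofNat 3],
  [Int.ofNat 2, Int.ofNat 2, Int.ofNat 2, Int.ofNat 0, Int.negSucc 1, Int.ofNat 0, Int.ofNat 0, Int.ofNat 0, Int.ofNat 0, Int.ofNat 0, Int.ofNat 0, Int.negSucc 1, Int.ofNat 0, Int.ofNat 0, Int.ofNat 0, Int.negSucc 1, Int.ofNat 0, Int.ofNat 2, Int.ofNat 0, Int.ofNat 0, Int.ofNat 0, Int.negSucc 1, Int.ofNat 0, Int.ofNat 0],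
  [Int.ofNat 2, Int.ofNat 0, Int.ofNat 0, Int.ofNat 0, Int.ofNat 2, Int.negSucc 1, Int.ofNat 2, Int.ofNat 0, Int.ofNat 0, Int.ofNat 0, Int.ofNat 0, Int.ofNat 0, Int.ofNat 0, Int.ofNat 0, Int.ofNat 2, Int.negSucc 1, Int.ofNat 0, Int.negSucc 1, Int.negSucc 1, Int.ofNat 0, Int.ofNat 0, Int.ofNat 0, Int.ofNat 0, Int.ofNat 0],
  [Int.negSucc 0, Int.ofNat 1, Int.ofNat 1, Int.ofNat 1, Int.ofNat 1, Int.negSucc 0, Int.ofNat 1, Int.negSucc 0, Int.ofNat 1, Int.ofNat 1, Int.ofNat 1, Int.ofNat 1, Int.ofNat 1, Int.negSucc 0, Int.ofNat 3, Int.negSucc 0, Int.negSucc 0, Int.negSucc 0, Int.negSucc 0, Int.negSucc 0, Int.ofNat 1, Int.negSucc 0, Int.negSucc 0, Int.ofNat 1],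
  [Int.ofNat 1, Int.negSucc 0, Int.negSucc 0, Int.negSucc 0, Int.ofNat 1, Int.ofNat 1, Int.ofNat 1, Int.ofNat 1, Int.negSucc 0, Int.ofNat 1, Int.negSucc 0, Int.ofNat 1, Int.ofNat 1, Int.ofNat 1, Int.ofNat 1, Int.ofNat 1, Int.negSucc 0, Int.ofNat 3, Int.negSucc 0, Int.negSucc 0, Int.negSucc 0, Int.negSucc 0, Int.negSucc 0, Int.ofNat 1],
  [Int.negSucc 0, Int.ofNat 1, Int.ofNat 1, Int.negSucc 2, Int.ofNat 1, Int.negSucc 0, Int.ofNat 1, Int.ofNat 1, Int.negSucc 0, Int.ofNat 1, Int.negSucc 0, Int.ofNat 1, Int.ofNat 1, Int.ofNat 1, Int.negSucc 0, Int.ofNat 1, Int.negSucc 0, Int.ofNat 1, Int.negSucc 0, Int.negSucc 0, Int.negSucc 0, Int.negSucc 0, Int.negSucc 0, Int.negSucc 0],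
  [Int.ofNat 1, Int.ofNat 1, Int.negSucc 2, Int.ofNat 1, Int.negSucc 0, Int.ofNat 1, Int.ofNat 1, Int.negSucc 0, Int.ofNat 1, Int.negSucc 0, Int.ofNat 1, Int.ofNat 1, Int.ofNat 1, Int.negSucc 0, Int.ofNat 1, Int.negSucc 0, Int.ofNat 1, Int.negSucc 0, Int.negSucc 0, Int.negSucc 0, Int.negSucc 0, Int.negSucc 0, Int.negSucc 0, Int.negSucc 0],
  [Int.negSucc 0, Int.ofNat 1, Int.ofNat 3, Int.ofNat 1, Int.negSucc 0, Int.ofNat 1, Int.ofNat 1, Int.ofNat 1, Int.ofNat 1, Int.ofNat 1, Int.negSucc 0, Int.negSucc 0, Int.ofNat 1, Int.negSucc 0, Int.ofNat 1, Int.negSucc 0, Int.ofNat 1, Int.negSucc 0, Int.ofNat 1, Int.negSucc 0, Int.negSucc 0, Int.ofNat 1, Int.negSucc 0, Int.negSucc 0],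
  [Int.ofNat 1, Int.negSucc 0, Int.negSucc 2, Int.negSucc 0, Int.ofNat 1, Int.ofNat 1, Int.negSucc 0, Int.ofNat 1, Int.negSucc 0, Int.negSucc 0, Int.negSucc 0, Int.negSucc 0, Int.negSucc 0, Int.ofNat 1, Int.ofNat 1, Int.negSucc 0, Int.negSucc 0, Int.negSucc 0, Int.negSucc 0, Int.negSucc 0, Int.negSucc 0, Int.ofNat 1, Int.negSucc 0, Int.negSucc 0],
  [Int.ofNat 1, Int.negSucc 2, Int.negSucc 0, Int.negSucc 0, Int.negSucc 0, Int.negSucc 0, Int.ofNat 1, Int.negSucc 0, Int.negSucc 0, Int.negSucc 0, Int.ofNat 1, Int.ofNat 1, Int.ofNat 1, Int.negSucc 0, Int.negSucc 0, Int.negSucc 0, Int.negSucc 0, Int.negSucc 0, Int.negSucc 0, Int.negSucc 0, Int.ofNat 1, Int.ofNat 1, Int.negSucc 0, Int.negSucc 0],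
  [Int.negSucc 0, Int.negSucc 2, Int.ofNat 1, Int.negSucc 0, Int.negSucc 0, Int.negSucc 0, Int.ofNat 1, Int.ofNat 1, Int.negSucc 0, Int.ofNat 1, Int.negSucc 0, Int.negSucc 0, Int.ofNat 1, Int.negSucc 0, Int.negSucc 0, Int.negSucc 0, Int.negSucc 0, Int.negSucc 0, Int.ofNat 1, Int.negSucc 0, Int.ofNat 1, Int.negSucc 0, Int.negSucc 0, Int.negSucc 0],
  [Int.negSucc 0, Int.negSucc 0, Int.negSucc 2, Int.ofNat 1, Int.negSucc 0, Int.negSucc 0, Int.negSucc 0, Int.ofNat 1, Int.ofNat 1, Int.negSucc 0, Int.ofNat 1, Int.negSucc 0, Int.negSucc 0, Int.ofNat 1, Int.negSucc 0, Int.negSucc 0, Int.negSucc 0, Int.negSucc 0, Int.negSucc 0, Int.ofNat 1, Int.negSucc 0, Int.ofNat 1, Int.negSucc 0, Int.negSucc 0],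
  [Int.negSucc 1, Int.negSucc 1, Int.ofNat 0, Int.ofNat 2, Int.ofNat 0, Int.ofNat 0, Int.negSucc 1, Int.ofNat 0, Int.ofNat 2, Int.ofNat 0, Int.ofNat 2, Int.ofNat 0, Int.ofNat 0, Int.ofNat 2, Int.ofNat 0, Int.ofNat 0, Int.ofNat 0, Int.ofNat 0, Int.ofNat 0, Int.ofNat 0, Int.ofNat 0, Int.ofNat 0, Int.ofNat 0, Int.negSucc 1],
  [Int.ofNat 2, Int.ofNat 0, Int.ofNat 0, Int.negSucc 1, Int.ofNat 0, Int.ofNat 2, Int.ofNat 0, Int.ofNat 2, Int.ofNat 0, Int.ofNat 0, Int.ofNat 2, Int.ofNat 0, Int.ofNat 0, Int.ofNat 0, Int.ofNat 0, Int.ofNat 0, Int.ofNat 0, Int.ofNat 0, Int.ofNat 0, Int.ofNat 0, Int.negSucc 1, Int.negSucc 1, Int.ofNat 0, Int.negSucc 1],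
  [Int.negSucc 1, Int.ofNat 0, Int.ofNat 0, Int.negSucc 1, Int.ofNat 0, Int.ofNat 2, Int.ofNat 0, Int.ofNat 2, Int.ofNat 0, Int.ofNat 0, Int.ofNat 2, Int.ofNat 0, Int.ofNat 0, Int.ofNat 0, Int.ofNat 0, Int.ofNat 0, Int.ofNat 0, Int.ofNat 0, Int.ofNat 0, Int.ofNat 0, Int.negSucc 1, Int.negSucc 1, Int.ofNat 0, Int.ofNat 2],
  [Int.negSucc 1, Int.ofNat 0, Int.ofNat 0, Int.negSucc 1, Int.ofNat 0, Int.ofNat 2, Int.ofNat 0, Int.ofNat 2, Int.ofNat 0, Int.ofNat 0, Int.negSucc 1, Int.ofNat 0, Int.ofNat 0, Int.ofNat 0, Int.ofNat 0, Int.ofNat 0, Int.ofNat 0, Int.ofNat 0, Int.ofNat 0, Int.ofNat 0, Int.negSucc 1, Int.ofNat 2, Int.ofNat 0, Int.ofNat 2],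
  [Int.ofNat 2, Int.ofNat 0, Int.ofNat 0, Int.negSucc 1, Int.ofNat 0, Int.ofNat 2, Int.negSucc 1, Int.ofNat 0, Int.ofNat 0, Int.ofNat 2, Int.ofNat 0, Int.ofNat 0, Int.ofNat 0, Int.ofNat 0, Int.ofNat 0, Int.ofNat 2, Int.ofNat 0, Int.ofNat 0, Int.ofNat 0, Int.negSucc 1, Int.ofNat 0, Int.ofNat 0, Int.ofNat 0, Int.negSucc 1],
  [Int.ofNat 2, Int.ofNat 0, Int.ofNat 0, Int.negSucc 1, Int.ofNat 0, Int.negSucc 1, Int.ofNat 2, Int.ofNat 0, Int.ofNat 0, Int.negSucc 1, Int.ofNat 0, Int.ofNat 0, Int.ofNat 0, Int.ofNat 0, Int.ofNat 0, Int.negSucc 1, Int.ofNat 0, Int.ofNat 0, Int.ofNat 0, Int.negSucc 1, Int.ofNat 0, Int.ofNat 0, Int.ofNat 0, Int.negSucc 1],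
  [Int.ofNat 0, Int.ofNat 0, Int.ofNat 0, Int.ofNat 0, Int.ofNat 0, Int.ofNat 2, Int.ofNat 0, Int.negSucc 1, Int.negSucc 1, Int.ofNat 0, Int.ofNat 0, Int.ofNat 0, Int.negSucc 1, Int.ofNat 0, Int.ofNat 0, Int.ofNat 0, Int.negSucc 1, Int.ofNat 0, Int.negSucc 1, Int.ofNat 0, Int.ofNat 2, Int.ofNat 0, Int.ofNat 0, Int.negSucc 1],
  [Int.negSucc 1, Int.ofNat 0, Int.ofNat 0, Int.ofNat 0, Int.ofNat 0, Int.ofNat 0, Int.ofNat 0, Int.ofNat 0, Int.ofNat 2, Int.ofNat 2, Int.negSucc 1, Int.ofNat 0, Int.ofNat 0, Int.negSucc 1, Int.negSucc 1, Int.ofNat 0, Int.ofNat 0, Int.ofNat 0, Int.ofNat 0, Int.ofNat 0, Int.negSucc 1, Int.negSucc 1, Int.ofNat 0, Int.ofNat 0],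
  [Int.ofNat 2, Int.ofNat 0, Int.ofNat 0, Int.ofNat 0, Int.ofNat 0, Int.ofNat 0, Int.ofNat 0, Int.ofNat 0, Int.ofNat 2, Int.negSucc 1, Int.ofNat 2, Int.ofNat 0, Int.ofNat 0, Int.negSucc 1, Int.negSucc 1, Int.ofNat 0, Int.ofNat 0, Int.ofNat 0, Int.ofNat 0, Int.ofNat 0, Int.negSucc 1, Int.ofNat 2, Int.ofNat 0, Int.ofNat 0],
  [Int.ofNat 0, Int.ofNat 2, Int.ofNat 0, Int.ofNat 0, Int.ofNat 0, Int.ofNat 0, Int.ofNat 0, Int.ofNat 0, Int.ofNat 0, Int.ofNat 2, Int.negSucc 1, Int.ofNat 2, Int.ofNat 0, Int.ofNat 0, Int.negSucc 1, Int.negSucc 1, Int.ofNat 0, Int.ofNat 0, Int.ofNat 0, Int.ofNat 0, Int.ofNat 0, Int.negSucc 1, Int.ofNat 2, Int.ofNat 0],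
  [Int.ofNat 1, Int.negSucc 0, Int.ofNat 1, Int.ofNat 1, Int.negSucc 0, Int.ofNat 1, Int.ofNat 1, Int.ofNat 1, Int.negSucc 0, Int.ofNat 3, Int.negSucc 0, Int.ofNat 1, Int.negSucc 0, Int.negSucc 0, Int.negSucc 0, Int.negSucc 0, Int.negSucc 0, Int.ofNat 1, Int.negSucc 0, Int.ofNat 1, Int.ofNat 1, Int.negSucc 0, Int.ofNat 1, Int.ofNat 1],
  [Int.ofNat 1, Int.negSucc 0, Int.ofNat 1, Int.ofNat 1, Int.ofNat 1, Int.negSucc 0, Int.ofNat 3, Int.negSucc 0, Int.ofNat 1, Int.negSucc 0, Int.negSucc 0, Int.negSucc 0, Int.negSucc 0, Int.negSucc 0, Int.ofNat 1, Int.negSucc 0, Int.ofNat 1, Int.ofNat 1, Int.negSucc 0, Int.ofNat 1, Int.ofNat 1, Int.negSucc 0, Int.ofNat 1, Int.ofNat 1],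
  [Int.ofNat 0, Int.ofNat 2, Int.ofNat 0, Int.ofNat 0, Int.ofNat 0, Int.negSucc 1, Int.ofNat 2, Int.negSucc 1, Int.ofNat 2, Int.ofNat 0, Int.ofNat 0, Int.ofNat 0, Int.ofNat 0, Int.negSucc 1, Int.ofNat 0, Int.ofNat 0, Int.ofNat 0, Int.ofNat 0, Int.ofNat 0, Int.ofNat 0, Int.ofNat 2, Int.negSucc 1, Int.ofNat 0, Int.ofNat 0],
  [Int.ofNat 0, Int.ofNat 2, Int.ofNat 0, Int.ofNat 0, Int.ofNat 0, Int.negSucc 1, Int.ofNat 0, Int.ofNat 0, Int.ofNat 0, Int.negSucc 1, Int.ofNat 2, Int.ofNat 0, Int.ofNat 0, Int.ofNat 0, Int.ofNat 0, Int.ofNat 0, Int.ofNat 2, Int.ofNat 0, Int.ofNat 2, Int.ofNat 0, Int.negSucc 1, Int.negSucc 1, Int.ofNat 0, Int.ofNat 0],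
  [Int.ofNat 1, Int.negSucc 0, Int.ofNat 1, Int.ofNat 1, Int.negSucc 0, Int.negSucc 0, Int.ofNat 1, Int.ofNat 1, Int.negSucc 0, Int.negSucc 0, Int.ofNat 3, Int.negSucc 0, Int.negSucc 0, Int.negSucc 0, Int.ofNat 1, Int.ofNat 1, Int.ofNat 1, Int.ofNat 1, Int.ofNat 1, Int.ofNat 1, Int.negSucc 0, Int.negSucc 0, Int.negSucc 0, Int.ofNat 1],
  [Int.ofNat 1, Int.negSucc 0, Int.negSucc 0, Int.ofNat 1, Int.negSucc 0, Int.ofNat 1, Int.negSucc 0, Int.ofNat 1, Int.negSucc 0, Int.ofNat 1, Int.negSucc 2, Int.negSucc 0, Int.negSucc 0, Int.negSucc 0, Int.ofNat 1, Int.negSucc 0, Int.ofNat 1, Int.ofNat 1, Int.negSucc 0, Int.ofNat 1, Int.negSucc 0, Int.negSucc 0, Int.ofNat 1, Int.ofNat 1],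
  [Int.negSucc 0, Int.negSucc 0, Int.ofNat 1, Int.ofNat 1, Int.negSucc 0, Int.negSucc 2, Int.ofNat 1, Int.negSucc 0, Int.ofNat 1, Int.negSucc 0, Int.negSucc 0, Int.negSucc 0, Int.negSucc 0, Int.negSucc 0, Int.negSucc 0, Int.ofNat 1, Int.ofNat 1, Int.negSucc 0, Int.ofNat 1, Int.ofNat 1, Int.ofNat 1, Int.negSucc 0, Int.ofNat 1, Int.ofNat 1],
  [Int.negSucc 0, Int.negSucc 0, Int.negSucc 0, Int.ofNat 1, Int.negSucc 0, Int.ofNat 3, Int.negSucc 0, Int.negSucc 0, Int.ofNat 1, Int.ofNat 1, Int.ofNat 1, Int.negSucc 0, Int.negSucc 0, Int.negSucc 0, Int.negSucc 0, Int.negSucc 0, Int.ofNat 1, Int.negSucc 0, Int.negSucc 0, Int.ofNat 1, Int.ofNat 1, Int.negSucc 0, Int.negSucc 0, Int.ofNat 1],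
  [Int.ofNat 0, Int.ofNat 0, Int.ofNat 0, Int.ofNat 0, Int.ofNat 0, Int.ofNat 2, Int.ofNat 0, Int.ofNat 0, Int.ofNat 2, Int.ofNat 0, Int.ofNat 0, Int.ofNat 0, Int.ofNat 0, Int.ofNat 0, Int.negSucc 1, Int.negSucc 1, Int.ofNat 2, Int.negSucc 1, Int.ofNat 0, Int.ofNat 2, Int.ofNat 0, Int.ofNat 0, Int.ofNat 0, Int.negSucc 1],
  [Int.ofNat 0, Int.ofNat 0, Int.ofNat 0, Int.ofNat 0, Int.ofNat 0, Int.ofNat 0, Int.ofNat 0, Int.ofNat 2, Int.ofNat 2, Int.ofNat 0, Int.ofNat 0, Int.ofNat 2, Int.ofNat 2, Int.ofNat 0, Int.negSucc 1, Int.negSucc 1, Int.ofNat 0, Int.ofNat 0, Int.ofNat 0, Int.ofNat 0, Int.ofNat 0, Int.ofNat 0, Int.negSucc 1, Int.negSucc 1],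
  [Int.negSucc 0, Int.negSucc 0, Int.negSucc 0, Int.ofNat 1, Int.ofNat 1, Int.ofNat 1, Int.negSucc 0, Int.ofNat 1, Int.negSucc 0, Int.ofNat 1, Int.ofNat 1, Int.negSucc 0, Int.negSucc 0, Int.ofNat 1, Int.negSucc 0, Int.negSucc 0, Int.ofNat 1, Int.ofNat 1, Int.negSucc 2, Int.negSucc 0, Int.ofNat 1, Int.negSucc 0, Int.negSucc 0, Int.ofNat 1],
  [Int.ofNat 1, Int.negSucc 0, Int.negSucc 0, Int.negSucc 0, Int.negSucc 0, Int.negSucc 0, Int.ofNat 1, Int.ofNat 1, Int.ofNat 1, Int.negSucc 0, Int.ofNat 1, Int.negSucc 0, Int.ofNat 1, Int.ofNat 1, Int.negSucc 0, Int.negSucc 0, Int.ofNat 1, Int.negSucc 0, Int.negSucc 0, Int.ofNat 1, Int.ofNat 1, Int.negSucc 2, Int.negSucc 0, Int.ofNat 1],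
  [Int.negSucc 0, Int.ofNat 1, Int.ofNat 1, Int.ofNat 1, Int.negSucc 0, Int.ofNat 1, Int.ofNat 1, Int.ofNat 1, Int.ofNat 1, Int.negSucc 0, Int.ofNat 1, Int.negSucc 0, Int.ofNat 1, Int.ofNat 1, Int.ofNat 1, Int.negSucc 0, Int.ofNat 1, Int.ofNat 1, Int.negSucc 0, Int.ofNat 1, Int.ofNat 1, Int.negSucc 2, Int.negSucc 0, Int.negSucc 0],
  [Int.ofNat 1, Int.ofNat 1, Int.ofNat 1, Int.negSucc 0, Int.ofNat 1, Int.ofNat 1, Int.ofNat 1, Int.ofNat 1, Int.negSucc 0, Int.ofNat 1, Int.negSucc 0, Int.ofNat 1, Int.ofNat 1, Int.ofNat 1, Int.negSucc 0, Int.ofNat 1, Int.ofNat 1, Int.negSucc 0, Int.ofNat 1, Int.ofNat 1, Int.negSucc 2, Int.negSucc 0, Int.negSucc 0, Int.negSucc 0],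
  [Int.negSucc 0, Int.ofNat 1, Int.negSucc 0, Int.negSucc 0, Int.ofNat 1, Int.ofNat 1, Int.ofNat 1, Int.negSucc 0, Int.negSucc 0, Int.negSucc 0, Int.ofNat 1, Int.negSucc 0, Int.ofNat 1, Int.ofNat 1, Int.negSucc 0, Int.ofNat 1, Int.ofNat 1, Int.negSucc 0, Int.negSucc 0, Int.ofNat 1, Int.negSucc 2, Int.ofNat 1, Int.negSucc 0, Int.negSucc 0],
  [Int.ofNat 1, Int.negSucc 0, Int.ofNat 1, Int.ofNat 1, Int.negSucc 0, Int.ofNat 1, Int.negSucc 0, Int.negSucc 0, Int.ofNat 1, Int.ofNat 1, Int.ofNat 1, Int.negSucc 0, Int.negSucc 0, Int.negSucc 0, Int.negSucc 0, Int.ofNat 1, Int.negSucc 0, Int.negSucc 0, Int.ofNat 1, Int.ofNat 1, Int.negSucc 2, Int.ofNat 1, Int.negSucc 0, Int.negSucc 0],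
  [Int.ofNat 1, Int.ofNat 1, Int.ofNat 1, Int.ofNat 1, Int.negSucc 0, Int.ofNat 1, Int.negSucc 0, Int.negSucc 2, Int.ofNat 1, Int.negSucc 0, Int.ofNat 1, Int.negSucc 0, Int.negSucc 0, Int.ofNat 1, Int.ofNat 1, Int.ofNat 1, Int.negSucc 0, Int.negSucc 0, Int.negSucc 0, Int.negSucc 0, Int.ofNat 1, Int.negSucc 0, Int.negSucc 0, Int.negSucc 0],
  [Int.negSucc 0, Int.ofNat 1, Int.negSucc 0, Int.ofNat 1, Int.negSucc 0, Int.ofNat 1, Int.negSucc 0, Int.ofNat 3, Int.ofNat 1, Int.ofNat 1, Int.negSucc 0, Int.ofNat 1, Int.negSucc 0, Int.ofNat 1, Int.ofNat 1, Int.ofNat 1, Int.negSucc 0, Int.negSucc 0, Int.ofNat 1, Int.negSucc 0, Int.ofNat 1, Int.ofNat 1, Int.negSucc 0, Int.negSucc 0],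
  [Int.negSucc 0, Int.negSucc 0, Int.ofNat 1, Int.negSucc 0, Int.ofNat 1, Int.negSucc 0, Int.ofNat 1, Int.negSucc 0, Int.ofNat 3, Int.ofNat 1, Int.ofNat 1, Int.negSucc 0, Int.ofNat 1, Int.negSucc 0, Int.ofNat 1, Int.ofNat 1, Int.ofNat 1, Int.negSucc 0, Int.negSucc 0, Int.ofNat 1, Int.negSucc 0, Int.ofNat 1, Int.ofNat 1, Int.negSucc 0],
  [Int.ofNat 0, Int.ofNat 0, Int.negSucc 1, Int.ofNat 0, Int.ofNat 0, Int.ofNat 0, Int.ofNat 0, Int.negSucc 1, Int.ofNat 2, Int.ofNat 0, Int.ofNat 0, Int.negSucc 1, Int.ofNat 0, Int.negSucc 1, Int.ofNat 2, Int.ofNat 0, Int.ofNat 0, Int.ofNat 0, Int.negSucc 1, Int.ofNat 0, Int.negSucc 1, Int.ofNat 0, Int.ofNat 0, Int.ofNat 0],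
  [Int.ofNat 0, Int.ofNat 0, Int.ofNat 0, Int.ofNat 0, Int.negSucc 1, Int.ofNat 2, Int.ofNat 0, Int.ofNat 0, Int.negSucc 1, Int.ofNat 0, Int.negSucc 1, Int.ofNat 2, Int.ofNat 0, Int.ofNat 0, Int.ofNat 0, Int.negSucc 1, Int.ofNat 0, Int.negSucc 1, Int.ofNat 0, Int.ofNat 0, Int.ofNat 0, Int.ofNat 0, Int.negSucc 1, Int.ofNat 0],
  [Int.ofNat 0, Int.ofNat 0, Int.ofNat 0, Int.ofNat 0, Int.ofNat 0, Int.ofNat 2, Int.ofNat 0, Int.ofNat 0, Int.negSucc 1, Int.ofNat 2, Int.ofNat 0, Int.ofNat 2, Int.ofNat 0, Int.ofNat 2, Int.ofNat 0, Int.ofNat 0, Int.ofNat 2, Int.negSucc 1, Int.ofNat 0, Int.ofNat 0, Int.ofNat 2, Int.ofNat 0, Int.ofNat 0, Int.ofNat 0],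
  [Int.ofNat 0, Int.ofNat 0, Int.ofNat 0, Int.ofNat 0, Int.ofNat 0, Int.ofNat 0, Int.ofNat 0, Int.ofNat 0, Int.ofNat 0, Int.ofNat 2, Int.ofNat 2, Int.negSucc 1, Int.ofNat 2, Int.ofNat 2, Int.ofNat 0, Int.ofNat 0, Int.negSucc 1, Int.ofNat 0, Int.ofNat 0, Int.ofNat 2, Int.ofNat 0, Int.ofNat 2, Int.ofNat 0, Int.ofNat 0],
  [Int.ofNat 0, Int.ofNat 0, Int.ofNat 0, Int.ofNat 0, Int.ofNat 0, Int.ofNat 0, Int.negSucc 1, Int.negSucc 1, Int.ofNat 0, Int.ofNat 0, Int.ofNat 0, Int.negSucc 1, Int.ofNat 2, Int.ofNat 2, Int.ofNat 0, Int.negSucc 1, Int.negSucc 1, Int.ofNat 0, Int.ofNat 0, Int.ofNat 0, Int.negSucc 1, Int.ofNat 0, Int.ofNat 0, Int.ofNat 0],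
  [Int.ofNat 0, Int.ofNat 0, Int.ofNat 0, Int.ofNat 0, Int.ofNat 0, Int.ofNat 0, Int.ofNat 2, Int.negSucc 1, Int.ofNat 0, Int.ofNat 0, Int.ofNat 0, Int.negSucc 1, Int.ofNat 2, Int.ofNat 2, Int.ofNat 0, Int.ofNat 2, Int.negSucc 1, Int.ofNat 0, Int.ofNat 0, Int.ofNat 0, Int.negSucc 1, Int.ofNat 0, Int.ofNat 0, Int.ofNat 0],
  [Int.ofNat 0, Int.negSucc 1, Int.negSucc 1, Int.ofNat 0, Int.ofNat 0, Int.ofNat 2, Int.ofNat 0, Int.ofNat 0, Int.ofNat 0, Int.negSucc 1, Int.ofNat 2, Int.negSucc 1, Int.ofNat 2, Int.ofNat 0, Int.ofNat 0, Int.ofNat 0, Int.ofNat 0, Int.ofNat 2, Int.ofNat 0, Int.ofNat 0, Int.ofNat 0, Int.ofNat 0, Int.ofNat 0, Int.ofNat 0],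
  [Int.ofNat 0, Int.ofNat 0, Int.negSucc 1, Int.ofNat 0, Int.ofNat 2, Int.negSucc 1, Int.ofNat 0, Int.ofNat 0, Int.ofNat 0, Int.ofNat 2, Int.ofNat 0, Int.negSucc 1, Int.ofNat 0, Int.ofNat 0, Int.ofNat 0, Int.ofNat 0, Int.ofNat 2, Int.ofNat 0, Int.ofNat 0, Int.ofNat 0, Int.ofNat 0, Int.ofNat 2, Int.negSucc 1, Int.ofNat 0],
  [Int.ofNat 0, Int.ofNat 0, Int.ofNat 2, Int.ofNat 0, Int.ofNat 2, Int.negSucc 1, Int.ofNat 0, Int.ofNat 0, Int.ofNat 0, Int.negSucc 1, Int.ofNat 0, Int.ofNat 2, Int.ofNat 0, Int.ofNat 0, Int.ofNat 0, Int.ofNat 0, Int.ofNat 2, Int.ofNat 0, Int.ofNat 0, Int.ofNat 0, Int.ofNat 0, Int.negSucc 1, Int.negSucc 1, Int.ofNat 0],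
  [Int.negSucc 1, Int.ofNat 0, Int.ofNat 0, Int.ofNat 2, Int.ofNat 0, Int.ofNat 2, Int.negSucc 1, Int.ofNat 0, Int.ofNat 0, Int.ofNat 0, Int.negSucc 1, Int.ofNat 0, Int.ofNat 2, Int.ofNat 0, Int.ofNat 0, Int.ofNat 0, Int.ofNat 0, Int.ofNat 2, Int.ofNat 0, Int.ofNat 0, Int.ofNat 0, Int.ofNat 0, Int.negSucc 1, Int.ofNat 0],
  [Int.ofNat 1, Int.negSucc 0, Int.negSucc 0, Int.negSucc 0, Int.ofNat 1, Int.negSucc 0, Int.negSucc 0, Int.ofNat 1, Int.negSucc 0, Int.ofNat 1, Int.negSucc 0, Int.negSucc 0, Int.ofNat 1, Int.ofNat 1, Int.negSucc 2, Int.ofNat 1, Int.ofNat 1, Int.negSucc 0, Int.negSucc 0, Int.ofNat 1, Int.ofNat 1, Int.ofNat 1, Int.negSucc 0, Int.negSucc 0],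
  [Int.negSucc 0, Int.ofNat 1, Int.negSucc 0, Int.negSucc 0, Int.ofNat 1, Int.negSucc 0, Int.ofNat 1, Int.negSucc 0, Int.negSucc 0, Int.ofNat 1, Int.ofNat 1, Int.negSucc 2, Int.ofNat 1, Int.ofNat 1, Int.negSucc 0, Int.negSucc 0, Int.ofNat 1, Int.ofNat 1, Int.ofNat 1, Int.negSucc 0, Int.ofNat 1, Int.negSucc 0, Int.negSucc 0, Int.negSucc 0],
  [Int.ofNat 0, Int.negSucc 1, Int.ofNat 0, Int.ofNat 0, Int.ofNat 0, Int.ofNat 0, Int.ofNat 2, Int.ofNat 0, Int.ofNat 0, Int.ofNat 0, Int.ofNat 0, Int.negSucc 1, Int.ofNat 2, Int.ofNat 0, Int.ofNat 0, Int.negSucc 1, Int.ofNat 0, Int.ofNat 2, Int.ofNat 2, Int.ofNat 0, Int.ofNat 0, Int.ofNat 0, Int.negSucc 1, Int.ofNat 0],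
  [Int.ofNat 0, Int.ofNat 2, Int.ofNat 0, Int.ofNat 0, Int.ofNat 2, Int.ofNat 0, Int.ofNat 0, Int.ofNat 0, Int.ofNat 2, Int.ofNat 0, Int.ofNat 0, Int.ofNat 2, Int.ofNat 0, Int.ofNat 0, Int.negSucc 1, Int.negSucc 1, Int.ofNat 0, Int.ofNat 0, Int.negSucc 1, Int.negSucc 1, Int.ofNat 0, Int.ofNat 0, Int.ofNat 0, Int.ofNat 0],
  [Int.ofNat 1, Int.negSucc 0, Int.ofNat 1, Int.ofNat 1, Int.ofNat 1, Int.ofNat 1, Int.ofNat 1, Int.ofNat 1, Int.ofNat 1, Int.ofNat 1, Int.ofNat 1, Int.ofNat 1, Int.negSucc 0, Int.negSucc 0, Int.negSucc 0, Int.negSucc 0, Int.negSucc 0, Int.ofNat 1, Int.negSucc 2, Int.negSucc 0, Int.ofNat 1, Int.ofNat 1, Int.negSucc 0, Int.ofNat 1],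
  [Int.ofNat 1, Int.negSucc 0, Int.negSucc 0, Int.ofNat 1, Int.ofNat 1, Int.negSucc 0, Int.negSucc 0, Int.ofNat 1, Int.ofNat 1, Int.negSucc 0, Int.negSucc 0, Int.ofNat 1, Int.negSucc 0, Int.negSucc 0, Int.negSucc 0, Int.ofNat 1, Int.negSucc 0, Int.ofNat 1, Int.ofNat 3, Int.negSucc 0, Int.ofNat 1, Int.ofNat 1, Int.ofNat 1, Int.ofNat 1],
  [Int.ofNat 1, Int.ofNat 1, Int.ofNat 1, Int.ofNat 1, Int.negSucc 0, Int.negSucc 0, Int.ofNat 1, Int.ofNat 1, Int.negSucc 0, Int.negSucc 0, Int.ofNat 3, Int.negSucc 0, Int.ofNat 1, Int.ofNat 1, Int.negSucc 0, Int.negSucc 0, Int.negSucc 0, Int.ofNat 1, Int.ofNat 1, Int.negSucc 0, Int.negSucc 0, Int.negSucc 0, Int.ofNat 1, Int.ofNat 1],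
  [Int.ofNat 1, Int.ofNat 1, Int.negSucc 0, Int.ofNat 1, Int.negSucc 0, Int.ofNat 1, Int.negSucc 0, Int.ofNat 1, Int.negSucc 0, Int.ofNat 1, Int.negSucc 2, Int.negSucc 0, Int.ofNat 1, Int.ofNat 1, Int.negSucc 0, Int.ofNat 1, Int.negSucc 0, Int.ofNat 1, Int.negSucc 0, Int.negSucc 0, Int.negSucc 0, Int.negSucc 0, Int.negSucc 0, Int.ofNat 1],
  [Int.ofNat 0, Int.ofNat 0, Int.ofNat 2, Int.ofNat 0, Int.ofNat 0, Int.ofNat 0, Int.ofNat 0, Int.ofNat 2, Int.ofNat 0, Int.ofNat 2, Int.negSucc 1, Int.ofNat 0, Int.ofNat 2, Int.ofNat 2, Int.negSucc 1, Int.ofNat 2, Int.ofNat 0, Int.ofNat 0, Int.ofNat 0, Int.ofNat 0, Int.ofNat 0, Int.ofNat 0, Int.ofNat 0, Int.ofNat 0],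
  [Int.ofNat 0, Int.ofNat 0, Int.ofNat 0, Int.ofNat 0, Int.ofNat 2, Int.ofNat 0, Int.ofNat 0, Int.ofNat 0, Int.ofNat 0, Int.ofNat 2, Int.ofNat 2, Int.ofNat 0, Int.ofNat 0, Int.ofNat 2, Int.ofNat 0, Int.ofNat 2, Int.ofNat 2, Int.ofNat 0, Int.ofNat 0, Int.ofNat 0, Int.negSucc 1, Int.ofNat 0, Int.negSucc 1, Int.ofNat 0],
  [Int.ofNat 0, Int.ofNat 0, Int.ofNat 0, Int.ofNat 0, Int.ofNat 0, Int.ofNat 0, Int.ofNat 0, Int.ofNat 0, Int.ofNat 0, Int.ofNat 0, Int.ofNat 0, Int.ofNat 0, Int.ofNat 0, Int.ofNat 0, Int.ofNat 0, Int.ofNat 0, Int.ofNat 0, Int.ofNat 0, Int.ofNat 0, Int.ofNat 0, Int.negSucc 3, Int.ofNat 0, Int.negSucc 3, Int.ofNat 0],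
  [Int.negSucc 3, Int.ofNat 0, Int.negSucc 3, Int.ofNat 0, Int.ofNat 0, Int.ofNat 0, Int.ofNat 0, Int.ofNat 0, Int.ofNat 0, Int.ofNat 0, Int.ofNat 0, Int.ofNat 0, Int.ofNat 0, Int.ofNat 0, Int.ofNat 0, Int.ofNat 0, Int.ofNat 0, Int.ofNat 0, Int.ofNat 0, Int.ofNat 0, Int.ofNat 0, Int.ofNat 0, Int.ofNat 0, Int.ofNat 0],
  [Int.ofNat 0, Int.negSucc 3, Int.ofNat 0, Int.ofNat 0, Int.ofNat 0, Int.ofNat 0, Int.ofNat 0, Int.ofNat 0, Int.ofNat 0, Int.ofNat 0, Int.ofNat 0, Int.ofNat 0, Int.ofNat 0, Int.ofNat 0, Int.ofNat 0, Int.ofNat 0, Int.ofNat 0, Int.ofNat 0, Int.ofNat 0, Int.ofNat 0, Int.ofNat 0, Int.ofNat 0, Int.ofNat 0, Int.negSucc 3],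
  [Int.negSucc 3, Int.ofNat 0, Int.ofNat 0, Int.ofNat 0, Int.ofNat 0, Int.ofNat 0, Int.ofNat 0, Int.ofNat 0, Int.ofNat 0, Int.ofNat 0, Int.ofNat 0, Int.ofNat 0, Int.ofNat 0, Int.ofNat 0, Int.ofNat 0, Int.ofNat 0, Int.ofNat 0, Int.ofNat 0, Int.ofNat 0, Int.ofNat 0, Int.ofNat 0, Int.ofNat 0, Int.ofNat 0, Int.negSucc 3],
  [Int.ofNat 4, Int.ofNat 0, Int.ofNat 0, Int.ofNat 0, Int.ofNat 0, Int.ofNat 0, Int.ofNat 0, Int.ofNat 0, Int.ofNat 0, Int.ofNat 0, Int.ofNat 0, Int.ofNat 0, Int.ofNat 0, Int.ofNat 0, Int.ofNat 0, Int.ofNat 0, Int.ofNat 0, Int.ofNat 0, Int.ofNat 0, Int.ofNat 0, Int.ofNat 0, Int.ofNat 0, Int.ofNat 0, Int.negSucc 3],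
  [Int.negSucc 3, Int.ofNat 0, Int.ofNat 0, Int.ofNat 0, Int.ofNat 0, Int.ofNat 0, Int.ofNat 0, Int.ofNat 0, Int.ofNat 0, Int.ofNat 0, Int.ofNat 0, Int.ofNat 0, Int.ofNat 0, Int.ofNat 0, Int.ofNat 0, Int.ofNat 0, Int.ofNat 0, Int.ofNat 0, Int.ofNat 0, Int.ofNat 0, Int.ofNat 0, Int.ofNat 0, Int.ofNat 0, Int.negSucc 3],
  [Int.negSucc 3, Int.ofNat 0, Int.ofNat 0, Int.ofNat 0, Int.ofNat 0, Int.ofNat 0, Int.ofNat 0, Int.ofNat 0, Int.ofNat 0, Int.ofNat 0, Int.ofNat 0, Int.ofNat 0, Int.ofNat 0, Int.ofNat 0, Int.ofNat 0, Int.ofNat 0, Int.ofNat 0, Int.ofNat 0, Int.ofNat 0, Int.ofNat 0, Int.ofNat 0, Int.ofNat 0, Int.ofNat 0, Int.negSucc 3],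
  [Int.ofNat 4, Int.ofNat 0, Int.ofNat 0, Int.ofNat 0, Int.ofNat 0, Int.ofNat 0, Int.ofNat 0, Int.ofNat 0, Int.ofNat 0, Int.ofNat 0, Int.ofNat 0, Int.ofNat 0, Int.ofNat 0, Int.ofNat 0, Int.ofNat 0, Int.ofNat 0, Int.ofNat 0, Int.ofNat 0, Int.ofNat 0, Int.ofNat 0, Int.ofNat 0, Int.ofNat 0, Int.ofNat 0, Int.negSucc 3],
  [Int.ofNat 0, Int.ofNat 4, Int.ofNat 0, Int.ofNat 0, Int.ofNat 0, Int.ofNat 0, Int.ofNat 0, Int.ofNat 0, Int.ofNat 0, Int.ofNat 0, Int.ofNat 0, Int.ofNat 0, Int.ofNat 0, Int.ofNat 0, Int.ofNat 0, Int.ofNat 0, Int.ofNat 0, Int.ofNat 0, Int.ofNat 0, Int.ofNat 0, Int.ofNat 0, Int.ofNat 0, Int.ofNat 0, Int.negSucc 3],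
  [Int.ofNat 0, Int.negSucc 3, Int.ofNat 0, Int.ofNat 0, Int.ofNat 0, Int.ofNat 0, Int.ofNat 0, Int.ofNat 0, Int.ofNat 0, Int.ofNat 0, Int.ofNat 0, Int.ofNat 0, Int.ofNat 0, Int.ofNat 0, Int.ofNat 0, Int.ofNat 0, Int.ofNat 0, Int.ofNat 0, Int.ofNat 0, Int.ofNat 0, Int.ofNat 0, Int.ofNat 0, Int.ofNat 0, Int.ofNat 4],
  [Int.ofNat 0, Int.ofNat 0, Int.ofNat 0, Int.ofNat 0, Int.ofNat 0, Int.ofNat 0, Int.ofNat 0, Int.ofNat 0, Int.ofNat 0, Int.ofNat 0, Int.ofNat 0, Int.ofNat 0, Int.ofNat 0, Int.ofNat 0, Int.ofNat 0, Int.ofNat 0, Int.ofNat 0, Int.ofNat 0, Int.ofNat 0, Int.ofNat 0, Int.ofNat 0, Int.negSucc 3, Int.ofNat 0, Int.ofNat 4],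
  [Int.ofNat 2, Int.ofNat 2, Int.ofNat 2, Int.ofNat 0, Int.ofNat 0, Int.ofNat 0, Int.ofNat 2, Int.ofNat 2, Int.ofNat 0, Int.ofNat 0, Int.ofNat 0, Int.ofNat 0, Int.ofNat 0, Int.ofNat 0, Int.ofNat 0, Int.ofNat 0, Int.ofNat 0, Int.ofNat 0, Int.ofNat 0, Int.ofNat 2, Int.ofNat 0, Int.negSucc 1, Int.ofNat 0, Int.negSucc 1],
  [Int.ofNat 2, Int.ofNat 2, Int.ofNat 0, Int.ofNat 0, Int.ofNat 0, Int.ofNat 2, Int.ofNat 2, Int.ofNat 0, Int.ofNat 0, Int.ofNat 0, Int.ofNat 0, Int.ofNat 0, Int.ofNat 0, Int.ofNat 0, Int.ofNat 0, Int.ofNat 0, Int.ofNat 0, Int.ofNat 0, Int.ofNat 2, Int.ofNat 0, Int.negSucc 1, Int.ofNat 0, Int.ofNat 2, Int.negSucc 1],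
  [Int.negSucc 0, Int.negSucc 0, Int.ofNat 1, Int.negSucc 0, Int.negSucc 0, Int.ofNat 1, Int.ofNat 1, Int.negSucc 0, Int.negSucc 0, Int.ofNat 1, Int.ofNat 1, Int.negSucc 0, Int.negSucc 0, Int.negSucc 0, Int.negSucc 0, Int.ofNat 1, Int.negSucc 0, Int.negSucc 0, Int.ofNat 1, Int.negSucc 0, Int.negSucc 0, Int.negSucc 0, Int.ofNat 1, Int.ofNat 3],
  [Int.negSucc 0, Int.negSucc 0, Int.negSucc 0, Int.negSucc 0, Int.negSucc 0, Int.negSucc 0, Int.negSucc 0, Int.negSucc 0, Int.negSucc 0, Int.negSucc 0, Int.negSucc 0, Int.negSucc 0, Int.negSucc 0, Int.negSucc 0, Int.negSucc 0, Int.negSucc 0, Int.negSucc 0, Int.negSucc 0, Int.negSucc 0, Int.negSucc 0, Int.negSucc 0, Int.negSucc 0, Int.negSucc 0, Int.ofNat 3],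
  [Int.negSucc 0, Int.negSucc 0, Int.negSucc 0, Int.negSucc 0, Int.negSucc 0, Int.negSucc 0, Int.negSucc 0, Int.negSucc 0, Int.negSucc 0, Int.negSucc 0, Int.negSucc 0, Int.negSucc 0, Int.negSucc 0, Int.negSucc 0, Int.negSucc 0, Int.negSucc 0, Int.negSucc 0, Int.negSucc 0, Int.negSucc 0, Int.negSucc 0, Int.negSucc 0, Int.negSucc 0, Int.negSucc 0, Int.ofNat 3],
  [Int.ofNat 3, Int.negSucc 0, Int.negSucc 0, Int.negSucc 0, Int.negSucc 0, Int.negSucc 0, Int.negSucc 0, Int.negSucc 0, Int.negSucc 0, Int.negSucc 0, Int.negSucc 0, Int.negSucc 0, Int.negSucc 0, Int.negSucc 0, Int.negSucc 0, Int.negSucc 0, Int.negSucc 0, Int.negSucc 0, Int.negSucc 0, Int.negSucc 0, Int.negSucc 0, Int.negSucc 0, Int.negSucc 0, Int.negSucc 0],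
  [Int.negSucc 2, Int.negSucc 0, Int.ofNat 1, Int.negSucc 0, Int.negSucc 0, Int.negSucc 0, Int.negSucc 0, Int.ofNat 1, Int.negSucc 0, Int.ofNat 1, Int.ofNat 1, Int.ofNat 1, Int.negSucc 0, Int.negSucc 0, Int.negSucc 0, Int.negSucc 0, Int.negSucc 0, Int.negSucc 0, Int.ofNat 1, Int.negSucc 0, Int.negSucc 0, Int.ofNat 1, Int.negSucc 0, Int.negSucc 0],
  [Int.negSucc 0, Int.negSucc 2, Int.negSucc 0, Int.ofNat 1, Int.negSucc 0, Int.negSucc 0, Int.negSucc 0, Int.negSucc 0, Int.ofNat 1, Int.negSucc 0, Int.ofNat 1, Int.ofNat 1, Int.ofNat 1, Int.negSucc 0, Int.negSucc 0, Int.negSucc 0, Int.negSucc 0, Int.negSucc 0, Int.negSucc 0, Int.ofNat 1, Int.negSucc 0, Int.negSucc 0, Int.ofNat 1, Int.negSucc 0],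
  [Int.negSucc 1, Int.ofNat 0, Int.negSucc 1, Int.ofNat 2, Int.ofNat 0, Int.ofNat 0, Int.ofNat 0, Int.ofNat 0, Int.ofNat 0, Int.ofNat 0, Int.ofNat 2, Int.ofNat 0, Int.ofNat 0, Int.ofNat 0, Int.ofNat 0, Int.ofNat 0, Int.ofNat 0, Int.ofNat 0, Int.negSucc 1, Int.ofNat 2, Int.ofNat 0, Int.ofNat 0, Int.ofNat 2, Int.negSucc 1],
  [Int.ofNat 2, Int.ofNat 0, Int.ofNat 0, Int.ofNat 0, Int.ofNat 0, Int.ofNat 0, Int.ofNat 0, Int.ofNat 2, Int.ofNat 0, Int.ofNat 0, Int.ofNat 0, Int.ofNat 0, Int.ofNat 0, Int.ofNat 0, Int.ofNat 0, Int.negSucc 1, Int.ofNat 2, Int.ofNat 0, Int.ofNat 0, Int.ofNat 2, Int.negSucc 1, Int.ofNat 0, Int.negSucc 1, Int.negSucc 1],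
  [Int.negSucc 1, Int.ofNat 0, Int.ofNat 0, Int.ofNat 0, Int.ofNat 0, Int.ofNat 0, Int.negSucc 1, Int.ofNat 0, Int.ofNat 0, Int.ofNat 2, Int.ofNat 2, Int.ofNat 0, Int.ofNat 0, Int.ofNat 0, Int.ofNat 0, Int.ofNat 0, Int.ofNat 2, Int.ofNat 0, Int.ofNat 0, Int.ofNat 0, Int.ofNat 0, Int.negSucc 1, Int.negSucc 1, Int.ofNat 2],
  [Int.negSucc 1, Int.negSucc 1, Int.ofNat 0, Int.ofNat 0, Int.ofNat 0, Int.ofNat 0, Int.ofNat 0, Int.ofNat 2, Int.ofNat 0, Int.ofNat 0, Int.ofNat 0, Int.ofNat 0, Int.ofNat 2, Int.ofNat 2, Int.negSucc 1, Int.ofNat 0, Int.ofNat 0, Int.ofNat 0, Int.ofNat 0, Int.ofNat 0, Int.negSucc 1, Int.ofNat 0, Int.ofNat 0, Int.ofNat 2],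
  [Int.ofNat 1, Int.ofNat 1, Int.negSucc 0, Int.ofNat 1, Int.negSucc 0, Int.ofNat 1, Int.negSucc 0, Int.ofNat 1, Int.negSucc 0, Int.ofNat 1, Int.ofNat 1, Int.negSucc 0, Int.ofNat 1, Int.ofNat 1, Int.negSucc 0, Int.ofNat 1, Int.negSucc 0, Int.ofNat 1, Int.negSucc 0, Int.negSucc 0, Int.negSucc 0, Int.negSucc 0, Int.negSucc 0, Int.negSucc 2],
  [Int.ofNat 1, Int.ofNat 1, Int.ofNat 1, Int.ofNat 1, Int.negSucc 0, Int.negSucc 0, Int.ofNat 1, Int.ofNat 1, Int.negSucc 0, Int.negSucc 0, Int.negSucc 0, Int.negSucc 0, Int.ofNat 1, Int.ofNat 1, Int.negSucc 0, Int.negSucc 0, Int.negSucc 0, Int.ofNat 1, Int.ofNat 1, Int.negSucc 0, Int.negSucc 0, Int.negSucc 0, Int.ofNat 1, Int.negSucc 2],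
  [Int.negSucc 0, Int.negSucc 0, Int.ofNat 1, Int.ofNat 1, Int.ofNat 1, Int.negSucc 0, Int.ofNat 1, Int.negSucc 0, Int.negSucc 0, Int.ofNat 1, Int.ofNat 1, Int.ofNat 1, Int.negSucc 0, Int.negSucc 0, Int.ofNat 1, Int.negSucc 0, Int.negSucc 0, Int.negSucc 0, Int.ofNat 1, Int.negSucc 0, Int.negSucc 0, Int.ofNat 1, Int.ofNat 1, Int.negSucc 2],
  [Int.negSucc 0, Int.negSucc 0, Int.negSucc 0, Int.ofNat 1, Int.ofNat 1, Int.ofNat 1, Int.negSucc 0, Int.negSucc 0, Int.negSucc 0, Int.negSucc 0, Int.negSucc 0, Int.ofNat 1, Int.negSucc 0, Int.negSucc 0, Int.ofNat 1, Int.ofNat 1, Int.negSucc 0, Int.negSucc 0, Int.negSucc 0, Int.negSucc 0, Int.negSucc 0, Int.ofNat 1, Int.negSucc 0, Int.negSucc 2],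
  [Int.negSucc 1, Int.negSucc 1, Int.negSucc 1, Int.ofNat 0, Int.ofNat 2, Int.ofNat 0, Int.ofNat 0, Int.ofNat 0, Int.ofNat 0, Int.ofNat 0, Int.ofNat 0, Int.ofNat 2, Int.ofNat 0, Int.ofNat 0, Int.ofNat 0, Int.ofNat 2, Int.ofNat 0, Int.negSucc 1, Int.ofNat 0, Int.ofNat 0, Int.ofNat 0, Int.ofNat 2, Int.ofNat 0, Int.ofNat 0],
  [Int.negSucc 1, Int.ofNat 0, Int.ofNat 0, Int.ofNat 0, Int.negSucc 1, Int.ofNat 2, Int.negSucc 1, Int.ofNat 0, Int.ofNat 0, Int.ofNat 0, Int.ofNat 0, Int.ofNat 0, Int.ofNat 0, Int.ofNat 0, Int.negSucc 1, Int.ofNat 2, Int.ofNat 0, Int.ofNat 2, Int.ofNat 2, Int.ofNat 0, Int.ofNat 0, Int.ofNat 0, Int.ofNat 0, Int.ofNat 0],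
  [Int.ofNat 1, Int.negSucc 0, Int.negSucc 0, Int.negSucc 0, Int.negSucc 0, Int.ofNat 1, Int.negSucc 0, Int.ofNat 1, Int.negSucc 0, Int.negSucc 0, Int.negSucc 0, Int.negSucc 0, Int.negSucc 0, Int.ofNat 1, Int.negSucc 2, Int.ofNat 1, Int.ofNat 1, Int.ofNat 1, Int.ofNat 1, Int.ofNat 1, Int.negSucc 0, Int.ofNat 1, Int.ofNat 1, Int.negSucc 0],
  [Int.negSucc 0, Int.ofNat 1, Int.ofNat 1, Int.ofNat 1, Int.negSucc 0, Int.negSucc 0, Int.negSucc 0, Int.negSucc 0, Int.ofNat 1, Int.negSucc 0, Int.ofNat 1, Int.negSucc 0, Int.negSucc 0, Int.negSucc 0, Int.negSucc 0, Int.negSucc 0, Int.ofNat 1, Int.negSucc 2, Int.ofNat 1, Int.ofNat 1, Int.ofNat 1, Int.ofNat 1, Int.ofNat 1, Int.negSucc 0],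
  [Int.ofNat 1, Int.negSucc 0, Int.negSucc 0, Int.ofNat 3, Int.negSucc 0, Int.ofNat 1, Int.negSucc 0, Int.negSucc 0, Int.ofNat 1, Int.negSucc 0, Int.ofNat 1, Int.negSucc 0, Int.negSucc 0, Int.negSucc 0, Int.ofNat 1, Int.negSucc 0, Int.ofNat 1, Int.negSucc 0, Int.ofNat 1, Int.ofNat 1, Int.ofNat 1, Int.ofNat 1, Int.ofNat 1, Int.ofNat 1],
  [Int.negSucc 0, Int.negSucc 0, Int.ofNat 3, Int.negSucc 0, Int.ofNat 1, Int.negSucc 0, Int.negSucc 0, Int.ofNat 1, Int.negSucc 0, Int.ofNat 1, Int.negSucc 0, Int.negSucc 0, Int.negSucc 0, Int.ofNat 1, Int.negSucc 0, Int.ofNat 1, Int.negSucc 0, Int.ofNat 1, Int.ofNat 1, Int.ofNat 1, Int.ofNat 1, Int.ofNat 1, Int.ofNat 1, Int.ofNat 1],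
  [Int.ofNat 1, Int.negSucc 0, Int.negSucc 2, Int.negSucc 0, Int.ofNat 1, Int.negSucc 0, Int.negSucc 0, Int.negSucc 0, Int.negSucc 0, Int.negSucc 0, Int.ofNat 1, Int.ofNat 1, Int.negSucc 0, Int.ofNat 1, Int.negSucc 0, Int.ofNat 1, Int.negSucc 0, Int.ofNat 1, Int.negSucc 0, Int.ofNat 1, Int.ofNat 1, Int.negSucc 0, Int.ofNat 1, Int.ofNat 1],
  [Int.negSucc 0, Int.ofNat 1, Int.ofNat 3, Int.ofNat 1, Int.negSucc 0, Int.negSucc 0, Int.ofNat 1, Int.negSucc 0, Int.ofNat 1, Int.ofNat 1, Int.ofNat 1, Int.ofNat 1, Int.ofNat 1, Int.negSucc 0, Int.negSucc 0, Int.ofNat 1, Int.ofNat 1, Int.ofNat 1, Int.ofNat 1, Int.ofNat 1, Int.ofNat 1, Int.negSucc 0, Int.ofNat 1, Int.ofNat 1],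
  [Int.negSucc 0, Int.ofNat 3, Int.ofNat 1, Int.ofNat 1, Int.ofNat 1, Int.ofNat 1, Int.negSucc 0, Int.ofNat 1, Int.ofNat 1, Int.ofNat 1, Int.negSucc 0, Int.negSucc 0, Int.negSucc 0, Int.ofNat 1, Int.ofNat 1, Int.ofNat 1, Int.ofNat 1, Int.ofNat 1, Int.ofNat 1, Int.ofNat 1, Int.negSucc 0, Int.negSucc 0, Int.ofNat 1, Int.ofNat 1],
  [Int.ofNat 1, Int.ofNat 3, Int.negSucc 0, Int.ofNat 1, Int.ofNat 1, Int.ofNat 1, Int.negSucc 0, Int.negSucc 0, Int.ofNat 1, Int.negSucc 0, Int.ofNat 1, Int.ofNat 1, Int.negSucc 0, Int.ofNat 1, Int.ofNat 1, Int.ofNat 1, Int.ofNat 1, Int.ofNat 1, Int.negSucc 0, Int.ofNat 1, Int.negSucc 0, Int.ofNat 1, Int.ofNat 1, Int.ofNat 1],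
  [Int.ofNat 1, Int.ofNat 1, Int.ofNat 3, Int.negSucc 0, Int.ofNat 1, Int.ofNat 1, Int.ofNat 1, Int.negSucc 0, Int.negSucc 0, Int.ofNat 1, Int.negSucc 0, Int.ofNat 1, Int.ofNat 1, Int.negSucc 0, Int.ofNat 1, Int.ofNat 1, Int.ofNat 1, Int.ofNat 1, Int.ofNat 1, Int.negSucc 0, Int.ofNat 1, Int.negSucc 0, Int.ofNat 1, Int.ofNat 1],
  [Int.ofNat 2, Int.ofNat 2, Int.ofNat 0, Int.negSucc 1, Int.ofNat 0, Int.ofNat 0, Int.ofNat 2, Int.ofNat 0, Int.negSucc 1, Int.ofNat 0, Int.negSucc 1, Int.ofNat 0, Int.ofNat 0, Int.negSucc 1, Int.ofNat 0, Int.ofNat 0, Int.ofNat 0, Int.ofNat 0, Int.ofNat 0, Int.ofNat 0, Int.ofNat 0, Int.ofNat 0, Int.ofNat 0, Int.ofNat 2],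
  [Int.negSucc 1, Int.ofNat 0, Int.ofNat 0, Int.ofNat 2, Int.ofNat 0, Int.negSucc 1, Int.ofNat 0, Int.negSucc 1, Int.ofNat 0, Int.ofNat 0, Int.negSucc 1, Int.ofNat 0, Int.ofNat 0, Int.ofNat 0, Int.ofNat 0, Int.ofNat 0, Int.ofNat 0, Int.ofNat 0, Int.ofNat 0, Int.ofNat 0, Int.ofNat 2, Int.ofNat 2, Int.ofNat 0, Int.ofNat 2],
  [Int.ofNat 2, Int.ofNat 0, Int.ofNat 0, Int.ofNat 2, Int.ofNat 0, Int.negSucc 1, Int.ofNat 0, Int.negSucc 1, Int.ofNat 0, Int.ofNat 0, Int.negSucc 1, Int.ofNat 0, Int.ofNat 0, Int.ofNat 0, Int.ofNat 0, Int.ofNat 0, Int.ofNat 0, Int.ofNat 0, Int.ofNat 0, Int.ofNat 0, Int.ofNat 2, Int.ofNat 2, Int.ofNat 0, Int.negSucc 1],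
  [Int.ofNat 2, Int.ofNat 0, Int.ofNat 0, Int.ofNat 2, Int.ofNat 0, Int.negSucc 1, Int.ofNat 0, Int.negSucc 1, Int.ofNat 0, Int.ofNat 0, Int.ofNat 2, Int.ofNat 0, Int.ofNat 0, Int.ofNat 0, Int.ofNat 0, Int.ofNat 0, Int.ofNat 0, Int.ofNat 0, Int.ofNat 0, Int.ofNat 0, Int.ofNat 2, Int.negSucc 1, Int.ofNat 0, Int.negSucc 1],
  [Int.negSucc 1, Int.ofNat 0, Int.ofNat 0, Int.ofNat 2, Int.ofNat 0, Int.negSucc 1, Int.ofNat 2, Int.ofNat 0, Int.ofNat 0, Int.negSucc 1, Int.ofNat 0, Int.ofNat 0, Int.ofNat 0, Int.ofNat 0, Int.ofNat 0, Int.negSucc 1, Int.ofNat 0, Int.ofNat 0, Int.ofNat 0, Int.ofNat 2, Int.ofNat 0, Int.ofNat 0, Int.ofNat 0, Int.ofNat 2],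
  [Int.negSucc 1, Int.ofNat 0, Int.ofNat 0, Int.ofNat 2, Int.ofNat 0, Int.ofNat 2, Int.negSucc 1, Int.ofNat 0, Int.ofNat 0, Int.ofNat 2, Int.ofNat 0, Int.ofNat 0, Int.ofNat 0, Int.ofNat 0, Int.ofNat 0, Int.ofNat 2, Int.ofNat 0, Int.ofNat 0, Int.ofNat 0, Int.ofNat 2, Int.ofNat 0, Int.ofNat 0, Int.ofNat 0, Int.ofNat 2],
  [Int.ofNat 0, Int.ofNat 0, Int.ofNat 0, Int.ofNat 0, Int.ofNat 0, Int.negSucc 1, Int.ofNat 0, Int.ofNat 2, Int.ofNat 2, Int.ofNat 0, Int.ofNat 0, Int.ofNat 0, Int.ofNat 2, Int.ofNat 0, Int.ofNat 0, Int.ofNat 0, Int.ofNat 2, Int.ofNat 0, Int.ofNat 2, Int.ofNat 0, Int.negSucc 1, Int.ofNat 0, Int.ofNat 0, Int.ofNat 2],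
  [Int.ofNat 2, Int.ofNat 0, Int.ofNat 0, Int.ofNat 0, Int.ofNat 0, Int.ofNat 0, Int.ofNat 0, Int.ofNat 0, Int.negSucc 1, Int.negSucc 1, Int.ofNat 2, Int.ofNat 0, Int.ofNat 0, Int.ofNat 2, Int.ofNat 2, Int.ofNat 0, Int.ofNat 0, Int.ofNat 0, Int.ofNat 0, Int.ofNat 0, Int.ofNat 2, Int.ofNat 2, Int.ofNat 0, Int.ofNat 0],
  [Int.negSucc 1, Int.ofNat 0, Int.ofNat 0, Int.ofNat 0, Int.ofNat 0, Int.ofNat 0, Int.ofNat 0, Int.ofNat 0, Int.negSucc 1, Int.ofNat 2, Int.negSucc 1, Int.ofNat 0, Int.ofNat 0, Int.ofNat 2, Int.ofNat 2, Int.ofNat 0, Int.ofNat 0, Int.ofNat 0, Int.ofNat 0, Int.ofNat 0, Int.ofNat 2, Int.negSucc 1, Int.ofNat 0, Int.ofNat 0],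
  [Int.ofNat 0, Int.negSucc 1, Int.ofNat 0, Int.ofNat 0, Int.ofNat 0, Int.ofNat 0, Int.ofNat 0, Int.ofNat 0, Int.ofNat 0, Int.negSucc 1, Int.ofNat 2, Int.negSucc 1, Int.ofNat 0, Int.ofNat 0, Int.ofNat 2, Int.ofNat 2, Int.ofNat 0, Int.ofNat 0, Int.ofNat 0, Int.ofNat 0, Int.ofNat 0, Int.ofNat 2, Int.negSucc 1, Int.ofNat 0],
  [Int.negSucc 0, Int.ofNat 1, Int.negSucc 0, Int.negSucc 0, Int.ofNat 1, Int.negSucc 0, Int.negSucc 0, Int.negSucc 0, Int.ofNat 1, Int.negSucc 2, Int.ofNat 1, Int.negSucc 0, Int.ofNat 1, Int.ofNat 1, Int.ofNat 1, Int.ofNat 1, Int.ofNat 1, Int.negSucc 0, Int.ofNat 1, Int.negSucc 0, Int.negSucc 0, Int.ofNat 1, Int.negSucc 0, Int.negSucc 0],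
  [Int.negSucc 0, Int.ofNat 1, Int.negSucc 0, Int.negSucc 0, Int.negSucc 0, Int.ofNat 1, Int.negSucc 2, Int.ofNat 1, Int.negSucc 0, Int.ofNat 1, Int.ofNat 1, Int.ofNat 1, Int.ofNat 1, Int.ofNat 1, Int.negSucc 0, Int.ofNat 1, Int.negSucc 0, Int.negSucc 0, Int.ofNat 1, Int.negSucc 0, Int.negSucc 0, Int.ofNat 1, Int.negSucc 0, Int.negSucc 0],
  [Int.ofNat 0, Int.negSucc 1, Int.ofNat 0, Int.ofNat 0, Int.ofNat 0, Int.ofNat 2, Int.negSucc 1, Int.ofNat 2, Int.negSucc 1, Int.ofNat 0, Int.ofNat 0, Int.ofNat 0, Int.ofNat 0, Int.ofNat 2, Int.ofNat 0, Int.ofNat 0, Int.ofNat 0, Int.ofNat 0, Int.ofNat 0, Int.ofNat 0, Int.negSucc 1, Int.ofNat 2, Int.ofNat 0, Int.ofNat 0],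
  [Int.ofNat 0, Int.negSucc 1, Int.ofNat 0, Int.ofNat 0, Int.ofNat 0, Int.ofNat 2, Int.ofNat 0, Int.ofNat 0, Int.ofNat 0, Int.ofNat 2, Int.negSucc 1, Int.ofNat 0, Int.ofNat 0, Int.ofNat 0, Int.ofNat 0, Int.ofNat 0, Int.negSucc 1, Int.ofNat 0, Int.negSucc 1, Int.ofNat 0, Int.ofNat 2, Int.ofNat 2, Int.ofNat 0, Int.ofNat 0],
  [Int.negSucc 0, Int.ofNat 1, Int.negSucc 0, Int.negSucc 0, Int.ofNat 1, Int.ofNat 1, Int.negSucc 0, Int.negSucc 0, Int.ofNat 1, Int.ofNat 1, Int.negSucc 2, Int.ofNat 1, Int.ofNat 1, Int.ofNat 1, Int.negSucc 0, Int.negSucc 0, Int.negSucc 0, Int.negSucc 0, Int.negSucc 0, Int.negSucc 0, Int.ofNat 1, Int.ofNat 1, Int.ofNat 1, Int.negSucc 0],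
  [Int.negSucc 0, Int.ofNat 1, Int.ofNat 1, Int.negSucc 0, Int.ofNat 1, Int.negSucc 0, Int.ofNat 1, Int.negSucc 0, Int.ofNat 1, Int.negSucc 0, Int.ofNat 3, Int.ofNat 1, Int.ofNat 1, Int.ofNat 1, Int.negSucc 0, Int.ofNat 1, Int.negSucc 0, Int.negSucc 0, Int.ofNat 1, Int.negSucc 0, Int.ofNat 1, Int.ofNat 1, Int.negSucc 0, Int.negSucc 0],
  [Int.ofNat 1, Int.ofNat 1, Int.negSucc 0, Int.negSucc 0, Int.ofNat 1, Int.ofNat 3, Int.negSucc 0, Int.ofNat 1, Int.negSucc 0, Int.ofNat 1, Int.ofNat 1, Int.ofNat 1, Int.ofNat 1, Int.ofNat 1, Int.ofNat 1, Int.negSucc 0, Int.negSucc 0, Int.ofNat 1, Int.negSucc 0, Int.negSucc 0, Int.negSucc 0, Int.ofNat 1, Int.negSucc 0, Int.negSucc 0],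
  [Int.ofNat 1, Int.ofNat 1, Int.ofNat 1, Int.negSucc 0, Int.ofNat 1, Int.negSucc 2, Int.ofNat 1, Int.ofNat 1, Int.negSucc 0, Int.negSucc 0, Int.negSucc 0, Int.ofNat 1, Int.ofNat 1, Int.ofNat 1, Int.ofNat 1, Int.ofNat 1, Int.negSucc 0, Int.ofNat 1, Int.ofNat 1, Int.negSucc 0, Int.negSucc 0, Int.ofNat 1, Int.ofNat 1, Int.negSucc 0],
  [Int.ofNat 0, Int.ofNat 0, Int.ofNat 0, Int.ofNat 0, Int.ofNat 0, Int.negSucc 1, Int.ofNat 0, Int.ofNat 0, Int.negSucc 1, Int.ofNat 0, Int.ofNat 0, Int.ofNat 0, Int.ofNat 0, Int.ofNat 0, Int.ofNat 2, Int.ofNat 2, Int.negSucc 1, Int.ofNat 2, Int.ofNat 0, Int.negSucc 1, Int.ofNat 0, Int.ofNat 0, Int.ofNat 0, Int.ofNat 2],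
  [Int.ofNat 0, Int.ofNat 0, Int.ofNat 0, Int.ofNat 0, Int.ofNat 0, Int.ofNat 0, Int.ofNat 0, Int.negSucc 1, Int.negSucc 1, Int.ofNat 0, Int.ofNat 0, Int.negSucc 1, Int.negSucc 1, Int.ofNat 0, Int.ofNat 2, Int.ofNat 2, Int.ofNat 0, Int.ofNat 0, Int.ofNat 0, Int.ofNat 0, Int.ofNat 0, Int.ofNat 0, Int.ofNat 2, Int.ofNat 2],
  [Int.ofNat 1, Int.ofNat 1, Int.ofNat 1, Int.negSucc 0, Int.negSucc 0, Int.negSucc 0, Int.ofNat 1, Int.negSucc 0, Int.ofNat 1, Int.negSucc 0, Int.negSucc 0, Int.ofNat 1, Int.ofNat 1, Int.negSucc 0, Int.ofNat 1, Int.ofNat 1, Int.negSucc 0, Int.negSucc 0, Int.ofNat 3, Int.ofNat 1, Int.negSucc 0, Int.ofNat 1, Int.ofNat 1, Int.negSucc 0],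
  [Int.negSucc 0, Int.ofNat 1, Int.ofNat 1, Int.ofNat 1, Int.ofNat 1, Int.ofNat 1, Int.negSucc 0, Int.negSucc 0, Int.negSucc 0, Int.ofNat 1, Int.negSucc 0, Int.ofNat 1, Int.negSucc 0, Int.negSucc 0, Int.ofNat 1, Int.ofNat 1, Int.negSucc 0, Int.ofNat 1, Int.ofNat 1, Int.negSucc 0, Int.negSucc 0, Int.ofNat 3, Int.ofNat 1, Int.negSucc 0],
  [Int.ofNat 1, Int.negSucc 0, Int.negSucc 0, Int.negSucc 0, Int.ofNat 1, Int.negSucc 0, Int.negSucc 0, Int.negSucc 0, Int.negSucc 0, Int.ofNat 1, Int.negSucc 0, Int.ofNat 1, Int.negSucc 0, Int.negSucc 0, Int.negSucc 0, Int.ofNat 1, Int.negSucc 0, Int.negSucc 0, Int.ofNat 1, Int.negSucc 0, Int.negSucc 0, Int.ofNat 3, Int.ofNat 1, Int.ofNat 1],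
  [Int.negSucc 0, Int.negSucc 0, Int.negSucc 0, Int.ofNat 1, Int.negSucc 0, Int.negSucc 0, Int.negSucc 0, Int.negSucc 0, Int.ofNat 1, Int.negSucc 0, Int.ofNat 1, Int.negSucc 0, Int.negSucc 0, Int.negSucc 0, Int.ofNat 1, Int.negSucc 0, Int.negSucc 0, Int.ofNat 1, Int.negSucc 0, Int.negSucc 0, Int.ofNat 3, Int.ofNat 1, Int.ofNat 1, Int.ofNat 1],
  [Int.ofNat 1, Int.negSucc 0, Int.ofNat 1, Int.ofNat 1, Int.negSucc 0, Int.negSucc 0, Int.negSucc 0, Int.ofNat 1, Int.ofNat 1, Int.ofNat 1, Int.negSucc 0, Int.ofNat 1, Int.negSucc 0, Int.negSucc 0, Int.ofNat 1, Int.negSucc 0, Int.negSucc 0, Int.ofNat 1, Int.ofNat 1, Int.negSucc 0, Int.ofNat 3, Int.negSucc 0, Int.ofNat 1, Int.ofNat 1],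
  [Int.negSucc 0, Int.ofNat 1, Int.negSucc 0, Int.negSucc 0, Int.ofNat 1, Int.negSucc 0, Int.ofNat 1, Int.ofNat 1, Int.negSucc 0, Int.negSucc 0, Int.negSucc 0, Int.ofNat 1, Int.ofNat 1, Int.ofNat 1, Int.ofNat 1, Int.negSucc 0, Int.ofNat 1, Int.ofNat 1, Int.negSucc 0, Int.negSucc 0, Int.ofNat 3, Int.negSucc 0, Int.ofNat 1, Int.ofNat 1],
  [Int.negSucc 0, Int.negSucc 0, Int.negSucc 0, Int.negSucc 0, Int.ofNat 1, Int.negSucc 0, Int.ofNat 1, Int.ofNat 3, Int.negSucc 0, Int.ofNat 1, Int.negSucc 0, Int.ofNat 1, Int.ofNat 1, Int.negSucc 0, Int.negSucc 0, Int.negSucc 0, Int.ofNat 1, Int.ofNat 1, Int.ofNat 1, Int.ofNat 1, Int.negSucc 0, Int.ofNat 1, Int.ofNat 1, Int.ofNat 1],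
  [Int.ofNat 1, Int.negSucc 0, Int.ofNat 1, Int.negSucc 0, Int.ofNat 1, Int.negSucc 0, Int.ofNat 1, Int.negSucc 2, Int.negSucc 0, Int.negSucc 0, Int.ofNat 1, Int.negSucc 0, Int.ofNat 1, Int.negSucc 0, Int.negSucc 0, Int.negSucc 0, Int.ofNat 1, Int.ofNat 1, Int.negSucc 0, Int.ofNat 1, Int.negSucc 0, Int.negSucc 0, Int.ofNat 1, Int.ofNat 1],
  [Int.ofNat 1, Int.ofNat 1, Int.negSucc 0, Int.ofNat 1, Int.negSucc 0, Int.ofNat 1, Int.negSucc 0, Int.ofNat 1, Int.negSucc 2, Int.negSucc 0, Int.negSucc 0, Int.ofNat 1, Int.negSucc 0, Int.ofNat 1, Int.negSucc 0, Int.negSucc 0, Int.negSucc 0, Int.ofNat 1, Int.ofNat 1, Int.negSucc 0, Int.ofNat 1, Int.negSucc 0, Int.negSucc 0, Int.ofNat 1],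
  [Int.ofNat 0, Int.ofNat 0, Int.ofNat 2, Int.ofNat 0, Int.ofNat 0, Int.ofNat 0, Int.ofNat 0, Int.ofNat 2, Int.negSucc 1, Int.ofNat 0, Int.ofNat 0, Int.ofNat 2, Int.ofNat 0, Int.ofNat 2, Int.negSucc 1, Int.ofNat 0, Int.ofNat 0, Int.ofNat 0, Int.ofNat 2, Int.ofNat 0, Int.ofNat 2, Int.ofNat 0, Int.ofNat 0, Int.ofNat 0],
  [Int.ofNat 0, Int.ofNat 0, Int.ofNat 0, Int.ofNat 0, Int.ofNat 2, Int.negSucc 1, Int.ofNat 0, Int.ofNat 0, Int.ofNat 2, Int.ofNat 0, Int.ofNat 2, Int.negSucc 1, Int.ofNat 0, Int.ofNat 0, Int.ofNat 0, Int.ofNat 2, Int.ofNat 0, Int.ofNat 2, Int.ofNat 0, Int.ofNat 0, Int.ofNat 0, Int.ofNat 0, Int.ofNat 2, Int.ofNat 0],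
  [Int.ofNat 0, Int.ofNat 0, Int.ofNat 0, Int.ofNat 0, Int.ofNat 0, Int.negSucc 1, Int.ofNat 0, Int.ofNat 0, Int.ofNat 2, Int.negSucc 1, Int.ofNat 0, Int.negSucc 1, Int.ofNat 0, Int.negSucc 1, Int.ofNat 0, Int.ofNat 0, Int.negSucc 1, Int.ofNat 2, Int.ofNat 0, Int.ofNat 0, Int.negSucc 1, Int.ofNat 0, Int.ofNat 0, Int.ofNat 0],
  [Int.ofNat 0, Int.ofNat 0, Int.ofNat 0, Int.ofNat 0, Int.ofNat 0, Int.ofNat 0, Int.ofNat 0, Int.ofNat 0, Int.ofNat 0, Int.negSucc 1, Int.negSucc 1, Int.ofNat 2, Int.negSucc 1, Int.negSucc 1, Int.ofNat 0, Int.ofNat 0, Int.ofNat 2, Int.ofNat 0, Int.ofNat 0, Int.negSucc 1, Int.ofNat 0, Int.negSucc 1, Int.ofNat 0, Int.ofNat 0],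
  [Int.ofNat 0, Int.ofNat 0, Int.ofNat 0, Int.ofNat 0, Int.ofNat 0, Int.ofNat 0, Int.ofNat 2, Int.ofNat 2, Int.ofNat 0, Int.ofNat 0, Int.ofNat 0, Int.ofNat 2, Int.negSucc 1, Int.negSucc 1, Int.ofNat 0, Int.ofNat 2, Int.ofNat 2, Int.ofNat 0, Int.ofNat 0, Int.ofNat 0, Int.ofNat 2, Int.ofNat 0, Int.ofNat 0, Int.ofNat 0],
  [Int.ofNat 0, Int.ofNat 0, Int.ofNat 0, Int.ofNat 0, Int.ofNat 0, Int.ofNat 0, Int.negSucc 1, Int.ofNat 2, Int.ofNat 0, Int.ofNat 0, Int.ofNat 0, Int.ofNat 2, Int.negSucc 1, Int.negSucc 1, Int.ofNat 0, Int.negSucc 1, Int.ofNat 2, Int.ofNat 0, Int.ofNat 0, Int.ofNat 0, Int.ofNat 2, Int.ofNat 0, Int.ofNat 0, Int.ofNat 0],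
  [Int.ofNat 0, Int.ofNat 2, Int.ofNat 2, Int.ofNat 0, Int.ofNat 0, Int.negSucc 1, Int.ofNat 0, Int.ofNat 0, Int.ofNat 0, Int.ofNat 2, Int.negSucc 1, Int.ofNat 2, Int.negSucc 1, Int.ofNat 0, Int.ofNat 0, Int.ofNat 0, Int.ofNat 0, Int.negSucc 1, Int.ofNat 0, Int.ofNat 0, Int.ofNat 0, Int.ofNat 0, Int.ofNat 0, Int.ofNat 0],
  [Int.ofNat 0, Int.ofNat 0, Int.ofNat 2, Int.ofNat 0, Int.negSucc 1, Int.ofNat 2, Int.ofNat 0, Int.ofNat 0, Int.ofNat 0, Int.negSucc 1, Int.ofNat 0, Int.ofNat 2, Int.ofNat 0, Int.ofNat 0, Int.ofNat 0, Int.ofNat 0, Int.negSucc 1, Int.ofNat 0, Int.ofNat 0, Int.ofNat 0, Int.ofNat 0, Int.negSucc 1, Int.ofNat 2, Int.ofNat 0],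
  [Int.ofNat 0, Int.ofNat 0, Int.negSucc 1, Int.ofNat 0, Int.negSucc 1, Int.ofNat 2, Int.ofNat 0, Int.ofNat 0, Int.ofNat 0, Int.ofNat 2, Int.ofNat 0, Int.negSucc 1, Int.ofNat 0, Int.ofNat 0, Int.ofNat 0, Int.ofNat 0, Int.negSucc 1, Int.ofNat 0, Int.ofNat 0, Int.ofNat 0, Int.ofNat 0, Int.ofNat 2, Int.ofNat 2, Int.ofNat 0],
  [Int.ofNat 2, Int.ofNat 0, Int.ofNat 0, Int.negSucc 1, Int.ofNat 0, Int.negSucc 1, Int.ofNat 2, Int.ofNat 0, Int.ofNat 0, Int.ofNat 0, Int.ofNat 2, Int.ofNat 0, Int.negSucc 1, Int.ofNat 0, Int.ofNat 0, Int.ofNat 0, Int.ofNat 0, Int.negSucc 1, Int.ofNat 0, Int.ofNat 0, Int.ofNat 0, Int.ofNat 0, Int.ofNat 2, Int.ofNat 0],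
  [Int.negSucc 0, Int.ofNat 1, Int.ofNat 1, Int.ofNat 1, Int.negSucc 0, Int.ofNat 1, Int.ofNat 1, Int.negSucc 0, Int.ofNat 1, Int.negSucc 0, Int.ofNat 1, Int.ofNat 1, Int.negSucc 0, Int.negSucc 0, Int.ofNat 3, Int.negSucc 0, Int.negSucc 0, Int.ofNat 1, Int.ofNat 1, Int.negSucc 0, Int.negSucc 0, Int.negSucc 0, Int.ofNat 1, Int.ofNat 1],
  [Int.ofNat 1, Int.negSucc 0, Int.ofNat 1, Int.ofNat 1, Int.negSucc 0, Int.ofNat 1, Int.negSucc 0, Int.ofNat 1, Int.ofNat 1, Int.negSucc 0, Int.negSucc 0, Int.ofNat 3, Int.negSucc 0, Int.negSucc 0, Int.ofNat 1, Int.ofNat 1, Int.negSucc 0, Int.negSucc 0, Int.negSucc 0, Int.ofNat 1, Int.negSucc 0, Int.ofNat 1, Int.ofNat 1, Int.ofNat 1],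
  [Int.ofNat 0, Int.ofNat 2, Int.ofNat 0, Int.ofNat 0, Int.ofNat 0, Int.ofNat 0, Int.negSucc 1, Int.ofNat 0, Int.ofNat 0, Int.ofNat 0, Int.ofNat 0, Int.ofNat 2, Int.negSucc 1, Int.ofNat 0, Int.ofNat 0, Int.ofNat 2, Int.ofNat 0, Int.negSucc 1, Int.negSucc 1, Int.ofNat 0, Int.ofNat 0, Int.ofNat 0, Int.ofNat 2, Int.ofNat 0],
  [Int.ofNat 0, Int.negSucc 1, Int.ofNat 0, Int.ofNat 0, Int.negSucc 1, Int.ofNat 0, Int.ofNat 0, Int.ofNat 0, Int.negSucc 1, Int.ofNat 0, Int.ofNat 0, Int.negSucc 1, Int.ofNat 0, Int.ofNat 0, Int.ofNat 2, Int.ofNat 2, Int.ofNat 0, Int.ofNat 0, Int.ofNat 2, Int.ofNat 2, Int.ofNat 0, Int.ofNat 0, Int.ofNat 0, Int.ofNat 0],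
  [Int.negSucc 0, Int.ofNat 1, Int.negSucc 0, Int.negSucc 0, Int.negSucc 0, Int.negSucc 0, Int.negSucc 0, Int.negSucc 0, Int.negSucc 0, Int.negSucc 0, Int.negSucc 0, Int.negSucc 0, Int.ofNat 1, Int.ofNat 1, Int.ofNat 1, Int.ofNat 1, Int.ofNat 1, Int.negSucc 0, Int.ofNat 3, Int.ofNat 1, Int.negSucc 0, Int.negSucc 0, Int.ofNat 1, Int.negSucc 0],
  [Int.negSucc 0, Int.ofNat 1, Int.ofNat 1, Int.negSucc 0, Int.negSucc 0, Int.ofNat 1, Int.ofNat 1, Int.negSucc 0, Int.negSucc 0, Int.ofNat 1, Int.ofNat 1, Int.negSucc 0, Int.ofNat 1, Int.ofNat 1, Int.ofNat 1, Int.negSucc 0, Int.ofNat 1, Int.negSucc 0, Int.negSucc 2, Int.ofNat 1, Int.negSucc 0, Int.negSucc 0, Int.negSucc 0, Int.negSucc 0],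
  [Int.negSucc 0, Int.negSucc 0, Int.negSucc 0, Int.negSucc 0, Int.ofNat 1, Int.ofNat 1, Int.negSucc 0, Int.negSucc 0, Int.ofNat 1, Int.ofNat 1, Int.negSucc 2, Int.ofNat 1, Int.negSucc 0, Int.negSucc 0, Int.ofNat 1, Int.ofNat 1, Int.ofNat 1, Int.negSucc 0, Int.negSucc 0, Int.ofNat 1, Int.ofNat 1, Int.ofNat 1, Int.negSucc 0, Int.negSucc 0],
  [Int.negSucc 0, Int.negSucc 0, Int.ofNat 1, Int.negSucc 0, Int.ofNat 1, Int.negSucc 0, Int.ofNat 1, Int.negSucc 0, Int.ofNat 1, Int.negSucc 0, Int.ofNat 3, Int.ofNat 1, Int.negSucc 0, Int.negSucc 0, Int.ofNat 1, Int.negSucc 0, Int.ofNat 1, Int.negSucc 0, Int.ofNat 1, Int.ofNat 1, Int.ofNat 1, Int.ofNat 1, Int.ofNat 1, Int.negSucc 0],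
  [Int.ofNat 0, Int.ofNat 0, Int.negSucc 1, Int.ofNat 0, Int.ofNat 0, Int.ofNat 0, Int.ofNat 0, Int.negSucc 1, Int.ofNat 0, Int.negSucc 1, Int.ofNat 2, Int.ofNat 0, Int.negSucc 1, Int.negSucc 1, Int.ofNat 2, Int.negSucc 1, Int.ofNat 0, Int.ofNat 0, Int.ofNat 0, Int.ofNat 0, Int.ofNat 0, Int.ofNat 0, Int.ofNat 0, Int.ofNat 0],
  [Int.ofNat 0, Int.ofNat 0, Int.ofNat 0, Int.ofNat 0, Int.negSucc 1, Int.ofNat 0, Int.ofNat 0, Int.ofNat 0, Int.ofNat 0, Int.negSucc 1, Int.negSucc 1, Int.ofNat 0, Int.ofNat 0, Int.negSucc 1, Int.ofNat 0, Int.negSucc 1, Int.negSucc 1, Int.ofNat 0, Int.ofNat 0, Int.ofNat 0, Int.ofNat 2, Int.ofNat 0, Int.ofNat 2, Int.ofNat 0],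
  [Int.ofNat 0, Int.ofNat 0, Int.ofNat 0, Int.ofNat 0, Int.ofNat 0, Int.ofNat 0, Int.ofNat 0, Int.ofNat 0, Int.ofNat 0, Int.ofNat 0, Int.ofNat 0, Int.ofNat 0, Int.ofNat 0, Int.ofNat 0, Int.ofNat 0, Int.ofNat 0, Int.ofNat 0, Int.ofNat 0, Int.ofNat 0, Int.ofNat 0, Int.ofNat 4, Int.ofNat 0, Int.ofNat 4, Int.ofNat 0],
  [Int.ofNat 4, Int.ofNat 0, Int.ofNat 4, Int.ofNat 0, Int.ofNat 0, Int.ofNat 0, Int.ofNat 0, Int.ofNat 0, Int.ofNat 0, Int.ofNat 0, Int.ofNat 0, Int.ofNat 0, Int.ofNat 0, Int.ofNat 0, Int.ofNat 0, Int.ofNat 0, Int.ofNat 0, Int.ofNat 0, Int.ofNat 0, Int.ofNat 0, Int.ofNat 0, Int.ofNat 0, Int.ofNat 0, Int.ofNat 0],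
  [Int.ofNat 0, Int.ofNat 4, Int.ofNat 0, Int.ofNat 0, Int.ofNat 0, Int.ofNat 0, Int.ofNat 0, Int.ofNat 0, Int.ofNat 0, Int.ofNat 0, Int.ofNat 0, Int.ofNat 0, Int.ofNat 0, Int.ofNat 0, Int.ofNat 0, Int.ofNat 0, Int.ofNat 0, Int.ofNat 0, Int.ofNat 0, Int.ofNat 0, Int.ofNat 0, Int.ofNat 0, Int.ofNat 0, Int.ofNat 4],
  [Int.ofNat 4, Int.ofNat 0, Int.ofNat 0, Int.ofNat 0, Int.ofNat 0, Int.ofNat 0, Int.ofNat 0, Int.ofNat 0, Int.ofNat 0, Int.ofNat 0, Int.ofNat 0, Int.ofNat 0, Int.ofNat 0, Int.ofNat 0, Int.ofNat 0, Int.ofNat 0, Int.ofNat 0, Int.ofNat 0, Int.ofNat 0, Int.ofNat 0, Int.ofNat 0, Int.ofNat 0, Int.ofNat 0, Int.ofNat 4],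
  [Int.negSucc 3, Int.ofNat 0, Int.ofNat 0, Int.ofNat 0, Int.ofNat 0, Int.ofNat 0, Int.ofNat 0, Int.ofNat 0, Int.ofNat 0, Int.ofNat 0, Int.ofNat 0, Int.ofNat 0, Int.ofNat 0, Int.ofNat 0, Int.ofNat 0, Int.ofNat 0, Int.ofNat 0, Int.ofNat 0, Int.ofNat 0, Int.ofNat 0, Int.ofNat 0, Int.ofNat 0, Int.ofNat 0, Int.ofNat 4],
  [Int.ofNat 4, Int.ofNat 0, Int.ofNat 0, Int.ofNat 0, Int.ofNat 0, Int.ofNat 0, Int.ofNat 0, Int.ofNat 0, Int.ofNat 0, Int.ofNat 0, Int.ofNat 0, Int.ofNat 0, Int.ofNat 0, Int.ofNat 0, Int.ofNat 0, Int.ofNat 0, Int.ofNat 0, Int.ofNat 0, Int.ofNat 0, Int.ofNat 0, Int.ofNat 0, Int.ofNat 0, Int.ofNat 0, Int.ofNat 4],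
  [Int.ofNat 4, Int.ofNat 0, Int.ofNat 0, Int.ofNat 0, Int.ofNat 0, Int.ofNat 0, Int.ofNat 0, Int.ofNat 0, Int.ofNat 0, Int.ofNat 0, Int.ofNat 0, Int.ofNat 0, Int.ofNat 0, Int.ofNat 0, Int.ofNat 0, Int.ofNat 0, Int.ofNat 0, Int.ofNat 0, Int.ofNat 0, Int.ofNat 0, Int.ofNat 0, Int.ofNat 0, Int.ofNat 0, Int.ofNat 4],
  [Int.negSucc 3, Int.ofNat 0, Int.ofNat 0, Int.ofNat 0, Int.ofNat 0, Int.ofNat 0, Int.ofNat 0, Int.ofNat 0, Int.ofNat 0, Int.ofNat 0, Int.ofNat 0, Int.ofNat 0, Int.ofNat 0, Int.ofNat 0, Int.ofNat 0, Int.ofNat 0, Int.ofNat 0, Int.ofNat 0, Int.ofNat 0, Int.ofNat 0, Int.ofNat 0, Int.ofNat 0, Int.ofNat 0, Int.ofNat 4],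
  [Int.ofNat 0, Int.negSucc 3, Int.ofNat 0, Int.ofNat 0, Int.ofNat 0, Int.ofNat 0, Int.ofNat 0, Int.ofNat 0, Int.ofNat 0, Int.ofNat 0, Int.ofNat 0, Int.ofNat 0, Int.ofNat 0, Int.ofNat 0, Int.ofNat 0, Int.ofNat 0, Int.ofNat 0, Int.ofNat 0, Int.ofNat 0, Int.ofNat 0, Int.ofNat 0, Int.ofNat 0, Int.ofNat 0, Int.ofNat 4],
  [Int.ofNat 0, Int.ofNat 4, Int.ofNat 0, Int.ofNat 0, Int.ofNat 0, Int.ofNat 0, Int.ofNat 0, Int.ofNat 0, Int.ofNat 0, Int.ofNat 0, Int.ofNat 0, Int.ofNat 0, Int.ofNat 0, Int.ofNat 0, Int.ofNat 0, Int.ofNat 0, Int.ofNat 0, Int.ofNat 0, Int.ofNat 0, Int.ofNat 0, Int.ofNat 0, Int.ofNat 0, Int.ofNat 0, Int.negSucc 3],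
  [Int.ofNat 0, Int.ofNat 0, Int.ofNat 0, Int.ofNat 0, Int.ofNat 0, Int.ofNat 0, Int.ofNat 0, Int.ofNat 0, Int.ofNat 0, Int.ofNat 0, Int.ofNat 0, Int.ofNat 0, Int.ofNat 0, Int.ofNat 0, Int.ofNat 0, Int.ofNat 0, Int.ofNat 0, Int.ofNat 0, Int.ofNat 0, Int.ofNat 0, Int.ofNat 0, Int.ofNat 4, Int.ofNat 0, Int.negSucc 3],
  [Int.negSucc 1, Int.negSucc 1, Int.negSucc 1, Int.ofNat 0, Int.ofNat 0, Int.ofNat 0, Int.negSucc 1, Int.negSucc 1, Int.ofNat 0, Int.ofNat 0, Int.ofNat 0, Int.ofNat 0, Int.ofNat 0, Int.ofNat 0, Int.ofNat 0, Int.ofNat 0, Int.ofNat 0, Int.ofNat 0, Int.ofNat 0, Int.negSucc 1, Int.ofNat 0, Int.ofNat 2, Int.ofNat 0, Int.ofNat 2],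
  [Int.negSucc 1, Int.negSucc 1, Int.ofNat 0, Int.ofNat 0, Int.ofNat 0, Int.negSucc 1, Int.negSucc 1, Int.ofNat 0, Int.ofNat 0, Int.ofNat 0, Int.ofNat 0, Int.ofNat 0, Int.ofNat 0, Int.ofNat 0, Int.ofNat 0, Int.ofNat 0, Int.ofNat 0, Int.ofNat 0, Int.negSucc 1, Int.ofNat 0, Int.ofNat 2, Int.ofNat 0, Int.negSucc 1, Int.ofNat 2],
  [Int.ofNat 1, Int.ofNat 1, Int.negSucc 0, Int.ofNat 1, Int.ofNat 1, Int.negSucc 0, Int.negSucc 0, Int.ofNat 1, Int.ofNat 1, Int.negSucc 0, Int.negSucc 0, Int.ofNat 1, Int.ofNat 1, Int.ofNat 1, Int.ofNat 1, Int.negSucc 0, Int.ofNat 1, Int.ofNat 1, Int.negSucc 0, Int.ofNat 1, Int.ofNat 1, Int.ofNat 1, Int.negSucc 0, Int.negSucc 2],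
  [Int.ofNat 1, Int.ofNat 1, Int.ofNat 1, Int.ofNat 1, Int.ofNat 1, Int.ofNat 1, Int.ofNat 1, Int.ofNat 1, Int.ofNat 1, Int.ofNat 1, Int.ofNat 1, Int.ofNat 1, Int.ofNat 1, Int.ofNat 1, Int.ofNat 1, Int.ofNat 1, Int.ofNat 1, Int.ofNat 1, Int.ofNat 1, Int.ofNat 1, Int.ofNat 1, Int.ofNat 1, Int.ofNat 1, Int.negSucc 2],
  [Int.ofNat 1, Int.ofNat 1, Int.ofNat 1, Int.ofNat 1, Int.ofNat 1, Int.ofNat 1, Int.ofNat 1, Int.ofNat 1, Int.ofNat 1, Int.ofNat 1, Int.ofNat 1, Int.ofNat 1, Int.ofNat 1, Int.ofNat 1, Int.ofNat 1, Int.ofNat 1, Int.ofNat 1, Int.ofNat 1, Int.ofNat 1, Int.ofNat 1, Int.ofNat 1, Int.ofNat 1, Int.ofNat 1, Int.negSucc 2],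
  [Int.negSucc 2, Int.ofNat 1, Int.ofNat 1, Int.ofNat 1, Int.ofNat 1, Int.ofNat 1, Int.ofNat 1, Int.ofNat 1, Int.ofNat 1, Int.ofNat 1, Int.ofNat 1, Int.ofNat 1, Int.ofNat 1, Int.ofNat 1, Int.ofNat 1, Int.ofNat 1, Int.ofNat 1, Int.ofNat 1, Int.ofNat 1, Int.ofNat 1, Int.ofNat 1, Int.ofNat 1, Int.ofNat 1, Int.ofNat 1],
  [Int.ofNat 3, Int.ofNat 1, Int.negSucc 0, Int.ofNat 1, Int.ofNat 1, Int.ofNat 1, Int.ofNat 1, Int.negSucc 0, Int.ofNat 1, Int.negSucc 0, Int.negSucc 0, Int.negSucc 0, Int.ofNat 1, Int.ofNat 1, Int.ofNat 1, Int.ofNat 1, Int.ofNat 1, Int.ofNat 1, Int.negSucc 0, Int.ofNat 1, Int.ofNat 1, Int.negSucc 0, Int.ofNat 1, Int.ofNat 1],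
  [Int.ofNat 1, Int.ofNat 3, Int.ofNat 1, Int.negSucc 0, Int.ofNat 1, Int.ofNat 1, Int.ofNat 1, Int.ofNat 1, Int.negSucc 0, Int.ofNat 1, Int.negSucc 0, Int.negSucc 0, Int.negSucc 0, Int.ofNat 1, Int.ofNat 1, Int.ofNat 1, Int.ofNat 1, Int.ofNat 1, Int.ofNat 1, Int.negSucc 0, Int.ofNat 1, Int.ofNat 1, Int.negSucc 0, Int.ofNat 1],
  [Int.ofNat 2, Int.ofNat 0, Int.ofNat 2, Int.negSucc 1, Int.ofNat 0, Int.ofNat 0, Int.ofNat 0, Int.ofNat 0, Int.ofNat 0, Int.ofNat 0, Int.negSucc 1, Int.ofNat 0, Int.ofNat 0, Int.ofNat 0, Int.ofNat 0, Int.ofNat 0, Int.ofNat 0, Int.ofNat 0, Int.ofNat 2, Int.negSucc 1, Int.ofNat 0, Int.ofNat 0, Int.negSucc 1, Int.ofNat 2],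
  [Int.negSucc 1, Int.ofNat 0, Int.ofNat 0, Int.ofNat 0, Int.ofNat 0, Int.ofNat 0, Int.ofNat 0, Int.negSucc 1, Int.ofNat 0, Int.ofNat 0, Int.ofNat 0, Int.ofNat 0, Int.ofNat 0, Int.ofNat 0, Int.ofNat 0, Int.ofNat 2, Int.negSucc 1, Int.ofNat 0, Int.ofNat 0, Int.negSucc 1, Int.ofNat 2, Int.ofNat 0, Int.ofNat 2, Int.ofNat 2],
  [Int.ofNat 2, Int.ofNat 0, Int.ofNat 0, Int.ofNat 0, Int.ofNat 0, Int.ofNat 0, Int.ofNat 2, Int.ofNat 0, Int.ofNat 0, Int.negSucc 1, Int.negSucc 1, Int.ofNat 0, Int.ofNat 0, Int.ofNat 0, Int.ofNat 0, Int.ofNat 0, Int.negSucc 1, Int.ofNat 0, Int.ofNat 0, Int.ofNat 0, Int.ofNat 0, Int.ofNat 2, Int.ofNat 2, Int.negSucc 1],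
  [Int.ofNat 2, Int.ofNat 2, Int.ofNat 0, Int.ofNat 0, Int.ofNat 0, Int.ofNat 0, Int.ofNat 0, Int.negSucc 1, Int.ofNat 0, Int.ofNat 0, Int.ofNat 0, Int.ofNat 0, Int.negSucc 1, Int.negSucc 1, Int.ofNat 2, Int.ofNat 0, Int.ofNat 0, Int.ofNat 0, Int.ofNat 0, Int.ofNat 0, Int.ofNat 2, Int.ofNat 0, Int.ofNat 0, Int.negSucc 1],
  [Int.negSucc 0, Int.negSucc 0, Int.ofNat 1, Int.negSucc 0, Int.ofNat 1, Int.negSucc 0, Int.ofNat 1, Int.negSucc 0, Int.ofNat 1, Int.negSucc 0, Int.negSucc 0, Int.ofNat 1, Int.negSucc 0, Int.negSucc 0, Int.ofNat 1, Int.negSucc 0, Int.ofNat 1, Int.negSucc 0, Int.ofNat 1, Int.ofNat 1, Int.ofNat 1, Int.ofNat 1, Int.ofNat 1, Int.ofNat 3],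
  [Int.negSucc 0, Int.negSucc 0, Int.negSucc 0, Int.negSucc 0, Int.ofNat 1, Int.ofNat 1, Int.negSucc 0, Int.negSucc 0, Int.ofNat 1, Int.ofNat 1, Int.ofNat 1, Int.ofNat 1, Int.negSucc 0, Int.negSucc 0, Int.ofNat 1, Int.ofNat 1, Int.ofNat 1, Int.negSucc 0, Int.negSucc 0, Int.ofNat 1, Int.ofNat 1, Int.ofNat 1, Int.negSucc 0, Int.ofNat 3],
  [Int.ofNat 1, Int.ofNat 1, Int.negSucc 0, Int.negSucc 0, Int.negSucc 0, Int.ofNat 1, Int.negSucc 0, Int.ofNat 1, Int.ofNat 1, Int.negSucc 0, Int.negSucc 0, Int.negSucc 0, Int.ofNat 1, Int.ofNat 1, Int.negSucc 0, Int.ofNat 1, Int.ofNat 1, Int.ofNat 1, Int.negSucc 0, Int.ofNat 1, Int.ofNat 1, Int.negSucc 0, Int.negSucc 0, Int.ofNat 3],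
  [Int.ofNat 1, Int.ofNat 1, Int.ofNat 1, Int.negSucc 0, Int.negSucc 0, Int.negSucc 0, Int.ofNat 1, Int.ofNat 1, Int.ofNat 1, Int.ofNat 1, Int.ofNat 1, Int.negSucc 0, Int.ofNat 1, Int.ofNat 1, Int.negSucc 0, Int.negSucc 0, Int.ofNat 1, Int.ofNat 1, Int.ofNat 1, Int.ofNat 1, Int.ofNat 1, Int.negSucc 0, Int.ofNat 1, Int.ofNat 3],
  [Int.ofNat 2, Int.ofNat 2, Int.ofNat 2, Int.ofNat 0, Int.negSucc 1, Int.ofNat 0, Int.ofNat 0, Int.ofNat 0, Int.ofNat 0, Int.ofNat 0, Int.ofNat 0, Int.negSucc 1, Int.ofNat 0, Int.ofNat 0, Int.ofNat 0, Int.negSucc 1, Int.ofNat 0, Int.ofNat 2, Int.ofNat 0, Int.ofNat 0, Int.ofNat 0, Int.negSucc 1, Int.ofNat 0, Int.ofNat 0],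
  [Int.ofNat 2, Int.ofNat 0, Int.ofNat 0, Int.ofNat 0, Int.ofNat 2, Int.negSucc 1, Int.ofNat 2, Int.ofNat 0, Int.ofNat 0, Int.ofNat 0, Int.ofNat 0, Int.ofNat 0, Int.ofNat 0, Int.ofNat 0, Int.ofNat 2, Int.negSucc 1, Int.ofNat 0, Int.negSucc 1, Int.negSucc 1, Int.ofNat 0, Int.ofNat 0, Int.ofNat 0, Int.ofNat 0, Int.ofNat 0],
  [Int.negSucc 0, Int.ofNat 1, Int.ofNat 1, Int.ofNat 1, Int.ofNat 1, Int.negSucc 0, Int.ofNat 1, Int.negSucc 0, Int.ofNat 1, Int.ofNat 1, Int.ofNat 1, Int.ofNat 1, Int.ofNat 1, Int.negSucc 0, Int.ofNat 3, Int.negSucc 0, Int.negSucc 0, Int.negSucc 0, Int.negSucc 0, Int.negSucc 0, Int.ofNat 1, Int.negSucc 0, Int.negSucc 0, Int.ofNat 1],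
  [Int.ofNat 1, Int.negSucc 0, Int.negSucc 0, Int.negSucc 0, Int.ofNat 1, Int.ofNat 1, Int.ofNat 1, Int.ofNat 1, Int.negSucc 0, Int.ofNat 1, Int.negSucc 0, Int.ofNat 1, Int.ofNat 1, Int.ofNat 1, Int.ofNat 1, Int.ofNat 1, Int.negSucc 0, Int.ofNat 3, Int.negSucc 0, Int.negSucc 0, Int.negSucc 0, Int.negSucc 0, Int.negSucc 0, Int.ofNat 1],
  [Int.negSucc 0, Int.ofNat 1, Int.ofNat 1, Int.negSucc 2, Int.ofNat 1, Int.negSucc 0, Int.ofNat 1, Int.ofNat 1, Int.negSucc 0, Int.ofNat 1, Int.negSucc 0, Int.ofNat 1, Int.ofNat 1, Int.ofNat 1, Int.negSucc 0, Int.ofNat 1, Int.negSucc 0, Int.ofNat 1, Int.negSucc 0, Int.negSucc 0, Int.negSucc 0, Int.negSucc 0, Int.negSucc 0, Int.negSucc 0],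
  [Int.ofNat 1, Int.ofNat 1, Int.negSucc 2, Int.ofNat 1, Int.negSucc 0, Int.ofNat 1, Int.ofNat 1, Int.negSucc 0, Int.ofNat 1, Int.negSucc 0, Int.ofNat 1, Int.ofNat 1, Int.ofNat 1, Int.negSucc 0, Int.ofNat 1, Int.negSucc 0, Int.ofNat 1, Int.negSucc 0, Int.negSucc 0, Int.negSucc 0, Int.negSucc 0, Int.negSucc 0, Int.negSucc 0, Int.negSucc 0],
  [Int.negSucc 0, Int.ofNat 1, Int.ofNat 3, Int.ofNat 1, Int.negSucc 0, Int.ofNat 1, Int.ofNat 1, Int.ofNat 1, Int.ofNat 1, Int.ofNat 1, Int.negSucc 0, Int.negSucc 0, Int.ofNat 1, Int.negSucc 0, Int.ofNat 1, Int.negSucc 0, Int.ofNat 1, Int.negSucc 0, Int.ofNat 1, Int.negSucc 0, Int.negSucc 0, Int.ofNat 1, Int.negSucc 0, Int.negSucc 0],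
  [Int.ofNat 1, Int.negSucc 0, Int.negSucc 2, Int.negSucc 0, Int.ofNat 1, Int.ofNat 1, Int.negSucc 0, Int.ofNat 1, Int.negSucc 0, Int.negSucc 0, Int.negSucc 0, Int.negSucc 0, Int.negSucc 0, Int.ofNat 1, Int.ofNat 1, Int.negSucc 0, Int.negSucc 0, Int.negSucc 0, Int.negSucc 0, Int.negSucc 0, Int.negSucc 0, Int.ofNat 1, Int.negSucc 0, Int.negSucc 0],
  [Int.ofNat 1, Int.negSucc 2, Int.negSucc 0, Int.negSucc 0, Int.negSucc 0, Int.negSucc 0, Int.ofNat 1, Int.negSucc 0, Int.negSucc 0, Int.negSucc 0, Int.ofNat 1, Int.ofNat 1, Int.ofNat 1, Int.negSucc 0, Int.negSucc 0, Int.negSucc 0, Int.negSucc 0, Int.negSucc 0, Int.negSucc 0, Int.negSucc 0, Int.ofNat 1, Int.ofNat 1, Int.negSucc 0, Int.negSucc 0],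
  [Int.negSucc 0, Int.negSucc 2, Int.ofNat 1, Int.negSucc 0, Int.negSucc 0, Int.negSucc 0, Int.ofNat 1, Int.ofNat 1, Int.negSucc 0, Int.ofNat 1, Int.negSucc 0, Int.negSucc 0, Int.ofNat 1, Int.negSucc 0, Int.negSucc 0, Int.negSucc 0, Int.negSucc 0, Int.negSucc 0, Int.ofNat 1, Int.negSucc 0, Int.ofNat 1, Int.negSucc 0, Int.negSucc 0, Int.negSucc 0],
  [Int.negSucc 0, Int.negSucc 0, Int.negSucc 2, Int.ofNat 1, Int.negSucc 0, Int.negSucc 0, Int.negSucc 0, Int.ofNat 1, Int.ofNat 1, Int.negSucc 0, Int.ofNat 1, Int.negSucc 0, Int.negSucc 0, Int.ofNat 1, Int.negSucc 0, Int.negSucc 0, Int.negSucc 0, Int.negSucc 0, Int.negSucc 0, Int.ofNat 1, Int.negSucc 0, Int.ofNat 1, Int.negSucc 0, Int.negSucc 0],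
  [Int.negSucc 1, Int.negSucc 1, Int.ofNat 0, Int.ofNat 2, Int.ofNat 0, Int.ofNat 0, Int.negSucc 1, Int.ofNat 0, Int.ofNat 2, Int.ofNat 0, Int.ofNat 2, Int.ofNat 0, Int.ofNat 0, Int.ofNat 2, Int.ofNat 0, Int.ofNat 0, Int.ofNat 0, Int.ofNat 0, Int.ofNat 0, Int.ofNat 0, Int.ofNat 0, Int.ofNat 0, Int.ofNat 0, Int.negSucc 1],
  [Int.ofNat 2, Int.ofNat 0, Int.ofNat 0, Int.negSucc 1, Int.ofNat 0, Int.ofNat 2, Int.ofNat 0, Int.ofNat 2, Int.ofNat 0, Int.ofNat 0, Int.ofNat 2, Int.ofNat 0, Int.ofNat 0, Int.ofNat 0, Int.ofNat 0, Int.ofNat 0, Int.ofNat 0, Int.ofNat 0, Int.ofNat 0, Int.ofNat 0, Int.negSucc 1, Int.negSucc 1, Int.ofNat 0, Int.negSucc 1],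
  [Int.negSucc 1, Int.ofNat 0, Int.ofNat 0, Int.negSucc 1, Int.ofNat 0, Int.ofNat 2, Int.ofNat 0, Int.ofNat 2, Int.ofNat 0, Int.ofNat 0, Int.ofNat 2, Int.ofNat 0, Int.ofNat 0, Int.ofNat 0, Int.ofNat 0, Int.ofNat 0, Int.ofNat 0, Int.ofNat 0, Int.ofNat 0, Int.ofNat 0, Int.negSucc 1, Int.negSucc 1, Int.ofNat 0, Int.ofNat 2],
  [Int.negSucc 1, Int.ofNat 0, Int.ofNat 0, Int.negSucc 1, Int.ofNat 0, Int.ofNat 2, Int.ofNat 0, Int.ofNat 2, Int.ofNat 0, Int.ofNat 0, Int.negSucc 1, Int.ofNat 0, Int.ofNat 0, Int.ofNat 0, Int.ofNat 0, Int.ofNat 0, Int.ofNat 0, Int.ofNat 0, Int.ofNat 0, Int.ofNat 0, Int.negSucc 1, Int.ofNat 2, Int.ofNat 0, Int.ofNat 2],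
  [Int.ofNat 2, Int.ofNat 0, Int.ofNat 0, Int.negSucc 1, Int.ofNat 0, Int.ofNat 2, Int.negSucc 1, Int.ofNat 0, Int.ofNat 0, Int.ofNat 2, Int.ofNat 0, Int.ofNat 0, Int.ofNat 0, Int.ofNat 0, Int.ofNat 0, Int.ofNat 2, Int.ofNat 0, Int.ofNat 0, Int.ofNat 0, Int.negSucc 1, Int.ofNat 0, Int.ofNat 0, Int.ofNat 0, Int.negSucc 1],
  [Int.ofNat 2, Int.ofNat 0, Int.ofNat 0, Int.negSucc 1, Int.ofNat 0, Int.negSucc 1, Int.ofNat 2, Int.ofNat 0, Int.ofNat 0, Int.negSucc 1, Int.ofNat 0, Int.ofNat 0, Int.ofNat 0, Int.ofNat 0, Int.ofNat 0, Int.negSucc 1, Int.ofNat 0, Int.ofNat 0, Int.ofNat 0, Int.negSucc 1, Int.ofNat 0, Int.ofNat 0, Int.ofNat 0, Int.negSucc 1],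
  [Int.ofNat 0, Int.ofNat 0, Int.ofNat 0, Int.ofNat 0, Int.ofNat 0, Int.ofNat 2, Int.ofNat 0, Int.negSucc 1, Int.negSucc 1, Int.ofNat 0, Int.ofNat 0, Int.ofNat 0, Int.negSucc 1, Int.ofNat 0, Int.ofNat 0, Int.ofNat 0, Int.negSucc 1, Int.ofNat 0, Int.negSucc 1, Int.ofNat 0, Int.ofNat 2, Int.ofNat 0, Int.ofNat 0, Int.negSucc 1],
  [Int.negSucc 1, Int.ofNat 0, Int.ofNat 0, Int.ofNat 0, Int.ofNat 0, Int.ofNat 0, Int.ofNat 0, Int.ofNat 0, Int.ofNat 2, Int.ofNat 2, Int.negSucc 1, Int.ofNat 0, Int.ofNat 0, Int.negSucc 1, Int.negSucc 1, Int.ofNat 0, Int.ofNat 0, Int.ofNat 0, Int.ofNat 0, Int.ofNat 0, Int.negSucc 1, Int.negSucc 1, Int.ofNat 0, Int.ofNat 0],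
  [Int.ofNat 2, Int.ofNat 0, Int.ofNat 0, Int.ofNat 0, Int.ofNat 0, Int.ofNat 0, Int.ofNat 0, Int.ofNat 0, Int.ofNat 2, Int.negSucc 1, Int.ofNat 2, Int.ofNat 0, Int.ofNat 0, Int.negSucc 1, Int.negSucc 1, Int.ofNat 0, Int.ofNat 0, Int.ofNat 0, Int.ofNat 0, Int.ofNat 0, Int.negSucc 1, Int.ofNat 2, Int.ofNat 0, Int.ofNat 0],
  [Int.ofNat 0, Int.ofNat 2, Int.ofNat 0, Int.ofNat 0, Int.ofNat 0, Int.ofNat 0, Int.ofNat 0, Int.ofNat 0, Int.ofNat 0, Int.ofNat 2, Int.negSucc 1, Int.ofNat 2, Int.ofNat 0, Int.ofNat 0, Int.negSucc 1, Int.negSucc 1, Int.ofNat 0, Int.ofNat 0, Int.ofNat 0, Int.ofNat 0, Int.ofNat 0, Int.negSucc 1, Int.ofNat 2, Int.ofNat 0],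
  [Int.ofNat 1, Int.negSucc 0, Int.ofNat 1, Int.ofNat 1, Int.negSucc 0, Int.ofNat 1, Int.ofNat 1, Int.ofNat 1, Int.negSucc 0, Int.ofNat 3, Int.negSucc 0, Int.ofNat 1, Int.negSucc 0, Int.negSucc 0, Int.negSucc 0, Int.negSucc 0, Int.negSucc 0, Int.ofNat 1, Int.negSucc 0, Int.ofNat 1, Int.ofNat 1, Int.negSucc 0, Int.ofNat 1, Int.ofNat 1],
  [Int.ofNat 1, Int.negSucc 0, Int.ofNat 1, Int.ofNat 1, Int.ofNat 1, Int.negSucc 0, Int.ofNat 3, Int.negSucc 0, Int.ofNat 1, Int.negSucc 0, Int.negSucc 0, Int.negSucc 0, Int.negSucc 0, Int.negSucc 0, Int.ofNat 1, Int.negSucc 0, Int.ofNat 1, Int.ofNat 1, Int.negSucc 0, Int.ofNat 1, Int.ofNat 1, Int.negSucc 0, Int.ofNat 1, Int.ofNat 1],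
  [Int.ofNat 0, Int.ofNat 2, Int.ofNat 0, Int.ofNat 0, Int.ofNat 0, Int.negSucc 1, Int.ofNat 2, Int.negSucc 1, Int.ofNat 2, Int.ofNat 0, Int.ofNat 0, Int.ofNat 0, Int.ofNat 0, Int.negSucc 1, Int.ofNat 0, Int.ofNat 0, Int.ofNat 0, Int.ofNat 0, Int.ofNat 0, Int.ofNat 0, Int.ofNat 2, Int.negSucc 1, Int.ofNat 0, Int.ofNat 0],
  [Int.ofNat 0, Int.ofNat 2, Int.ofNat 0, Int.ofNat 0, Int.ofNat 0, Int.negSucc 1, Int.ofNat 0, Int.ofNat 0, Int.ofNat 0, Int.negSucc 1, Int.ofNat 2, Int.ofNat 0, Int.ofNat 0, Int.ofNat 0, Int.ofNat 0, Int.ofNat 0, Int.ofNat 2, Int.ofNat 0, Int.ofNat 2, Int.ofNat 0, Int.negSucc 1, Int.negSucc 1, Int.ofNat 0, Int.ofNat 0],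
  [Int.ofNat 1, Int.negSucc 0, Int.ofNat 1, Int.ofNat 1, Int.negSucc 0, Int.negSucc 0, Int.ofNat 1, Int.ofNat 1, Int.negSucc 0, Int.negSucc 0, Int.ofNat 3, Int.negSucc 0, Int.negSucc 0, Int.negSucc 0, Int.ofNat 1, Int.ofNat 1, Int.ofNat 1, Int.ofNat 1, Int.ofNat 1, Int.ofNat 1, Int.negSucc 0, Int.negSucc 0, Int.negSucc 0, Int.ofNat 1],
  [Int.ofNat 1, Int.negSucc 0, Int.negSucc 0, Int.ofNat 1, Int.negSucc 0, Int.ofNat 1, Int.negSucc 0, Int.ofNat 1, Int.negSucc 0, Int.ofNat 1, Int.negSucc 2, Int.negSucc 0, Int.negSucc 0, Int.negSucc 0, Int.ofNat 1, Int.negSucc 0, Int.ofNat 1, Int.ofNat 1, Int.negSucc 0, Int.ofNat 1, Int.negSucc 0, Int.negSucc 0, Int.ofNat 1, Int.ofNat 1],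
  [Int.negSucc 0, Int.negSucc 0, Int.ofNat 1, Int.ofNat 1, Int.negSucc 0, Int.negSucc 2, Int.ofNat 1, Int.negSucc 0, Int.ofNat 1, Int.negSucc 0, Int.negSucc 0, Int.negSucc 0, Int.negSucc 0, Int.negSucc 0, Int.negSucc 0, Int.ofNat 1, Int.ofNat 1, Int.negSucc 0, Int.ofNat 1, Int.ofNat 1, Int.ofNat 1, Int.negSucc 0, Int.ofNat 1, Int.ofNat 1],
  [Int.negSucc 0, Int.negSucc 0, Int.negSucc 0, Int.ofNat 1, Int.negSucc 0, Int.ofNat 3, Int.negSucc 0, Int.negSucc 0, Int.ofNat 1, Int.ofNat 1, Int.ofNat 1, Int.negSucc 0, Int.negSucc 0, Int.negSucc 0, Int.negSucc 0, Int.negSucc 0, Int.ofNat 1, Int.negSucc 0, Int.negSucc 0, Int.ofNat 1, Int.ofNat 1, Int.negSucc 0, Int.negSucc 0, Int.ofNat 1],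
  [Int.ofNat 0, Int.ofNat 0, Int.ofNat 0, Int.ofNat 0, Int.ofNat 0, Int.ofNat 2, Int.ofNat 0, Int.ofNat 0, Int.ofNat 2, Int.ofNat 0, Int.ofNat 0, Int.ofNat 0, Int.ofNat 0, Int.ofNat 0, Int.negSucc 1, Int.negSucc 1, Int.ofNat 2, Int.negSucc 1, Int.ofNat 0, Int.ofNat 2, Int.ofNat 0, Int.ofNat 0, Int.ofNat 0, Int.negSucc 1],
  [Int.ofNat 0, Int.ofNat 0, Int.ofNat 0, Int.ofNat 0, Int.ofNat 0, Int.ofNat 0, Int.ofNat 0, Int.ofNat 2, Int.ofNat 2, Int.ofNat 0, Int.ofNat 0, Int.ofNat 2, Int.ofNat 2, Int.ofNat 0, Int.negSucc 1, Int.negSucc 1, Int.ofNat 0, Int.ofNat 0, Int.ofNat 0, Int.ofNat 0, Int.ofNat 0, Int.ofNat 0, Int.negSucc 1, Int.negSucc 1],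
  [Int.negSucc 0, Int.negSucc 0, Int.negSucc 0, Int.ofNat 1, Int.ofNat 1, Int.ofNat 1, Int.negSucc 0, Int.ofNat 1, Int.negSucc 0, Int.ofNat 1, Int.ofNat 1, Int.negSucc 0, Int.negSucc 0, Int.ofNat 1, Int.negSucc 0, Int.negSucc 0, Int.ofNat 1, Int.ofNat 1, Int.negSucc 2, Int.negSucc 0, Int.ofNat 1, Int.negSucc 0, Int.negSucc 0, Int.ofNat 1],
  [Int.ofNat 1, Int.negSucc 0, Int.negSucc 0, Int.negSucc 0, Int.negSucc 0, Int.negSucc 0, Int.ofNat 1, Int.ofNat 1, Int.ofNat 1, Int.negSucc 0, Int.ofNat 1, Int.negSucc 0, Int.ofNat 1, Int.ofNat 1, Int.negSucc 0, Int.negSucc 0, Int.ofNat 1, Int.negSucc 0, Int.negSucc 0, Int.ofNat 1, Int.ofNat 1, Int.negSucc 2, Int.negSucc 0, Int.ofNat 1],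
  [Int.negSucc 0, Int.ofNat 1, Int.ofNat 1, Int.ofNat 1, Int.negSucc 0, Int.ofNat 1, Int.ofNat 1, Int.ofNat 1, Int.ofNat 1, Int.negSucc 0, Int.ofNat 1, Int.negSucc 0, Int.ofNat 1, Int.ofNat 1, Int.ofNat 1, Int.negSucc 0, Int.ofNat 1, Int.ofNat 1, Int.negSucc 0, Int.ofNat 1, Int.ofNat 1, Int.negSucc 2, Int.negSucc 0, Int.negSucc 0],
  [Int.ofNat 1, Int.ofNat 1, Int.ofNat 1, Int.negSucc 0, Int.ofNat 1, Int.ofNat 1, Int.ofNat 1, Int.ofNat 1, Int.negSucc 0, Int.ofNat 1, Int.negSucc 0, Int.ofNat 1, Int.ofNat 1, Int.ofNat 1, Int.negSucc 0, Int.ofNat 1, Int.ofNat 1, Int.negSucc 0, Int.ofNat 1, Int.ofNat 1, Int.negSucc 2, Int.negSucc 0, Int.negSucc 0, Int.negSucc 0],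
  [Int.negSucc 0, Int.ofNat 1, Int.negSucc 0, Int.negSucc 0, Int.ofNat 1, Int.ofNat 1, Int.ofNat 1, Int.negSucc 0, Int.negSucc 0, Int.negSucc 0, Int.ofNat 1, Int.negSucc 0, Int.ofNat 1, Int.ofNat 1, Int.negSucc 0, Int.ofNat 1, Int.ofNat 1, Int.negSucc 0, Int.negSucc 0, Int.ofNat 1, Int.negSucc 2, Int.ofNat 1, Int.negSucc 0, Int.negSucc 0],
  [Int.ofNat 1, Int.negSucc 0, Int.ofNat 1, Int.ofNat 1, Int.negSucc 0, Int.ofNat 1, Int.negSucc 0, Int.negSucc 0, Int.ofNat 1, Int.ofNat 1, Int.ofNat 1, Int.negSucc 0, Int.negSucc 0, Int.negSucc 0, Int.negSucc 0, Int.ofNat 1, Int.negSucc 0, Int.negSucc 0, Int.ofNat 1, Int.ofNat 1, Int.negSucc 2, Int.ofNat 1, Int.negSucc 0, Int.negSucc 0],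
  [Int.ofNat 1, Int.ofNat 1, Int.ofNat 1, Int.ofNat 1, Int.negSucc 0, Int.ofNat 1, Int.negSucc 0, Int.negSucc 2, Int.ofNat 1, Int.negSucc 0, Int.ofNat 1, Int.negSucc 0, Int.negSucc 0, Int.ofNat 1, Int.ofNat 1, Int.ofNat 1, Int.negSucc 0, Int.negSucc 0, Int.negSucc 0, Int.negSucc 0, Int.ofNat 1, Int.negSucc 0, Int.negSucc 0, Int.negSucc 0],
  [Int.negSucc 0, Int.ofNat 1, Int.negSucc 0, Int.ofNat 1, Int.negSucc 0, Int.ofNat 1, Int.negSucc 0, Int.ofNat 3, Int.ofNat 1, Int.ofNat 1, Int.negSucc 0, Int.ofNat 1, Int.negSucc 0, Int.ofNat 1, Int.ofNat 1, Int.ofNat 1, Int.negSucc 0, Int.negSucc 0, Int.ofNat 1, Int.negSucc 0, Int.ofNat 1, Int.ofNat 1, Int.negSucc 0, Int.negSucc 0],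
  [Int.negSucc 0, Int.negSucc 0, Int.ofNat 1, Int.negSucc 0, Int.ofNat 1, Int.negSucc 0, Int.ofNat 1, Int.negSucc 0, Int.ofNat 3, Int.ofNat 1, Int.ofNat 1, Int.negSucc 0, Int.ofNat 1, Int.negSucc 0, Int.ofNat 1, Int.ofNat 1, Int.ofNat 1, Int.negSucc 0, Int.negSucc 0, Int.ofNat 1, Int.negSucc 0, Int.ofNat 1, Int.ofNat 1, Int.negSucc 0],
  [Int.ofNat 0, Int.ofNat 0, Int.negSucc 1, Int.ofNat 0, Int.ofNat 0, Int.ofNat 0, Int.ofNat 0, Int.negSucc 1, Int.ofNat 2, Int.ofNat 0, Int.ofNat 0, Int.negSucc 1, Int.ofNat 0, Int.negSucc 1, Int.ofNat 2, Int.ofNat 0, Int.ofNat 0, Int.ofNat 0, Int.negSucc 1, Int.ofNat 0, Int.negSucc 1, Int.ofNat 0, Int.ofNat 0, Int.ofNat 0],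
  [Int.ofNat 0, Int.ofNat 0, Int.ofNat 0, Int.ofNat 0, Int.negSucc 1, Int.ofNat 2, Int.ofNat 0, Int.ofNat 0, Int.negSucc 1, Int.ofNat 0, Int.negSucc 1, Int.ofNat 2, Int.ofNat 0, Int.ofNat 0, Int.ofNat 0, Int.negSucc 1, Int.ofNat 0, Int.negSucc 1, Int.ofNat 0, Int.ofNat 0, Int.ofNat 0, Int.ofNat 0, Int.negSucc 1, Int.ofNat 0],
  [Int.ofNat 0, Int.ofNat 0, Int.ofNat 0, Int.ofNat 0, Int.ofNat 0, Int.ofNat 2, Int.ofNat 0, Int.ofNat 0, Int.negSucc 1, Int.ofNat 2, Int.ofNat 0, Int.ofNat 2, Int.ofNat 0, Int.ofNat 2, Int.ofNat 0, Int.ofNat 0, Int.ofNat 2, Int.negSucc 1, Int.ofNat 0, Int.ofNat 0, Int.ofNat 2, Int.ofNat 0, Int.ofNat 0, Int.ofNat 0],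
  [Int.ofNat 0, Int.ofNat 0, Int.ofNat 0, Int.ofNat 0, Int.ofNat 0, Int.ofNat 0, Int.ofNat 0, Int.ofNat 0, Int.ofNat 0, Int.ofNat 2, Int.ofNat 2, Int.negSucc 1, Int.ofNat 2, Int.ofNat 2, Int.ofNat 0, Int.ofNat 0, Int.negSucc 1, Int.ofNat 0, Int.ofNat 0, Int.ofNat 2, Int.ofNat 0, Int.ofNat 2, Int.ofNat 0, Int.ofNat 0],
  [Int.ofNat 0, Int.ofNat 0, Int.ofNat 0, Int.ofNat 0, Int.ofNat 0, Int.ofNat 0, Int.negSucc 1, Int.negSucc 1, Int.ofNat 0, Int.ofNat 0, Int.ofNat 0, Int.negSucc 1, Int.ofNat 2, Int.ofNat 2, Int.ofNat 0, Int.negSucc 1, Int.negSucc 1, Int.ofNat 0, Int.ofNat 0, Int.ofNat 0, Int.negSucc 1, Int.ofNat 0, Int.ofNat 0, Int.ofNat 0],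
  [Int.ofNat 0, Int.ofNat 0, Int.ofNat 0, Int.ofNat 0, Int.ofNat 0, Int.ofNat 0, Int.ofNat 2, Int.negSucc 1, Int.ofNat 0, Int.ofNat 0, Int.ofNat 0, Int.negSucc 1, Int.ofNat 2, Int.ofNat 2, Int.ofNat 0, Int.ofNat 2, Int.negSucc 1, Int.ofNat 0, Int.ofNat 0, Int.ofNat 0, Int.negSucc 1, Int.ofNat 0, Int.ofNat 0, Int.ofNat 0],
  [Int.ofNat 0, Int.negSucc 1, Int.negSucc 1, Int.ofNat 0, Int.ofNat 0, Int.ofNat 2, Int.ofNat 0, Int.ofNat 0, Int.ofNat 0, Int.negSucc 1, Int.ofNat 2, Int.negSucc 1, Int.ofNat 2, Int.ofNat 0, Int.ofNat 0, Int.ofNat 0, Int.ofNat 0, Int.ofNat 2, Int.ofNat 0, Int.ofNat 0, Int.ofNat 0, Int.ofNat 0, Int.ofNat 0, Int.ofNat 0],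
  [Int.ofNat 0, Int.ofNat 0, Int.negSucc 1, Int.ofNat 0, Int.ofNat 2, Int.negSucc 1, Int.ofNat 0, Int.ofNat 0, Int.ofNat 0, Int.ofNat 2, Int.ofNat 0, Int.negSucc 1, Int.ofNat 0, Int.ofNat 0, Int.ofNat 0, Int.ofNat 0, Int.ofNat 2, Int.ofNat 0, Int.ofNat 0, Int.ofNat 0, Int.ofNat 0, Int.ofNat 2, Int.negSucc 1, Int.ofNat 0],
  [Int.ofNat 0, Int.ofNat 0, Int.ofNat 2, Int.ofNat 0, Int.ofNat 2, Int.negSucc 1, Int.ofNat 0, Int.ofNat 0, Int.ofNat 0, Int.negSucc 1, Int.ofNat 0, Int.ofNat 2, Int.ofNat 0, Int.ofNat 0, Int.ofNat 0, Int.ofNat 0, Int.ofNat 2, Int.ofNat 0, Int.ofNat 0, Int.ofNat 0, Int.ofNat 0, Int.negSucc 1, Int.negSucc 1, Int.ofNat 0],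
  [Int.negSucc 1, Int.ofNat 0, Int.ofNat 0, Int.ofNat 2, Int.ofNat 0, Int.ofNat 2, Int.negSucc 1, Int.ofNat 0, Int.ofNat 0, Int.ofNat 0, Int.negSucc 1, Int.ofNat 0, Int.ofNat 2, Int.ofNat 0, Int.ofNat 0, Int.ofNat 0, Int.ofNat 0, Int.ofNat 2, Int.ofNat 0, Int.ofNat 0, Int.ofNat 0, Int.ofNat 0, Int.negSucc 1, Int.ofNat 0],
  [Int.ofNat 1, Int.negSucc 0, Int.negSucc 0, Int.negSucc 0, Int.ofNat 1, Int.negSucc 0, Int.negSucc 0, Int.ofNat 1, Int.negSucc 0, Int.ofNat 1, Int.negSucc 0, Int.negSucc 0, Int.ofNat 1, Int.ofNat 1, Int.negSucc 2, Int.ofNat 1, Int.ofNat 1, Int.negSucc 0, Int.negSucc 0, Int.ofNat 1, Int.ofNat 1, Int.ofNat 1, Int.negSucc 0, Int.negSucc 0],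
  [Int.negSucc 0, Int.ofNat 1, Int.negSucc 0, Int.negSucc 0, Int.ofNat 1, Int.negSucc 0, Int.ofNat 1, Int.negSucc 0, Int.negSucc 0, Int.ofNat 1, Int.ofNat 1, Int.negSucc 2, Int.ofNat 1, Int.ofNat 1, Int.negSucc 0, Int.negSucc 0, Int.ofNat 1, Int.ofNat 1, Int.ofNat 1, Int.negSucc 0, Int.ofNat 1, Int.negSucc 0, Int.negSucc 0, Int.negSucc 0],
  [Int.ofNat 0, Int.negSucc 1, Int.ofNat 0, Int.ofNat 0, Int.ofNat 0, Int.ofNat 0, Int.ofNat 2, Int.ofNat 0, Int.ofNat 0, Int.ofNat 0, Int.ofNat 0, Int.negSucc 1, Int.ofNat 2, Int.ofNat 0, Int.ofNat 0, Int.negSucc 1, Int.ofNat 0, Int.ofNat 2, Int.ofNat 2, Int.ofNat 0, Int.ofNat 0, Int.ofNat 0, Int.negSucc 1, Int.ofNat 0],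
  [Int.ofNat 0, Int.ofNat 2, Int.ofNat 0, Int.ofNat 0, Int.ofNat 2, Int.ofNat 0, Int.ofNat 0, Int.ofNat 0, Int.ofNat 2, Int.ofNat 0, Int.ofNat 0, Int.ofNat 2, Int.ofNat 0, Int.ofNat 0, Int.negSucc 1, Int.negSucc 1, Int.ofNat 0, Int.ofNat 0, Int.negSucc 1, Int.negSucc 1, Int.ofNat 0, Int.ofNat 0, Int.ofNat 0, Int.ofNat 0],
  [Int.ofNat 1, Int.negSucc 0, Int.ofNat 1, Int.ofNat 1, Int.ofNat 1, Int.ofNat 1, Int.ofNat 1, Int.ofNat 1, Int.ofNat 1, Int.ofNat 1, Int.ofNat 1, Int.ofNat 1, Int.negSucc 0, Int.negSucc 0, Int.negSucc 0, Int.negSucc 0, Int.negSucc 0, Int.ofNat 1, Int.negSucc 2, Int.negSucc 0, Int.ofNat 1, Int.ofNat 1, Int.negSucc 0, Int.ofNat 1],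
  [Int.ofNat 1, Int.negSucc 0, Int.negSucc 0, Int.ofNat 1, Int.ofNat 1, Int.negSucc 0, Int.negSucc 0, Int.ofNat 1, Int.ofNat 1, Int.negSucc 0, Int.negSucc 0, Int.ofNat 1, Int.negSucc 0, Int.negSucc 0, Int.negSucc 0, Int.ofNat 1, Int.negSucc 0, Int.ofNat 1, Int.ofNat 3, Int.negSucc 0, Int.ofNat 1, Int.ofNat 1, Int.ofNat 1, Int.ofNat 1],
  [Int.ofNat 1, Int.ofNat 1, Int.ofNat 1, Int.ofNat 1, Int.negSucc 0, Int.negSucc 0, Int.ofNat 1, Int.ofNat 1, Int.negSucc 0, Int.negSucc 0, Int.ofNat 3, Int.negSucc 0, Int.ofNat 1, Int.ofNat 1, Int.negSucc 0, Int.negSucc 0, Int.negSucc 0, Int.ofNat 1, Int.ofNat 1, Int.negSucc 0, Int.negSucc 0, Int.negSucc 0, Int.ofNat 1, Int.ofNat 1],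
  [Int.ofNat 1, Int.ofNat 1, Int.negSucc 0, Int.ofNat 1, Int.negSucc 0, Int.ofNat 1, Int.negSucc 0, Int.ofNat 1, Int.negSucc 0, Int.ofNat 1, Int.negSucc 2, Int.negSucc 0, Int.ofNat 1, Int.ofNat 1, Int.negSucc 0, Int.ofNat 1, Int.negSucc 0, Int.ofNat 1, Int.negSucc 0, Int.negSucc 0, Int.negSucc 0, Int.negSucc 0, Int.negSucc 0, Int.ofNat 1],
  [Int.ofNat 0, Int.ofNat 0, Int.ofNat 2, Int.ofNat 0, Int.ofNat 0, Int.ofNat 0, Int.ofNat 0, Int.ofNat 2, Int.ofNat 0, Int.ofNat 2, Int.negSucc 1, Int.ofNat 0, Int.ofNat 2, Int.ofNat 2, Int.negSucc 1, Int.ofNat 2, Int.ofNat 0, Int.ofNat 0, Int.ofNat 0, Int.ofNat 0, Int.ofNat 0, Int.ofNat 0, Int.ofNat 0, Int.ofNat 0],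
  [Int.ofNat 0, Int.ofNat 0, Int.ofNat 0, Int.ofNat 0, Int.ofNat 2, Int.ofNat 0, Int.ofNat 0, Int.ofNat 0, Int.ofNat 0, Int.ofNat 2, Int.ofNat 2, Int.ofNat 0, Int.ofNat 0, Int.ofNat 2, Int.ofNat 0, Int.ofNat 2, Int.ofNat 2, Int.ofNat 0, Int.ofNat 0, Int.ofNat 0, Int.negSucc 1, Int.ofNat 0, Int.negSucc 1, Int.ofNat 0],
  [Int.ofNat 0, Int.ofNat 0, Int.ofNat 0, Int.ofNat 0, Int.ofNat 0, Int.ofNat 0, Int.ofNat 0, Int.ofNat 0, Int.ofNat 0, Int.ofNat 0, Int.ofNat 0, Int.ofNat 0, Int.ofNat 0, Int.ofNat 0, Int.ofNat 0, Int.ofNat 0, Int.ofNat 0, Int.ofNat 0, Int.ofNat 0, Int.ofNat 0, Int.negSucc 3, Int.ofNat 0, Int.negSucc 3, Int.ofNat 0],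
  [Int.negSucc 3, Int.ofNat 0, Int.negSucc 3, Int.ofNat 0, Int.ofNat 0, Int.ofNat 0, Int.ofNat 0, Int.ofNat 0, Int.ofNat 0, Int.ofNat 0, Int.ofNat 0, Int.ofNat 0, Int.ofNat 0, Int.ofNat 0, Int.ofNat 0, Int.ofNat 0, Int.ofNat 0, Int.ofNat 0, Int.ofNat 0, Int.ofNat 0, Int.ofNat 0, Int.ofNat 0, Int.ofNat 0, Int.ofNat 0],
  [Int.ofNat 0, Int.negSucc 3, Int.ofNat 0, Int.ofNat 0, Int.ofNat 0, Int.ofNat 0, Int.ofNat 0, Int.ofNat 0, Int.ofNat 0, Int.ofNat 0, Int.ofNat 0, Int.ofNat 0, Int.ofNat 0, Int.ofNat 0, Int.ofNat 0, Int.ofNat 0, Int.ofNat 0, Int.ofNat 0, Int.ofNat 0, Int.ofNat 0, Int.ofNat 0, Int.ofNat 0, Int.ofNat 0, Int.negSucc 3],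
  [Int.negSucc 3, Int.ofNat 0, Int.ofNat 0, Int.ofNat 0, Int.ofNat 0, Int.ofNat 0, Int.ofNat 0, Int.ofNat 0, Int.ofNat 0, Int.ofNat 0, Int.ofNat 0, Int.ofNat 0, Int.ofNat 0, Int.ofNat 0, Int.ofNat 0, Int.ofNat 0, Int.ofNat 0, Int.ofNat 0, Int.ofNat 0, Int.ofNat 0, Int.ofNat 0, Int.ofNat 0, Int.ofNat 0, Int.negSucc 3],
  [Int.ofNat 4, Int.ofNat 0, Int.ofNat 0, Int.ofNat 0, Int.ofNat 0, Int.ofNat 0, Int.ofNat 0, Int.ofNat 0, Int.ofNat 0, Int.ofNat 0, Int.ofNat 0, Int.ofNat 0, Int.ofNat 0, Int.ofNat 0, Int.ofNat 0, Int.ofNat 0, Int.ofNat 0, Int.ofNat 0, Int.ofNat 0, Int.ofNat 0, Int.ofNat 0, Int.ofNat 0, Int.ofNat 0, Int.negSucc 3],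
  [Int.negSucc 3, Int.ofNat 0, Int.ofNat 0, Int.ofNat 0, Int.ofNat 0, Int.ofNat 0, Int.ofNat 0, Int.ofNat 0, Int.ofNat 0, Int.ofNat 0, Int.ofNat 0, Int.ofNat 0, Int.ofNat 0, Int.ofNat 0, Int.ofNat 0, Int.ofNat 0, Int.ofNat 0, Int.ofNat 0, Int.ofNat 0, Int.ofNat 0, Int.ofNat 0, Int.ofNat 0, Int.ofNat 0, Int.negSucc 3],
  [Int.negSucc 3, Int.ofNat 0, Int.ofNat 0, Int.ofNat 0, Int.ofNat 0, Int.ofNat 0, Int.ofNat 0, Int.ofNat 0, Int.ofNat 0, Int.ofNat 0, Int.ofNat 0, Int.ofNat 0, Int.ofNat 0, Int.ofNat 0, Int.ofNat 0, Int.ofNat 0, Int.ofNat 0, Int.ofNat 0, Int.ofNat 0, Int.ofNat 0, Int.ofNat 0, Int.ofNat 0, Int.ofNat 0, Int.negSucc 3],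
  [Int.ofNat 4, Int.ofNat 0, Int.ofNat 0, Int.ofNat 0, Int.ofNat 0, Int.ofNat 0, Int.ofNat 0, Int.ofNat 0, Int.ofNat 0, Int.ofNat 0, Int.ofNat 0, Int.ofNat 0, Int.ofNat 0, Int.ofNat 0, Int.ofNat 0, Int.ofNat 0, Int.ofNat 0, Int.ofNat 0, Int.ofNat 0, Int.ofNat 0, Int.ofNat 0, Int.ofNat 0, Int.ofNat 0, Int.negSucc 3],
  [Int.ofNat 0, Int.ofNat 4, Int.ofNat 0, Int.ofNat 0, Int.ofNat 0, Int.ofNat 0, Int.ofNat 0, Int.ofNat 0, Int.ofNat 0, Int.ofNat 0, Int.ofNat 0, Int.ofNat 0, Int.ofNat 0, Int.ofNat 0, Int.ofNat 0, Int.ofNat 0, Int.ofNat 0, Int.ofNat 0, Int.ofNat 0, Int.ofNat 0, Int.ofNat 0, Int.ofNat 0, Int.ofNat 0, Int.negSucc 3],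
  [Int.ofNat 0, Int.negSucc 3, Int.ofNat 0, Int.ofNat 0, Int.ofNat 0, Int.ofNat 0, Int.ofNat 0, Int.ofNat 0, Int.ofNat 0, Int.ofNat 0, Int.ofNat 0, Int.ofNat 0, Int.ofNat 0, Int.ofNat 0, Int.ofNat 0, Int.ofNat 0, Int.ofNat 0, Int.ofNat 0, Int.ofNat 0, Int.ofNat 0, Int.ofNat 0, Int.ofNat 0, Int.ofNat 0, Int.ofNat 4],
  [Int.ofNat 0, Int.ofNat 0, Int.ofNat 0, Int.ofNat 0, Int.ofNat 0, Int.ofNat 0, Int.ofNat 0, Int.ofNat 0, Int.ofNat 0, Int.ofNat 0, Int.ofNat 0, Int.ofNat 0, Int.ofNat 0, Int.ofNat 0, Int.ofNat 0, Int.ofNat 0, Int.ofNat 0, Int.ofNat 0, Int.ofNat 0, Int.ofNat 0, Int.ofNat 0, Int.negSucc 3, Int.ofNat 0, Int.ofNat 4],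
  [Int.ofNat 2, Int.ofNat 2, Int.ofNat 2, Int.ofNat 0, Int.ofNat 0, Int.ofNat 0, Int.ofNat 2, Int.ofNat 2, Int.ofNat 0, Int.ofNat 0, Int.ofNat 0, Int.ofNat 0, Int.ofNat 0, Int.ofNat 0, Int.ofNat 0, Int.ofNat 0, Int.ofNat 0, Int.ofNat 0, Int.ofNat 0, Int.ofNat 2, Int.ofNat 0, Int.negSucc 1, Int.ofNat 0, Int.negSucc 1],
  [Int.ofNat 2, Int.ofNat 2, Int.ofNat 0, Int.ofNat 0, Int.ofNat 0, Int.ofNat 2, Int.ofNat 2, Int.ofNat 0, Int.ofNat 0, Int.ofNat 0, Int.ofNat 0, Int.ofNat 0, Int.ofNat 0, Int.ofNat 0, Int.ofNat 0, Int.ofNat 0, Int.ofNat 0, Int.ofNat 0, Int.ofNat 2, Int.ofNat 0, Int.negSucc 1, Int.ofNat 0, Int.ofNat 2, Int.negSucc 1],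
  [Int.negSucc 0, Int.negSucc 0, Int.ofNat 1, Int.negSucc 0, Int.negSucc 0, Int.ofNat 1, Int.ofNat 1, Int.negSucc 0, Int.negSucc 0, Int.ofNat 1, Int.ofNat 1, Int.negSucc 0, Int.negSucc 0, Int.negSucc 0, Int.negSucc 0, Int.ofNat 1, Int.negSucc 0, Int.negSucc 0, Int.ofNat 1, Int.negSucc 0, Int.negSucc 0, Int.negSucc 0, Int.ofNat 1, Int.ofNat 3],
  [Int.negSucc 0, Int.negSucc 0, Int.negSucc 0, Int.negSucc 0, Int.negSucc 0, Int.negSucc 0, Int.negSucc 0, Int.negSucc 0, Int.negSucc 0, Int.negSucc 0, Int.negSucc 0, Int.negSucc 0, Int.negSucc 0, Int.negSucc 0, Int.negSucc 0, Int.negSucc 0, Int.negSucc 0, Int.negSucc 0, Int.negSucc 0, Int.negSucc 0, Int.negSucc 0, Int.negSucc 0, Int.negSucc 0, Int.ofNat 3],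
  [Int.negSucc 0, Int.negSucc 0, Int.negSucc 0, Int.negSucc 0, Int.negSucc 0, Int.negSucc 0, Int.negSucc 0, Int.negSucc 0, Int.negSucc 0, Int.negSucc 0, Int.negSucc 0, Int.negSucc 0, Int.negSucc 0, Int.negSucc 0, Int.negSucc 0, Int.negSucc 0, Int.negSucc 0, Int.negSucc 0, Int.negSucc 0, Int.negSucc 0, Int.negSucc 0, Int.negSucc 0, Int.negSucc 0, Int.ofNat 3],
  [Int.ofNat 3, Int.negSucc 0, Int.negSucc 0, Int.negSucc 0, Int.negSucc 0, Int.negSucc 0, Int.negSucc 0, Int.negSucc 0, Int.negSucc 0, Int.negSucc 0, Int.negSucc 0, Int.negSucc 0, Int.negSucc 0, Int.negSucc 0, Int.negSucc 0, Int.negSucc 0, Int.negSucc 0, Int.negSucc 0, Int.negSucc 0, Int.negSucc 0, Int.negSucc 0, Int.negSucc 0, Int.negSucc 0, Int.negSucc 0],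
  [Int.negSucc 2, Int.negSucc 0, Int.ofNat 1, Int.negSucc 0, Int.negSucc 0, Int.negSucc 0, Int.negSucc 0, Int.ofNat 1, Int.negSucc 0, Int.ofNat 1, Int.ofNat 1, Int.ofNat 1, Int.negSucc 0, Int.negSucc 0, Int.negSucc 0, Int.negSucc 0, Int.negSucc 0, Int.negSucc 0, Int.ofNat 1, Int.negSucc 0, Int.negSucc 0, Int.ofNat 1, Int.negSucc 0, Int.negSucc 0],
  [Int.negSucc 0, Int.negSucc 2, Int.negSucc 0, Int.ofNat 1, Int.negSucc 0, Int.negSucc 0, Int.negSucc 0, Int.negSucc 0, Int.ofNat 1, Int.negSucc 0, Int.ofNat 1, Int.ofNat 1, Int.ofNat 1, Int.negSucc 0, Int.negSucc 0, Int.negSucc 0, Int.negSucc 0, Int.negSucc 0, Int.negSucc 0, Int.ofNat 1, Int.negSucc 0, Int.negSucc 0, Int.ofNat 1, Int.negSucc 0],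
  [Int.negSucc 1, Int.ofNat 0, Int.negSucc 1, Int.ofNat 2, Int.ofNat 0, Int.ofNat 0, Int.ofNat 0, Int.ofNat 0, Int.ofNat 0, Int.ofNat 0, Int.ofNat 2, Int.ofNat 0, Int.ofNat 0, Int.ofNat 0, Int.ofNat 0, Int.ofNat 0, Int.ofNat 0, Int.ofNat 0, Int.negSucc 1, Int.ofNat 2, Int.ofNat 0, Int.ofNat 0, Int.ofNat 2, Int.negSucc 1],
  [Int.ofNat 2, Int.ofNat 0, Int.ofNat 0, Int.ofNat 0, Int.ofNat 0, Int.ofNat 0, Int.ofNat 0, Int.ofNat 2, Int.ofNat 0, Int.ofNat 0, Int.ofNat 0, Int.ofNat 0, Int.ofNat 0, Int.ofNat 0, Int.ofNat 0, Int.negSucc 1, Int.ofNat 2, Int.ofNat 0, Int.ofNat 0, Int.ofNat 2, Int.negSucc 1, Int.ofNat 0, Int.negSucc 1, Int.negSucc 1],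
  [Int.negSucc 1, Int.ofNat 0, Int.ofNat 0, Int.ofNat 0, Int.ofNat 0, Int.ofNat 0, Int.negSucc 1, Int.ofNat 0, Int.ofNat 0, Int.ofNat 2, Int.ofNat 2, Int.ofNat 0, Int.ofNat 0, Int.ofNat 0, Int.ofNat 0, Int.ofNat 0, Int.ofNat 2, Int.ofNat 0, Int.ofNat 0, Int.ofNat 0, Int.ofNat 0, Int.negSucc 1, Int.negSucc 1, Int.ofNat 2],
  [Int.negSucc 1, Int.negSucc 1, Int.ofNat 0, Int.ofNat 0, Int.ofNat 0, Int.ofNat 0, Int.ofNat 0, Int.ofNat 2, Int.ofNat 0, Int.ofNat 0, Int.ofNat 0, Int.ofNat 0, Int.ofNat 2, Int.ofNat 2, Int.negSucc 1, Int.ofNat 0, Int.ofNat 0, Int.ofNat 0, Int.ofNat 0, Int.ofNat 0, Int.negSucc 1, Int.ofNat 0, Int.ofNat 0, Int.ofNat 2],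
  [Int.ofNat 1, Int.ofNat 1, Int.negSucc 0, Int.ofNat 1, Int.negSucc 0, Int.ofNat 1, Int.negSucc 0, Int.ofNat 1, Int.negSucc 0, Int.ofNat 1, Int.ofNat 1, Int.negSucc 0, Int.ofNat 1, Int.ofNat 1, Int.negSucc 0, Int.ofNat 1, Int.negSucc 0, Int.ofNat 1, Int.negSucc 0, Int.negSucc 0, Int.negSucc 0, Int.negSucc 0, Int.negSucc 0, Int.negSucc 2],
  [Int.ofNat 1, Int.ofNat 1, Int.ofNat 1, Int.ofNat 1, Int.negSucc 0, Int.negSucc 0, Int.ofNat 1, Int.ofNat 1, Int.negSucc 0, Int.negSucc 0, Int.negSucc 0, Int.negSucc 0, Int.ofNat 1, Int.ofNat 1, Int.negSucc 0, Int.negSucc 0, Int.negSucc 0, Int.ofNat 1, Int.ofNat 1, Int.negSucc 0, Int.negSucc 0, Int.negSucc 0, Int.ofNat 1, Int.negSucc 2],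
  [Int.negSucc 0, Int.negSucc 0, Int.ofNat 1, Int.ofNat 1, Int.ofNat 1, Int.negSucc 0, Int.ofNat 1, Int.negSucc 0, Int.negSucc 0, Int.ofNat 1, Int.ofNat 1, Int.ofNat 1, Int.negSucc 0, Int.negSucc 0, Int.ofNat 1, Int.negSucc 0, Int.negSucc 0, Int.negSucc 0, Int.ofNat 1, Int.negSucc 0, Int.negSucc 0, Int.ofNat 1, Int.ofNat 1, Int.negSucc 2],
  [Int.negSucc 0, Int.negSucc 0, Int.negSucc 0, Int.ofNat 1, Int.ofNat 1, Int.ofNat 1, Int.negSucc 0, Int.negSucc 0, Int.negSucc 0, Int.negSucc 0, Int.negSucc 0, Int.ofNat 1, Int.negSucc 0, Int.negSucc 0, Int.ofNat 1, Int.ofNat 1, Int.negSucc 0, Int.negSucc 0, Int.negSucc 0, Int.negSucc 0, Int.negSucc 0, Int.ofNat 1, Int.negSucc 0, Int.negSucc 2],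
  [Int.negSucc 1, Int.negSucc 1, Int.negSucc 1, Int.ofNat 0, Int.ofNat 2, Int.ofNat 0, Int.ofNat 0, Int.ofNat 0, Int.ofNat 0, Int.ofNat 0, Int.ofNat 0, Int.ofNat 2, Int.ofNat 0, Int.ofNat 0, Int.ofNat 0, Int.ofNat 2, Int.ofNat 0, Int.negSucc 1, Int.ofNat 0, Int.ofNat 0, Int.ofNat 0, Int.ofNat 2, Int.ofNat 0, Int.ofNat 0],
  [Int.negSucc 1, Int.ofNat 0, Int.ofNat 0, Int.ofNat 0, Int.negSucc 1, Int.ofNat 2, Int.negSucc 1, Int.ofNat 0, Int.ofNat 0, Int.ofNat 0, Int.ofNat 0, Int.ofNat 0, Int.ofNat 0, Int.ofNat 0, Int.negSucc 1, Int.ofNat 2, Int.ofNat 0, Int.ofNat 2, Int.ofNat 2, Int.ofNat 0, Int.ofNat 0, Int.ofNat 0, Int.ofNat 0, Int.ofNat 0],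
  [Int.ofNat 1, Int.negSucc 0, Int.negSucc 0, Int.negSucc 0, Int.negSucc 0, Int.ofNat 1, Int.negSucc 0, Int.ofNat 1, Int.negSucc 0, Int.negSucc 0, Int.negSucc 0, Int.negSucc 0, Int.negSucc 0, Int.ofNat 1, Int.negSucc 2, Int.ofNat 1, Int.ofNat 1, Int.ofNat 1, Int.ofNat 1, Int.ofNat 1, Int.negSucc 0, Int.ofNat 1, Int.ofNat 1, Int.negSucc 0],
  [Int.negSucc 0, Int.ofNat 1, Int.ofNat 1, Int.ofNat 1, Int.negSucc 0, Int.negSucc 0, Int.negSucc 0, Int.negSucc 0, Int.ofNat 1, Int.negSucc 0, Int.ofNat 1, Int.negSucc 0, Int.negSucc 0, Int.negSucc 0, Int.negSucc 0, Int.negSucc 0, Int.ofNat 1, Int.negSucc 2, Int.ofNat 1, Int.ofNat 1, Int.ofNat 1, Int.ofNat 1, Int.ofNat 1, Int.negSucc 0],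
  [Int.ofNat 1, Int.negSucc 0, Int.negSucc 0, Int.ofNat 3, Int.negSucc 0, Int.ofNat 1, Int.negSucc 0, Int.negSucc 0, Int.ofNat 1, Int.negSucc 0, Int.ofNat 1, Int.negSucc 0, Int.negSucc 0, Int.negSucc 0, Int.ofNat 1, Int.negSucc 0, Int.ofNat 1, Int.negSucc 0, Int.ofNat 1, Int.ofNat 1, Int.ofNat 1, Int.ofNat 1, Int.ofNat 1, Int.ofNat 1],
  [Int.negSucc 0, Int.negSucc 0, Int.ofNat 3, Int.negSucc 0, Int.ofNat 1, Int.negSucc 0, Int.negSucc 0, Int.ofNat 1, Int.negSucc 0, Int.ofNat 1, Int.negSucc 0, Int.negSucc 0, Int.negSucc 0, Int.ofNat 1, Int.negSucc 0, Int.ofNat 1, Int.negSucc 0, Int.ofNat 1, Int.ofNat 1, Int.ofNat 1, Int.ofNat 1, Int.ofNat 1, Int.ofNat 1, Int.ofNat 1],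
  [Int.ofNat 1, Int.negSucc 0, Int.negSucc 2, Int.negSucc 0, Int.ofNat 1, Int.negSucc 0, Int.negSucc 0, Int.negSucc 0, Int.negSucc 0, Int.negSucc 0, Int.ofNat 1, Int.ofNat 1, Int.negSucc 0, Int.ofNat 1, Int.negSucc 0, Int.ofNat 1, Int.negSucc 0, Int.ofNat 1, Int.negSucc 0, Int.ofNat 1, Int.ofNat 1, Int.negSucc 0, Int.ofNat 1, Int.ofNat 1],
  [Int.negSucc 0, Int.ofNat 1, Int.ofNat 3, Int.ofNat 1, Int.negSucc 0, Int.negSucc 0, Int.ofNat 1, Int.negSucc 0, Int.ofNat 1, Int.ofNat 1, Int.ofNat 1, Int.ofNat 1, Int.ofNat 1, Int.negSucc 0, Int.negSucc 0, Int.ofNat 1, Int.ofNat 1, Int.ofNat 1, Int.ofNat 1, Int.ofNat 1, Int.ofNat 1, Int.negSucc 0, Int.ofNat 1, Int.ofNat 1],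
  [Int.negSucc 0, Int.ofNat 3, Int.ofNat 1, Int.ofNat 1, Int.ofNat 1, Int.ofNat 1, Int.negSucc 0, Int.ofNat 1, Int.ofNat 1, Int.ofNat 1, Int.negSucc 0, Int.negSucc 0, Int.negSucc 0, Int.ofNat 1, Int.ofNat 1, Int.ofNat 1, Int.ofNat 1, Int.ofNat 1, Int.ofNat 1, Int.ofNat 1, Int.negSucc 0, Int.negSucc 0, Int.ofNat 1, Int.ofNat 1],
  [Int.ofNat 1, Int.ofNat 3, Int.negSucc 0, Int.ofNat 1, Int.ofNat 1, Int.ofNat 1, Int.negSucc 0, Int.negSucc 0, Int.ofNat 1, Int.negSucc 0, Int.ofNat 1, Int.ofNat 1, Int.negSucc 0, Int.ofNat 1, Int.ofNat 1, Int.ofNat 1, Int.ofNat 1, Int.ofNat 1, Int.negSucc 0, Int.ofNat 1, Int.negSucc 0, Int.ofNat 1, Int.ofNat 1, Int.ofNat 1],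
  [Int.ofNat 1, Int.ofNat 1, Int.ofNat 3, Int.negSucc 0, Int.ofNat 1, Int.ofNat 1, Int.ofNat 1, Int.negSucc 0, Int.negSucc 0, Int.ofNat 1, Int.negSucc 0, Int.ofNat 1, Int.ofNat 1, Int.negSucc 0, Int.ofNat 1, Int.ofNat 1, Int.ofNat 1, Int.ofNat 1, Int.ofNat 1, Int.negSucc 0, Int.ofNat 1, Int.negSucc 0, Int.ofNat 1, Int.ofNat 1],
  [Int.ofNat 2, Int.ofNat 2, Int.ofNat 0, Int.negSucc 1, Int.ofNat 0, Int.ofNat 0, Int.ofNat 2, Int.ofNat 0, Int.negSucc 1, Int.ofNat 0, Int.negSucc 1, Int.ofNat 0, Int.ofNat 0, Int.negSucc 1, Int.ofNat 0, Int.ofNat 0, Int.ofNat 0, Int.ofNat 0, Int.ofNat 0, Int.ofNat 0, Int.ofNat 0, Int.ofNat 0, Int.ofNat 0, Int.ofNat 2],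
  [Int.negSucc 1, Int.ofNat 0, Int.ofNat 0, Int.ofNat 2, Int.ofNat 0, Int.negSucc 1, Int.ofNat 0, Int.negSucc 1, Int.ofNat 0, Int.ofNat 0, Int.negSucc 1, Int.ofNat 0, Int.ofNat 0, Int.ofNat 0, Int.ofNat 0, Int.ofNat 0, Int.ofNat 0, Int.ofNat 0, Int.ofNat 0, Int.ofNat 0, Int.ofNat 2, Int.ofNat 2, Int.ofNat 0, Int.ofNat 2],
  [Int.ofNat 2, Int.ofNat 0, Int.ofNat 0, Int.ofNat 2, Int.ofNat 0, Int.negSucc 1, Int.ofNat 0, Int.negSucc 1, Int.ofNat 0, Int.ofNat 0, Int.negSucc 1, Int.ofNat 0, Int.ofNat 0, Int.ofNat 0, Int.ofNat 0, Int.ofNat 0, Int.ofNat 0, Int.ofNat 0, Int.ofNat 0, Int.ofNat 0, Int.ofNat 2, Int.ofNat 2, Int.ofNat 0, Int.negSucc 1],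
  [Int.ofNat 2, Int.ofNat 0, Int.ofNat 0, Int.ofNat 2, Int.ofNat 0, Int.negSucc 1, Int.ofNat 0, Int.negSucc 1, Int.ofNat 0, Int.ofNat 0, Int.ofNat 2, Int.ofNat 0, Int.ofNat 0, Int.ofNat 0, Int.ofNat 0, Int.ofNat 0, Int.ofNat 0, Int.ofNat 0, Int.ofNat 0, Int.ofNat 0, Int.ofNat 2, Int.negSucc 1, Int.ofNat 0, Int.negSucc 1],
  [Int.negSucc 1, Int.ofNat 0, Int.ofNat 0, Int.ofNat 2, Int.ofNat 0, Int.negSucc 1, Int.ofNat 2, Int.ofNat 0, Int.ofNat 0, Int.negSucc 1, Int.ofNat 0, Int.ofNat 0, Int.ofNat 0, Int.ofNat 0, Int.ofNat 0, Int.negSucc 1, Int.ofNat 0, Int.ofNat 0, Int.ofNat 0, Int.ofNat 2, Int.ofNat 0, Int.ofNat 0, Int.ofNat 0, Int.ofNat 2],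
  [Int.negSucc 1, Int.ofNat 0, Int.ofNat 0, Int.ofNat 2, Int.ofNat 0, Int.ofNat 2, Int.negSucc 1, Int.ofNat 0, Int.ofNat 0, Int.ofNat 2, Int.ofNat 0, Int.ofNat 0, Int.ofNat 0, Int.ofNat 0, Int.ofNat 0, Int.ofNat 2, Int.ofNat 0, Int.ofNat 0, Int.ofNat 0, Int.ofNat 2, Int.ofNat 0, Int.ofNat 0, Int.ofNat 0, Int.ofNat 2],
  [Int.ofNat 0, Int.ofNat 0, Int.ofNat 0, Int.ofNat 0, Int.ofNat 0, Int.negSucc 1, Int.ofNat 0, Int.ofNat 2, Int.ofNat 2, Int.ofNat 0, Int.ofNat 0, Int.ofNat 0, Int.ofNat 2, Int.ofNat 0, Int.ofNat 0, Int.ofNat 0, Int.ofNat 2, Int.ofNat 0, Int.ofNat 2, Int.ofNat 0, Int.negSucc 1, Int.ofNat 0, Int.ofNat 0, Int.ofNat 2],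
  [Int.ofNat 2, Int.ofNat 0, Int.ofNat 0, Int.ofNat 0, Int.ofNat 0, Int.ofNat 0, Int.ofNat 0, Int.ofNat 0, Int.negSucc 1, Int.negSucc 1, Int.ofNat 2, Int.ofNat 0, Int.ofNat 0, Int.ofNat 2, Int.ofNat 2, Int.ofNat 0, Int.ofNat 0, Int.ofNat 0, Int.ofNat 0, Int.ofNat 0, Int.ofNat 2, Int.ofNat 2, Int.ofNat 0, Int.ofNat 0],
  [Int.negSucc 1, Int.ofNat 0, Int.ofNat 0, Int.ofNat 0, Int.ofNat 0, Int.ofNat 0, Int.ofNat 0, Int.ofNat 0, Int.negSucc 1, Int.ofNat 2, Int.negSucc 1, Int.ofNat 0, Int.ofNat 0, Int.ofNat 2, Int.ofNat 2, Int.ofNat 0, Int.ofNat 0, Int.ofNat 0, Int.ofNat 0, Int.ofNat 0, Int.ofNat 2, Int.negSucc 1, Int.ofNat 0, Int.ofNat 0],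
  [Int.ofNat 0, Int.negSucc 1, Int.ofNat 0, Int.ofNat 0, Int.ofNat 0, Int.ofNat 0, Int.ofNat 0, Int.ofNat 0, Int.ofNat 0, Int.negSucc 1, Int.ofNat 2, Int.negSucc 1, Int.ofNat 0, Int.ofNat 0, Int.ofNat 2, Int.ofNat 2, Int.ofNat 0, Int.ofNat 0, Int.ofNat 0, Int.ofNat 0, Int.ofNat 0, Int.ofNat 2, Int.negSucc 1, Int.ofNat 0],
  [Int.negSucc 0, Int.ofNat 1, Int.negSucc 0, Int.negSucc 0, Int.ofNat 1, Int.negSucc 0, Int.negSucc 0, Int.negSucc 0, Int.ofNat 1, Int.negSucc 2, Int.ofNat 1, Int.negSucc 0, Int.ofNat 1, Int.ofNat 1, Int.ofNat 1, Int.ofNat 1, Int.ofNat 1, Int.negSucc 0, Int.ofNat 1, Int.negSucc 0, Int.negSucc 0, Int.ofNat 1, Int.negSucc 0, Int.negSucc 0],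
  [Int.negSucc 0, Int.ofNat 1, Int.negSucc 0, Int.negSucc 0, Int.negSucc 0, Int.ofNat 1, Int.negSucc 2, Int.ofNat 1, Int.negSucc 0, Int.ofNat 1, Int.ofNat 1, Int.ofNat 1, Int.ofNat 1, Int.ofNat 1, Int.negSucc 0, Int.ofNat 1, Int.negSucc 0, Int.negSucc 0, Int.ofNat 1, Int.negSucc 0, Int.negSucc 0, Int.ofNat 1, Int.negSucc 0, Int.negSucc 0],
  [Int.ofNat 0, Int.negSucc 1, Int.ofNat 0, Int.ofNat 0, Int.ofNat 0, Int.ofNat 2, Int.negSucc 1, Int.ofNat 2, Int.negSucc 1, Int.ofNat 0, Int.ofNat 0, Int.ofNat 0, Int.ofNat 0, Int.ofNat 2, Int.ofNat 0, Int.ofNat 0, Int.ofNat 0, Int.ofNat 0, Int.ofNat 0, Int.ofNat 0, Int.negSucc 1, Int.ofNat 2, Int.ofNat 0, Int.ofNat 0],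
  [Int.ofNat 0, Int.negSucc 1, Int.ofNat 0, Int.ofNat 0, Int.ofNat 0, Int.ofNat 2, Int.ofNat 0, Int.ofNat 0, Int.ofNat 0, Int.ofNat 2, Int.negSucc 1, Int.ofNat 0, Int.ofNat 0, Int.ofNat 0, Int.ofNat 0, Int.ofNat 0, Int.negSucc 1, Int.ofNat 0, Int.negSucc 1, Int.ofNat 0, Int.ofNat 2, Int.ofNat 2, Int.ofNat 0, Int.ofNat 0],
  [Int.negSucc 0, Int.ofNat 1, Int.negSucc 0, Int.negSucc 0, Int.ofNat 1, Int.ofNat 1, Int.negSucc 0, Int.negSucc 0, Int.ofNat 1, Int.ofNat 1, Int.negSucc 2, Int.ofNat 1, Int.ofNat 1, Int.ofNat 1, Int.negSucc 0, Int.negSucc 0, Int.negSucc 0, Int.negSucc 0, Int.negSucc 0, Int.negSucc 0, Int.ofNat 1, Int.ofNat 1, Int.ofNat 1, Int.negSucc 0],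
  [Int.negSucc 0, Int.ofNat 1, Int.ofNat 1, Int.negSucc 0, Int.ofNat 1, Int.negSucc 0, Int.ofNat 1, Int.negSucc 0, Int.ofNat 1, Int.negSucc 0, Int.ofNat 3, Int.ofNat 1, Int.ofNat 1, Int.ofNat 1, Int.negSucc 0, Int.ofNat 1, Int.negSucc 0, Int.negSucc 0, Int.ofNat 1, Int.negSucc 0, Int.ofNat 1, Int.ofNat 1, Int.negSucc 0, Int.negSucc 0],
  [Int.ofNat 1, Int.ofNat 1, Int.negSucc 0, Int.negSucc 0, Int.ofNat 1, Int.ofNat 3, Int.negSucc 0, Int.ofNat 1, Int.negSucc 0, Int.ofNat 1, Int.ofNat 1, Int.ofNat 1, Int.ofNat 1, Int.ofNat 1, Int.ofNat 1, Int.negSucc 0, Int.negSucc 0, Int.ofNat 1, Int.negSucc 0, Int.negSucc 0, Int.negSucc 0, Int.ofNat 1, Int.negSucc 0, Int.negSucc 0],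
  [Int.ofNat 1, Int.ofNat 1, Int.ofNat 1, Int.negSucc 0, Int.ofNat 1, Int.negSucc 2, Int.ofNat 1, Int.ofNat 1, Int.negSucc 0, Int.negSucc 0, Int.negSucc 0, Int.ofNat 1, Int.ofNat 1, Int.ofNat 1, Int.ofNat 1, Int.ofNat 1, Int.negSucc 0, Int.ofNat 1, Int.ofNat 1, Int.negSucc 0, Int.negSucc 0, Int.ofNat 1, Int.ofNat 1, Int.negSucc 0],
  [Int.ofNat 0, Int.ofNat 0, Int.ofNat 0, Int.ofNat 0, Int.ofNat 0, Int.negSucc 1, Int.ofNat 0, Int.ofNat 0, Int.negSucc 1, Int.ofNat 0, Int.ofNat 0, Int.ofNat 0, Int.ofNat 0, Int.ofNat 0, Int.ofNat 2, Int.ofNat 2, Int.negSucc 1, Int.ofNat 2, Int.ofNat 0, Int.negSucc 1, Int.ofNat 0, Int.ofNat 0, Int.ofNat 0, Int.ofNat 2],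
  [Int.ofNat 0, Int.ofNat 0, Int.ofNat 0, Int.ofNat 0, Int.ofNat 0, Int.ofNat 0, Int.ofNat 0, Int.negSucc 1, Int.negSucc 1, Int.ofNat 0, Int.ofNat 0, Int.negSucc 1, Int.negSucc 1, Int.ofNat 0, Int.ofNat 2, Int.ofNat 2, Int.ofNat 0, Int.ofNat 0, Int.ofNat 0, Int.ofNat 0, Int.ofNat 0, Int.ofNat 0, Int.ofNat 2, Int.ofNat 2],
  [Int.ofNat 1, Int.ofNat 1, Int.ofNat 1, Int.negSucc 0, Int.negSucc 0, Int.negSucc 0, Int.ofNat 1, Int.negSucc 0, Int.ofNat 1, Int.negSucc 0, Int.negSucc 0, Int.ofNat 1, Int.ofNat 1, Int.negSucc 0, Int.ofNat 1, Int.ofNat 1, Int.negSucc 0, Int.negSucc 0, Int.ofNat 3, Int.ofNat 1, Int.negSucc 0, Int.ofNat 1, Int.ofNat 1, Int.negSucc 0],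
  [Int.negSucc 0, Int.ofNat 1, Int.ofNat 1, Int.ofNat 1, Int.ofNat 1, Int.ofNat 1, Int.negSucc 0, Int.negSucc 0, Int.negSucc 0, Int.ofNat 1, Int.negSucc 0, Int.ofNat 1, Int.negSucc 0, Int.negSucc 0, Int.ofNat 1, Int.ofNat 1, Int.negSucc 0, Int.ofNat 1, Int.ofNat 1, Int.negSucc 0, Int.negSucc 0, Int.ofNat 3, Int.ofNat 1, Int.negSucc 0],
  [Int.ofNat 1, Int.negSucc 0, Int.negSucc 0, Int.negSucc 0, Int.ofNat 1, Int.negSucc 0, Int.negSucc 0, Int.negSucc 0, Int.negSucc 0, Int.ofNat 1, Int.negSucc 0, Int.ofNat 1, Int.negSucc 0, Int.negSucc 0, Int.negSucc 0, Int.ofNat 1, Int.negSucc 0, Int.negSucc 0, Int.ofNat 1, Int.negSucc 0, Int.negSucc 0, Int.ofNat 3, Int.ofNat 1, Int.ofNat 1],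
  [Int.negSucc 0, Int.negSucc 0, Int.negSucc 0, Int.ofNat 1, Int.negSucc 0, Int.negSucc 0, Int.negSucc 0, Int.negSucc 0, Int.ofNat 1, Int.negSucc 0, Int.ofNat 1, Int.negSucc 0, Int.negSucc 0, Int.negSucc 0, Int.ofNat 1, Int.negSucc 0, Int.negSucc 0, Int.ofNat 1, Int.negSucc 0, Int.negSucc 0, Int.ofNat 3, Int.ofNat 1, Int.ofNat 1, Int.ofNat 1],
  [Int.ofNat 1, Int.negSucc 0, Int.ofNat 1, Int.ofNat 1, Int.negSucc 0, Int.negSucc 0, Int.negSucc 0, Int.ofNat 1, Int.ofNat 1, Int.ofNat 1, Int.negSucc 0, Int.ofNat 1, Int.negSucc 0, Int.negSucc 0, Int.ofNat 1, Int.negSucc 0, Int.negSucc 0, Int.ofNat 1, Int.ofNat 1, Int.negSucc 0, Int.ofNat 3, Int.negSucc 0, Int.ofNat 1, Int.ofNat 1],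
  [Int.negSucc 0, Int.ofNat 1, Int.negSucc 0, Int.negSucc 0, Int.ofNat 1, Int.negSucc 0, Int.ofNat 1, Int.ofNat 1, Int.negSucc 0, Int.negSucc 0, Int.negSucc 0, Int.ofNat 1, Int.ofNat 1, Int.ofNat 1, Int.ofNat 1, Int.negSucc 0, Int.ofNat 1, Int.ofNat 1, Int.negSucc 0, Int.negSucc 0, Int.ofNat 3, Int.negSucc 0, Int.ofNat 1, Int.ofNat 1],
  [Int.negSucc 0, Int.negSucc 0, Int.negSucc 0, Int.negSucc 0, Int.ofNat 1, Int.negSucc 0, Int.ofNat 1, Int.ofNat 3, Int.negSucc 0, Int.ofNat 1, Int.negSucc 0, Int.ofNat 1, Int.ofNat 1, Int.negSucc 0, Int.negSucc 0, Int.negSucc 0, Int.ofNat 1, Int.ofNat 1, Int.ofNat 1, Int.ofNat 1, Int.negSucc 0, Int.ofNat 1, Int.ofNat 1, Int.ofNat 1],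
  [Int.ofNat 1, Int.negSucc 0, Int.ofNat 1, Int.negSucc 0, Int.ofNat 1, Int.negSucc 0, Int.ofNat 1, Int.negSucc 2, Int.negSucc 0, Int.negSucc 0, Int.ofNat 1, Int.negSucc 0, Int.ofNat 1, Int.negSucc 0, Int.negSucc 0, Int.negSucc 0, Int.ofNat 1, Int.ofNat 1, Int.negSucc 0, Int.ofNat 1, Int.negSucc 0, Int.negSucc 0, Int.ofNat 1, Int.ofNat 1],
  [Int.ofNat 1, Int.ofNat 1, Int.negSucc 0, Int.ofNat 1, Int.negSucc 0, Int.ofNat 1, Int.negSucc 0, Int.ofNat 1, Int.negSucc 2, Int.negSucc 0, Int.negSucc 0, Int.ofNat 1, Int.negSucc 0, Int.ofNat 1, Int.negSucc 0, Int.negSucc 0, Int.negSucc 0, Int.ofNat 1, Int.ofNat 1, Int.negSucc 0, Int.ofNat 1, Int.negSucc 0, Int.negSucc 0, Int.ofNat 1],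
  [Int.ofNat 0, Int.ofNat 0, Int.ofNat 2, Int.ofNat 0, Int.ofNat 0, Int.ofNat 0, Int.ofNat 0, Int.ofNat 2, Int.negSucc 1, Int.ofNat 0, Int.ofNat 0, Int.ofNat 2, Int.ofNat 0, Int.ofNat 2, Int.negSucc 1, Int.ofNat 0, Int.ofNat 0, Int.ofNat 0, Int.ofNat 2, Int.ofNat 0, Int.ofNat 2, Int.ofNat 0, Int.ofNat 0, Int.ofNat 0],
  [Int.ofNat 0, Int.ofNat 0, Int.ofNat 0, Int.ofNat 0, Int.ofNat 2, Int.negSucc 1, Int.ofNat 0, Int.ofNat 0, Int.ofNat 2, Int.ofNat 0, Int.ofNat 2, Int.negSucc 1, Int.ofNat 0, Int.ofNat 0, Int.ofNat 0, Int.ofNat 2, Int.ofNat 0, Int.ofNat 2, Int.ofNat 0, Int.ofNat 0, Int.ofNat 0, Int.ofNat 0, Int.ofNat 2, Int.ofNat 0],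
  [Int.ofNat 0, Int.ofNat 0, Int.ofNat 0, Int.ofNat 0, Int.ofNat 0, Int.negSucc 1, Int.ofNat 0, Int.ofNat 0, Int.ofNat 2, Int.negSucc 1, Int.ofNat 0, Int.negSucc 1, Int.ofNat 0, Int.negSucc 1, Int.ofNat 0, Int.ofNat 0, Int.negSucc 1, Int.ofNat 2, Int.ofNat 0, Int.ofNat 0, Int.negSucc 1, Int.ofNat 0, Int.ofNat 0, Int.ofNat 0],
  [Int.ofNat 0, Int.ofNat 0, Int.ofNat 0, Int.ofNat 0, Int.ofNat 0, Int.ofNat 0, Int.ofNat 0, Int.ofNat 0, Int.ofNat 0, Int.negSucc 1, Int.negSucc 1, Int.ofNat 2, Int.negSucc 1, Int.negSucc 1, Int.ofNat 0, Int.ofNat 0, Int.ofNat 2, Int.ofNat 0, Int.ofNat 0, Int.negSucc 1, Int.ofNat 0, Int.negSucc 1, Int.ofNat 0, Int.ofNat 0],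
  [Int.ofNat 0, Int.ofNat 0, Int.ofNat 0, Int.ofNat 0, Int.ofNat 0, Int.ofNat 0, Int.ofNat 2, Int.ofNat 2, Int.ofNat 0, Int.ofNat 0, Int.ofNat 0, Int.ofNat 2, Int.negSucc 1, Int.negSucc 1, Int.ofNat 0, Int.ofNat 2, Int.ofNat 2, Int.ofNat 0, Int.ofNat 0, Int.ofNat 0, Int.ofNat 2, Int.ofNat 0, Int.ofNat 0, Int.ofNat 0],
  [Int.ofNat 0, Int.ofNat 0, Int.ofNat 0, Int.ofNat 0, Int.ofNat 0, Int.ofNat 0, Int.negSucc 1, Int.ofNat 2, Int.ofNat 0, Int.ofNat 0, Int.ofNat 0, Int.ofNat 2, Int.negSucc 1, Int.negSucc 1, Int.ofNat 0, Int.negSucc 1, Int.ofNat 2, Int.ofNat 0, Int.ofNat 0, Int.ofNat 0, Int.ofNat 2, Int.ofNat 0, Int.ofNat 0, Int.ofNat 0],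
  [Int.ofNat 0, Int.ofNat 2, Int.ofNat 2, Int.ofNat 0, Int.ofNat 0, Int.negSucc 1, Int.ofNat 0, Int.ofNat 0, Int.ofNat 0, Int.ofNat 2, Int.negSucc 1, Int.ofNat 2, Int.negSucc 1, Int.ofNat 0, Int.ofNat 0, Int.ofNat 0, Int.ofNat 0, Int.negSucc 1, Int.ofNat 0, Int.ofNat 0, Int.ofNat 0, Int.ofNat 0, Int.ofNat 0, Int.ofNat 0],
  [Int.ofNat 0, Int.ofNat 0, Int.ofNat 2, Int.ofNat 0, Int.negSucc 1, Int.ofNat 2, Int.ofNat 0, Int.ofNat 0, Int.ofNat 0, Int.negSucc 1, Int.ofNat 0, Int.ofNat 2, Int.ofNat 0, Int.ofNat 0, Int.ofNat 0, Int.ofNat 0, Int.negSucc 1, Int.ofNat 0, Int.ofNat 0, Int.ofNat 0, Int.ofNat 0, Int.negSucc 1, Int.ofNat 2, Int.ofNat 0],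
  [Int.ofNat 0, Int.ofNat 0, Int.negSucc 1, Int.ofNat 0, Int.negSucc 1, Int.ofNat 2, Int.ofNat 0, Int.ofNat 0, Int.ofNat 0, Int.ofNat 2, Int.ofNat 0, Int.negSucc 1, Int.ofNat 0, Int.ofNat 0, Int.ofNat 0, Int.ofNat 0, Int.negSucc 1, Int.ofNat 0, Int.ofNat 0, Int.ofNat 0, Int.ofNat 0, Int.ofNat 2, Int.ofNat 2, Int.ofNat 0],
  [Int.ofNat 2, Int.ofNat 0, Int.ofNat 0, Int.negSucc 1, Int.ofNat 0, Int.negSucc 1, Int.ofNat 2, Int.ofNat 0, Int.ofNat 0, Int.ofNat 0, Int.ofNat 2, Int.ofNat 0, Int.negSucc 1, Int.ofNat 0, Int.ofNat 0, Int.ofNat 0, Int.ofNat 0, Int.negSucc 1, Int.ofNat 0, Int.ofNat 0, Int.ofNat 0, Int.ofNat 0, Int.ofNat 2, Int.ofNat 0],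
  [Int.negSucc 0, Int.ofNat 1, Int.ofNat 1, Int.ofNat 1, Int.negSucc 0, Int.ofNat 1, Int.ofNat 1, Int.negSucc 0, Int.ofNat 1, Int.negSucc 0, Int.ofNat 1, Int.ofNat 1, Int.negSucc 0, Int.negSucc 0, Int.ofNat 3, Int.negSucc 0, Int.negSucc 0, Int.ofNat 1, Int.ofNat 1, Int.negSucc 0, Int.negSucc 0, Int.negSucc 0, Int.ofNat 1, Int.ofNat 1],
  [Int.ofNat 1, Int.negSucc 0, Int.ofNat 1, Int.ofNat 1, Int.negSucc 0, Int.ofNat 1, Int.negSucc 0, Int.ofNat 1, Int.ofNat 1, Int.negSucc 0, Int.negSucc 0, Int.ofNat 3, Int.negSucc 0, Int.negSucc 0, Int.ofNat 1, Int.ofNat 1, Int.negSucc 0, Int.negSucc 0, Int.negSucc 0, Int.ofNat 1, Int.negSucc 0, Int.ofNat 1, Int.ofNat 1, Int.ofNat 1],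
  [Int.ofNat 0, Int.ofNat 2, Int.ofNat 0, Int.ofNat 0, Int.ofNat 0, Int.ofNat 0, Int.negSucc 1, Int.ofNat 0, Int.ofNat 0, Int.ofNat 0, Int.ofNat 0, Int.ofNat 2, Int.negSucc 1, Int.ofNat 0, Int.ofNat 0, Int.ofNat 2, Int.ofNat 0, Int.negSucc 1, Int.negSucc 1, Int.ofNat 0, Int.ofNat 0, Int.ofNat 0, Int.ofNat 2, Int.ofNat 0],
  [Int.ofNat 0, Int.negSucc 1, Int.ofNat 0, Int.ofNat 0, Int.negSucc 1, Int.ofNat 0, Int.ofNat 0, Int.ofNat 0, Int.negSucc 1, Int.ofNat 0, Int.ofNat 0, Int.negSucc 1, Int.ofNat 0, Int.ofNat 0, Int.ofNat 2, Int.ofNat 2, Int.ofNat 0, Int.ofNat 0, Int.ofNat 2, Int.ofNat 2, Int.ofNat 0, Int.ofNat 0, Int.ofNat 0, Int.ofNat 0],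
  [Int.negSucc 0, Int.ofNat 1, Int.negSucc 0, Int.negSucc 0, Int.negSucc 0, Int.negSucc 0, Int.negSucc 0, Int.negSucc 0, Int.negSucc 0, Int.negSucc 0, Int.negSucc 0, Int.negSucc 0, Int.ofNat 1, Int.ofNat 1, Int.ofNat 1, Int.ofNat 1, Int.ofNat 1, Int.negSucc 0, Int.ofNat 3, Int.ofNat 1, Int.negSucc 0, Int.negSucc 0, Int.ofNat 1, Int.negSucc 0],
  [Int.negSucc 0, Int.ofNat 1, Int.ofNat 1, Int.negSucc 0, Int.negSucc 0, Int.ofNat 1, Int.ofNat 1, Int.negSucc 0, Int.negSucc 0, Int.ofNat 1, Int.ofNat 1, Int.negSucc 0, Int.ofNat 1, Int.ofNat 1, Int.ofNat 1, Int.negSucc 0, Int.ofNat 1, Int.negSucc 0, Int.negSucc 2, Int.ofNat 1, Int.negSucc 0, Int.negSucc 0, Int.negSucc 0, Int.negSucc 0],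
  [Int.negSucc 0, Int.negSucc 0, Int.negSucc 0, Int.negSucc 0, Int.ofNat 1, Int.ofNat 1, Int.negSucc 0, Int.negSucc 0, Int.ofNat 1, Int.ofNat 1, Int.negSucc 2, Int.ofNat 1, Int.negSucc 0, Int.negSucc 0, Int.ofNat 1, Int.ofNat 1, Int.ofNat 1, Int.negSucc 0, Int.negSucc 0, Int.ofNat 1, Int.ofNat 1, Int.ofNat 1, Int.negSucc 0, Int.negSucc 0],
  [Int.negSucc 0, Int.negSucc 0, Int.ofNat 1, Int.negSucc 0, Int.ofNat 1, Int.negSucc 0, Int.ofNat 1, Int.negSucc 0, Int.ofNat 1, Int.negSucc 0, Int.ofNat 3, Int.ofNat 1, Int.negSucc 0, Int.negSucc 0, Int.ofNat 1, Int.negSucc 0, Int.ofNat 1, Int.negSucc 0, Int.ofNat 1, Int.ofNat 1, Int.ofNat 1, Int.ofNat 1, Int.ofNat 1, Int.negSucc 0],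
  [Int.ofNat 0, Int.ofNat 0, Int.negSucc 1, Int.ofNat 0, Int.ofNat 0, Int.ofNat 0, Int.ofNat 0, Int.negSucc 1, Int.ofNat 0, Int.negSucc 1, Int.ofNat 2, Int.ofNat 0, Int.negSucc 1, Int.negSucc 1, Int.ofNat 2, Int.negSucc 1, Int.ofNat 0, Int.ofNat 0, Int.ofNat 0, Int.ofNat 0, Int.ofNat 0, Int.ofNat 0, Int.ofNat 0, Int.ofNat 0],
  [Int.ofNat 0, Int.ofNat 0, Int.ofNat 0, Int.ofNat 0, Int.negSucc 1, Int.ofNat 0, Int.ofNat 0, Int.ofNat 0, Int.ofNat 0, Int.negSucc 1, Int.negSucc 1, Int.ofNat 0, Int.ofNat 0, Int.negSucc 1, Int.ofNat 0, Int.negSucc 1, Int.negSucc 1, Int.ofNat 0, Int.ofNat 0, Int.ofNat 0, Int.ofNat 2, Int.ofNat 0, Int.ofNat 2, Int.ofNat 0],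
  [Int.ofNat 0, Int.ofNat 0, Int.ofNat 0, Int.ofNat 0, Int.ofNat 0, Int.ofNat 0, Int.ofNat 0, Int.ofNat 0, Int.ofNat 0, Int.ofNat 0, Int.ofNat 0, Int.ofNat 0, Int.ofNat 0, Int.ofNat 0, Int.ofNat 0, Int.ofNat 0, Int.ofNat 0, Int.ofNat 0, Int.ofNat 0, Int.ofNat 0, Int.ofNat 4, Int.ofNat 0, Int.ofNat 4, Int.ofNat 0],
  [Int.ofNat 4, Int.ofNat 0, Int.ofNat 4, Int.ofNat 0, Int.ofNat 0, Int.ofNat 0, Int.ofNat 0, Int.ofNat 0, Int.ofNat 0, Int.ofNat 0, Int.ofNat 0, Int.ofNat 0, Int.ofNat 0, Int.ofNat 0, Int.ofNat 0, Int.ofNat 0, Int.ofNat 0, Int.ofNat 0, Int.ofNat 0, Int.ofNat 0, Int.ofNat 0, Int.ofNat 0, Int.ofNat 0, Int.ofNat 0],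
  [Int.ofNat 0, Int.ofNat 4, Int.ofNat 0, Int.ofNat 0, Int.ofNat 0, Int.ofNat 0, Int.ofNat 0, Int.ofNat 0, Int.ofNat 0, Int.ofNat 0, Int.ofNat 0, Int.ofNat 0, Int.ofNat 0, Int.ofNat 0, Int.ofNat 0, Int.ofNat 0, Int.ofNat 0, Int.ofNat 0, Int.ofNat 0, Int.ofNat 0, Int.ofNat 0, Int.ofNat 0, Int.ofNat 0, Int.ofNat 4],
  [Int.ofNat 4, Int.ofNat 0, Int.ofNat 0, Int.ofNat 0, Int.ofNat 0, Int.ofNat 0, Int.ofNat 0, Int.ofNat 0, Int.ofNat 0, Int.ofNat 0, Int.ofNat 0, Int.ofNat 0, Int.ofNat 0, Int.ofNat 0, Int.ofNat 0, Int.ofNat 0, Int.ofNat 0, Int.ofNat 0, Int.ofNat 0, Int.ofNat 0, Int.ofNat 0, Int.ofNat 0, Int.ofNat 0, Int.ofNat 4],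
  [Int.negSucc 3, Int.ofNat 0, Int.ofNat 0, Int.ofNat 0, Int.ofNat 0, Int.ofNat 0, Int.ofNat 0, Int.ofNat 0, Int.ofNat 0, Int.ofNat 0, Int.ofNat 0, Int.ofNat 0, Int.ofNat 0, Int.ofNat 0, Int.ofNat 0, Int.ofNat 0, Int.ofNat 0, Int.ofNat 0, Int.ofNat 0, Int.ofNat 0, Int.ofNat 0, Int.ofNat 0, Int.ofNat 0, Int.ofNat 4],
  [Int.ofNat 4, Int.ofNat 0, Int.ofNat 0, Int.ofNat 0, Int.ofNat 0, Int.ofNat 0, Int.ofNat 0, Int.ofNat 0, Int.ofNat 0, Int.ofNat 0, Int.ofNat 0, Int.ofNat 0, Int.ofNat 0, Int.ofNat 0, Int.ofNat 0, Int.ofNat 0, Int.ofNat 0, Int.ofNat 0, Int.ofNat 0, Int.ofNat 0, Int.ofNat 0, Int.ofNat 0, Int.ofNat 0, Int.ofNat 4],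
  [Int.ofNat 4, Int.ofNat 0, Int.ofNat 0, Int.ofNat 0, Int.ofNat 0, Int.ofNat 0, Int.ofNat 0, Int.ofNat 0, Int.ofNat 0, Int.ofNat 0, Int.ofNat 0, Int.ofNat 0, Int.ofNat 0, Int.ofNat 0, Int.ofNat 0, Int.ofNat 0, Int.ofNat 0, Int.ofNat 0, Int.ofNat 0, Int.ofNat 0, Int.ofNat 0, Int.ofNat 0, Int.ofNat 0, Int.ofNat 4],
  [Int.negSucc 3, Int.ofNat 0, Int.ofNat 0, Int.ofNat 0, Int.ofNat 0, Int.ofNat 0, Int.ofNat 0, Int.ofNat 0, Int.ofNat 0, Int.ofNat 0, Int.ofNat 0, Int.ofNat 0, Int.ofNat 0, Int.ofNat 0, Int.ofNat 0, Int.ofNat 0, Int.ofNat 0, Int.ofNat 0, Int.ofNat 0, Int.ofNat 0, Int.ofNat 0, Int.ofNat 0, Int.ofNat 0, Int.ofNat 4],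
  [Int.ofNat 0, Int.negSucc 3, Int.ofNat 0, Int.ofNat 0, Int.ofNat 0, Int.ofNat 0, Int.ofNat 0, Int.ofNat 0, Int.ofNat 0, Int.ofNat 0, Int.ofNat 0, Int.ofNat 0, Int.ofNat 0, Int.ofNat 0, Int.ofNat 0, Int.ofNat 0, Int.ofNat 0, Int.ofNat 0, Int.ofNat 0, Int.ofNat 0, Int.ofNat 0, Int.ofNat 0, Int.ofNat 0, Int.ofNat 4],
  [Int.ofNat 0, Int.ofNat 4, Int.ofNat 0, Int.ofNat 0, Int.ofNat 0, Int.ofNat 0, Int.ofNat 0, Int.ofNat 0, Int.ofNat 0, Int.ofNat 0, Int.ofNat 0, Int.ofNat 0, Int.ofNat 0, Int.ofNat 0, Int.ofNat 0, Int.ofNat 0, Int.ofNat 0, Int.ofNat 0, Int.ofNat 0, Int.ofNat 0, Int.ofNat 0, Int.ofNat 0, Int.ofNat 0, Int.negSucc 3],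
  [Int.ofNat 0, Int.ofNat 0, Int.ofNat 0, Int.ofNat 0, Int.ofNat 0, Int.ofNat 0, Int.ofNat 0, Int.ofNat 0, Int.ofNat 0, Int.ofNat 0, Int.ofNat 0, Int.ofNat 0, Int.ofNat 0, Int.ofNat 0, Int.ofNat 0, Int.ofNat 0, Int.ofNat 0, Int.ofNat 0, Int.ofNat 0, Int.ofNat 0, Int.ofNat 0, Int.ofNat 4, Int.ofNat 0, Int.negSucc 3],
  [Int.negSucc 1, Int.negSucc 1, Int.negSucc 1, Int.ofNat 0, Int.ofNat 0, Int.ofNat 0, Int.negSucc 1, Int.negSucc 1, Int.ofNat 0, Int.ofNat 0, Int.ofNat 0, Int.ofNat 0, Int.ofNat 0, Int.ofNat 0, Int.ofNat 0, Int.ofNat 0, Int.ofNat 0, Int.ofNat 0, Int.ofNat 0, Int.negSucc 1, Int.ofNat 0, Int.ofNat 2, Int.ofNat 0, Int.ofNat 2],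
  [Int.negSucc 1, Int.negSucc 1, Int.ofNat 0, Int.ofNat 0, Int.ofNat 0, Int.negSucc 1, Int.negSucc 1, Int.ofNat 0, Int.ofNat 0, Int.ofNat 0, Int.ofNat 0, Int.ofNat 0, Int.ofNat 0, Int.ofNat 0, Int.ofNat 0, Int.ofNat 0, Int.ofNat 0, Int.ofNat 0, Int.negSucc 1, Int.ofNat 0, Int.ofNat 2, Int.ofNat 0, Int.negSucc 1, Int.ofNat 2],
  [Int.ofNat 1, Int.ofNat 1, Int.negSucc 0, Int.ofNat 1, Int.ofNat 1, Int.negSucc 0, Int.negSucc 0, Int.ofNat 1, Int.ofNat 1, Int.negSucc 0, Int.negSucc 0, Int.ofNat 1, Int.ofNat 1, Int.ofNat 1, Int.ofNat 1, Int.negSucc 0, Int.ofNat 1, Int.ofNat 1, Int.negSucc 0, Int.ofNat 1, Int.ofNat 1, Int.ofNat 1, Int.negSucc 0, Int.negSucc 2],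
  [Int.ofNat 1, Int.ofNat 1, Int.ofNat 1, Int.ofNat 1, Int.ofNat 1, Int.ofNat 1, Int.ofNat 1, Int.ofNat 1, Int.ofNat 1, Int.ofNat 1, Int.ofNat 1, Int.ofNat 1, Int.ofNat 1, Int.ofNat 1, Int.ofNat 1, Int.ofNat 1, Int.ofNat 1, Int.ofNat 1, Int.ofNat 1, Int.ofNat 1, Int.ofNat 1, Int.ofNat 1, Int.ofNat 1, Int.negSucc 2],
  [Int.ofNat 1, Int.ofNat 1, Int.ofNat 1, Int.ofNat 1, Int.ofNat 1, Int.ofNat 1, Int.ofNat 1, Int.ofNat 1, Int.ofNat 1, Int.ofNat 1, Int.ofNat 1, Int.ofNat 1, Int.ofNat 1, Int.ofNat 1, Int.ofNat 1, Int.ofNat 1, Int.ofNat 1, Int.ofNat 1, Int.ofNat 1, Int.ofNat 1, Int.ofNat 1, Int.ofNat 1, Int.ofNat 1, Int.negSucc 2],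
  [Int.negSucc 2, Int.ofNat 1, Int.ofNat 1, Int.ofNat 1, Int.ofNat 1, Int.ofNat 1, Int.ofNat 1, Int.ofNat 1, Int.ofNat 1, Int.ofNat 1, Int.ofNat 1, Int.ofNat 1, Int.ofNat 1, Int.ofNat 1, Int.ofNat 1, Int.ofNat 1, Int.ofNat 1, Int.ofNat 1, Int.ofNat 1, Int.ofNat 1, Int.ofNat 1, Int.ofNat 1, Int.ofNat 1, Int.ofNat 1],
  [Int.ofNat 3, Int.ofNat 1, Int.negSucc 0, Int.ofNat 1, Int.ofNat 1, Int.ofNat 1, Int.ofNat 1, Int.negSucc 0, Int.ofNat 1, Int.negSucc 0, Int.negSucc 0, Int.negSucc 0, Int.ofNat 1, Int.ofNat 1, Int.ofNat 1, Int.ofNat 1, Int.ofNat 1, Int.ofNat 1, Int.negSucc 0, Int.ofNat 1, Int.ofNat 1, Int.negSucc 0, Int.ofNat 1, Int.ofNat 1],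
  [Int.ofNat 1, Int.ofNat 3, Int.ofNat 1, Int.negSucc 0, Int.ofNat 1, Int.ofNat 1, Int.ofNat 1, Int.ofNat 1, Int.negSucc 0, Int.ofNat 1, Int.negSucc 0, Int.negSucc 0, Int.negSucc 0, Int.ofNat 1, Int.ofNat 1, Int.ofNat 1, Int.ofNat 1, Int.ofNat 1, Int.ofNat 1, Int.negSucc 0, Int.ofNat 1, Int.ofNat 1, Int.negSucc 0, Int.ofNat 1],
  [Int.ofNat 2, Int.ofNat 0, Int.ofNat 2, Int.negSucc 1, Int.ofNat 0, Int.ofNat 0, Int.ofNat 0, Int.ofNat 0, Int.ofNat 0, Int.ofNat 0, Int.negSucc 1, Int.ofNat 0, Int.ofNat 0, Int.ofNat 0, Int.ofNat 0, Int.ofNat 0, Int.ofNat 0, Int.ofNat 0, Int.ofNat 2, Int.negSucc 1, Int.ofNat 0, Int.ofNat 0, Int.negSucc 1, Int.ofNat 2],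
  [Int.negSucc 1, Int.ofNat 0, Int.ofNat 0, Int.ofNat 0, Int.ofNat 0, Int.ofNat 0, Int.ofNat 0, Int.negSucc 1, Int.ofNat 0, Int.ofNat 0, Int.ofNat 0, Int.ofNat 0, Int.ofNat 0, Int.ofNat 0, Int.ofNat 0, Int.ofNat 2, Int.negSucc 1, Int.ofNat 0, Int.ofNat 0, Int.negSucc 1, Int.ofNat 2, Int.ofNat 0, Int.ofNat 2, Int.ofNat 2],
  [Int.ofNat 2, Int.ofNat 0, Int.ofNat 0, Int.ofNat 0, Int.ofNat 0, Int.ofNat 0, Int.ofNat 2, Int.ofNat 0, Int.ofNat 0, Int.negSucc 1, Int.negSucc 1, Int.ofNat 0, Int.ofNat 0, Int.ofNat 0, Int.ofNat 0, Int.ofNat 0, Int.negSucc 1, Int.ofNat 0, Int.ofNat 0, Int.ofNat 0, Int.ofNat 0, Int.ofNat 2, Int.ofNat 2, Int.negSucc 1],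
  [Int.ofNat 2, Int.ofNat 2, Int.ofNat 0, Int.ofNat 0, Int.ofNat 0, Int.ofNat 0, Int.ofNat 0, Int.negSucc 1, Int.ofNat 0, Int.ofNat 0, Int.ofNat 0, Int.ofNat 0, Int.negSucc 1, Int.negSucc 1, Int.ofNat 2, Int.ofNat 0, Int.ofNat 0, Int.ofNat 0, Int.ofNat 0, Int.ofNat 0, Int.ofNat 2, Int.ofNat 0, Int.ofNat 0, Int.negSucc 1],
  [Int.negSucc 0, Int.negSucc 0, Int.ofNat 1, Int.negSucc 0, Int.ofNat 1, Int.negSucc 0, Int.ofNat 1, Int.negSucc 0, Int.ofNat 1, Int.negSucc 0, Int.negSucc 0, Int.ofNat 1, Int.negSucc 0, Int.negSucc 0, Int.ofNat 1, Int.negSucc 0, Int.ofNat 1, Int.negSucc 0, Int.ofNat 1, Int.ofNat 1, Int.ofNat 1, Int.ofNat 1, Int.ofNat 1, Int.ofNat 3],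
  [Int.negSucc 0, Int.negSucc 0, Int.negSucc 0, Int.negSucc 0, Int.ofNat 1, Int.ofNat 1, Int.negSucc 0, Int.negSucc 0, Int.ofNat 1, Int.ofNat 1, Int.ofNat 1, Int.ofNat 1, Int.negSucc 0, Int.negSucc 0, Int.ofNat 1, Int.ofNat 1, Int.ofNat 1, Int.negSucc 0, Int.negSucc 0, Int.ofNat 1, Int.ofNat 1, Int.ofNat 1, Int.negSucc 0, Int.ofNat 3],
  [Int.ofNat 1, Int.ofNat 1, Int.negSucc 0, Int.negSucc 0, Int.negSucc 0, Int.ofNat 1, Int.negSucc 0, Int.ofNat 1, Int.ofNat 1, Int.negSucc 0, Int.negSucc 0, Int.negSucc 0, Int.ofNat 1, Int.ofNat 1, Int.negSucc 0, Int.ofNat 1, Int.ofNat 1, Int.ofNat 1, Int.negSucc 0, Int.ofNat 1, Int.ofNat 1, Int.negSucc 0, Int.negSucc 0, Int.ofNat 3],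
  [Int.ofNat 1, Int.ofNat 1, Int.ofNat 1, Int.negSucc 0, Int.negSucc 0, Int.negSucc 0, Int.ofNat 1, Int.ofNat 1, Int.ofNat 1, Int.ofNat 1, Int.ofNat 1, Int.negSucc 0, Int.ofNat 1, Int.ofNat 1, Int.negSucc 0, Int.negSucc 0, Int.ofNat 1, Int.ofNat 1, Int.ofNat 1, Int.ofNat 1, Int.ofNat 1, Int.negSucc 0, Int.ofNat 1, Int.ofNat 3],
  [Int.ofNat 2, Int.ofNat 2, Int.ofNat 2, Int.ofNat 0, Int.negSucc 1, Int.ofNat 0, Int.ofNat 0, Int.ofNat 0, Int.ofNat 0, Int.ofNat 0, Int.ofNat 0, Int.negSucc 1, Int.ofNat 0, Int.ofNat 0, Int.ofNat 0, Int.negSucc 1, Int.ofNat 0, Int.ofNat 2, Int.ofNat 0, Int.ofNat 0, Int.ofNat 0, Int.negSucc 1, Int.ofNat 0, Int.ofNat 0],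
  [Int.ofNat 2, Int.ofNat 0, Int.ofNat 0, Int.ofNat 0, Int.ofNat 2, Int.negSucc 1, Int.ofNat 2, Int.ofNat 0, Int.ofNat 0, Int.ofNat 0, Int.ofNat 0, Int.ofNat 0, Int.ofNat 0, Int.ofNat 0, Int.ofNat 2, Int.negSucc 1, Int.ofNat 0, Int.negSucc 1, Int.negSucc 1, Int.ofNat 0, Int.ofNat 0, Int.ofNat 0, Int.ofNat 0, Int.ofNat 0],
  [Int.negSucc 0, Int.ofNat 1, Int.ofNat 1, Int.ofNat 1, Int.ofNat 1, Int.negSucc 0, Int.ofNat 1, Int.negSucc 0, Int.ofNat 1, Int.ofNat 1, Int.ofNat 1, Int.ofNat 1, Int.ofNat 1, Int.negSucc 0, Int.ofNat 3, Int.negSucc 0, Int.negSucc 0, Int.negSucc 0, Int.negSucc 0, Int.negSucc 0, Int.ofNat 1, Int.negSucc 0, Int.negSucc 0, Int.ofNat 1],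
  [Int.ofNat 1, Int.negSucc 0, Int.negSucc 0, Int.negSucc 0, Int.ofNat 1, Int.ofNat 1, Int.ofNat 1, Int.ofNat 1, Int.negSucc 0, Int.ofNat 1, Int.negSucc 0, Int.ofNat 1, Int.ofNat 1, Int.ofNat 1, Int.ofNat 1, Int.ofNat 1, Int.negSucc 0, Int.ofNat 3, Int.negSucc 0, Int.negSucc 0, Int.negSucc 0, Int.negSucc 0, Int.negSucc 0, Int.ofNat 1],
  [Int.negSucc 0, Int.ofNat 1, Int.ofNat 1, Int.negSucc 2, Int.ofNat 1, Int.negSucc 0, Int.ofNat 1, Int.ofNat 1, Int.negSucc 0, Int.ofNat 1, Int.negSucc 0, Int.ofNat 1, Int.ofNat 1, Int.ofNat 1, Int.negSucc 0, Int.ofNat 1, Int.negSucc 0, Int.ofNat 1, Int.negSucc 0, Int.negSucc 0, Int.negSucc 0, Int.negSucc 0, Int.negSucc 0, Int.negSucc 0],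
  [Int.ofNat 1, Int.ofNat 1, Int.negSucc 2, Int.ofNat 1, Int.negSucc 0, Int.ofNat 1, Int.ofNat 1, Int.negSucc 0, Int.ofNat 1, Int.negSucc 0, Int.ofNat 1, Int.ofNat 1, Int.ofNat 1, Int.negSucc 0, Int.ofNat 1, Int.negSucc 0, Int.ofNat 1, Int.negSucc 0, Int.negSucc 0, Int.negSucc 0, Int.negSucc 0, Int.negSucc 0, Int.negSucc 0, Int.negSucc 0],
  [Int.negSucc 0, Int.ofNat 1, Int.ofNat 3, Int.ofNat 1, Int.negSucc 0, Int.ofNat 1, Int.ofNat 1, Int.ofNat 1, Int.ofNat 1, Int.ofNat 1, Int.negSucc 0, Int.negSucc 0, Int.ofNat 1, Int.negSucc 0, Int.ofNat 1, Int.negSucc 0, Int.ofNat 1, Int.negSucc 0, Int.ofNat 1, Int.negSucc 0, Int.negSucc 0, Int.ofNat 1, Int.negSucc 0, Int.negSucc 0],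
  [Int.ofNat 1, Int.negSucc 0, Int.negSucc 2, Int.negSucc 0, Int.ofNat 1, Int.ofNat 1, Int.negSucc 0, Int.ofNat 1, Int.negSucc 0, Int.negSucc 0, Int.negSucc 0, Int.negSucc 0, Int.negSucc 0, Int.ofNat 1, Int.ofNat 1, Int.negSucc 0, Int.negSucc 0, Int.negSucc 0, Int.negSucc 0, Int.negSucc 0, Int.negSucc 0, Int.ofNat 1, Int.negSucc 0, Int.negSucc 0],
  [Int.ofNat 1, Int.negSucc 2, Int.negSucc 0, Int.negSucc 0, Int.negSucc 0, Int.negSucc 0, Int.ofNat 1, Int.negSucc 0, Int.negSucc 0, Int.negSucc 0, Int.ofNat 1, Int.ofNat 1, Int.ofNat 1, Int.negSucc 0, Int.negSucc 0, Int.negSucc 0, Int.negSucc 0, Int.negSucc 0, Int.negSucc 0, Int.negSucc 0, Int.ofNat 1, Int.ofNat 1, Int.negSucc 0, Int.negSucc 0],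
  [Int.negSucc 0, Int.negSucc 2, Int.ofNat 1, Int.negSucc 0, Int.negSucc 0, Int.negSucc 0, Int.ofNat 1, Int.ofNat 1, Int.negSucc 0, Int.ofNat 1, Int.negSucc 0, Int.negSucc 0, Int.ofNat 1, Int.negSucc 0, Int.negSucc 0, Int.negSucc 0, Int.negSucc 0, Int.negSucc 0, Int.ofNat 1, Int.negSucc 0, Int.ofNat 1, Int.negSucc 0, Int.negSucc 0, Int.negSucc 0],
  [Int.negSucc 0, Int.negSucc 0, Int.negSucc 2, Int.ofNat 1, Int.negSucc 0, Int.negSucc 0, Int.negSucc 0, Int.ofNat 1, Int.ofNat 1, Int.negSucc 0, Int.ofNat 1, Int.negSucc 0, Int.negSucc 0, Int.ofNat 1, Int.negSucc 0, Int.negSucc 0, Int.negSucc 0, Int.negSucc 0, Int.negSucc 0, Int.ofNat 1, Int.negSucc 0, Int.ofNat 1, Int.negSucc 0, Int.negSucc 0],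
  [Int.negSucc 1, Int.negSucc 1, Int.ofNat 0, Int.ofNat 2, Int.ofNat 0, Int.ofNat 0, Int.negSucc 1, Int.ofNat 0, Int.ofNat 2, Int.ofNat 0, Int.ofNat 2, Int.ofNat 0, Int.ofNat 0, Int.ofNat 2, Int.ofNat 0, Int.ofNat 0, Int.ofNat 0, Int.ofNat 0, Int.ofNat 0, Int.ofNat 0, Int.ofNat 0, Int.ofNat 0, Int.ofNat 0, Int.negSucc 1],
  [Int.ofNat 2, Int.ofNat 0, Int.ofNat 0, Int.negSucc 1, Int.ofNat 0, Int.ofNat 2, Int.ofNat 0, Int.ofNat 2, Int.ofNat 0, Int.ofNat 0, Int.ofNat 2, Int.ofNat 0, Int.ofNat 0, Int.ofNat 0, Int.ofNat 0, Int.ofNat 0, Int.ofNat 0, Int.ofNat 0, Int.ofNat 0, Int.ofNat 0, Int.negSucc 1, Int.negSucc 1, Int.ofNat 0, Int.negSucc 1],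
  [Int.negSucc 1, Int.ofNat 0, Int.ofNat 0, Int.negSucc 1, Int.ofNat 0, Int.ofNat 2, Int.ofNat 0, Int.ofNat 2, Int.ofNat 0, Int.ofNat 0, Int.ofNat 2, Int.ofNat 0, Int.ofNat 0, Int.ofNat 0, Int.ofNat 0, Int.ofNat 0, Int.ofNat 0, Int.ofNat 0, Int.ofNat 0, Int.ofNat 0, Int.negSucc 1, Int.negSucc 1, Int.ofNat 0, Int.ofNat 2],
  [Int.negSucc 1, Int.ofNat 0, Int.ofNat 0, Int.negSucc 1, Int.ofNat 0, Int.ofNat 2, Int.ofNat 0, Int.ofNat 2, Int.ofNat 0, Int.ofNat 0, Int.negSucc 1, Int.ofNat 0, Int.ofNat 0, Int.ofNat 0, Int.ofNat 0, Int.ofNat 0, Int.ofNat 0, Int.ofNat 0, Int.ofNat 0, Int.ofNat 0, Int.negSucc 1, Int.ofNat 2, Int.ofNat 0, Int.ofNat 2],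
  [Int.ofNat 2, Int.ofNat 0, Int.ofNat 0, Int.negSucc 1, Int.ofNat 0, Int.ofNat 2, Int.negSucc 1, Int.ofNat 0, Int.ofNat 0, Int.ofNat 2, Int.ofNat 0, Int.ofNat 0, Int.ofNat 0, Int.ofNat 0, Int.ofNat 0, Int.ofNat 2, Int.ofNat 0, Int.ofNat 0, Int.ofNat 0, Int.negSucc 1, Int.ofNat 0, Int.ofNat 0, Int.ofNat 0, Int.negSucc 1],
  [Int.ofNat 2, Int.ofNat 0, Int.ofNat 0, Int.negSucc 1, Int.ofNat 0, Int.negSucc 1, Int.ofNat 2, Int.ofNat 0, Int.ofNat 0, Int.negSucc 1, Int.ofNat 0, Int.ofNat 0, Int.ofNat 0, Int.ofNat 0, Int.ofNat 0, Int.negSucc 1, Int.ofNat 0, Int.ofNat 0, Int.ofNat 0, Int.negSucc 1, Int.ofNat 0, Int.ofNat 0, Int.ofNat 0, Int.negSucc 1],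
  [Int.ofNat 0, Int.ofNat 0, Int.ofNat 0, Int.ofNat 0, Int.ofNat 0, Int.ofNat 2, Int.ofNat 0, Int.negSucc 1, Int.negSucc 1, Int.ofNat 0, Int.ofNat 0, Int.ofNat 0, Int.negSucc 1, Int.ofNat 0, Int.ofNat 0, Int.ofNat 0, Int.negSucc 1, Int.ofNat 0, Int.negSucc 1, Int.ofNat 0, Int.ofNat 2, Int.ofNat 0, Int.ofNat 0, Int.negSucc 1],
  [Int.negSucc 1, Int.ofNat 0, Int.ofNat 0, Int.ofNat 0, Int.ofNat 0, Int.ofNat 0, Int.ofNat 0, Int.ofNat 0, Int.ofNat 2, Int.ofNat 2, Int.negSucc 1, Int.ofNat 0, Int.ofNat 0, Int.negSucc 1, Int.negSucc 1, Int.ofNat 0, Int.ofNat 0, Int.ofNat 0, Int.ofNat 0, Int.ofNat 0, Int.negSucc 1, Int.negSucc 1, Int.ofNat 0, Int.ofNat 0],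
  [Int.ofNat 2, Int.ofNat 0, Int.ofNat 0, Int.ofNat 0, Int.ofNat 0, Int.ofNat 0, Int.ofNat 0, Int.ofNat 0, Int.ofNat 2, Int.negSucc 1, Int.ofNat 2, Int.ofNat 0, Int.ofNat 0, Int.negSucc 1, Int.negSucc 1, Int.ofNat 0, Int.ofNat 0, Int.ofNat 0, Int.ofNat 0, Int.ofNat 0, Int.negSucc 1, Int.ofNat 2, Int.ofNat 0, Int.ofNat 0],
  [Int.ofNat 0, Int.ofNat 2, Int.ofNat 0, Int.ofNat 0, Int.ofNat 0, Int.ofNat 0, Int.ofNat 0, Int.ofNat 0, Int.ofNat 0, Int.ofNat 2, Int.negSucc 1, Int.ofNat 2, Int.ofNat 0, Int.ofNat 0, Int.negSucc 1, Int.negSucc 1, Int.ofNat 0, Int.ofNat 0, Int.ofNat 0, Int.ofNat 0, Int.ofNat 0, Int.negSucc 1, Int.ofNat 2, Int.ofNat 0],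
  [Int.ofNat 1, Int.negSucc 0, Int.ofNat 1, Int.ofNat 1, Int.negSucc 0, Int.ofNat 1, Int.ofNat 1, Int.ofNat 1, Int.negSucc 0, Int.ofNat 3, Int.negSucc 0, Int.ofNat 1, Int.negSucc 0, Int.negSucc 0, Int.negSucc 0, Int.negSucc 0, Int.negSucc 0, Int.ofNat 1, Int.negSucc 0, Int.ofNat 1, Int.ofNat 1, Int.negSucc 0, Int.ofNat 1, Int.ofNat 1],
  [Int.ofNat 1, Int.negSucc 0, Int.ofNat 1, Int.ofNat 1, Int.ofNat 1, Int.negSucc 0, Int.ofNat 3, Int.negSucc 0, Int.ofNat 1, Int.negSucc 0, Int.negSucc 0, Int.negSucc 0, Int.negSucc 0, Int.negSucc 0, Int.ofNat 1, Int.negSucc 0, Int.ofNat 1, Int.ofNat 1, Int.negSucc 0, Int.ofNat 1, Int.ofNat 1, Int.negSucc 0, Int.ofNat 1, Int.ofNat 1],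
  [Int.ofNat 0, Int.ofNat 2, Int.ofNat 0, Int.ofNat 0, Int.ofNat 0, Int.negSucc 1, Int.ofNat 2, Int.negSucc 1, Int.ofNat 2, Int.ofNat 0, Int.ofNat 0, Int.ofNat 0, Int.ofNat 0, Int.negSucc 1, Int.ofNat 0, Int.ofNat 0, Int.ofNat 0, Int.ofNat 0, Int.ofNat 0, Int.ofNat 0, Int.ofNat 2, Int.negSucc 1, Int.ofNat 0, Int.ofNat 0],
  [Int.ofNat 0, Int.ofNat 2, Int.ofNat 0, Int.ofNat 0, Int.ofNat 0, Int.negSucc 1, Int.ofNat 0, Int.ofNat 0, Int.ofNat 0, Int.negSucc 1, Int.ofNat 2, Int.ofNat 0, Int.ofNat 0, Int.ofNat 0, Int.ofNat 0, Int.ofNat 0, Int.ofNat 2, Int.ofNat 0, Int.ofNat 2, Int.ofNat 0, Int.negSucc 1, Int.negSucc 1, Int.ofNat 0, Int.ofNat 0],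
  [Int.ofNat 1, Int.negSucc 0, Int.ofNat 1, Int.ofNat 1, Int.negSucc 0, Int.negSucc 0, Int.ofNat 1, Int.ofNat 1, Int.negSucc 0, Int.negSucc 0, Int.ofNat 3, Int.negSucc 0, Int.negSucc 0, Int.negSucc 0, Int.ofNat 1, Int.ofNat 1, Int.ofNat 1, Int.ofNat 1, Int.ofNat 1, Int.ofNat 1, Int.negSucc 0, Int.negSucc 0, Int.negSucc 0, Int.ofNat 1],
  [Int.ofNat 1, Int.negSucc 0, Int.negSucc 0, Int.ofNat 1, Int.negSucc 0, Int.ofNat 1, Int.negSucc 0, Int.ofNat 1, Int.negSucc 0, Int.ofNat 1, Int.negSucc 2, Int.negSucc 0, Int.negSucc 0, Int.negSucc 0, Int.ofNat 1, Int.negSucc 0, Int.ofNat 1, Int.ofNat 1, Int.negSucc 0, Int.ofNat 1, Int.negSucc 0, Int.negSucc 0, Int.ofNat 1, Int.ofNat 1],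
  [Int.negSucc 0, Int.negSucc 0, Int.ofNat 1, Int.ofNat 1, Int.negSucc 0, Int.negSucc 2, Int.ofNat 1, Int.negSucc 0, Int.ofNat 1, Int.negSucc 0, Int.negSucc 0, Int.negSucc 0, Int.negSucc 0, Int.negSucc 0, Int.negSucc 0, Int.ofNat 1, Int.ofNat 1, Int.negSucc 0, Int.ofNat 1, Int.ofNat 1, Int.ofNat 1, Int.negSucc 0, Int.ofNat 1, Int.ofNat 1],
  [Int.negSucc 0, Int.negSucc 0, Int.negSucc 0, Int.ofNat 1, Int.negSucc 0, Int.ofNat 3, Int.negSucc 0, Int.negSucc 0, Int.ofNat 1, Int.ofNat 1, Int.ofNat 1, Int.negSucc 0, Int.negSucc 0, Int.negSucc 0, Int.negSucc 0, Int.negSucc 0, Int.ofNat 1, Int.negSucc 0, Int.negSucc 0, Int.ofNat 1, Int.ofNat 1, Int.negSucc 0, Int.negSucc 0, Int.ofNat 1],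
  [Int.ofNat 0, Int.ofNat 0, Int.ofNat 0, Int.ofNat 0, Int.ofNat 0, Int.ofNat 2, Int.ofNat 0, Int.ofNat 0, Int.ofNat 2, Int.ofNat 0, Int.ofNat 0, Int.ofNat 0, Int.ofNat 0, Int.ofNat 0, Int.negSucc 1, Int.negSucc 1, Int.ofNat 2, Int.negSucc 1, Int.ofNat 0, Int.ofNat 2, Int.ofNat 0, Int.ofNat 0, Int.ofNat 0, Int.negSucc 1],
  [Int.ofNat 0, Int.ofNat 0, Int.ofNat 0, Int.ofNat 0, Int.ofNat 0, Int.ofNat 0, Int.ofNat 0, Int.ofNat 2, Int.ofNat 2, Int.ofNat 0, Int.ofNat 0, Int.ofNat 2, Int.ofNat 2, Int.ofNat 0, Int.negSucc 1, Int.negSucc 1, Int.ofNat 0, Int.ofNat 0, Int.ofNat 0, Int.ofNat 0, Int.ofNat 0, Int.ofNat 0, Int.negSucc 1, Int.negSucc 1],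
  [Int.negSucc 0, Int.negSucc 0, Int.negSucc 0, Int.ofNat 1, Int.ofNat 1, Int.ofNat 1, Int.negSucc 0, Int.ofNat 1, Int.negSucc 0, Int.ofNat 1, Int.ofNat 1, Int.negSucc 0, Int.negSucc 0, Int.ofNat 1, Int.negSucc 0, Int.negSucc 0, Int.ofNat 1, Int.ofNat 1, Int.negSucc 2, Int.negSucc 0, Int.ofNat 1, Int.negSucc 0, Int.negSucc 0, Int.ofNat 1],
  [Int.ofNat 1, Int.negSucc 0, Int.negSucc 0, Int.negSucc 0, Int.negSucc 0, Int.negSucc 0, Int.ofNat 1, Int.ofNat 1, Int.ofNat 1, Int.negSucc 0, Int.ofNat 1, Int.negSucc 0, Int.ofNat 1, Int.ofNat 1, Int.negSucc 0, Int.negSucc 0, Int.ofNat 1, Int.negSucc 0, Int.negSucc 0, Int.ofNat 1, Int.ofNat 1, Int.negSucc 2, Int.negSucc 0, Int.ofNat 1],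
  [Int.negSucc 0, Int.ofNat 1, Int.ofNat 1, Int.ofNat 1, Int.negSucc 0, Int.ofNat 1, Int.ofNat 1, Int.ofNat 1, Int.ofNat 1, Int.negSucc 0, Int.ofNat 1, Int.negSucc 0, Int.ofNat 1, Int.ofNat 1, Int.ofNat 1, Int.negSucc 0, Int.ofNat 1, Int.ofNat 1, Int.negSucc 0, Int.ofNat 1, Int.ofNat 1, Int.negSucc 2, Int.negSucc 0, Int.negSucc 0],
  [Int.ofNat 1, Int.ofNat 1, Int.ofNat 1, Int.negSucc 0, Int.ofNat 1, Int.ofNat 1, Int.ofNat 1, Int.ofNat 1, Int.negSucc 0, Int.ofNat 1, Int.negSucc 0, Int.ofNat 1, Int.ofNat 1, Int.ofNat 1, Int.negSucc 0, Int.ofNat 1, Int.ofNat 1, Int.negSucc 0, Int.ofNat 1, Int.ofNat 1, Int.negSucc 2, Int.negSucc 0, Int.negSucc 0, Int.negSucc 0],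
  [Int.negSucc 0, Int.ofNat 1, Int.negSucc 0, Int.negSucc 0, Int.ofNat 1, Int.ofNat 1, Int.ofNat 1, Int.negSucc 0, Int.negSucc 0, Int.negSucc 0, Int.ofNat 1, Int.negSucc 0, Int.ofNat 1, Int.ofNat 1, Int.negSucc 0, Int.ofNat 1, Int.ofNat 1, Int.negSucc 0, Int.negSucc 0, Int.ofNat 1, Int.negSucc 2, Int.ofNat 1, Int.negSucc 0, Int.negSucc 0]]

set_option maxRecDepth 100000 in
theorem c1te16_chk : pmChk (List.replicate 14 [16, 0, 26, 25]).flatten nxL c1te16M 0 0 = true := by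
  decide +kernel

theorem c1te16_ne : wE letE2 (List.replicate 14 [16, 0, 26, 25]).flatten ≠ 1 ∧ wE letE2 (List.replicate 14 [16, 0, 26, 25]).flatten ≠ negElt :=
  ne_pm_of_chk nxL_mem c1te16_chk

set_option maxRecDepth 100000 in
def c1te17M : List (List ℤ) :=
  [[Int.ofNat 4, Int.ofNat 0, Int.ofNat 0, Int.ofNat 0, Int.ofNat 0, Int.ofNat 0, Int.ofNat 0, Int.ofNat 0, Int.ofNat 0, Int.ofNat 0, Int.ofNat 0, Int.ofNat 0, Int.ofNat 0, Int.ofNat 0, Int.ofNat 0, Int.ofNat 0, Int.ofNat 0, Int.ofNat 0, Int.ofNat 0, Int.ofNat 0, Int.ofNat 0, Int.ofNat 0, Int.ofNat 0, Int.ofNat 4],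
  [Int.ofNat 4, Int.ofNat 0, Int.ofNat 0, Int.ofNat 0, Int.ofNat 0, Int.ofNat 0, Int.ofNat 0, Int.ofNat 0, Int.ofNat 0, Int.ofNat 0, Int.ofNat 0, Int.ofNat 0, Int.ofNat 0, Int.ofNat 0, Int.ofNat 0, Int.ofNat 0, Int.ofNat 0, Int.ofNat 0, Int.ofNat 0, Int.ofNat 0, Int.ofNat 0, Int.ofNat 0, Int.ofNat 0, Int.ofNat 4],
  [Int.negSucc 3, Int.ofNat 0, Int.ofNat 0, Int.ofNat 0, Int.ofNat 0, Int.ofNat 0, Int.ofNat 0, Int.ofNat 0, Int.ofNat 0, Int.ofNat 0, Int.ofNat 0, Int.ofNat 0, Int.ofNat 0, Int.ofNat 0, Int.ofNat 0, Int.ofNat 0, Int.ofNat 0, Int.ofNat 0, Int.ofNat 0, Int.ofNat 0, Int.ofNat 0, Int.ofNat 0, Int.ofNat 0, Int.ofNat 4],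
  [Int.ofNat 0, Int.negSucc 3, Int.ofNat 0, Int.ofNat 0, Int.ofNat 0, Int.ofNat 0, Int.ofNat 0, Int.ofNat 0, Int.ofNat 0, Int.ofNat 0, Int.ofNat 0, Int.ofNat 0, Int.ofNat 0, Int.ofNat 0, Int.ofNat 0, Int.ofNat 0, Int.ofNat 0, Int.ofNat 0, Int.ofNat 0, Int.ofNat 0, Int.ofNat 0, Int.ofNat 0, Int.ofNat 0, Int.ofNat 4],
  [Int.ofNat 0, Int.ofNat 4, Int.ofNat 0, Int.ofNat 0, Int.ofNat 0, Int.ofNat 0, Int.ofNat 0, Int.ofNat 0, Int.ofNat 0, Int.ofNat 0, Int.ofNat 0, Int.ofNat 0, Int.ofNat 0, Int.ofNat 0, Int.ofNat 0, Int.ofNat 0, Int.ofNat 0, Int.ofNat 0, Int.ofNat 0, Int.ofNat 0, Int.ofNat 0, Int.ofNat 0, Int.ofNat 0, Int.negSucc 3],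
  [Int.ofNat 0, Int.ofNat 0, Int.ofNat 0, Int.ofNat 0, Int.ofNat 0, Int.ofNat 0, Int.ofNat 0, Int.ofNat 0, Int.ofNat 0, Int.ofNat 0, Int.ofNat 0, Int.ofNat 0, Int.ofNat 0, Int.ofNat 0, Int.ofNat 0, Int.ofNat 0, Int.ofNat 0, Int.ofNat 0, Int.ofNat 0, Int.ofNat 0, Int.ofNat 0, Int.ofNat 4, Int.ofNat 0, Int.negSucc 3],
  [Int.negSucc 1, Int.negSucc 1, Int.negSucc 1, Int.ofNat 0, Int.ofNat 0, Int.ofNat 0, Int.negSucc 1, Int.negSucc 1, Int.ofNat 0, Int.ofNat 0, Int.ofNat 0, Int.ofNat 0, Int.ofNat 0, Int.ofNat 0, Int.ofNat 0, Int.ofNat 0, Int.ofNat 0, Int.ofNat 0, Int.ofNat 0, Int.negSucc 1, Int.ofNat 0, Int.ofNat 2, Int.ofNat 0, Int.ofNat 2],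
  [Int.negSucc 1, Int.negSucc 1, Int.ofNat 0, Int.ofNat 0, Int.ofNat 0, Int.negSucc 1, Int.negSucc 1, Int.ofNat 0, Int.ofNat 0, Int.ofNat 0, Int.ofNat 0, Int.ofNat 0, Int.ofNat 0, Int.ofNat 0, Int.ofNat 0, Int.ofNat 0, Int.ofNat 0, Int.ofNat 0, Int.negSucc 1, Int.ofNat 0, Int.ofNat 2, Int.ofNat 0, Int.negSucc 1, Int.ofNat 2],
  [Int.ofNat 1, Int.ofNat 1, Int.negSucc 0, Int.ofNat 1, Int.ofNat 1, Int.negSucc 0, Int.negSucc 0, Int.ofNat 1, Int.ofNat 1, Int.negSucc 0, Int.negSucc 0, Int.ofNat 1, Int.ofNat 1, Int.ofNat 1, Int.ofNat 1, Int.negSucc 0, Int.ofNat 1, Int.ofNat 1, Int.negSucc 0, Int.ofNat 1, Int.ofNat 1, Int.ofNat 1, Int.negSucc 0, Int.negSucc 2],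
  [Int.ofNat 1, Int.ofNat 1, Int.ofNat 1, Int.ofNat 1, Int.ofNat 1, Int.ofNat 1, Int.ofNat 1, Int.ofNat 1, Int.ofNat 1, Int.ofNat 1, Int.ofNat 1, Int.ofNat 1, Int.ofNat 1, Int.ofNat 1, Int.ofNat 1, Int.ofNat 1, Int.ofNat 1, Int.ofNat 1, Int.ofNat 1, Int.ofNat 1, Int.ofNat 1, Int.ofNat 1, Int.ofNat 1, Int.negSucc 2],
  [Int.ofNat 1, Int.ofNat 1, Int.ofNat 1, Int.ofNat 1, Int.ofNat 1, Int.ofNat 1, Int.ofNat 1, Int.ofNat 1, Int.ofNat 1, Int.ofNat 1, Int.ofNat 1, Int.ofNat 1, Int.ofNat 1, Int.ofNat 1, Int.ofNat 1, Int.ofNat 1, Int.ofNat 1, Int.ofNat 1, Int.ofNat 1, Int.ofNat 1, Int.ofNat 1, Int.ofNat 1, Int.ofNat 1, Int.negSucc 2],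
  [Int.negSucc 2, Int.ofNat 1, Int.ofNat 1, Int.ofNat 1, Int.ofNat 1, Int.ofNat 1, Int.ofNat 1, Int.ofNat 1, Int.ofNat 1, Int.ofNat 1, Int.ofNat 1, Int.ofNat 1, Int.ofNat 1, Int.ofNat 1, Int.ofNat 1, Int.ofNat 1, Int.ofNat 1, Int.ofNat 1, Int.ofNat 1, Int.ofNat 1, Int.ofNat 1, Int.ofNat 1, Int.ofNat 1, Int.ofNat 1],
  [Int.ofNat 3, Int.ofNat 1, Int.negSucc 0, Int.ofNat 1, Int.ofNat 1, Int.ofNat 1, Int.ofNat 1, Int.negSucc 0, Int.ofNat 1, Int.negSucc 0, Int.negSucc 0, Int.negSucc 0, Int.ofNat 1, Int.ofNat 1, Int.ofNat 1, Int.ofNat 1, Int.ofNat 1, Int.ofNat 1, Int.negSucc 0, Int.ofNat 1, Int.ofNat 1, Int.negSucc 0, Int.ofNat 1, Int.ofNat 1],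
  [Int.ofNat 1, Int.ofNat 3, Int.ofNat 1, Int.negSucc 0, Int.ofNat 1, Int.ofNat 1, Int.ofNat 1, Int.ofNat 1, Int.negSucc 0, Int.ofNat 1, Int.negSucc 0, Int.negSucc 0, Int.negSucc 0, Int.ofNat 1, Int.ofNat 1, Int.ofNat 1, Int.ofNat 1, Int.ofNat 1, Int.ofNat 1, Int.negSucc 0, Int.ofNat 1, Int.ofNat 1, Int.negSucc 0, Int.ofNat 1],
  [Int.ofNat 2, Int.ofNat 0, Int.ofNat 2, Int.negSucc 1, Int.ofNat 0, Int.ofNat 0, Int.ofNat 0, Int.ofNat 0, Int.ofNat 0, Int.ofNat 0, Int.negSucc 1, Int.ofNat 0, Int.ofNat 0, Int.ofNat 0, Int.ofNat 0, Int.ofNat 0, Int.ofNat 0, Int.ofNat 0, Int.ofNat 2, Int.negSucc 1, Int.ofNat 0, Int.ofNat 0, Int.negSucc 1, Int.ofNat 2],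
  [Int.negSucc 1, Int.ofNat 0, Int.ofNat 0, Int.ofNat 0, Int.ofNat 0, Int.ofNat 0, Int.ofNat 0, Int.negSucc 1, Int.ofNat 0, Int.ofNat 0, Int.ofNat 0, Int.ofNat 0, Int.ofNat 0, Int.ofNat 0, Int.ofNat 0, Int.ofNat 2, Int.negSucc 1, Int.ofNat 0, Int.ofNat 0, Int.negSucc 1, Int.ofNat 2, Int.ofNat 0, Int.ofNat 2, Int.ofNat 2],
  [Int.ofNat 2, Int.ofNat 0, Int.ofNat 0, Int.ofNat 0, Int.ofNat 0, Int.ofNat 0, Int.ofNat 2, Int.ofNat 0, Int.ofNat 0, Int.negSucc 1, Int.negSucc 1, Int.ofNat 0, Int.ofNat 0, Int.ofNat 0, Int.ofNat 0, Int.ofNat 0, Int.negSucc 1, Int.ofNat 0, Int.ofNat 0, Int.ofNat 0, Int.ofNat 0, Int.ofNat 2, Int.ofNat 2, Int.negSucc 1],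
  [Int.ofNat 2, Int.ofNat 2, Int.ofNat 0, Int.ofNat 0, Int.ofNat 0, Int.ofNat 0, Int.ofNat 0, Int.negSucc 1, Int.ofNat 0, Int.ofNat 0, Int.ofNat 0, Int.ofNat 0, Int.negSucc 1, Int.negSucc 1, Int.ofNat 2, Int.ofNat 0, Int.ofNat 0, Int.ofNat 0, Int.ofNat 0, Int.ofNat 0, Int.ofNat 2, Int.ofNat 0, Int.ofNat 0, Int.negSucc 1],
  [Int.negSucc 0, Int.negSucc 0, Int.ofNat 1, Int.negSucc 0, Int.ofNat 1, Int.negSucc 0, Int.ofNat 1, Int.negSucc 0, Int.ofNat 1, Int.negSucc 0, Int.negSucc 0, Int.ofNat 1, Int.negSucc 0, Int.negSucc 0, Int.ofNat 1, Int.negSucc 0, Int.ofNat 1, Int.negSucc 0, Int.ofNat 1, Int.ofNat 1, Int.ofNat 1, Int.ofNat 1, Int.ofNat 1, Int.ofNat 3],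
  [Int.negSucc 0, Int.negSucc 0, Int.negSucc 0, Int.negSucc 0, Int.ofNat 1, Int.ofNat 1, Int.negSucc 0, Int.negSucc 0, Int.ofNat 1, Int.ofNat 1, Int.ofNat 1, Int.ofNat 1, Int.negSucc 0, Int.negSucc 0, Int.ofNat 1, Int.ofNat 1, Int.ofNat 1, Int.negSucc 0, Int.negSucc 0, Int.ofNat 1, Int.ofNat 1, Int.ofNat 1, Int.negSucc 0, Int.ofNat 3],
  [Int.ofNat 1, Int.ofNat 1, Int.negSucc 0, Int.negSucc 0, Int.ofNat 1, Int.negSucc 0, Int.ofNat 1, Int.negSucc 0, Int.ofNat 1, Int.negSucc 0, Int.ofNat 1, Int.negSucc 0, Int.negSucc 0, Int.ofNat 1, Int.negSucc 0, Int.negSucc 0, Int.ofNat 1, Int.negSucc 0, Int.ofNat 1, Int.negSucc 0, Int.ofNat 1, Int.ofNat 1, Int.ofNat 1, Int.ofNat 3],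
  [Int.ofNat 1, Int.ofNat 1, Int.ofNat 1, Int.negSucc 0, Int.ofNat 1, Int.ofNat 1, Int.negSucc 0, Int.negSucc 0, Int.ofNat 1, Int.ofNat 1, Int.negSucc 0, Int.negSucc 0, Int.negSucc 0, Int.ofNat 1, Int.negSucc 0, Int.ofNat 1, Int.ofNat 1, Int.negSucc 0, Int.negSucc 0, Int.negSucc 0, Int.ofNat 1, Int.ofNat 1, Int.negSucc 0, Int.ofNat 3],
  [Int.ofNat 2, Int.ofNat 2, Int.ofNat 2, Int.ofNat 0, Int.ofNat 0, Int.ofNat 2, Int.ofNat 0, Int.ofNat 0, Int.ofNat 2, Int.ofNat 0, Int.negSucc 1, Int.ofNat 0, Int.ofNat 0, Int.ofNat 0, Int.ofNat 0, Int.ofNat 0, Int.ofNat 0, Int.ofNat 0, Int.ofNat 0, Int.ofNat 0, Int.ofNat 0, Int.ofNat 2, Int.negSucc 1, Int.ofNat 0],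
  [Int.ofNat 2, Int.ofNat 0, Int.ofNat 0, Int.ofNat 0, Int.ofNat 2, Int.ofNat 2, Int.ofNat 2, Int.ofNat 2, Int.ofNat 0, Int.ofNat 0, Int.ofNat 0, Int.ofNat 0, Int.ofNat 2, Int.ofNat 0, Int.ofNat 0, Int.ofNat 0, Int.ofNat 0, Int.ofNat 0, Int.ofNat 0, Int.negSucc 1, Int.negSucc 1, Int.ofNat 0, Int.ofNat 0, Int.ofNat 0],
  [Int.negSucc 0, Int.ofNat 1, Int.ofNat 1, Int.negSucc 0, Int.ofNat 1, Int.ofNat 1, Int.ofNat 1, Int.ofNat 1, Int.negSucc 0, Int.ofNat 1, Int.ofNat 1, Int.negSucc 0, Int.ofNat 1, Int.negSucc 0, Int.negSucc 0, Int.ofNat 1, Int.negSucc 0, Int.negSucc 0, Int.negSucc 0, Int.negSucc 2, Int.negSucc 0, Int.negSucc 0, Int.negSucc 0, Int.ofNat 1],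
  [Int.negSucc 0, Int.negSucc 0, Int.negSucc 0, Int.negSucc 0, Int.ofNat 1, Int.ofNat 1, Int.negSucc 0, Int.ofNat 1, Int.ofNat 1, Int.ofNat 1, Int.ofNat 1, Int.negSucc 0, Int.ofNat 1, Int.ofNat 1, Int.negSucc 0, Int.ofNat 1, Int.negSucc 0, Int.negSucc 0, Int.ofNat 1, Int.negSucc 0, Int.negSucc 0, Int.negSucc 0, Int.negSucc 2, Int.ofNat 1],
  [Int.ofNat 0, Int.ofNat 0, Int.ofNat 0, Int.ofNat 0, Int.ofNat 2, Int.ofNat 2, Int.ofNat 0, Int.ofNat 2, Int.ofNat 0, Int.ofNat 0, Int.ofNat 0, Int.negSucc 1, Int.ofNat 0, Int.ofNat 2, Int.ofNat 0, Int.ofNat 0, Int.ofNat 0, Int.ofNat 0, Int.ofNat 0, Int.ofNat 0, Int.negSucc 1, Int.ofNat 0, Int.negSucc 1, Int.negSucc 1],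
  [Int.ofNat 0, Int.ofNat 0, Int.ofNat 0, Int.ofNat 2, Int.ofNat 2, Int.ofNat 0, Int.ofNat 2, Int.ofNat 0, Int.ofNat 0, Int.ofNat 0, Int.negSucc 1, Int.ofNat 0, Int.ofNat 2, Int.ofNat 0, Int.ofNat 0, Int.ofNat 0, Int.ofNat 0, Int.ofNat 0, Int.ofNat 0, Int.negSucc 1, Int.ofNat 0, Int.negSucc 1, Int.ofNat 0, Int.negSucc 1],
  [Int.ofNat 0, Int.ofNat 0, Int.ofNat 0, Int.ofNat 2, Int.ofNat 2, Int.ofNat 0, Int.ofNat 2, Int.ofNat 0, Int.ofNat 0, Int.ofNat 0, Int.ofNat 2, Int.ofNat 0, Int.ofNat 2, Int.ofNat 0, Int.ofNat 0, Int.ofNat 0, Int.ofNat 0, Int.ofNat 0, Int.ofNat 0, Int.negSucc 1, Int.ofNat 0, Int.ofNat 2, Int.ofNat 0, Int.negSucc 1],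
  [Int.ofNat 0, Int.ofNat 0, Int.ofNat 0, Int.negSucc 1, Int.negSucc 1, Int.ofNat 0, Int.negSucc 1, Int.ofNat 0, Int.ofNat 0, Int.ofNat 0, Int.ofNat 2, Int.ofNat 0, Int.negSucc 1, Int.ofNat 0, Int.ofNat 0, Int.ofNat 0, Int.ofNat 0, Int.ofNat 0, Int.ofNat 0, Int.negSucc 1, Int.ofNat 0, Int.ofNat 2, Int.ofNat 0, Int.negSucc 1],
  [Int.ofNat 0, Int.ofNat 0, Int.ofNat 0, Int.negSucc 1, Int.ofNat 0, Int.ofNat 2, Int.negSucc 1, Int.ofNat 0, Int.ofNat 0, Int.ofNat 0, Int.ofNat 2, Int.ofNat 0, Int.ofNat 0, Int.ofNat 0, Int.negSucc 1, Int.ofNat 0, Int.negSucc 1, Int.ofNat 0, Int.negSucc 1, Int.ofNat 0, Int.ofNat 0, Int.ofNat 0, Int.ofNat 0, Int.negSucc 1],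
  [Int.ofNat 0, Int.ofNat 0, Int.ofNat 0, Int.negSucc 1, Int.ofNat 0, Int.ofNat 2, Int.negSucc 1, Int.ofNat 0, Int.ofNat 0, Int.ofNat 0, Int.negSucc 1, Int.ofNat 0, Int.ofNat 0, Int.ofNat 0, Int.negSucc 1, Int.ofNat 0, Int.negSucc 1, Int.ofNat 0, Int.ofNat 2, Int.ofNat 0, Int.ofNat 0, Int.ofNat 0, Int.ofNat 0, Int.negSucc 1],
  [Int.ofNat 0, Int.ofNat 0, Int.ofNat 0, Int.ofNat 0, Int.negSucc 1, Int.ofNat 0, Int.ofNat 2, Int.negSucc 1, Int.ofNat 0, Int.ofNat 0, Int.ofNat 0, Int.negSucc 1, Int.ofNat 0, Int.ofNat 0, Int.ofNat 0, Int.negSucc 1, Int.ofNat 0, Int.negSucc 1, Int.ofNat 0, Int.ofNat 2, Int.ofNat 0, Int.ofNat 0, Int.ofNat 0, Int.negSucc 1],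
  [Int.negSucc 0, Int.negSucc 0, Int.negSucc 0, Int.ofNat 1, Int.negSucc 0, Int.ofNat 1, Int.ofNat 1, Int.negSucc 2, Int.ofNat 1, Int.ofNat 1, Int.ofNat 1, Int.negSucc 0, Int.ofNat 1, Int.ofNat 1, Int.ofNat 1, Int.negSucc 0, Int.ofNat 1, Int.negSucc 0, Int.ofNat 1, Int.ofNat 1, Int.ofNat 1, Int.negSucc 0, Int.ofNat 1, Int.ofNat 1],
  [Int.ofNat 1, Int.negSucc 0, Int.ofNat 1, Int.ofNat 1, Int.negSucc 2, Int.ofNat 1, Int.ofNat 1, Int.ofNat 1, Int.negSucc 0, Int.ofNat 1, Int.ofNat 1, Int.ofNat 1, Int.negSucc 0, Int.ofNat 1, Int.negSucc 0, Int.ofNat 1, Int.ofNat 1, Int.ofNat 1, Int.negSucc 0, Int.ofNat 1, Int.negSucc 0, Int.negSucc 0, Int.negSucc 0, Int.ofNat 1],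
  [Int.ofNat 0, Int.ofNat 2, Int.ofNat 0, Int.ofNat 0, Int.negSucc 1, Int.ofNat 0, Int.ofNat 0, Int.ofNat 0, Int.ofNat 0, Int.ofNat 0, Int.ofNat 0, Int.ofNat 2, Int.ofNat 0, Int.ofNat 2, Int.negSucc 1, Int.ofNat 0, Int.ofNat 2, Int.ofNat 0, Int.ofNat 0, Int.ofNat 0, Int.negSucc 1, Int.negSucc 1, Int.ofNat 0, Int.ofNat 0],
  [Int.ofNat 0, Int.ofNat 0, Int.negSucc 1, Int.ofNat 0, Int.ofNat 0, Int.ofNat 0, Int.ofNat 0, Int.ofNat 0, Int.ofNat 0, Int.ofNat 2, Int.negSucc 1, Int.ofNat 0, Int.ofNat 0, Int.ofNat 2, Int.ofNat 0, Int.ofNat 0, Int.ofNat 0, Int.negSucc 1, Int.ofNat 2, Int.ofNat 2, Int.negSucc 1, Int.ofNat 0, Int.ofNat 0, Int.ofNat 0],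
  [Int.negSucc 0, Int.negSucc 0, Int.ofNat 1, Int.ofNat 1, Int.negSucc 0, Int.ofNat 1, Int.negSucc 0, Int.negSucc 0, Int.negSucc 0, Int.ofNat 3, Int.negSucc 0, Int.negSucc 0, Int.negSucc 0, Int.ofNat 1, Int.ofNat 1, Int.ofNat 1, Int.negSucc 0, Int.negSucc 0, Int.ofNat 1, Int.ofNat 1, Int.negSucc 0, Int.negSucc 0, Int.negSucc 0, Int.negSucc 0],
  [Int.negSucc 0, Int.negSucc 0, Int.negSucc 0, Int.ofNat 1, Int.negSucc 0, Int.negSucc 0, Int.ofNat 1, Int.negSucc 0, Int.negSucc 0, Int.negSucc 2, Int.ofNat 1, Int.negSucc 0, Int.negSucc 0, Int.ofNat 1, Int.ofNat 1, Int.negSucc 0, Int.negSucc 0, Int.negSucc 0, Int.negSucc 0, Int.ofNat 1, Int.negSucc 0, Int.negSucc 0, Int.ofNat 1, Int.negSucc 0],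
  [Int.ofNat 1, Int.negSucc 0, Int.negSucc 0, Int.negSucc 0, Int.ofNat 1, Int.ofNat 1, Int.negSucc 0, Int.ofNat 1, Int.negSucc 0, Int.negSucc 0, Int.ofNat 1, Int.negSucc 0, Int.negSucc 0, Int.negSucc 0, Int.negSucc 0, Int.negSucc 0, Int.ofNat 1, Int.negSucc 0, Int.negSucc 2, Int.negSucc 0, Int.negSucc 0, Int.negSucc 0, Int.ofNat 1, Int.negSucc 0],
  [Int.negSucc 0, Int.ofNat 1, Int.negSucc 0, Int.negSucc 0, Int.negSucc 0, Int.negSucc 0, Int.negSucc 0, Int.negSucc 0, Int.negSucc 0, Int.ofNat 1, Int.ofNat 1, Int.negSucc 0, Int.negSucc 0, Int.ofNat 1, Int.negSucc 2, Int.negSucc 0, Int.ofNat 1, Int.ofNat 1, Int.negSucc 0, Int.negSucc 0, Int.negSucc 0, Int.negSucc 0, Int.negSucc 0, Int.ofNat 1],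
  [Int.ofNat 1, Int.ofNat 1, Int.ofNat 1, Int.negSucc 0, Int.negSucc 0, Int.negSucc 0, Int.negSucc 0, Int.ofNat 1, Int.negSucc 0, Int.negSucc 0, Int.negSucc 0, Int.ofNat 1, Int.negSucc 0, Int.ofNat 1, Int.negSucc 2, Int.negSucc 0, Int.ofNat 1, Int.ofNat 1, Int.ofNat 1, Int.negSucc 0, Int.negSucc 0, Int.ofNat 1, Int.negSucc 0, Int.ofNat 1],
  [Int.negSucc 0, Int.ofNat 1, Int.ofNat 1, Int.ofNat 1, Int.negSucc 0, Int.negSucc 0, Int.negSucc 0, Int.negSucc 0, Int.ofNat 1, Int.negSucc 0, Int.negSucc 0, Int.negSucc 0, Int.ofNat 1, Int.negSucc 0, Int.ofNat 1, Int.negSucc 2, Int.negSucc 0, Int.ofNat 1, Int.ofNat 1, Int.ofNat 1, Int.negSucc 0, Int.negSucc 0, Int.ofNat 1, Int.ofNat 1],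
  [Int.ofNat 2, Int.ofNat 0, Int.ofNat 0, Int.ofNat 0, Int.ofNat 0, Int.negSucc 1, Int.ofNat 0, Int.ofNat 0, Int.ofNat 0, Int.ofNat 2, Int.ofNat 2, Int.negSucc 1, Int.ofNat 0, Int.ofNat 0, Int.ofNat 0, Int.ofNat 0, Int.ofNat 0, Int.ofNat 0, Int.ofNat 0, Int.ofNat 2, Int.ofNat 2, Int.ofNat 0, Int.ofNat 2, Int.ofNat 0],
  [Int.ofNat 0, Int.ofNat 0, Int.negSucc 1, Int.ofNat 0, Int.ofNat 0, Int.ofNat 0, Int.ofNat 2, Int.ofNat 2, Int.negSucc 1, Int.ofNat 0, Int.ofNat 0, Int.ofNat 0, Int.ofNat 0, Int.ofNat 0, Int.ofNat 0, Int.ofNat 0, Int.ofNat 2, Int.ofNat 2, Int.ofNat 0, Int.ofNat 2, Int.ofNat 2, Int.ofNat 0, Int.ofNat 0, Int.ofNat 0],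
  [Int.negSucc 0, Int.negSucc 0, Int.ofNat 1, Int.negSucc 0, Int.negSucc 0, Int.negSucc 0, Int.negSucc 0, Int.negSucc 0, Int.negSucc 0, Int.negSucc 0, Int.negSucc 0, Int.ofNat 1, Int.ofNat 1, Int.negSucc 0, Int.negSucc 0, Int.negSucc 0, Int.ofNat 1, Int.ofNat 1, Int.ofNat 1, Int.negSucc 0, Int.ofNat 1, Int.negSucc 2, Int.negSucc 0, Int.negSucc 0],
  [Int.negSucc 0, Int.negSucc 0, Int.negSucc 0, Int.negSucc 0, Int.ofNat 1, Int.negSucc 0, Int.ofNat 1, Int.negSucc 0, Int.ofNat 1, Int.negSucc 0, Int.ofNat 1, Int.ofNat 1, Int.negSucc 0, Int.ofNat 1, Int.negSucc 0, Int.negSucc 0, Int.negSucc 0, Int.negSucc 0, Int.negSucc 0, Int.ofNat 1, Int.negSucc 2, Int.negSucc 0, Int.negSucc 0, Int.negSucc 0],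
  [Int.negSucc 0, Int.negSucc 0, Int.negSucc 0, Int.ofNat 1, Int.ofNat 1, Int.ofNat 1, Int.ofNat 1, Int.negSucc 0, Int.ofNat 1, Int.ofNat 1, Int.ofNat 3, Int.ofNat 1, Int.negSucc 0, Int.ofNat 1, Int.ofNat 1, Int.ofNat 1, Int.negSucc 0, Int.ofNat 1, Int.negSucc 0, Int.ofNat 1, Int.negSucc 0, Int.negSucc 0, Int.negSucc 0, Int.negSucc 0],
  [Int.negSucc 0, Int.negSucc 0, Int.ofNat 1, Int.ofNat 1, Int.ofNat 1, Int.negSucc 0, Int.negSucc 0, Int.negSucc 0, Int.ofNat 1, Int.negSucc 0, Int.negSucc 2, Int.ofNat 1, Int.negSucc 0, Int.ofNat 1, Int.ofNat 1, Int.negSucc 0, Int.negSucc 0, Int.ofNat 1, Int.ofNat 1, Int.ofNat 1, Int.negSucc 0, Int.negSucc 0, Int.ofNat 1, Int.negSucc 0],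
  [Int.negSucc 2, Int.negSucc 0, Int.ofNat 1, Int.ofNat 1, Int.ofNat 1, Int.negSucc 0, Int.negSucc 0, Int.ofNat 1, Int.negSucc 0, Int.negSucc 0, Int.ofNat 1, Int.negSucc 0, Int.negSucc 0, Int.ofNat 1, Int.ofNat 1, Int.ofNat 1, Int.ofNat 1, Int.negSucc 0, Int.negSucc 0, Int.ofNat 1, Int.negSucc 0, Int.negSucc 0, Int.ofNat 1, Int.negSucc 0],
  [Int.negSucc 2, Int.negSucc 0, Int.negSucc 0, Int.ofNat 1, Int.ofNat 1, Int.ofNat 1, Int.ofNat 1, Int.ofNat 1, Int.negSucc 0, Int.ofNat 1, Int.negSucc 0, Int.negSucc 0, Int.negSucc 0, Int.ofNat 1, Int.ofNat 1, Int.negSucc 0, Int.ofNat 1, Int.negSucc 0, Int.ofNat 1, Int.ofNat 1, Int.negSucc 0, Int.negSucc 0, Int.negSucc 0, Int.negSucc 0],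
  [Int.ofNat 0, Int.negSucc 1, Int.negSucc 1, Int.ofNat 0, Int.ofNat 0, Int.ofNat 0, Int.ofNat 0, Int.ofNat 0, Int.ofNat 0, Int.ofNat 2, Int.ofNat 0, Int.ofNat 0, Int.ofNat 0, Int.ofNat 0, Int.ofNat 0, Int.ofNat 0, Int.ofNat 0, Int.negSucc 1, Int.ofNat 2, Int.ofNat 0, Int.ofNat 0, Int.negSucc 1, Int.negSucc 1, Int.negSucc 1],
  [Int.ofNat 0, Int.ofNat 2, Int.ofNat 0, Int.ofNat 0, Int.negSucc 1, Int.negSucc 1, Int.negSucc 1, Int.ofNat 0, Int.ofNat 0, Int.ofNat 0, Int.ofNat 0, Int.ofNat 0, Int.ofNat 0, Int.ofNat 2, Int.negSucc 1, Int.ofNat 0, Int.ofNat 0, Int.ofNat 0, Int.ofNat 0, Int.negSucc 1, Int.ofNat 0, Int.ofNat 0, Int.ofNat 0, Int.negSucc 1],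
  [Int.ofNat 0, Int.negSucc 1, Int.ofNat 0, Int.ofNat 2, Int.negSucc 1, Int.ofNat 0, Int.ofNat 0, Int.ofNat 2, Int.ofNat 0, Int.ofNat 0, Int.ofNat 0, Int.ofNat 0, Int.ofNat 0, Int.ofNat 2, Int.ofNat 0, Int.ofNat 0, Int.ofNat 0, Int.ofNat 2, Int.ofNat 0, Int.ofNat 0, Int.ofNat 0, Int.ofNat 2, Int.ofNat 0, Int.ofNat 2],
  [Int.ofNat 0, Int.ofNat 2, Int.ofNat 0, Int.ofNat 0, Int.negSucc 1, Int.ofNat 0, Int.ofNat 2, Int.negSucc 1, Int.ofNat 0, Int.ofNat 0, Int.ofNat 2, Int.ofNat 0, Int.ofNat 0, Int.ofNat 0, Int.ofNat 0, Int.ofNat 0, Int.ofNat 2, Int.ofNat 0, Int.ofNat 0, Int.ofNat 0, Int.ofNat 2, Int.ofNat 0, Int.ofNat 0, Int.ofNat 2],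
  [Int.ofNat 2, Int.ofNat 0, Int.ofNat 2, Int.ofNat 0, Int.negSucc 1, Int.ofNat 0, Int.ofNat 2, Int.negSucc 1, Int.ofNat 0, Int.negSucc 1, Int.ofNat 0, Int.ofNat 0, Int.ofNat 0, Int.ofNat 0, Int.ofNat 0, Int.negSucc 1, Int.ofNat 2, Int.ofNat 0, Int.ofNat 0, Int.ofNat 0, Int.ofNat 0, Int.ofNat 0, Int.ofNat 0, Int.ofNat 0],
  [Int.ofNat 0, Int.ofNat 2, Int.ofNat 0, Int.negSucc 1, Int.ofNat 0, Int.ofNat 2, Int.negSucc 1, Int.ofNat 0, Int.negSucc 1, Int.ofNat 0, Int.ofNat 0, Int.ofNat 0, Int.ofNat 0, Int.ofNat 0, Int.negSucc 1, Int.ofNat 2, Int.ofNat 0, Int.ofNat 0, Int.ofNat 0, Int.ofNat 0, Int.ofNat 0, Int.ofNat 0, Int.ofNat 2, Int.ofNat 0],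
  [Int.ofNat 0, Int.ofNat 2, Int.ofNat 0, Int.negSucc 1, Int.ofNat 0, Int.ofNat 2, Int.negSucc 1, Int.ofNat 0, Int.negSucc 1, Int.ofNat 0, Int.ofNat 0, Int.ofNat 0, Int.ofNat 0, Int.ofNat 0, Int.negSucc 1, Int.ofNat 2, Int.ofNat 0, Int.ofNat 0, Int.ofNat 0, Int.ofNat 0, Int.ofNat 0, Int.ofNat 0, Int.ofNat 2, Int.ofNat 0],
  [Int.ofNat 0, Int.negSucc 1, Int.ofNat 0, Int.ofNat 2, Int.ofNat 0, Int.ofNat 2, Int.ofNat 2, Int.ofNat 0, Int.ofNat 2, Int.ofNat 0, Int.ofNat 0, Int.ofNat 0, Int.ofNat 0, Int.ofNat 0, Int.negSucc 1, Int.ofNat 2, Int.ofNat 0, Int.ofNat 0, Int.ofNat 0, Int.ofNat 0, Int.ofNat 0, Int.ofNat 0, Int.ofNat 2, Int.ofNat 0],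
  [Int.ofNat 0, Int.ofNat 0, Int.ofNat 0, Int.ofNat 2, Int.negSucc 1, Int.ofNat 0, Int.ofNat 0, Int.ofNat 0, Int.ofNat 0, Int.ofNat 0, Int.ofNat 0, Int.negSucc 1, Int.ofNat 0, Int.ofNat 2, Int.ofNat 0, Int.ofNat 2, Int.ofNat 0, Int.ofNat 2, Int.ofNat 2, Int.ofNat 0, Int.ofNat 2, Int.ofNat 0, Int.ofNat 0, Int.ofNat 0],
  [Int.ofNat 0, Int.ofNat 0, Int.ofNat 0, Int.ofNat 2, Int.negSucc 1, Int.ofNat 0, Int.ofNat 0, Int.ofNat 0, Int.ofNat 0, Int.ofNat 0, Int.ofNat 0, Int.ofNat 2, Int.ofNat 0, Int.ofNat 2, Int.ofNat 0, Int.ofNat 2, Int.ofNat 0, Int.ofNat 2, Int.negSucc 1, Int.ofNat 0, Int.ofNat 2, Int.ofNat 0, Int.ofNat 0, Int.ofNat 0],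
  [Int.ofNat 0, Int.ofNat 0, Int.ofNat 0, Int.ofNat 0, Int.ofNat 2, Int.negSucc 1, Int.ofNat 0, Int.ofNat 0, Int.ofNat 0, Int.ofNat 0, Int.ofNat 0, Int.ofNat 0, Int.ofNat 2, Int.ofNat 0, Int.ofNat 2, Int.ofNat 0, Int.ofNat 2, Int.ofNat 0, Int.ofNat 2, Int.negSucc 1, Int.ofNat 0, Int.ofNat 2, Int.ofNat 0, Int.ofNat 0],
  [Int.ofNat 0, Int.ofNat 0, Int.ofNat 0, Int.ofNat 0, Int.ofNat 0, Int.negSucc 1, Int.ofNat 0, Int.ofNat 0, Int.negSucc 1, Int.ofNat 0, Int.ofNat 0, Int.negSucc 1, Int.ofNat 0, Int.negSucc 1, Int.ofNat 2, Int.ofNat 0, Int.ofNat 0, Int.ofNat 0, Int.ofNat 0, Int.negSucc 1, Int.ofNat 0, Int.ofNat 2, Int.negSucc 1, Int.ofNat 0],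
  [Int.ofNat 0, Int.ofNat 0, Int.negSucc 1, Int.ofNat 0, Int.ofNat 0, Int.negSucc 1, Int.ofNat 0, Int.ofNat 0, Int.negSucc 1, Int.ofNat 0, Int.negSucc 1, Int.ofNat 2, Int.ofNat 0, Int.ofNat 0, Int.ofNat 0, Int.ofNat 0, Int.negSucc 1, Int.ofNat 0, Int.ofNat 2, Int.negSucc 1, Int.ofNat 0, Int.ofNat 0, Int.ofNat 0, Int.ofNat 0],
  [Int.negSucc 0, Int.negSucc 0, Int.ofNat 1, Int.ofNat 1, Int.ofNat 1, Int.negSucc 0, Int.ofNat 1, Int.ofNat 1, Int.negSucc 2, Int.ofNat 1, Int.negSucc 0, Int.ofNat 1, Int.negSucc 0, Int.ofNat 1, Int.ofNat 1, Int.ofNat 1, Int.negSucc 0, Int.ofNat 1, Int.ofNat 1, Int.negSucc 0, Int.ofNat 1, Int.ofNat 1, Int.ofNat 1, Int.negSucc 0],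
  [Int.negSucc 0, Int.ofNat 1, Int.ofNat 1, Int.ofNat 1, Int.ofNat 1, Int.ofNat 1, Int.ofNat 1, Int.negSucc 0, Int.negSucc 0, Int.ofNat 1, Int.ofNat 1, Int.ofNat 1, Int.ofNat 1, Int.negSucc 0, Int.ofNat 1, Int.ofNat 1, Int.negSucc 2, Int.ofNat 1, Int.negSucc 0, Int.ofNat 1, Int.ofNat 1, Int.negSucc 0, Int.negSucc 0, Int.negSucc 0],
  [Int.ofNat 1, Int.negSucc 0, Int.negSucc 0, Int.negSucc 0, Int.ofNat 3, Int.negSucc 0, Int.ofNat 1, Int.negSucc 0, Int.negSucc 0, Int.negSucc 0, Int.negSucc 0, Int.ofNat 1, Int.ofNat 1, Int.ofNat 1, Int.negSucc 0, Int.negSucc 0, Int.negSucc 0, Int.negSucc 0, Int.negSucc 0, Int.ofNat 1, Int.negSucc 0, Int.negSucc 0, Int.ofNat 1, Int.ofNat 1],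
  [Int.ofNat 1, Int.negSucc 0, Int.ofNat 1, Int.negSucc 0, Int.ofNat 3, Int.ofNat 1, Int.negSucc 0, Int.negSucc 0, Int.negSucc 0, Int.ofNat 1, Int.ofNat 1, Int.ofNat 1, Int.ofNat 1, Int.ofNat 1, Int.negSucc 0, Int.ofNat 1, Int.negSucc 0, Int.negSucc 0, Int.ofNat 1, Int.ofNat 1, Int.negSucc 0, Int.negSucc 0, Int.negSucc 0, Int.ofNat 1],
  [Int.ofNat 1, Int.negSucc 0, Int.ofNat 1, Int.negSucc 0, Int.negSucc 0, Int.negSucc 0, Int.negSucc 0, Int.negSucc 0, Int.ofNat 1, Int.negSucc 0, Int.ofNat 1, Int.negSucc 0, Int.ofNat 1, Int.ofNat 3, Int.negSucc 0, Int.ofNat 1, Int.ofNat 1, Int.ofNat 1, Int.ofNat 1, Int.ofNat 1, Int.ofNat 1, Int.negSucc 0, Int.negSucc 0, Int.ofNat 1],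
  [Int.ofNat 1, Int.negSucc 0, Int.negSucc 0, Int.ofNat 1, Int.ofNat 1, Int.negSucc 0, Int.ofNat 1, Int.ofNat 3, Int.ofNat 1, Int.negSucc 0, Int.ofNat 1, Int.ofNat 1, Int.negSucc 0, Int.negSucc 0, Int.ofNat 1, Int.negSucc 0, Int.ofNat 1, Int.negSucc 0, Int.negSucc 0, Int.negSucc 0, Int.ofNat 1, Int.ofNat 1, Int.negSucc 0, Int.ofNat 1],
  [Int.negSucc 0, Int.negSucc 0, Int.ofNat 1, Int.ofNat 1, Int.ofNat 1, Int.negSucc 0, Int.ofNat 1, Int.negSucc 2, Int.ofNat 1, Int.ofNat 1, Int.negSucc 0, Int.negSucc 0, Int.negSucc 0, Int.negSucc 0, Int.ofNat 1, Int.negSucc 0, Int.ofNat 1, Int.negSucc 0, Int.ofNat 1, Int.negSucc 0, Int.ofNat 1, Int.negSucc 0, Int.negSucc 0, Int.ofNat 1],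
  [Int.negSucc 0, Int.negSucc 0, Int.negSucc 0, Int.ofNat 1, Int.ofNat 1, Int.ofNat 1, Int.negSucc 0, Int.ofNat 1, Int.negSucc 2, Int.ofNat 1, Int.ofNat 1, Int.negSucc 0, Int.negSucc 0, Int.negSucc 0, Int.negSucc 0, Int.ofNat 1, Int.negSucc 0, Int.ofNat 1, Int.negSucc 0, Int.ofNat 1, Int.negSucc 0, Int.ofNat 1, Int.negSucc 0, Int.ofNat 1],
  [Int.ofNat 0, Int.ofNat 0, Int.ofNat 0, Int.ofNat 0, Int.ofNat 2, Int.ofNat 0, Int.negSucc 1, Int.ofNat 0, Int.ofNat 0, Int.ofNat 0, Int.ofNat 0, Int.ofNat 2, Int.ofNat 2, Int.ofNat 0, Int.negSucc 1, Int.ofNat 0, Int.ofNat 0, Int.ofNat 0, Int.ofNat 2, Int.ofNat 0, Int.negSucc 1, Int.ofNat 0, Int.ofNat 0, Int.negSucc 1],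
  [Int.ofNat 0, Int.ofNat 2, Int.ofNat 0, Int.negSucc 1, Int.ofNat 0, Int.ofNat 0, Int.ofNat 0, Int.ofNat 0, Int.ofNat 2, Int.ofNat 2, Int.ofNat 0, Int.negSucc 1, Int.ofNat 0, Int.ofNat 0, Int.ofNat 0, Int.ofNat 2, Int.ofNat 0, Int.negSucc 1, Int.ofNat 0, Int.ofNat 0, Int.ofNat 0, Int.ofNat 0, Int.ofNat 0, Int.negSucc 1],
  [Int.ofNat 0, Int.negSucc 1, Int.ofNat 0, Int.ofNat 0, Int.ofNat 0, Int.ofNat 2, Int.ofNat 0, Int.ofNat 0, Int.ofNat 2, Int.ofNat 0, Int.negSucc 1, Int.negSucc 1, Int.ofNat 0, Int.ofNat 0, Int.ofNat 2, Int.ofNat 0, Int.ofNat 0, Int.ofNat 0, Int.ofNat 0, Int.ofNat 0, Int.negSucc 1, Int.ofNat 0, Int.ofNat 0, Int.ofNat 2],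
  [Int.ofNat 0, Int.ofNat 0, Int.ofNat 0, Int.ofNat 0, Int.ofNat 0, Int.ofNat 0, Int.ofNat 0, Int.negSucc 1, Int.ofNat 0, Int.ofNat 0, Int.negSucc 1, Int.ofNat 0, Int.ofNat 0, Int.ofNat 0, Int.ofNat 0, Int.ofNat 0, Int.ofNat 2, Int.ofNat 2, Int.negSucc 1, Int.negSucc 1, Int.ofNat 0, Int.ofNat 2, Int.ofNat 0, Int.ofNat 2],
  [Int.ofNat 1, Int.ofNat 1, Int.ofNat 1, Int.negSucc 0, Int.negSucc 0, Int.negSucc 0, Int.ofNat 1, Int.negSucc 0, Int.ofNat 1, Int.ofNat 1, Int.negSucc 0, Int.ofNat 1, Int.ofNat 1, Int.negSucc 0, Int.negSucc 0, Int.ofNat 1, Int.ofNat 1, Int.ofNat 1, Int.negSucc 0, Int.negSucc 0, Int.ofNat 1, Int.ofNat 3, Int.negSucc 0, Int.negSucc 0],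
  [Int.ofNat 1, Int.ofNat 1, Int.negSucc 0, Int.negSucc 0, Int.negSucc 0, Int.ofNat 1, Int.negSucc 0, Int.negSucc 0, Int.ofNat 1, Int.negSucc 0, Int.ofNat 1, Int.ofNat 1, Int.ofNat 1, Int.negSucc 0, Int.negSucc 0, Int.negSucc 0, Int.ofNat 1, Int.ofNat 1, Int.ofNat 1, Int.negSucc 0, Int.ofNat 1, Int.ofNat 3, Int.ofNat 1, Int.negSucc 0],
  [Int.ofNat 1, Int.ofNat 1, Int.ofNat 1, Int.negSucc 0, Int.negSucc 0, Int.negSucc 0, Int.ofNat 1, Int.ofNat 1, Int.ofNat 3, Int.ofNat 1, Int.ofNat 1, Int.negSucc 0, Int.ofNat 1, Int.negSucc 0, Int.negSucc 0, Int.ofNat 1, Int.negSucc 0, Int.ofNat 1, Int.negSucc 0, Int.negSucc 0, Int.negSucc 0, Int.ofNat 1, Int.ofNat 1, Int.negSucc 0],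
  [Int.ofNat 1, Int.ofNat 1, Int.negSucc 0, Int.negSucc 0, Int.negSucc 0, Int.ofNat 1, Int.negSucc 0, Int.ofNat 1, Int.ofNat 3, Int.negSucc 0, Int.negSucc 0, Int.negSucc 0, Int.ofNat 1, Int.negSucc 0, Int.negSucc 0, Int.negSucc 0, Int.negSucc 0, Int.ofNat 1, Int.ofNat 1, Int.negSucc 0, Int.negSucc 0, Int.ofNat 1, Int.negSucc 0, Int.negSucc 0],
  [Int.negSucc 0, Int.negSucc 0, Int.ofNat 1, Int.negSucc 0, Int.ofNat 1, Int.ofNat 1, Int.negSucc 0, Int.ofNat 1, Int.ofNat 1, Int.ofNat 1, Int.ofNat 1, Int.negSucc 2, Int.negSucc 0, Int.ofNat 1, Int.negSucc 0, Int.ofNat 1, Int.ofNat 1, Int.ofNat 1, Int.negSucc 0, Int.negSucc 0, Int.ofNat 1, Int.ofNat 1, Int.ofNat 1, Int.ofNat 1],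
  [Int.negSucc 0, Int.negSucc 0, Int.negSucc 0, Int.negSucc 0, Int.ofNat 1, Int.ofNat 1, Int.negSucc 0, Int.ofNat 1, Int.ofNat 1, Int.negSucc 0, Int.ofNat 1, Int.negSucc 0, Int.ofNat 1, Int.ofNat 1, Int.ofNat 1, Int.ofNat 1, Int.ofNat 1, Int.negSucc 2, Int.ofNat 1, Int.ofNat 1, Int.ofNat 1, Int.ofNat 1, Int.negSucc 0, Int.ofNat 1],
  [Int.ofNat 0, Int.ofNat 0, Int.ofNat 0, Int.ofNat 0, Int.ofNat 0, Int.ofNat 2, Int.negSucc 1, Int.ofNat 0, Int.ofNat 0, Int.negSucc 1, Int.ofNat 0, Int.negSucc 1, Int.ofNat 0, Int.ofNat 0, Int.ofNat 2, Int.ofNat 0, Int.ofNat 0, Int.negSucc 1, Int.ofNat 0, Int.ofNat 0, Int.ofNat 0, Int.ofNat 0, Int.negSucc 1, Int.negSucc 1],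
  [Int.ofNat 0, Int.ofNat 0, Int.negSucc 1, Int.ofNat 0, Int.ofNat 0, Int.ofNat 0, Int.ofNat 0, Int.ofNat 0, Int.ofNat 2, Int.negSucc 1, Int.ofNat 0, Int.ofNat 0, Int.negSucc 1, Int.ofNat 0, Int.negSucc 1, Int.ofNat 0, Int.ofNat 0, Int.ofNat 2, Int.ofNat 0, Int.ofNat 0, Int.negSucc 1, Int.ofNat 0, Int.ofNat 0, Int.negSucc 1],
  [Int.negSucc 1, Int.negSucc 1, Int.ofNat 0, Int.ofNat 0, Int.ofNat 0, Int.ofNat 0, Int.ofNat 0, Int.ofNat 0, Int.ofNat 2, Int.ofNat 0, Int.ofNat 2, Int.ofNat 0, Int.negSucc 1, Int.ofNat 0, Int.negSucc 1, Int.ofNat 2, Int.ofNat 0, Int.ofNat 2, Int.ofNat 0, Int.ofNat 0, Int.ofNat 0, Int.ofNat 0, Int.ofNat 0, Int.ofNat 0],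
  [Int.negSucc 1, Int.ofNat 0, Int.ofNat 0, Int.ofNat 0, Int.ofNat 0, Int.ofNat 0, Int.ofNat 0, Int.ofNat 2, Int.ofNat 0, Int.ofNat 2, Int.ofNat 0, Int.negSucc 1, Int.ofNat 0, Int.negSucc 1, Int.ofNat 2, Int.ofNat 0, Int.ofNat 2, Int.ofNat 0, Int.ofNat 0, Int.ofNat 0, Int.ofNat 0, Int.ofNat 0, Int.negSucc 1, Int.ofNat 0],
  [Int.ofNat 2, Int.ofNat 0, Int.ofNat 0, Int.ofNat 0, Int.ofNat 0, Int.ofNat 0, Int.ofNat 0, Int.negSucc 1, Int.ofNat 0, Int.negSucc 1, Int.ofNat 0, Int.ofNat 2, Int.ofNat 0, Int.negSucc 1, Int.ofNat 2, Int.ofNat 0, Int.ofNat 2, Int.ofNat 0, Int.ofNat 0, Int.ofNat 0, Int.ofNat 0, Int.ofNat 0, Int.negSucc 1, Int.ofNat 0],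
  [Int.negSucc 1, Int.ofNat 0, Int.ofNat 0, Int.ofNat 0, Int.ofNat 0, Int.ofNat 0, Int.ofNat 0, Int.negSucc 1, Int.ofNat 0, Int.ofNat 2, Int.ofNat 0, Int.ofNat 2, Int.ofNat 0, Int.ofNat 2, Int.ofNat 2, Int.ofNat 0, Int.negSucc 1, Int.ofNat 0, Int.ofNat 0, Int.ofNat 0, Int.ofNat 0, Int.ofNat 0, Int.negSucc 1, Int.ofNat 0],
  [Int.negSucc 1, Int.ofNat 0, Int.ofNat 0, Int.ofNat 0, Int.ofNat 0, Int.ofNat 0, Int.ofNat 0, Int.ofNat 0, Int.ofNat 2, Int.negSucc 1, Int.ofNat 0, Int.ofNat 2, Int.ofNat 2, Int.ofNat 0, Int.ofNat 0, Int.ofNat 0, Int.ofNat 0, Int.negSucc 1, Int.ofNat 0, Int.ofNat 0, Int.ofNat 0, Int.negSucc 1, Int.ofNat 2, Int.ofNat 0],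
  [Int.ofNat 2, Int.ofNat 0, Int.ofNat 0, Int.ofNat 0, Int.ofNat 0, Int.ofNat 0, Int.ofNat 0, Int.ofNat 0, Int.ofNat 2, Int.ofNat 2, Int.ofNat 0, Int.negSucc 1, Int.ofNat 2, Int.ofNat 0, Int.ofNat 0, Int.ofNat 0, Int.ofNat 0, Int.negSucc 1, Int.ofNat 0, Int.ofNat 0, Int.ofNat 0, Int.ofNat 2, Int.ofNat 2, Int.ofNat 0],
  [Int.ofNat 2, Int.ofNat 2, Int.ofNat 0, Int.ofNat 0, Int.ofNat 0, Int.ofNat 0, Int.ofNat 0, Int.ofNat 0, Int.ofNat 0, Int.ofNat 2, Int.ofNat 2, Int.ofNat 0, Int.negSucc 1, Int.ofNat 2, Int.ofNat 0, Int.ofNat 0, Int.ofNat 0, Int.ofNat 0, Int.negSucc 1, Int.ofNat 0, Int.ofNat 0, Int.ofNat 0, Int.ofNat 2, Int.ofNat 0],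
  [Int.ofNat 0, Int.ofNat 0, Int.ofNat 2, Int.ofNat 0, Int.negSucc 1, Int.ofNat 0, Int.ofNat 0, Int.ofNat 0, Int.ofNat 2, Int.ofNat 0, Int.ofNat 0, Int.ofNat 2, Int.ofNat 0, Int.ofNat 0, Int.ofNat 0, Int.negSucc 1, Int.negSucc 1, Int.ofNat 0, Int.ofNat 0, Int.ofNat 0, Int.negSucc 1, Int.ofNat 0, Int.ofNat 0, Int.ofNat 2],
  [Int.ofNat 0, Int.negSucc 1, Int.ofNat 0, Int.ofNat 0, Int.ofNat 0, Int.ofNat 2, Int.ofNat 0, Int.ofNat 0, Int.ofNat 2, Int.ofNat 0, Int.ofNat 0, Int.ofNat 0, Int.negSucc 1, Int.negSucc 1, Int.ofNat 0, Int.ofNat 0, Int.ofNat 0, Int.negSucc 1, Int.ofNat 0, Int.ofNat 0, Int.ofNat 0, Int.ofNat 0, Int.ofNat 2, Int.ofNat 2],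
  [Int.ofNat 0, Int.ofNat 2, Int.ofNat 0, Int.ofNat 0, Int.ofNat 0, Int.ofNat 2, Int.ofNat 0, Int.ofNat 0, Int.ofNat 2, Int.ofNat 0, Int.ofNat 0, Int.ofNat 0, Int.negSucc 1, Int.negSucc 1, Int.ofNat 0, Int.ofNat 0, Int.ofNat 0, Int.negSucc 1, Int.ofNat 0, Int.ofNat 0, Int.ofNat 0, Int.ofNat 0, Int.ofNat 2, Int.negSucc 1],
  [Int.ofNat 0, Int.ofNat 0, Int.ofNat 0, Int.ofNat 0, Int.ofNat 0, Int.ofNat 0, Int.ofNat 0, Int.ofNat 0, Int.negSucc 1, Int.negSucc 1, Int.ofNat 0, Int.negSucc 1, Int.ofNat 0, Int.ofNat 0, Int.ofNat 2, Int.ofNat 0, Int.ofNat 2, Int.ofNat 0, Int.ofNat 2, Int.ofNat 0, Int.ofNat 0, Int.ofNat 2, Int.ofNat 0, Int.negSucc 1],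
  [Int.negSucc 0, Int.negSucc 0, Int.negSucc 0, Int.negSucc 0, Int.negSucc 0, Int.negSucc 0, Int.negSucc 0, Int.negSucc 0, Int.negSucc 0, Int.negSucc 0, Int.ofNat 1, Int.negSucc 0, Int.ofNat 1, Int.negSucc 0, Int.ofNat 1, Int.ofNat 1, Int.ofNat 1, Int.negSucc 0, Int.ofNat 3, Int.negSucc 0, Int.ofNat 1, Int.ofNat 1, Int.negSucc 0, Int.ofNat 1],
  [Int.negSucc 0, Int.negSucc 0, Int.ofNat 1, Int.negSucc 0, Int.negSucc 0, Int.ofNat 1, Int.ofNat 1, Int.negSucc 0, Int.negSucc 0, Int.ofNat 1, Int.negSucc 0, Int.negSucc 0, Int.ofNat 1, Int.negSucc 0, Int.ofNat 1, Int.negSucc 0, Int.ofNat 1, Int.negSucc 0, Int.negSucc 2, Int.negSucc 0, Int.ofNat 1, Int.ofNat 1, Int.ofNat 1, Int.ofNat 1],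
  [Int.negSucc 0, Int.ofNat 1, Int.negSucc 0, Int.negSucc 0, Int.ofNat 1, Int.ofNat 1, Int.ofNat 1, Int.negSucc 0, Int.ofNat 1, Int.ofNat 1, Int.negSucc 0, Int.negSucc 0, Int.negSucc 0, Int.negSucc 0, Int.negSucc 0, Int.negSucc 2, Int.negSucc 0, Int.ofNat 1, Int.ofNat 1, Int.ofNat 1, Int.negSucc 0, Int.negSucc 0, Int.ofNat 1, Int.ofNat 1],
  [Int.ofNat 1, Int.ofNat 1, Int.negSucc 0, Int.negSucc 2, Int.ofNat 1, Int.ofNat 1, Int.ofNat 1, Int.negSucc 0, Int.negSucc 0, Int.ofNat 1, Int.negSucc 0, Int.negSucc 0, Int.negSucc 0, Int.negSucc 0, Int.ofNat 1, Int.negSucc 0, Int.negSucc 0, Int.ofNat 1, Int.negSucc 0, Int.ofNat 1, Int.ofNat 1, Int.negSucc 0, Int.ofNat 1, Int.negSucc 0],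
  [Int.negSucc 0, Int.ofNat 1, Int.ofNat 1, Int.negSucc 2, Int.ofNat 1, Int.ofNat 1, Int.ofNat 1, Int.ofNat 1, Int.negSucc 0, Int.negSucc 0, Int.ofNat 1, Int.ofNat 1, Int.negSucc 0, Int.negSucc 0, Int.ofNat 1, Int.negSucc 0, Int.negSucc 0, Int.ofNat 1, Int.ofNat 1, Int.ofNat 1, Int.ofNat 1, Int.ofNat 1, Int.ofNat 1, Int.negSucc 0],
  [Int.ofNat 1, Int.negSucc 0, Int.ofNat 1, Int.ofNat 1, Int.negSucc 2, Int.ofNat 1, Int.ofNat 1, Int.ofNat 1, Int.ofNat 1, Int.negSucc 0, Int.negSucc 0, Int.ofNat 1, Int.ofNat 1, Int.negSucc 0, Int.negSucc 0, Int.ofNat 1, Int.negSucc 0, Int.negSucc 0, Int.ofNat 1, Int.ofNat 1, Int.ofNat 1, Int.ofNat 1, Int.ofNat 1, Int.negSucc 0],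
  [Int.negSucc 0, Int.ofNat 1, Int.negSucc 0, Int.ofNat 1, Int.negSucc 0, Int.ofNat 1, Int.negSucc 0, Int.negSucc 0, Int.negSucc 0, Int.negSucc 0, Int.negSucc 0, Int.negSucc 0, Int.negSucc 0, Int.ofNat 1, Int.negSucc 0, Int.ofNat 1, Int.ofNat 1, Int.negSucc 0, Int.negSucc 0, Int.negSucc 0, Int.ofNat 1, Int.negSucc 0, Int.ofNat 3, Int.ofNat 1],
  [Int.ofNat 1, Int.negSucc 0, Int.ofNat 1, Int.negSucc 0, Int.negSucc 0, Int.negSucc 0, Int.negSucc 0, Int.negSucc 0, Int.negSucc 0, Int.negSucc 0, Int.ofNat 1, Int.negSucc 0, Int.ofNat 1, Int.ofNat 1, Int.negSucc 0, Int.negSucc 0, Int.negSucc 0, Int.ofNat 1, Int.negSucc 0, Int.ofNat 3, Int.negSucc 0, Int.ofNat 1, Int.negSucc 0, Int.ofNat 1],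
  [Int.ofNat 0, Int.ofNat 2, Int.ofNat 0, Int.ofNat 0, Int.ofNat 0, Int.ofNat 0, Int.negSucc 1, Int.negSucc 1, Int.ofNat 0, Int.ofNat 0, Int.ofNat 2, Int.ofNat 0, Int.ofNat 2, Int.ofNat 2, Int.ofNat 0, Int.ofNat 0, Int.ofNat 0, Int.ofNat 2, Int.ofNat 0, Int.ofNat 2, Int.ofNat 0, Int.ofNat 0, Int.ofNat 0, Int.ofNat 0],
  [Int.ofNat 0, Int.negSucc 1, Int.ofNat 0, Int.ofNat 0, Int.ofNat 0, Int.negSucc 1, Int.ofNat 0, Int.ofNat 2, Int.ofNat 2, Int.ofNat 2, Int.ofNat 0, Int.ofNat 2, Int.ofNat 0, Int.ofNat 0, Int.ofNat 0, Int.ofNat 0, Int.ofNat 0, Int.ofNat 0, Int.ofNat 2, Int.ofNat 0, Int.ofNat 0, Int.ofNat 0, Int.ofNat 2, Int.ofNat 0],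
  [Int.negSucc 0, Int.ofNat 1, Int.negSucc 0, Int.ofNat 1, Int.negSucc 0, Int.negSucc 0, Int.negSucc 0, Int.ofNat 1, Int.negSucc 0, Int.ofNat 1, Int.negSucc 0, Int.negSucc 0, Int.negSucc 2, Int.negSucc 0, Int.ofNat 1, Int.negSucc 0, Int.negSucc 0, Int.ofNat 1, Int.negSucc 0, Int.negSucc 0, Int.negSucc 0, Int.negSucc 0, Int.ofNat 1, Int.negSucc 0],
  [Int.negSucc 0, Int.ofNat 1, Int.ofNat 1, Int.ofNat 1, Int.negSucc 0, Int.ofNat 1, Int.ofNat 1, Int.ofNat 1, Int.negSucc 0, Int.negSucc 0, Int.ofNat 1, Int.negSucc 0, Int.negSucc 2, Int.negSucc 0, Int.ofNat 1, Int.ofNat 1, Int.negSucc 0, Int.ofNat 1, Int.ofNat 1, Int.negSucc 0, Int.negSucc 0, Int.negSucc 0, Int.negSucc 0, Int.negSucc 0],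
  [Int.ofNat 1, Int.negSucc 0, Int.negSucc 0, Int.negSucc 0, Int.negSucc 0, Int.ofNat 1, Int.ofNat 1, Int.ofNat 1, Int.negSucc 0, Int.ofNat 1, Int.negSucc 0, Int.ofNat 1, Int.negSucc 0, Int.negSucc 0, Int.ofNat 1, Int.ofNat 1, Int.ofNat 1, Int.negSucc 2, Int.negSucc 0, Int.ofNat 1, Int.ofNat 1, Int.negSucc 0, Int.negSucc 0, Int.negSucc 0],
  [Int.ofNat 1, Int.negSucc 0, Int.ofNat 1, Int.negSucc 0, Int.negSucc 0, Int.negSucc 0, Int.negSucc 0, Int.ofNat 1, Int.negSucc 0, Int.negSucc 0, Int.ofNat 1, Int.ofNat 1, Int.negSucc 0, Int.negSucc 0, Int.ofNat 1, Int.negSucc 0, Int.ofNat 1, Int.negSucc 2, Int.ofNat 1, Int.ofNat 1, Int.ofNat 1, Int.negSucc 0, Int.ofNat 1, Int.negSucc 0],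
  [Int.negSucc 0, Int.ofNat 1, Int.negSucc 0, Int.ofNat 1, Int.negSucc 0, Int.ofNat 1, Int.negSucc 0, Int.ofNat 1, Int.negSucc 0, Int.negSucc 0, Int.ofNat 1, Int.ofNat 1, Int.negSucc 0, Int.negSucc 0, Int.ofNat 3, Int.negSucc 0, Int.ofNat 1, Int.negSucc 0, Int.ofNat 1, Int.ofNat 1, Int.ofNat 1, Int.negSucc 0, Int.ofNat 1, Int.ofNat 1],
  [Int.negSucc 0, Int.ofNat 1, Int.negSucc 0, Int.ofNat 1, Int.negSucc 0, Int.negSucc 0, Int.ofNat 1, Int.ofNat 1, Int.ofNat 1, Int.negSucc 0, Int.ofNat 1, Int.ofNat 1, Int.negSucc 0, Int.negSucc 0, Int.negSucc 0, Int.negSucc 0, Int.negSucc 0, Int.ofNat 1, Int.negSucc 0, Int.ofNat 1, Int.ofNat 1, Int.ofNat 1, Int.ofNat 3, Int.ofNat 1],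
  [Int.ofNat 1, Int.negSucc 0, Int.ofNat 1, Int.ofNat 1, Int.negSucc 0, Int.negSucc 0, Int.negSucc 0, Int.negSucc 0, Int.ofNat 1, Int.negSucc 0, Int.ofNat 1, Int.ofNat 1, Int.negSucc 0, Int.negSucc 0, Int.negSucc 0, Int.negSucc 0, Int.negSucc 0, Int.ofNat 1, Int.negSucc 0, Int.negSucc 0, Int.ofNat 1, Int.negSucc 0, Int.ofNat 3, Int.negSucc 0],
  [Int.ofNat 1, Int.negSucc 0, Int.ofNat 3, Int.ofNat 1, Int.negSucc 0, Int.ofNat 1, Int.ofNat 1, Int.negSucc 0, Int.negSucc 0, Int.negSucc 0, Int.negSucc 0, Int.ofNat 1, Int.negSucc 0, Int.ofNat 1, Int.ofNat 1, Int.negSucc 0, Int.negSucc 0, Int.negSucc 0, Int.negSucc 0, Int.negSucc 0, Int.ofNat 1, Int.negSucc 0, Int.negSucc 0, Int.negSucc 0],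
  [Int.ofNat 0, Int.ofNat 2, Int.negSucc 1, Int.ofNat 0, Int.ofNat 0, Int.ofNat 0, Int.ofNat 2, Int.ofNat 0, Int.ofNat 0, Int.ofNat 0, Int.ofNat 0, Int.ofNat 2, Int.ofNat 0, Int.ofNat 2, Int.ofNat 0, Int.ofNat 0, Int.ofNat 0, Int.negSucc 1, Int.ofNat 0, Int.ofNat 0, Int.ofNat 2, Int.ofNat 0, Int.ofNat 0, Int.ofNat 2],
  [Int.ofNat 2, Int.negSucc 1, Int.ofNat 0, Int.ofNat 0, Int.ofNat 0, Int.ofNat 2, Int.ofNat 0, Int.ofNat 0, Int.ofNat 0, Int.ofNat 0, Int.ofNat 2, Int.ofNat 0, Int.ofNat 2, Int.ofNat 0, Int.ofNat 0, Int.ofNat 0, Int.negSucc 1, Int.ofNat 0, Int.ofNat 0, Int.ofNat 2, Int.ofNat 0, Int.ofNat 0, Int.ofNat 0, Int.ofNat 2],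
  [Int.negSucc 1, Int.negSucc 1, Int.ofNat 0, Int.ofNat 0, Int.ofNat 0, Int.ofNat 2, Int.ofNat 0, Int.ofNat 0, Int.ofNat 0, Int.ofNat 0, Int.negSucc 1, Int.ofNat 0, Int.ofNat 2, Int.ofNat 0, Int.ofNat 0, Int.ofNat 0, Int.negSucc 1, Int.ofNat 0, Int.ofNat 0, Int.ofNat 2, Int.ofNat 0, Int.ofNat 0, Int.ofNat 0, Int.ofNat 2],
  [Int.ofNat 2, Int.ofNat 2, Int.ofNat 0, Int.ofNat 0, Int.ofNat 0, Int.ofNat 2, Int.ofNat 0, Int.ofNat 0, Int.ofNat 0, Int.ofNat 0, Int.negSucc 1, Int.ofNat 0, Int.negSucc 1, Int.ofNat 0, Int.ofNat 0, Int.ofNat 0, Int.ofNat 2, Int.ofNat 0, Int.ofNat 0, Int.ofNat 2, Int.ofNat 0, Int.ofNat 0, Int.ofNat 0, Int.ofNat 2],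
  [Int.ofNat 2, Int.ofNat 0, Int.ofNat 0, Int.ofNat 0, Int.ofNat 2, Int.negSucc 1, Int.ofNat 0, Int.ofNat 0, Int.ofNat 0, Int.ofNat 2, Int.ofNat 0, Int.ofNat 0, Int.ofNat 0, Int.ofNat 0, Int.ofNat 2, Int.ofNat 0, Int.negSucc 1, Int.ofNat 0, Int.ofNat 0, Int.ofNat 0, Int.ofNat 2, Int.ofNat 0, Int.ofNat 0, Int.ofNat 2],
  [Int.negSucc 1, Int.ofNat 0, Int.ofNat 0, Int.ofNat 0, Int.ofNat 2, Int.negSucc 1, Int.ofNat 0, Int.ofNat 0, Int.ofNat 0, Int.negSucc 1, Int.ofNat 0, Int.ofNat 0, Int.ofNat 0, Int.ofNat 0, Int.ofNat 2, Int.ofNat 0, Int.negSucc 1, Int.ofNat 0, Int.ofNat 0, Int.ofNat 0, Int.ofNat 2, Int.ofNat 0, Int.ofNat 0, Int.ofNat 2],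
  [Int.ofNat 0, Int.negSucc 1, Int.ofNat 0, Int.ofNat 0, Int.ofNat 0, Int.ofNat 2, Int.negSucc 1, Int.ofNat 0, Int.ofNat 0, Int.ofNat 0, Int.negSucc 1, Int.ofNat 0, Int.ofNat 0, Int.ofNat 0, Int.ofNat 0, Int.ofNat 2, Int.ofNat 0, Int.negSucc 1, Int.ofNat 0, Int.ofNat 0, Int.ofNat 0, Int.ofNat 2, Int.ofNat 0, Int.ofNat 2],
  [Int.ofNat 0, Int.ofNat 2, Int.ofNat 0, Int.ofNat 0, Int.ofNat 0, Int.ofNat 2, Int.negSucc 1, Int.ofNat 0, Int.ofNat 0, Int.ofNat 0, Int.negSucc 1, Int.ofNat 0, Int.ofNat 0, Int.ofNat 0, Int.ofNat 0, Int.ofNat 2, Int.ofNat 0, Int.negSucc 1, Int.ofNat 0, Int.ofNat 0, Int.ofNat 0, Int.ofNat 2, Int.ofNat 0, Int.negSucc 1],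
  [Int.ofNat 0, Int.ofNat 0, Int.ofNat 2, Int.negSucc 1, Int.ofNat 0, Int.ofNat 0, Int.ofNat 0, Int.negSucc 1, Int.ofNat 0, Int.ofNat 0, Int.ofNat 0, Int.ofNat 0, Int.ofNat 2, Int.ofNat 0, Int.negSucc 1, Int.ofNat 0, Int.ofNat 0, Int.ofNat 0, Int.ofNat 2, Int.ofNat 0, Int.ofNat 0, Int.ofNat 2, Int.ofNat 0, Int.negSucc 1],
  [Int.ofNat 0, Int.ofNat 0, Int.negSucc 1, Int.ofNat 0, Int.ofNat 0, Int.ofNat 2, Int.ofNat 0, Int.negSucc 1, Int.negSucc 1, Int.ofNat 0, Int.ofNat 0, Int.negSucc 1, Int.ofNat 0, Int.ofNat 0, Int.ofNat 0, Int.ofNat 0, Int.ofNat 0, Int.ofNat 2, Int.ofNat 0, Int.ofNat 0, Int.ofNat 0, Int.ofNat 2, Int.ofNat 0, Int.ofNat 2],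
  [Int.ofNat 0, Int.ofNat 0, Int.ofNat 0, Int.ofNat 0, Int.ofNat 0, Int.negSucc 1, Int.negSucc 1, Int.ofNat 0, Int.ofNat 0, Int.ofNat 0, Int.ofNat 0, Int.ofNat 2, Int.ofNat 0, Int.ofNat 0, Int.ofNat 0, Int.ofNat 0, Int.negSucc 1, Int.ofNat 0, Int.ofNat 0, Int.negSucc 1, Int.ofNat 2, Int.ofNat 2, Int.ofNat 0, Int.ofNat 2],
  [Int.ofNat 1, Int.ofNat 1, Int.ofNat 1, Int.ofNat 1, Int.ofNat 1, Int.negSucc 0, Int.negSucc 0, Int.ofNat 1, Int.negSucc 0, Int.negSucc 0, Int.negSucc 0, Int.ofNat 1, Int.negSucc 0, Int.ofNat 1, Int.ofNat 1, Int.negSucc 0, Int.negSucc 0, Int.ofNat 1, Int.negSucc 0, Int.negSucc 0, Int.ofNat 1, Int.ofNat 3, Int.ofNat 1, Int.negSucc 0],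
  [Int.ofNat 1, Int.ofNat 1, Int.negSucc 0, Int.ofNat 1, Int.ofNat 1, Int.ofNat 1, Int.ofNat 1, Int.ofNat 1, Int.negSucc 0, Int.ofNat 1, Int.ofNat 1, Int.ofNat 1, Int.negSucc 0, Int.ofNat 1, Int.ofNat 1, Int.ofNat 1, Int.negSucc 0, Int.ofNat 1, Int.ofNat 1, Int.negSucc 0, Int.ofNat 1, Int.ofNat 3, Int.negSucc 0, Int.negSucc 0],
  [Int.ofNat 1, Int.negSucc 0, Int.ofNat 1, Int.negSucc 0, Int.ofNat 1, Int.ofNat 1, Int.ofNat 3, Int.ofNat 1, Int.ofNat 1, Int.ofNat 1, Int.ofNat 1, Int.ofNat 1, Int.ofNat 1, Int.ofNat 1, Int.ofNat 1, Int.ofNat 1, Int.negSucc 0, Int.negSucc 0, Int.ofNat 1, Int.negSucc 0, Int.ofNat 1, Int.ofNat 1, Int.negSucc 0, Int.negSucc 0],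
  [Int.negSucc 0, Int.negSucc 0, Int.ofNat 1, Int.ofNat 1, Int.negSucc 0, Int.ofNat 1, Int.negSucc 0, Int.ofNat 1, Int.ofNat 1, Int.ofNat 1, Int.negSucc 0, Int.ofNat 1, Int.ofNat 1, Int.ofNat 1, Int.ofNat 1, Int.negSucc 0, Int.ofNat 1, Int.ofNat 1, Int.ofNat 1, Int.ofNat 3, Int.ofNat 1, Int.ofNat 1, Int.negSucc 0, Int.ofNat 1],
  [Int.ofNat 1, Int.negSucc 0, Int.negSucc 0, Int.ofNat 1, Int.negSucc 0, Int.ofNat 1, Int.negSucc 0, Int.negSucc 0, Int.ofNat 1, Int.negSucc 0, Int.ofNat 1, Int.negSucc 0, Int.ofNat 1, Int.ofNat 1, Int.ofNat 1, Int.negSucc 0, Int.ofNat 1, Int.ofNat 1, Int.negSucc 0, Int.ofNat 3, Int.ofNat 1, Int.negSucc 0, Int.negSucc 0, Int.ofNat 1],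
  [Int.negSucc 0, Int.ofNat 1, Int.negSucc 0, Int.negSucc 0, Int.ofNat 1, Int.negSucc 0, Int.ofNat 1, Int.negSucc 0, Int.negSucc 0, Int.ofNat 1, Int.negSucc 0, Int.ofNat 1, Int.negSucc 0, Int.ofNat 1, Int.ofNat 1, Int.ofNat 1, Int.negSucc 0, Int.ofNat 1, Int.ofNat 1, Int.negSucc 0, Int.ofNat 3, Int.ofNat 1, Int.negSucc 0, Int.ofNat 1],
  [Int.ofNat 1, Int.negSucc 0, Int.ofNat 1, Int.negSucc 0, Int.ofNat 1, Int.negSucc 0, Int.ofNat 1, Int.negSucc 0, Int.negSucc 0, Int.negSucc 0, Int.negSucc 2, Int.ofNat 1, Int.negSucc 0, Int.ofNat 1, Int.ofNat 1, Int.negSucc 0, Int.negSucc 0, Int.ofNat 1, Int.ofNat 1, Int.negSucc 0, Int.ofNat 1, Int.ofNat 1, Int.negSucc 0, Int.negSucc 0],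
  [Int.negSucc 0, Int.ofNat 1, Int.negSucc 0, Int.ofNat 1, Int.negSucc 0, Int.negSucc 0, Int.negSucc 0, Int.negSucc 2, Int.ofNat 1, Int.negSucc 0, Int.ofNat 1, Int.ofNat 1, Int.negSucc 0, Int.negSucc 0, Int.ofNat 1, Int.ofNat 1, Int.negSucc 0, Int.ofNat 1, Int.ofNat 1, Int.negSucc 0, Int.ofNat 1, Int.negSucc 0, Int.ofNat 1, Int.negSucc 0],
  [Int.ofNat 0, Int.negSucc 1, Int.ofNat 0, Int.ofNat 0, Int.ofNat 0, Int.negSucc 1, Int.ofNat 2, Int.ofNat 0, Int.ofNat 0, Int.negSucc 1, Int.ofNat 0, Int.ofNat 0, Int.negSucc 1, Int.ofNat 0, Int.ofNat 0, Int.ofNat 0, Int.ofNat 0, Int.ofNat 0, Int.ofNat 0, Int.ofNat 2, Int.ofNat 0, Int.ofNat 2, Int.ofNat 2, Int.ofNat 0],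
  [Int.ofNat 0, Int.ofNat 2, Int.ofNat 0, Int.ofNat 0, Int.ofNat 0, Int.ofNat 0, Int.ofNat 0, Int.ofNat 0, Int.negSucc 1, Int.ofNat 0, Int.ofNat 0, Int.ofNat 0, Int.negSucc 1, Int.ofNat 0, Int.ofNat 2, Int.ofNat 0, Int.ofNat 0, Int.ofNat 0, Int.negSucc 1, Int.ofNat 0, Int.ofNat 2, Int.negSucc 1, Int.ofNat 2, Int.ofNat 0],
  [Int.ofNat 1, Int.negSucc 0, Int.ofNat 1, Int.negSucc 0, Int.negSucc 0, Int.negSucc 0, Int.ofNat 1, Int.ofNat 1, Int.ofNat 1, Int.negSucc 0, Int.negSucc 0, Int.ofNat 3, Int.ofNat 1, Int.negSucc 0, Int.ofNat 1, Int.negSucc 0, Int.negSucc 0, Int.negSucc 0, Int.ofNat 1, Int.ofNat 1, Int.ofNat 1, Int.negSucc 0, Int.ofNat 1, Int.ofNat 1],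
  [Int.ofNat 1, Int.negSucc 0, Int.negSucc 0, Int.negSucc 0, Int.negSucc 0, Int.ofNat 1, Int.negSucc 0, Int.ofNat 1, Int.ofNat 1, Int.ofNat 1, Int.ofNat 1, Int.ofNat 3, Int.ofNat 1, Int.negSucc 0, Int.ofNat 1, Int.ofNat 1, Int.negSucc 0, Int.negSucc 0, Int.negSucc 0, Int.ofNat 1, Int.ofNat 1, Int.negSucc 0, Int.negSucc 0, Int.ofNat 1],
  [Int.ofNat 1, Int.negSucc 0, Int.negSucc 0, Int.negSucc 0, Int.ofNat 1, Int.ofNat 1, Int.ofNat 1, Int.negSucc 0, Int.negSucc 0, Int.negSucc 0, Int.ofNat 1, Int.negSucc 0, Int.ofNat 1, Int.negSucc 0, Int.negSucc 0, Int.negSucc 0, Int.ofNat 1, Int.ofNat 1, Int.ofNat 1, Int.negSucc 0, Int.ofNat 1, Int.ofNat 1, Int.ofNat 3, Int.ofNat 1],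
  [Int.ofNat 1, Int.negSucc 0, Int.ofNat 1, Int.negSucc 0, Int.ofNat 1, Int.negSucc 0, Int.negSucc 0, Int.negSucc 0, Int.negSucc 0, Int.ofNat 1, Int.negSucc 0, Int.negSucc 0, Int.ofNat 1, Int.negSucc 0, Int.negSucc 0, Int.ofNat 1, Int.ofNat 1, Int.ofNat 1, Int.negSucc 0, Int.negSucc 0, Int.ofNat 1, Int.ofNat 1, Int.negSucc 2, Int.ofNat 1],
  [Int.ofNat 0, Int.ofNat 2, Int.ofNat 0, Int.ofNat 0, Int.ofNat 2, Int.ofNat 0, Int.ofNat 0, Int.ofNat 0, Int.ofNat 0, Int.ofNat 0, Int.negSucc 1, Int.ofNat 0, Int.ofNat 2, Int.ofNat 0, Int.ofNat 0, Int.ofNat 0, Int.ofNat 2, Int.ofNat 2, Int.ofNat 0, Int.ofNat 0, Int.ofNat 0, Int.ofNat 2, Int.negSucc 1, Int.ofNat 0],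
  [Int.ofNat 0, Int.ofNat 0, Int.ofNat 0, Int.ofNat 0, Int.ofNat 0, Int.ofNat 2, Int.ofNat 2, Int.ofNat 0, Int.ofNat 2, Int.ofNat 2, Int.ofNat 0, Int.ofNat 0, Int.ofNat 0, Int.ofNat 0, Int.ofNat 2, Int.ofNat 0, Int.ofNat 0, Int.ofNat 0, Int.ofNat 2, Int.negSucc 1, Int.negSucc 1, Int.ofNat 0, Int.ofNat 0, Int.ofNat 0],
  [Int.ofNat 0, Int.ofNat 0, Int.ofNat 0, Int.negSucc 1, Int.ofNat 0, Int.ofNat 0, Int.ofNat 2, Int.ofNat 0, Int.ofNat 0, Int.ofNat 2, Int.ofNat 0, Int.negSucc 1, Int.negSucc 1, Int.ofNat 0, Int.ofNat 0, Int.ofNat 0, Int.ofNat 0, Int.negSucc 1, Int.ofNat 0, Int.negSucc 1, Int.negSucc 1, Int.ofNat 0, Int.ofNat 0, Int.ofNat 0],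
  [Int.negSucc 1, Int.ofNat 0, Int.ofNat 0, Int.ofNat 0, Int.ofNat 0, Int.ofNat 0, Int.negSucc 1, Int.ofNat 0, Int.ofNat 0, Int.ofNat 2, Int.ofNat 0, Int.ofNat 0, Int.ofNat 2, Int.ofNat 0, Int.negSucc 1, Int.negSucc 1, Int.ofNat 0, Int.ofNat 0, Int.ofNat 0, Int.ofNat 0, Int.negSucc 1, Int.ofNat 0, Int.negSucc 1, Int.ofNat 0],
  [Int.ofNat 1, Int.negSucc 0, Int.negSucc 0, Int.ofNat 1, Int.ofNat 1, Int.ofNat 1, Int.negSucc 0, Int.ofNat 1, Int.negSucc 0, Int.ofNat 3, Int.ofNat 1, Int.negSucc 0, Int.ofNat 1, Int.ofNat 1, Int.negSucc 0, Int.negSucc 0, Int.ofNat 1, Int.ofNat 1, Int.negSucc 0, Int.ofNat 1, Int.negSucc 0, Int.ofNat 1, Int.negSucc 0, Int.negSucc 0],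
  [Int.negSucc 0, Int.negSucc 0, Int.ofNat 1, Int.ofNat 1, Int.ofNat 1, Int.negSucc 0, Int.ofNat 1, Int.negSucc 0, Int.ofNat 3, Int.ofNat 1, Int.negSucc 0, Int.ofNat 1, Int.ofNat 1, Int.negSucc 0, Int.negSucc 0, Int.ofNat 1, Int.ofNat 1, Int.negSucc 0, Int.ofNat 1, Int.negSucc 0, Int.ofNat 1, Int.negSucc 0, Int.ofNat 1, Int.negSucc 0],
  [Int.ofNat 1, Int.negSucc 0, Int.negSucc 0, Int.ofNat 1, Int.ofNat 1, Int.negSucc 0, Int.ofNat 1, Int.ofNat 1, Int.ofNat 3, Int.negSucc 0, Int.ofNat 1, Int.negSucc 0, Int.ofNat 1, Int.negSucc 0, Int.negSucc 0, Int.ofNat 1, Int.ofNat 1, Int.negSucc 0, Int.negSucc 0, Int.negSucc 0, Int.ofNat 1, Int.ofNat 1, Int.ofNat 1, Int.negSucc 0],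
  [Int.negSucc 0, Int.ofNat 1, Int.ofNat 1, Int.negSucc 0, Int.negSucc 0, Int.negSucc 0, Int.negSucc 0, Int.ofNat 1, Int.negSucc 2, Int.ofNat 1, Int.ofNat 1, Int.negSucc 0, Int.negSucc 0, Int.ofNat 1, Int.negSucc 0, Int.ofNat 1, Int.negSucc 0, Int.negSucc 0, Int.ofNat 1, Int.negSucc 0, Int.ofNat 1, Int.ofNat 1, Int.ofNat 1, Int.negSucc 0],
  [Int.negSucc 0, Int.ofNat 1, Int.ofNat 1, Int.negSucc 0, Int.ofNat 1, Int.ofNat 1, Int.negSucc 0, Int.ofNat 1, Int.ofNat 1, Int.negSucc 0, Int.ofNat 1, Int.negSucc 0, Int.ofNat 1, Int.negSucc 2, Int.negSucc 0, Int.ofNat 1, Int.negSucc 0, Int.ofNat 1, Int.negSucc 0, Int.negSucc 0, Int.negSucc 0, Int.ofNat 1, Int.negSucc 0, Int.negSucc 0],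
  [Int.ofNat 1, Int.ofNat 1, Int.negSucc 0, Int.negSucc 0, Int.ofNat 1, Int.ofNat 1, Int.negSucc 0, Int.negSucc 0, Int.ofNat 1, Int.ofNat 1, Int.negSucc 0, Int.ofNat 1, Int.ofNat 1, Int.negSucc 2, Int.negSucc 0, Int.ofNat 1, Int.negSucc 0, Int.ofNat 1, Int.ofNat 1, Int.negSucc 0, Int.negSucc 0, Int.negSucc 0, Int.negSucc 0, Int.negSucc 0],
  [Int.negSucc 0, Int.ofNat 1, Int.ofNat 1, Int.negSucc 0, Int.negSucc 0, Int.ofNat 1, Int.ofNat 1, Int.negSucc 0, Int.negSucc 0, Int.ofNat 1, Int.ofNat 1, Int.negSucc 0, Int.ofNat 1, Int.ofNat 1, Int.negSucc 2, Int.negSucc 0, Int.ofNat 1, Int.negSucc 0, Int.ofNat 1, Int.ofNat 1, Int.negSucc 0, Int.negSucc 0, Int.negSucc 0, Int.negSucc 0],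
  [Int.ofNat 1, Int.negSucc 0, Int.negSucc 0, Int.ofNat 1, Int.negSucc 0, Int.ofNat 3, Int.ofNat 1, Int.negSucc 0, Int.negSucc 0, Int.ofNat 1, Int.ofNat 1, Int.negSucc 0, Int.ofNat 1, Int.ofNat 1, Int.negSucc 0, Int.negSucc 0, Int.ofNat 1, Int.ofNat 1, Int.ofNat 1, Int.ofNat 1, Int.negSucc 0, Int.negSucc 0, Int.negSucc 0, Int.ofNat 1],
  [Int.ofNat 1, Int.negSucc 0, Int.ofNat 3, Int.ofNat 1, Int.negSucc 0, Int.negSucc 0, Int.ofNat 1, Int.ofNat 1, Int.negSucc 0, Int.ofNat 1, Int.ofNat 1, Int.negSucc 0, Int.negSucc 0, Int.ofNat 1, Int.ofNat 1, Int.ofNat 1, Int.ofNat 1, Int.negSucc 0, Int.negSucc 0, Int.negSucc 0, Int.ofNat 1, Int.negSucc 0, Int.negSucc 0, Int.ofNat 1],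
  [Int.ofNat 1, Int.ofNat 3, Int.negSucc 0, Int.ofNat 1, Int.negSucc 0, Int.negSucc 0, Int.ofNat 1, Int.ofNat 1, Int.ofNat 1, Int.negSucc 0, Int.negSucc 0, Int.ofNat 1, Int.ofNat 1, Int.ofNat 1, Int.ofNat 1, Int.negSucc 0, Int.ofNat 1, Int.negSucc 0, Int.ofNat 1, Int.negSucc 0, Int.negSucc 0, Int.negSucc 0, Int.negSucc 0, Int.ofNat 1],
  [Int.ofNat 1, Int.ofNat 1, Int.negSucc 0, Int.ofNat 1, Int.ofNat 1, Int.ofNat 1, Int.negSucc 0, Int.negSucc 0, Int.ofNat 1, Int.ofNat 1, Int.negSucc 0, Int.negSucc 0, Int.negSucc 0, Int.ofNat 1, Int.negSucc 0, Int.negSucc 0, Int.ofNat 1, Int.ofNat 1, Int.ofNat 3, Int.ofNat 1, Int.negSucc 0, Int.negSucc 0, Int.negSucc 0, Int.ofNat 1],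
  [Int.ofNat 0, Int.ofNat 0, Int.ofNat 2, Int.ofNat 0, Int.ofNat 0, Int.ofNat 0, Int.ofNat 0, Int.ofNat 0, Int.ofNat 0, Int.ofNat 2, Int.ofNat 0, Int.negSucc 1, Int.negSucc 1, Int.ofNat 0, Int.negSucc 1, Int.ofNat 0, Int.ofNat 0, Int.ofNat 0, Int.ofNat 2, Int.ofNat 2, Int.ofNat 0, Int.ofNat 0, Int.negSucc 1, Int.ofNat 0],
  [Int.ofNat 0, Int.ofNat 0, Int.negSucc 1, Int.ofNat 0, Int.ofNat 0, Int.ofNat 0, Int.ofNat 0, Int.ofNat 0, Int.ofNat 0, Int.negSucc 1, Int.ofNat 0, Int.negSucc 1, Int.negSucc 1, Int.ofNat 0, Int.negSucc 1, Int.ofNat 0, Int.ofNat 0, Int.ofNat 0, Int.negSucc 1, Int.ofNat 2, Int.ofNat 0, Int.ofNat 0, Int.ofNat 2, Int.ofNat 0],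
  [Int.ofNat 0, Int.ofNat 0, Int.negSucc 1, Int.ofNat 0, Int.negSucc 1, Int.ofNat 0, Int.ofNat 0, Int.ofNat 0, Int.ofNat 0, Int.ofNat 0, Int.ofNat 0, Int.ofNat 0, Int.ofNat 0, Int.ofNat 0, Int.ofNat 0, Int.negSucc 1, Int.ofNat 2, Int.negSucc 1, Int.negSucc 1, Int.negSucc 1, Int.ofNat 0, Int.ofNat 0, Int.ofNat 2, Int.ofNat 0],
  [Int.ofNat 0, Int.ofNat 2, Int.ofNat 0, Int.negSucc 1, Int.negSucc 1, Int.ofNat 0, Int.negSucc 1, Int.ofNat 0, Int.ofNat 0, Int.ofNat 0, Int.ofNat 2, Int.negSucc 1, Int.ofNat 0, Int.ofNat 0, Int.negSucc 1, Int.ofNat 0, Int.ofNat 0, Int.negSucc 1, Int.ofNat 0, Int.ofNat 0, Int.ofNat 0, Int.ofNat 0, Int.ofNat 0, Int.ofNat 0],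
  [Int.ofNat 0, Int.ofNat 2, Int.ofNat 0, Int.negSucc 1, Int.negSucc 1, Int.ofNat 0, Int.negSucc 1, Int.ofNat 0, Int.ofNat 0, Int.ofNat 0, Int.negSucc 1, Int.ofNat 2, Int.ofNat 0, Int.ofNat 0, Int.negSucc 1, Int.ofNat 0, Int.ofNat 0, Int.negSucc 1, Int.ofNat 0, Int.ofNat 0, Int.ofNat 0, Int.ofNat 0, Int.ofNat 0, Int.ofNat 0],
  [Int.ofNat 0, Int.ofNat 0, Int.ofNat 2, Int.ofNat 0, Int.negSucc 1, Int.negSucc 1, Int.ofNat 0, Int.negSucc 1, Int.ofNat 0, Int.ofNat 0, Int.ofNat 0, Int.negSucc 1, Int.ofNat 2, Int.ofNat 0, Int.ofNat 0, Int.negSucc 1, Int.ofNat 0, Int.ofNat 0, Int.negSucc 1, Int.ofNat 0, Int.ofNat 0, Int.ofNat 0, Int.ofNat 0, Int.ofNat 0],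
  [Int.ofNat 1, Int.ofNat 1, Int.negSucc 0, Int.ofNat 1, Int.negSucc 0, Int.negSucc 0, Int.ofNat 1, Int.negSucc 0, Int.ofNat 1, Int.ofNat 1, Int.ofNat 1, Int.negSucc 0, Int.ofNat 3, Int.ofNat 1, Int.ofNat 1, Int.negSucc 0, Int.ofNat 1, Int.ofNat 1, Int.negSucc 0, Int.ofNat 1, Int.ofNat 1, Int.ofNat 1, Int.ofNat 1, Int.ofNat 1],
  [Int.ofNat 1, Int.negSucc 0, Int.negSucc 0, Int.ofNat 1, Int.negSucc 0, Int.ofNat 1, Int.ofNat 1, Int.ofNat 1, Int.negSucc 0, Int.ofNat 3, Int.ofNat 1, Int.ofNat 1, Int.negSucc 0, Int.ofNat 1, Int.ofNat 1, Int.negSucc 0, Int.ofNat 1, Int.ofNat 1, Int.ofNat 1, Int.ofNat 1, Int.ofNat 1, Int.ofNat 1, Int.negSucc 0, Int.ofNat 1],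
  [Int.negSucc 0, Int.ofNat 1, Int.ofNat 1, Int.negSucc 0, Int.negSucc 0, Int.negSucc 0, Int.negSucc 0, Int.negSucc 0, Int.negSucc 0, Int.ofNat 1, Int.negSucc 0, Int.ofNat 1, Int.negSucc 0, Int.ofNat 1, Int.negSucc 0, Int.negSucc 2, Int.ofNat 1, Int.negSucc 0, Int.ofNat 1, Int.negSucc 0, Int.negSucc 0, Int.negSucc 0, Int.negSucc 0, Int.negSucc 0],
  [Int.negSucc 0, Int.negSucc 0, Int.negSucc 0, Int.negSucc 0, Int.ofNat 1, Int.negSucc 0, Int.ofNat 1, Int.negSucc 0, Int.negSucc 0, Int.ofNat 1, Int.negSucc 0, Int.negSucc 0, Int.ofNat 1, Int.ofNat 1, Int.negSucc 0, Int.negSucc 2, Int.negSucc 0, Int.negSucc 0, Int.ofNat 1, Int.ofNat 1, Int.negSucc 0, Int.negSucc 0, Int.negSucc 0, Int.negSucc 0],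
  [Int.negSucc 0, Int.negSucc 0, Int.negSucc 0, Int.ofNat 1, Int.ofNat 1, Int.ofNat 1, Int.ofNat 1, Int.negSucc 0, Int.negSucc 0, Int.ofNat 3, Int.ofNat 1, Int.negSucc 0, Int.ofNat 1, Int.ofNat 1, Int.ofNat 1, Int.negSucc 0, Int.negSucc 0, Int.ofNat 1, Int.ofNat 1, Int.ofNat 1, Int.ofNat 1, Int.negSucc 0, Int.negSucc 0, Int.negSucc 0],
  [Int.negSucc 0, Int.negSucc 0, Int.ofNat 1, Int.ofNat 1, Int.ofNat 1, Int.negSucc 0, Int.negSucc 0, Int.negSucc 0, Int.negSucc 0, Int.negSucc 2, Int.negSucc 0, Int.negSucc 0, Int.ofNat 1, Int.ofNat 1, Int.ofNat 1, Int.ofNat 1, Int.negSucc 0, Int.ofNat 1, Int.negSucc 0, Int.ofNat 1, Int.ofNat 1, Int.negSucc 0, Int.ofNat 1, Int.negSucc 0],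
  [Int.negSucc 0, Int.negSucc 0, Int.ofNat 1, Int.ofNat 1, Int.ofNat 1, Int.negSucc 0, Int.negSucc 0, Int.ofNat 1, Int.negSucc 0, Int.negSucc 0, Int.negSucc 0, Int.negSucc 0, Int.negSucc 0, Int.ofNat 1, Int.ofNat 1, Int.negSucc 0, Int.ofNat 1, Int.ofNat 1, Int.negSucc 2, Int.ofNat 1, Int.ofNat 1, Int.ofNat 1, Int.negSucc 0, Int.negSucc 0],
  [Int.negSucc 0, Int.negSucc 0, Int.negSucc 0, Int.ofNat 1, Int.ofNat 1, Int.ofNat 1, Int.ofNat 1, Int.ofNat 1, Int.negSucc 0, Int.ofNat 1, Int.ofNat 1, Int.negSucc 0, Int.negSucc 0, Int.ofNat 1, Int.ofNat 1, Int.ofNat 1, Int.ofNat 1, Int.ofNat 1, Int.ofNat 3, Int.ofNat 1, Int.ofNat 1, Int.ofNat 1, Int.ofNat 1, Int.negSucc 0],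
  [Int.negSucc 0, Int.negSucc 0, Int.negSucc 0, Int.negSucc 0, Int.negSucc 0, Int.negSucc 0, Int.negSucc 0, Int.negSucc 0, Int.negSucc 0, Int.negSucc 0, Int.negSucc 0, Int.negSucc 0, Int.negSucc 0, Int.negSucc 0, Int.negSucc 0, Int.negSucc 0, Int.negSucc 0, Int.negSucc 0, Int.ofNat 3, Int.negSucc 0, Int.negSucc 0, Int.negSucc 0, Int.negSucc 0, Int.negSucc 0],
  [Int.negSucc 0, Int.ofNat 3, Int.negSucc 0, Int.negSucc 0, Int.negSucc 0, Int.negSucc 0, Int.negSucc 0, Int.negSucc 0, Int.negSucc 0, Int.negSucc 0, Int.negSucc 0, Int.negSucc 0, Int.negSucc 0, Int.negSucc 0, Int.negSucc 0, Int.negSucc 0, Int.negSucc 0, Int.negSucc 0, Int.negSucc 0, Int.negSucc 0, Int.negSucc 0, Int.negSucc 0, Int.negSucc 0, Int.negSucc 0],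
  [Int.ofNat 1, Int.negSucc 2, Int.ofNat 1, Int.ofNat 1, Int.ofNat 1, Int.ofNat 1, Int.ofNat 1, Int.ofNat 1, Int.ofNat 1, Int.ofNat 1, Int.ofNat 1, Int.ofNat 1, Int.ofNat 1, Int.ofNat 1, Int.ofNat 1, Int.ofNat 1, Int.ofNat 1, Int.ofNat 1, Int.ofNat 1, Int.ofNat 1, Int.ofNat 1, Int.ofNat 1, Int.ofNat 1, Int.ofNat 1],
  [Int.ofNat 1, Int.ofNat 1, Int.ofNat 1, Int.ofNat 1, Int.negSucc 2, Int.ofNat 1, Int.ofNat 1, Int.ofNat 1, Int.ofNat 1, Int.ofNat 1, Int.ofNat 1, Int.ofNat 1, Int.ofNat 1, Int.ofNat 1, Int.ofNat 1, Int.ofNat 1, Int.ofNat 1, Int.ofNat 1, Int.ofNat 1, Int.ofNat 1, Int.ofNat 1, Int.ofNat 1, Int.ofNat 1, Int.ofNat 1],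
  [Int.ofNat 1, Int.ofNat 1, Int.ofNat 1, Int.negSucc 0, Int.negSucc 2, Int.negSucc 0, Int.negSucc 0, Int.negSucc 0, Int.negSucc 0, Int.negSucc 0, Int.negSucc 0, Int.negSucc 0, Int.negSucc 0, Int.ofNat 1, Int.negSucc 0, Int.negSucc 0, Int.ofNat 1, Int.negSucc 0, Int.negSucc 0, Int.negSucc 0, Int.negSucc 0, Int.negSucc 0, Int.ofNat 1, Int.ofNat 1],
  [Int.ofNat 1, Int.ofNat 1, Int.negSucc 0, Int.negSucc 2, Int.negSucc 0, Int.negSucc 0, Int.negSucc 0, Int.negSucc 0, Int.negSucc 0, Int.negSucc 0, Int.negSucc 0, Int.negSucc 0, Int.ofNat 1, Int.negSucc 0, Int.negSucc 0, Int.ofNat 1, Int.negSucc 0, Int.negSucc 0, Int.negSucc 0, Int.negSucc 0, Int.negSucc 0, Int.ofNat 1, Int.ofNat 1, Int.ofNat 1],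
  [Int.negSucc 0, Int.ofNat 1, Int.ofNat 1, Int.negSucc 2, Int.negSucc 0, Int.negSucc 0, Int.negSucc 0, Int.ofNat 1, Int.negSucc 0, Int.ofNat 1, Int.ofNat 1, Int.ofNat 1, Int.ofNat 1, Int.negSucc 0, Int.negSucc 0, Int.ofNat 1, Int.negSucc 0, Int.negSucc 0, Int.ofNat 1, Int.negSucc 0, Int.negSucc 0, Int.negSucc 0, Int.ofNat 1, Int.ofNat 1],
  [Int.ofNat 1, Int.negSucc 0, Int.negSucc 0, Int.ofNat 3, Int.ofNat 1, Int.negSucc 0, Int.ofNat 1, Int.ofNat 1, Int.ofNat 1, Int.negSucc 0, Int.ofNat 1, Int.ofNat 1, Int.negSucc 0, Int.ofNat 1, Int.negSucc 0, Int.ofNat 1, Int.ofNat 1, Int.negSucc 0, Int.negSucc 0, Int.negSucc 0, Int.negSucc 0, Int.negSucc 0, Int.ofNat 1, Int.ofNat 1],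
  [Int.ofNat 1, Int.negSucc 0, Int.negSucc 0, Int.ofNat 3, Int.negSucc 0, Int.ofNat 1, Int.ofNat 1, Int.negSucc 0, Int.negSucc 0, Int.ofNat 1, Int.negSucc 0, Int.negSucc 0, Int.ofNat 1, Int.ofNat 1, Int.negSucc 0, Int.ofNat 1, Int.negSucc 0, Int.ofNat 1, Int.ofNat 1, Int.negSucc 0, Int.negSucc 0, Int.ofNat 1, Int.ofNat 1, Int.ofNat 1],
  [Int.negSucc 0, Int.negSucc 0, Int.ofNat 1, Int.ofNat 3, Int.negSucc 0, Int.ofNat 1, Int.ofNat 1, Int.ofNat 1, Int.negSucc 0, Int.negSucc 0, Int.ofNat 1, Int.ofNat 1, Int.ofNat 1, Int.ofNat 1, Int.negSucc 0, Int.ofNat 1, Int.negSucc 0, Int.ofNat 1, Int.negSucc 0, Int.negSucc 0, Int.negSucc 0, Int.negSucc 0, Int.ofNat 1, Int.ofNat 1],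
  [Int.ofNat 1, Int.negSucc 0, Int.negSucc 0, Int.ofNat 1, Int.ofNat 3, Int.negSucc 0, Int.ofNat 1, Int.ofNat 1, Int.ofNat 1, Int.negSucc 0, Int.negSucc 0, Int.ofNat 1, Int.ofNat 1, Int.ofNat 1, Int.ofNat 1, Int.negSucc 0, Int.ofNat 1, Int.negSucc 0, Int.ofNat 1, Int.negSucc 0, Int.negSucc 0, Int.negSucc 0, Int.negSucc 0, Int.ofNat 1],
  [Int.negSucc 0, Int.ofNat 1, Int.ofNat 1, Int.ofNat 1, Int.ofNat 1, Int.negSucc 0, Int.ofNat 1, Int.ofNat 1, Int.negSucc 0, Int.ofNat 1, Int.ofNat 1, Int.negSucc 0, Int.negSucc 0, Int.negSucc 0, Int.ofNat 1, Int.ofNat 1, Int.negSucc 0, Int.negSucc 0, Int.negSucc 0, Int.negSucc 0, Int.ofNat 1, Int.negSucc 0, Int.negSucc 2, Int.negSucc 0],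
  [Int.ofNat 1, Int.ofNat 1, Int.negSucc 0, Int.ofNat 1, Int.ofNat 1, Int.negSucc 0, Int.ofNat 1, Int.ofNat 1, Int.negSucc 0, Int.negSucc 0, Int.negSucc 0, Int.ofNat 1, Int.ofNat 1, Int.negSucc 0, Int.negSucc 0, Int.negSucc 0, Int.negSucc 0, Int.ofNat 1, Int.negSucc 0, Int.negSucc 2, Int.negSucc 0, Int.ofNat 1, Int.ofNat 1, Int.negSucc 0],
  [Int.negSucc 0, Int.negSucc 0, Int.ofNat 1, Int.ofNat 1, Int.ofNat 1, Int.negSucc 0, Int.ofNat 1, Int.ofNat 1, Int.negSucc 0, Int.ofNat 1, Int.ofNat 1, Int.ofNat 1, Int.ofNat 1, Int.negSucc 0, Int.negSucc 0, Int.ofNat 1, Int.negSucc 0, Int.ofNat 1, Int.negSucc 0, Int.negSucc 2, Int.ofNat 1, Int.ofNat 1, Int.ofNat 1, Int.ofNat 1],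
  [Int.negSucc 0, Int.ofNat 1, Int.ofNat 1, Int.ofNat 1, Int.negSucc 0, Int.ofNat 1, Int.ofNat 1, Int.ofNat 1, Int.ofNat 1, Int.negSucc 0, Int.ofNat 1, Int.ofNat 1, Int.ofNat 1, Int.negSucc 0, Int.ofNat 1, Int.ofNat 1, Int.negSucc 0, Int.negSucc 0, Int.negSucc 0, Int.ofNat 1, Int.ofNat 1, Int.negSucc 0, Int.negSucc 2, Int.ofNat 1],
  [Int.ofNat 2, Int.ofNat 0, Int.ofNat 0, Int.ofNat 0, Int.ofNat 2, Int.ofNat 0, Int.ofNat 0, Int.ofNat 0, Int.ofNat 0, Int.negSucc 1, Int.ofNat 0, Int.ofNat 0, Int.ofNat 0, Int.ofNat 2, Int.ofNat 0, Int.ofNat 0, Int.ofNat 2, Int.negSucc 1, Int.negSucc 1, Int.ofNat 0, Int.ofNat 0, Int.negSucc 1, Int.ofNat 0, Int.ofNat 0],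
  [Int.ofNat 2, Int.ofNat 0, Int.ofNat 0, Int.ofNat 0, Int.ofNat 2, Int.ofNat 0, Int.ofNat 0, Int.ofNat 0, Int.ofNat 0, Int.ofNat 2, Int.ofNat 0, Int.ofNat 0, Int.ofNat 0, Int.ofNat 2, Int.ofNat 0, Int.ofNat 0, Int.ofNat 2, Int.negSucc 1, Int.ofNat 2, Int.ofNat 0, Int.ofNat 0, Int.negSucc 1, Int.ofNat 0, Int.ofNat 0],
  [Int.ofNat 0, Int.ofNat 2, Int.ofNat 0, Int.ofNat 0, Int.ofNat 0, Int.ofNat 0, Int.negSucc 1, Int.ofNat 0, Int.ofNat 0, Int.ofNat 0, Int.ofNat 2, Int.ofNat 0, Int.ofNat 0, Int.ofNat 2, Int.negSucc 1, Int.ofNat 2, Int.ofNat 0, Int.ofNat 0, Int.ofNat 2, Int.ofNat 0, Int.ofNat 2, Int.ofNat 0, Int.ofNat 0, Int.ofNat 0],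
  [Int.ofNat 0, Int.ofNat 0, Int.ofNat 0, Int.ofNat 2, Int.ofNat 0, Int.ofNat 0, Int.ofNat 0, Int.ofNat 2, Int.ofNat 2, Int.ofNat 0, Int.ofNat 0, Int.ofNat 0, Int.ofNat 0, Int.ofNat 0, Int.ofNat 2, Int.ofNat 0, Int.ofNat 2, Int.ofNat 0, Int.negSucc 1, Int.negSucc 1, Int.ofNat 0, Int.ofNat 0, Int.ofNat 2, Int.ofNat 0],
  [Int.ofNat 0, Int.ofNat 0, Int.ofNat 0, Int.ofNat 2, Int.ofNat 0, Int.ofNat 0, Int.ofNat 0, Int.negSucc 1, Int.ofNat 2, Int.ofNat 0, Int.ofNat 0, Int.ofNat 0, Int.ofNat 0, Int.ofNat 0, Int.ofNat 2, Int.ofNat 0, Int.ofNat 2, Int.ofNat 0, Int.ofNat 2, Int.negSucc 1, Int.ofNat 0, Int.ofNat 0, Int.ofNat 2, Int.ofNat 0],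
  [Int.ofNat 2, Int.ofNat 0, Int.ofNat 0, Int.ofNat 0, Int.ofNat 2, Int.ofNat 0, Int.ofNat 0, Int.ofNat 0, Int.negSucc 1, Int.ofNat 2, Int.ofNat 0, Int.ofNat 0, Int.ofNat 0, Int.ofNat 0, Int.ofNat 0, Int.ofNat 2, Int.ofNat 0, Int.ofNat 2, Int.ofNat 0, Int.ofNat 2, Int.negSucc 1, Int.ofNat 0, Int.ofNat 0, Int.ofNat 0],
  [Int.negSucc 0, Int.ofNat 1, Int.ofNat 1, Int.negSucc 0, Int.ofNat 1, Int.negSucc 0, Int.negSucc 0, Int.negSucc 0, Int.negSucc 0, Int.ofNat 1, Int.negSucc 0, Int.ofNat 1, Int.ofNat 1, Int.negSucc 0, Int.negSucc 0, Int.ofNat 1, Int.negSucc 0, Int.ofNat 1, Int.ofNat 1, Int.ofNat 1, Int.negSucc 2, Int.negSucc 0, Int.negSucc 0, Int.ofNat 1],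
  [Int.negSucc 0, Int.ofNat 1, Int.negSucc 0, Int.negSucc 0, Int.negSucc 0, Int.negSucc 0, Int.ofNat 1, Int.negSucc 0, Int.ofNat 1, Int.ofNat 1, Int.negSucc 0, Int.negSucc 0, Int.ofNat 1, Int.negSucc 0, Int.ofNat 1, Int.ofNat 1, Int.ofNat 1, Int.negSucc 2, Int.negSucc 0, Int.negSucc 0, Int.negSucc 0, Int.ofNat 1, Int.ofNat 1, Int.ofNat 1],
  [Int.ofNat 1, Int.negSucc 0, Int.ofNat 1, Int.ofNat 1, Int.negSucc 0, Int.ofNat 1, Int.ofNat 1, Int.negSucc 0, Int.ofNat 1, Int.ofNat 1, Int.negSucc 0, Int.negSucc 0, Int.ofNat 1, Int.negSucc 0, Int.ofNat 3, Int.ofNat 1, Int.ofNat 1, Int.negSucc 0, Int.negSucc 0, Int.negSucc 0, Int.negSucc 0, Int.ofNat 1, Int.ofNat 1, Int.negSucc 0],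
  [Int.ofNat 1, Int.ofNat 1, Int.negSucc 0, Int.ofNat 1, Int.negSucc 0, Int.negSucc 0, Int.ofNat 1, Int.negSucc 0, Int.ofNat 1, Int.negSucc 0, Int.negSucc 0, Int.negSucc 0, Int.ofNat 1, Int.ofNat 1, Int.ofNat 1, Int.ofNat 1, Int.ofNat 1, Int.ofNat 3, Int.negSucc 0, Int.negSucc 0, Int.ofNat 1, Int.ofNat 1, Int.negSucc 0, Int.negSucc 0],
  [Int.negSucc 0, Int.negSucc 0, Int.ofNat 1, Int.negSucc 0, Int.negSucc 0, Int.negSucc 2, Int.ofNat 1, Int.negSucc 0, Int.ofNat 1, Int.negSucc 0, Int.negSucc 0, Int.negSucc 0, Int.ofNat 1, Int.ofNat 1, Int.negSucc 0, Int.ofNat 1, Int.ofNat 1, Int.ofNat 1, Int.negSucc 0, Int.negSucc 0, Int.ofNat 1, Int.ofNat 1, Int.negSucc 0, Int.ofNat 1],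
  [Int.negSucc 0, Int.negSucc 0, Int.negSucc 0, Int.negSucc 0, Int.negSucc 0, Int.ofNat 3, Int.negSucc 0, Int.negSucc 0, Int.ofNat 1, Int.ofNat 1, Int.ofNat 1, Int.negSucc 0, Int.ofNat 1, Int.ofNat 1, Int.negSucc 0, Int.negSucc 0, Int.ofNat 1, Int.ofNat 1, Int.ofNat 1, Int.negSucc 0, Int.ofNat 1, Int.ofNat 1, Int.ofNat 1, Int.ofNat 1],
  [Int.ofNat 1, Int.ofNat 1, Int.ofNat 1, Int.ofNat 1, Int.negSucc 0, Int.negSucc 0, Int.ofNat 3, Int.ofNat 1, Int.ofNat 1, Int.negSucc 0, Int.ofNat 1, Int.negSucc 0, Int.negSucc 0, Int.negSucc 0, Int.negSucc 0, Int.ofNat 1, Int.negSucc 0, Int.ofNat 1, Int.ofNat 1, Int.negSucc 0, Int.negSucc 0, Int.ofNat 1, Int.negSucc 0, Int.ofNat 1],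
  [Int.ofNat 1, Int.ofNat 1, Int.negSucc 0, Int.ofNat 1, Int.negSucc 0, Int.ofNat 1, Int.negSucc 2, Int.ofNat 1, Int.ofNat 1, Int.ofNat 1, Int.negSucc 0, Int.negSucc 0, Int.negSucc 0, Int.negSucc 0, Int.negSucc 0, Int.negSucc 0, Int.negSucc 0, Int.ofNat 1, Int.negSucc 0, Int.negSucc 0, Int.negSucc 0, Int.ofNat 1, Int.ofNat 1, Int.ofNat 1],
  [Int.ofNat 0, Int.ofNat 0, Int.ofNat 2, Int.ofNat 0, Int.ofNat 0, Int.ofNat 0, Int.negSucc 1, Int.ofNat 2, Int.ofNat 2, Int.ofNat 2, Int.ofNat 0, Int.ofNat 0, Int.ofNat 0, Int.ofNat 0, Int.negSucc 1, Int.ofNat 0, Int.ofNat 0, Int.ofNat 0, Int.ofNat 0, Int.ofNat 0, Int.ofNat 0, Int.ofNat 2, Int.ofNat 2, Int.ofNat 0],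
  [Int.ofNat 0, Int.ofNat 0, Int.negSucc 1, Int.ofNat 0, Int.ofNat 2, Int.ofNat 2, Int.ofNat 0, Int.ofNat 0, Int.ofNat 0, Int.ofNat 0, Int.ofNat 2, Int.ofNat 0, Int.ofNat 2, Int.ofNat 2, Int.ofNat 0, Int.ofNat 0, Int.ofNat 0, Int.ofNat 0, Int.ofNat 0, Int.ofNat 2, Int.ofNat 0, Int.ofNat 0, Int.negSucc 1, Int.ofNat 0],
  [Int.negSucc 0, Int.negSucc 0, Int.ofNat 1, Int.negSucc 0, Int.ofNat 1, Int.ofNat 1, Int.negSucc 0, Int.negSucc 0, Int.negSucc 0, Int.negSucc 0, Int.ofNat 1, Int.negSucc 0, Int.ofNat 1, Int.ofNat 1, Int.negSucc 0, Int.negSucc 0, Int.negSucc 0, Int.negSucc 0, Int.negSucc 0, Int.ofNat 1, Int.negSucc 0, Int.negSucc 0, Int.negSucc 2, Int.negSucc 0],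
  [Int.negSucc 0, Int.negSucc 0, Int.negSucc 2, Int.negSucc 0, Int.negSucc 0, Int.ofNat 1, Int.negSucc 0, Int.ofNat 1, Int.ofNat 1, Int.negSucc 0, Int.negSucc 0, Int.negSucc 0, Int.negSucc 0, Int.ofNat 1, Int.negSucc 0, Int.ofNat 1, Int.ofNat 1, Int.negSucc 0, Int.negSucc 0, Int.negSucc 0, Int.negSucc 0, Int.negSucc 0, Int.ofNat 1, Int.negSucc 0],
  [Int.negSucc 1, Int.negSucc 1, Int.ofNat 0, Int.ofNat 0, Int.negSucc 1, Int.ofNat 2, Int.ofNat 0, Int.ofNat 2, Int.ofNat 2, Int.ofNat 0, Int.ofNat 0, Int.ofNat 0, Int.ofNat 0, Int.ofNat 0, Int.ofNat 0, Int.ofNat 2, Int.ofNat 0, Int.ofNat 0, Int.ofNat 0, Int.ofNat 0, Int.ofNat 0, Int.ofNat 0, Int.ofNat 0, Int.negSucc 1],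
  [Int.negSucc 1, Int.ofNat 0, Int.ofNat 0, Int.negSucc 1, Int.ofNat 2, Int.ofNat 0, Int.ofNat 2, Int.ofNat 2, Int.ofNat 0, Int.ofNat 0, Int.ofNat 0, Int.ofNat 0, Int.ofNat 0, Int.ofNat 0, Int.ofNat 2, Int.ofNat 0, Int.ofNat 0, Int.ofNat 0, Int.ofNat 0, Int.ofNat 0, Int.ofNat 0, Int.ofNat 0, Int.negSucc 1, Int.negSucc 1],
  [Int.ofNat 2, Int.ofNat 0, Int.ofNat 0, Int.negSucc 1, Int.ofNat 2, Int.ofNat 0, Int.ofNat 2, Int.negSucc 1, Int.ofNat 0, Int.ofNat 0, Int.ofNat 0, Int.ofNat 0, Int.ofNat 0, Int.ofNat 0, Int.ofNat 2, Int.ofNat 0, Int.ofNat 0, Int.ofNat 0, Int.ofNat 0, Int.ofNat 0, Int.ofNat 0, Int.ofNat 0, Int.negSucc 1, Int.negSucc 1],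
  [Int.negSucc 1, Int.ofNat 0, Int.ofNat 0, Int.ofNat 2, Int.negSucc 1, Int.ofNat 0, Int.negSucc 1, Int.negSucc 1, Int.ofNat 0, Int.ofNat 0, Int.ofNat 0, Int.ofNat 0, Int.ofNat 0, Int.ofNat 0, Int.ofNat 2, Int.ofNat 0, Int.ofNat 0, Int.ofNat 0, Int.ofNat 0, Int.ofNat 0, Int.ofNat 0, Int.ofNat 0, Int.negSucc 1, Int.negSucc 1],
  [Int.negSucc 1, Int.ofNat 0, Int.ofNat 0, Int.ofNat 2, Int.ofNat 0, Int.ofNat 0, Int.negSucc 1, Int.ofNat 0, Int.ofNat 0, Int.ofNat 0, Int.ofNat 0, Int.ofNat 2, Int.ofNat 0, Int.ofNat 0, Int.ofNat 0, Int.ofNat 0, Int.ofNat 0, Int.negSucc 1, Int.negSucc 1, Int.ofNat 0, Int.ofNat 0, Int.negSucc 1, Int.ofNat 0, Int.negSucc 1],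
  [Int.ofNat 2, Int.ofNat 0, Int.ofNat 0, Int.ofNat 2, Int.ofNat 0, Int.ofNat 0, Int.negSucc 1, Int.ofNat 0, Int.ofNat 0, Int.ofNat 0, Int.ofNat 0, Int.negSucc 1, Int.ofNat 0, Int.ofNat 0, Int.ofNat 0, Int.ofNat 0, Int.ofNat 0, Int.negSucc 1, Int.ofNat 2, Int.ofNat 0, Int.ofNat 0, Int.ofNat 2, Int.ofNat 0, Int.negSucc 1],
  [Int.ofNat 0, Int.ofNat 2, Int.ofNat 0, Int.ofNat 0, Int.ofNat 2, Int.ofNat 0, Int.ofNat 0, Int.negSucc 1, Int.ofNat 0, Int.ofNat 0, Int.ofNat 0, Int.ofNat 0, Int.negSucc 1, Int.ofNat 0, Int.ofNat 0, Int.ofNat 0, Int.ofNat 0, Int.ofNat 0, Int.negSucc 1, Int.ofNat 2, Int.ofNat 0, Int.ofNat 0, Int.ofNat 2, Int.negSucc 1],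
  [Int.ofNat 0, Int.negSucc 1, Int.ofNat 0, Int.ofNat 0, Int.ofNat 0, Int.ofNat 0, Int.ofNat 0, Int.negSucc 1, Int.ofNat 2, Int.ofNat 0, Int.ofNat 0, Int.ofNat 2, Int.ofNat 0, Int.negSucc 1, Int.ofNat 0, Int.ofNat 0, Int.negSucc 1, Int.ofNat 0, Int.ofNat 0, Int.ofNat 2, Int.ofNat 0, Int.ofNat 0, Int.ofNat 0, Int.ofNat 2],
  [Int.ofNat 0, Int.ofNat 0, Int.ofNat 0, Int.ofNat 0, Int.negSucc 1, Int.ofNat 2, Int.ofNat 0, Int.ofNat 0, Int.ofNat 2, Int.ofNat 0, Int.negSucc 1, Int.ofNat 0, Int.ofNat 0, Int.negSucc 1, Int.ofNat 0, Int.ofNat 0, Int.ofNat 2, Int.ofNat 0, Int.ofNat 0, Int.ofNat 0, Int.ofNat 0, Int.negSucc 1, Int.ofNat 0, Int.ofNat 2],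
  [Int.ofNat 1, Int.ofNat 1, Int.ofNat 1, Int.negSucc 0, Int.negSucc 0, Int.ofNat 1, Int.ofNat 1, Int.ofNat 1, Int.ofNat 1, Int.ofNat 1, Int.negSucc 0, Int.negSucc 0, Int.negSucc 0, Int.negSucc 0, Int.negSucc 0, Int.ofNat 1, Int.ofNat 3, Int.negSucc 0, Int.negSucc 0, Int.ofNat 1, Int.ofNat 1, Int.negSucc 0, Int.ofNat 1, Int.negSucc 0],
  [Int.ofNat 1, Int.ofNat 1, Int.negSucc 0, Int.negSucc 0, Int.negSucc 0, Int.ofNat 1, Int.ofNat 1, Int.negSucc 0, Int.negSucc 0, Int.negSucc 0, Int.ofNat 1, Int.negSucc 0, Int.ofNat 1, Int.ofNat 3, Int.ofNat 1, Int.ofNat 1, Int.ofNat 1, Int.negSucc 0, Int.ofNat 1, Int.negSucc 0, Int.negSucc 0, Int.ofNat 1, Int.ofNat 1, Int.negSucc 0],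
  [Int.negSucc 0, Int.negSucc 0, Int.ofNat 1, Int.negSucc 0, Int.negSucc 2, Int.ofNat 1, Int.ofNat 1, Int.negSucc 0, Int.negSucc 0, Int.negSucc 0, Int.ofNat 1, Int.negSucc 0, Int.ofNat 1, Int.ofNat 1, Int.ofNat 1, Int.ofNat 1, Int.negSucc 0, Int.negSucc 0, Int.ofNat 1, Int.negSucc 0, Int.negSucc 0, Int.ofNat 1, Int.negSucc 0, Int.ofNat 1],
  [Int.negSucc 0, Int.negSucc 0, Int.negSucc 0, Int.negSucc 0, Int.negSucc 2, Int.negSucc 0, Int.negSucc 0, Int.negSucc 0, Int.negSucc 0, Int.ofNat 1, Int.negSucc 0, Int.negSucc 0, Int.ofNat 1, Int.ofNat 1, Int.ofNat 1, Int.negSucc 0, Int.negSucc 0, Int.negSucc 0, Int.negSucc 0, Int.negSucc 0, Int.negSucc 0, Int.ofNat 1, Int.ofNat 1, Int.ofNat 1],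
  [Int.negSucc 0, Int.negSucc 0, Int.negSucc 0, Int.negSucc 0, Int.ofNat 1, Int.negSucc 0, Int.ofNat 1, Int.negSucc 0, Int.negSucc 0, Int.negSucc 0, Int.ofNat 1, Int.negSucc 0, Int.negSucc 0, Int.negSucc 2, Int.negSucc 0, Int.negSucc 0, Int.negSucc 0, Int.ofNat 1, Int.ofNat 1, Int.negSucc 0, Int.negSucc 0, Int.negSucc 0, Int.ofNat 1, Int.ofNat 1],
  [Int.ofNat 1, Int.ofNat 1, Int.negSucc 0, Int.negSucc 0, Int.ofNat 1, Int.negSucc 0, Int.negSucc 0, Int.negSucc 2, Int.negSucc 0, Int.negSucc 0, Int.negSucc 0, Int.negSucc 0, Int.negSucc 0, Int.negSucc 0, Int.ofNat 1, Int.negSucc 0, Int.ofNat 1, Int.ofNat 1, Int.negSucc 0, Int.ofNat 1, Int.negSucc 0, Int.negSucc 0, Int.negSucc 0, Int.negSucc 0],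
  [Int.negSucc 0, Int.ofNat 1, Int.ofNat 1, Int.negSucc 0, Int.ofNat 1, Int.negSucc 0, Int.negSucc 0, Int.ofNat 3, Int.negSucc 0, Int.ofNat 1, Int.ofNat 1, Int.ofNat 1, Int.negSucc 0, Int.negSucc 0, Int.ofNat 1, Int.negSucc 0, Int.ofNat 1, Int.ofNat 1, Int.ofNat 1, Int.ofNat 1, Int.negSucc 0, Int.ofNat 1, Int.negSucc 0, Int.negSucc 0],
  [Int.negSucc 0, Int.negSucc 0, Int.ofNat 1, Int.ofNat 1, Int.negSucc 0, Int.ofNat 1, Int.negSucc 0, Int.negSucc 0, Int.ofNat 3, Int.negSucc 0, Int.ofNat 1, Int.ofNat 1, Int.ofNat 1, Int.negSucc 0, Int.negSucc 0, Int.ofNat 1, Int.negSucc 0, Int.ofNat 1, Int.ofNat 1, Int.ofNat 1, Int.ofNat 1, Int.negSucc 0, Int.ofNat 1, Int.negSucc 0],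
  [Int.ofNat 0, Int.ofNat 0, Int.negSucc 1, Int.ofNat 0, Int.ofNat 0, Int.ofNat 0, Int.ofNat 0, Int.ofNat 0, Int.ofNat 0, Int.negSucc 1, Int.ofNat 0, Int.negSucc 1, Int.negSucc 1, Int.ofNat 0, Int.negSucc 1, Int.ofNat 0, Int.ofNat 0, Int.ofNat 0, Int.negSucc 1, Int.ofNat 2, Int.ofNat 0, Int.ofNat 0, Int.ofNat 2, Int.ofNat 0],
  [Int.ofNat 0, Int.ofNat 0, Int.ofNat 0, Int.ofNat 0, Int.ofNat 0, Int.ofNat 0, Int.negSucc 1, Int.ofNat 0, Int.negSucc 1, Int.negSucc 1, Int.ofNat 0, Int.negSucc 1, Int.ofNat 0, Int.ofNat 0, Int.ofNat 0, Int.negSucc 1, Int.ofNat 2, Int.ofNat 0, Int.ofNat 0, Int.ofNat 2, Int.ofNat 0, Int.ofNat 0, Int.negSucc 1, Int.ofNat 0],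
  [Int.ofNat 0, Int.ofNat 0, Int.ofNat 0, Int.ofNat 0, Int.ofNat 0, Int.ofNat 0, Int.negSucc 1, Int.ofNat 0, Int.ofNat 0, Int.ofNat 0, Int.ofNat 2, Int.ofNat 0, Int.ofNat 2, Int.ofNat 0, Int.ofNat 0, Int.ofNat 0, Int.ofNat 2, Int.ofNat 0, Int.ofNat 2, Int.ofNat 2, Int.ofNat 2, Int.ofNat 0, Int.negSucc 1, Int.ofNat 0],
  [Int.ofNat 0, Int.negSucc 1, Int.ofNat 0, Int.ofNat 0, Int.ofNat 2, Int.ofNat 0, Int.ofNat 0, Int.ofNat 2, Int.ofNat 2, Int.ofNat 0, Int.ofNat 2, Int.ofNat 0, Int.ofNat 0, Int.ofNat 2, Int.negSucc 1, Int.ofNat 0, Int.ofNat 0, Int.ofNat 0, Int.ofNat 0, Int.ofNat 0, Int.ofNat 0, Int.ofNat 0, Int.ofNat 2, Int.ofNat 0],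
  [Int.negSucc 0, Int.ofNat 1, Int.negSucc 0, Int.ofNat 1, Int.negSucc 0, Int.ofNat 1, Int.negSucc 0, Int.ofNat 1, Int.ofNat 1, Int.negSucc 0, Int.ofNat 1, Int.negSucc 0, Int.negSucc 0, Int.negSucc 0, Int.negSucc 0, Int.negSucc 0, Int.negSucc 2, Int.ofNat 1, Int.negSucc 0, Int.negSucc 0, Int.negSucc 0, Int.negSucc 0, Int.negSucc 0, Int.negSucc 0],
  [Int.negSucc 0, Int.ofNat 1, Int.ofNat 1, Int.ofNat 1, Int.negSucc 0, Int.negSucc 0, Int.ofNat 1, Int.ofNat 1, Int.ofNat 1, Int.ofNat 1, Int.negSucc 0, Int.negSucc 0, Int.negSucc 0, Int.negSucc 0, Int.negSucc 0, Int.ofNat 1, Int.negSucc 2, Int.ofNat 1, Int.ofNat 1, Int.negSucc 0, Int.negSucc 0, Int.negSucc 0, Int.ofNat 1, Int.negSucc 0],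
  [Int.negSucc 0, Int.negSucc 2, Int.ofNat 1, Int.negSucc 0, Int.negSucc 0, Int.ofNat 1, Int.negSucc 0, Int.ofNat 1, Int.negSucc 0, Int.ofNat 1, Int.ofNat 1, Int.ofNat 1, Int.negSucc 0, Int.negSucc 0, Int.ofNat 1, Int.ofNat 1, Int.negSucc 0, Int.negSucc 0, Int.ofNat 1, Int.ofNat 1, Int.ofNat 1, Int.negSucc 0, Int.negSucc 0, Int.negSucc 0],
  [Int.negSucc 0, Int.negSucc 2, Int.negSucc 0, Int.negSucc 0, Int.negSucc 0, Int.negSucc 0, Int.ofNat 1, Int.ofNat 1, Int.negSucc 0, Int.negSucc 0, Int.negSucc 0, Int.ofNat 1, Int.negSucc 0, Int.negSucc 0, Int.ofNat 1, Int.negSucc 0, Int.negSucc 0, Int.negSucc 0, Int.negSucc 0, Int.ofNat 1, Int.ofNat 1, Int.negSucc 0, Int.ofNat 1, Int.negSucc 0],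
  [Int.negSucc 1, Int.ofNat 0, Int.negSucc 1, Int.ofNat 0, Int.ofNat 0, Int.ofNat 0, Int.ofNat 0, Int.ofNat 0, Int.ofNat 0, Int.ofNat 0, Int.ofNat 0, Int.ofNat 2, Int.ofNat 0, Int.ofNat 0, Int.ofNat 2, Int.ofNat 0, Int.ofNat 0, Int.ofNat 0, Int.ofNat 0, Int.ofNat 0, Int.ofNat 2, Int.negSucc 1, Int.ofNat 2, Int.negSucc 1],
  [Int.negSucc 1, Int.ofNat 0, Int.ofNat 0, Int.ofNat 0, Int.negSucc 1, Int.negSucc 1, Int.ofNat 0, Int.ofNat 0, Int.ofNat 0, Int.ofNat 0, Int.ofNat 0, Int.ofNat 0, Int.ofNat 0, Int.ofNat 0, Int.ofNat 0, Int.ofNat 0, Int.ofNat 0, Int.ofNat 2, Int.ofNat 0, Int.ofNat 2, Int.ofNat 0, Int.ofNat 2, Int.ofNat 2, Int.negSucc 1],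
  [Int.ofNat 0, Int.negSucc 1, Int.negSucc 1, Int.ofNat 0, Int.negSucc 1, Int.negSucc 1, Int.negSucc 1, Int.negSucc 1, Int.ofNat 0, Int.ofNat 0, Int.ofNat 0, Int.ofNat 0, Int.ofNat 0, Int.ofNat 0, Int.ofNat 0, Int.ofNat 0, Int.ofNat 0, Int.ofNat 2, Int.ofNat 0, Int.ofNat 0, Int.ofNat 0, Int.ofNat 0, Int.ofNat 2, Int.ofNat 0],
  [Int.ofNat 0, Int.ofNat 0, Int.ofNat 2, Int.ofNat 0, Int.negSucc 1, Int.negSucc 1, Int.ofNat 0, Int.negSucc 1, Int.negSucc 1, Int.negSucc 1, Int.negSucc 1, Int.ofNat 0, Int.ofNat 0, Int.ofNat 0, Int.ofNat 0, Int.ofNat 0, Int.ofNat 0, Int.ofNat 0, Int.ofNat 0, Int.ofNat 0, Int.ofNat 2, Int.ofNat 0, Int.ofNat 0, Int.ofNat 0],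
  [Int.ofNat 1, Int.ofNat 1, Int.negSucc 0, Int.ofNat 1, Int.negSucc 0, Int.negSucc 0, Int.ofNat 1, Int.negSucc 0, Int.negSucc 0, Int.negSucc 0, Int.negSucc 0, Int.ofNat 1, Int.ofNat 1, Int.ofNat 1, Int.ofNat 1, Int.ofNat 1, Int.ofNat 1, Int.ofNat 1, Int.ofNat 1, Int.ofNat 1, Int.ofNat 3, Int.ofNat 1, Int.ofNat 1, Int.ofNat 1],
  [Int.ofNat 1, Int.negSucc 0, Int.ofNat 1, Int.negSucc 0, Int.negSucc 0, Int.ofNat 1, Int.negSucc 0, Int.negSucc 0, Int.negSucc 0, Int.negSucc 0, Int.ofNat 1, Int.ofNat 1, Int.ofNat 1, Int.ofNat 1, Int.ofNat 1, Int.ofNat 1, Int.ofNat 1, Int.ofNat 1, Int.ofNat 1, Int.ofNat 3, Int.ofNat 1, Int.ofNat 1, Int.ofNat 1, Int.ofNat 1],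
  [Int.negSucc 0, Int.negSucc 0, Int.negSucc 0, Int.negSucc 0, Int.negSucc 0, Int.ofNat 1, Int.negSucc 0, Int.ofNat 1, Int.negSucc 0, Int.ofNat 1, Int.negSucc 0, Int.negSucc 0, Int.ofNat 1, Int.ofNat 1, Int.ofNat 1, Int.ofNat 1, Int.ofNat 1, Int.ofNat 1, Int.negSucc 0, Int.ofNat 3, Int.ofNat 1, Int.negSucc 0, Int.ofNat 1, Int.ofNat 1],
  [Int.ofNat 1, Int.ofNat 1, Int.ofNat 1, Int.ofNat 1, Int.ofNat 1, Int.ofNat 1, Int.ofNat 1, Int.ofNat 1, Int.ofNat 1, Int.negSucc 0, Int.negSucc 0, Int.negSucc 0, Int.negSucc 0, Int.negSucc 0, Int.ofNat 1, Int.ofNat 1, Int.negSucc 0, Int.ofNat 1, Int.ofNat 1, Int.ofNat 3, Int.ofNat 1, Int.negSucc 0, Int.ofNat 1, Int.ofNat 1],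
  [Int.ofNat 1, Int.ofNat 1, Int.ofNat 1, Int.ofNat 1, Int.ofNat 1, Int.negSucc 0, Int.ofNat 1, Int.ofNat 1, Int.negSucc 0, Int.negSucc 0, Int.negSucc 0, Int.ofNat 1, Int.negSucc 0, Int.ofNat 1, Int.ofNat 3, Int.ofNat 1, Int.negSucc 0, Int.ofNat 1, Int.ofNat 1, Int.ofNat 1, Int.ofNat 1, Int.ofNat 1, Int.negSucc 0, Int.ofNat 1],
  [Int.negSucc 0, Int.ofNat 1, Int.negSucc 0, Int.ofNat 1, Int.ofNat 1, Int.negSucc 0, Int.ofNat 1, Int.negSucc 0, Int.negSucc 0, Int.ofNat 1, Int.ofNat 1, Int.negSucc 0, Int.negSucc 0, Int.ofNat 1, Int.ofNat 3, Int.ofNat 1, Int.negSucc 0, Int.ofNat 1, Int.negSucc 0, Int.ofNat 1, Int.ofNat 1, Int.negSucc 0, Int.negSucc 0, Int.ofNat 1],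
  [Int.negSucc 0, Int.negSucc 0, Int.ofNat 1, Int.negSucc 0, Int.ofNat 1, Int.ofNat 1, Int.negSucc 0, Int.ofNat 1, Int.negSucc 0, Int.negSucc 0, Int.ofNat 1, Int.ofNat 1, Int.negSucc 0, Int.negSucc 0, Int.ofNat 1, Int.ofNat 3, Int.ofNat 1, Int.negSucc 0, Int.ofNat 1, Int.negSucc 0, Int.ofNat 1, Int.ofNat 1, Int.negSucc 0, Int.ofNat 1],
  [Int.ofNat 1, Int.ofNat 1, Int.negSucc 0, Int.negSucc 0, Int.ofNat 1, Int.ofNat 1, Int.negSucc 0, Int.ofNat 1, Int.negSucc 0, Int.negSucc 2, Int.negSucc 0, Int.ofNat 1, Int.negSucc 0, Int.negSucc 0, Int.ofNat 1, Int.ofNat 1, Int.ofNat 1, Int.negSucc 0, Int.ofNat 1, Int.negSucc 0, Int.negSucc 0, Int.ofNat 1, Int.negSucc 0, Int.negSucc 0],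
  [Int.negSucc 0, Int.ofNat 1, Int.ofNat 1, Int.negSucc 0, Int.ofNat 1, Int.negSucc 0, Int.negSucc 2, Int.negSucc 0, Int.ofNat 1, Int.negSucc 0, Int.negSucc 0, Int.ofNat 1, Int.ofNat 1, Int.ofNat 1, Int.negSucc 0, Int.ofNat 1, Int.negSucc 0, Int.negSucc 0, Int.ofNat 1, Int.negSucc 0, Int.ofNat 1, Int.ofNat 1, Int.negSucc 0, Int.negSucc 0],
  [Int.ofNat 1, Int.negSucc 0, Int.negSucc 0, Int.ofNat 1, Int.ofNat 1, Int.ofNat 1, Int.negSucc 0, Int.ofNat 1, Int.negSucc 0, Int.negSucc 0, Int.negSucc 0, Int.negSucc 0, Int.negSucc 0, Int.ofNat 1, Int.ofNat 1, Int.ofNat 1, Int.negSucc 0, Int.ofNat 1, Int.negSucc 0, Int.ofNat 1, Int.ofNat 1, Int.ofNat 3, Int.negSucc 0, Int.ofNat 1],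
  [Int.ofNat 1, Int.negSucc 0, Int.ofNat 1, Int.ofNat 1, Int.negSucc 0, Int.ofNat 1, Int.negSucc 0, Int.negSucc 0, Int.negSucc 0, Int.ofNat 1, Int.ofNat 1, Int.ofNat 1, Int.negSucc 0, Int.negSucc 0, Int.negSucc 0, Int.ofNat 1, Int.negSucc 0, Int.ofNat 1, Int.negSucc 0, Int.negSucc 0, Int.ofNat 3, Int.ofNat 1, Int.ofNat 1, Int.ofNat 1],
  [Int.ofNat 0, Int.ofNat 2, Int.ofNat 0, Int.ofNat 0, Int.ofNat 0, Int.ofNat 0, Int.ofNat 0, Int.ofNat 0, Int.ofNat 0, Int.negSucc 1, Int.negSucc 1, Int.ofNat 2, Int.ofNat 0, Int.ofNat 0, Int.negSucc 1, Int.negSucc 1, Int.ofNat 0, Int.ofNat 0, Int.ofNat 0, Int.ofNat 0, Int.ofNat 0, Int.ofNat 2, Int.ofNat 2, Int.ofNat 0],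
  [Int.ofNat 0, Int.ofNat 2, Int.ofNat 0, Int.ofNat 0, Int.ofNat 0, Int.ofNat 0, Int.ofNat 0, Int.ofNat 0, Int.ofNat 0, Int.ofNat 2, Int.ofNat 2, Int.ofNat 2, Int.ofNat 0, Int.ofNat 0, Int.negSucc 1, Int.ofNat 2, Int.ofNat 0, Int.ofNat 0, Int.ofNat 0, Int.ofNat 0, Int.ofNat 0, Int.ofNat 2, Int.negSucc 1, Int.ofNat 0],
  [Int.ofNat 2, Int.ofNat 0, Int.ofNat 2, Int.ofNat 0, Int.negSucc 1, Int.ofNat 0, Int.ofNat 2, Int.ofNat 0, Int.ofNat 0, Int.ofNat 0, Int.ofNat 0, Int.ofNat 0, Int.ofNat 2, Int.ofNat 0, Int.ofNat 0, Int.ofNat 0, Int.ofNat 0, Int.ofNat 0, Int.ofNat 2, Int.ofNat 0, Int.ofNat 0, Int.ofNat 2, Int.negSucc 1, Int.ofNat 0],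
  [Int.ofNat 0, Int.negSucc 1, Int.ofNat 0, Int.ofNat 0, Int.ofNat 0, Int.ofNat 0, Int.ofNat 0, Int.ofNat 0, Int.ofNat 0, Int.ofNat 0, Int.ofNat 0, Int.ofNat 2, Int.ofNat 2, Int.ofNat 0, Int.ofNat 2, Int.ofNat 0, Int.ofNat 0, Int.negSucc 1, Int.ofNat 0, Int.ofNat 2, Int.ofNat 0, Int.ofNat 2, Int.ofNat 0, Int.ofNat 2],
  [Int.ofNat 0, Int.negSucc 1, Int.ofNat 0, Int.ofNat 0, Int.ofNat 0, Int.ofNat 0, Int.ofNat 0, Int.ofNat 0, Int.ofNat 0, Int.ofNat 0, Int.ofNat 0, Int.negSucc 1, Int.ofNat 2, Int.ofNat 0, Int.ofNat 2, Int.ofNat 0, Int.ofNat 0, Int.negSucc 1, Int.ofNat 0, Int.ofNat 2, Int.ofNat 0, Int.negSucc 1, Int.ofNat 0, Int.ofNat 2],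
  [Int.ofNat 0, Int.ofNat 0, Int.negSucc 1, Int.ofNat 0, Int.ofNat 0, Int.ofNat 0, Int.ofNat 0, Int.ofNat 0, Int.ofNat 0, Int.ofNat 0, Int.ofNat 0, Int.ofNat 0, Int.negSucc 1, Int.ofNat 2, Int.ofNat 0, Int.ofNat 2, Int.ofNat 0, Int.ofNat 0, Int.negSucc 1, Int.ofNat 0, Int.ofNat 2, Int.ofNat 0, Int.negSucc 1, Int.ofNat 2],
  [Int.ofNat 0, Int.ofNat 0, Int.ofNat 2, Int.ofNat 0, Int.ofNat 0, Int.ofNat 0, Int.ofNat 0, Int.ofNat 0, Int.ofNat 2, Int.negSucc 1, Int.negSucc 1, Int.ofNat 2, Int.ofNat 0, Int.ofNat 2, Int.ofNat 0, Int.ofNat 0, Int.ofNat 0, Int.ofNat 0, Int.ofNat 0, Int.ofNat 0, Int.ofNat 0, Int.ofNat 0, Int.negSucc 1, Int.negSucc 1],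
  [Int.ofNat 0, Int.ofNat 0, Int.ofNat 0, Int.ofNat 0, Int.ofNat 0, Int.ofNat 2, Int.negSucc 1, Int.negSucc 1, Int.ofNat 2, Int.ofNat 0, Int.ofNat 2, Int.ofNat 0, Int.ofNat 0, Int.ofNat 0, Int.ofNat 0, Int.ofNat 0, Int.ofNat 0, Int.ofNat 0, Int.ofNat 0, Int.negSucc 1, Int.ofNat 0, Int.ofNat 0, Int.ofNat 2, Int.negSucc 1],
  [Int.negSucc 0, Int.negSucc 0, Int.negSucc 0, Int.negSucc 0, Int.negSucc 0, Int.ofNat 1, Int.ofNat 1, Int.ofNat 1, Int.ofNat 1, Int.negSucc 0, Int.ofNat 1, Int.negSucc 0, Int.negSucc 0, Int.negSucc 0, Int.negSucc 0, Int.negSucc 0, Int.negSucc 0, Int.negSucc 0, Int.negSucc 0, Int.ofNat 1, Int.negSucc 0, Int.ofNat 3, Int.ofNat 1, Int.ofNat 1],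
  [Int.negSucc 0, Int.ofNat 1, Int.negSucc 0, Int.negSucc 0, Int.negSucc 0, Int.ofNat 1, Int.negSucc 0, Int.ofNat 1, Int.negSucc 0, Int.negSucc 0, Int.negSucc 0, Int.negSucc 0, Int.negSucc 0, Int.negSucc 0, Int.ofNat 1, Int.negSucc 0, Int.ofNat 1, Int.negSucc 0, Int.negSucc 0, Int.negSucc 0, Int.ofNat 3, Int.ofNat 1, Int.ofNat 1, Int.ofNat 1],
  [Int.ofNat 1, Int.negSucc 0, Int.ofNat 1, Int.negSucc 0, Int.negSucc 0, Int.ofNat 1, Int.negSucc 0, Int.ofNat 1, Int.ofNat 1, Int.negSucc 0, Int.negSucc 0, Int.ofNat 1, Int.ofNat 1, Int.negSucc 0, Int.ofNat 1, Int.negSucc 0, Int.ofNat 1, Int.negSucc 0, Int.ofNat 1, Int.negSucc 0, Int.ofNat 3, Int.ofNat 1, Int.ofNat 1, Int.negSucc 0],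
  [Int.ofNat 1, Int.negSucc 0, Int.negSucc 0, Int.negSucc 0, Int.negSucc 0, Int.negSucc 0, Int.ofNat 1, Int.ofNat 1, Int.ofNat 1, Int.ofNat 1, Int.ofNat 1, Int.ofNat 1, Int.ofNat 1, Int.negSucc 0, Int.ofNat 1, Int.ofNat 1, Int.ofNat 1, Int.negSucc 0, Int.negSucc 0, Int.negSucc 0, Int.ofNat 3, Int.ofNat 1, Int.negSucc 0, Int.negSucc 0],
  [Int.ofNat 1, Int.ofNat 1, Int.negSucc 0, Int.negSucc 0, Int.negSucc 0, Int.ofNat 1, Int.negSucc 0, Int.negSucc 0, Int.ofNat 1, Int.negSucc 0, Int.ofNat 1, Int.ofNat 1, Int.ofNat 1, Int.negSucc 0, Int.negSucc 0, Int.negSucc 0, Int.ofNat 1, Int.ofNat 1, Int.ofNat 1, Int.negSucc 0, Int.ofNat 1, Int.ofNat 3, Int.ofNat 1, Int.negSucc 0],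
  [Int.ofNat 1, Int.ofNat 1, Int.ofNat 1, Int.negSucc 0, Int.negSucc 0, Int.negSucc 0, Int.ofNat 1, Int.negSucc 0, Int.ofNat 1, Int.ofNat 1, Int.negSucc 0, Int.ofNat 1, Int.ofNat 1, Int.negSucc 0, Int.negSucc 0, Int.ofNat 1, Int.ofNat 1, Int.ofNat 1, Int.negSucc 0, Int.negSucc 0, Int.ofNat 1, Int.ofNat 3, Int.negSucc 0, Int.negSucc 0],
  [Int.ofNat 0, Int.ofNat 0, Int.ofNat 0, Int.ofNat 0, Int.ofNat 0, Int.ofNat 0, Int.ofNat 0, Int.negSucc 1, Int.ofNat 0, Int.ofNat 0, Int.negSucc 1, Int.ofNat 0, Int.ofNat 0, Int.ofNat 0, Int.ofNat 0, Int.ofNat 0, Int.ofNat 2, Int.ofNat 2, Int.negSucc 1, Int.negSucc 1, Int.ofNat 0, Int.ofNat 2, Int.ofNat 0, Int.ofNat 2],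
  [Int.ofNat 0, Int.negSucc 1, Int.ofNat 0, Int.ofNat 0, Int.ofNat 0, Int.ofNat 2, Int.ofNat 0, Int.ofNat 0, Int.ofNat 2, Int.ofNat 0, Int.negSucc 1, Int.negSucc 1, Int.ofNat 0, Int.ofNat 0, Int.ofNat 2, Int.ofNat 0, Int.ofNat 0, Int.ofNat 0, Int.ofNat 0, Int.ofNat 0, Int.negSucc 1, Int.ofNat 0, Int.ofNat 0, Int.ofNat 2],
  [Int.ofNat 0, Int.ofNat 2, Int.ofNat 0, Int.negSucc 1, Int.ofNat 0, Int.ofNat 0, Int.ofNat 0, Int.ofNat 0, Int.ofNat 2, Int.ofNat 2, Int.ofNat 0, Int.negSucc 1, Int.ofNat 0, Int.ofNat 0, Int.ofNat 0, Int.ofNat 2, Int.ofNat 0, Int.negSucc 1, Int.ofNat 0, Int.ofNat 0, Int.ofNat 0, Int.ofNat 0, Int.ofNat 0, Int.negSucc 1],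
  [Int.ofNat 0, Int.ofNat 0, Int.ofNat 0, Int.ofNat 0, Int.ofNat 2, Int.ofNat 0, Int.negSucc 1, Int.ofNat 0, Int.ofNat 0, Int.ofNat 0, Int.ofNat 0, Int.ofNat 2, Int.ofNat 2, Int.ofNat 0, Int.negSucc 1, Int.ofNat 0, Int.ofNat 0, Int.ofNat 0, Int.ofNat 2, Int.ofNat 0, Int.negSucc 1, Int.ofNat 0, Int.ofNat 0, Int.negSucc 1],
  [Int.negSucc 0, Int.negSucc 0, Int.negSucc 0, Int.ofNat 1, Int.ofNat 1, Int.ofNat 1, Int.negSucc 0, Int.ofNat 1, Int.negSucc 2, Int.ofNat 1, Int.ofNat 1, Int.negSucc 0, Int.negSucc 0, Int.negSucc 0, Int.negSucc 0, Int.ofNat 1, Int.negSucc 0, Int.ofNat 1, Int.negSucc 0, Int.ofNat 1, Int.negSucc 0, Int.ofNat 1, Int.negSucc 0, Int.ofNat 1],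
  [Int.negSucc 0, Int.negSucc 0, Int.ofNat 1, Int.ofNat 1, Int.ofNat 1, Int.negSucc 0, Int.ofNat 1, Int.negSucc 2, Int.ofNat 1, Int.ofNat 1, Int.negSucc 0, Int.negSucc 0, Int.negSucc 0, Int.negSucc 0, Int.ofNat 1, Int.negSucc 0, Int.ofNat 1, Int.negSucc 0, Int.ofNat 1, Int.negSucc 0, Int.ofNat 1, Int.negSucc 0, Int.negSucc 0, Int.ofNat 1],
  [Int.ofNat 1, Int.negSucc 0, Int.negSucc 0, Int.ofNat 1, Int.ofNat 1, Int.negSucc 0, Int.ofNat 1, Int.ofNat 3, Int.ofNat 1, Int.negSucc 0, Int.ofNat 1, Int.ofNat 1, Int.negSucc 0, Int.negSucc 0, Int.ofNat 1, Int.negSucc 0, Int.ofNat 1, Int.negSucc 0, Int.negSucc 0, Int.negSucc 0, Int.ofNat 1, Int.ofNat 1, Int.negSucc 0, Int.ofNat 1],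
  [Int.negSucc 0, Int.ofNat 1, Int.ofNat 1, Int.negSucc 0, Int.negSucc 0, Int.negSucc 0, Int.negSucc 0, Int.ofNat 3, Int.negSucc 0, Int.ofNat 1, Int.ofNat 1, Int.ofNat 1, Int.ofNat 1, Int.ofNat 1, Int.ofNat 1, Int.negSucc 0, Int.negSucc 0, Int.negSucc 0, Int.ofNat 1, Int.negSucc 0, Int.ofNat 1, Int.ofNat 1, Int.negSucc 0, Int.ofNat 1],
  [Int.negSucc 0, Int.ofNat 1, Int.ofNat 1, Int.negSucc 0, Int.ofNat 1, Int.ofNat 1, Int.negSucc 0, Int.ofNat 1, Int.ofNat 1, Int.negSucc 0, Int.ofNat 1, Int.ofNat 1, Int.ofNat 1, Int.negSucc 0, Int.negSucc 0, Int.negSucc 0, Int.ofNat 1, Int.negSucc 0, Int.negSucc 0, Int.negSucc 0, Int.negSucc 0, Int.ofNat 3, Int.ofNat 1, Int.ofNat 1],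
  [Int.ofNat 1, Int.ofNat 1, Int.negSucc 0, Int.negSucc 0, Int.ofNat 1, Int.ofNat 1, Int.negSucc 0, Int.negSucc 0, Int.ofNat 1, Int.ofNat 1, Int.negSucc 0, Int.negSucc 0, Int.ofNat 1, Int.negSucc 0, Int.negSucc 0, Int.negSucc 0, Int.ofNat 1, Int.negSucc 0, Int.ofNat 1, Int.negSucc 0, Int.negSucc 0, Int.negSucc 2, Int.ofNat 1, Int.ofNat 1],
  [Int.ofNat 1, Int.ofNat 1, Int.ofNat 1, Int.negSucc 0, Int.negSucc 0, Int.ofNat 1, Int.ofNat 1, Int.negSucc 0, Int.negSucc 0, Int.ofNat 1, Int.ofNat 1, Int.negSucc 0, Int.negSucc 0, Int.ofNat 1, Int.negSucc 0, Int.negSucc 0, Int.negSucc 0, Int.ofNat 1, Int.negSucc 0, Int.ofNat 1, Int.negSucc 0, Int.negSucc 0, Int.negSucc 2, Int.ofNat 1],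
  [Int.ofNat 1, Int.ofNat 1, Int.ofNat 1, Int.negSucc 0, Int.ofNat 1, Int.ofNat 1, Int.ofNat 1, Int.negSucc 0, Int.ofNat 1, Int.ofNat 1, Int.ofNat 1, Int.ofNat 1, Int.ofNat 1, Int.ofNat 3, Int.negSucc 0, Int.negSucc 0, Int.ofNat 1, Int.ofNat 1, Int.ofNat 1, Int.ofNat 1, Int.negSucc 0, Int.negSucc 0, Int.negSucc 0, Int.ofNat 1],
  [Int.negSucc 0, Int.ofNat 1, Int.ofNat 1, Int.ofNat 1, Int.negSucc 0, Int.ofNat 1, Int.ofNat 1, Int.ofNat 1, Int.ofNat 1, Int.ofNat 1, Int.ofNat 3, Int.negSucc 0, Int.negSucc 0, Int.ofNat 1, Int.ofNat 1, Int.ofNat 1, Int.ofNat 1, Int.negSucc 0, Int.negSucc 0, Int.negSucc 0, Int.ofNat 1, Int.ofNat 1, Int.ofNat 1, Int.ofNat 1],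
  [Int.ofNat 2, Int.ofNat 0, Int.ofNat 0, Int.ofNat 0, Int.negSucc 1, Int.ofNat 0, Int.ofNat 0, Int.ofNat 0, Int.ofNat 2, Int.negSucc 1, Int.ofNat 0, Int.ofNat 0, Int.ofNat 0, Int.ofNat 0, Int.ofNat 0, Int.negSucc 1, Int.ofNat 0, Int.negSucc 1, Int.ofNat 0, Int.negSucc 1, Int.negSucc 1, Int.ofNat 0, Int.ofNat 0, Int.ofNat 0],
  [Int.ofNat 2, Int.ofNat 0, Int.negSucc 1, Int.ofNat 0, Int.ofNat 0, Int.ofNat 0, Int.ofNat 0, Int.ofNat 0, Int.ofNat 0, Int.ofNat 0, Int.negSucc 1, Int.negSucc 1, Int.negSucc 1, Int.ofNat 0, Int.ofNat 0, Int.negSucc 1, Int.ofNat 2, Int.ofNat 0, Int.ofNat 0, Int.ofNat 0, Int.ofNat 0, Int.ofNat 0, Int.negSucc 1, Int.ofNat 0],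
  [Int.negSucc 1, Int.ofNat 0, Int.ofNat 2, Int.ofNat 0, Int.ofNat 0, Int.ofNat 0, Int.ofNat 0, Int.ofNat 0, Int.ofNat 2, Int.ofNat 2, Int.ofNat 0, Int.ofNat 0, Int.ofNat 0, Int.ofNat 0, Int.ofNat 0, Int.ofNat 0, Int.ofNat 2, Int.ofNat 0, Int.ofNat 2, Int.ofNat 0, Int.ofNat 2, Int.ofNat 0, Int.negSucc 1, Int.ofNat 0],
  [Int.negSucc 1, Int.ofNat 0, Int.negSucc 1, Int.ofNat 0, Int.ofNat 0, Int.ofNat 0, Int.ofNat 0, Int.ofNat 0, Int.ofNat 2, Int.negSucc 1, Int.ofNat 0, Int.ofNat 0, Int.ofNat 0, Int.ofNat 0, Int.ofNat 0, Int.ofNat 0, Int.ofNat 2, Int.ofNat 0, Int.negSucc 1, Int.ofNat 0, Int.ofNat 2, Int.ofNat 0, Int.ofNat 2, Int.ofNat 0],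
  [Int.ofNat 0, Int.ofNat 2, Int.ofNat 0, Int.ofNat 2, Int.ofNat 0, Int.ofNat 0, Int.ofNat 0, Int.ofNat 0, Int.ofNat 0, Int.ofNat 2, Int.ofNat 0, Int.ofNat 0, Int.ofNat 0, Int.ofNat 0, Int.ofNat 0, Int.negSucc 1, Int.ofNat 0, Int.ofNat 0, Int.negSucc 1, Int.negSucc 1, Int.negSucc 1, Int.ofNat 0, Int.ofNat 2, Int.ofNat 0],
  [Int.ofNat 0, Int.ofNat 2, Int.ofNat 0, Int.negSucc 1, Int.ofNat 0, Int.ofNat 2, Int.negSucc 1, Int.ofNat 0, Int.negSucc 1, Int.ofNat 0, Int.ofNat 0, Int.ofNat 0, Int.ofNat 0, Int.ofNat 0, Int.negSucc 1, Int.ofNat 2, Int.ofNat 0, Int.ofNat 0, Int.ofNat 0, Int.ofNat 0, Int.ofNat 0, Int.ofNat 0, Int.ofNat 2, Int.ofNat 0],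
  [Int.ofNat 0, Int.ofNat 2, Int.ofNat 0, Int.negSucc 1, Int.ofNat 0, Int.ofNat 2, Int.negSucc 1, Int.ofNat 0, Int.negSucc 1, Int.ofNat 0, Int.ofNat 0, Int.ofNat 0, Int.ofNat 0, Int.ofNat 0, Int.negSucc 1, Int.ofNat 2, Int.ofNat 0, Int.ofNat 0, Int.ofNat 0, Int.ofNat 0, Int.ofNat 0, Int.ofNat 0, Int.ofNat 2, Int.ofNat 0],
  [Int.ofNat 2, Int.ofNat 0, Int.ofNat 2, Int.ofNat 0, Int.negSucc 1, Int.ofNat 0, Int.ofNat 2, Int.negSucc 1, Int.ofNat 0, Int.negSucc 1, Int.ofNat 0, Int.ofNat 0, Int.ofNat 0, Int.ofNat 0, Int.ofNat 0, Int.negSucc 1, Int.ofNat 2, Int.ofNat 0, Int.ofNat 0, Int.ofNat 0, Int.ofNat 0, Int.ofNat 0, Int.ofNat 0, Int.ofNat 0],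
  [Int.ofNat 0, Int.ofNat 2, Int.ofNat 0, Int.ofNat 0, Int.negSucc 1, Int.ofNat 0, Int.ofNat 2, Int.negSucc 1, Int.ofNat 0, Int.ofNat 0, Int.ofNat 2, Int.ofNat 0, Int.ofNat 0, Int.ofNat 0, Int.ofNat 0, Int.ofNat 0, Int.ofNat 2, Int.ofNat 0, Int.ofNat 0, Int.ofNat 0, Int.ofNat 2, Int.ofNat 0, Int.ofNat 0, Int.ofNat 2],
  [Int.ofNat 0, Int.negSucc 1, Int.ofNat 0, Int.ofNat 2, Int.negSucc 1, Int.ofNat 0, Int.ofNat 0, Int.ofNat 2, Int.ofNat 0, Int.ofNat 0, Int.ofNat 0, Int.ofNat 0, Int.ofNat 0, Int.ofNat 2, Int.ofNat 0, Int.ofNat 0, Int.ofNat 0, Int.ofNat 2, Int.ofNat 0, Int.ofNat 0, Int.ofNat 0, Int.ofNat 2, Int.ofNat 0, Int.ofNat 2],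
  [Int.ofNat 0, Int.ofNat 2, Int.ofNat 0, Int.ofNat 0, Int.negSucc 1, Int.negSucc 1, Int.negSucc 1, Int.ofNat 0, Int.ofNat 0, Int.ofNat 0, Int.ofNat 0, Int.ofNat 0, Int.ofNat 0, Int.ofNat 2, Int.negSucc 1, Int.ofNat 0, Int.ofNat 0, Int.ofNat 0, Int.ofNat 0, Int.negSucc 1, Int.ofNat 0, Int.ofNat 0, Int.ofNat 0, Int.negSucc 1],
  [Int.ofNat 0, Int.negSucc 1, Int.negSucc 1, Int.ofNat 0, Int.ofNat 0, Int.ofNat 0, Int.ofNat 0, Int.ofNat 0, Int.ofNat 0, Int.ofNat 2, Int.ofNat 0, Int.ofNat 0, Int.ofNat 0, Int.ofNat 0, Int.ofNat 0, Int.ofNat 0, Int.ofNat 0, Int.negSucc 1, Int.ofNat 2, Int.ofNat 0, Int.ofNat 0, Int.negSucc 1, Int.negSucc 1, Int.negSucc 1],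
  [Int.negSucc 2, Int.negSucc 0, Int.negSucc 0, Int.ofNat 1, Int.ofNat 1, Int.ofNat 1, Int.ofNat 1, Int.ofNat 1, Int.negSucc 0, Int.ofNat 1, Int.negSucc 0, Int.negSucc 0, Int.negSucc 0, Int.ofNat 1, Int.ofNat 1, Int.negSucc 0, Int.ofNat 1, Int.negSucc 0, Int.ofNat 1, Int.ofNat 1, Int.negSucc 0, Int.negSucc 0, Int.negSucc 0, Int.negSucc 0],
  [Int.negSucc 2, Int.negSucc 0, Int.ofNat 1, Int.ofNat 1, Int.ofNat 1, Int.negSucc 0, Int.negSucc 0, Int.ofNat 1, Int.negSucc 0, Int.negSucc 0, Int.ofNat 1, Int.negSucc 0, Int.negSucc 0, Int.ofNat 1, Int.ofNat 1, Int.ofNat 1, Int.ofNat 1, Int.negSucc 0, Int.negSucc 0, Int.ofNat 1, Int.negSucc 0, Int.negSucc 0, Int.ofNat 1, Int.negSucc 0],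
  [Int.ofNat 1, Int.ofNat 1, Int.ofNat 1, Int.ofNat 1, Int.ofNat 1, Int.ofNat 1, Int.negSucc 0, Int.negSucc 0, Int.negSucc 0, Int.negSucc 0, Int.negSucc 0, Int.negSucc 0, Int.negSucc 2, Int.ofNat 1, Int.ofNat 1, Int.negSucc 0, Int.ofNat 1, Int.negSucc 0, Int.negSucc 0, Int.ofNat 1, Int.ofNat 1, Int.negSucc 0, Int.negSucc 0, Int.negSucc 0],
  [Int.ofNat 1, Int.ofNat 1, Int.negSucc 0, Int.ofNat 1, Int.ofNat 1, Int.negSucc 0, Int.ofNat 1, Int.negSucc 0, Int.negSucc 0, Int.ofNat 1, Int.ofNat 1, Int.negSucc 0, Int.negSucc 2, Int.ofNat 1, Int.ofNat 1, Int.ofNat 1, Int.ofNat 1, Int.negSucc 0, Int.ofNat 1, Int.ofNat 1, Int.ofNat 1, Int.negSucc 0, Int.ofNat 1, Int.negSucc 0],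
  [Int.negSucc 0, Int.negSucc 0, Int.ofNat 1, Int.ofNat 1, Int.negSucc 0, Int.negSucc 0, Int.ofNat 1, Int.negSucc 0, Int.ofNat 1, Int.negSucc 0, Int.negSucc 0, Int.ofNat 1, Int.negSucc 0, Int.negSucc 0, Int.ofNat 1, Int.negSucc 0, Int.negSucc 0, Int.negSucc 0, Int.ofNat 3, Int.ofNat 1, Int.negSucc 0, Int.negSucc 0, Int.negSucc 0, Int.ofNat 1],
  [Int.negSucc 0, Int.ofNat 3, Int.ofNat 1, Int.ofNat 1, Int.ofNat 1, Int.negSucc 0, Int.negSucc 0, Int.negSucc 0, Int.negSucc 0, Int.negSucc 0, Int.negSucc 0, Int.ofNat 1, Int.ofNat 1, Int.negSucc 0, Int.negSucc 0, Int.negSucc 0, Int.negSucc 0, Int.ofNat 1, Int.negSucc 0, Int.negSucc 0, Int.negSucc 0, Int.negSucc 0, Int.ofNat 1, Int.ofNat 1],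
  [Int.ofNat 3, Int.negSucc 0, Int.ofNat 1, Int.ofNat 1, Int.ofNat 1, Int.negSucc 0, Int.ofNat 1, Int.ofNat 1, Int.negSucc 0, Int.ofNat 1, Int.ofNat 1, Int.ofNat 1, Int.ofNat 1, Int.negSucc 0, Int.negSucc 0, Int.ofNat 1, Int.negSucc 0, Int.ofNat 1, Int.negSucc 0, Int.ofNat 1, Int.ofNat 1, Int.ofNat 1, Int.ofNat 1, Int.ofNat 1],
  [Int.ofNat 1, Int.ofNat 1, Int.ofNat 1, Int.ofNat 3, Int.negSucc 0, Int.ofNat 1, Int.ofNat 1, Int.ofNat 1, Int.negSucc 0, Int.ofNat 1, Int.ofNat 1, Int.negSucc 0, Int.ofNat 1, Int.ofNat 1, Int.ofNat 1, Int.ofNat 1, Int.negSucc 0, Int.negSucc 0, Int.ofNat 1, Int.negSucc 0, Int.ofNat 1, Int.negSucc 0, Int.ofNat 1, Int.ofNat 1],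
  [Int.ofNat 1, Int.ofNat 1, Int.ofNat 1, Int.ofNat 1, Int.negSucc 0, Int.negSucc 0, Int.ofNat 1, Int.ofNat 1, Int.negSucc 0, Int.negSucc 0, Int.negSucc 0, Int.negSucc 0, Int.ofNat 1, Int.ofNat 1, Int.negSucc 0, Int.negSucc 0, Int.negSucc 0, Int.negSucc 2, Int.ofNat 1, Int.negSucc 0, Int.negSucc 0, Int.negSucc 0, Int.ofNat 1, Int.ofNat 1],
  [Int.ofNat 1, Int.ofNat 1, Int.ofNat 1, Int.negSucc 0, Int.negSucc 0, Int.ofNat 1, Int.ofNat 1, Int.negSucc 0, Int.negSucc 0, Int.negSucc 0, Int.negSucc 0, Int.ofNat 1, Int.ofNat 1, Int.negSucc 0, Int.negSucc 0, Int.negSucc 0, Int.negSucc 2, Int.ofNat 1, Int.negSucc 0, Int.negSucc 0, Int.negSucc 0, Int.ofNat 1, Int.ofNat 1, Int.ofNat 1],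
  [Int.negSucc 0, Int.ofNat 1, Int.negSucc 0, Int.negSucc 0, Int.negSucc 0, Int.ofNat 1, Int.ofNat 1, Int.ofNat 1, Int.negSucc 0, Int.ofNat 1, Int.ofNat 1, Int.negSucc 0, Int.ofNat 1, Int.negSucc 0, Int.negSucc 0, Int.negSucc 0, Int.negSucc 2, Int.ofNat 1, Int.ofNat 1, Int.negSucc 0, Int.negSucc 0, Int.negSucc 0, Int.ofNat 1, Int.ofNat 1],
  [Int.ofNat 1, Int.negSucc 0, Int.ofNat 1, Int.ofNat 1, Int.ofNat 1, Int.ofNat 1, Int.negSucc 0, Int.ofNat 1, Int.ofNat 1, Int.negSucc 0, Int.ofNat 1, Int.negSucc 0, Int.negSucc 0, Int.ofNat 1, Int.negSucc 0, Int.negSucc 0, Int.ofNat 3, Int.ofNat 1, Int.negSucc 0, Int.negSucc 0, Int.negSucc 0, Int.negSucc 0, Int.ofNat 1, Int.ofNat 1],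
  [Int.ofNat 1, Int.ofNat 1, Int.negSucc 0, Int.ofNat 1, Int.negSucc 0, Int.ofNat 1, Int.ofNat 1, Int.negSucc 0, Int.negSucc 0, Int.ofNat 3, Int.negSucc 0, Int.negSucc 0, Int.ofNat 1, Int.ofNat 1, Int.negSucc 0, Int.negSucc 0, Int.negSucc 0, Int.ofNat 1, Int.negSucc 0, Int.ofNat 1, Int.ofNat 1, Int.ofNat 1, Int.negSucc 0, Int.ofNat 1],
  [Int.negSucc 0, Int.ofNat 1, Int.ofNat 1, Int.ofNat 1, Int.negSucc 0, Int.ofNat 1, Int.ofNat 1, Int.ofNat 1, Int.negSucc 0, Int.negSucc 2, Int.ofNat 1, Int.ofNat 1, Int.ofNat 1, Int.ofNat 1, Int.negSucc 0, Int.negSucc 0, Int.negSucc 0, Int.ofNat 1, Int.ofNat 1, Int.ofNat 1, Int.ofNat 1, Int.negSucc 0, Int.negSucc 0, Int.ofNat 1],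
  [Int.negSucc 0, Int.negSucc 0, Int.ofNat 1, Int.ofNat 1, Int.ofNat 1, Int.negSucc 0, Int.ofNat 1, Int.ofNat 1, Int.ofNat 1, Int.negSucc 0, Int.negSucc 2, Int.ofNat 1, Int.ofNat 1, Int.ofNat 1, Int.ofNat 1, Int.negSucc 0, Int.negSucc 0, Int.negSucc 0, Int.ofNat 1, Int.ofNat 1, Int.ofNat 1, Int.ofNat 1, Int.negSucc 0, Int.ofNat 1],
  [Int.ofNat 1, Int.ofNat 1, Int.negSucc 0, Int.ofNat 1, Int.ofNat 1, Int.negSucc 0, Int.negSucc 0, Int.negSucc 0, Int.negSucc 0, Int.ofNat 1, Int.negSucc 0, Int.negSucc 0, Int.negSucc 0, Int.ofNat 1, Int.ofNat 1, Int.ofNat 1, Int.negSucc 0, Int.negSucc 0, Int.negSucc 0, Int.negSucc 0, Int.ofNat 3, Int.negSucc 0, Int.negSucc 0, Int.negSucc 0],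
  [Int.ofNat 1, Int.ofNat 1, Int.negSucc 0, Int.negSucc 0, Int.negSucc 0, Int.negSucc 0, Int.ofNat 1, Int.negSucc 0, Int.negSucc 0, Int.negSucc 0, Int.ofNat 1, Int.ofNat 1, Int.ofNat 1, Int.negSucc 0, Int.negSucc 0, Int.negSucc 0, Int.negSucc 0, Int.ofNat 3, Int.negSucc 0, Int.negSucc 0, Int.ofNat 1, Int.ofNat 1, Int.negSucc 0, Int.negSucc 0],
  [Int.negSucc 0, Int.negSucc 0, Int.ofNat 1, Int.negSucc 0, Int.ofNat 1, Int.negSucc 0, Int.ofNat 1, Int.negSucc 0, Int.negSucc 0, Int.negSucc 0, Int.ofNat 1, Int.ofNat 1, Int.ofNat 1, Int.ofNat 1, Int.negSucc 0, Int.negSucc 0, Int.ofNat 1, Int.ofNat 3, Int.negSucc 0, Int.negSucc 0, Int.ofNat 1, Int.ofNat 1, Int.ofNat 1, Int.ofNat 1],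
  [Int.negSucc 0, Int.ofNat 1, Int.ofNat 1, Int.negSucc 0, Int.negSucc 0, Int.negSucc 0, Int.ofNat 1, Int.ofNat 1, Int.ofNat 1, Int.ofNat 1, Int.ofNat 1, Int.ofNat 3, Int.negSucc 0, Int.ofNat 1, Int.ofNat 1, Int.negSucc 0, Int.negSucc 0, Int.negSucc 0, Int.negSucc 0, Int.ofNat 1, Int.ofNat 1, Int.negSucc 0, Int.negSucc 0, Int.ofNat 1],
  [Int.ofNat 2, Int.ofNat 0, Int.ofNat 0, Int.ofNat 0, Int.ofNat 0, Int.ofNat 0, Int.ofNat 0, Int.ofNat 0, Int.ofNat 0, Int.ofNat 0, Int.ofNat 0, Int.ofNat 2, Int.negSucc 1, Int.ofNat 2, Int.ofNat 2, Int.negSucc 1, Int.ofNat 0, Int.ofNat 0, Int.negSucc 1, Int.ofNat 0, Int.ofNat 0, Int.negSucc 1, Int.ofNat 0, Int.ofNat 0],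
  [Int.ofNat 2, Int.ofNat 0, Int.ofNat 0, Int.ofNat 0, Int.ofNat 0, Int.ofNat 0, Int.ofNat 0, Int.ofNat 0, Int.ofNat 0, Int.ofNat 0, Int.ofNat 0, Int.ofNat 2, Int.negSucc 1, Int.ofNat 2, Int.ofNat 2, Int.ofNat 2, Int.ofNat 0, Int.ofNat 0, Int.ofNat 2, Int.ofNat 0, Int.ofNat 0, Int.negSucc 1, Int.ofNat 0, Int.ofNat 0],
  [Int.ofNat 0, Int.ofNat 0, Int.ofNat 2, Int.ofNat 0, Int.ofNat 2, Int.ofNat 0, Int.negSucc 1, Int.ofNat 0, Int.ofNat 0, Int.ofNat 0, Int.ofNat 2, Int.ofNat 0, Int.ofNat 2, Int.ofNat 0, Int.ofNat 0, Int.ofNat 2, Int.ofNat 0, Int.negSucc 1, Int.ofNat 0, Int.ofNat 0, Int.ofNat 2, Int.ofNat 0, Int.ofNat 0, Int.ofNat 0],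
  [Int.ofNat 0, Int.ofNat 0, Int.ofNat 0, Int.ofNat 2, Int.negSucc 1, Int.ofNat 0, Int.ofNat 0, Int.ofNat 0, Int.ofNat 2, Int.ofNat 0, Int.ofNat 0, Int.ofNat 2, Int.ofNat 0, Int.ofNat 0, Int.ofNat 0, Int.ofNat 0, Int.ofNat 2, Int.ofNat 2, Int.ofNat 0, Int.negSucc 1, Int.ofNat 0, Int.ofNat 2, Int.ofNat 0, Int.ofNat 0],
  [Int.ofNat 0, Int.ofNat 0, Int.ofNat 0, Int.ofNat 2, Int.negSucc 1, Int.ofNat 0, Int.ofNat 0, Int.ofNat 0, Int.ofNat 2, Int.ofNat 0, Int.ofNat 0, Int.negSucc 1, Int.ofNat 0, Int.ofNat 0, Int.ofNat 0, Int.ofNat 0, Int.ofNat 2, Int.ofNat 2, Int.ofNat 0, Int.negSucc 1, Int.ofNat 0, Int.negSucc 1, Int.ofNat 0, Int.ofNat 0],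
  [Int.ofNat 0, Int.ofNat 0, Int.ofNat 0, Int.ofNat 0, Int.ofNat 2, Int.negSucc 1, Int.ofNat 0, Int.ofNat 0, Int.ofNat 0, Int.ofNat 2, Int.ofNat 0, Int.ofNat 0, Int.negSucc 1, Int.ofNat 0, Int.ofNat 0, Int.ofNat 0, Int.ofNat 0, Int.ofNat 2, Int.ofNat 2, Int.ofNat 0, Int.negSucc 1, Int.ofNat 0, Int.negSucc 1, Int.ofNat 0],
  [Int.ofNat 0, Int.ofNat 0, Int.ofNat 0, Int.ofNat 0, Int.ofNat 2, Int.negSucc 1, Int.ofNat 0, Int.ofNat 0, Int.ofNat 0, Int.ofNat 2, Int.ofNat 0, Int.ofNat 0, Int.negSucc 1, Int.ofNat 0, Int.ofNat 0, Int.ofNat 0, Int.ofNat 0, Int.ofNat 2, Int.ofNat 2, Int.ofNat 0, Int.negSucc 1, Int.ofNat 0, Int.negSucc 1, Int.ofNat 0],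
  [Int.ofNat 0, Int.ofNat 2, Int.negSucc 1, Int.ofNat 0, Int.ofNat 0, Int.ofNat 0, Int.ofNat 2, Int.ofNat 0, Int.ofNat 0, Int.negSucc 1, Int.ofNat 0, Int.ofNat 0, Int.ofNat 0, Int.ofNat 0, Int.ofNat 2, Int.ofNat 2, Int.ofNat 0, Int.negSucc 1, Int.ofNat 0, Int.negSucc 1, Int.ofNat 0, Int.ofNat 0, Int.ofNat 0, Int.ofNat 0],
  [Int.ofNat 0, Int.negSucc 1, Int.ofNat 2, Int.ofNat 0, Int.ofNat 0, Int.ofNat 0, Int.ofNat 2, Int.ofNat 0, Int.ofNat 0, Int.negSucc 1, Int.ofNat 0, Int.ofNat 0, Int.ofNat 0, Int.ofNat 0, Int.ofNat 2, Int.ofNat 2, Int.ofNat 0, Int.negSucc 1, Int.ofNat 0, Int.negSucc 1, Int.ofNat 0, Int.ofNat 0, Int.ofNat 0, Int.ofNat 0],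
  [Int.ofNat 0, Int.ofNat 2, Int.ofNat 0, Int.ofNat 0, Int.ofNat 0, Int.ofNat 0, Int.ofNat 2, Int.ofNat 0, Int.ofNat 0, Int.ofNat 0, Int.ofNat 0, Int.negSucc 1, Int.negSucc 1, Int.ofNat 0, Int.ofNat 0, Int.ofNat 2, Int.ofNat 0, Int.ofNat 2, Int.negSucc 1, Int.ofNat 0, Int.ofNat 0, Int.ofNat 0, Int.negSucc 1, Int.ofNat 0],
  [Int.ofNat 1, Int.negSucc 0, Int.ofNat 1, Int.negSucc 0, Int.ofNat 1, Int.negSucc 0, Int.ofNat 1, Int.negSucc 0, Int.ofNat 3, Int.negSucc 0, Int.negSucc 0, Int.ofNat 1, Int.ofNat 1, Int.ofNat 1, Int.negSucc 0, Int.ofNat 1, Int.ofNat 1, Int.ofNat 1, Int.ofNat 1, Int.negSucc 0, Int.negSucc 0, Int.negSucc 0, Int.negSucc 0, Int.ofNat 1],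
  [Int.ofNat 1, Int.negSucc 0, Int.negSucc 0, Int.negSucc 0, Int.ofNat 1, Int.ofNat 1, Int.negSucc 0, Int.negSucc 0, Int.ofNat 3, Int.ofNat 1, Int.ofNat 1, Int.ofNat 1, Int.ofNat 1, Int.ofNat 1, Int.negSucc 0, Int.negSucc 0, Int.ofNat 1, Int.ofNat 1, Int.negSucc 0, Int.negSucc 0, Int.negSucc 0, Int.negSucc 0, Int.ofNat 1, Int.ofNat 1],
  [Int.ofNat 1, Int.ofNat 1, Int.ofNat 1, Int.ofNat 1, Int.negSucc 0, Int.negSucc 0, Int.ofNat 1, Int.ofNat 1, Int.negSucc 0, Int.negSucc 0, Int.ofNat 3, Int.negSucc 0, Int.ofNat 1, Int.ofNat 1, Int.negSucc 0, Int.negSucc 0, Int.negSucc 0, Int.ofNat 1, Int.ofNat 1, Int.negSucc 0, Int.negSucc 0, Int.negSucc 0, Int.ofNat 1, Int.ofNat 1],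
  [Int.ofNat 1, Int.ofNat 1, Int.negSucc 0, Int.ofNat 1, Int.negSucc 0, Int.ofNat 1, Int.negSucc 0, Int.ofNat 1, Int.negSucc 0, Int.ofNat 1, Int.negSucc 2, Int.negSucc 0, Int.ofNat 1, Int.ofNat 1, Int.negSucc 0, Int.ofNat 1, Int.negSucc 0, Int.ofNat 1, Int.negSucc 0, Int.negSucc 0, Int.negSucc 0, Int.negSucc 0, Int.negSucc 0, Int.ofNat 1],
  [Int.ofNat 0, Int.ofNat 0, Int.ofNat 2, Int.ofNat 0, Int.ofNat 0, Int.ofNat 0, Int.ofNat 0, Int.ofNat 2, Int.ofNat 0, Int.ofNat 2, Int.negSucc 1, Int.ofNat 0, Int.ofNat 2, Int.ofNat 2, Int.negSucc 1, Int.ofNat 2, Int.ofNat 0, Int.ofNat 0, Int.ofNat 0, Int.ofNat 0, Int.ofNat 0, Int.ofNat 0, Int.ofNat 0, Int.ofNat 0],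
  [Int.ofNat 0, Int.ofNat 0, Int.ofNat 0, Int.ofNat 0, Int.ofNat 2, Int.ofNat 0, Int.ofNat 0, Int.ofNat 0, Int.ofNat 0, Int.ofNat 2, Int.ofNat 2, Int.ofNat 0, Int.ofNat 0, Int.ofNat 2, Int.ofNat 0, Int.ofNat 2, Int.ofNat 2, Int.ofNat 0, Int.ofNat 0, Int.ofNat 0, Int.negSucc 1, Int.ofNat 0, Int.negSucc 1, Int.ofNat 0],
  [Int.ofNat 0, Int.ofNat 0, Int.ofNat 0, Int.ofNat 0, Int.ofNat 0, Int.ofNat 0, Int.ofNat 0, Int.ofNat 0, Int.ofNat 0, Int.ofNat 0, Int.ofNat 0, Int.ofNat 0, Int.ofNat 0, Int.ofNat 0, Int.ofNat 0, Int.ofNat 0, Int.ofNat 0, Int.ofNat 0, Int.ofNat 0, Int.ofNat 0, Int.negSucc 3, Int.ofNat 0, Int.negSucc 3, Int.ofNat 0],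
  [Int.negSucc 3, Int.ofNat 0, Int.negSucc 3, Int.ofNat 0, Int.ofNat 0, Int.ofNat 0, Int.ofNat 0, Int.ofNat 0, Int.ofNat 0, Int.ofNat 0, Int.ofNat 0, Int.ofNat 0, Int.ofNat 0, Int.ofNat 0, Int.ofNat 0, Int.ofNat 0, Int.ofNat 0, Int.ofNat 0, Int.ofNat 0, Int.ofNat 0, Int.ofNat 0, Int.ofNat 0, Int.ofNat 0, Int.ofNat 0],
  [Int.ofNat 0, Int.negSucc 3, Int.ofNat 0, Int.ofNat 0, Int.ofNat 0, Int.ofNat 0, Int.ofNat 0, Int.ofNat 0, Int.ofNat 0, Int.ofNat 0, Int.ofNat 0, Int.ofNat 0, Int.ofNat 0, Int.ofNat 0, Int.ofNat 0, Int.ofNat 0, Int.ofNat 0, Int.ofNat 0, Int.ofNat 0, Int.ofNat 0, Int.ofNat 0, Int.ofNat 0, Int.ofNat 0, Int.negSucc 3],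
  [Int.negSucc 3, Int.ofNat 0, Int.ofNat 0, Int.ofNat 0, Int.ofNat 0, Int.ofNat 0, Int.ofNat 0, Int.ofNat 0, Int.ofNat 0, Int.ofNat 0, Int.ofNat 0, Int.ofNat 0, Int.ofNat 0, Int.ofNat 0, Int.ofNat 0, Int.ofNat 0, Int.ofNat 0, Int.ofNat 0, Int.ofNat 0, Int.ofNat 0, Int.ofNat 0, Int.ofNat 0, Int.ofNat 0, Int.negSucc 3],
  [Int.ofNat 4, Int.ofNat 0, Int.ofNat 0, Int.ofNat 0, Int.ofNat 0, Int.ofNat 0, Int.ofNat 0, Int.ofNat 0, Int.ofNat 0, Int.ofNat 0, Int.ofNat 0, Int.ofNat 0, Int.ofNat 0, Int.ofNat 0, Int.ofNat 0, Int.ofNat 0, Int.ofNat 0, Int.ofNat 0, Int.ofNat 0, Int.ofNat 0, Int.ofNat 0, Int.ofNat 0, Int.ofNat 0, Int.negSucc 3],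
  [Int.negSucc 3, Int.ofNat 0, Int.ofNat 0, Int.ofNat 0, Int.ofNat 0, Int.ofNat 0, Int.ofNat 0, Int.ofNat 0, Int.ofNat 0, Int.ofNat 0, Int.ofNat 0, Int.ofNat 0, Int.ofNat 0, Int.ofNat 0, Int.ofNat 0, Int.ofNat 0, Int.ofNat 0, Int.ofNat 0, Int.ofNat 0, Int.ofNat 0, Int.ofNat 0, Int.ofNat 0, Int.ofNat 0, Int.negSucc 3],
  [Int.negSucc 3, Int.ofNat 0, Int.ofNat 0, Int.ofNat 0, Int.ofNat 0, Int.ofNat 0, Int.ofNat 0, Int.ofNat 0, Int.ofNat 0, Int.ofNat 0, Int.ofNat 0, Int.ofNat 0, Int.ofNat 0, Int.ofNat 0, Int.ofNat 0, Int.ofNat 0, Int.ofNat 0, Int.ofNat 0, Int.ofNat 0, Int.ofNat 0, Int.ofNat 0, Int.ofNat 0, Int.ofNat 0, Int.negSucc 3],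
  [Int.ofNat 4, Int.ofNat 0, Int.ofNat 0, Int.ofNat 0, Int.ofNat 0, Int.ofNat 0, Int.ofNat 0, Int.ofNat 0, Int.ofNat 0, Int.ofNat 0, Int.ofNat 0, Int.ofNat 0, Int.ofNat 0, Int.ofNat 0, Int.ofNat 0, Int.ofNat 0, Int.ofNat 0, Int.ofNat 0, Int.ofNat 0, Int.ofNat 0, Int.ofNat 0, Int.ofNat 0, Int.ofNat 0, Int.negSucc 3],
  [Int.ofNat 0, Int.ofNat 4, Int.ofNat 0, Int.ofNat 0, Int.ofNat 0, Int.ofNat 0, Int.ofNat 0, Int.ofNat 0, Int.ofNat 0, Int.ofNat 0, Int.ofNat 0, Int.ofNat 0, Int.ofNat 0, Int.ofNat 0, Int.ofNat 0, Int.ofNat 0, Int.ofNat 0, Int.ofNat 0, Int.ofNat 0, Int.ofNat 0, Int.ofNat 0, Int.ofNat 0, Int.ofNat 0, Int.negSucc 3],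
  [Int.ofNat 0, Int.negSucc 3, Int.ofNat 0, Int.ofNat 0, Int.ofNat 0, Int.ofNat 0, Int.ofNat 0, Int.ofNat 0, Int.ofNat 0, Int.ofNat 0, Int.ofNat 0, Int.ofNat 0, Int.ofNat 0, Int.ofNat 0, Int.ofNat 0, Int.ofNat 0, Int.ofNat 0, Int.ofNat 0, Int.ofNat 0, Int.ofNat 0, Int.ofNat 0, Int.ofNat 0, Int.ofNat 0, Int.ofNat 4],
  [Int.ofNat 0, Int.ofNat 0, Int.ofNat 0, Int.ofNat 0, Int.ofNat 0, Int.ofNat 0, Int.ofNat 0, Int.ofNat 0, Int.ofNat 0, Int.ofNat 0, Int.ofNat 0, Int.ofNat 0, Int.ofNat 0, Int.ofNat 0, Int.ofNat 0, Int.ofNat 0, Int.ofNat 0, Int.ofNat 0, Int.ofNat 0, Int.ofNat 0, Int.ofNat 0, Int.negSucc 3, Int.ofNat 0, Int.ofNat 4],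
  [Int.ofNat 2, Int.ofNat 2, Int.ofNat 2, Int.ofNat 0, Int.ofNat 0, Int.ofNat 0, Int.ofNat 2, Int.ofNat 2, Int.ofNat 0, Int.ofNat 0, Int.ofNat 0, Int.ofNat 0, Int.ofNat 0, Int.ofNat 0, Int.ofNat 0, Int.ofNat 0, Int.ofNat 0, Int.ofNat 0, Int.ofNat 0, Int.ofNat 2, Int.ofNat 0, Int.negSucc 1, Int.ofNat 0, Int.negSucc 1],
  [Int.ofNat 2, Int.ofNat 2, Int.ofNat 0, Int.ofNat 0, Int.ofNat 0, Int.ofNat 2, Int.ofNat 2, Int.ofNat 0, Int.ofNat 0, Int.ofNat 0, Int.ofNat 0, Int.ofNat 0, Int.ofNat 0, Int.ofNat 0, Int.ofNat 0, Int.ofNat 0, Int.ofNat 0, Int.ofNat 0, Int.ofNat 2, Int.ofNat 0, Int.negSucc 1, Int.ofNat 0, Int.ofNat 2, Int.negSucc 1],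
  [Int.negSucc 0, Int.negSucc 0, Int.ofNat 1, Int.negSucc 0, Int.negSucc 0, Int.ofNat 1, Int.ofNat 1, Int.negSucc 0, Int.negSucc 0, Int.ofNat 1, Int.ofNat 1, Int.negSucc 0, Int.negSucc 0, Int.negSucc 0, Int.negSucc 0, Int.ofNat 1, Int.negSucc 0, Int.negSucc 0, Int.ofNat 1, Int.negSucc 0, Int.negSucc 0, Int.negSucc 0, Int.ofNat 1, Int.ofNat 3],
  [Int.negSucc 0, Int.negSucc 0, Int.negSucc 0, Int.negSucc 0, Int.negSucc 0, Int.negSucc 0, Int.negSucc 0, Int.negSucc 0, Int.negSucc 0, Int.negSucc 0, Int.negSucc 0, Int.negSucc 0, Int.negSucc 0, Int.negSucc 0, Int.negSucc 0, Int.negSucc 0, Int.negSucc 0, Int.negSucc 0, Int.negSucc 0, Int.negSucc 0, Int.negSucc 0, Int.negSucc 0, Int.negSucc 0, Int.ofNat 3],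
  [Int.negSucc 0, Int.negSucc 0, Int.negSucc 0, Int.negSucc 0, Int.negSucc 0, Int.negSucc 0, Int.negSucc 0, Int.negSucc 0, Int.negSucc 0, Int.negSucc 0, Int.negSucc 0, Int.negSucc 0, Int.negSucc 0, Int.negSucc 0, Int.negSucc 0, Int.negSucc 0, Int.negSucc 0, Int.negSucc 0, Int.negSucc 0, Int.negSucc 0, Int.negSucc 0, Int.negSucc 0, Int.negSucc 0, Int.ofNat 3],
  [Int.ofNat 3, Int.negSucc 0, Int.negSucc 0, Int.negSucc 0, Int.negSucc 0, Int.negSucc 0, Int.negSucc 0, Int.negSucc 0, Int.negSucc 0, Int.negSucc 0, Int.negSucc 0, Int.negSucc 0, Int.negSucc 0, Int.negSucc 0, Int.negSucc 0, Int.negSucc 0, Int.negSucc 0, Int.negSucc 0, Int.negSucc 0, Int.negSucc 0, Int.negSucc 0, Int.negSucc 0, Int.negSucc 0, Int.negSucc 0],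
  [Int.negSucc 2, Int.negSucc 0, Int.ofNat 1, Int.negSucc 0, Int.negSucc 0, Int.negSucc 0, Int.negSucc 0, Int.ofNat 1, Int.negSucc 0, Int.ofNat 1, Int.ofNat 1, Int.ofNat 1, Int.negSucc 0, Int.negSucc 0, Int.negSucc 0, Int.negSucc 0, Int.negSucc 0, Int.negSucc 0, Int.ofNat 1, Int.negSucc 0, Int.negSucc 0, Int.ofNat 1, Int.negSucc 0, Int.negSucc 0],
  [Int.negSucc 0, Int.negSucc 2, Int.negSucc 0, Int.ofNat 1, Int.negSucc 0, Int.negSucc 0, Int.negSucc 0, Int.negSucc 0, Int.ofNat 1, Int.negSucc 0, Int.ofNat 1, Int.ofNat 1, Int.ofNat 1, Int.negSucc 0, Int.negSucc 0, Int.negSucc 0, Int.negSucc 0, Int.negSucc 0, Int.negSucc 0, Int.ofNat 1, Int.negSucc 0, Int.negSucc 0, Int.ofNat 1, Int.negSucc 0],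
  [Int.negSucc 1, Int.ofNat 0, Int.negSucc 1, Int.ofNat 2, Int.ofNat 0, Int.ofNat 0, Int.ofNat 0, Int.ofNat 0, Int.ofNat 0, Int.ofNat 0, Int.ofNat 2, Int.ofNat 0, Int.ofNat 0, Int.ofNat 0, Int.ofNat 0, Int.ofNat 0, Int.ofNat 0, Int.ofNat 0, Int.negSucc 1, Int.ofNat 2, Int.ofNat 0, Int.ofNat 0, Int.ofNat 2, Int.negSucc 1],
  [Int.ofNat 2, Int.ofNat 0, Int.ofNat 0, Int.ofNat 0, Int.ofNat 0, Int.ofNat 0, Int.ofNat 0, Int.ofNat 2, Int.ofNat 0, Int.ofNat 0, Int.ofNat 0, Int.ofNat 0, Int.ofNat 0, Int.ofNat 0, Int.ofNat 0, Int.negSucc 1, Int.ofNat 2, Int.ofNat 0, Int.ofNat 0, Int.ofNat 2, Int.negSucc 1, Int.ofNat 0, Int.negSucc 1, Int.negSucc 1],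
  [Int.negSucc 1, Int.ofNat 0, Int.ofNat 0, Int.ofNat 0, Int.ofNat 0, Int.ofNat 0, Int.negSucc 1, Int.ofNat 0, Int.ofNat 0, Int.ofNat 2, Int.ofNat 2, Int.ofNat 0, Int.ofNat 0, Int.ofNat 0, Int.ofNat 0, Int.ofNat 0, Int.ofNat 2, Int.ofNat 0, Int.ofNat 0, Int.ofNat 0, Int.ofNat 0, Int.negSucc 1, Int.negSucc 1, Int.ofNat 2],
  [Int.negSucc 1, Int.negSucc 1, Int.ofNat 0, Int.ofNat 0, Int.ofNat 0, Int.ofNat 0, Int.ofNat 0, Int.ofNat 2, Int.ofNat 0, Int.ofNat 0, Int.ofNat 0, Int.ofNat 0, Int.ofNat 2, Int.ofNat 2, Int.negSucc 1, Int.ofNat 0, Int.ofNat 0, Int.ofNat 0, Int.ofNat 0, Int.ofNat 0, Int.negSucc 1, Int.ofNat 0, Int.ofNat 0, Int.ofNat 2],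
  [Int.ofNat 1, Int.ofNat 1, Int.negSucc 0, Int.ofNat 1, Int.negSucc 0, Int.ofNat 1, Int.negSucc 0, Int.ofNat 1, Int.negSucc 0, Int.ofNat 1, Int.ofNat 1, Int.negSucc 0, Int.ofNat 1, Int.ofNat 1, Int.negSucc 0, Int.ofNat 1, Int.negSucc 0, Int.ofNat 1, Int.negSucc 0, Int.negSucc 0, Int.negSucc 0, Int.negSucc 0, Int.negSucc 0, Int.negSucc 2],
  [Int.ofNat 1, Int.ofNat 1, Int.ofNat 1, Int.ofNat 1, Int.negSucc 0, Int.negSucc 0, Int.ofNat 1, Int.ofNat 1, Int.negSucc 0, Int.negSucc 0, Int.negSucc 0, Int.negSucc 0, Int.ofNat 1, Int.ofNat 1, Int.negSucc 0, Int.negSucc 0, Int.negSucc 0, Int.ofNat 1, Int.ofNat 1, Int.negSucc 0, Int.negSucc 0, Int.negSucc 0, Int.ofNat 1, Int.negSucc 2],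
  [Int.negSucc 0, Int.negSucc 0, Int.ofNat 1, Int.ofNat 1, Int.negSucc 0, Int.ofNat 1, Int.negSucc 0, Int.ofNat 1, Int.negSucc 0, Int.ofNat 1, Int.negSucc 0, Int.ofNat 1, Int.ofNat 1, Int.negSucc 0, Int.ofNat 1, Int.ofNat 1, Int.negSucc 0, Int.ofNat 1, Int.negSucc 0, Int.ofNat 1, Int.negSucc 0, Int.negSucc 0, Int.negSucc 0, Int.negSucc 2],
  [Int.negSucc 0, Int.negSucc 0, Int.negSucc 0, Int.ofNat 1, Int.negSucc 0, Int.negSucc 0, Int.ofNat 1, Int.ofNat 1, Int.negSucc 0, Int.negSucc 0, Int.ofNat 1, Int.ofNat 1, Int.ofNat 1, Int.negSucc 0, Int.ofNat 1, Int.negSucc 0, Int.negSucc 0, Int.ofNat 1, Int.ofNat 1, Int.ofNat 1, Int.negSucc 0, Int.negSucc 0, Int.ofNat 1, Int.negSucc 2],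
  [Int.negSucc 1, Int.negSucc 1, Int.negSucc 1, Int.ofNat 0, Int.ofNat 0, Int.negSucc 1, Int.ofNat 0, Int.ofNat 0, Int.negSucc 1, Int.ofNat 0, Int.ofNat 2, Int.ofNat 0, Int.ofNat 0, Int.ofNat 0, Int.ofNat 0, Int.ofNat 0, Int.ofNat 0, Int.ofNat 0, Int.ofNat 0, Int.ofNat 0, Int.ofNat 0, Int.negSucc 1, Int.ofNat 2, Int.ofNat 0],
  [Int.negSucc 1, Int.ofNat 0, Int.ofNat 0, Int.ofNat 0, Int.negSucc 1, Int.negSucc 1, Int.negSucc 1, Int.negSucc 1, Int.ofNat 0, Int.ofNat 0, Int.ofNat 0, Int.ofNat 0, Int.negSucc 1, Int.ofNat 0, Int.ofNat 0, Int.ofNat 0, Int.ofNat 0, Int.ofNat 0, Int.ofNat 0, Int.ofNat 2, Int.ofNat 2, Int.ofNat 0, Int.ofNat 0, Int.ofNat 0],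
  [Int.ofNat 1, Int.negSucc 0, Int.negSucc 0, Int.ofNat 1, Int.negSucc 0, Int.negSucc 0, Int.negSucc 0, Int.negSucc 0, Int.ofNat 1, Int.negSucc 0, Int.negSucc 0, Int.ofNat 1, Int.negSucc 0, Int.ofNat 1, Int.ofNat 1, Int.negSucc 0, Int.ofNat 1, Int.ofNat 1, Int.ofNat 1, Int.ofNat 3, Int.ofNat 1, Int.ofNat 1, Int.ofNat 1, Int.negSucc 0],
  [Int.ofNat 1, Int.ofNat 1, Int.ofNat 1, Int.ofNat 1, Int.negSucc 0, Int.negSucc 0, Int.ofNat 1, Int.negSucc 0, Int.negSucc 0, Int.negSucc 0, Int.negSucc 0, Int.ofNat 1, Int.negSucc 0, Int.negSucc 0, Int.ofNat 1, Int.negSucc 0, Int.ofNat 1, Int.ofNat 1, Int.negSucc 0, Int.ofNat 1, Int.ofNat 1, Int.ofNat 1, Int.ofNat 3, Int.negSucc 0],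
  [Int.ofNat 0, Int.ofNat 0, Int.ofNat 0, Int.ofNat 0, Int.negSucc 1, Int.negSucc 1, Int.ofNat 0, Int.negSucc 1, Int.ofNat 0, Int.ofNat 0, Int.ofNat 0, Int.ofNat 2, Int.ofNat 0, Int.negSucc 1, Int.ofNat 0, Int.ofNat 0, Int.ofNat 0, Int.ofNat 0, Int.ofNat 0, Int.ofNat 0, Int.ofNat 2, Int.ofNat 0, Int.ofNat 2, Int.ofNat 2],
  [Int.ofNat 0, Int.ofNat 0, Int.ofNat 0, Int.negSucc 1, Int.negSucc 1, Int.ofNat 0, Int.negSucc 1, Int.ofNat 0, Int.ofNat 0, Int.ofNat 0, Int.ofNat 2, Int.ofNat 0, Int.negSucc 1, Int.ofNat 0, Int.ofNat 0, Int.ofNat 0, Int.ofNat 0, Int.ofNat 0, Int.ofNat 0, Int.ofNat 2, Int.ofNat 0, Int.ofNat 2, Int.ofNat 0, Int.ofNat 2],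
  [Int.ofNat 0, Int.ofNat 0, Int.ofNat 0, Int.negSucc 1, Int.negSucc 1, Int.ofNat 0, Int.negSucc 1, Int.ofNat 0, Int.ofNat 0, Int.ofNat 0, Int.negSucc 1, Int.ofNat 0, Int.negSucc 1, Int.ofNat 0, Int.ofNat 0, Int.ofNat 0, Int.ofNat 0, Int.ofNat 0, Int.ofNat 0, Int.ofNat 2, Int.ofNat 0, Int.negSucc 1, Int.ofNat 0, Int.ofNat 2],
  [Int.ofNat 0, Int.ofNat 0, Int.ofNat 0, Int.ofNat 2, Int.ofNat 2, Int.ofNat 0, Int.ofNat 2, Int.ofNat 0, Int.ofNat 0, Int.ofNat 0, Int.negSucc 1, Int.ofNat 0, Int.ofNat 2, Int.ofNat 0, Int.ofNat 0, Int.ofNat 0, Int.ofNat 0, Int.ofNat 0, Int.ofNat 0, Int.ofNat 2, Int.ofNat 0, Int.negSucc 1, Int.ofNat 0, Int.ofNat 2],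
  [Int.ofNat 0, Int.ofNat 0, Int.ofNat 0, Int.ofNat 2, Int.ofNat 0, Int.negSucc 1, Int.ofNat 2, Int.ofNat 0, Int.ofNat 0, Int.ofNat 0, Int.negSucc 1, Int.ofNat 0, Int.ofNat 0, Int.ofNat 0, Int.ofNat 2, Int.ofNat 0, Int.ofNat 2, Int.ofNat 0, Int.ofNat 2, Int.ofNat 0, Int.ofNat 0, Int.ofNat 0, Int.ofNat 0, Int.ofNat 2],
  [Int.ofNat 0, Int.ofNat 0, Int.ofNat 0, Int.ofNat 2, Int.ofNat 0, Int.negSucc 1, Int.ofNat 2, Int.ofNat 0, Int.ofNat 0, Int.ofNat 0, Int.ofNat 2, Int.ofNat 0, Int.ofNat 0, Int.ofNat 0, Int.ofNat 2, Int.ofNat 0, Int.ofNat 2, Int.ofNat 0, Int.negSucc 1, Int.ofNat 0, Int.ofNat 0, Int.ofNat 0, Int.ofNat 0, Int.ofNat 2],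
  [Int.ofNat 0, Int.ofNat 0, Int.ofNat 0, Int.ofNat 0, Int.ofNat 2, Int.ofNat 0, Int.negSucc 1, Int.ofNat 2, Int.ofNat 0, Int.ofNat 0, Int.ofNat 0, Int.ofNat 2, Int.ofNat 0, Int.ofNat 0, Int.ofNat 0, Int.ofNat 2, Int.ofNat 0, Int.ofNat 2, Int.ofNat 0, Int.negSucc 1, Int.ofNat 0, Int.ofNat 0, Int.ofNat 0, Int.ofNat 2],
  [Int.ofNat 1, Int.ofNat 1, Int.ofNat 1, Int.negSucc 0, Int.ofNat 1, Int.negSucc 0, Int.negSucc 0, Int.ofNat 3, Int.negSucc 0, Int.negSucc 0, Int.negSucc 0, Int.ofNat 1, Int.negSucc 0, Int.negSucc 0, Int.negSucc 0, Int.ofNat 1, Int.negSucc 0, Int.ofNat 1, Int.negSucc 0, Int.negSucc 0, Int.negSucc 0, Int.ofNat 1, Int.negSucc 0, Int.negSucc 0],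
  [Int.negSucc 0, Int.ofNat 1, Int.negSucc 0, Int.negSucc 0, Int.ofNat 3, Int.negSucc 0, Int.negSucc 0, Int.negSucc 0, Int.ofNat 1, Int.negSucc 0, Int.negSucc 0, Int.negSucc 0, Int.ofNat 1, Int.negSucc 0, Int.ofNat 1, Int.negSucc 0, Int.negSucc 0, Int.negSucc 0, Int.ofNat 1, Int.negSucc 0, Int.ofNat 1, Int.ofNat 1, Int.ofNat 1, Int.negSucc 0],
  [Int.ofNat 0, Int.negSucc 1, Int.ofNat 0, Int.ofNat 0, Int.ofNat 2, Int.ofNat 0, Int.ofNat 0, Int.ofNat 0, Int.ofNat 0, Int.ofNat 0, Int.ofNat 0, Int.negSucc 1, Int.ofNat 0, Int.negSucc 1, Int.ofNat 2, Int.ofNat 0, Int.negSucc 1, Int.ofNat 0, Int.ofNat 0, Int.ofNat 0, Int.ofNat 2, Int.ofNat 2, Int.ofNat 0, Int.ofNat 0],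
  [Int.ofNat 0, Int.ofNat 0, Int.ofNat 2, Int.ofNat 0, Int.ofNat 0, Int.ofNat 0, Int.ofNat 0, Int.ofNat 0, Int.ofNat 0, Int.negSucc 1, Int.ofNat 2, Int.ofNat 0, Int.ofNat 0, Int.negSucc 1, Int.ofNat 0, Int.ofNat 0, Int.ofNat 0, Int.ofNat 2, Int.negSucc 1, Int.negSucc 1, Int.ofNat 2, Int.ofNat 0, Int.ofNat 0, Int.ofNat 0],
  [Int.ofNat 1, Int.ofNat 1, Int.negSucc 0, Int.negSucc 0, Int.ofNat 1, Int.negSucc 0, Int.ofNat 1, Int.ofNat 1, Int.ofNat 1, Int.negSucc 2, Int.ofNat 1, Int.ofNat 1, Int.ofNat 1, Int.negSucc 0, Int.negSucc 0, Int.negSucc 0, Int.ofNat 1, Int.ofNat 1, Int.negSucc 0, Int.negSucc 0, Int.ofNat 1, Int.ofNat 1, Int.ofNat 1, Int.ofNat 1],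
  [Int.ofNat 1, Int.ofNat 1, Int.ofNat 1, Int.negSucc 0, Int.ofNat 1, Int.ofNat 1, Int.negSucc 0, Int.ofNat 1, Int.ofNat 1, Int.ofNat 3, Int.negSucc 0, Int.ofNat 1, Int.ofNat 1, Int.negSucc 0, Int.negSucc 0, Int.ofNat 1, Int.ofNat 1, Int.ofNat 1, Int.ofNat 1, Int.negSucc 0, Int.ofNat 1, Int.ofNat 1, Int.negSucc 0, Int.ofNat 1],
  [Int.negSucc 0, Int.ofNat 1, Int.ofNat 1, Int.ofNat 1, Int.negSucc 0, Int.negSucc 0, Int.ofNat 1, Int.negSucc 0, Int.ofNat 1, Int.ofNat 1, Int.negSucc 0, Int.ofNat 1, Int.ofNat 1, Int.ofNat 1, Int.ofNat 1, Int.ofNat 1, Int.negSucc 0, Int.ofNat 1, Int.ofNat 3, Int.ofNat 1, Int.ofNat 1, Int.ofNat 1, Int.negSucc 0, Int.ofNat 1],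
  [Int.ofNat 1, Int.negSucc 0, Int.ofNat 1, Int.ofNat 1, Int.ofNat 1, Int.ofNat 1, Int.ofNat 1, Int.ofNat 1, Int.ofNat 1, Int.negSucc 0, Int.negSucc 0, Int.ofNat 1, Int.ofNat 1, Int.negSucc 0, Int.ofNat 3, Int.ofNat 1, Int.negSucc 0, Int.negSucc 0, Int.ofNat 1, Int.ofNat 1, Int.ofNat 1, Int.ofNat 1, Int.ofNat 1, Int.negSucc 0],
  [Int.negSucc 0, Int.negSucc 0, Int.negSucc 0, Int.ofNat 1, Int.ofNat 1, Int.ofNat 1, Int.ofNat 1, Int.negSucc 0, Int.ofNat 1, Int.ofNat 1, Int.ofNat 1, Int.negSucc 0, Int.ofNat 1, Int.negSucc 0, Int.ofNat 3, Int.ofNat 1, Int.negSucc 0, Int.negSucc 0, Int.negSucc 0, Int.ofNat 1, Int.ofNat 1, Int.negSucc 0, Int.ofNat 1, Int.negSucc 0],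
  [Int.ofNat 1, Int.negSucc 0, Int.negSucc 0, Int.negSucc 0, Int.ofNat 1, Int.ofNat 1, Int.ofNat 1, Int.ofNat 1, Int.negSucc 0, Int.ofNat 1, Int.ofNat 1, Int.ofNat 1, Int.negSucc 0, Int.ofNat 1, Int.negSucc 0, Int.ofNat 3, Int.ofNat 1, Int.negSucc 0, Int.negSucc 0, Int.negSucc 0, Int.ofNat 1, Int.ofNat 1, Int.negSucc 0, Int.negSucc 0],
  [Int.negSucc 1, Int.ofNat 0, Int.ofNat 0, Int.ofNat 0, Int.ofNat 0, Int.ofNat 2, Int.ofNat 0, Int.ofNat 0, Int.ofNat 0, Int.negSucc 1, Int.negSucc 1, Int.ofNat 2, Int.ofNat 0, Int.ofNat 0, Int.ofNat 0, Int.ofNat 0, Int.ofNat 0, Int.ofNat 0, Int.ofNat 0, Int.negSucc 1, Int.negSucc 1, Int.ofNat 0, Int.negSucc 1, Int.ofNat 0],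
  [Int.ofNat 0, Int.ofNat 0, Int.ofNat 2, Int.ofNat 0, Int.ofNat 0, Int.ofNat 0, Int.negSucc 1, Int.negSucc 1, Int.ofNat 2, Int.ofNat 0, Int.ofNat 0, Int.ofNat 0, Int.ofNat 0, Int.ofNat 0, Int.ofNat 0, Int.ofNat 0, Int.negSucc 1, Int.negSucc 1, Int.ofNat 0, Int.negSucc 1, Int.negSucc 1, Int.ofNat 0, Int.ofNat 0, Int.ofNat 0],
  [Int.ofNat 1, Int.ofNat 1, Int.negSucc 0, Int.ofNat 1, Int.ofNat 1, Int.ofNat 1, Int.ofNat 1, Int.ofNat 1, Int.ofNat 1, Int.ofNat 1, Int.ofNat 1, Int.negSucc 0, Int.negSucc 0, Int.ofNat 1, Int.ofNat 1, Int.ofNat 1, Int.negSucc 0, Int.negSucc 0, Int.negSucc 0, Int.ofNat 1, Int.negSucc 0, Int.ofNat 3, Int.ofNat 1, Int.ofNat 1],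
  [Int.ofNat 1, Int.ofNat 1, Int.ofNat 1, Int.ofNat 1, Int.negSucc 0, Int.ofNat 1, Int.negSucc 0, Int.ofNat 1, Int.negSucc 0, Int.ofNat 1, Int.negSucc 0, Int.negSucc 0, Int.ofNat 1, Int.negSucc 0, Int.ofNat 1, Int.ofNat 1, Int.ofNat 1, Int.ofNat 1, Int.ofNat 1, Int.negSucc 0, Int.ofNat 3, Int.ofNat 1, Int.ofNat 1, Int.ofNat 1],
  [Int.ofNat 1, Int.ofNat 1, Int.ofNat 1, Int.negSucc 0, Int.negSucc 0, Int.negSucc 0, Int.negSucc 0, Int.ofNat 1, Int.negSucc 0, Int.negSucc 0, Int.negSucc 2, Int.negSucc 0, Int.ofNat 1, Int.negSucc 0, Int.negSucc 0, Int.negSucc 0, Int.ofNat 1, Int.negSucc 0, Int.ofNat 1, Int.negSucc 0, Int.ofNat 1, Int.ofNat 1, Int.ofNat 1, Int.ofNat 1],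
  [Int.ofNat 1, Int.ofNat 1, Int.negSucc 0, Int.negSucc 0, Int.negSucc 0, Int.ofNat 1, Int.ofNat 1, Int.ofNat 1, Int.negSucc 0, Int.ofNat 1, Int.ofNat 3, Int.negSucc 0, Int.ofNat 1, Int.negSucc 0, Int.negSucc 0, Int.ofNat 1, Int.ofNat 1, Int.negSucc 0, Int.negSucc 0, Int.negSucc 0, Int.ofNat 1, Int.ofNat 1, Int.negSucc 0, Int.ofNat 1],
  [Int.ofNat 3, Int.ofNat 1, Int.negSucc 0, Int.negSucc 0, Int.negSucc 0, Int.ofNat 1, Int.ofNat 1, Int.negSucc 0, Int.ofNat 1, Int.ofNat 1, Int.negSucc 0, Int.ofNat 1, Int.ofNat 1, Int.negSucc 0, Int.negSucc 0, Int.negSucc 0, Int.negSucc 0, Int.ofNat 1, Int.ofNat 1, Int.negSucc 0, Int.ofNat 1, Int.ofNat 1, Int.negSucc 0, Int.ofNat 1],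
  [Int.ofNat 3, Int.ofNat 1, Int.ofNat 1, Int.negSucc 0, Int.negSucc 0, Int.negSucc 0, Int.negSucc 0, Int.negSucc 0, Int.ofNat 1, Int.negSucc 0, Int.ofNat 1, Int.ofNat 1, Int.ofNat 1, Int.negSucc 0, Int.negSucc 0, Int.ofNat 1, Int.negSucc 0, Int.ofNat 1, Int.negSucc 0, Int.negSucc 0, Int.ofNat 1, Int.ofNat 1, Int.ofNat 1, Int.ofNat 1],
  [Int.ofNat 0, Int.ofNat 2, Int.ofNat 2, Int.ofNat 0, Int.ofNat 0, Int.ofNat 0, Int.ofNat 0, Int.ofNat 0, Int.ofNat 0, Int.negSucc 1, Int.ofNat 0, Int.ofNat 0, Int.ofNat 0, Int.ofNat 0, Int.ofNat 0, Int.ofNat 0, Int.ofNat 0, Int.ofNat 2, Int.negSucc 1, Int.ofNat 0, Int.ofNat 0, Int.ofNat 2, Int.ofNat 2, Int.ofNat 2],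
  [Int.ofNat 0, Int.negSucc 1, Int.ofNat 0, Int.ofNat 0, Int.ofNat 2, Int.ofNat 2, Int.ofNat 2, Int.ofNat 0, Int.ofNat 0, Int.ofNat 0, Int.ofNat 0, Int.ofNat 0, Int.ofNat 0, Int.negSucc 1, Int.ofNat 2, Int.ofNat 0, Int.ofNat 0, Int.ofNat 0, Int.ofNat 0, Int.ofNat 2, Int.ofNat 0, Int.ofNat 0, Int.ofNat 0, Int.ofNat 2],
  [Int.ofNat 0, Int.ofNat 2, Int.ofNat 0, Int.negSucc 1, Int.ofNat 2, Int.ofNat 0, Int.ofNat 0, Int.negSucc 1, Int.ofNat 0, Int.ofNat 0, Int.ofNat 0, Int.ofNat 0, Int.ofNat 0, Int.negSucc 1, Int.ofNat 0, Int.ofNat 0, Int.ofNat 0, Int.negSucc 1, Int.ofNat 0, Int.ofNat 0, Int.ofNat 0, Int.negSucc 1, Int.ofNat 0, Int.negSucc 1],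
  [Int.ofNat 0, Int.negSucc 1, Int.ofNat 0, Int.ofNat 0, Int.ofNat 2, Int.ofNat 0, Int.negSucc 1, Int.ofNat 2, Int.ofNat 0, Int.ofNat 0, Int.negSucc 1, Int.ofNat 0, Int.ofNat 0, Int.ofNat 0, Int.ofNat 0, Int.ofNat 0, Int.negSucc 1, Int.ofNat 0, Int.ofNat 0, Int.ofNat 0, Int.negSucc 1, Int.ofNat 0, Int.ofNat 0, Int.negSucc 1],
  [Int.negSucc 1, Int.ofNat 0, Int.negSucc 1, Int.ofNat 0, Int.ofNat 2, Int.ofNat 0, Int.negSucc 1, Int.ofNat 2, Int.ofNat 0, Int.ofNat 2, Int.ofNat 0, Int.ofNat 0, Int.ofNat 0, Int.ofNat 0, Int.ofNat 0, Int.ofNat 2, Int.negSucc 1, Int.ofNat 0, Int.ofNat 0, Int.ofNat 0, Int.ofNat 0, Int.ofNat 0, Int.ofNat 0, Int.ofNat 0],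
  [Int.ofNat 0, Int.negSucc 1, Int.ofNat 0, Int.ofNat 2, Int.ofNat 0, Int.negSucc 1, Int.ofNat 2, Int.ofNat 0, Int.ofNat 2, Int.ofNat 0, Int.ofNat 0, Int.ofNat 0, Int.ofNat 0, Int.ofNat 0, Int.ofNat 2, Int.negSucc 1, Int.ofNat 0, Int.ofNat 0, Int.ofNat 0, Int.ofNat 0, Int.ofNat 0, Int.ofNat 0, Int.negSucc 1, Int.ofNat 0],
  [Int.ofNat 0, Int.negSucc 1, Int.ofNat 0, Int.ofNat 2, Int.ofNat 0, Int.negSucc 1, Int.ofNat 2, Int.ofNat 0, Int.ofNat 2, Int.ofNat 0, Int.ofNat 0, Int.ofNat 0, Int.ofNat 0, Int.ofNat 0, Int.ofNat 2, Int.negSucc 1, Int.ofNat 0, Int.ofNat 0, Int.ofNat 0, Int.ofNat 0, Int.ofNat 0, Int.ofNat 0, Int.negSucc 1, Int.ofNat 0],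
  [Int.ofNat 0, Int.ofNat 2, Int.ofNat 0, Int.negSucc 1, Int.ofNat 0, Int.negSucc 1, Int.negSucc 1, Int.ofNat 0, Int.negSucc 1, Int.ofNat 0, Int.ofNat 0, Int.ofNat 0, Int.ofNat 0, Int.ofNat 0, Int.ofNat 2, Int.negSucc 1, Int.ofNat 0, Int.ofNat 0, Int.ofNat 0, Int.ofNat 0, Int.ofNat 0, Int.ofNat 0, Int.negSucc 1, Int.ofNat 0],
  [Int.ofNat 0, Int.ofNat 0, Int.ofNat 0, Int.negSucc 1, Int.ofNat 2, Int.ofNat 0, Int.ofNat 0, Int.ofNat 0, Int.ofNat 0, Int.ofNat 0, Int.ofNat 0, Int.ofNat 2, Int.ofNat 0, Int.negSucc 1, Int.ofNat 0, Int.negSucc 1, Int.ofNat 0, Int.negSucc 1, Int.negSucc 1, Int.ofNat 0, Int.negSucc 1, Int.ofNat 0, Int.ofNat 0, Int.ofNat 0],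
  [Int.ofNat 0, Int.ofNat 0, Int.ofNat 0, Int.negSucc 1, Int.ofNat 2, Int.ofNat 0, Int.ofNat 0, Int.ofNat 0, Int.ofNat 0, Int.ofNat 0, Int.ofNat 0, Int.negSucc 1, Int.ofNat 0, Int.negSucc 1, Int.ofNat 0, Int.negSucc 1, Int.ofNat 0, Int.negSucc 1, Int.ofNat 2, Int.ofNat 0, Int.negSucc 1, Int.ofNat 0, Int.ofNat 0, Int.ofNat 0],
  [Int.ofNat 0, Int.ofNat 0, Int.ofNat 0, Int.ofNat 0, Int.negSucc 1, Int.ofNat 2, Int.ofNat 0, Int.ofNat 0, Int.ofNat 0, Int.ofNat 0, Int.ofNat 0, Int.ofNat 0, Int.negSucc 1, Int.ofNat 0, Int.negSucc 1, Int.ofNat 0, Int.negSucc 1, Int.ofNat 0, Int.negSucc 1, Int.ofNat 2, Int.ofNat 0, Int.negSucc 1, Int.ofNat 0, Int.ofNat 0],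
  [Int.ofNat 0, Int.ofNat 0, Int.ofNat 0, Int.ofNat 0, Int.ofNat 0, Int.ofNat 2, Int.ofNat 0, Int.ofNat 0, Int.ofNat 2, Int.ofNat 0, Int.ofNat 0, Int.ofNat 2, Int.ofNat 0, Int.ofNat 2, Int.negSucc 1, Int.ofNat 0, Int.ofNat 0, Int.ofNat 0, Int.ofNat 0, Int.ofNat 2, Int.ofNat 0, Int.negSucc 1, Int.ofNat 2, Int.ofNat 0],
  [Int.ofNat 0, Int.ofNat 0, Int.ofNat 2, Int.ofNat 0, Int.ofNat 0, Int.ofNat 2, Int.ofNat 0, Int.ofNat 0, Int.ofNat 2, Int.ofNat 0, Int.ofNat 2, Int.negSucc 1, Int.ofNat 0, Int.ofNat 0, Int.ofNat 0, Int.ofNat 0, Int.ofNat 2, Int.ofNat 0, Int.negSucc 1, Int.ofNat 2, Int.ofNat 0, Int.ofNat 0, Int.ofNat 0, Int.ofNat 0],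
  [Int.ofNat 1, Int.ofNat 1, Int.negSucc 0, Int.negSucc 0, Int.negSucc 0, Int.ofNat 1, Int.negSucc 0, Int.negSucc 0, Int.ofNat 3, Int.negSucc 0, Int.ofNat 1, Int.negSucc 0, Int.ofNat 1, Int.negSucc 0, Int.negSucc 0, Int.negSucc 0, Int.ofNat 1, Int.negSucc 0, Int.negSucc 0, Int.ofNat 1, Int.negSucc 0, Int.negSucc 0, Int.negSucc 0, Int.ofNat 1],
  [Int.ofNat 1, Int.negSucc 0, Int.negSucc 0, Int.negSucc 0, Int.negSucc 0, Int.negSucc 0, Int.negSucc 0, Int.ofNat 1, Int.ofNat 1, Int.negSucc 0, Int.negSucc 0, Int.negSucc 0, Int.negSucc 0, Int.ofNat 1, Int.negSucc 0, Int.negSucc 0, Int.ofNat 3, Int.negSucc 0, Int.ofNat 1, Int.negSucc 0, Int.negSucc 0, Int.ofNat 1, Int.ofNat 1, Int.ofNat 1],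
  [Int.negSucc 0, Int.ofNat 1, Int.ofNat 1, Int.ofNat 1, Int.negSucc 2, Int.ofNat 1, Int.negSucc 0, Int.ofNat 1, Int.ofNat 1, Int.ofNat 1, Int.ofNat 1, Int.negSucc 0, Int.negSucc 0, Int.negSucc 0, Int.ofNat 1, Int.ofNat 1, Int.ofNat 1, Int.ofNat 1, Int.ofNat 1, Int.negSucc 0, Int.ofNat 1, Int.ofNat 1, Int.negSucc 0, Int.negSucc 0],
  [Int.negSucc 0, Int.ofNat 1, Int.negSucc 0, Int.ofNat 1, Int.negSucc 2, Int.negSucc 0, Int.ofNat 1, Int.ofNat 1, Int.ofNat 1, Int.negSucc 0, Int.negSucc 0, Int.negSucc 0, Int.negSucc 0, Int.negSucc 0, Int.ofNat 1, Int.negSucc 0, Int.ofNat 1, Int.ofNat 1, Int.negSucc 0, Int.negSucc 0, Int.ofNat 1, Int.ofNat 1, Int.ofNat 1, Int.negSucc 0],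
  [Int.negSucc 0, Int.ofNat 1, Int.negSucc 0, Int.ofNat 1, Int.ofNat 1, Int.ofNat 1, Int.ofNat 1, Int.ofNat 1, Int.negSucc 0, Int.ofNat 1, Int.negSucc 0, Int.ofNat 1, Int.negSucc 0, Int.negSucc 2, Int.ofNat 1, Int.negSucc 0, Int.negSucc 0, Int.negSucc 0, Int.negSucc 0, Int.negSucc 0, Int.negSucc 0, Int.ofNat 1, Int.ofNat 1, Int.negSucc 0],
  [Int.negSucc 0, Int.ofNat 1, Int.ofNat 1, Int.negSucc 0, Int.negSucc 0, Int.ofNat 1, Int.negSucc 0, Int.negSucc 2, Int.negSucc 0, Int.ofNat 1, Int.negSucc 0, Int.negSucc 0, Int.ofNat 1, Int.ofNat 1, Int.negSucc 0, Int.ofNat 1, Int.negSucc 0, Int.ofNat 1, Int.ofNat 1, Int.ofNat 1, Int.negSucc 0, Int.negSucc 0, Int.ofNat 1, Int.negSucc 0],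
  [Int.ofNat 1, Int.ofNat 1, Int.negSucc 0, Int.negSucc 0, Int.negSucc 0, Int.ofNat 1, Int.negSucc 0, Int.ofNat 3, Int.negSucc 0, Int.negSucc 0, Int.ofNat 1, Int.ofNat 1, Int.ofNat 1, Int.ofNat 1, Int.negSucc 0, Int.ofNat 1, Int.negSucc 0, Int.ofNat 1, Int.negSucc 0, Int.ofNat 1, Int.negSucc 0, Int.ofNat 1, Int.ofNat 1, Int.negSucc 0],
  [Int.ofNat 1, Int.ofNat 1, Int.ofNat 1, Int.negSucc 0, Int.negSucc 0, Int.negSucc 0, Int.ofNat 1, Int.negSucc 0, Int.ofNat 3, Int.negSucc 0, Int.negSucc 0, Int.ofNat 1, Int.ofNat 1, Int.ofNat 1, Int.ofNat 1, Int.negSucc 0, Int.ofNat 1, Int.negSucc 0, Int.ofNat 1, Int.negSucc 0, Int.ofNat 1, Int.negSucc 0, Int.ofNat 1, Int.negSucc 0],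
  [Int.ofNat 0, Int.ofNat 0, Int.ofNat 0, Int.ofNat 0, Int.negSucc 1, Int.ofNat 0, Int.ofNat 2, Int.ofNat 0, Int.ofNat 0, Int.ofNat 0, Int.ofNat 0, Int.negSucc 1, Int.negSucc 1, Int.ofNat 0, Int.ofNat 2, Int.ofNat 0, Int.ofNat 0, Int.ofNat 0, Int.negSucc 1, Int.ofNat 0, Int.ofNat 2, Int.ofNat 0, Int.ofNat 0, Int.ofNat 2],
  [Int.ofNat 0, Int.negSucc 1, Int.ofNat 0, Int.ofNat 2, Int.ofNat 0, Int.ofNat 0, Int.ofNat 0, Int.ofNat 0, Int.negSucc 1, Int.negSucc 1, Int.ofNat 0, Int.ofNat 2, Int.ofNat 0, Int.ofNat 0, Int.ofNat 0, Int.negSucc 1, Int.ofNat 0, Int.ofNat 2, Int.ofNat 0, Int.ofNat 0, Int.ofNat 0, Int.ofNat 0, Int.ofNat 0, Int.ofNat 2],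
  [Int.ofNat 0, Int.ofNat 2, Int.ofNat 0, Int.ofNat 0, Int.ofNat 0, Int.negSucc 1, Int.ofNat 0, Int.ofNat 0, Int.negSucc 1, Int.ofNat 0, Int.ofNat 2, Int.ofNat 2, Int.ofNat 0, Int.ofNat 0, Int.negSucc 1, Int.ofNat 0, Int.ofNat 0, Int.ofNat 0, Int.ofNat 0, Int.ofNat 0, Int.ofNat 2, Int.ofNat 0, Int.ofNat 0, Int.negSucc 1],
  [Int.ofNat 0, Int.ofNat 0, Int.ofNat 0, Int.ofNat 0, Int.ofNat 0, Int.ofNat 0, Int.ofNat 0, Int.ofNat 2, Int.ofNat 0, Int.ofNat 0, Int.ofNat 2, Int.ofNat 0, Int.ofNat 0, Int.ofNat 0, Int.ofNat 0, Int.ofNat 0, Int.negSucc 1, Int.negSucc 1, Int.ofNat 2, Int.ofNat 2, Int.ofNat 0, Int.negSucc 1, Int.ofNat 0, Int.negSucc 1],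
  [Int.negSucc 0, Int.negSucc 0, Int.negSucc 0, Int.ofNat 1, Int.ofNat 1, Int.ofNat 1, Int.negSucc 0, Int.ofNat 1, Int.negSucc 0, Int.negSucc 0, Int.ofNat 1, Int.negSucc 0, Int.negSucc 0, Int.ofNat 1, Int.ofNat 1, Int.negSucc 0, Int.negSucc 0, Int.negSucc 0, Int.ofNat 1, Int.ofNat 1, Int.negSucc 0, Int.negSucc 2, Int.ofNat 1, Int.ofNat 1],
  [Int.negSucc 0, Int.negSucc 0, Int.ofNat 1, Int.ofNat 1, Int.ofNat 1, Int.negSucc 0, Int.ofNat 1, Int.ofNat 1, Int.negSucc 0, Int.ofNat 1, Int.negSucc 0, Int.negSucc 0, Int.negSucc 0, Int.ofNat 1, Int.ofNat 1, Int.ofNat 1, Int.negSucc 0, Int.negSucc 0, Int.negSucc 0, Int.ofNat 1, Int.negSucc 0, Int.negSucc 2, Int.negSucc 0, Int.ofNat 1],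
  [Int.negSucc 0, Int.negSucc 0, Int.negSucc 0, Int.ofNat 1, Int.ofNat 1, Int.ofNat 1, Int.negSucc 0, Int.negSucc 0, Int.negSucc 2, Int.negSucc 0, Int.negSucc 0, Int.ofNat 1, Int.negSucc 0, Int.ofNat 1, Int.ofNat 1, Int.negSucc 0, Int.ofNat 1, Int.negSucc 0, Int.ofNat 1, Int.ofNat 1, Int.ofNat 1, Int.negSucc 0, Int.negSucc 0, Int.ofNat 1],
  [Int.negSucc 0, Int.negSucc 0, Int.ofNat 1, Int.ofNat 1, Int.ofNat 1, Int.negSucc 0, Int.ofNat 1, Int.negSucc 0, Int.negSucc 2, Int.ofNat 1, Int.ofNat 1, Int.ofNat 1, Int.negSucc 0, Int.ofNat 1, Int.ofNat 1, Int.ofNat 1, Int.ofNat 1, Int.negSucc 0, Int.negSucc 0, Int.ofNat 1, Int.ofNat 1, Int.negSucc 0, Int.ofNat 1, Int.ofNat 1],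
  [Int.ofNat 1, Int.ofNat 1, Int.negSucc 0, Int.ofNat 1, Int.negSucc 0, Int.negSucc 0, Int.ofNat 1, Int.negSucc 0, Int.negSucc 0, Int.negSucc 0, Int.negSucc 0, Int.ofNat 3, Int.ofNat 1, Int.negSucc 0, Int.ofNat 1, Int.negSucc 0, Int.negSucc 0, Int.negSucc 0, Int.ofNat 1, Int.ofNat 1, Int.negSucc 0, Int.negSucc 0, Int.negSucc 0, Int.negSucc 0],
  [Int.ofNat 1, Int.ofNat 1, Int.ofNat 1, Int.ofNat 1, Int.negSucc 0, Int.negSucc 0, Int.ofNat 1, Int.negSucc 0, Int.negSucc 0, Int.ofNat 1, Int.negSucc 0, Int.ofNat 1, Int.negSucc 0, Int.negSucc 0, Int.negSucc 0, Int.negSucc 0, Int.negSucc 0, Int.ofNat 3, Int.negSucc 0, Int.negSucc 0, Int.negSucc 0, Int.negSucc 0, Int.ofNat 1, Int.negSucc 0],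
  [Int.ofNat 0, Int.ofNat 0, Int.ofNat 0, Int.ofNat 0, Int.ofNat 0, Int.negSucc 1, Int.ofNat 2, Int.ofNat 0, Int.ofNat 0, Int.ofNat 2, Int.ofNat 0, Int.ofNat 2, Int.ofNat 0, Int.ofNat 0, Int.negSucc 1, Int.ofNat 0, Int.ofNat 0, Int.ofNat 2, Int.ofNat 0, Int.ofNat 0, Int.ofNat 0, Int.ofNat 0, Int.ofNat 2, Int.ofNat 2],
  [Int.ofNat 0, Int.ofNat 0, Int.ofNat 2, Int.ofNat 0, Int.ofNat 0, Int.ofNat 0, Int.ofNat 0, Int.ofNat 0, Int.negSucc 1, Int.ofNat 2, Int.ofNat 0, Int.ofNat 0, Int.ofNat 2, Int.ofNat 0, Int.ofNat 2, Int.ofNat 0, Int.ofNat 0, Int.negSucc 1, Int.ofNat 0, Int.ofNat 0, Int.ofNat 2, Int.ofNat 0, Int.ofNat 0, Int.ofNat 2],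
  [Int.ofNat 2, Int.ofNat 2, Int.ofNat 0, Int.ofNat 0, Int.ofNat 0, Int.ofNat 0, Int.ofNat 0, Int.ofNat 0, Int.negSucc 1, Int.ofNat 0, Int.negSucc 1, Int.ofNat 0, Int.ofNat 2, Int.ofNat 0, Int.ofNat 2, Int.negSucc 1, Int.ofNat 0, Int.negSucc 1, Int.ofNat 0, Int.ofNat 0, Int.ofNat 0, Int.ofNat 0, Int.ofNat 0, Int.ofNat 0],
  [Int.ofNat 2, Int.ofNat 0, Int.ofNat 0, Int.ofNat 0, Int.ofNat 0, Int.ofNat 0, Int.ofNat 0, Int.negSucc 1, Int.ofNat 0, Int.negSucc 1, Int.ofNat 0, Int.ofNat 2, Int.ofNat 0, Int.ofNat 2, Int.negSucc 1, Int.ofNat 0, Int.negSucc 1, Int.ofNat 0, Int.ofNat 0, Int.ofNat 0, Int.ofNat 0, Int.ofNat 0, Int.ofNat 2, Int.ofNat 0],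
  [Int.negSucc 1, Int.ofNat 0, Int.ofNat 0, Int.ofNat 0, Int.ofNat 0, Int.ofNat 0, Int.ofNat 0, Int.ofNat 2, Int.ofNat 0, Int.ofNat 2, Int.ofNat 0, Int.negSucc 1, Int.ofNat 0, Int.ofNat 2, Int.negSucc 1, Int.ofNat 0, Int.negSucc 1, Int.ofNat 0, Int.ofNat 0, Int.ofNat 0, Int.ofNat 0, Int.ofNat 0, Int.ofNat 2, Int.ofNat 0]]

set_option maxRecDepth 100000 in
theorem c1te17_chk : pmChk (List.replicate 14 [17, 0, 26, 25]).flatten nxL c1te17M 0 0 = true := by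
  decide +kernel

theorem c1te17_ne : wE letE2 (List.replicate 14 [17, 0, 26, 25]).flatten ≠ 1 ∧ wE letE2 (List.replicate 14 [17, 0, 26, 25]).flatten ≠ negElt :=
  ne_pm_of_chk nxL_mem c1te17_chk

set_option maxRecDepth 100000 in
def c1te18M : List (List ℤ) :=
  [[Int.ofNat 4, Int.ofNat 0, Int.ofNat 0, Int.ofNat 0, Int.ofNat 0, Int.ofNat 0, Int.ofNat 0, Int.ofNat 0, Int.ofNat 0, Int.ofNat 0, Int.ofNat 0, Int.ofNat 0, Int.ofNat 0, Int.ofNat 0, Int.ofNat 0, Int.ofNat 0, Int.ofNat 0, Int.ofNat 0, Int.ofNat 0, Int.ofNat 0, Int.ofNat 0, Int.ofNat 0, Int.ofNat 0, Int.ofNat 4],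
  [Int.ofNat 4, Int.ofNat 0, Int.ofNat 0, Int.ofNat 0, Int.ofNat 0, Int.ofNat 0, Int.ofNat 0, Int.ofNat 0, Int.ofNat 0, Int.ofNat 0, Int.ofNat 0, Int.ofNat 0, Int.ofNat 0, Int.ofNat 0, Int.ofNat 0, Int.ofNat 0, Int.ofNat 0, Int.ofNat 0, Int.ofNat 0, Int.ofNat 0, Int.ofNat 0, Int.ofNat 0, Int.ofNat 0, Int.ofNat 4],
  [Int.negSucc 3, Int.ofNat 0, Int.ofNat 0, Int.ofNat 0, Int.ofNat 0, Int.ofNat 0, Int.ofNat 0, Int.ofNat 0, Int.ofNat 0, Int.ofNat 0, Int.ofNat 0, Int.ofNat 0, Int.ofNat 0, Int.ofNat 0, Int.ofNat 0, Int.ofNat 0, Int.ofNat 0, Int.ofNat 0, Int.ofNat 0, Int.ofNat 0, Int.ofNat 0, Int.ofNat 0, Int.ofNat 0, Int.ofNat 4],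
  [Int.ofNat 0, Int.negSucc 3, Int.ofNat 0, Int.ofNat 0, Int.ofNat 0, Int.ofNat 0, Int.ofNat 0, Int.ofNat 0, Int.ofNat 0, Int.ofNat 0, Int.ofNat 0, Int.ofNat 0, Int.ofNat 0, Int.ofNat 0, Int.ofNat 0, Int.ofNat 0, Int.ofNat 0, Int.ofNat 0, Int.ofNat 0, Int.ofNat 0, Int.ofNat 0, Int.ofNat 0, Int.ofNat 0, Int.ofNat 4],
  [Int.ofNat 0, Int.ofNat 4, Int.ofNat 0, Int.ofNat 0, Int.ofNat 0, Int.ofNat 0, Int.ofNat 0, Int.ofNat 0, Int.ofNat 0, Int.ofNat 0, Int.ofNat 0, Int.ofNat 0, Int.ofNat 0, Int.ofNat 0, Int.ofNat 0, Int.ofNat 0, Int.ofNat 0, Int.ofNat 0, Int.ofNat 0, Int.ofNat 0, Int.ofNat 0, Int.ofNat 0, Int.ofNat 0, Int.negSucc 3],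
  [Int.ofNat 0, Int.ofNat 0, Int.ofNat 0, Int.ofNat 0, Int.ofNat 0, Int.ofNat 0, Int.ofNat 0, Int.ofNat 0, Int.ofNat 0, Int.ofNat 0, Int.ofNat 0, Int.ofNat 0, Int.ofNat 0, Int.ofNat 0, Int.ofNat 0, Int.ofNat 0, Int.ofNat 0, Int.ofNat 0, Int.ofNat 0, Int.ofNat 0, Int.ofNat 0, Int.ofNat 4, Int.ofNat 0, Int.negSucc 3],
  [Int.negSucc 1, Int.negSucc 1, Int.negSucc 1, Int.ofNat 0, Int.ofNat 0, Int.ofNat 0, Int.negSucc 1, Int.negSucc 1, Int.ofNat 0, Int.ofNat 0, Int.ofNat 0, Int.ofNat 0, Int.ofNat 0, Int.ofNat 0, Int.ofNat 0, Int.ofNat 0, Int.ofNat 0, Int.ofNat 0, Int.ofNat 0, Int.negSucc 1, Int.ofNat 0, Int.ofNat 2, Int.ofNat 0, Int.ofNat 2],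
  [Int.negSucc 1, Int.negSucc 1, Int.ofNat 0, Int.ofNat 0, Int.ofNat 0, Int.negSucc 1, Int.negSucc 1, Int.ofNat 0, Int.ofNat 0, Int.ofNat 0, Int.ofNat 0, Int.ofNat 0, Int.ofNat 0, Int.ofNat 0, Int.ofNat 0, Int.ofNat 0, Int.ofNat 0, Int.ofNat 0, Int.negSucc 1, Int.ofNat 0, Int.ofNat 2, Int.ofNat 0, Int.negSucc 1, Int.ofNat 2],
  [Int.ofNat 1, Int.ofNat 1, Int.negSucc 0, Int.ofNat 1, Int.ofNat 1, Int.negSucc 0, Int.negSucc 0, Int.ofNat 1, Int.ofNat 1, Int.negSucc 0, Int.negSucc 0, Int.ofNat 1, Int.ofNat 1, Int.ofNat 1, Int.ofNat 1, Int.negSucc 0, Int.ofNat 1, Int.ofNat 1, Int.negSucc 0, Int.ofNat 1, Int.ofNat 1, Int.ofNat 1, Int.negSucc 0, Int.negSucc 2],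
  [Int.ofNat 1, Int.ofNat 1, Int.ofNat 1, Int.ofNat 1, Int.ofNat 1, Int.ofNat 1, Int.ofNat 1, Int.ofNat 1, Int.ofNat 1, Int.ofNat 1, Int.ofNat 1, Int.ofNat 1, Int.ofNat 1, Int.ofNat 1, Int.ofNat 1, Int.ofNat 1, Int.ofNat 1, Int.ofNat 1, Int.ofNat 1, Int.ofNat 1, Int.ofNat 1, Int.ofNat 1, Int.ofNat 1, Int.negSucc 2],
  [Int.ofNat 1, Int.ofNat 1, Int.ofNat 1, Int.ofNat 1, Int.ofNat 1, Int.ofNat 1, Int.ofNat 1, Int.ofNat 1, Int.ofNat 1, Int.ofNat 1, Int.ofNat 1, Int.ofNat 1, Int.ofNat 1, Int.ofNat 1, Int.ofNat 1, Int.ofNat 1, Int.ofNat 1, Int.ofNat 1, Int.ofNat 1, Int.ofNat 1, Int.ofNat 1, Int.ofNat 1, Int.ofNat 1, Int.negSucc 2],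
  [Int.negSucc 2, Int.ofNat 1, Int.ofNat 1, Int.ofNat 1, Int.ofNat 1, Int.ofNat 1, Int.ofNat 1, Int.ofNat 1, Int.ofNat 1, Int.ofNat 1, Int.ofNat 1, Int.ofNat 1, Int.ofNat 1, Int.ofNat 1, Int.ofNat 1, Int.ofNat 1, Int.ofNat 1, Int.ofNat 1, Int.ofNat 1, Int.ofNat 1, Int.ofNat 1, Int.ofNat 1, Int.ofNat 1, Int.ofNat 1],
  [Int.ofNat 3, Int.ofNat 1, Int.negSucc 0, Int.ofNat 1, Int.ofNat 1, Int.ofNat 1, Int.ofNat 1, Int.negSucc 0, Int.ofNat 1, Int.negSucc 0, Int.negSucc 0, Int.negSucc 0, Int.ofNat 1, Int.ofNat 1, Int.ofNat 1, Int.ofNat 1, Int.ofNat 1, Int.ofNat 1, Int.negSucc 0, Int.ofNat 1, Int.ofNat 1, Int.negSucc 0, Int.ofNat 1, Int.ofNat 1],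
  [Int.ofNat 1, Int.ofNat 3, Int.ofNat 1, Int.negSucc 0, Int.ofNat 1, Int.ofNat 1, Int.ofNat 1, Int.ofNat 1, Int.negSucc 0, Int.ofNat 1, Int.negSucc 0, Int.negSucc 0, Int.negSucc 0, Int.ofNat 1, Int.ofNat 1, Int.ofNat 1, Int.ofNat 1, Int.ofNat 1, Int.ofNat 1, Int.negSucc 0, Int.ofNat 1, Int.ofNat 1, Int.negSucc 0, Int.ofNat 1],
  [Int.ofNat 2, Int.ofNat 0, Int.ofNat 2, Int.negSucc 1, Int.ofNat 0, Int.ofNat 0, Int.ofNat 0, Int.ofNat 0, Int.ofNat 0, Int.ofNat 0, Int.negSucc 1, Int.ofNat 0, Int.ofNat 0, Int.ofNat 0, Int.ofNat 0, Int.ofNat 0, Int.ofNat 0, Int.ofNat 0, Int.ofNat 2, Int.negSucc 1, Int.ofNat 0, Int.ofNat 0, Int.negSucc 1, Int.ofNat 2],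
  [Int.negSucc 1, Int.ofNat 0, Int.ofNat 0, Int.ofNat 0, Int.ofNat 0, Int.ofNat 0, Int.ofNat 0, Int.negSucc 1, Int.ofNat 0, Int.ofNat 0, Int.ofNat 0, Int.ofNat 0, Int.ofNat 0, Int.ofNat 0, Int.ofNat 0, Int.ofNat 2, Int.negSucc 1, Int.ofNat 0, Int.ofNat 0, Int.negSucc 1, Int.ofNat 2, Int.ofNat 0, Int.ofNat 2, Int.ofNat 2],
  [Int.ofNat 2, Int.ofNat 0, Int.ofNat 0, Int.ofNat 0, Int.ofNat 0, Int.ofNat 0, Int.ofNat 2, Int.ofNat 0, Int.ofNat 0, Int.negSucc 1, Int.negSucc 1, Int.ofNat 0, Int.ofNat 0, Int.ofNat 0, Int.ofNat 0, Int.ofNat 0, Int.negSucc 1, Int.ofNat 0, Int.ofNat 0, Int.ofNat 0, Int.ofNat 0, Int.ofNat 2, Int.ofNat 2, Int.negSucc 1],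
  [Int.ofNat 2, Int.ofNat 2, Int.ofNat 0, Int.ofNat 0, Int.ofNat 0, Int.ofNat 0, Int.ofNat 0, Int.negSucc 1, Int.ofNat 0, Int.ofNat 0, Int.ofNat 0, Int.ofNat 0, Int.negSucc 1, Int.negSucc 1, Int.ofNat 2, Int.ofNat 0, Int.ofNat 0, Int.ofNat 0, Int.ofNat 0, Int.ofNat 0, Int.ofNat 2, Int.ofNat 0, Int.ofNat 0, Int.negSucc 1],
  [Int.negSucc 0, Int.negSucc 0, Int.ofNat 1, Int.negSucc 0, Int.ofNat 1, Int.negSucc 0, Int.ofNat 1, Int.negSucc 0, Int.ofNat 1, Int.negSucc 0, Int.negSucc 0, Int.ofNat 1, Int.negSucc 0, Int.negSucc 0, Int.ofNat 1, Int.negSucc 0, Int.ofNat 1, Int.negSucc 0, Int.ofNat 1, Int.ofNat 1, Int.ofNat 1, Int.ofNat 1, Int.ofNat 1, Int.ofNat 3],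
  [Int.negSucc 0, Int.negSucc 0, Int.negSucc 0, Int.negSucc 0, Int.ofNat 1, Int.ofNat 1, Int.negSucc 0, Int.negSucc 0, Int.ofNat 1, Int.ofNat 1, Int.ofNat 1, Int.ofNat 1, Int.negSucc 0, Int.negSucc 0, Int.ofNat 1, Int.ofNat 1, Int.ofNat 1, Int.negSucc 0, Int.negSucc 0, Int.ofNat 1, Int.ofNat 1, Int.ofNat 1, Int.negSucc 0, Int.ofNat 3],
  [Int.negSucc 0, Int.ofNat 1, Int.negSucc 0, Int.negSucc 0, Int.ofNat 1, Int.negSucc 0, Int.negSucc 0, Int.ofNat 1, Int.negSucc 0, Int.ofNat 1, Int.negSucc 0, Int.ofNat 1, Int.ofNat 1, Int.ofNat 1, Int.ofNat 1, Int.ofNat 1, Int.negSucc 0, Int.negSucc 0, Int.ofNat 1, Int.negSucc 0, Int.ofNat 1, Int.negSucc 0, Int.ofNat 1, Int.ofNat 3],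
  [Int.negSucc 0, Int.ofNat 1, Int.ofNat 1, Int.negSucc 0, Int.ofNat 1, Int.ofNat 1, Int.ofNat 1, Int.ofNat 1, Int.negSucc 0, Int.negSucc 0, Int.ofNat 1, Int.ofNat 1, Int.ofNat 1, Int.ofNat 1, Int.ofNat 1, Int.negSucc 0, Int.negSucc 0, Int.negSucc 0, Int.negSucc 0, Int.negSucc 0, Int.ofNat 1, Int.negSucc 0, Int.negSucc 0, Int.ofNat 3],
  [Int.ofNat 3, Int.ofNat 1, Int.ofNat 1, Int.negSucc 0, Int.ofNat 1, Int.ofNat 1, Int.ofNat 1, Int.ofNat 1, Int.negSucc 0, Int.negSucc 0, Int.ofNat 1, Int.ofNat 1, Int.ofNat 1, Int.ofNat 1, Int.ofNat 1, Int.negSucc 0, Int.negSucc 0, Int.negSucc 0, Int.negSucc 0, Int.negSucc 0, Int.ofNat 1, Int.negSucc 0, Int.negSucc 0, Int.negSucc 0],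
  [Int.ofNat 3, Int.negSucc 0, Int.ofNat 1, Int.negSucc 0, Int.ofNat 1, Int.negSucc 0, Int.ofNat 1, Int.ofNat 1, Int.negSucc 0, Int.ofNat 1, Int.ofNat 1, Int.negSucc 0, Int.negSucc 0, Int.negSucc 0, Int.negSucc 0, Int.negSucc 0, Int.ofNat 1, Int.ofNat 1, Int.ofNat 1, Int.negSucc 0, Int.ofNat 1, Int.ofNat 1, Int.ofNat 1, Int.negSucc 0],
  [Int.negSucc 1, Int.ofNat 2, Int.ofNat 0, Int.ofNat 0, Int.ofNat 0, Int.ofNat 0, Int.ofNat 0, Int.ofNat 0, Int.ofNat 0, Int.ofNat 0, Int.ofNat 0, Int.ofNat 0, Int.ofNat 0, Int.negSucc 1, Int.ofNat 0, Int.negSucc 1, Int.ofNat 0, Int.ofNat 2, Int.ofNat 2, Int.negSucc 1, Int.ofNat 0, Int.ofNat 0, Int.ofNat 0, Int.ofNat 2],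
  [Int.ofNat 0, Int.ofNat 0, Int.ofNat 0, Int.negSucc 1, Int.ofNat 2, Int.ofNat 0, Int.ofNat 0, Int.ofNat 0, Int.ofNat 0, Int.ofNat 0, Int.ofNat 0, Int.ofNat 0, Int.ofNat 0, Int.ofNat 0, Int.ofNat 0, Int.ofNat 0, Int.negSucc 1, Int.ofNat 0, Int.negSucc 1, Int.ofNat 0, Int.ofNat 2, Int.ofNat 2, Int.negSucc 1, Int.ofNat 2],
  [Int.ofNat 1, Int.ofNat 1, Int.ofNat 1, Int.negSucc 0, Int.ofNat 3, Int.ofNat 1, Int.negSucc 0, Int.negSucc 0, Int.ofNat 1, Int.negSucc 0, Int.negSucc 0, Int.ofNat 1, Int.ofNat 1, Int.ofNat 1, Int.ofNat 1, Int.negSucc 0, Int.negSucc 0, Int.ofNat 1, Int.negSucc 0, Int.negSucc 0, Int.ofNat 1, Int.ofNat 1, Int.negSucc 0, Int.negSucc 0],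
  [Int.ofNat 1, Int.ofNat 1, Int.negSucc 0, Int.ofNat 3, Int.ofNat 1, Int.negSucc 0, Int.negSucc 0, Int.ofNat 1, Int.negSucc 0, Int.negSucc 0, Int.ofNat 1, Int.ofNat 1, Int.ofNat 1, Int.ofNat 1, Int.negSucc 0, Int.negSucc 0, Int.ofNat 1, Int.negSucc 0, Int.negSucc 0, Int.ofNat 1, Int.ofNat 1, Int.negSucc 0, Int.ofNat 1, Int.negSucc 0],
  [Int.negSucc 0, Int.ofNat 1, Int.ofNat 1, Int.ofNat 3, Int.ofNat 1, Int.negSucc 0, Int.negSucc 0, Int.negSucc 0, Int.negSucc 0, Int.ofNat 1, Int.negSucc 0, Int.negSucc 0, Int.ofNat 1, Int.ofNat 1, Int.negSucc 0, Int.negSucc 0, Int.ofNat 1, Int.negSucc 0, Int.ofNat 1, Int.ofNat 1, Int.ofNat 1, Int.ofNat 1, Int.ofNat 1, Int.negSucc 0],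
  [Int.ofNat 1, Int.negSucc 0, Int.negSucc 0, Int.negSucc 2, Int.negSucc 0, Int.negSucc 0, Int.ofNat 1, Int.negSucc 0, Int.ofNat 1, Int.negSucc 0, Int.negSucc 0, Int.negSucc 0, Int.negSucc 0, Int.negSucc 0, Int.negSucc 0, Int.negSucc 0, Int.negSucc 0, Int.negSucc 0, Int.negSucc 0, Int.ofNat 1, Int.ofNat 1, Int.ofNat 1, Int.ofNat 1, Int.negSucc 0],
  [Int.ofNat 1, Int.negSucc 0, Int.negSucc 0, Int.negSucc 2, Int.negSucc 0, Int.negSucc 0, Int.negSucc 0, Int.ofNat 1, Int.negSucc 0, Int.negSucc 0, Int.ofNat 1, Int.negSucc 0, Int.negSucc 0, Int.ofNat 1, Int.ofNat 1, Int.negSucc 0, Int.negSucc 0, Int.ofNat 1, Int.ofNat 1, Int.negSucc 0, Int.negSucc 0, Int.negSucc 0, Int.negSucc 0, Int.negSucc 0],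
  [Int.negSucc 0, Int.negSucc 0, Int.ofNat 1, Int.negSucc 2, Int.negSucc 0, Int.negSucc 0, Int.negSucc 0, Int.negSucc 0, Int.negSucc 0, Int.ofNat 1, Int.negSucc 0, Int.ofNat 1, Int.negSucc 0, Int.ofNat 1, Int.ofNat 1, Int.negSucc 0, Int.negSucc 0, Int.ofNat 1, Int.negSucc 0, Int.negSucc 0, Int.negSucc 0, Int.ofNat 1, Int.negSucc 0, Int.negSucc 0],
  [Int.negSucc 0, Int.negSucc 0, Int.negSucc 0, Int.ofNat 1, Int.negSucc 2, Int.negSucc 0, Int.negSucc 0, Int.negSucc 0, Int.negSucc 0, Int.negSucc 0, Int.ofNat 1, Int.negSucc 0, Int.ofNat 1, Int.negSucc 0, Int.ofNat 1, Int.ofNat 1, Int.negSucc 0, Int.negSucc 0, Int.ofNat 1, Int.negSucc 0, Int.negSucc 0, Int.negSucc 0, Int.ofNat 1, Int.negSucc 0],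
  [Int.negSucc 0, Int.negSucc 0, Int.negSucc 0, Int.ofNat 1, Int.negSucc 0, Int.negSucc 0, Int.ofNat 1, Int.ofNat 1, Int.negSucc 0, Int.negSucc 0, Int.ofNat 1, Int.negSucc 0, Int.ofNat 1, Int.ofNat 1, Int.ofNat 1, Int.ofNat 1, Int.ofNat 1, Int.negSucc 0, Int.ofNat 1, Int.ofNat 1, Int.negSucc 0, Int.ofNat 1, Int.ofNat 3, Int.negSucc 0],
  [Int.ofNat 1, Int.negSucc 0, Int.negSucc 0, Int.ofNat 1, Int.ofNat 1, Int.negSucc 0, Int.negSucc 0, Int.ofNat 1, Int.negSucc 0, Int.ofNat 1, Int.ofNat 1, Int.ofNat 1, Int.ofNat 1, Int.ofNat 1, Int.negSucc 0, Int.ofNat 1, Int.ofNat 1, Int.negSucc 0, Int.ofNat 1, Int.ofNat 3, Int.negSucc 0, Int.negSucc 0, Int.negSucc 0, Int.negSucc 0],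
  [Int.negSucc 1, Int.ofNat 0, Int.ofNat 0, Int.ofNat 2, Int.ofNat 0, Int.ofNat 0, Int.negSucc 1, Int.ofNat 0, Int.negSucc 1, Int.ofNat 0, Int.ofNat 0, Int.ofNat 0, Int.ofNat 0, Int.ofNat 0, Int.ofNat 0, Int.ofNat 0, Int.ofNat 0, Int.ofNat 0, Int.ofNat 0, Int.ofNat 2, Int.negSucc 1, Int.negSucc 1, Int.negSucc 1, Int.ofNat 0],
  [Int.negSucc 1, Int.negSucc 1, Int.ofNat 0, Int.ofNat 2, Int.ofNat 0, Int.ofNat 0, Int.ofNat 0, Int.ofNat 0, Int.ofNat 0, Int.ofNat 0, Int.negSucc 1, Int.ofNat 0, Int.ofNat 0, Int.ofNat 0, Int.negSucc 1, Int.ofNat 0, Int.negSucc 1, Int.ofNat 0, Int.ofNat 0, Int.ofNat 0, Int.negSucc 1, Int.ofNat 0, Int.ofNat 2, Int.ofNat 0],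
  [Int.ofNat 0, Int.ofNat 0, Int.negSucc 1, Int.ofNat 2, Int.ofNat 0, Int.ofNat 0, Int.ofNat 0, Int.ofNat 0, Int.ofNat 0, Int.ofNat 2, Int.ofNat 0, Int.ofNat 0, Int.ofNat 0, Int.ofNat 0, Int.negSucc 1, Int.ofNat 2, Int.negSucc 1, Int.ofNat 0, Int.ofNat 0, Int.ofNat 0, Int.ofNat 0, Int.ofNat 0, Int.ofNat 2, Int.negSucc 1],
  [Int.ofNat 0, Int.ofNat 0, Int.ofNat 2, Int.ofNat 2, Int.ofNat 0, Int.ofNat 0, Int.ofNat 0, Int.ofNat 0, Int.ofNat 0, Int.negSucc 1, Int.ofNat 0, Int.ofNat 0, Int.ofNat 0, Int.ofNat 0, Int.negSucc 1, Int.negSucc 1, Int.negSucc 1, Int.ofNat 0, Int.ofNat 0, Int.ofNat 0, Int.ofNat 0, Int.ofNat 0, Int.negSucc 1, Int.negSucc 1],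
  [Int.ofNat 0, Int.negSucc 1, Int.ofNat 0, Int.ofNat 0, Int.negSucc 1, Int.ofNat 0, Int.ofNat 0, Int.ofNat 2, Int.ofNat 0, Int.ofNat 0, Int.ofNat 0, Int.ofNat 0, Int.negSucc 1, Int.ofNat 0, Int.ofNat 0, Int.ofNat 0, Int.ofNat 0, Int.ofNat 0, Int.negSucc 1, Int.ofNat 2, Int.ofNat 0, Int.ofNat 0, Int.negSucc 1, Int.negSucc 1],
  [Int.negSucc 1, Int.negSucc 1, Int.ofNat 0, Int.ofNat 0, Int.ofNat 0, Int.ofNat 0, Int.ofNat 2, Int.ofNat 0, Int.ofNat 0, Int.ofNat 0, Int.ofNat 0, Int.ofNat 0, Int.ofNat 0, Int.ofNat 2, Int.negSucc 1, Int.ofNat 0, Int.ofNat 0, Int.negSucc 1, Int.ofNat 0, Int.ofNat 0, Int.ofNat 0, Int.negSucc 1, Int.negSucc 1, Int.ofNat 0],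
  [Int.ofNat 2, Int.negSucc 1, Int.ofNat 0, Int.ofNat 0, Int.ofNat 0, Int.ofNat 0, Int.ofNat 2, Int.ofNat 0, Int.ofNat 0, Int.ofNat 0, Int.ofNat 0, Int.ofNat 0, Int.ofNat 0, Int.ofNat 2, Int.negSucc 1, Int.ofNat 0, Int.ofNat 0, Int.negSucc 1, Int.ofNat 0, Int.ofNat 0, Int.ofNat 0, Int.ofNat 2, Int.negSucc 1, Int.ofNat 0],
  [Int.negSucc 1, Int.ofNat 2, Int.negSucc 1, Int.ofNat 0, Int.ofNat 0, Int.ofNat 0, Int.ofNat 0, Int.ofNat 2, Int.ofNat 0, Int.ofNat 0, Int.ofNat 0, Int.ofNat 0, Int.ofNat 0, Int.ofNat 0, Int.ofNat 2, Int.negSucc 1, Int.ofNat 0, Int.ofNat 0, Int.negSucc 1, Int.ofNat 0, Int.ofNat 0, Int.ofNat 0, Int.ofNat 2, Int.ofNat 0],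
  [Int.ofNat 1, Int.negSucc 2, Int.ofNat 1, Int.negSucc 0, Int.negSucc 0, Int.negSucc 0, Int.negSucc 0, Int.ofNat 1, Int.ofNat 1, Int.ofNat 1, Int.ofNat 1, Int.ofNat 1, Int.ofNat 1, Int.negSucc 0, Int.ofNat 1, Int.negSucc 0, Int.negSucc 0, Int.negSucc 0, Int.negSucc 0, Int.negSucc 0, Int.ofNat 1, Int.negSucc 0, Int.ofNat 1, Int.negSucc 0],
  [Int.negSucc 0, Int.negSucc 0, Int.negSucc 0, Int.negSucc 0, Int.ofNat 1, Int.ofNat 1, Int.ofNat 1, Int.ofNat 1, Int.ofNat 1, Int.ofNat 1, Int.negSucc 0, Int.ofNat 1, Int.negSucc 0, Int.negSucc 0, Int.negSucc 0, Int.negSucc 0, Int.negSucc 0, Int.ofNat 1, Int.negSucc 0, Int.ofNat 1, Int.ofNat 1, Int.negSucc 2, Int.ofNat 1, Int.negSucc 0],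
  [Int.negSucc 0, Int.negSucc 0, Int.negSucc 0, Int.negSucc 0, Int.ofNat 1, Int.ofNat 1, Int.ofNat 1, Int.ofNat 1, Int.ofNat 1, Int.ofNat 1, Int.negSucc 0, Int.ofNat 1, Int.negSucc 0, Int.negSucc 0, Int.negSucc 0, Int.negSucc 0, Int.negSucc 0, Int.ofNat 1, Int.negSucc 0, Int.ofNat 1, Int.ofNat 1, Int.negSucc 2, Int.ofNat 1, Int.negSucc 0],
  [Int.negSucc 0, Int.ofNat 1, Int.ofNat 1, Int.negSucc 0, Int.negSucc 0, Int.ofNat 1, Int.negSucc 0, Int.negSucc 0, Int.negSucc 0, Int.negSucc 0, Int.ofNat 1, Int.ofNat 1, Int.ofNat 1, Int.negSucc 0, Int.ofNat 1, Int.negSucc 0, Int.ofNat 1, Int.negSucc 0, Int.negSucc 0, Int.ofNat 1, Int.negSucc 2, Int.ofNat 1, Int.ofNat 1, Int.negSucc 0],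
  [Int.ofNat 1, Int.negSucc 0, Int.negSucc 0, Int.negSucc 0, Int.negSucc 0, Int.ofNat 1, Int.negSucc 0, Int.negSucc 0, Int.negSucc 0, Int.ofNat 1, Int.ofNat 3, Int.ofNat 1, Int.ofNat 1, Int.negSucc 0, Int.ofNat 1, Int.ofNat 1, Int.ofNat 1, Int.negSucc 0, Int.negSucc 0, Int.ofNat 1, Int.negSucc 0, Int.ofNat 1, Int.ofNat 1, Int.ofNat 1],
  [Int.ofNat 1, Int.negSucc 0, Int.ofNat 1, Int.negSucc 0, Int.negSucc 0, Int.negSucc 0, Int.ofNat 1, Int.negSucc 0, Int.negSucc 0, Int.negSucc 0, Int.negSucc 2, Int.ofNat 1, Int.ofNat 1, Int.negSucc 0, Int.ofNat 1, Int.negSucc 0, Int.ofNat 1, Int.negSucc 0, Int.ofNat 1, Int.ofNat 1, Int.negSucc 0, Int.ofNat 1, Int.negSucc 0, Int.ofNat 1],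
  [Int.negSucc 0, Int.negSucc 0, Int.negSucc 0, Int.negSucc 0, Int.ofNat 1, Int.negSucc 0, Int.ofNat 1, Int.ofNat 1, Int.ofNat 1, Int.negSucc 0, Int.negSucc 0, Int.ofNat 1, Int.negSucc 0, Int.ofNat 1, Int.negSucc 0, Int.negSucc 0, Int.ofNat 1, Int.ofNat 1, Int.ofNat 1, Int.negSucc 0, Int.negSucc 2, Int.ofNat 1, Int.negSucc 0, Int.ofNat 1],
  [Int.negSucc 0, Int.negSucc 0, Int.ofNat 1, Int.negSucc 0, Int.ofNat 1, Int.ofNat 1, Int.negSucc 0, Int.ofNat 1, Int.ofNat 1, Int.ofNat 1, Int.ofNat 1, Int.ofNat 1, Int.negSucc 0, Int.ofNat 1, Int.negSucc 0, Int.ofNat 1, Int.ofNat 1, Int.ofNat 1, Int.negSucc 0, Int.negSucc 0, Int.negSucc 2, Int.ofNat 1, Int.ofNat 1, Int.ofNat 1],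
  [Int.ofNat 1, Int.ofNat 1, Int.negSucc 0, Int.negSucc 0, Int.negSucc 0, Int.ofNat 1, Int.negSucc 0, Int.ofNat 1, Int.ofNat 1, Int.ofNat 1, Int.ofNat 1, Int.ofNat 1, Int.negSucc 0, Int.negSucc 0, Int.negSucc 0, Int.ofNat 1, Int.negSucc 0, Int.ofNat 1, Int.negSucc 0, Int.negSucc 0, Int.negSucc 2, Int.ofNat 1, Int.negSucc 0, Int.negSucc 0],
  [Int.ofNat 1, Int.negSucc 0, Int.negSucc 0, Int.negSucc 0, Int.negSucc 0, Int.ofNat 1, Int.ofNat 1, Int.ofNat 1, Int.negSucc 0, Int.negSucc 0, Int.ofNat 1, Int.negSucc 0, Int.ofNat 1, Int.ofNat 1, Int.ofNat 1, Int.ofNat 1, Int.negSucc 0, Int.ofNat 1, Int.negSucc 0, Int.negSucc 0, Int.ofNat 1, Int.negSucc 2, Int.negSucc 0, Int.negSucc 0],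
  [Int.negSucc 1, Int.ofNat 0, Int.ofNat 0, Int.negSucc 1, Int.ofNat 0, Int.ofNat 0, Int.ofNat 2, Int.ofNat 2, Int.ofNat 0, Int.negSucc 1, Int.ofNat 0, Int.ofNat 0, Int.ofNat 2, Int.ofNat 2, Int.ofNat 0, Int.ofNat 0, Int.ofNat 0, Int.ofNat 0, Int.ofNat 0, Int.ofNat 0, Int.ofNat 0, Int.negSucc 1, Int.ofNat 0, Int.ofNat 0],
  [Int.ofNat 0, Int.negSucc 1, Int.ofNat 0, Int.negSucc 1, Int.ofNat 0, Int.ofNat 0, Int.negSucc 1, Int.ofNat 0, Int.ofNat 0, Int.ofNat 2, Int.ofNat 2, Int.ofNat 0, Int.negSucc 1, Int.ofNat 0, Int.ofNat 0, Int.ofNat 2, Int.ofNat 2, Int.ofNat 0, Int.ofNat 0, Int.ofNat 0, Int.ofNat 0, Int.ofNat 0, Int.ofNat 0, Int.ofNat 0],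
  [Int.negSucc 0, Int.ofNat 1, Int.negSucc 0, Int.negSucc 0, Int.negSucc 0, Int.ofNat 1, Int.negSucc 0, Int.ofNat 1, Int.ofNat 1, Int.negSucc 0, Int.negSucc 0, Int.ofNat 1, Int.negSucc 0, Int.negSucc 0, Int.ofNat 1, Int.negSucc 0, Int.ofNat 1, Int.ofNat 1, Int.ofNat 1, Int.ofNat 1, Int.negSucc 2, Int.ofNat 1, Int.negSucc 0, Int.negSucc 0],
  [Int.ofNat 1, Int.negSucc 0, Int.negSucc 0, Int.negSucc 0, Int.ofNat 1, Int.negSucc 0, Int.ofNat 1, Int.ofNat 1, Int.negSucc 0, Int.negSucc 0, Int.ofNat 1, Int.negSucc 0, Int.negSucc 0, Int.ofNat 1, Int.negSucc 0, Int.ofNat 1, Int.ofNat 1, Int.ofNat 1, Int.ofNat 1, Int.negSucc 2, Int.ofNat 1, Int.negSucc 0, Int.negSucc 0, Int.negSucc 0],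
  [Int.negSucc 0, Int.negSucc 0, Int.ofNat 1, Int.negSucc 0, Int.ofNat 1, Int.negSucc 0, Int.ofNat 1, Int.negSucc 0, Int.negSucc 0, Int.ofNat 1, Int.negSucc 0, Int.ofNat 1, Int.negSucc 0, Int.ofNat 1, Int.negSucc 0, Int.ofNat 1, Int.ofNat 1, Int.ofNat 1, Int.negSucc 0, Int.negSucc 2, Int.ofNat 1, Int.ofNat 1, Int.negSucc 0, Int.negSucc 0],
  [Int.ofNat 1, Int.ofNat 1, Int.negSucc 0, Int.ofNat 1, Int.negSucc 0, Int.negSucc 0, Int.negSucc 0, Int.negSucc 0, Int.ofNat 1, Int.negSucc 0, Int.negSucc 0, Int.ofNat 1, Int.ofNat 1, Int.negSucc 0, Int.negSucc 0, Int.ofNat 1, Int.negSucc 0, Int.ofNat 1, Int.ofNat 1, Int.negSucc 2, Int.ofNat 1, Int.ofNat 1, Int.negSucc 0, Int.negSucc 0],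
  [Int.ofNat 1, Int.negSucc 0, Int.ofNat 1, Int.ofNat 1, Int.ofNat 1, Int.negSucc 0, Int.negSucc 0, Int.ofNat 1, Int.negSucc 0, Int.negSucc 0, Int.ofNat 1, Int.negSucc 0, Int.negSucc 0, Int.ofNat 1, Int.negSucc 2, Int.ofNat 1, Int.ofNat 1, Int.negSucc 0, Int.negSucc 0, Int.ofNat 1, Int.negSucc 0, Int.negSucc 0, Int.ofNat 1, Int.negSucc 0],
  [Int.negSucc 0, Int.negSucc 0, Int.negSucc 0, Int.ofNat 1, Int.ofNat 1, Int.negSucc 0, Int.negSucc 0, Int.negSucc 0, Int.negSucc 0, Int.ofNat 1, Int.negSucc 0, Int.ofNat 1, Int.negSucc 0, Int.ofNat 1, Int.negSucc 2, Int.ofNat 1, Int.ofNat 1, Int.negSucc 0, Int.ofNat 1, Int.ofNat 1, Int.negSucc 0, Int.ofNat 1, Int.ofNat 1, Int.negSucc 0],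
  [Int.ofNat 1, Int.negSucc 0, Int.negSucc 0, Int.negSucc 0, Int.ofNat 1, Int.ofNat 1, Int.negSucc 0, Int.negSucc 0, Int.negSucc 0, Int.negSucc 0, Int.ofNat 1, Int.negSucc 0, Int.ofNat 1, Int.negSucc 0, Int.ofNat 1, Int.negSucc 2, Int.ofNat 1, Int.ofNat 1, Int.negSucc 0, Int.ofNat 1, Int.ofNat 1, Int.negSucc 0, Int.ofNat 1, Int.negSucc 0],
  [Int.negSucc 1, Int.ofNat 0, Int.ofNat 0, Int.negSucc 1, Int.ofNat 0, Int.ofNat 0, Int.ofNat 0, Int.ofNat 0, Int.ofNat 0, Int.ofNat 0, Int.ofNat 2, Int.ofNat 0, Int.ofNat 2, Int.negSucc 1, Int.ofNat 0, Int.negSucc 1, Int.ofNat 0, Int.ofNat 0, Int.ofNat 0, Int.ofNat 2, Int.ofNat 2, Int.ofNat 0, Int.ofNat 0, Int.ofNat 0],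
  [Int.negSucc 1, Int.ofNat 0, Int.ofNat 0, Int.ofNat 0, Int.ofNat 0, Int.ofNat 0, Int.ofNat 0, Int.ofNat 2, Int.ofNat 0, Int.ofNat 2, Int.negSucc 1, Int.ofNat 0, Int.negSucc 1, Int.ofNat 0, Int.ofNat 0, Int.ofNat 0, Int.ofNat 2, Int.ofNat 2, Int.ofNat 0, Int.ofNat 0, Int.negSucc 1, Int.ofNat 0, Int.ofNat 0, Int.ofNat 0],
  [Int.ofNat 1, Int.negSucc 0, Int.negSucc 0, Int.negSucc 0, Int.negSucc 0, Int.negSucc 0, Int.negSucc 0, Int.ofNat 1, Int.ofNat 1, Int.ofNat 3, Int.negSucc 0, Int.ofNat 1, Int.negSucc 0, Int.negSucc 0, Int.negSucc 0, Int.ofNat 1, Int.ofNat 1, Int.ofNat 1, Int.ofNat 1, Int.negSucc 0, Int.negSucc 0, Int.negSucc 0, Int.negSucc 0, Int.negSucc 0],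
  [Int.ofNat 1, Int.negSucc 0, Int.negSucc 0, Int.negSucc 0, Int.ofNat 1, Int.ofNat 1, Int.negSucc 0, Int.negSucc 0, Int.negSucc 0, Int.negSucc 0, Int.negSucc 0, Int.ofNat 1, Int.ofNat 3, Int.ofNat 1, Int.negSucc 0, Int.ofNat 1, Int.ofNat 1, Int.negSucc 0, Int.negSucc 0, Int.ofNat 1, Int.negSucc 0, Int.negSucc 0, Int.negSucc 0, Int.negSucc 0],
  [Int.negSucc 1, Int.ofNat 0, Int.ofNat 0, Int.ofNat 0, Int.ofNat 0, Int.ofNat 2, Int.ofNat 0, Int.ofNat 0, Int.negSucc 1, Int.ofNat 0, Int.ofNat 0, Int.ofNat 0, Int.ofNat 2, Int.ofNat 0, Int.ofNat 0, Int.ofNat 2, Int.ofNat 0, Int.ofNat 0, Int.negSucc 1, Int.ofNat 2, Int.ofNat 0, Int.ofNat 0, Int.negSucc 1, Int.ofNat 0],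
  [Int.negSucc 1, Int.ofNat 0, Int.ofNat 0, Int.ofNat 0, Int.ofNat 0, Int.negSucc 1, Int.ofNat 0, Int.ofNat 0, Int.negSucc 1, Int.ofNat 0, Int.ofNat 0, Int.ofNat 0, Int.ofNat 2, Int.ofNat 0, Int.ofNat 0, Int.negSucc 1, Int.ofNat 0, Int.ofNat 0, Int.ofNat 2, Int.ofNat 2, Int.ofNat 0, Int.ofNat 0, Int.ofNat 2, Int.ofNat 0],
  [Int.ofNat 0, Int.ofNat 0, Int.ofNat 0, Int.negSucc 1, Int.ofNat 0, Int.ofNat 0, Int.ofNat 0, Int.ofNat 0, Int.negSucc 1, Int.ofNat 0, Int.ofNat 0, Int.ofNat 0, Int.negSucc 1, Int.ofNat 0, Int.ofNat 0, Int.ofNat 2, Int.ofNat 2, Int.ofNat 2, Int.ofNat 0, Int.ofNat 0, Int.negSucc 1, Int.ofNat 0, Int.ofNat 2, Int.ofNat 0],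
  [Int.ofNat 0, Int.ofNat 2, Int.ofNat 0, Int.ofNat 2, Int.ofNat 2, Int.ofNat 0, Int.ofNat 0, Int.ofNat 0, Int.negSucc 1, Int.ofNat 0, Int.ofNat 2, Int.ofNat 0, Int.ofNat 0, Int.ofNat 0, Int.ofNat 0, Int.negSucc 1, Int.ofNat 0, Int.ofNat 0, Int.ofNat 0, Int.ofNat 0, Int.negSucc 1, Int.negSucc 1, Int.ofNat 0, Int.ofNat 0],
  [Int.ofNat 0, Int.ofNat 2, Int.ofNat 0, Int.ofNat 2, Int.ofNat 2, Int.ofNat 0, Int.ofNat 0, Int.ofNat 0, Int.negSucc 1, Int.ofNat 0, Int.negSucc 1, Int.ofNat 0, Int.ofNat 0, Int.ofNat 0, Int.ofNat 0, Int.negSucc 1, Int.ofNat 0, Int.ofNat 0, Int.ofNat 0, Int.ofNat 0, Int.negSucc 1, Int.ofNat 2, Int.ofNat 0, Int.ofNat 0],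
  [Int.ofNat 0, Int.ofNat 0, Int.ofNat 2, Int.ofNat 0, Int.ofNat 2, Int.ofNat 2, Int.ofNat 0, Int.ofNat 0, Int.ofNat 0, Int.negSucc 1, Int.ofNat 0, Int.negSucc 1, Int.ofNat 0, Int.ofNat 0, Int.ofNat 0, Int.ofNat 0, Int.negSucc 1, Int.ofNat 0, Int.ofNat 0, Int.ofNat 0, Int.ofNat 0, Int.negSucc 1, Int.ofNat 2, Int.ofNat 0],
  [Int.ofNat 1, Int.ofNat 1, Int.negSucc 0, Int.negSucc 0, Int.ofNat 1, Int.ofNat 1, Int.ofNat 1, Int.ofNat 1, Int.ofNat 1, Int.negSucc 0, Int.ofNat 1, Int.negSucc 0, Int.ofNat 1, Int.negSucc 0, Int.negSucc 0, Int.ofNat 1, Int.negSucc 2, Int.negSucc 0, Int.ofNat 1, Int.ofNat 1, Int.ofNat 1, Int.negSucc 0, Int.ofNat 1, Int.ofNat 1],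
  [Int.negSucc 0, Int.ofNat 1, Int.ofNat 1, Int.ofNat 1, Int.ofNat 1, Int.ofNat 1, Int.negSucc 0, Int.ofNat 1, Int.negSucc 0, Int.ofNat 1, Int.negSucc 0, Int.negSucc 0, Int.ofNat 1, Int.negSucc 2, Int.negSucc 0, Int.ofNat 1, Int.ofNat 1, Int.ofNat 1, Int.negSucc 0, Int.ofNat 1, Int.ofNat 1, Int.ofNat 1, Int.negSucc 0, Int.ofNat 1],
  [Int.ofNat 2, Int.ofNat 0, Int.ofNat 0, Int.ofNat 0, Int.ofNat 2, Int.ofNat 0, Int.negSucc 1, Int.ofNat 0, Int.ofNat 0, Int.ofNat 0, Int.negSucc 1, Int.ofNat 0, Int.ofNat 2, Int.negSucc 1, Int.negSucc 1, Int.ofNat 0, Int.ofNat 2, Int.ofNat 0, Int.ofNat 0, Int.ofNat 0, Int.ofNat 0, Int.ofNat 0, Int.ofNat 0, Int.ofNat 0],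
  [Int.ofNat 2, Int.negSucc 1, Int.ofNat 2, Int.ofNat 0, Int.ofNat 0, Int.ofNat 0, Int.ofNat 0, Int.negSucc 1, Int.ofNat 2, Int.negSucc 1, Int.ofNat 0, Int.ofNat 0, Int.ofNat 0, Int.ofNat 2, Int.ofNat 0, Int.ofNat 0, Int.ofNat 0, Int.negSucc 1, Int.ofNat 0, Int.ofNat 0, Int.ofNat 0, Int.ofNat 0, Int.ofNat 0, Int.ofNat 0],
  [Int.negSucc 0, Int.ofNat 3, Int.negSucc 0, Int.ofNat 1, Int.negSucc 0, Int.ofNat 1, Int.ofNat 1, Int.negSucc 0, Int.ofNat 1, Int.negSucc 0, Int.ofNat 1, Int.negSucc 0, Int.negSucc 0, Int.ofNat 1, Int.ofNat 1, Int.ofNat 1, Int.negSucc 0, Int.negSucc 0, Int.negSucc 0, Int.ofNat 1, Int.ofNat 1, Int.ofNat 1, Int.negSucc 0, Int.ofNat 1],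
  [Int.negSucc 0, Int.ofNat 3, Int.ofNat 1, Int.ofNat 1, Int.negSucc 0, Int.negSucc 0, Int.negSucc 0, Int.negSucc 0, Int.ofNat 1, Int.ofNat 1, Int.negSucc 0, Int.negSucc 0, Int.negSucc 0, Int.ofNat 1, Int.ofNat 1, Int.negSucc 0, Int.negSucc 0, Int.negSucc 0, Int.ofNat 1, Int.ofNat 1, Int.ofNat 1, Int.ofNat 1, Int.ofNat 1, Int.ofNat 1],
  [Int.negSucc 0, Int.negSucc 0, Int.ofNat 1, Int.ofNat 3, Int.ofNat 1, Int.ofNat 1, Int.ofNat 1, Int.negSucc 0, Int.negSucc 0, Int.ofNat 1, Int.negSucc 0, Int.ofNat 1, Int.negSucc 0, Int.negSucc 0, Int.ofNat 1, Int.ofNat 1, Int.ofNat 1, Int.negSucc 0, Int.ofNat 1, Int.ofNat 1, Int.negSucc 0, Int.negSucc 0, Int.negSucc 0, Int.ofNat 1],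
  [Int.negSucc 0, Int.negSucc 0, Int.negSucc 0, Int.ofNat 3, Int.ofNat 1, Int.negSucc 0, Int.negSucc 0, Int.negSucc 0, Int.negSucc 0, Int.negSucc 0, Int.ofNat 1, Int.ofNat 1, Int.negSucc 0, Int.negSucc 0, Int.ofNat 1, Int.negSucc 0, Int.ofNat 1, Int.negSucc 0, Int.negSucc 0, Int.ofNat 1, Int.negSucc 0, Int.negSucc 0, Int.ofNat 1, Int.ofNat 1],
  [Int.ofNat 0, Int.ofNat 0, Int.ofNat 0, Int.ofNat 2, Int.ofNat 0, Int.negSucc 1, Int.ofNat 0, Int.ofNat 0, Int.ofNat 0, Int.ofNat 0, Int.ofNat 2, Int.ofNat 2, Int.ofNat 0, Int.negSucc 1, Int.ofNat 0, Int.ofNat 0, Int.ofNat 0, Int.negSucc 1, Int.ofNat 0, Int.ofNat 2, Int.ofNat 0, Int.ofNat 0, Int.ofNat 0, Int.negSucc 1],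
  [Int.ofNat 0, Int.ofNat 0, Int.ofNat 0, Int.ofNat 2, Int.ofNat 0, Int.ofNat 0, Int.ofNat 0, Int.negSucc 1, Int.ofNat 0, Int.ofNat 0, Int.ofNat 0, Int.ofNat 2, Int.ofNat 0, Int.ofNat 0, Int.negSucc 1, Int.ofNat 0, Int.negSucc 1, Int.ofNat 2, Int.ofNat 0, Int.ofNat 0, Int.ofNat 2, Int.ofNat 0, Int.ofNat 0, Int.negSucc 1],
  [Int.negSucc 0, Int.negSucc 0, Int.negSucc 0, Int.ofNat 1, Int.ofNat 1, Int.negSucc 0, Int.ofNat 1, Int.negSucc 0, Int.negSucc 0, Int.negSucc 0, Int.negSucc 0, Int.ofNat 1, Int.negSucc 0, Int.ofNat 1, Int.negSucc 2, Int.negSucc 0, Int.negSucc 0, Int.ofNat 1, Int.negSucc 0, Int.ofNat 1, Int.ofNat 1, Int.ofNat 1, Int.ofNat 1, Int.ofNat 1],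
  [Int.ofNat 1, Int.ofNat 1, Int.ofNat 1, Int.negSucc 0, Int.negSucc 0, Int.negSucc 0, Int.ofNat 1, Int.ofNat 1, Int.negSucc 0, Int.ofNat 1, Int.negSucc 0, Int.negSucc 0, Int.negSucc 0, Int.negSucc 0, Int.ofNat 1, Int.negSucc 0, Int.ofNat 1, Int.negSucc 2, Int.negSucc 0, Int.negSucc 0, Int.ofNat 1, Int.negSucc 0, Int.ofNat 1, Int.ofNat 1],
  [Int.ofNat 1, Int.ofNat 1, Int.ofNat 1, Int.ofNat 1, Int.negSucc 0, Int.ofNat 1, Int.ofNat 1, Int.ofNat 1, Int.ofNat 1, Int.ofNat 1, Int.negSucc 0, Int.ofNat 1, Int.ofNat 1, Int.negSucc 0, Int.ofNat 3, Int.negSucc 0, Int.ofNat 1, Int.negSucc 0, Int.ofNat 1, Int.negSucc 0, Int.ofNat 1, Int.negSucc 0, Int.ofNat 1, Int.ofNat 1],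
  [Int.ofNat 1, Int.ofNat 1, Int.ofNat 1, Int.negSucc 0, Int.ofNat 1, Int.ofNat 1, Int.ofNat 1, Int.ofNat 1, Int.ofNat 1, Int.negSucc 0, Int.ofNat 1, Int.ofNat 1, Int.negSucc 0, Int.ofNat 3, Int.negSucc 0, Int.ofNat 1, Int.negSucc 0, Int.ofNat 1, Int.negSucc 0, Int.ofNat 1, Int.negSucc 0, Int.ofNat 1, Int.ofNat 1, Int.ofNat 1],
  [Int.negSucc 0, Int.ofNat 1, Int.negSucc 0, Int.negSucc 0, Int.ofNat 1, Int.ofNat 1, Int.ofNat 1, Int.negSucc 0, Int.ofNat 1, Int.ofNat 1, Int.negSucc 0, Int.negSucc 0, Int.negSucc 0, Int.ofNat 3, Int.negSucc 0, Int.ofNat 1, Int.negSucc 0, Int.ofNat 1, Int.ofNat 1, Int.ofNat 1, Int.negSucc 0, Int.negSucc 0, Int.ofNat 1, Int.ofNat 1],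
  [Int.ofNat 1, Int.negSucc 0, Int.ofNat 1, Int.ofNat 1, Int.negSucc 0, Int.ofNat 1, Int.negSucc 0, Int.negSucc 0, Int.negSucc 0, Int.negSucc 0, Int.negSucc 0, Int.negSucc 0, Int.ofNat 1, Int.negSucc 2, Int.negSucc 0, Int.ofNat 1, Int.ofNat 1, Int.ofNat 1, Int.negSucc 0, Int.ofNat 1, Int.negSucc 0, Int.negSucc 0, Int.ofNat 1, Int.ofNat 1],
  [Int.ofNat 1, Int.ofNat 1, Int.negSucc 0, Int.ofNat 1, Int.negSucc 0, Int.negSucc 0, Int.negSucc 0, Int.negSucc 0, Int.negSucc 0, Int.ofNat 1, Int.negSucc 0, Int.negSucc 0, Int.negSucc 2, Int.negSucc 0, Int.ofNat 1, Int.ofNat 1, Int.ofNat 1, Int.ofNat 1, Int.negSucc 0, Int.ofNat 1, Int.ofNat 1, Int.negSucc 0, Int.negSucc 0, Int.ofNat 1],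
  [Int.negSucc 0, Int.ofNat 1, Int.ofNat 1, Int.ofNat 1, Int.negSucc 0, Int.negSucc 0, Int.negSucc 0, Int.ofNat 1, Int.negSucc 0, Int.negSucc 0, Int.ofNat 1, Int.ofNat 1, Int.negSucc 2, Int.negSucc 0, Int.ofNat 1, Int.ofNat 1, Int.ofNat 1, Int.ofNat 1, Int.ofNat 1, Int.ofNat 1, Int.ofNat 1, Int.ofNat 1, Int.negSucc 0, Int.ofNat 1],
  [Int.negSucc 0, Int.negSucc 0, Int.ofNat 1, Int.ofNat 1, Int.ofNat 1, Int.negSucc 0, Int.negSucc 0, Int.negSucc 0, Int.ofNat 1, Int.negSucc 0, Int.negSucc 0, Int.ofNat 1, Int.ofNat 1, Int.negSucc 2, Int.negSucc 0, Int.ofNat 1, Int.ofNat 1, Int.ofNat 1, Int.ofNat 1, Int.ofNat 1, Int.ofNat 1, Int.ofNat 1, Int.ofNat 1, Int.ofNat 1],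
  [Int.ofNat 1, Int.ofNat 1, Int.negSucc 0, Int.ofNat 1, Int.ofNat 1, Int.negSucc 0, Int.negSucc 0, Int.negSucc 0, Int.negSucc 0, Int.negSucc 0, Int.negSucc 0, Int.negSucc 0, Int.negSucc 0, Int.negSucc 2, Int.negSucc 0, Int.ofNat 1, Int.ofNat 1, Int.ofNat 1, Int.negSucc 0, Int.ofNat 1, Int.ofNat 1, Int.ofNat 1, Int.ofNat 1, Int.negSucc 0],
  [Int.ofNat 1, Int.ofNat 1, Int.negSucc 0, Int.negSucc 0, Int.negSucc 0, Int.negSucc 0, Int.negSucc 0, Int.negSucc 0, Int.negSucc 0, Int.negSucc 0, Int.negSucc 2, Int.negSucc 0, Int.ofNat 1, Int.ofNat 1, Int.ofNat 1, Int.negSucc 0, Int.ofNat 1, Int.ofNat 1, Int.ofNat 1, Int.ofNat 1, Int.ofNat 1, Int.ofNat 1, Int.negSucc 0, Int.negSucc 0],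
  [Int.negSucc 0, Int.negSucc 0, Int.ofNat 1, Int.negSucc 0, Int.negSucc 0, Int.negSucc 0, Int.negSucc 0, Int.negSucc 0, Int.negSucc 0, Int.ofNat 1, Int.negSucc 0, Int.negSucc 0, Int.ofNat 1, Int.ofNat 1, Int.ofNat 1, Int.ofNat 1, Int.ofNat 1, Int.ofNat 1, Int.ofNat 1, Int.ofNat 1, Int.ofNat 3, Int.ofNat 1, Int.negSucc 0, Int.ofNat 1],
  [Int.negSucc 0, Int.negSucc 0, Int.negSucc 0, Int.negSucc 0, Int.ofNat 1, Int.negSucc 0, Int.ofNat 1, Int.negSucc 0, Int.ofNat 1, Int.ofNat 1, Int.ofNat 3, Int.ofNat 1, Int.ofNat 1, Int.ofNat 1, Int.negSucc 0, Int.ofNat 1, Int.negSucc 0, Int.ofNat 1, Int.negSucc 0, Int.negSucc 0, Int.ofNat 1, Int.negSucc 0, Int.ofNat 1, Int.ofNat 1],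
  [Int.ofNat 0, Int.ofNat 0, Int.ofNat 0, Int.ofNat 0, Int.ofNat 0, Int.ofNat 0, Int.ofNat 2, Int.ofNat 0, Int.ofNat 0, Int.negSucc 1, Int.ofNat 0, Int.ofNat 0, Int.ofNat 0, Int.ofNat 0, Int.ofNat 0, Int.negSucc 1, Int.negSucc 1, Int.ofNat 2, Int.negSucc 1, Int.ofNat 0, Int.negSucc 1, Int.ofNat 0, Int.ofNat 0, Int.negSucc 1],
  [Int.ofNat 0, Int.ofNat 0, Int.ofNat 0, Int.ofNat 0, Int.ofNat 0, Int.ofNat 0, Int.negSucc 1, Int.ofNat 0, Int.ofNat 0, Int.ofNat 2, Int.ofNat 0, Int.ofNat 0, Int.ofNat 0, Int.ofNat 0, Int.ofNat 0, Int.ofNat 2, Int.negSucc 1, Int.ofNat 2, Int.ofNat 2, Int.ofNat 0, Int.negSucc 1, Int.ofNat 0, Int.ofNat 0, Int.negSucc 1],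
  [Int.ofNat 0, Int.negSucc 1, Int.ofNat 0, Int.ofNat 0, Int.ofNat 0, Int.negSucc 1, Int.ofNat 0, Int.ofNat 0, Int.ofNat 0, Int.negSucc 1, Int.ofNat 0, Int.ofNat 0, Int.ofNat 2, Int.ofNat 0, Int.ofNat 2, Int.ofNat 2, Int.ofNat 0, Int.ofNat 0, Int.ofNat 2, Int.ofNat 0, Int.ofNat 0, Int.ofNat 0, Int.ofNat 0, Int.negSucc 1],
  [Int.negSucc 1, Int.ofNat 0, Int.ofNat 0, Int.ofNat 2, Int.ofNat 0, Int.negSucc 1, Int.ofNat 0, Int.ofNat 0, Int.ofNat 0, Int.negSucc 1, Int.ofNat 0, Int.ofNat 0, Int.ofNat 0, Int.ofNat 0, Int.ofNat 2, Int.ofNat 0, Int.ofNat 0, Int.ofNat 0, Int.ofNat 2, Int.ofNat 0, Int.ofNat 0, Int.ofNat 2, Int.negSucc 1, Int.ofNat 0],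
  [Int.ofNat 2, Int.ofNat 0, Int.ofNat 0, Int.ofNat 2, Int.ofNat 0, Int.negSucc 1, Int.ofNat 0, Int.ofNat 0, Int.ofNat 0, Int.ofNat 2, Int.ofNat 0, Int.ofNat 0, Int.ofNat 0, Int.ofNat 0, Int.ofNat 2, Int.ofNat 0, Int.ofNat 0, Int.ofNat 0, Int.negSucc 1, Int.ofNat 0, Int.ofNat 0, Int.negSucc 1, Int.negSucc 1, Int.ofNat 0],
  [Int.negSucc 1, Int.ofNat 2, Int.ofNat 0, Int.ofNat 0, Int.ofNat 2, Int.ofNat 0, Int.negSucc 1, Int.ofNat 0, Int.ofNat 0, Int.ofNat 0, Int.ofNat 2, Int.ofNat 0, Int.ofNat 0, Int.ofNat 0, Int.ofNat 0, Int.ofNat 2, Int.ofNat 0, Int.ofNat 0, Int.ofNat 0, Int.negSucc 1, Int.ofNat 0, Int.ofNat 0, Int.negSucc 1, Int.ofNat 0],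
  [Int.ofNat 2, Int.negSucc 1, Int.ofNat 0, Int.ofNat 0, Int.ofNat 2, Int.ofNat 0, Int.ofNat 0, Int.ofNat 2, Int.ofNat 0, Int.negSucc 1, Int.ofNat 0, Int.ofNat 0, Int.ofNat 0, Int.ofNat 0, Int.ofNat 0, Int.ofNat 0, Int.ofNat 0, Int.ofNat 0, Int.ofNat 0, Int.ofNat 0, Int.negSucc 1, Int.ofNat 2, Int.negSucc 1, Int.ofNat 0],
  [Int.ofNat 0, Int.ofNat 2, Int.ofNat 0, Int.ofNat 0, Int.ofNat 2, Int.ofNat 0, Int.negSucc 1, Int.ofNat 0, Int.ofNat 0, Int.ofNat 0, Int.ofNat 0, Int.ofNat 0, Int.ofNat 0, Int.ofNat 0, Int.ofNat 0, Int.ofNat 0, Int.ofNat 0, Int.negSucc 1, Int.ofNat 2, Int.negSucc 1, Int.ofNat 2, Int.negSucc 1, Int.ofNat 0, Int.ofNat 0],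
  [Int.ofNat 1, Int.negSucc 0, Int.ofNat 1, Int.ofNat 1, Int.ofNat 1, Int.ofNat 1, Int.ofNat 1, Int.ofNat 3, Int.negSucc 0, Int.negSucc 0, Int.negSucc 0, Int.negSucc 0, Int.negSucc 0, Int.negSucc 0, Int.ofNat 1, Int.negSucc 0, Int.negSucc 0, Int.negSucc 0, Int.ofNat 1, Int.ofNat 1, Int.ofNat 1, Int.ofNat 1, Int.negSucc 0, Int.ofNat 1],
  [Int.ofNat 1, Int.ofNat 1, Int.ofNat 1, Int.ofNat 1, Int.ofNat 1, Int.ofNat 3, Int.ofNat 1, Int.negSucc 0, Int.negSucc 0, Int.negSucc 0, Int.ofNat 1, Int.negSucc 0, Int.negSucc 0, Int.negSucc 0, Int.negSucc 0, Int.negSucc 0, Int.negSucc 0, Int.ofNat 1, Int.negSucc 0, Int.negSucc 0, Int.ofNat 1, Int.ofNat 1, Int.ofNat 1, Int.ofNat 1],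
  [Int.ofNat 1, Int.ofNat 1, Int.ofNat 1, Int.negSucc 0, Int.ofNat 1, Int.ofNat 1, Int.ofNat 1, Int.negSucc 0, Int.ofNat 1, Int.negSucc 0, Int.ofNat 1, Int.ofNat 1, Int.ofNat 1, Int.negSucc 0, Int.negSucc 2, Int.negSucc 0, Int.negSucc 0, Int.negSucc 0, Int.ofNat 1, Int.negSucc 0, Int.ofNat 1, Int.ofNat 1, Int.ofNat 1, Int.ofNat 1],
  [Int.ofNat 1, Int.ofNat 1, Int.negSucc 0, Int.negSucc 0, Int.ofNat 1, Int.negSucc 0, Int.negSucc 0, Int.negSucc 0, Int.ofNat 1, Int.ofNat 1, Int.negSucc 0, Int.ofNat 1, Int.ofNat 1, Int.negSucc 0, Int.negSucc 2, Int.ofNat 1, Int.negSucc 0, Int.negSucc 0, Int.negSucc 0, Int.negSucc 0, Int.ofNat 1, Int.ofNat 1, Int.negSucc 0, Int.ofNat 1],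
  [Int.negSucc 0, Int.ofNat 1, Int.negSucc 0, Int.ofNat 1, Int.negSucc 2, Int.negSucc 0, Int.negSucc 0, Int.ofNat 1, Int.ofNat 1, Int.ofNat 1, Int.negSucc 0, Int.negSucc 0, Int.negSucc 0, Int.negSucc 0, Int.ofNat 1, Int.ofNat 1, Int.negSucc 0, Int.negSucc 0, Int.ofNat 1, Int.negSucc 0, Int.negSucc 0, Int.ofNat 1, Int.ofNat 1, Int.ofNat 1],
  [Int.negSucc 0, Int.ofNat 1, Int.ofNat 1, Int.ofNat 1, Int.negSucc 2, Int.ofNat 1, Int.ofNat 1, Int.ofNat 1, Int.ofNat 1, Int.negSucc 0, Int.ofNat 1, Int.negSucc 0, Int.negSucc 0, Int.negSucc 0, Int.ofNat 1, Int.negSucc 0, Int.negSucc 0, Int.negSucc 0, Int.negSucc 0, Int.negSucc 0, Int.negSucc 0, Int.ofNat 1, Int.negSucc 0, Int.ofNat 1],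
  [Int.ofNat 2, Int.ofNat 0, Int.ofNat 0, Int.ofNat 0, Int.ofNat 0, Int.ofNat 0, Int.ofNat 0, Int.ofNat 0, Int.ofNat 2, Int.ofNat 0, Int.ofNat 2, Int.ofNat 0, Int.ofNat 0, Int.ofNat 2, Int.ofNat 0, Int.ofNat 0, Int.ofNat 2, Int.negSucc 1, Int.ofNat 0, Int.negSucc 1, Int.ofNat 0, Int.ofNat 0, Int.ofNat 2, Int.ofNat 0],
  [Int.ofNat 2, Int.ofNat 0, Int.ofNat 0, Int.ofNat 0, Int.ofNat 0, Int.ofNat 0, Int.ofNat 0, Int.ofNat 0, Int.ofNat 2, Int.ofNat 0, Int.ofNat 0, Int.negSucc 1, Int.ofNat 2, Int.ofNat 0, Int.negSucc 1, Int.ofNat 0, Int.ofNat 2, Int.ofNat 0, Int.ofNat 0, Int.ofNat 2, Int.ofNat 2, Int.ofNat 0, Int.ofNat 0, Int.ofNat 0],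
  [Int.negSucc 0, Int.ofNat 1, Int.ofNat 1, Int.ofNat 1, Int.negSucc 0, Int.ofNat 1, Int.negSucc 0, Int.negSucc 0, Int.ofNat 1, Int.negSucc 0, Int.negSucc 0, Int.negSucc 2, Int.ofNat 1, Int.negSucc 0, Int.negSucc 0, Int.negSucc 0, Int.ofNat 1, Int.ofNat 1, Int.negSucc 0, Int.ofNat 1, Int.ofNat 1, Int.negSucc 0, Int.negSucc 0, Int.ofNat 1],
  [Int.ofNat 1, Int.negSucc 0, Int.negSucc 0, Int.negSucc 0, Int.ofNat 1, Int.ofNat 1, Int.ofNat 1, Int.negSucc 0, Int.ofNat 1, Int.negSucc 0, Int.negSucc 0, Int.ofNat 1, Int.negSucc 0, Int.negSucc 0, Int.negSucc 2, Int.ofNat 1, Int.negSucc 0, Int.negSucc 0, Int.negSucc 0, Int.ofNat 1, Int.ofNat 1, Int.negSucc 0, Int.ofNat 1, Int.ofNat 1],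
  [Int.negSucc 0, Int.ofNat 1, Int.ofNat 1, Int.ofNat 1, Int.ofNat 1, Int.ofNat 3, Int.ofNat 1, Int.negSucc 0, Int.ofNat 1, Int.negSucc 0, Int.negSucc 0, Int.ofNat 1, Int.negSucc 0, Int.negSucc 0, Int.negSucc 0, Int.ofNat 1, Int.negSucc 0, Int.ofNat 1, Int.negSucc 0, Int.ofNat 1, Int.ofNat 1, Int.negSucc 0, Int.ofNat 1, Int.negSucc 0],
  [Int.ofNat 1, Int.ofNat 1, Int.ofNat 1, Int.ofNat 1, Int.ofNat 3, Int.ofNat 1, Int.negSucc 0, Int.ofNat 1, Int.negSucc 0, Int.negSucc 0, Int.ofNat 1, Int.negSucc 0, Int.negSucc 0, Int.negSucc 0, Int.ofNat 1, Int.negSucc 0, Int.ofNat 1, Int.negSucc 0, Int.ofNat 1, Int.ofNat 1, Int.negSucc 0, Int.ofNat 1, Int.negSucc 0, Int.negSucc 0],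
  [Int.negSucc 0, Int.ofNat 1, Int.negSucc 0, Int.ofNat 1, Int.ofNat 3, Int.ofNat 1, Int.negSucc 0, Int.negSucc 0, Int.negSucc 0, Int.ofNat 1, Int.negSucc 0, Int.ofNat 1, Int.negSucc 0, Int.negSucc 0, Int.ofNat 1, Int.negSucc 0, Int.ofNat 1, Int.negSucc 0, Int.negSucc 0, Int.ofNat 1, Int.negSucc 0, Int.negSucc 0, Int.negSucc 0, Int.negSucc 0],
  [Int.ofNat 1, Int.negSucc 0, Int.ofNat 1, Int.negSucc 0, Int.negSucc 2, Int.ofNat 1, Int.ofNat 1, Int.negSucc 0, Int.ofNat 1, Int.negSucc 0, Int.negSucc 0, Int.ofNat 1, Int.ofNat 1, Int.ofNat 1, Int.ofNat 1, Int.negSucc 0, Int.negSucc 0, Int.negSucc 0, Int.ofNat 1, Int.ofNat 1, Int.negSucc 0, Int.negSucc 0, Int.negSucc 0, Int.negSucc 0],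
  [Int.ofNat 1, Int.ofNat 1, Int.ofNat 1, Int.negSucc 0, Int.negSucc 0, Int.negSucc 0, Int.negSucc 2, Int.negSucc 0, Int.negSucc 0, Int.negSucc 0, Int.negSucc 0, Int.ofNat 1, Int.ofNat 1, Int.ofNat 1, Int.ofNat 1, Int.negSucc 0, Int.ofNat 1, Int.negSucc 0, Int.ofNat 1, Int.negSucc 0, Int.ofNat 1, Int.negSucc 0, Int.ofNat 1, Int.negSucc 0],
  [Int.negSucc 0, Int.ofNat 1, Int.negSucc 0, Int.negSucc 0, Int.negSucc 0, Int.negSucc 0, Int.negSucc 2, Int.ofNat 1, Int.negSucc 0, Int.ofNat 1, Int.ofNat 1, Int.negSucc 0, Int.ofNat 1, Int.ofNat 1, Int.ofNat 1, Int.negSucc 0, Int.ofNat 1, Int.negSucc 0, Int.negSucc 0, Int.negSucc 0, Int.ofNat 1, Int.ofNat 1, Int.ofNat 1, Int.negSucc 0],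
  [Int.ofNat 1, Int.negSucc 0, Int.ofNat 1, Int.negSucc 0, Int.negSucc 0, Int.negSucc 0, Int.negSucc 0, Int.negSucc 2, Int.ofNat 1, Int.negSucc 0, Int.ofNat 1, Int.ofNat 1, Int.negSucc 0, Int.ofNat 1, Int.ofNat 1, Int.ofNat 1, Int.negSucc 0, Int.ofNat 1, Int.negSucc 0, Int.negSucc 0, Int.negSucc 0, Int.ofNat 1, Int.ofNat 1, Int.negSucc 0],
  [Int.negSucc 0, Int.ofNat 1, Int.negSucc 0, Int.negSucc 0, Int.negSucc 0, Int.negSucc 0, Int.ofNat 1, Int.negSucc 0, Int.ofNat 1, Int.negSucc 0, Int.ofNat 1, Int.ofNat 1, Int.negSucc 0, Int.ofNat 1, Int.ofNat 1, Int.ofNat 1, Int.negSucc 0, Int.ofNat 1, Int.negSucc 0, Int.ofNat 1, Int.negSucc 0, Int.ofNat 3, Int.ofNat 1, Int.ofNat 1],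
  [Int.negSucc 0, Int.negSucc 0, Int.negSucc 0, Int.ofNat 1, Int.negSucc 0, Int.ofNat 1, Int.negSucc 0, Int.ofNat 1, Int.ofNat 1, Int.negSucc 0, Int.ofNat 1, Int.ofNat 1, Int.ofNat 1, Int.negSucc 0, Int.ofNat 1, Int.negSucc 0, Int.ofNat 1, Int.negSucc 0, Int.ofNat 3, Int.ofNat 1, Int.negSucc 0, Int.ofNat 1, Int.negSucc 0, Int.ofNat 1],
  [Int.ofNat 0, Int.ofNat 0, Int.ofNat 0, Int.ofNat 0, Int.ofNat 0, Int.ofNat 0, Int.negSucc 1, Int.ofNat 0, Int.negSucc 1, Int.ofNat 0, Int.ofNat 2, Int.negSucc 1, Int.negSucc 1, Int.ofNat 0, Int.ofNat 0, Int.ofNat 0, Int.ofNat 2, Int.negSucc 1, Int.ofNat 0, Int.ofNat 0, Int.ofNat 0, Int.ofNat 0, Int.ofNat 0, Int.negSucc 1],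
  [Int.ofNat 0, Int.negSucc 1, Int.ofNat 0, Int.ofNat 0, Int.ofNat 0, Int.ofNat 0, Int.ofNat 0, Int.ofNat 2, Int.negSucc 1, Int.ofNat 0, Int.ofNat 0, Int.negSucc 1, Int.ofNat 0, Int.ofNat 2, Int.ofNat 0, Int.ofNat 0, Int.negSucc 1, Int.ofNat 0, Int.ofNat 0, Int.negSucc 1, Int.ofNat 0, Int.ofNat 0, Int.ofNat 0, Int.negSucc 1],
  [Int.negSucc 1, Int.ofNat 0, Int.negSucc 1, Int.ofNat 0, Int.ofNat 0, Int.ofNat 0, Int.ofNat 0, Int.ofNat 2, Int.ofNat 0, Int.ofNat 0, Int.ofNat 0, Int.ofNat 0, Int.ofNat 2, Int.ofNat 2, Int.ofNat 0, Int.ofNat 0, Int.negSucc 1, Int.ofNat 0, Int.ofNat 2, Int.negSucc 1, Int.ofNat 0, Int.ofNat 0, Int.ofNat 0, Int.ofNat 0],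
  [Int.negSucc 1, Int.ofNat 0, Int.ofNat 2, Int.ofNat 0, Int.ofNat 0, Int.ofNat 0, Int.ofNat 0, Int.ofNat 2, Int.ofNat 0, Int.ofNat 0, Int.ofNat 0, Int.ofNat 0, Int.ofNat 2, Int.ofNat 2, Int.ofNat 0, Int.ofNat 0, Int.negSucc 1, Int.ofNat 0, Int.negSucc 1, Int.negSucc 1, Int.ofNat 0, Int.ofNat 0, Int.ofNat 0, Int.ofNat 0],
  [Int.ofNat 0, Int.negSucc 1, Int.ofNat 0, Int.ofNat 0, Int.ofNat 0, Int.ofNat 0, Int.ofNat 0, Int.ofNat 0, Int.ofNat 0, Int.ofNat 0, Int.ofNat 2, Int.ofNat 2, Int.ofNat 0, Int.ofNat 0, Int.ofNat 0, Int.negSucc 1, Int.negSucc 1, Int.ofNat 2, Int.ofNat 0, Int.ofNat 2, Int.negSucc 1, Int.ofNat 0, Int.ofNat 0, Int.ofNat 0],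
  [Int.ofNat 0, Int.ofNat 0, Int.ofNat 2, Int.negSucc 1, Int.ofNat 2, Int.ofNat 0, Int.ofNat 2, Int.ofNat 0, Int.negSucc 1, Int.ofNat 0, Int.negSucc 1, Int.ofNat 0, Int.ofNat 0, Int.ofNat 0, Int.ofNat 0, Int.ofNat 0, Int.ofNat 2, Int.ofNat 0, Int.ofNat 0, Int.ofNat 0, Int.ofNat 0, Int.ofNat 0, Int.negSucc 1, Int.ofNat 0],
  [Int.ofNat 0, Int.ofNat 0, Int.negSucc 1, Int.negSucc 1, Int.ofNat 2, Int.ofNat 0, Int.ofNat 2, Int.ofNat 0, Int.negSucc 1, Int.ofNat 0, Int.ofNat 2, Int.ofNat 0, Int.ofNat 0, Int.ofNat 0, Int.ofNat 0, Int.ofNat 0, Int.ofNat 2, Int.ofNat 0, Int.ofNat 0, Int.ofNat 0, Int.ofNat 0, Int.ofNat 0, Int.negSucc 1, Int.ofNat 0],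
  [Int.negSucc 1, Int.ofNat 0, Int.ofNat 0, Int.negSucc 1, Int.negSucc 1, Int.ofNat 2, Int.ofNat 0, Int.ofNat 2, Int.ofNat 0, Int.negSucc 1, Int.ofNat 0, Int.ofNat 2, Int.ofNat 0, Int.ofNat 0, Int.ofNat 0, Int.ofNat 0, Int.ofNat 0, Int.ofNat 2, Int.ofNat 0, Int.ofNat 0, Int.ofNat 0, Int.ofNat 0, Int.ofNat 0, Int.ofNat 0],
  [Int.ofNat 1, Int.negSucc 0, Int.negSucc 0, Int.negSucc 2, Int.negSucc 0, Int.ofNat 1, Int.negSucc 0, Int.ofNat 1, Int.negSucc 0, Int.negSucc 0, Int.ofNat 1, Int.ofNat 1, Int.negSucc 0, Int.ofNat 1, Int.negSucc 0, Int.ofNat 1, Int.ofNat 1, Int.ofNat 1, Int.negSucc 0, Int.negSucc 0, Int.ofNat 1, Int.negSucc 0, Int.ofNat 1, Int.negSucc 0],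
  [Int.negSucc 2, Int.negSucc 0, Int.ofNat 1, Int.negSucc 0, Int.ofNat 1, Int.negSucc 0, Int.negSucc 0, Int.ofNat 1, Int.ofNat 1, Int.negSucc 0, Int.ofNat 1, Int.negSucc 0, Int.ofNat 1, Int.ofNat 1, Int.ofNat 1, Int.negSucc 0, Int.negSucc 0, Int.ofNat 1, Int.negSucc 0, Int.ofNat 1, Int.ofNat 1, Int.negSucc 0, Int.negSucc 0, Int.negSucc 0],
  [Int.ofNat 1, Int.negSucc 0, Int.negSucc 2, Int.negSucc 0, Int.ofNat 1, Int.negSucc 0, Int.negSucc 0, Int.ofNat 1, Int.ofNat 1, Int.negSucc 0, Int.ofNat 1, Int.negSucc 0, Int.ofNat 1, Int.ofNat 1, Int.ofNat 1, Int.negSucc 0, Int.negSucc 0, Int.ofNat 1, Int.negSucc 0, Int.ofNat 1, Int.ofNat 1, Int.negSucc 0, Int.negSucc 0, Int.negSucc 0],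
  [Int.ofNat 1, Int.negSucc 0, Int.ofNat 1, Int.negSucc 0, Int.negSucc 0, Int.ofNat 1, Int.negSucc 2, Int.ofNat 1, Int.ofNat 1, Int.ofNat 1, Int.ofNat 1, Int.ofNat 1, Int.negSucc 0, Int.negSucc 0, Int.negSucc 0, Int.negSucc 0, Int.ofNat 1, Int.ofNat 1, Int.negSucc 0, Int.negSucc 0, Int.negSucc 0, Int.negSucc 0, Int.ofNat 1, Int.negSucc 0],
  [Int.negSucc 0, Int.ofNat 1, Int.negSucc 0, Int.negSucc 0, Int.negSucc 0, Int.ofNat 1, Int.negSucc 0, Int.ofNat 3, Int.ofNat 1, Int.ofNat 1, Int.ofNat 1, Int.ofNat 1, Int.negSucc 0, Int.negSucc 0, Int.negSucc 0, Int.negSucc 0, Int.ofNat 1, Int.ofNat 1, Int.negSucc 0, Int.ofNat 1, Int.negSucc 0, Int.ofNat 1, Int.ofNat 1, Int.ofNat 1],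
  [Int.negSucc 0, Int.ofNat 1, Int.ofNat 1, Int.negSucc 0, Int.negSucc 0, Int.negSucc 0, Int.ofNat 1, Int.ofNat 3, Int.ofNat 1, Int.negSucc 0, Int.negSucc 0, Int.ofNat 1, Int.negSucc 0, Int.negSucc 0, Int.negSucc 0, Int.ofNat 1, Int.ofNat 1, Int.ofNat 1, Int.ofNat 1, Int.ofNat 1, Int.negSucc 0, Int.ofNat 1, Int.negSucc 0, Int.ofNat 1],
  [Int.ofNat 3, Int.ofNat 1, Int.negSucc 0, Int.ofNat 1, Int.negSucc 0, Int.negSucc 0, Int.ofNat 1, Int.ofNat 1, Int.negSucc 0, Int.negSucc 0, Int.ofNat 1, Int.ofNat 1, Int.negSucc 0, Int.ofNat 1, Int.negSucc 0, Int.ofNat 1, Int.ofNat 1, Int.ofNat 1, Int.ofNat 1, Int.negSucc 0, Int.negSucc 0, Int.negSucc 0, Int.negSucc 0, Int.ofNat 1],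
  [Int.ofNat 3, Int.ofNat 1, Int.ofNat 1, Int.ofNat 1, Int.negSucc 0, Int.ofNat 1, Int.negSucc 0, Int.ofNat 1, Int.negSucc 0, Int.ofNat 1, Int.negSucc 0, Int.ofNat 1, Int.negSucc 0, Int.ofNat 1, Int.negSucc 0, Int.negSucc 0, Int.ofNat 1, Int.ofNat 1, Int.negSucc 0, Int.negSucc 0, Int.negSucc 0, Int.negSucc 0, Int.ofNat 1, Int.ofNat 1],
  [Int.ofNat 0, Int.ofNat 2, Int.ofNat 2, Int.ofNat 0, Int.negSucc 1, Int.ofNat 0, Int.ofNat 0, Int.ofNat 2, Int.ofNat 0, Int.ofNat 2, Int.ofNat 0, Int.ofNat 2, Int.ofNat 0, Int.ofNat 0, Int.negSucc 1, Int.ofNat 0, Int.ofNat 0, Int.ofNat 0, Int.ofNat 0, Int.ofNat 0, Int.ofNat 0, Int.ofNat 0, Int.ofNat 0, Int.ofNat 2],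
  [Int.ofNat 0, Int.ofNat 0, Int.ofNat 0, Int.ofNat 0, Int.ofNat 2, Int.ofNat 0, Int.ofNat 2, Int.ofNat 0, Int.ofNat 0, Int.ofNat 0, Int.ofNat 2, Int.ofNat 0, Int.ofNat 0, Int.ofNat 2, Int.ofNat 0, Int.ofNat 0, Int.ofNat 0, Int.ofNat 2, Int.negSucc 1, Int.ofNat 0, Int.ofNat 0, Int.ofNat 0, Int.negSucc 1, Int.ofNat 2],
  [Int.ofNat 1, Int.ofNat 1, Int.ofNat 1, Int.negSucc 0, Int.ofNat 1, Int.negSucc 0, Int.ofNat 1, Int.negSucc 0, Int.ofNat 1, Int.negSucc 0, Int.ofNat 1, Int.ofNat 1, Int.ofNat 1, Int.ofNat 1, Int.negSucc 0, Int.negSucc 0, Int.negSucc 0, Int.ofNat 1, Int.negSucc 0, Int.negSucc 0, Int.negSucc 0, Int.negSucc 0, Int.negSucc 2, Int.negSucc 0],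
  [Int.negSucc 0, Int.negSucc 0, Int.negSucc 2, Int.ofNat 1, Int.ofNat 1, Int.ofNat 1, Int.negSucc 0, Int.ofNat 1, Int.negSucc 0, Int.ofNat 1, Int.negSucc 0, Int.ofNat 1, Int.negSucc 0, Int.ofNat 1, Int.ofNat 1, Int.ofNat 1, Int.ofNat 1, Int.negSucc 0, Int.negSucc 0, Int.negSucc 0, Int.ofNat 1, Int.negSucc 0, Int.negSucc 0, Int.negSucc 0],
  [Int.negSucc 1, Int.negSucc 1, Int.ofNat 0, Int.ofNat 0, Int.ofNat 0, Int.ofNat 0, Int.ofNat 0, Int.ofNat 2, Int.ofNat 0, Int.ofNat 0, Int.negSucc 1, Int.ofNat 2, Int.ofNat 0, Int.ofNat 0, Int.ofNat 0, Int.ofNat 0, Int.ofNat 0, Int.negSucc 1, Int.ofNat 0, Int.ofNat 0, Int.ofNat 0, Int.ofNat 0, Int.negSucc 1, Int.negSucc 1],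
  [Int.negSucc 1, Int.ofNat 0, Int.ofNat 0, Int.ofNat 0, Int.ofNat 0, Int.ofNat 0, Int.ofNat 2, Int.ofNat 0, Int.ofNat 0, Int.negSucc 1, Int.ofNat 2, Int.ofNat 0, Int.ofNat 0, Int.ofNat 0, Int.ofNat 0, Int.ofNat 0, Int.negSucc 1, Int.ofNat 0, Int.ofNat 0, Int.ofNat 0, Int.ofNat 0, Int.negSucc 1, Int.negSucc 1, Int.negSucc 1],
  [Int.ofNat 2, Int.ofNat 0, Int.ofNat 0, Int.ofNat 0, Int.ofNat 0, Int.ofNat 0, Int.ofNat 2, Int.ofNat 0, Int.ofNat 0, Int.ofNat 2, Int.negSucc 1, Int.ofNat 0, Int.ofNat 0, Int.ofNat 0, Int.ofNat 0, Int.ofNat 0, Int.negSucc 1, Int.ofNat 0, Int.ofNat 0, Int.ofNat 0, Int.ofNat 0, Int.ofNat 2, Int.negSucc 1, Int.negSucc 1],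
  [Int.negSucc 1, Int.ofNat 0, Int.ofNat 0, Int.ofNat 0, Int.ofNat 0, Int.ofNat 0, Int.negSucc 1, Int.ofNat 0, Int.ofNat 0, Int.negSucc 1, Int.negSucc 1, Int.ofNat 0, Int.ofNat 0, Int.ofNat 0, Int.ofNat 0, Int.ofNat 0, Int.ofNat 2, Int.ofNat 0, Int.ofNat 0, Int.ofNat 0, Int.ofNat 0, Int.ofNat 2, Int.negSucc 1, Int.negSucc 1],
  [Int.negSucc 1, Int.ofNat 0, Int.ofNat 0, Int.ofNat 0, Int.ofNat 0, Int.negSucc 1, Int.ofNat 0, Int.ofNat 0, Int.negSucc 1, Int.ofNat 2, Int.ofNat 2, Int.ofNat 0, Int.ofNat 0, Int.ofNat 0, Int.ofNat 0, Int.ofNat 0, Int.ofNat 0, Int.negSucc 1, Int.negSucc 1, Int.ofNat 0, Int.ofNat 0, Int.ofNat 0, Int.ofNat 0, Int.negSucc 1],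
  [Int.ofNat 2, Int.ofNat 0, Int.ofNat 0, Int.ofNat 0, Int.ofNat 0, Int.negSucc 1, Int.ofNat 0, Int.ofNat 0, Int.negSucc 1, Int.negSucc 1, Int.negSucc 1, Int.ofNat 0, Int.ofNat 0, Int.ofNat 0, Int.ofNat 0, Int.ofNat 0, Int.ofNat 0, Int.negSucc 1, Int.ofNat 2, Int.ofNat 0, Int.ofNat 0, Int.ofNat 0, Int.ofNat 0, Int.negSucc 1],
  [Int.ofNat 0, Int.ofNat 2, Int.ofNat 0, Int.ofNat 0, Int.ofNat 0, Int.ofNat 0, Int.negSucc 1, Int.ofNat 0, Int.ofNat 0, Int.negSucc 1, Int.negSucc 1, Int.negSucc 1, Int.ofNat 0, Int.ofNat 0, Int.ofNat 0, Int.ofNat 0, Int.ofNat 0, Int.ofNat 0, Int.negSucc 1, Int.ofNat 2, Int.ofNat 0, Int.ofNat 0, Int.ofNat 0, Int.negSucc 1],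
  [Int.ofNat 0, Int.negSucc 1, Int.ofNat 0, Int.ofNat 0, Int.ofNat 0, Int.ofNat 0, Int.negSucc 1, Int.ofNat 0, Int.ofNat 2, Int.ofNat 0, Int.ofNat 0, Int.ofNat 0, Int.ofNat 2, Int.ofNat 0, Int.ofNat 0, Int.ofNat 2, Int.ofNat 0, Int.ofNat 0, Int.ofNat 0, Int.ofNat 2, Int.ofNat 2, Int.ofNat 0, Int.ofNat 0, Int.ofNat 2],
  [Int.ofNat 0, Int.ofNat 0, Int.ofNat 0, Int.negSucc 1, Int.ofNat 0, Int.ofNat 2, Int.ofNat 0, Int.ofNat 0, Int.ofNat 0, Int.ofNat 2, Int.ofNat 0, Int.ofNat 0, Int.ofNat 2, Int.ofNat 0, Int.ofNat 0, Int.ofNat 0, Int.ofNat 2, Int.ofNat 2, Int.ofNat 0, Int.ofNat 0, Int.ofNat 0, Int.negSucc 1, Int.ofNat 0, Int.ofNat 2],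
  [Int.ofNat 1, Int.ofNat 1, Int.ofNat 1, Int.negSucc 2, Int.negSucc 0, Int.ofNat 1, Int.ofNat 1, Int.ofNat 1, Int.negSucc 0, Int.ofNat 1, Int.negSucc 0, Int.negSucc 0, Int.ofNat 1, Int.negSucc 0, Int.negSucc 0, Int.negSucc 0, Int.ofNat 1, Int.ofNat 1, Int.negSucc 0, Int.ofNat 1, Int.negSucc 0, Int.negSucc 0, Int.negSucc 0, Int.negSucc 0],
  [Int.ofNat 1, Int.ofNat 1, Int.negSucc 0, Int.negSucc 2, Int.negSucc 0, Int.ofNat 1, Int.ofNat 1, Int.negSucc 0, Int.ofNat 1, Int.negSucc 0, Int.negSucc 0, Int.ofNat 1, Int.ofNat 1, Int.ofNat 1, Int.negSucc 0, Int.negSucc 0, Int.negSucc 0, Int.negSucc 0, Int.ofNat 1, Int.negSucc 0, Int.negSucc 0, Int.ofNat 1, Int.ofNat 1, Int.negSucc 0],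
  [Int.negSucc 0, Int.negSucc 0, Int.ofNat 1, Int.negSucc 0, Int.negSucc 0, Int.ofNat 3, Int.ofNat 1, Int.negSucc 0, Int.negSucc 0, Int.ofNat 1, Int.ofNat 1, Int.negSucc 0, Int.negSucc 0, Int.ofNat 1, Int.ofNat 1, Int.ofNat 1, Int.negSucc 0, Int.ofNat 1, Int.negSucc 0, Int.negSucc 0, Int.ofNat 1, Int.ofNat 1, Int.ofNat 1, Int.ofNat 1],
  [Int.negSucc 0, Int.negSucc 0, Int.negSucc 0, Int.negSucc 0, Int.negSucc 0, Int.negSucc 2, Int.negSucc 0, Int.negSucc 0, Int.negSucc 0, Int.negSucc 0, Int.negSucc 0, Int.negSucc 0, Int.negSucc 0, Int.ofNat 1, Int.ofNat 1, Int.negSucc 0, Int.negSucc 0, Int.ofNat 1, Int.ofNat 1, Int.negSucc 0, Int.ofNat 1, Int.ofNat 1, Int.negSucc 0, Int.ofNat 1],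
  [Int.negSucc 0, Int.negSucc 0, Int.negSucc 0, Int.negSucc 0, Int.ofNat 1, Int.negSucc 0, Int.ofNat 1, Int.negSucc 0, Int.negSucc 2, Int.ofNat 1, Int.ofNat 1, Int.negSucc 0, Int.negSucc 0, Int.negSucc 0, Int.ofNat 1, Int.ofNat 1, Int.negSucc 0, Int.negSucc 0, Int.negSucc 0, Int.negSucc 0, Int.negSucc 0, Int.negSucc 0, Int.negSucc 0, Int.ofNat 1],
  [Int.ofNat 1, Int.negSucc 0, Int.negSucc 0, Int.ofNat 1, Int.negSucc 0, Int.ofNat 1, Int.negSucc 0, Int.negSucc 0, Int.negSucc 0, Int.negSucc 0, Int.negSucc 0, Int.negSucc 0, Int.negSucc 0, Int.negSucc 0, Int.negSucc 0, Int.negSucc 0, Int.ofNat 1, Int.ofNat 1, Int.ofNat 1, Int.ofNat 1, Int.negSucc 2, Int.negSucc 0, Int.negSucc 0, Int.negSucc 0],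
  [Int.negSucc 0, Int.negSucc 0, Int.ofNat 1, Int.ofNat 1, Int.negSucc 0, Int.ofNat 1, Int.negSucc 0, Int.ofNat 1, Int.negSucc 0, Int.ofNat 1, Int.ofNat 1, Int.ofNat 1, Int.negSucc 0, Int.negSucc 0, Int.negSucc 0, Int.negSucc 0, Int.ofNat 1, Int.ofNat 1, Int.negSucc 0, Int.ofNat 1, Int.negSucc 2, Int.ofNat 1, Int.negSucc 0, Int.negSucc 0],
  [Int.negSucc 0, Int.negSucc 0, Int.negSucc 0, Int.ofNat 1, Int.ofNat 1, Int.negSucc 0, Int.ofNat 1, Int.negSucc 0, Int.ofNat 1, Int.negSucc 0, Int.ofNat 1, Int.ofNat 1, Int.ofNat 1, Int.negSucc 0, Int.negSucc 0, Int.negSucc 0, Int.negSucc 0, Int.ofNat 1, Int.ofNat 1, Int.negSucc 0, Int.ofNat 1, Int.negSucc 2, Int.ofNat 1, Int.negSucc 0],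
  [Int.negSucc 0, Int.negSucc 0, Int.negSucc 0, Int.ofNat 1, Int.ofNat 1, Int.negSucc 0, Int.ofNat 3, Int.ofNat 1, Int.negSucc 0, Int.negSucc 0, Int.ofNat 1, Int.negSucc 0, Int.negSucc 0, Int.negSucc 0, Int.negSucc 0, Int.negSucc 0, Int.negSucc 0, Int.ofNat 1, Int.negSucc 0, Int.ofNat 1, Int.ofNat 1, Int.negSucc 0, Int.ofNat 1, Int.negSucc 0],
  [Int.ofNat 1, Int.ofNat 1, Int.negSucc 0, Int.ofNat 3, Int.ofNat 1, Int.negSucc 0, Int.negSucc 0, Int.ofNat 1, Int.negSucc 0, Int.negSucc 0, Int.negSucc 0, Int.negSucc 0, Int.negSucc 0, Int.negSucc 0, Int.ofNat 1, Int.negSucc 0, Int.ofNat 1, Int.ofNat 1, Int.negSucc 0, Int.ofNat 1, Int.negSucc 0, Int.negSucc 0, Int.negSucc 0, Int.negSucc 0],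
  [Int.negSucc 0, Int.negSucc 0, Int.ofNat 1, Int.ofNat 1, Int.ofNat 1, Int.negSucc 2, Int.negSucc 0, Int.ofNat 1, Int.ofNat 1, Int.ofNat 1, Int.ofNat 1, Int.ofNat 1, Int.ofNat 1, Int.negSucc 0, Int.negSucc 0, Int.ofNat 1, Int.ofNat 1, Int.negSucc 0, Int.ofNat 1, Int.ofNat 1, Int.ofNat 1, Int.negSucc 0, Int.negSucc 0, Int.ofNat 1],
  [Int.negSucc 0, Int.negSucc 0, Int.ofNat 1, Int.ofNat 1, Int.ofNat 1, Int.ofNat 1, Int.ofNat 1, Int.ofNat 1, Int.ofNat 1, Int.negSucc 0, Int.ofNat 1, Int.negSucc 0, Int.ofNat 1, Int.ofNat 1, Int.negSucc 0, Int.ofNat 1, Int.ofNat 1, Int.negSucc 0, Int.negSucc 0, Int.ofNat 1, Int.negSucc 0, Int.negSucc 2, Int.ofNat 1, Int.ofNat 1],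
  [Int.ofNat 1, Int.ofNat 1, Int.negSucc 0, Int.ofNat 1, Int.negSucc 0, Int.ofNat 1, Int.ofNat 1, Int.ofNat 1, Int.ofNat 1, Int.negSucc 0, Int.ofNat 1, Int.negSucc 0, Int.ofNat 1, Int.negSucc 0, Int.negSucc 0, Int.ofNat 1, Int.negSucc 0, Int.negSucc 0, Int.negSucc 0, Int.ofNat 1, Int.negSucc 0, Int.negSucc 2, Int.negSucc 0, Int.negSucc 0],
  [Int.ofNat 1, Int.ofNat 1, Int.ofNat 1, Int.ofNat 1, Int.negSucc 0, Int.negSucc 0, Int.negSucc 0, Int.ofNat 1, Int.ofNat 1, Int.ofNat 1, Int.negSucc 0, Int.negSucc 0, Int.ofNat 1, Int.negSucc 0, Int.negSucc 0, Int.negSucc 0, Int.negSucc 0, Int.negSucc 0, Int.ofNat 1, Int.ofNat 1, Int.negSucc 0, Int.negSucc 2, Int.ofNat 1, Int.negSucc 0],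
  [Int.ofNat 1, Int.negSucc 0, Int.negSucc 0, Int.ofNat 1, Int.negSucc 0, Int.ofNat 1, Int.ofNat 1, Int.negSucc 0, Int.ofNat 1, Int.negSucc 0, Int.negSucc 0, Int.ofNat 1, Int.negSucc 0, Int.negSucc 0, Int.ofNat 1, Int.ofNat 1, Int.ofNat 1, Int.negSucc 0, Int.negSucc 2, Int.ofNat 1, Int.negSucc 0, Int.ofNat 1, Int.negSucc 0, Int.negSucc 0],
  [Int.ofNat 1, Int.negSucc 0, Int.ofNat 1, Int.ofNat 1, Int.negSucc 0, Int.negSucc 0, Int.negSucc 0, Int.negSucc 0, Int.ofNat 1, Int.ofNat 1, Int.ofNat 1, Int.ofNat 1, Int.negSucc 0, Int.negSucc 0, Int.ofNat 1, Int.negSucc 0, Int.ofNat 1, Int.negSucc 0, Int.ofNat 3, Int.ofNat 1, Int.negSucc 0, Int.ofNat 1, Int.ofNat 1, Int.negSucc 0],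
  [Int.negSucc 0, Int.ofNat 1, Int.negSucc 0, Int.ofNat 1, Int.negSucc 0, Int.negSucc 0, Int.negSucc 0, Int.negSucc 0, Int.negSucc 0, Int.ofNat 1, Int.ofNat 1, Int.negSucc 0, Int.negSucc 2, Int.negSucc 0, Int.ofNat 1, Int.negSucc 0, Int.ofNat 1, Int.negSucc 0, Int.ofNat 1, Int.ofNat 1, Int.negSucc 0, Int.ofNat 1, Int.ofNat 1, Int.ofNat 1],
  [Int.negSucc 0, Int.ofNat 1, Int.negSucc 0, Int.ofNat 1, Int.negSucc 0, Int.ofNat 1, Int.ofNat 1, Int.negSucc 0, Int.ofNat 1, Int.negSucc 2, Int.negSucc 0, Int.ofNat 1, Int.negSucc 0, Int.ofNat 1, Int.negSucc 0, Int.negSucc 0, Int.negSucc 0, Int.negSucc 0, Int.negSucc 0, Int.ofNat 1, Int.ofNat 1, Int.negSucc 0, Int.ofNat 1, Int.ofNat 1],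
  [Int.ofNat 1, Int.negSucc 0, Int.ofNat 1, Int.ofNat 1, Int.negSucc 0, Int.ofNat 1, Int.ofNat 1, Int.negSucc 0, Int.ofNat 1, Int.negSucc 0, Int.ofNat 1, Int.ofNat 1, Int.negSucc 0, Int.ofNat 1, Int.negSucc 0, Int.ofNat 1, Int.negSucc 0, Int.negSucc 0, Int.negSucc 0, Int.ofNat 1, Int.ofNat 3, Int.negSucc 0, Int.ofNat 1, Int.negSucc 0],
  [Int.ofNat 3, Int.negSucc 0, Int.ofNat 1, Int.ofNat 1, Int.negSucc 0, Int.ofNat 1, Int.ofNat 1, Int.negSucc 0, Int.ofNat 1, Int.ofNat 1, Int.negSucc 0, Int.ofNat 1, Int.negSucc 0, Int.ofNat 1, Int.ofNat 1, Int.negSucc 0, Int.ofNat 1, Int.negSucc 0, Int.ofNat 1, Int.negSucc 0, Int.negSucc 0, Int.negSucc 0, Int.ofNat 1, Int.negSucc 0],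
  [Int.negSucc 1, Int.ofNat 2, Int.ofNat 0, Int.ofNat 0, Int.negSucc 1, Int.ofNat 0, Int.ofNat 2, Int.ofNat 0, Int.ofNat 0, Int.ofNat 2, Int.ofNat 0, Int.ofNat 0, Int.negSucc 1, Int.ofNat 0, Int.ofNat 0, Int.ofNat 0, Int.ofNat 0, Int.negSucc 1, Int.ofNat 0, Int.ofNat 0, Int.ofNat 0, Int.ofNat 0, Int.ofNat 0, Int.ofNat 2],
  [Int.ofNat 2, Int.ofNat 0, Int.ofNat 0, Int.negSucc 1, Int.ofNat 0, Int.ofNat 2, Int.ofNat 0, Int.ofNat 0, Int.ofNat 2, Int.ofNat 0, Int.ofNat 0, Int.negSucc 1, Int.ofNat 0, Int.ofNat 0, Int.ofNat 0, Int.ofNat 0, Int.negSucc 1, Int.ofNat 0, Int.ofNat 0, Int.ofNat 0, Int.ofNat 0, Int.ofNat 0, Int.negSucc 1, Int.ofNat 2],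
  [Int.negSucc 1, Int.ofNat 0, Int.ofNat 0, Int.negSucc 1, Int.ofNat 0, Int.ofNat 2, Int.ofNat 0, Int.ofNat 0, Int.ofNat 2, Int.ofNat 0, Int.ofNat 0, Int.ofNat 2, Int.ofNat 0, Int.ofNat 0, Int.ofNat 0, Int.ofNat 0, Int.negSucc 1, Int.ofNat 0, Int.ofNat 0, Int.ofNat 0, Int.ofNat 0, Int.ofNat 0, Int.negSucc 1, Int.ofNat 2],
  [Int.ofNat 2, Int.ofNat 0, Int.ofNat 0, Int.ofNat 2, Int.ofNat 0, Int.ofNat 2, Int.ofNat 0, Int.ofNat 0, Int.negSucc 1, Int.ofNat 0, Int.ofNat 0, Int.ofNat 2, Int.ofNat 0, Int.ofNat 0, Int.ofNat 0, Int.ofNat 0, Int.ofNat 2, Int.ofNat 0, Int.ofNat 0, Int.ofNat 0, Int.ofNat 0, Int.ofNat 0, Int.negSucc 1, Int.ofNat 2],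
  [Int.ofNat 2, Int.ofNat 0, Int.ofNat 0, Int.ofNat 2, Int.ofNat 0, Int.ofNat 0, Int.ofNat 0, Int.ofNat 0, Int.ofNat 0, Int.ofNat 2, Int.ofNat 0, Int.ofNat 0, Int.ofNat 0, Int.negSucc 1, Int.ofNat 0, Int.ofNat 0, Int.ofNat 0, Int.negSucc 1, Int.ofNat 0, Int.ofNat 0, Int.ofNat 2, Int.ofNat 0, Int.ofNat 2, Int.ofNat 2],
  [Int.negSucc 1, Int.ofNat 0, Int.ofNat 0, Int.ofNat 2, Int.ofNat 0, Int.ofNat 0, Int.ofNat 0, Int.ofNat 0, Int.ofNat 0, Int.negSucc 1, Int.ofNat 0, Int.ofNat 0, Int.ofNat 0, Int.negSucc 1, Int.ofNat 0, Int.ofNat 0, Int.ofNat 0, Int.negSucc 1, Int.ofNat 0, Int.ofNat 0, Int.ofNat 2, Int.ofNat 0, Int.ofNat 2, Int.ofNat 2],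
  [Int.ofNat 2, Int.negSucc 1, Int.ofNat 0, Int.ofNat 0, Int.ofNat 2, Int.ofNat 0, Int.ofNat 0, Int.ofNat 0, Int.ofNat 0, Int.ofNat 0, Int.negSucc 1, Int.ofNat 0, Int.ofNat 0, Int.ofNat 0, Int.negSucc 1, Int.ofNat 0, Int.ofNat 0, Int.ofNat 0, Int.negSucc 1, Int.ofNat 0, Int.ofNat 0, Int.ofNat 2, Int.ofNat 0, Int.ofNat 2],
  [Int.negSucc 0, Int.ofNat 3, Int.ofNat 1, Int.ofNat 1, Int.ofNat 1, Int.ofNat 1, Int.negSucc 0, Int.negSucc 0, Int.ofNat 1, Int.ofNat 1, Int.negSucc 0, Int.ofNat 1, Int.ofNat 1, Int.negSucc 0, Int.negSucc 0, Int.ofNat 1, Int.negSucc 0, Int.ofNat 1, Int.negSucc 0, Int.negSucc 0, Int.ofNat 1, Int.ofNat 1, Int.negSucc 0, Int.negSucc 0],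
  [Int.ofNat 1, Int.ofNat 1, Int.ofNat 1, Int.negSucc 0, Int.negSucc 0, Int.ofNat 1, Int.ofNat 1, Int.negSucc 0, Int.ofNat 1, Int.ofNat 1, Int.negSucc 0, Int.negSucc 0, Int.ofNat 1, Int.negSucc 0, Int.ofNat 1, Int.negSucc 0, Int.negSucc 0, Int.ofNat 1, Int.ofNat 1, Int.negSucc 0, Int.negSucc 0, Int.ofNat 3, Int.ofNat 1, Int.negSucc 0],
  [Int.ofNat 0, Int.ofNat 0, Int.ofNat 0, Int.negSucc 1, Int.ofNat 0, Int.ofNat 0, Int.ofNat 0, Int.negSucc 1, Int.ofNat 0, Int.ofNat 2, Int.ofNat 0, Int.negSucc 1, Int.ofNat 0, Int.ofNat 0, Int.ofNat 0, Int.ofNat 0, Int.ofNat 0, Int.ofNat 0, Int.ofNat 0, Int.negSucc 1, Int.ofNat 0, Int.ofNat 2, Int.ofNat 2, Int.ofNat 2],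
  [Int.ofNat 0, Int.ofNat 0, Int.ofNat 0, Int.negSucc 1, Int.ofNat 0, Int.negSucc 1, Int.ofNat 0, Int.ofNat 0, Int.ofNat 0, Int.ofNat 0, Int.ofNat 0, Int.ofNat 0, Int.ofNat 2, Int.ofNat 0, Int.ofNat 2, Int.ofNat 0, Int.ofNat 0, Int.ofNat 0, Int.ofNat 0, Int.negSucc 1, Int.ofNat 2, Int.ofNat 0, Int.negSucc 1, Int.ofNat 2],
  [Int.ofNat 1, Int.ofNat 1, Int.ofNat 1, Int.negSucc 0, Int.ofNat 1, Int.negSucc 0, Int.ofNat 1, Int.ofNat 1, Int.negSucc 0, Int.negSucc 0, Int.negSucc 0, Int.negSucc 0, Int.ofNat 1, Int.ofNat 1, Int.ofNat 3, Int.negSucc 0, Int.ofNat 1, Int.ofNat 1, Int.negSucc 0, Int.negSucc 0, Int.ofNat 1, Int.ofNat 1, Int.negSucc 0, Int.negSucc 0],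
  [Int.ofNat 1, Int.ofNat 1, Int.negSucc 0, Int.negSucc 0, Int.ofNat 1, Int.ofNat 1, Int.negSucc 0, Int.ofNat 1, Int.negSucc 0, Int.ofNat 1, Int.ofNat 1, Int.negSucc 0, Int.ofNat 1, Int.ofNat 1, Int.ofNat 3, Int.ofNat 1, Int.ofNat 1, Int.ofNat 1, Int.ofNat 1, Int.negSucc 0, Int.ofNat 1, Int.ofNat 1, Int.ofNat 1, Int.negSucc 0],
  [Int.ofNat 1, Int.ofNat 1, Int.negSucc 0, Int.negSucc 0, Int.ofNat 3, Int.negSucc 0, Int.ofNat 1, Int.negSucc 0, Int.ofNat 1, Int.ofNat 1, Int.ofNat 1, Int.ofNat 1, Int.ofNat 1, Int.ofNat 1, Int.ofNat 1, Int.ofNat 1, Int.negSucc 0, Int.ofNat 1, Int.ofNat 1, Int.negSucc 0, Int.ofNat 1, Int.ofNat 1, Int.ofNat 1, Int.negSucc 0],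
  [Int.negSucc 0, Int.ofNat 1, Int.ofNat 1, Int.ofNat 1, Int.ofNat 1, Int.ofNat 1, Int.negSucc 0, Int.ofNat 1, Int.ofNat 1, Int.negSucc 0, Int.negSucc 0, Int.negSucc 0, Int.ofNat 1, Int.negSucc 0, Int.ofNat 1, Int.negSucc 0, Int.ofNat 1, Int.ofNat 3, Int.ofNat 1, Int.ofNat 1, Int.ofNat 1, Int.ofNat 1, Int.ofNat 1, Int.ofNat 1],
  [Int.ofNat 1, Int.ofNat 1, Int.negSucc 0, Int.ofNat 1, Int.ofNat 1, Int.ofNat 1, Int.negSucc 0, Int.negSucc 0, Int.ofNat 1, Int.ofNat 1, Int.ofNat 1, Int.ofNat 1, Int.ofNat 1, Int.negSucc 0, Int.ofNat 1, Int.negSucc 0, Int.ofNat 1, Int.ofNat 3, Int.negSucc 0, Int.ofNat 1, Int.ofNat 1, Int.negSucc 0, Int.ofNat 1, Int.ofNat 1],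
  [Int.ofNat 1, Int.ofNat 1, Int.ofNat 1, Int.negSucc 0, Int.ofNat 1, Int.ofNat 1, Int.ofNat 1, Int.negSucc 0, Int.negSucc 0, Int.ofNat 1, Int.ofNat 1, Int.ofNat 1, Int.ofNat 1, Int.ofNat 1, Int.negSucc 0, Int.ofNat 1, Int.negSucc 0, Int.ofNat 1, Int.ofNat 3, Int.negSucc 0, Int.ofNat 1, Int.ofNat 1, Int.negSucc 0, Int.ofNat 1],
  [Int.ofNat 1, Int.ofNat 1, Int.ofNat 1, Int.negSucc 0, Int.ofNat 1, Int.ofNat 1, Int.ofNat 1, Int.negSucc 0, Int.negSucc 2, Int.negSucc 0, Int.negSucc 0, Int.negSucc 0, Int.negSucc 0, Int.ofNat 1, Int.negSucc 0, Int.negSucc 0, Int.negSucc 0, Int.ofNat 1, Int.ofNat 1, Int.negSucc 0, Int.negSucc 0, Int.ofNat 1, Int.negSucc 0, Int.ofNat 1],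
  [Int.negSucc 0, Int.ofNat 1, Int.ofNat 1, Int.ofNat 1, Int.negSucc 0, Int.negSucc 2, Int.negSucc 0, Int.negSucc 0, Int.negSucc 0, Int.negSucc 0, Int.ofNat 1, Int.negSucc 0, Int.negSucc 0, Int.negSucc 0, Int.ofNat 1, Int.ofNat 1, Int.negSucc 0, Int.negSucc 0, Int.ofNat 1, Int.negSucc 0, Int.ofNat 1, Int.ofNat 1, Int.ofNat 1, Int.ofNat 1],
  [Int.ofNat 2, Int.ofNat 0, Int.ofNat 0, Int.ofNat 2, Int.ofNat 0, Int.negSucc 1, Int.ofNat 0, Int.ofNat 0, Int.ofNat 0, Int.negSucc 1, Int.ofNat 0, Int.ofNat 0, Int.ofNat 0, Int.ofNat 0, Int.ofNat 2, Int.ofNat 0, Int.ofNat 0, Int.ofNat 0, Int.ofNat 2, Int.ofNat 0, Int.ofNat 0, Int.ofNat 2, Int.ofNat 2, Int.ofNat 0],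
  [Int.ofNat 2, Int.ofNat 0, Int.ofNat 0, Int.ofNat 2, Int.ofNat 2, Int.ofNat 0, Int.ofNat 0, Int.ofNat 0, Int.ofNat 0, Int.ofNat 0, Int.ofNat 0, Int.ofNat 0, Int.negSucc 1, Int.ofNat 0, Int.ofNat 2, Int.ofNat 0, Int.ofNat 0, Int.ofNat 2, Int.ofNat 0, Int.ofNat 0, Int.ofNat 2, Int.negSucc 1, Int.ofNat 0, Int.ofNat 0],
  [Int.negSucc 0, Int.ofNat 1, Int.ofNat 1, Int.negSucc 0, Int.ofNat 1, Int.negSucc 2, Int.ofNat 1, Int.ofNat 1, Int.ofNat 1, Int.negSucc 0, Int.negSucc 0, Int.ofNat 1, Int.negSucc 0, Int.negSucc 0, Int.negSucc 0, Int.negSucc 0, Int.negSucc 0, Int.negSucc 0, Int.ofNat 1, Int.ofNat 1, Int.ofNat 1, Int.negSucc 0, Int.negSucc 0, Int.ofNat 1],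
  [Int.negSucc 0, Int.ofNat 1, Int.negSucc 0, Int.negSucc 0, Int.ofNat 1, Int.ofNat 3, Int.negSucc 0, Int.ofNat 1, Int.ofNat 1, Int.ofNat 1, Int.ofNat 1, Int.ofNat 1, Int.negSucc 0, Int.negSucc 0, Int.negSucc 0, Int.ofNat 1, Int.negSucc 0, Int.negSucc 0, Int.negSucc 0, Int.ofNat 1, Int.ofNat 1, Int.negSucc 0, Int.ofNat 1, Int.ofNat 1],
  [Int.ofNat 1, Int.ofNat 1, Int.negSucc 0, Int.ofNat 1, Int.negSucc 0, Int.ofNat 1, Int.negSucc 0, Int.ofNat 1, Int.negSucc 0, Int.ofNat 1, Int.negSucc 0, Int.ofNat 1, Int.ofNat 3, Int.negSucc 0, Int.ofNat 1, Int.ofNat 1, Int.negSucc 0, Int.negSucc 0, Int.negSucc 0, Int.negSucc 0, Int.ofNat 1, Int.negSucc 0, Int.ofNat 1, Int.ofNat 1],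
  [Int.ofNat 1, Int.ofNat 1, Int.ofNat 1, Int.ofNat 1, Int.negSucc 0, Int.negSucc 0, Int.ofNat 1, Int.ofNat 1, Int.negSucc 0, Int.negSucc 0, Int.ofNat 1, Int.ofNat 1, Int.ofNat 3, Int.negSucc 0, Int.ofNat 1, Int.negSucc 0, Int.negSucc 0, Int.negSucc 0, Int.ofNat 1, Int.negSucc 0, Int.ofNat 1, Int.negSucc 0, Int.negSucc 0, Int.ofNat 1],
  [Int.ofNat 1, Int.ofNat 1, Int.ofNat 1, Int.ofNat 1, Int.ofNat 1, Int.negSucc 0, Int.ofNat 1, Int.ofNat 1, Int.negSucc 2, Int.negSucc 0, Int.ofNat 1, Int.negSucc 0, Int.ofNat 1, Int.ofNat 1, Int.ofNat 1, Int.negSucc 0, Int.ofNat 1, Int.negSucc 0, Int.negSucc 0, Int.negSucc 0, Int.ofNat 1, Int.negSucc 0, Int.ofNat 1, Int.ofNat 1],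
  [Int.ofNat 1, Int.negSucc 0, Int.ofNat 1, Int.ofNat 1, Int.ofNat 1, Int.negSucc 0, Int.ofNat 1, Int.negSucc 0, Int.ofNat 1, Int.ofNat 1, Int.ofNat 1, Int.negSucc 0, Int.negSucc 2, Int.negSucc 0, Int.negSucc 0, Int.negSucc 0, Int.ofNat 1, Int.negSucc 0, Int.ofNat 1, Int.ofNat 1, Int.ofNat 1, Int.ofNat 1, Int.ofNat 1, Int.ofNat 1],
  [Int.ofNat 0, Int.ofNat 2, Int.ofNat 0, Int.ofNat 2, Int.ofNat 0, Int.ofNat 0, Int.ofNat 0, Int.negSucc 1, Int.ofNat 2, Int.ofNat 0, Int.ofNat 0, Int.ofNat 0, Int.negSucc 1, Int.negSucc 1, Int.ofNat 0, Int.negSucc 1, Int.ofNat 0, Int.ofNat 0, Int.ofNat 2, Int.ofNat 0, Int.ofNat 0, Int.ofNat 0, Int.ofNat 0, Int.ofNat 0],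
  [Int.ofNat 0, Int.ofNat 0, Int.ofNat 0, Int.ofNat 0, Int.ofNat 2, Int.ofNat 0, Int.ofNat 2, Int.ofNat 0, Int.ofNat 0, Int.ofNat 0, Int.negSucc 1, Int.ofNat 2, Int.ofNat 0, Int.ofNat 0, Int.ofNat 0, Int.negSucc 1, Int.negSucc 1, Int.ofNat 0, Int.negSucc 1, Int.ofNat 0, Int.ofNat 0, Int.ofNat 2, Int.ofNat 0, Int.ofNat 0],
  [Int.ofNat 0, Int.ofNat 0, Int.ofNat 0, Int.ofNat 0, Int.ofNat 2, Int.ofNat 0, Int.ofNat 0, Int.negSucc 1, Int.ofNat 0, Int.ofNat 2, Int.ofNat 0, Int.ofNat 2, Int.ofNat 0, Int.ofNat 0, Int.ofNat 0, Int.ofNat 0, Int.negSucc 1, Int.ofNat 0, Int.negSucc 1, Int.negSucc 1, Int.ofNat 2, Int.ofNat 0, Int.ofNat 0, Int.ofNat 0],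
  [Int.ofNat 0, Int.ofNat 0, Int.ofNat 0, Int.ofNat 2, Int.ofNat 0, Int.ofNat 0, Int.negSucc 1, Int.ofNat 0, Int.ofNat 2, Int.ofNat 0, Int.ofNat 2, Int.ofNat 0, Int.ofNat 0, Int.ofNat 0, Int.ofNat 0, Int.negSucc 1, Int.ofNat 0, Int.negSucc 1, Int.negSucc 1, Int.ofNat 2, Int.ofNat 0, Int.ofNat 0, Int.ofNat 0, Int.ofNat 0],
  [Int.ofNat 0, Int.ofNat 0, Int.ofNat 0, Int.ofNat 2, Int.ofNat 0, Int.ofNat 0, Int.negSucc 1, Int.ofNat 0, Int.ofNat 2, Int.ofNat 0, Int.negSucc 1, Int.ofNat 0, Int.ofNat 0, Int.ofNat 0, Int.ofNat 0, Int.negSucc 1, Int.ofNat 0, Int.negSucc 1, Int.ofNat 2, Int.ofNat 2, Int.ofNat 0, Int.ofNat 0, Int.ofNat 0, Int.ofNat 0],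
  [Int.ofNat 0, Int.ofNat 0, Int.ofNat 0, Int.negSucc 1, Int.ofNat 0, Int.ofNat 0, Int.ofNat 2, Int.ofNat 0, Int.negSucc 1, Int.ofNat 0, Int.negSucc 1, Int.ofNat 0, Int.ofNat 0, Int.ofNat 0, Int.ofNat 0, Int.negSucc 1, Int.ofNat 0, Int.negSucc 1, Int.negSucc 1, Int.ofNat 2, Int.ofNat 0, Int.ofNat 0, Int.ofNat 0, Int.ofNat 0],
  [Int.ofNat 0, Int.ofNat 0, Int.negSucc 1, Int.negSucc 1, Int.ofNat 0, Int.negSucc 1, Int.ofNat 0, Int.ofNat 0, Int.ofNat 0, Int.ofNat 0, Int.ofNat 0, Int.ofNat 0, Int.ofNat 0, Int.negSucc 1, Int.ofNat 2, Int.negSucc 1, Int.ofNat 0, Int.ofNat 0, Int.ofNat 2, Int.negSucc 1, Int.ofNat 0, Int.ofNat 0, Int.ofNat 0, Int.ofNat 0],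
  [Int.ofNat 0, Int.ofNat 0, Int.ofNat 2, Int.negSucc 1, Int.ofNat 0, Int.negSucc 1, Int.ofNat 0, Int.ofNat 0, Int.ofNat 0, Int.ofNat 0, Int.ofNat 0, Int.ofNat 0, Int.ofNat 0, Int.negSucc 1, Int.ofNat 2, Int.negSucc 1, Int.ofNat 0, Int.ofNat 0, Int.negSucc 1, Int.negSucc 1, Int.ofNat 0, Int.ofNat 0, Int.ofNat 0, Int.ofNat 0],
  [Int.ofNat 0, Int.ofNat 0, Int.ofNat 0, Int.ofNat 2, Int.negSucc 1, Int.ofNat 0, Int.negSucc 1, Int.ofNat 0, Int.ofNat 0, Int.ofNat 0, Int.ofNat 0, Int.ofNat 0, Int.ofNat 0, Int.ofNat 0, Int.negSucc 1, Int.ofNat 2, Int.negSucc 1, Int.ofNat 0, Int.ofNat 0, Int.negSucc 1, Int.negSucc 1, Int.ofNat 0, Int.ofNat 0, Int.ofNat 0],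
  [Int.ofNat 0, Int.ofNat 0, Int.ofNat 0, Int.ofNat 2, Int.ofNat 0, Int.ofNat 0, Int.ofNat 0, Int.ofNat 2, Int.ofNat 0, Int.ofNat 0, Int.ofNat 0, Int.ofNat 0, Int.ofNat 0, Int.ofNat 2, Int.negSucc 1, Int.ofNat 2, Int.ofNat 0, Int.ofNat 0, Int.ofNat 0, Int.ofNat 0, Int.negSucc 1, Int.ofNat 2, Int.ofNat 2, Int.ofNat 0],
  [Int.ofNat 2, Int.ofNat 0, Int.ofNat 0, Int.ofNat 0, Int.ofNat 2, Int.ofNat 0, Int.ofNat 0, Int.ofNat 0, Int.ofNat 0, Int.ofNat 0, Int.ofNat 2, Int.negSucc 1, Int.ofNat 2, Int.ofNat 0, Int.ofNat 0, Int.ofNat 0, Int.ofNat 0, Int.negSucc 1, Int.ofNat 2, Int.ofNat 2, Int.ofNat 0, Int.ofNat 0, Int.ofNat 0, Int.ofNat 0],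
  [Int.negSucc 0, Int.ofNat 1, Int.ofNat 1, Int.ofNat 1, Int.ofNat 1, Int.ofNat 1, Int.negSucc 0, Int.negSucc 0, Int.negSucc 0, Int.negSucc 0, Int.ofNat 1, Int.negSucc 2, Int.ofNat 1, Int.negSucc 0, Int.ofNat 1, Int.negSucc 0, Int.negSucc 0, Int.negSucc 0, Int.ofNat 1, Int.ofNat 1, Int.negSucc 0, Int.negSucc 0, Int.negSucc 0, Int.ofNat 1],
  [Int.negSucc 0, Int.negSucc 0, Int.ofNat 1, Int.ofNat 1, Int.ofNat 1, Int.negSucc 0, Int.ofNat 1, Int.ofNat 1, Int.ofNat 1, Int.negSucc 0, Int.negSucc 0, Int.negSucc 0, Int.negSucc 0, Int.negSucc 0, Int.negSucc 0, Int.negSucc 0, Int.negSucc 0, Int.ofNat 1, Int.ofNat 1, Int.negSucc 2, Int.negSucc 0, Int.ofNat 1, Int.ofNat 1, Int.ofNat 1],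
  [Int.ofNat 1, Int.ofNat 1, Int.negSucc 0, Int.ofNat 1, Int.ofNat 1, Int.negSucc 0, Int.ofNat 1, Int.ofNat 1, Int.ofNat 1, Int.ofNat 1, Int.ofNat 1, Int.negSucc 0, Int.negSucc 0, Int.negSucc 0, Int.negSucc 0, Int.ofNat 1, Int.negSucc 0, Int.ofNat 1, Int.ofNat 1, Int.negSucc 2, Int.ofNat 1, Int.ofNat 1, Int.ofNat 1, Int.negSucc 0],
  [Int.ofNat 1, Int.ofNat 1, Int.ofNat 1, Int.ofNat 1, Int.ofNat 1, Int.ofNat 1, Int.negSucc 0, Int.ofNat 1, Int.ofNat 1, Int.negSucc 0, Int.negSucc 0, Int.negSucc 0, Int.negSucc 0, Int.negSucc 0, Int.negSucc 0, Int.negSucc 0, Int.negSucc 0, Int.ofNat 1, Int.negSucc 0, Int.negSucc 2, Int.ofNat 1, Int.ofNat 1, Int.negSucc 0, Int.negSucc 0],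
  [Int.negSucc 0, Int.negSucc 0, Int.negSucc 0, Int.ofNat 1, Int.negSucc 0, Int.negSucc 0, Int.ofNat 1, Int.ofNat 1, Int.ofNat 1, Int.ofNat 1, Int.negSucc 0, Int.ofNat 1, Int.negSucc 0, Int.ofNat 1, Int.ofNat 1, Int.negSucc 0, Int.negSucc 2, Int.negSucc 0, Int.negSucc 0, Int.ofNat 1, Int.ofNat 1, Int.ofNat 1, Int.negSucc 0, Int.negSucc 0],
  [Int.negSucc 0, Int.negSucc 0, Int.ofNat 1, Int.negSucc 0, Int.negSucc 0, Int.ofNat 1, Int.ofNat 1, Int.ofNat 1, Int.ofNat 1, Int.negSucc 0, Int.negSucc 2, Int.negSucc 0, Int.ofNat 1, Int.ofNat 1, Int.negSucc 0, Int.ofNat 1, Int.negSucc 0, Int.negSucc 0, Int.ofNat 1, Int.ofNat 1, Int.ofNat 1, Int.negSucc 0, Int.negSucc 0, Int.negSucc 0],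
  [Int.ofNat 1, Int.negSucc 0, Int.negSucc 0, Int.negSucc 0, Int.negSucc 0, Int.ofNat 1, Int.ofNat 1, Int.negSucc 0, Int.ofNat 1, Int.ofNat 1, Int.ofNat 3, Int.ofNat 1, Int.ofNat 1, Int.ofNat 1, Int.negSucc 0, Int.ofNat 1, Int.negSucc 0, Int.negSucc 0, Int.negSucc 0, Int.ofNat 1, Int.ofNat 1, Int.ofNat 1, Int.negSucc 0, Int.negSucc 0],
  [Int.negSucc 0, Int.ofNat 1, Int.negSucc 0, Int.negSucc 0, Int.negSucc 0, Int.negSucc 0, Int.ofNat 1, Int.ofNat 1, Int.negSucc 0, Int.ofNat 1, Int.ofNat 1, Int.ofNat 3, Int.ofNat 1, Int.ofNat 1, Int.ofNat 1, Int.negSucc 0, Int.ofNat 1, Int.negSucc 0, Int.negSucc 0, Int.negSucc 0, Int.ofNat 1, Int.ofNat 1, Int.ofNat 1, Int.negSucc 0],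
  [Int.ofNat 0, Int.negSucc 1, Int.ofNat 0, Int.ofNat 0, Int.negSucc 1, Int.ofNat 0, Int.ofNat 0, Int.ofNat 0, Int.negSucc 1, Int.ofNat 0, Int.ofNat 0, Int.ofNat 2, Int.ofNat 0, Int.ofNat 0, Int.ofNat 2, Int.negSucc 1, Int.ofNat 0, Int.ofNat 0, Int.negSucc 1, Int.negSucc 1, Int.ofNat 0, Int.ofNat 0, Int.ofNat 0, Int.ofNat 0],
  [Int.ofNat 0, Int.negSucc 1, Int.ofNat 0, Int.ofNat 0, Int.ofNat 0, Int.negSucc 1, Int.ofNat 0, Int.ofNat 0, Int.ofNat 2, Int.ofNat 0, Int.ofNat 0, Int.ofNat 2, Int.negSucc 1, Int.ofNat 0, Int.ofNat 0, Int.negSucc 1, Int.negSucc 1, Int.ofNat 0, Int.ofNat 0, Int.ofNat 0, Int.ofNat 0, Int.negSucc 1, Int.ofNat 0, Int.ofNat 0],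
  [Int.negSucc 0, Int.ofNat 1, Int.negSucc 0, Int.ofNat 1, Int.ofNat 1, Int.negSucc 0, Int.ofNat 1, Int.ofNat 1, Int.ofNat 1, Int.ofNat 1, Int.ofNat 1, Int.ofNat 1, Int.negSucc 2, Int.ofNat 1, Int.ofNat 1, Int.negSucc 0, Int.negSucc 0, Int.ofNat 1, Int.negSucc 0, Int.ofNat 1, Int.ofNat 1, Int.negSucc 0, Int.ofNat 1, Int.negSucc 0],
  [Int.negSucc 0, Int.ofNat 1, Int.ofNat 1, Int.ofNat 1, Int.negSucc 0, Int.ofNat 1, Int.negSucc 0, Int.ofNat 1, Int.negSucc 2, Int.ofNat 1, Int.ofNat 1, Int.ofNat 1, Int.ofNat 1, Int.negSucc 0, Int.ofNat 1, Int.negSucc 0, Int.ofNat 1, Int.ofNat 1, Int.ofNat 1, Int.ofNat 1, Int.negSucc 0, Int.negSucc 0, Int.ofNat 1, Int.negSucc 0],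
  [Int.ofNat 1, Int.negSucc 0, Int.negSucc 0, Int.negSucc 0, Int.negSucc 0, Int.negSucc 0, Int.negSucc 0, Int.ofNat 1, Int.negSucc 2, Int.ofNat 1, Int.ofNat 1, Int.ofNat 1, Int.ofNat 1, Int.negSucc 0, Int.negSucc 0, Int.negSucc 0, Int.ofNat 1, Int.negSucc 0, Int.ofNat 1, Int.ofNat 1, Int.negSucc 0, Int.negSucc 0, Int.ofNat 1, Int.ofNat 1],
  [Int.ofNat 1, Int.negSucc 0, Int.ofNat 1, Int.negSucc 0, Int.negSucc 0, Int.ofNat 1, Int.ofNat 1, Int.ofNat 1, Int.negSucc 2, Int.negSucc 0, Int.negSucc 0, Int.ofNat 1, Int.ofNat 1, Int.negSucc 0, Int.negSucc 0, Int.ofNat 1, Int.ofNat 1, Int.negSucc 0, Int.negSucc 0, Int.ofNat 1, Int.negSucc 0, Int.negSucc 0, Int.negSucc 0, Int.ofNat 1],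
  [Int.ofNat 1, Int.ofNat 1, Int.negSucc 0, Int.negSucc 0, Int.negSucc 0, Int.negSucc 0, Int.ofNat 1, Int.ofNat 1, Int.ofNat 1, Int.negSucc 0, Int.negSucc 0, Int.ofNat 1, Int.ofNat 1, Int.ofNat 1, Int.negSucc 0, Int.negSucc 2, Int.negSucc 0, Int.ofNat 1, Int.negSucc 0, Int.negSucc 0, Int.negSucc 0, Int.ofNat 1, Int.negSucc 0, Int.ofNat 1],
  [Int.ofNat 1, Int.ofNat 1, Int.ofNat 1, Int.negSucc 0, Int.negSucc 0, Int.ofNat 1, Int.negSucc 0, Int.ofNat 1, Int.ofNat 1, Int.ofNat 1, Int.ofNat 1, Int.ofNat 1, Int.ofNat 1, Int.ofNat 1, Int.negSucc 0, Int.ofNat 3, Int.negSucc 0, Int.ofNat 1, Int.ofNat 1, Int.negSucc 0, Int.negSucc 0, Int.ofNat 1, Int.ofNat 1, Int.ofNat 1],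
  [Int.ofNat 1, Int.ofNat 1, Int.ofNat 1, Int.negSucc 0, Int.negSucc 0, Int.ofNat 1, Int.negSucc 0, Int.ofNat 1, Int.negSucc 0, Int.negSucc 0, Int.negSucc 0, Int.negSucc 0, Int.negSucc 0, Int.ofNat 1, Int.negSucc 0, Int.ofNat 1, Int.negSucc 0, Int.ofNat 1, Int.negSucc 0, Int.negSucc 0, Int.negSucc 2, Int.ofNat 1, Int.ofNat 1, Int.ofNat 1],
  [Int.ofNat 1, Int.negSucc 0, Int.negSucc 0, Int.negSucc 0, Int.ofNat 1, Int.ofNat 1, Int.ofNat 1, Int.ofNat 1, Int.negSucc 0, Int.negSucc 0, Int.ofNat 1, Int.negSucc 0, Int.negSucc 0, Int.negSucc 0, Int.ofNat 1, Int.ofNat 1, Int.ofNat 1, Int.negSucc 0, Int.negSucc 0, Int.ofNat 1, Int.negSucc 0, Int.negSucc 2, Int.negSucc 0, Int.ofNat 1],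
  [Int.negSucc 0, Int.ofNat 1, Int.ofNat 1, Int.negSucc 0, Int.ofNat 1, Int.ofNat 1, Int.ofNat 1, Int.ofNat 1, Int.ofNat 1, Int.negSucc 0, Int.ofNat 1, Int.ofNat 1, Int.ofNat 1, Int.negSucc 0, Int.ofNat 1, Int.ofNat 1, Int.ofNat 1, Int.negSucc 0, Int.ofNat 1, Int.ofNat 1, Int.negSucc 0, Int.negSucc 2, Int.negSucc 0, Int.negSucc 0],
  [Int.negSucc 0, Int.negSucc 2, Int.negSucc 0, Int.negSucc 0, Int.ofNat 1, Int.ofNat 1, Int.negSucc 0, Int.ofNat 1, Int.ofNat 1, Int.ofNat 1, Int.ofNat 1, Int.ofNat 1, Int.negSucc 0, Int.ofNat 1, Int.ofNat 1, Int.ofNat 1, Int.negSucc 0, Int.ofNat 1, Int.ofNat 1, Int.ofNat 1, Int.negSucc 0, Int.ofNat 1, Int.ofNat 1, Int.negSucc 0],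
  [Int.negSucc 1, Int.ofNat 0, Int.negSucc 1, Int.negSucc 1, Int.ofNat 0, Int.ofNat 0, Int.negSucc 1, Int.ofNat 0, Int.ofNat 0, Int.ofNat 0, Int.ofNat 0, Int.ofNat 0, Int.negSucc 1, Int.ofNat 0, Int.ofNat 0, Int.ofNat 0, Int.negSucc 1, Int.ofNat 0, Int.ofNat 0, Int.ofNat 0, Int.negSucc 1, Int.ofNat 0, Int.ofNat 0, Int.negSucc 1],
  [Int.ofNat 0, Int.negSucc 1, Int.negSucc 1, Int.ofNat 0, Int.ofNat 0, Int.negSucc 1, Int.ofNat 0, Int.ofNat 0, Int.ofNat 0, Int.ofNat 0, Int.ofNat 0, Int.negSucc 1, Int.ofNat 0, Int.ofNat 0, Int.ofNat 0, Int.negSucc 1, Int.ofNat 0, Int.ofNat 0, Int.ofNat 0, Int.negSucc 1, Int.ofNat 0, Int.ofNat 0, Int.negSucc 1, Int.negSucc 1],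
  [Int.ofNat 0, Int.negSucc 1, Int.ofNat 2, Int.ofNat 0, Int.ofNat 0, Int.negSucc 1, Int.ofNat 0, Int.ofNat 0, Int.ofNat 0, Int.ofNat 0, Int.ofNat 0, Int.ofNat 2, Int.ofNat 0, Int.ofNat 0, Int.ofNat 0, Int.negSucc 1, Int.ofNat 0, Int.ofNat 0, Int.ofNat 0, Int.negSucc 1, Int.ofNat 0, Int.ofNat 0, Int.negSucc 1, Int.negSucc 1],
  [Int.ofNat 0, Int.ofNat 2, Int.negSucc 1, Int.ofNat 0, Int.ofNat 0, Int.negSucc 1, Int.ofNat 0, Int.ofNat 0, Int.ofNat 0, Int.ofNat 0, Int.ofNat 0, Int.ofNat 2, Int.ofNat 0, Int.ofNat 0, Int.ofNat 0, Int.negSucc 1, Int.ofNat 0, Int.ofNat 0, Int.ofNat 0, Int.negSucc 1, Int.ofNat 0, Int.ofNat 0, Int.negSucc 1, Int.negSucc 1],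
  [Int.ofNat 0, Int.negSucc 1, Int.ofNat 0, Int.ofNat 0, Int.ofNat 2, Int.ofNat 0, Int.ofNat 0, Int.ofNat 0, Int.ofNat 0, Int.ofNat 0, Int.ofNat 0, Int.ofNat 0, Int.ofNat 0, Int.ofNat 0, Int.negSucc 1, Int.negSucc 1, Int.ofNat 0, Int.negSucc 1, Int.ofNat 0, Int.ofNat 0, Int.negSucc 1, Int.ofNat 0, Int.ofNat 2, Int.negSucc 1],
  [Int.ofNat 0, Int.negSucc 1, Int.ofNat 0, Int.ofNat 0, Int.ofNat 2, Int.ofNat 0, Int.ofNat 0, Int.ofNat 0, Int.ofNat 0, Int.ofNat 0, Int.ofNat 0, Int.ofNat 0, Int.ofNat 0, Int.ofNat 0, Int.negSucc 1, Int.negSucc 1, Int.ofNat 0, Int.negSucc 1, Int.ofNat 0, Int.ofNat 0, Int.negSucc 1, Int.ofNat 0, Int.ofNat 2, Int.negSucc 1],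
  [Int.ofNat 2, Int.ofNat 0, Int.negSucc 1, Int.ofNat 0, Int.ofNat 0, Int.ofNat 2, Int.ofNat 0, Int.ofNat 0, Int.ofNat 0, Int.ofNat 0, Int.ofNat 0, Int.ofNat 0, Int.ofNat 0, Int.ofNat 0, Int.ofNat 0, Int.negSucc 1, Int.negSucc 1, Int.ofNat 0, Int.negSucc 1, Int.ofNat 0, Int.ofNat 0, Int.negSucc 1, Int.ofNat 0, Int.negSucc 1],
  [Int.negSucc 2, Int.negSucc 0, Int.ofNat 1, Int.negSucc 0, Int.ofNat 1, Int.ofNat 1, Int.ofNat 1, Int.ofNat 1, Int.ofNat 1, Int.ofNat 1, Int.ofNat 1, Int.ofNat 1, Int.ofNat 1, Int.ofNat 1, Int.negSucc 0, Int.negSucc 0, Int.negSucc 0, Int.negSucc 0, Int.negSucc 0, Int.ofNat 1, Int.ofNat 1, Int.negSucc 0, Int.ofNat 1, Int.ofNat 1],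
  [Int.negSucc 0, Int.ofNat 1, Int.ofNat 1, Int.ofNat 1, Int.ofNat 1, Int.ofNat 1, Int.ofNat 1, Int.ofNat 1, Int.ofNat 1, Int.ofNat 1, Int.ofNat 1, Int.negSucc 0, Int.negSucc 0, Int.negSucc 0, Int.negSucc 0, Int.negSucc 0, Int.ofNat 1, Int.ofNat 1, Int.negSucc 0, Int.ofNat 1, Int.negSucc 2, Int.negSucc 0, Int.ofNat 1, Int.ofNat 1],
  [Int.ofNat 2, Int.ofNat 0, Int.ofNat 0, Int.ofNat 0, Int.ofNat 0, Int.ofNat 0, Int.ofNat 0, Int.ofNat 0, Int.ofNat 2, Int.ofNat 2, Int.ofNat 2, Int.ofNat 0, Int.ofNat 0, Int.negSucc 1, Int.negSucc 1, Int.ofNat 0, Int.ofNat 0, Int.ofNat 0, Int.ofNat 0, Int.ofNat 0, Int.negSucc 1, Int.negSucc 1, Int.ofNat 0, Int.ofNat 0],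
  [Int.ofNat 2, Int.ofNat 0, Int.ofNat 0, Int.ofNat 0, Int.ofNat 0, Int.ofNat 0, Int.ofNat 0, Int.ofNat 2, Int.ofNat 0, Int.negSucc 1, Int.negSucc 1, Int.ofNat 0, Int.ofNat 2, Int.ofNat 0, Int.ofNat 0, Int.ofNat 0, Int.ofNat 2, Int.negSucc 1, Int.ofNat 0, Int.ofNat 0, Int.negSucc 1, Int.ofNat 0, Int.ofNat 0, Int.ofNat 0],
  [Int.negSucc 0, Int.ofNat 1, Int.ofNat 1, Int.ofNat 1, Int.negSucc 0, Int.ofNat 1, Int.negSucc 0, Int.ofNat 1, Int.negSucc 0, Int.ofNat 1, Int.ofNat 1, Int.negSucc 0, Int.ofNat 1, Int.negSucc 0, Int.ofNat 1, Int.ofNat 3, Int.ofNat 1, Int.negSucc 0, Int.negSucc 0, Int.negSucc 0, Int.ofNat 1, Int.negSucc 0, Int.negSucc 0, Int.ofNat 1],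
  [Int.negSucc 0, Int.ofNat 1, Int.negSucc 0, Int.ofNat 1, Int.negSucc 0, Int.negSucc 0, Int.ofNat 1, Int.ofNat 1, Int.negSucc 0, Int.negSucc 0, Int.negSucc 0, Int.negSucc 0, Int.ofNat 1, Int.negSucc 0, Int.ofNat 1, Int.negSucc 2, Int.ofNat 1, Int.negSucc 0, Int.ofNat 1, Int.negSucc 0, Int.ofNat 1, Int.negSucc 0, Int.ofNat 1, Int.ofNat 1],
  [Int.negSucc 0, Int.ofNat 1, Int.negSucc 0, Int.negSucc 0, Int.ofNat 1, Int.ofNat 1, Int.negSucc 0, Int.ofNat 1, Int.negSucc 0, Int.ofNat 1, Int.negSucc 0, Int.ofNat 1, Int.negSucc 2, Int.negSucc 0, Int.negSucc 0, Int.ofNat 1, Int.negSucc 0, Int.ofNat 1, Int.negSucc 0, Int.negSucc 0, Int.negSucc 0, Int.ofNat 1, Int.ofNat 1, Int.ofNat 1],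
  [Int.ofNat 1, Int.ofNat 1, Int.ofNat 1, Int.ofNat 1, Int.ofNat 1, Int.ofNat 1, Int.negSucc 0, Int.negSucc 0, Int.negSucc 0, Int.ofNat 1, Int.negSucc 0, Int.negSucc 0, Int.ofNat 1, Int.ofNat 1, Int.negSucc 0, Int.negSucc 0, Int.negSucc 0, Int.ofNat 1, Int.negSucc 0, Int.negSucc 0, Int.negSucc 0, Int.negSucc 2, Int.ofNat 1, Int.negSucc 0],
  [Int.negSucc 0, Int.ofNat 1, Int.negSucc 0, Int.ofNat 1, Int.ofNat 1, Int.ofNat 1, Int.negSucc 0, Int.ofNat 1, Int.negSucc 0, Int.negSucc 0, Int.ofNat 1, Int.ofNat 1, Int.ofNat 1, Int.ofNat 1, Int.negSucc 0, Int.negSucc 0, Int.negSucc 0, Int.ofNat 1, Int.ofNat 1, Int.negSucc 0, Int.negSucc 0, Int.ofNat 3, Int.ofNat 1, Int.negSucc 0],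
  [Int.ofNat 1, Int.negSucc 0, Int.ofNat 1, Int.negSucc 0, Int.ofNat 1, Int.ofNat 1, Int.ofNat 1, Int.negSucc 0, Int.ofNat 1, Int.negSucc 0, Int.negSucc 0, Int.ofNat 1, Int.ofNat 1, Int.ofNat 1, Int.ofNat 1, Int.negSucc 0, Int.negSucc 0, Int.negSucc 0, Int.ofNat 1, Int.ofNat 1, Int.negSucc 0, Int.negSucc 0, Int.ofNat 3, Int.negSucc 0],
  [Int.negSucc 0, Int.ofNat 1, Int.negSucc 0, Int.negSucc 0, Int.negSucc 0, Int.ofNat 1, Int.ofNat 1, Int.negSucc 0, Int.negSucc 0, Int.ofNat 1, Int.ofNat 1, Int.negSucc 0, Int.negSucc 0, Int.negSucc 0, Int.ofNat 1, Int.ofNat 1, Int.negSucc 2, Int.negSucc 0, Int.negSucc 0, Int.ofNat 1, Int.ofNat 1, Int.negSucc 0, Int.ofNat 1, Int.ofNat 1],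
  [Int.negSucc 0, Int.negSucc 0, Int.ofNat 1, Int.ofNat 1, Int.negSucc 0, Int.negSucc 0, Int.ofNat 1, Int.ofNat 1, Int.negSucc 0, Int.negSucc 0, Int.negSucc 0, Int.ofNat 1, Int.ofNat 1, Int.negSucc 2, Int.negSucc 0, Int.negSucc 0, Int.ofNat 1, Int.ofNat 1, Int.negSucc 0, Int.ofNat 1, Int.negSucc 0, Int.ofNat 1, Int.negSucc 0, Int.ofNat 1],
  [Int.ofNat 1, Int.ofNat 1, Int.negSucc 0, Int.ofNat 1, Int.ofNat 1, Int.negSucc 0, Int.negSucc 0, Int.negSucc 0, Int.negSucc 0, Int.ofNat 1, Int.ofNat 1, Int.ofNat 1, Int.ofNat 1, Int.negSucc 0, Int.negSucc 0, Int.ofNat 1, Int.ofNat 3, Int.ofNat 1, Int.negSucc 0, Int.negSucc 0, Int.ofNat 1, Int.negSucc 0, Int.ofNat 1, Int.negSucc 0],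
  [Int.ofNat 1, Int.negSucc 0, Int.ofNat 1, Int.ofNat 1, Int.negSucc 0, Int.negSucc 0, Int.negSucc 0, Int.ofNat 1, Int.ofNat 1, Int.negSucc 0, Int.ofNat 1, Int.ofNat 1, Int.ofNat 1, Int.ofNat 3, Int.ofNat 1, Int.ofNat 1, Int.negSucc 0, Int.negSucc 0, Int.ofNat 1, Int.ofNat 1, Int.negSucc 0, Int.negSucc 0, Int.negSucc 0, Int.negSucc 0],
  [Int.negSucc 0, Int.ofNat 1, Int.negSucc 0, Int.ofNat 1, Int.negSucc 0, Int.negSucc 0, Int.negSucc 0, Int.ofNat 1, Int.negSucc 0, Int.negSucc 0, Int.ofNat 1, Int.negSucc 0, Int.negSucc 0, Int.ofNat 3, Int.ofNat 1, Int.ofNat 1, Int.negSucc 0, Int.negSucc 0, Int.negSucc 0, Int.ofNat 1, Int.negSucc 0, Int.negSucc 0, Int.negSucc 0, Int.ofNat 1],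
  [Int.negSucc 0, Int.ofNat 1, Int.ofNat 1, Int.ofNat 1, Int.negSucc 0, Int.ofNat 1, Int.ofNat 1, Int.ofNat 1, Int.negSucc 0, Int.ofNat 1, Int.negSucc 0, Int.negSucc 0, Int.negSucc 0, Int.ofNat 3, Int.ofNat 1, Int.negSucc 0, Int.negSucc 0, Int.negSucc 0, Int.ofNat 1, Int.ofNat 1, Int.negSucc 0, Int.negSucc 0, Int.ofNat 1, Int.ofNat 1],
  [Int.ofNat 1, Int.negSucc 0, Int.ofNat 3, Int.ofNat 1, Int.ofNat 1, Int.ofNat 1, Int.ofNat 1, Int.negSucc 0, Int.negSucc 0, Int.negSucc 0, Int.negSucc 0, Int.ofNat 1, Int.ofNat 1, Int.negSucc 0, Int.ofNat 1, Int.negSucc 0, Int.ofNat 1, Int.ofNat 1, Int.negSucc 0, Int.ofNat 1, Int.negSucc 0, Int.negSucc 0, Int.negSucc 0, Int.ofNat 1],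
  [Int.ofNat 1, Int.negSucc 0, Int.negSucc 2, Int.ofNat 1, Int.ofNat 1, Int.negSucc 0, Int.negSucc 0, Int.negSucc 0, Int.negSucc 0, Int.ofNat 1, Int.ofNat 1, Int.ofNat 1, Int.ofNat 1, Int.negSucc 0, Int.ofNat 1, Int.ofNat 1, Int.ofNat 1, Int.ofNat 1, Int.ofNat 1, Int.ofNat 1, Int.negSucc 0, Int.negSucc 0, Int.ofNat 1, Int.ofNat 1],
  [Int.negSucc 1, Int.ofNat 0, Int.ofNat 2, Int.ofNat 0, Int.ofNat 0, Int.negSucc 1, Int.ofNat 0, Int.ofNat 0, Int.negSucc 1, Int.ofNat 0, Int.ofNat 0, Int.ofNat 0, Int.ofNat 0, Int.negSucc 1, Int.ofNat 0, Int.ofNat 0, Int.ofNat 0, Int.ofNat 0, Int.ofNat 0, Int.ofNat 2, Int.negSucc 1, Int.ofNat 0, Int.ofNat 0, Int.negSucc 1],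
  [Int.negSucc 1, Int.ofNat 0, Int.ofNat 0, Int.ofNat 0, Int.ofNat 2, Int.ofNat 0, Int.ofNat 0, Int.negSucc 1, Int.ofNat 0, Int.ofNat 0, Int.ofNat 0, Int.ofNat 2, Int.negSucc 1, Int.ofNat 0, Int.ofNat 0, Int.ofNat 0, Int.negSucc 1, Int.ofNat 0, Int.ofNat 0, Int.ofNat 0, Int.ofNat 0, Int.negSucc 1, Int.ofNat 0, Int.negSucc 1],
  [Int.ofNat 0, Int.negSucc 1, Int.negSucc 1, Int.ofNat 0, Int.ofNat 2, Int.ofNat 0, Int.ofNat 2, Int.ofNat 0, Int.ofNat 0, Int.ofNat 0, Int.ofNat 0, Int.ofNat 2, Int.negSucc 1, Int.ofNat 0, Int.ofNat 0, Int.ofNat 0, Int.negSucc 1, Int.ofNat 0, Int.ofNat 0, Int.ofNat 2, Int.ofNat 0, Int.ofNat 0, Int.ofNat 0, Int.ofNat 0],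
  [Int.ofNat 0, Int.ofNat 0, Int.ofNat 0, Int.ofNat 0, Int.negSucc 1, Int.negSucc 1, Int.ofNat 0, Int.ofNat 2, Int.ofNat 0, Int.ofNat 2, Int.ofNat 0, Int.ofNat 0, Int.ofNat 0, Int.ofNat 0, Int.ofNat 2, Int.negSucc 1, Int.ofNat 0, Int.ofNat 0, Int.ofNat 0, Int.negSucc 1, Int.ofNat 0, Int.ofNat 0, Int.ofNat 2, Int.ofNat 0],
  [Int.ofNat 0, Int.ofNat 0, Int.ofNat 0, Int.ofNat 0, Int.negSucc 1, Int.negSucc 1, Int.ofNat 0, Int.ofNat 2, Int.ofNat 0, Int.ofNat 2, Int.ofNat 0, Int.ofNat 0, Int.ofNat 0, Int.ofNat 0, Int.ofNat 2, Int.negSucc 1, Int.ofNat 0, Int.ofNat 0, Int.ofNat 0, Int.negSucc 1, Int.ofNat 0, Int.ofNat 0, Int.ofNat 2, Int.ofNat 0],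
  [Int.ofNat 0, Int.ofNat 0, Int.ofNat 0, Int.negSucc 1, Int.negSucc 1, Int.ofNat 0, Int.ofNat 2, Int.ofNat 0, Int.ofNat 2, Int.ofNat 0, Int.ofNat 0, Int.ofNat 0, Int.ofNat 0, Int.ofNat 2, Int.negSucc 1, Int.ofNat 0, Int.ofNat 0, Int.ofNat 0, Int.negSucc 1, Int.ofNat 0, Int.ofNat 0, Int.ofNat 2, Int.ofNat 0, Int.ofNat 0],
  [Int.ofNat 0, Int.ofNat 0, Int.ofNat 0, Int.negSucc 1, Int.negSucc 1, Int.ofNat 0, Int.ofNat 2, Int.ofNat 0, Int.ofNat 2, Int.ofNat 0, Int.ofNat 0, Int.ofNat 0, Int.ofNat 0, Int.ofNat 2, Int.negSucc 1, Int.ofNat 0, Int.ofNat 0, Int.ofNat 0, Int.ofNat 2, Int.ofNat 0, Int.ofNat 0, Int.negSucc 1, Int.ofNat 0, Int.ofNat 0],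
  [Int.ofNat 0, Int.ofNat 0, Int.ofNat 0, Int.ofNat 2, Int.ofNat 2, Int.ofNat 0, Int.negSucc 1, Int.ofNat 0, Int.negSucc 1, Int.ofNat 0, Int.ofNat 0, Int.ofNat 0, Int.ofNat 0, Int.negSucc 1, Int.negSucc 1, Int.ofNat 0, Int.ofNat 0, Int.ofNat 0, Int.negSucc 1, Int.ofNat 0, Int.ofNat 0, Int.negSucc 1, Int.ofNat 0, Int.ofNat 0],
  [Int.ofNat 0, Int.ofNat 0, Int.negSucc 1, Int.ofNat 2, Int.ofNat 0, Int.ofNat 0, Int.ofNat 2, Int.ofNat 0, Int.ofNat 0, Int.ofNat 0, Int.negSucc 1, Int.negSucc 1, Int.negSucc 1, Int.negSucc 1, Int.ofNat 0, Int.ofNat 0, Int.ofNat 0, Int.ofNat 0, Int.negSucc 1, Int.ofNat 0, Int.ofNat 0, Int.ofNat 0, Int.ofNat 0, Int.ofNat 0],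
  [Int.ofNat 0, Int.ofNat 0, Int.ofNat 2, Int.ofNat 2, Int.ofNat 0, Int.ofNat 0, Int.ofNat 2, Int.ofNat 0, Int.ofNat 0, Int.ofNat 0, Int.ofNat 2, Int.ofNat 2, Int.negSucc 1, Int.negSucc 1, Int.ofNat 0, Int.ofNat 0, Int.ofNat 0, Int.ofNat 0, Int.ofNat 2, Int.ofNat 0, Int.ofNat 0, Int.ofNat 0, Int.ofNat 0, Int.ofNat 0],
  [Int.ofNat 0, Int.ofNat 0, Int.ofNat 0, Int.ofNat 2, Int.ofNat 2, Int.ofNat 0, Int.ofNat 0, Int.ofNat 2, Int.ofNat 0, Int.ofNat 0, Int.ofNat 0, Int.ofNat 2, Int.ofNat 2, Int.negSucc 1, Int.negSucc 1, Int.ofNat 0, Int.ofNat 0, Int.ofNat 0, Int.ofNat 0, Int.ofNat 2, Int.ofNat 0, Int.ofNat 0, Int.ofNat 0, Int.ofNat 0],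
  [Int.ofNat 0, Int.ofNat 0, Int.ofNat 0, Int.ofNat 2, Int.ofNat 2, Int.ofNat 0, Int.negSucc 1, Int.ofNat 0, Int.negSucc 1, Int.ofNat 0, Int.ofNat 0, Int.ofNat 0, Int.ofNat 0, Int.negSucc 1, Int.negSucc 1, Int.ofNat 0, Int.ofNat 0, Int.ofNat 0, Int.negSucc 1, Int.ofNat 0, Int.ofNat 0, Int.negSucc 1, Int.ofNat 0, Int.ofNat 0],
  [Int.ofNat 2, Int.ofNat 2, Int.ofNat 0, Int.negSucc 1, Int.ofNat 0, Int.negSucc 1, Int.ofNat 0, Int.ofNat 0, Int.ofNat 0, Int.ofNat 0, Int.negSucc 1, Int.negSucc 1, Int.ofNat 0, Int.ofNat 0, Int.ofNat 0, Int.negSucc 1, Int.ofNat 0, Int.ofNat 0, Int.negSucc 1, Int.ofNat 0, Int.ofNat 0, Int.ofNat 0, Int.ofNat 0, Int.ofNat 0],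
  [Int.ofNat 0, Int.ofNat 0, Int.ofNat 2, Int.ofNat 0, Int.ofNat 0, Int.ofNat 0, Int.ofNat 0, Int.ofNat 0, Int.ofNat 2, Int.ofNat 2, Int.ofNat 0, Int.ofNat 0, Int.ofNat 2, Int.ofNat 0, Int.ofNat 2, Int.ofNat 0, Int.ofNat 0, Int.ofNat 2, Int.ofNat 0, Int.ofNat 0, Int.ofNat 2, Int.ofNat 0, Int.ofNat 0, Int.ofNat 2],
  [Int.ofNat 0, Int.ofNat 0, Int.ofNat 0, Int.ofNat 0, Int.ofNat 0, Int.ofNat 0, Int.ofNat 2, Int.ofNat 0, Int.ofNat 2, Int.ofNat 0, Int.ofNat 2, Int.ofNat 2, Int.ofNat 2, Int.ofNat 0, Int.ofNat 0, Int.ofNat 0, Int.ofNat 2, Int.ofNat 2, Int.ofNat 0, Int.ofNat 0, Int.ofNat 0, Int.ofNat 0, Int.ofNat 0, Int.ofNat 2],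
  [Int.ofNat 1, Int.ofNat 1, Int.ofNat 1, Int.negSucc 0, Int.negSucc 0, Int.negSucc 0, Int.ofNat 1, Int.negSucc 0, Int.negSucc 0, Int.negSucc 0, Int.ofNat 1, Int.negSucc 0, Int.negSucc 0, Int.negSucc 0, Int.negSucc 0, Int.negSucc 0, Int.ofNat 1, Int.ofNat 1, Int.negSucc 2, Int.negSucc 0, Int.negSucc 0, Int.negSucc 0, Int.negSucc 0, Int.negSucc 0],
  [Int.ofNat 1, Int.ofNat 1, Int.negSucc 0, Int.negSucc 0, Int.negSucc 0, Int.ofNat 1, Int.negSucc 0, Int.negSucc 0, Int.negSucc 0, Int.ofNat 1, Int.negSucc 0, Int.negSucc 0, Int.negSucc 0, Int.negSucc 0, Int.negSucc 0, Int.ofNat 1, Int.ofNat 1, Int.ofNat 1, Int.ofNat 3, Int.negSucc 0, Int.negSucc 0, Int.negSucc 0, Int.ofNat 1, Int.negSucc 0],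
  [Int.negSucc 0, Int.ofNat 1, Int.negSucc 0, Int.negSucc 0, Int.negSucc 0, Int.negSucc 0, Int.negSucc 0, Int.negSucc 0, Int.ofNat 1, Int.negSucc 0, Int.negSucc 0, Int.negSucc 0, Int.ofNat 1, Int.negSucc 0, Int.ofNat 1, Int.ofNat 3, Int.negSucc 0, Int.negSucc 0, Int.ofNat 1, Int.negSucc 0, Int.ofNat 1, Int.ofNat 1, Int.ofNat 1, Int.negSucc 0],
  [Int.negSucc 0, Int.ofNat 1, Int.negSucc 0, Int.ofNat 3, Int.negSucc 0, Int.negSucc 0, Int.negSucc 0, Int.negSucc 0, Int.ofNat 1, Int.negSucc 0, Int.negSucc 0, Int.negSucc 0, Int.ofNat 1, Int.negSucc 0, Int.ofNat 1, Int.negSucc 0, Int.negSucc 0, Int.negSucc 0, Int.ofNat 1, Int.negSucc 0, Int.ofNat 1, Int.ofNat 1, Int.ofNat 1, Int.negSucc 0],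
  [Int.ofNat 1, Int.ofNat 1, Int.ofNat 1, Int.ofNat 3, Int.negSucc 0, Int.negSucc 0, Int.negSucc 0, Int.ofNat 1, Int.ofNat 1, Int.ofNat 1, Int.ofNat 1, Int.ofNat 1, Int.ofNat 1, Int.negSucc 0, Int.ofNat 1, Int.negSucc 0, Int.negSucc 0, Int.negSucc 0, Int.negSucc 0, Int.negSucc 0, Int.ofNat 1, Int.negSucc 0, Int.ofNat 1, Int.negSucc 0],
  [Int.ofNat 1, Int.ofNat 1, Int.ofNat 1, Int.ofNat 1, Int.ofNat 3, Int.negSucc 0, Int.negSucc 0, Int.negSucc 0, Int.ofNat 1, Int.ofNat 1, Int.ofNat 1, Int.ofNat 1, Int.ofNat 1, Int.ofNat 1, Int.negSucc 0, Int.ofNat 1, Int.negSucc 0, Int.negSucc 0, Int.negSucc 0, Int.negSucc 0, Int.negSucc 0, Int.ofNat 1, Int.negSucc 0, Int.negSucc 0],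
  [Int.ofNat 0, Int.ofNat 0, Int.ofNat 0, Int.ofNat 2, Int.ofNat 2, Int.ofNat 0, Int.ofNat 0, Int.ofNat 0, Int.ofNat 0, Int.ofNat 0, Int.ofNat 0, Int.ofNat 0, Int.ofNat 0, Int.ofNat 0, Int.ofNat 0, Int.ofNat 0, Int.negSucc 1, Int.ofNat 0, Int.negSucc 1, Int.ofNat 0, Int.negSucc 1, Int.ofNat 2, Int.negSucc 1, Int.ofNat 2],
  [Int.ofNat 2, Int.ofNat 2, Int.ofNat 0, Int.ofNat 0, Int.ofNat 0, Int.ofNat 0, Int.ofNat 0, Int.ofNat 0, Int.ofNat 0, Int.ofNat 0, Int.ofNat 0, Int.ofNat 0, Int.ofNat 0, Int.negSucc 1, Int.ofNat 0, Int.negSucc 1, Int.ofNat 0, Int.negSucc 1, Int.ofNat 2, Int.negSucc 1, Int.ofNat 0, Int.ofNat 0, Int.ofNat 0, Int.ofNat 2],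
  [Int.ofNat 1, Int.ofNat 1, Int.ofNat 3, Int.ofNat 1, Int.ofNat 1, Int.ofNat 1, Int.ofNat 1, Int.ofNat 1, Int.negSucc 0, Int.ofNat 1, Int.ofNat 1, Int.negSucc 0, Int.negSucc 0, Int.negSucc 0, Int.ofNat 1, Int.negSucc 0, Int.ofNat 1, Int.negSucc 0, Int.ofNat 1, Int.negSucc 0, Int.ofNat 1, Int.ofNat 1, Int.ofNat 1, Int.ofNat 1],
  [Int.ofNat 1, Int.ofNat 1, Int.ofNat 1, Int.ofNat 1, Int.ofNat 1, Int.ofNat 1, Int.ofNat 3, Int.ofNat 1, Int.negSucc 0, Int.negSucc 0, Int.ofNat 1, Int.negSucc 0, Int.ofNat 1, Int.ofNat 1, Int.ofNat 1, Int.negSucc 0, Int.negSucc 0, Int.ofNat 1, Int.ofNat 1, Int.negSucc 0, Int.ofNat 1, Int.ofNat 1, Int.negSucc 0, Int.ofNat 1],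
  [Int.ofNat 1, Int.ofNat 1, Int.ofNat 1, Int.negSucc 0, Int.ofNat 1, Int.negSucc 0, Int.ofNat 1, Int.negSucc 0, Int.negSucc 0, Int.negSucc 0, Int.ofNat 1, Int.negSucc 0, Int.ofNat 1, Int.ofNat 1, Int.negSucc 0, Int.negSucc 0, Int.negSucc 0, Int.negSucc 0, Int.ofNat 1, Int.negSucc 2, Int.ofNat 1, Int.negSucc 0, Int.negSucc 0, Int.ofNat 1],
  [Int.ofNat 1, Int.ofNat 1, Int.negSucc 0, Int.negSucc 0, Int.ofNat 1, Int.ofNat 1, Int.negSucc 0, Int.negSucc 0, Int.negSucc 0, Int.ofNat 1, Int.negSucc 0, Int.negSucc 0, Int.ofNat 1, Int.ofNat 1, Int.negSucc 0, Int.ofNat 1, Int.negSucc 0, Int.negSucc 0, Int.negSucc 0, Int.negSucc 2, Int.ofNat 1, Int.negSucc 0, Int.ofNat 1, Int.ofNat 1],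
  [Int.negSucc 0, Int.ofNat 1, Int.ofNat 1, Int.ofNat 1, Int.negSucc 0, Int.ofNat 1, Int.negSucc 0, Int.negSucc 0, Int.ofNat 1, Int.ofNat 1, Int.negSucc 0, Int.negSucc 2, Int.ofNat 1, Int.negSucc 0, Int.ofNat 1, Int.negSucc 0, Int.negSucc 0, Int.negSucc 0, Int.negSucc 0, Int.negSucc 0, Int.negSucc 0, Int.ofNat 1, Int.ofNat 1, Int.ofNat 1],
  [Int.negSucc 0, Int.ofNat 1, Int.negSucc 0, Int.ofNat 1, Int.negSucc 0, Int.negSucc 0, Int.ofNat 1, Int.negSucc 0, Int.ofNat 1, Int.negSucc 0, Int.ofNat 1, Int.negSucc 2, Int.ofNat 1, Int.negSucc 0, Int.ofNat 1, Int.ofNat 1, Int.negSucc 0, Int.negSucc 0, Int.ofNat 1, Int.negSucc 0, Int.negSucc 0, Int.ofNat 1, Int.negSucc 0, Int.ofNat 1],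
  [Int.ofNat 1, Int.negSucc 0, Int.ofNat 1, Int.ofNat 1, Int.ofNat 1, Int.negSucc 0, Int.ofNat 1, Int.negSucc 0, Int.ofNat 1, Int.negSucc 0, Int.ofNat 1, Int.negSucc 2, Int.ofNat 1, Int.ofNat 1, Int.ofNat 1, Int.ofNat 1, Int.ofNat 1, Int.negSucc 0, Int.ofNat 1, Int.negSucc 0, Int.negSucc 0, Int.ofNat 1, Int.ofNat 1, Int.negSucc 0],
  [Int.ofNat 1, Int.ofNat 1, Int.ofNat 1, Int.ofNat 1, Int.ofNat 1, Int.ofNat 1, Int.negSucc 0, Int.negSucc 0, Int.ofNat 1, Int.ofNat 1, Int.negSucc 0, Int.negSucc 0, Int.ofNat 1, Int.negSucc 0, Int.negSucc 0, Int.ofNat 1, Int.ofNat 1, Int.negSucc 2, Int.ofNat 1, Int.ofNat 1, Int.ofNat 1, Int.negSucc 0, Int.ofNat 1, Int.negSucc 0],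
  [Int.ofNat 0, Int.ofNat 0, Int.ofNat 0, Int.ofNat 2, Int.ofNat 0, Int.ofNat 2, Int.ofNat 0, Int.ofNat 0, Int.ofNat 0, Int.ofNat 0, Int.negSucc 1, Int.negSucc 1, Int.ofNat 0, Int.negSucc 1, Int.ofNat 0, Int.ofNat 0, Int.ofNat 0, Int.negSucc 1, Int.ofNat 0, Int.ofNat 2, Int.ofNat 0, Int.ofNat 0, Int.ofNat 0, Int.ofNat 2],
  [Int.ofNat 0, Int.ofNat 0, Int.ofNat 0, Int.ofNat 0, Int.ofNat 0, Int.ofNat 0, Int.ofNat 2, Int.ofNat 0, Int.ofNat 2, Int.ofNat 0, Int.ofNat 0, Int.ofNat 0, Int.ofNat 0, Int.negSucc 1, Int.negSucc 1, Int.ofNat 0, Int.negSucc 1, Int.ofNat 0, Int.ofNat 0, Int.ofNat 0, Int.negSucc 1, Int.ofNat 0, Int.ofNat 2, Int.ofNat 2],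
  [Int.ofNat 1, Int.ofNat 1, Int.ofNat 1, Int.ofNat 1, Int.ofNat 1, Int.ofNat 1, Int.ofNat 1, Int.negSucc 0, Int.ofNat 1, Int.ofNat 1, Int.ofNat 1, Int.negSucc 0, Int.negSucc 0, Int.negSucc 0, Int.negSucc 0, Int.ofNat 1, Int.negSucc 0, Int.ofNat 1, Int.negSucc 0, Int.negSucc 0, Int.negSucc 0, Int.negSucc 0, Int.ofNat 3, Int.negSucc 0],
  [Int.ofNat 1, Int.ofNat 1, Int.ofNat 1, Int.ofNat 1, Int.ofNat 1, Int.ofNat 1, Int.negSucc 0, Int.ofNat 1, Int.ofNat 1, Int.ofNat 1, Int.negSucc 0, Int.negSucc 0, Int.negSucc 0, Int.negSucc 0, Int.ofNat 1, Int.negSucc 0, Int.ofNat 1, Int.negSucc 0, Int.negSucc 0, Int.negSucc 0, Int.negSucc 0, Int.ofNat 3, Int.ofNat 1, Int.negSucc 0],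
  [Int.negSucc 0, Int.ofNat 1, Int.negSucc 0, Int.ofNat 1, Int.ofNat 1, Int.ofNat 1, Int.negSucc 0, Int.negSucc 0, Int.ofNat 1, Int.negSucc 0, Int.ofNat 1, Int.ofNat 1, Int.negSucc 0, Int.negSucc 0, Int.ofNat 1, Int.negSucc 0, Int.ofNat 1, Int.negSucc 0, Int.ofNat 1, Int.negSucc 0, Int.negSucc 0, Int.negSucc 2, Int.ofNat 1, Int.negSucc 0],
  [Int.ofNat 1, Int.negSucc 0, Int.ofNat 1, Int.negSucc 0, Int.negSucc 0, Int.ofNat 1, Int.ofNat 1, Int.negSucc 0, Int.negSucc 0, Int.ofNat 1, Int.ofNat 1, Int.ofNat 1, Int.ofNat 1, Int.ofNat 1, Int.ofNat 1, Int.negSucc 0, Int.negSucc 0, Int.negSucc 0, Int.negSucc 0, Int.negSucc 0, Int.negSucc 0, Int.negSucc 2, Int.ofNat 1, Int.negSucc 0],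
  [Int.ofNat 1, Int.ofNat 1, Int.negSucc 0, Int.negSucc 0, Int.negSucc 0, Int.ofNat 1, Int.negSucc 0, Int.negSucc 0, Int.ofNat 1, Int.negSucc 0, Int.negSucc 2, Int.ofNat 1, Int.ofNat 1, Int.negSucc 0, Int.negSucc 0, Int.negSucc 0, Int.ofNat 1, Int.ofNat 1, Int.ofNat 1, Int.negSucc 0, Int.ofNat 1, Int.negSucc 0, Int.ofNat 1, Int.negSucc 0],
  [Int.negSucc 0, Int.ofNat 1, Int.ofNat 1, Int.negSucc 0, Int.negSucc 0, Int.ofNat 1, Int.negSucc 0, Int.ofNat 1, Int.ofNat 1, Int.ofNat 1, Int.ofNat 3, Int.negSucc 0, Int.ofNat 1, Int.negSucc 0, Int.negSucc 0, Int.negSucc 0, Int.ofNat 1, Int.ofNat 1, Int.negSucc 0, Int.negSucc 0, Int.ofNat 1, Int.ofNat 1, Int.ofNat 1, Int.negSucc 0],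
  [Int.ofNat 1, Int.negSucc 0, Int.ofNat 1, Int.ofNat 1, Int.negSucc 0, Int.negSucc 0, Int.ofNat 1, Int.negSucc 0, Int.ofNat 1, Int.ofNat 1, Int.ofNat 1, Int.ofNat 3, Int.negSucc 0, Int.ofNat 1, Int.negSucc 0, Int.negSucc 0, Int.negSucc 0, Int.ofNat 1, Int.ofNat 1, Int.negSucc 0, Int.negSucc 0, Int.ofNat 1, Int.ofNat 1, Int.negSucc 0],
  [Int.negSucc 0, Int.ofNat 1, Int.negSucc 0, Int.ofNat 1, Int.negSucc 0, Int.negSucc 0, Int.ofNat 1, Int.negSucc 0, Int.negSucc 0, Int.ofNat 1, Int.ofNat 1, Int.ofNat 1, Int.negSucc 2, Int.ofNat 1, Int.negSucc 0, Int.negSucc 0, Int.negSucc 0, Int.ofNat 1, Int.negSucc 0, Int.negSucc 0, Int.negSucc 0, Int.ofNat 1, Int.ofNat 1, Int.ofNat 1],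
  [Int.ofNat 1, Int.negSucc 0, Int.negSucc 0, Int.ofNat 1, Int.negSucc 0, Int.negSucc 0, Int.ofNat 1, Int.ofNat 1, Int.ofNat 1, Int.negSucc 2, Int.ofNat 1, Int.negSucc 0, Int.negSucc 0, Int.negSucc 0, Int.ofNat 1, Int.negSucc 0, Int.negSucc 0, Int.negSucc 0, Int.ofNat 1, Int.ofNat 1, Int.negSucc 0, Int.ofNat 1, Int.negSucc 0, Int.ofNat 1],
  [Int.negSucc 0, Int.ofNat 1, Int.ofNat 1, Int.ofNat 1, Int.ofNat 1, Int.negSucc 0, Int.negSucc 0, Int.negSucc 0, Int.ofNat 1, Int.negSucc 0, Int.ofNat 3, Int.negSucc 0, Int.negSucc 0, Int.ofNat 1, Int.ofNat 1, Int.ofNat 1, Int.ofNat 1, Int.negSucc 0, Int.ofNat 1, Int.negSucc 0, Int.ofNat 1, Int.negSucc 0, Int.ofNat 1, Int.negSucc 0],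
  [Int.negSucc 0, Int.negSucc 0, Int.ofNat 1, Int.ofNat 1, Int.ofNat 1, Int.negSucc 0, Int.ofNat 1, Int.ofNat 3, Int.negSucc 0, Int.ofNat 1, Int.ofNat 1, Int.negSucc 0, Int.negSucc 0, Int.ofNat 1, Int.ofNat 1, Int.ofNat 1, Int.ofNat 1, Int.ofNat 1, Int.ofNat 1, Int.negSucc 0, Int.negSucc 0, Int.negSucc 0, Int.negSucc 0, Int.negSucc 0],
  [Int.ofNat 0, Int.ofNat 0, Int.negSucc 1, Int.ofNat 0, Int.ofNat 0, Int.negSucc 1, Int.ofNat 0, Int.ofNat 2, Int.ofNat 0, Int.ofNat 0, Int.ofNat 0, Int.ofNat 0, Int.ofNat 0, Int.ofNat 0, Int.ofNat 0, Int.ofNat 0, Int.ofNat 0, Int.ofNat 0, Int.ofNat 2, Int.negSucc 1, Int.negSucc 1, Int.negSucc 1, Int.negSucc 1, Int.ofNat 0],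
  [Int.ofNat 0, Int.ofNat 0, Int.ofNat 2, Int.ofNat 0, Int.ofNat 0, Int.ofNat 2, Int.ofNat 0, Int.ofNat 2, Int.ofNat 0, Int.ofNat 0, Int.ofNat 0, Int.ofNat 0, Int.ofNat 0, Int.ofNat 0, Int.ofNat 0, Int.ofNat 0, Int.ofNat 0, Int.ofNat 0, Int.negSucc 1, Int.negSucc 1, Int.negSucc 1, Int.negSucc 1, Int.ofNat 2, Int.ofNat 0],
  [Int.ofNat 0, Int.ofNat 0, Int.ofNat 0, Int.ofNat 0, Int.ofNat 0, Int.ofNat 0, Int.negSucc 1, Int.ofNat 0, Int.ofNat 2, Int.negSucc 1, Int.ofNat 0, Int.ofNat 2, Int.ofNat 0, Int.ofNat 0, Int.ofNat 0, Int.negSucc 1, Int.negSucc 1, Int.ofNat 0, Int.ofNat 0, Int.ofNat 2, Int.ofNat 0, Int.ofNat 0, Int.ofNat 2, Int.ofNat 0],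
  [Int.ofNat 0, Int.ofNat 2, Int.ofNat 2, Int.negSucc 1, Int.ofNat 0, Int.negSucc 1, Int.ofNat 2, Int.ofNat 0, Int.ofNat 0, Int.ofNat 0, Int.negSucc 1, Int.ofNat 0, Int.ofNat 0, Int.ofNat 0, Int.ofNat 0, Int.ofNat 0, Int.ofNat 0, Int.ofNat 0, Int.ofNat 0, Int.negSucc 1, Int.ofNat 2, Int.ofNat 0, Int.ofNat 0, Int.ofNat 0],
  [Int.ofNat 0, Int.ofNat 2, Int.negSucc 1, Int.negSucc 1, Int.ofNat 0, Int.negSucc 1, Int.ofNat 2, Int.ofNat 0, Int.ofNat 0, Int.ofNat 0, Int.ofNat 2, Int.ofNat 0, Int.ofNat 0, Int.ofNat 0, Int.ofNat 0, Int.ofNat 0, Int.ofNat 0, Int.ofNat 0, Int.ofNat 0, Int.negSucc 1, Int.ofNat 2, Int.ofNat 0, Int.ofNat 0, Int.ofNat 0],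
  [Int.ofNat 0, Int.ofNat 0, Int.ofNat 2, Int.negSucc 1, Int.negSucc 1, Int.ofNat 0, Int.negSucc 1, Int.ofNat 2, Int.ofNat 0, Int.ofNat 0, Int.ofNat 0, Int.ofNat 2, Int.ofNat 0, Int.ofNat 0, Int.ofNat 0, Int.ofNat 0, Int.ofNat 0, Int.ofNat 0, Int.ofNat 0, Int.ofNat 0, Int.negSucc 1, Int.ofNat 2, Int.ofNat 0, Int.ofNat 0],
  [Int.ofNat 1, Int.ofNat 1, Int.negSucc 0, Int.negSucc 0, Int.negSucc 0, Int.ofNat 1, Int.negSucc 2, Int.ofNat 1, Int.negSucc 0, Int.ofNat 1, Int.ofNat 1, Int.ofNat 1, Int.negSucc 0, Int.ofNat 1, Int.ofNat 1, Int.ofNat 1, Int.ofNat 1, Int.ofNat 1, Int.negSucc 0, Int.negSucc 0, Int.negSucc 0, Int.ofNat 1, Int.ofNat 1, Int.ofNat 1],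
  [Int.negSucc 0, Int.negSucc 0, Int.ofNat 1, Int.negSucc 2, Int.ofNat 1, Int.negSucc 0, Int.ofNat 1, Int.ofNat 1, Int.ofNat 1, Int.negSucc 0, Int.ofNat 1, Int.ofNat 1, Int.ofNat 1, Int.ofNat 1, Int.ofNat 1, Int.negSucc 0, Int.negSucc 0, Int.negSucc 0, Int.ofNat 1, Int.ofNat 1, Int.ofNat 1, Int.ofNat 1, Int.negSucc 0, Int.ofNat 1],
  [Int.ofNat 1, Int.ofNat 1, Int.negSucc 0, Int.negSucc 0, Int.ofNat 1, Int.ofNat 1, Int.negSucc 0, Int.negSucc 0, Int.negSucc 0, Int.negSucc 0, Int.ofNat 1, Int.negSucc 0, Int.negSucc 0, Int.ofNat 1, Int.ofNat 3, Int.negSucc 0, Int.negSucc 0, Int.ofNat 1, Int.negSucc 0, Int.negSucc 0, Int.ofNat 1, Int.negSucc 0, Int.negSucc 0, Int.negSucc 0],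
  [Int.ofNat 1, Int.negSucc 0, Int.ofNat 1, Int.negSucc 0, Int.negSucc 0, Int.negSucc 0, Int.negSucc 0, Int.ofNat 1, Int.negSucc 0, Int.ofNat 1, Int.ofNat 1, Int.ofNat 1, Int.negSucc 0, Int.negSucc 0, Int.negSucc 0, Int.negSucc 0, Int.negSucc 0, Int.ofNat 3, Int.ofNat 1, Int.negSucc 0, Int.negSucc 0, Int.ofNat 1, Int.negSucc 0, Int.negSucc 0],
  [Int.negSucc 0, Int.ofNat 1, Int.negSucc 0, Int.negSucc 0, Int.ofNat 1, Int.negSucc 0, Int.negSucc 0, Int.ofNat 1, Int.negSucc 0, Int.ofNat 1, Int.ofNat 1, Int.ofNat 1, Int.negSucc 0, Int.ofNat 1, Int.negSucc 0, Int.negSucc 0, Int.ofNat 1, Int.ofNat 3, Int.ofNat 1, Int.negSucc 0, Int.negSucc 0, Int.ofNat 1, Int.ofNat 1, Int.ofNat 1],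
  [Int.negSucc 0, Int.ofNat 1, Int.ofNat 1, Int.negSucc 0, Int.ofNat 1, Int.ofNat 1, Int.ofNat 1, Int.ofNat 1, Int.negSucc 0, Int.negSucc 0, Int.negSucc 0, Int.ofNat 1, Int.negSucc 0, Int.ofNat 1, Int.negSucc 0, Int.ofNat 1, Int.ofNat 1, Int.ofNat 3, Int.negSucc 0, Int.negSucc 0, Int.negSucc 0, Int.ofNat 1, Int.negSucc 0, Int.ofNat 1],
  [Int.ofNat 1, Int.ofNat 1, Int.ofNat 1, Int.ofNat 1, Int.negSucc 0, Int.negSucc 0, Int.ofNat 1, Int.ofNat 1, Int.negSucc 0, Int.negSucc 0, Int.ofNat 3, Int.negSucc 0, Int.ofNat 1, Int.ofNat 1, Int.negSucc 0, Int.negSucc 0, Int.negSucc 0, Int.ofNat 1, Int.ofNat 1, Int.negSucc 0, Int.negSucc 0, Int.negSucc 0, Int.ofNat 1, Int.ofNat 1],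
  [Int.ofNat 1, Int.ofNat 1, Int.negSucc 0, Int.ofNat 1, Int.negSucc 0, Int.ofNat 1, Int.negSucc 0, Int.ofNat 1, Int.negSucc 0, Int.ofNat 1, Int.negSucc 2, Int.negSucc 0, Int.ofNat 1, Int.ofNat 1, Int.negSucc 0, Int.ofNat 1, Int.negSucc 0, Int.ofNat 1, Int.negSucc 0, Int.negSucc 0, Int.negSucc 0, Int.negSucc 0, Int.negSucc 0, Int.ofNat 1],
  [Int.ofNat 0, Int.ofNat 0, Int.ofNat 2, Int.ofNat 0, Int.ofNat 0, Int.ofNat 0, Int.ofNat 0, Int.ofNat 2, Int.ofNat 0, Int.ofNat 2, Int.negSucc 1, Int.ofNat 0, Int.ofNat 2, Int.ofNat 2, Int.negSucc 1, Int.ofNat 2, Int.ofNat 0, Int.ofNat 0, Int.ofNat 0, Int.ofNat 0, Int.ofNat 0, Int.ofNat 0, Int.ofNat 0, Int.ofNat 0],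
  [Int.ofNat 0, Int.ofNat 0, Int.ofNat 0, Int.ofNat 0, Int.ofNat 2, Int.ofNat 0, Int.ofNat 0, Int.ofNat 0, Int.ofNat 0, Int.ofNat 2, Int.ofNat 2, Int.ofNat 0, Int.ofNat 0, Int.ofNat 2, Int.ofNat 0, Int.ofNat 2, Int.ofNat 2, Int.ofNat 0, Int.ofNat 0, Int.ofNat 0, Int.negSucc 1, Int.ofNat 0, Int.negSucc 1, Int.ofNat 0],
  [Int.ofNat 0, Int.ofNat 0, Int.ofNat 0, Int.ofNat 0, Int.ofNat 0, Int.ofNat 0, Int.ofNat 0, Int.ofNat 0, Int.ofNat 0, Int.ofNat 0, Int.ofNat 0, Int.ofNat 0, Int.ofNat 0, Int.ofNat 0, Int.ofNat 0, Int.ofNat 0, Int.ofNat 0, Int.ofNat 0, Int.ofNat 0, Int.ofNat 0, Int.negSucc 3, Int.ofNat 0, Int.negSucc 3, Int.ofNat 0],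
  [Int.negSucc 3, Int.ofNat 0, Int.negSucc 3, Int.ofNat 0, Int.ofNat 0, Int.ofNat 0, Int.ofNat 0, Int.ofNat 0, Int.ofNat 0, Int.ofNat 0, Int.ofNat 0, Int.ofNat 0, Int.ofNat 0, Int.ofNat 0, Int.ofNat 0, Int.ofNat 0, Int.ofNat 0, Int.ofNat 0, Int.ofNat 0, Int.ofNat 0, Int.ofNat 0, Int.ofNat 0, Int.ofNat 0, Int.ofNat 0],
  [Int.ofNat 0, Int.negSucc 3, Int.ofNat 0, Int.ofNat 0, Int.ofNat 0, Int.ofNat 0, Int.ofNat 0, Int.ofNat 0, Int.ofNat 0, Int.ofNat 0, Int.ofNat 0, Int.ofNat 0, Int.ofNat 0, Int.ofNat 0, Int.ofNat 0, Int.ofNat 0, Int.ofNat 0, Int.ofNat 0, Int.ofNat 0, Int.ofNat 0, Int.ofNat 0, Int.ofNat 0, Int.ofNat 0, Int.negSucc 3],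
  [Int.negSucc 3, Int.ofNat 0, Int.ofNat 0, Int.ofNat 0, Int.ofNat 0, Int.ofNat 0, Int.ofNat 0, Int.ofNat 0, Int.ofNat 0, Int.ofNat 0, Int.ofNat 0, Int.ofNat 0, Int.ofNat 0, Int.ofNat 0, Int.ofNat 0, Int.ofNat 0, Int.ofNat 0, Int.ofNat 0, Int.ofNat 0, Int.ofNat 0, Int.ofNat 0, Int.ofNat 0, Int.ofNat 0, Int.negSucc 3],
  [Int.ofNat 4, Int.ofNat 0, Int.ofNat 0, Int.ofNat 0, Int.ofNat 0, Int.ofNat 0, Int.ofNat 0, Int.ofNat 0, Int.ofNat 0, Int.ofNat 0, Int.ofNat 0, Int.ofNat 0, Int.ofNat 0, Int.ofNat 0, Int.ofNat 0, Int.ofNat 0, Int.ofNat 0, Int.ofNat 0, Int.ofNat 0, Int.ofNat 0, Int.ofNat 0, Int.ofNat 0, Int.ofNat 0, Int.negSucc 3],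
  [Int.negSucc 3, Int.ofNat 0, Int.ofNat 0, Int.ofNat 0, Int.ofNat 0, Int.ofNat 0, Int.ofNat 0, Int.ofNat 0, Int.ofNat 0, Int.ofNat 0, Int.ofNat 0, Int.ofNat 0, Int.ofNat 0, Int.ofNat 0, Int.ofNat 0, Int.ofNat 0, Int.ofNat 0, Int.ofNat 0, Int.ofNat 0, Int.ofNat 0, Int.ofNat 0, Int.ofNat 0, Int.ofNat 0, Int.negSucc 3],
  [Int.negSucc 3, Int.ofNat 0, Int.ofNat 0, Int.ofNat 0, Int.ofNat 0, Int.ofNat 0, Int.ofNat 0, Int.ofNat 0, Int.ofNat 0, Int.ofNat 0, Int.ofNat 0, Int.ofNat 0, Int.ofNat 0, Int.ofNat 0, Int.ofNat 0, Int.ofNat 0, Int.ofNat 0, Int.ofNat 0, Int.ofNat 0, Int.ofNat 0, Int.ofNat 0, Int.ofNat 0, Int.ofNat 0, Int.negSucc 3],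
  [Int.ofNat 4, Int.ofNat 0, Int.ofNat 0, Int.ofNat 0, Int.ofNat 0, Int.ofNat 0, Int.ofNat 0, Int.ofNat 0, Int.ofNat 0, Int.ofNat 0, Int.ofNat 0, Int.ofNat 0, Int.ofNat 0, Int.ofNat 0, Int.ofNat 0, Int.ofNat 0, Int.ofNat 0, Int.ofNat 0, Int.ofNat 0, Int.ofNat 0, Int.ofNat 0, Int.ofNat 0, Int.ofNat 0, Int.negSucc 3],
  [Int.ofNat 0, Int.ofNat 4, Int.ofNat 0, Int.ofNat 0, Int.ofNat 0, Int.ofNat 0, Int.ofNat 0, Int.ofNat 0, Int.ofNat 0, Int.ofNat 0, Int.ofNat 0, Int.ofNat 0, Int.ofNat 0, Int.ofNat 0, Int.ofNat 0, Int.ofNat 0, Int.ofNat 0, Int.ofNat 0, Int.ofNat 0, Int.ofNat 0, Int.ofNat 0, Int.ofNat 0, Int.ofNat 0, Int.negSucc 3],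
  [Int.ofNat 0, Int.negSucc 3, Int.ofNat 0, Int.ofNat 0, Int.ofNat 0, Int.ofNat 0, Int.ofNat 0, Int.ofNat 0, Int.ofNat 0, Int.ofNat 0, Int.ofNat 0, Int.ofNat 0, Int.ofNat 0, Int.ofNat 0, Int.ofNat 0, Int.ofNat 0, Int.ofNat 0, Int.ofNat 0, Int.ofNat 0, Int.ofNat 0, Int.ofNat 0, Int.ofNat 0, Int.ofNat 0, Int.ofNat 4],
  [Int.ofNat 0, Int.ofNat 0, Int.ofNat 0, Int.ofNat 0, Int.ofNat 0, Int.ofNat 0, Int.ofNat 0, Int.ofNat 0, Int.ofNat 0, Int.ofNat 0, Int.ofNat 0, Int.ofNat 0, Int.ofNat 0, Int.ofNat 0, Int.ofNat 0, Int.ofNat 0, Int.ofNat 0, Int.ofNat 0, Int.ofNat 0, Int.ofNat 0, Int.ofNat 0, Int.negSucc 3, Int.ofNat 0, Int.ofNat 4],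
  [Int.ofNat 2, Int.ofNat 2, Int.ofNat 2, Int.ofNat 0, Int.ofNat 0, Int.ofNat 0, Int.ofNat 2, Int.ofNat 2, Int.ofNat 0, Int.ofNat 0, Int.ofNat 0, Int.ofNat 0, Int.ofNat 0, Int.ofNat 0, Int.ofNat 0, Int.ofNat 0, Int.ofNat 0, Int.ofNat 0, Int.ofNat 0, Int.ofNat 2, Int.ofNat 0, Int.negSucc 1, Int.ofNat 0, Int.negSucc 1],
  [Int.ofNat 2, Int.ofNat 2, Int.ofNat 0, Int.ofNat 0, Int.ofNat 0, Int.ofNat 2, Int.ofNat 2, Int.ofNat 0, Int.ofNat 0, Int.ofNat 0, Int.ofNat 0, Int.ofNat 0, Int.ofNat 0, Int.ofNat 0, Int.ofNat 0, Int.ofNat 0, Int.ofNat 0, Int.ofNat 0, Int.ofNat 2, Int.ofNat 0, Int.negSucc 1, Int.ofNat 0, Int.ofNat 2, Int.negSucc 1],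
  [Int.negSucc 0, Int.negSucc 0, Int.ofNat 1, Int.negSucc 0, Int.negSucc 0, Int.ofNat 1, Int.ofNat 1, Int.negSucc 0, Int.negSucc 0, Int.ofNat 1, Int.ofNat 1, Int.negSucc 0, Int.negSucc 0, Int.negSucc 0, Int.negSucc 0, Int.ofNat 1, Int.negSucc 0, Int.negSucc 0, Int.ofNat 1, Int.negSucc 0, Int.negSucc 0, Int.negSucc 0, Int.ofNat 1, Int.ofNat 3],
  [Int.negSucc 0, Int.negSucc 0, Int.negSucc 0, Int.negSucc 0, Int.negSucc 0, Int.negSucc 0, Int.negSucc 0, Int.negSucc 0, Int.negSucc 0, Int.negSucc 0, Int.negSucc 0, Int.negSucc 0, Int.negSucc 0, Int.negSucc 0, Int.negSucc 0, Int.negSucc 0, Int.negSucc 0, Int.negSucc 0, Int.negSucc 0, Int.negSucc 0, Int.negSucc 0, Int.negSucc 0, Int.negSucc 0, Int.ofNat 3],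
  [Int.negSucc 0, Int.negSucc 0, Int.negSucc 0, Int.negSucc 0, Int.negSucc 0, Int.negSucc 0, Int.negSucc 0, Int.negSucc 0, Int.negSucc 0, Int.negSucc 0, Int.negSucc 0, Int.negSucc 0, Int.negSucc 0, Int.negSucc 0, Int.negSucc 0, Int.negSucc 0, Int.negSucc 0, Int.negSucc 0, Int.negSucc 0, Int.negSucc 0, Int.negSucc 0, Int.negSucc 0, Int.negSucc 0, Int.ofNat 3],
  [Int.ofNat 3, Int.negSucc 0, Int.negSucc 0, Int.negSucc 0, Int.negSucc 0, Int.negSucc 0, Int.negSucc 0, Int.negSucc 0, Int.negSucc 0, Int.negSucc 0, Int.negSucc 0, Int.negSucc 0, Int.negSucc 0, Int.negSucc 0, Int.negSucc 0, Int.negSucc 0, Int.negSucc 0, Int.negSucc 0, Int.negSucc 0, Int.negSucc 0, Int.negSucc 0, Int.negSucc 0, Int.negSucc 0, Int.negSucc 0],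
  [Int.negSucc 2, Int.negSucc 0, Int.ofNat 1, Int.negSucc 0, Int.negSucc 0, Int.negSucc 0, Int.negSucc 0, Int.ofNat 1, Int.negSucc 0, Int.ofNat 1, Int.ofNat 1, Int.ofNat 1, Int.negSucc 0, Int.negSucc 0, Int.negSucc 0, Int.negSucc 0, Int.negSucc 0, Int.negSucc 0, Int.ofNat 1, Int.negSucc 0, Int.negSucc 0, Int.ofNat 1, Int.negSucc 0, Int.negSucc 0],
  [Int.negSucc 0, Int.negSucc 2, Int.negSucc 0, Int.ofNat 1, Int.negSucc 0, Int.negSucc 0, Int.negSucc 0, Int.negSucc 0, Int.ofNat 1, Int.negSucc 0, Int.ofNat 1, Int.ofNat 1, Int.ofNat 1, Int.negSucc 0, Int.negSucc 0, Int.negSucc 0, Int.negSucc 0, Int.negSucc 0, Int.negSucc 0, Int.ofNat 1, Int.negSucc 0, Int.negSucc 0, Int.ofNat 1, Int.negSucc 0],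
  [Int.negSucc 1, Int.ofNat 0, Int.negSucc 1, Int.ofNat 2, Int.ofNat 0, Int.ofNat 0, Int.ofNat 0, Int.ofNat 0, Int.ofNat 0, Int.ofNat 0, Int.ofNat 2, Int.ofNat 0, Int.ofNat 0, Int.ofNat 0, Int.ofNat 0, Int.ofNat 0, Int.ofNat 0, Int.ofNat 0, Int.negSucc 1, Int.ofNat 2, Int.ofNat 0, Int.ofNat 0, Int.ofNat 2, Int.negSucc 1],
  [Int.ofNat 2, Int.ofNat 0, Int.ofNat 0, Int.ofNat 0, Int.ofNat 0, Int.ofNat 0, Int.ofNat 0, Int.ofNat 2, Int.ofNat 0, Int.ofNat 0, Int.ofNat 0, Int.ofNat 0, Int.ofNat 0, Int.ofNat 0, Int.ofNat 0, Int.negSucc 1, Int.ofNat 2, Int.ofNat 0, Int.ofNat 0, Int.ofNat 2, Int.negSucc 1, Int.ofNat 0, Int.negSucc 1, Int.negSucc 1],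
  [Int.negSucc 1, Int.ofNat 0, Int.ofNat 0, Int.ofNat 0, Int.ofNat 0, Int.ofNat 0, Int.negSucc 1, Int.ofNat 0, Int.ofNat 0, Int.ofNat 2, Int.ofNat 2, Int.ofNat 0, Int.ofNat 0, Int.ofNat 0, Int.ofNat 0, Int.ofNat 0, Int.ofNat 2, Int.ofNat 0, Int.ofNat 0, Int.ofNat 0, Int.ofNat 0, Int.negSucc 1, Int.negSucc 1, Int.ofNat 2],
  [Int.negSucc 1, Int.negSucc 1, Int.ofNat 0, Int.ofNat 0, Int.ofNat 0, Int.ofNat 0, Int.ofNat 0, Int.ofNat 2, Int.ofNat 0, Int.ofNat 0, Int.ofNat 0, Int.ofNat 0, Int.ofNat 2, Int.ofNat 2, Int.negSucc 1, Int.ofNat 0, Int.ofNat 0, Int.ofNat 0, Int.ofNat 0, Int.ofNat 0, Int.negSucc 1, Int.ofNat 0, Int.ofNat 0, Int.ofNat 2],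
  [Int.ofNat 1, Int.ofNat 1, Int.negSucc 0, Int.ofNat 1, Int.negSucc 0, Int.ofNat 1, Int.negSucc 0, Int.ofNat 1, Int.negSucc 0, Int.ofNat 1, Int.ofNat 1, Int.negSucc 0, Int.ofNat 1, Int.ofNat 1, Int.negSucc 0, Int.ofNat 1, Int.negSucc 0, Int.ofNat 1, Int.negSucc 0, Int.negSucc 0, Int.negSucc 0, Int.negSucc 0, Int.negSucc 0, Int.negSucc 2],
  [Int.ofNat 1, Int.ofNat 1, Int.ofNat 1, Int.ofNat 1, Int.negSucc 0, Int.negSucc 0, Int.ofNat 1, Int.ofNat 1, Int.negSucc 0, Int.negSucc 0, Int.negSucc 0, Int.negSucc 0, Int.ofNat 1, Int.ofNat 1, Int.negSucc 0, Int.negSucc 0, Int.negSucc 0, Int.ofNat 1, Int.ofNat 1, Int.negSucc 0, Int.negSucc 0, Int.negSucc 0, Int.ofNat 1, Int.negSucc 2],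
  [Int.ofNat 1, Int.negSucc 0, Int.ofNat 1, Int.ofNat 1, Int.negSucc 0, Int.ofNat 1, Int.ofNat 1, Int.negSucc 0, Int.ofNat 1, Int.negSucc 0, Int.ofNat 1, Int.negSucc 0, Int.negSucc 0, Int.negSucc 0, Int.negSucc 0, Int.negSucc 0, Int.ofNat 1, Int.ofNat 1, Int.negSucc 0, Int.ofNat 1, Int.negSucc 0, Int.ofNat 1, Int.negSucc 0, Int.negSucc 2],
  [Int.ofNat 1, Int.negSucc 0, Int.negSucc 0, Int.ofNat 1, Int.negSucc 0, Int.negSucc 0, Int.negSucc 0, Int.negSucc 0, Int.ofNat 1, Int.ofNat 1, Int.negSucc 0, Int.negSucc 0, Int.negSucc 0, Int.negSucc 0, Int.negSucc 0, Int.ofNat 1, Int.ofNat 1, Int.ofNat 1, Int.ofNat 1, Int.ofNat 1, Int.negSucc 0, Int.ofNat 1, Int.ofNat 1, Int.negSucc 2],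
  [Int.negSucc 2, Int.negSucc 0, Int.negSucc 0, Int.ofNat 1, Int.negSucc 0, Int.negSucc 0, Int.negSucc 0, Int.negSucc 0, Int.ofNat 1, Int.ofNat 1, Int.negSucc 0, Int.negSucc 0, Int.negSucc 0, Int.negSucc 0, Int.negSucc 0, Int.ofNat 1, Int.ofNat 1, Int.ofNat 1, Int.ofNat 1, Int.ofNat 1, Int.negSucc 0, Int.ofNat 1, Int.ofNat 1, Int.ofNat 1],
  [Int.negSucc 2, Int.ofNat 1, Int.negSucc 0, Int.ofNat 1, Int.negSucc 0, Int.ofNat 1, Int.negSucc 0, Int.negSucc 0, Int.ofNat 1, Int.negSucc 0, Int.negSucc 0, Int.ofNat 1, Int.ofNat 1, Int.ofNat 1, Int.ofNat 1, Int.ofNat 1, Int.negSucc 0, Int.negSucc 0, Int.negSucc 0, Int.ofNat 1, Int.negSucc 0, Int.negSucc 0, Int.negSucc 0, Int.ofNat 1],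
  [Int.ofNat 2, Int.negSucc 1, Int.ofNat 0, Int.ofNat 0, Int.ofNat 0, Int.ofNat 0, Int.ofNat 0, Int.ofNat 0, Int.ofNat 0, Int.ofNat 0, Int.ofNat 0, Int.ofNat 0, Int.ofNat 0, Int.ofNat 2, Int.ofNat 0, Int.ofNat 2, Int.ofNat 0, Int.negSucc 1, Int.negSucc 1, Int.ofNat 2, Int.ofNat 0, Int.ofNat 0, Int.ofNat 0, Int.negSucc 1],
  [Int.ofNat 0, Int.ofNat 0, Int.ofNat 0, Int.ofNat 2, Int.negSucc 1, Int.ofNat 0, Int.ofNat 0, Int.ofNat 0, Int.ofNat 0, Int.ofNat 0, Int.ofNat 0, Int.ofNat 0, Int.ofNat 0, Int.ofNat 0, Int.ofNat 0, Int.ofNat 0, Int.ofNat 2, Int.ofNat 0, Int.ofNat 2, Int.ofNat 0, Int.negSucc 1, Int.negSucc 1, Int.ofNat 2, Int.negSucc 1],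
  [Int.negSucc 0, Int.negSucc 0, Int.negSucc 0, Int.ofNat 1, Int.negSucc 2, Int.negSucc 0, Int.ofNat 1, Int.ofNat 1, Int.negSucc 0, Int.ofNat 1, Int.ofNat 1, Int.negSucc 0, Int.negSucc 0, Int.negSucc 0, Int.negSucc 0, Int.ofNat 1, Int.ofNat 1, Int.negSucc 0, Int.ofNat 1, Int.ofNat 1, Int.negSucc 0, Int.negSucc 0, Int.ofNat 1, Int.ofNat 1],
  [Int.negSucc 0, Int.negSucc 0, Int.ofNat 1, Int.negSucc 2, Int.negSucc 0, Int.ofNat 1, Int.ofNat 1, Int.negSucc 0, Int.ofNat 1, Int.ofNat 1, Int.negSucc 0, Int.negSucc 0, Int.negSucc 0, Int.negSucc 0, Int.ofNat 1, Int.ofNat 1, Int.negSucc 0, Int.ofNat 1, Int.ofNat 1, Int.negSucc 0, Int.negSucc 0, Int.ofNat 1, Int.negSucc 0, Int.ofNat 1],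
  [Int.ofNat 1, Int.negSucc 0, Int.negSucc 0, Int.negSucc 2, Int.negSucc 0, Int.ofNat 1, Int.ofNat 1, Int.ofNat 1, Int.ofNat 1, Int.negSucc 0, Int.ofNat 1, Int.ofNat 1, Int.negSucc 0, Int.negSucc 0, Int.ofNat 1, Int.ofNat 1, Int.negSucc 0, Int.ofNat 1, Int.negSucc 0, Int.negSucc 0, Int.negSucc 0, Int.negSucc 0, Int.negSucc 0, Int.ofNat 1],
  [Int.negSucc 0, Int.ofNat 1, Int.ofNat 1, Int.ofNat 3, Int.ofNat 1, Int.ofNat 1, Int.negSucc 0, Int.ofNat 1, Int.negSucc 0, Int.ofNat 1, Int.ofNat 1, Int.ofNat 1, Int.ofNat 1, Int.ofNat 1, Int.ofNat 1, Int.ofNat 1, Int.ofNat 1, Int.ofNat 1, Int.ofNat 1, Int.negSucc 0, Int.negSucc 0, Int.negSucc 0, Int.negSucc 0, Int.ofNat 1],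
  [Int.negSucc 0, Int.ofNat 1, Int.ofNat 1, Int.ofNat 3, Int.ofNat 1, Int.ofNat 1, Int.ofNat 1, Int.negSucc 0, Int.ofNat 1, Int.ofNat 1, Int.negSucc 0, Int.ofNat 1, Int.ofNat 1, Int.negSucc 0, Int.negSucc 0, Int.ofNat 1, Int.ofNat 1, Int.negSucc 0, Int.negSucc 0, Int.ofNat 1, Int.ofNat 1, Int.ofNat 1, Int.ofNat 1, Int.ofNat 1],
  [Int.ofNat 1, Int.ofNat 1, Int.negSucc 0, Int.ofNat 3, Int.ofNat 1, Int.ofNat 1, Int.ofNat 1, Int.ofNat 1, Int.ofNat 1, Int.negSucc 0, Int.ofNat 1, Int.negSucc 0, Int.ofNat 1, Int.negSucc 0, Int.negSucc 0, Int.ofNat 1, Int.ofNat 1, Int.negSucc 0, Int.ofNat 1, Int.ofNat 1, Int.ofNat 1, Int.negSucc 0, Int.ofNat 1, Int.ofNat 1],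
  [Int.ofNat 1, Int.ofNat 1, Int.ofNat 1, Int.negSucc 0, Int.ofNat 3, Int.ofNat 1, Int.ofNat 1, Int.ofNat 1, Int.ofNat 1, Int.ofNat 1, Int.negSucc 0, Int.ofNat 1, Int.negSucc 0, Int.ofNat 1, Int.negSucc 0, Int.negSucc 0, Int.ofNat 1, Int.ofNat 1, Int.negSucc 0, Int.ofNat 1, Int.ofNat 1, Int.ofNat 1, Int.negSucc 0, Int.ofNat 1],
  [Int.ofNat 1, Int.ofNat 1, Int.ofNat 1, Int.negSucc 0, Int.ofNat 1, Int.ofNat 1, Int.negSucc 0, Int.negSucc 0, Int.ofNat 1, Int.ofNat 1, Int.negSucc 0, Int.ofNat 1, Int.negSucc 0, Int.negSucc 0, Int.negSucc 0, Int.negSucc 0, Int.negSucc 0, Int.ofNat 1, Int.negSucc 0, Int.negSucc 0, Int.ofNat 1, Int.negSucc 0, Int.negSucc 2, Int.ofNat 1],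
  [Int.negSucc 0, Int.ofNat 1, Int.ofNat 1, Int.negSucc 0, Int.negSucc 0, Int.ofNat 1, Int.ofNat 1, Int.negSucc 0, Int.ofNat 1, Int.negSucc 0, Int.negSucc 0, Int.negSucc 0, Int.negSucc 0, Int.negSucc 0, Int.ofNat 1, Int.negSucc 0, Int.negSucc 0, Int.ofNat 1, Int.negSucc 0, Int.negSucc 2, Int.ofNat 1, Int.ofNat 1, Int.ofNat 1, Int.ofNat 1],
  [Int.ofNat 2, Int.ofNat 0, Int.ofNat 0, Int.negSucc 1, Int.ofNat 0, Int.ofNat 0, Int.ofNat 2, Int.ofNat 0, Int.ofNat 2, Int.ofNat 0, Int.ofNat 0, Int.ofNat 0, Int.ofNat 0, Int.ofNat 0, Int.ofNat 0, Int.ofNat 0, Int.ofNat 0, Int.ofNat 0, Int.ofNat 0, Int.negSucc 1, Int.ofNat 2, Int.ofNat 2, Int.ofNat 2, Int.ofNat 0],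
  [Int.ofNat 2, Int.ofNat 2, Int.ofNat 0, Int.negSucc 1, Int.ofNat 0, Int.ofNat 0, Int.ofNat 0, Int.ofNat 0, Int.ofNat 0, Int.ofNat 0, Int.ofNat 2, Int.ofNat 0, Int.ofNat 0, Int.ofNat 0, Int.ofNat 2, Int.ofNat 0, Int.ofNat 2, Int.ofNat 0, Int.ofNat 0, Int.ofNat 0, Int.ofNat 2, Int.ofNat 0, Int.negSucc 1, Int.ofNat 0],
  [Int.ofNat 0, Int.ofNat 0, Int.ofNat 2, Int.negSucc 1, Int.ofNat 0, Int.ofNat 0, Int.ofNat 0, Int.ofNat 0, Int.ofNat 0, Int.negSucc 1, Int.ofNat 0, Int.ofNat 0, Int.ofNat 0, Int.ofNat 0, Int.ofNat 2, Int.negSucc 1, Int.ofNat 2, Int.ofNat 0, Int.ofNat 0, Int.ofNat 0, Int.ofNat 0, Int.ofNat 0, Int.negSucc 1, Int.ofNat 2],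
  [Int.ofNat 0, Int.ofNat 0, Int.negSucc 1, Int.negSucc 1, Int.ofNat 0, Int.ofNat 0, Int.ofNat 0, Int.ofNat 0, Int.ofNat 0, Int.ofNat 2, Int.ofNat 0, Int.ofNat 0, Int.ofNat 0, Int.ofNat 0, Int.ofNat 2, Int.ofNat 2, Int.ofNat 2, Int.ofNat 0, Int.ofNat 0, Int.ofNat 0, Int.ofNat 0, Int.ofNat 0, Int.ofNat 2, Int.ofNat 2],
  [Int.ofNat 0, Int.ofNat 2, Int.ofNat 0, Int.ofNat 0, Int.ofNat 2, Int.ofNat 0, Int.ofNat 0, Int.negSucc 1, Int.ofNat 0, Int.ofNat 0, Int.ofNat 0, Int.ofNat 0, Int.ofNat 2, Int.ofNat 0, Int.ofNat 0, Int.ofNat 0, Int.ofNat 0, Int.ofNat 0, Int.ofNat 2, Int.negSucc 1, Int.ofNat 0, Int.ofNat 0, Int.ofNat 2, Int.ofNat 2],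
  [Int.ofNat 2, Int.ofNat 2, Int.ofNat 0, Int.ofNat 0, Int.ofNat 0, Int.ofNat 0, Int.negSucc 1, Int.ofNat 0, Int.ofNat 0, Int.ofNat 0, Int.ofNat 0, Int.ofNat 0, Int.ofNat 0, Int.negSucc 1, Int.ofNat 2, Int.ofNat 0, Int.ofNat 0, Int.ofNat 2, Int.ofNat 0, Int.ofNat 0, Int.ofNat 0, Int.ofNat 2, Int.ofNat 2, Int.ofNat 0],
  [Int.negSucc 1, Int.ofNat 2, Int.ofNat 0, Int.ofNat 0, Int.ofNat 0, Int.ofNat 0, Int.negSucc 1, Int.ofNat 0, Int.ofNat 0, Int.ofNat 0, Int.ofNat 0, Int.ofNat 0, Int.ofNat 0, Int.negSucc 1, Int.ofNat 2, Int.ofNat 0, Int.ofNat 0, Int.ofNat 2, Int.ofNat 0, Int.ofNat 0, Int.ofNat 0, Int.negSucc 1, Int.ofNat 2, Int.ofNat 0],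
  [Int.ofNat 2, Int.negSucc 1, Int.ofNat 2, Int.ofNat 0, Int.ofNat 0, Int.ofNat 0, Int.ofNat 0, Int.negSucc 1, Int.ofNat 0, Int.ofNat 0, Int.ofNat 0, Int.ofNat 0, Int.ofNat 0, Int.ofNat 0, Int.negSucc 1, Int.ofNat 2, Int.ofNat 0, Int.ofNat 0, Int.ofNat 2, Int.ofNat 0, Int.ofNat 0, Int.ofNat 0, Int.negSucc 1, Int.ofNat 0],
  [Int.negSucc 0, Int.ofNat 3, Int.negSucc 0, Int.ofNat 1, Int.ofNat 1, Int.ofNat 1, Int.ofNat 1, Int.negSucc 0, Int.negSucc 0, Int.negSucc 0, Int.negSucc 0, Int.negSucc 0, Int.negSucc 0, Int.ofNat 1, Int.negSucc 0, Int.ofNat 1, Int.ofNat 1, Int.ofNat 1, Int.ofNat 1, Int.ofNat 1, Int.negSucc 0, Int.ofNat 1, Int.negSucc 0, Int.ofNat 1],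
  [Int.ofNat 1, Int.ofNat 1, Int.ofNat 1, Int.ofNat 1, Int.negSucc 0, Int.negSucc 0, Int.negSucc 0, Int.negSucc 0, Int.negSucc 0, Int.negSucc 0, Int.ofNat 1, Int.negSucc 0, Int.ofNat 1, Int.ofNat 1, Int.ofNat 1, Int.ofNat 1, Int.ofNat 1, Int.negSucc 0, Int.ofNat 1, Int.negSucc 0, Int.negSucc 0, Int.ofNat 3, Int.negSucc 0, Int.ofNat 1],
  [Int.ofNat 1, Int.ofNat 1, Int.ofNat 1, Int.ofNat 1, Int.negSucc 0, Int.negSucc 0, Int.negSucc 0, Int.negSucc 0, Int.negSucc 0, Int.negSucc 0, Int.ofNat 1, Int.negSucc 0, Int.ofNat 1, Int.ofNat 1, Int.ofNat 1, Int.ofNat 1, Int.ofNat 1, Int.negSucc 0, Int.ofNat 1, Int.negSucc 0, Int.negSucc 0, Int.ofNat 3, Int.negSucc 0, Int.ofNat 1],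
  [Int.ofNat 1, Int.negSucc 0, Int.negSucc 0, Int.ofNat 1, Int.ofNat 1, Int.negSucc 0, Int.ofNat 1, Int.ofNat 1, Int.ofNat 1, Int.ofNat 1, Int.negSucc 0, Int.negSucc 0, Int.negSucc 0, Int.ofNat 1, Int.negSucc 0, Int.ofNat 1, Int.negSucc 0, Int.ofNat 1, Int.ofNat 1, Int.negSucc 0, Int.ofNat 3, Int.negSucc 0, Int.negSucc 0, Int.ofNat 1],
  [Int.negSucc 0, Int.ofNat 1, Int.ofNat 1, Int.ofNat 1, Int.ofNat 1, Int.negSucc 0, Int.ofNat 1, Int.ofNat 1, Int.ofNat 1, Int.negSucc 0, Int.negSucc 2, Int.negSucc 0, Int.negSucc 0, Int.ofNat 1, Int.negSucc 0, Int.negSucc 0, Int.negSucc 0, Int.ofNat 1, Int.ofNat 1, Int.negSucc 0, Int.ofNat 1, Int.negSucc 0, Int.negSucc 0, Int.negSucc 0],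
  [Int.negSucc 0, Int.ofNat 1, Int.negSucc 0, Int.ofNat 1, Int.ofNat 1, Int.ofNat 1, Int.negSucc 0, Int.ofNat 1, Int.ofNat 1, Int.ofNat 1, Int.ofNat 3, Int.negSucc 0, Int.negSucc 0, Int.ofNat 1, Int.negSucc 0, Int.ofNat 1, Int.negSucc 0, Int.ofNat 1, Int.negSucc 0, Int.negSucc 0, Int.ofNat 1, Int.negSucc 0, Int.ofNat 1, Int.negSucc 0],
  [Int.ofNat 1, Int.ofNat 1, Int.ofNat 1, Int.ofNat 1, Int.negSucc 0, Int.ofNat 1, Int.negSucc 0, Int.negSucc 0, Int.negSucc 0, Int.ofNat 1, Int.ofNat 1, Int.negSucc 0, Int.ofNat 1, Int.negSucc 0, Int.ofNat 1, Int.ofNat 1, Int.negSucc 0, Int.negSucc 0, Int.negSucc 0, Int.ofNat 1, Int.ofNat 3, Int.negSucc 0, Int.ofNat 1, Int.negSucc 0],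
  [Int.ofNat 1, Int.ofNat 1, Int.negSucc 0, Int.ofNat 1, Int.negSucc 0, Int.negSucc 0, Int.ofNat 1, Int.negSucc 0, Int.negSucc 0, Int.negSucc 0, Int.negSucc 0, Int.negSucc 0, Int.ofNat 1, Int.negSucc 0, Int.ofNat 1, Int.negSucc 0, Int.negSucc 0, Int.negSucc 0, Int.ofNat 1, Int.ofNat 1, Int.ofNat 3, Int.negSucc 0, Int.negSucc 0, Int.negSucc 0],
  [Int.negSucc 0, Int.negSucc 0, Int.ofNat 1, Int.ofNat 1, Int.ofNat 1, Int.negSucc 0, Int.ofNat 1, Int.negSucc 0, Int.negSucc 0, Int.negSucc 0, Int.negSucc 0, Int.negSucc 0, Int.ofNat 1, Int.ofNat 1, Int.ofNat 1, Int.negSucc 0, Int.ofNat 1, Int.negSucc 0, Int.ofNat 1, Int.ofNat 1, Int.ofNat 3, Int.negSucc 0, Int.ofNat 1, Int.ofNat 1],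
  [Int.negSucc 0, Int.ofNat 1, Int.ofNat 1, Int.ofNat 1, Int.ofNat 1, Int.negSucc 0, Int.negSucc 0, Int.negSucc 0, Int.ofNat 1, Int.ofNat 1, Int.negSucc 0, Int.ofNat 1, Int.negSucc 0, Int.negSucc 0, Int.negSucc 0, Int.negSucc 0, Int.ofNat 1, Int.negSucc 0, Int.ofNat 1, Int.ofNat 1, Int.negSucc 0, Int.ofNat 3, Int.ofNat 1, Int.ofNat 1],
  [Int.ofNat 2, Int.ofNat 0, Int.ofNat 0, Int.ofNat 2, Int.ofNat 0, Int.ofNat 0, Int.negSucc 1, Int.negSucc 1, Int.ofNat 0, Int.ofNat 2, Int.ofNat 0, Int.ofNat 0, Int.negSucc 1, Int.negSucc 1, Int.ofNat 0, Int.ofNat 0, Int.ofNat 0, Int.ofNat 0, Int.ofNat 0, Int.ofNat 0, Int.ofNat 0, Int.ofNat 2, Int.ofNat 0, Int.ofNat 0],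
  [Int.ofNat 0, Int.ofNat 2, Int.ofNat 0, Int.ofNat 2, Int.ofNat 0, Int.ofNat 0, Int.ofNat 2, Int.ofNat 0, Int.ofNat 0, Int.negSucc 1, Int.negSucc 1, Int.ofNat 0, Int.ofNat 2, Int.ofNat 0, Int.ofNat 0, Int.negSucc 1, Int.negSucc 1, Int.ofNat 0, Int.ofNat 0, Int.ofNat 0, Int.ofNat 0, Int.ofNat 0, Int.ofNat 0, Int.ofNat 0],
  [Int.ofNat 1, Int.negSucc 0, Int.ofNat 1, Int.ofNat 1, Int.ofNat 1, Int.negSucc 0, Int.ofNat 1, Int.negSucc 0, Int.negSucc 0, Int.ofNat 1, Int.ofNat 1, Int.negSucc 0, Int.ofNat 1, Int.ofNat 1, Int.negSucc 0, Int.ofNat 1, Int.negSucc 0, Int.negSucc 0, Int.negSucc 0, Int.negSucc 0, Int.ofNat 3, Int.negSucc 0, Int.ofNat 1, Int.ofNat 1],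
  [Int.negSucc 0, Int.ofNat 1, Int.ofNat 1, Int.ofNat 1, Int.negSucc 0, Int.ofNat 1, Int.negSucc 0, Int.negSucc 0, Int.ofNat 1, Int.ofNat 1, Int.negSucc 0, Int.ofNat 1, Int.ofNat 1, Int.negSucc 0, Int.ofNat 1, Int.negSucc 0, Int.negSucc 0, Int.negSucc 0, Int.negSucc 0, Int.ofNat 3, Int.negSucc 0, Int.ofNat 1, Int.ofNat 1, Int.ofNat 1],
  [Int.ofNat 1, Int.ofNat 1, Int.negSucc 0, Int.ofNat 1, Int.negSucc 0, Int.ofNat 1, Int.negSucc 0, Int.ofNat 1, Int.ofNat 1, Int.negSucc 0, Int.ofNat 1, Int.negSucc 0, Int.ofNat 1, Int.negSucc 0, Int.ofNat 1, Int.negSucc 0, Int.negSucc 0, Int.negSucc 0, Int.ofNat 1, Int.ofNat 3, Int.negSucc 0, Int.negSucc 0, Int.ofNat 1, Int.ofNat 1],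
  [Int.negSucc 0, Int.negSucc 0, Int.ofNat 1, Int.negSucc 0, Int.ofNat 1, Int.ofNat 1, Int.ofNat 1, Int.ofNat 1, Int.negSucc 0, Int.ofNat 1, Int.ofNat 1, Int.negSucc 0, Int.negSucc 0, Int.ofNat 1, Int.ofNat 1, Int.negSucc 0, Int.ofNat 1, Int.negSucc 0, Int.negSucc 0, Int.ofNat 3, Int.negSucc 0, Int.negSucc 0, Int.ofNat 1, Int.ofNat 1],
  [Int.negSucc 0, Int.ofNat 1, Int.negSucc 0, Int.negSucc 0, Int.negSucc 0, Int.ofNat 1, Int.ofNat 1, Int.negSucc 0, Int.ofNat 1, Int.ofNat 1, Int.negSucc 0, Int.ofNat 1, Int.ofNat 1, Int.negSucc 0, Int.ofNat 3, Int.negSucc 0, Int.negSucc 0, Int.ofNat 1, Int.ofNat 1, Int.negSucc 0, Int.ofNat 1, Int.ofNat 1, Int.negSucc 0, Int.ofNat 1],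
  [Int.ofNat 1, Int.ofNat 1, Int.ofNat 1, Int.negSucc 0, Int.negSucc 0, Int.ofNat 1, Int.ofNat 1, Int.ofNat 1, Int.ofNat 1, Int.negSucc 0, Int.ofNat 1, Int.negSucc 0, Int.ofNat 1, Int.negSucc 0, Int.ofNat 3, Int.negSucc 0, Int.negSucc 0, Int.ofNat 1, Int.negSucc 0, Int.negSucc 0, Int.ofNat 1, Int.negSucc 0, Int.negSucc 0, Int.ofNat 1],
  [Int.negSucc 0, Int.ofNat 1, Int.ofNat 1, Int.ofNat 1, Int.negSucc 0, Int.negSucc 0, Int.ofNat 1, Int.ofNat 1, Int.ofNat 1, Int.ofNat 1, Int.negSucc 0, Int.ofNat 1, Int.negSucc 0, Int.ofNat 1, Int.negSucc 0, Int.ofNat 3, Int.negSucc 0, Int.negSucc 0, Int.ofNat 1, Int.negSucc 0, Int.negSucc 0, Int.ofNat 1, Int.negSucc 0, Int.ofNat 1],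
  [Int.ofNat 2, Int.ofNat 0, Int.ofNat 0, Int.ofNat 2, Int.ofNat 0, Int.ofNat 0, Int.ofNat 0, Int.ofNat 0, Int.ofNat 0, Int.ofNat 0, Int.negSucc 1, Int.ofNat 0, Int.negSucc 1, Int.ofNat 2, Int.ofNat 0, Int.ofNat 2, Int.ofNat 0, Int.ofNat 0, Int.ofNat 0, Int.negSucc 1, Int.negSucc 1, Int.ofNat 0, Int.ofNat 0, Int.ofNat 0],
  [Int.ofNat 2, Int.ofNat 0, Int.ofNat 0, Int.ofNat 0, Int.ofNat 0, Int.ofNat 0, Int.ofNat 0, Int.negSucc 1, Int.ofNat 0, Int.negSucc 1, Int.ofNat 2, Int.ofNat 0, Int.ofNat 2, Int.ofNat 0, Int.ofNat 0, Int.ofNat 0, Int.negSucc 1, Int.negSucc 1, Int.ofNat 0, Int.ofNat 0, Int.ofNat 2, Int.ofNat 0, Int.ofNat 0, Int.ofNat 0],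
  [Int.negSucc 0, Int.ofNat 1, Int.ofNat 1, Int.ofNat 1, Int.ofNat 1, Int.ofNat 1, Int.ofNat 1, Int.negSucc 0, Int.negSucc 0, Int.negSucc 2, Int.ofNat 1, Int.negSucc 0, Int.ofNat 1, Int.ofNat 1, Int.ofNat 1, Int.negSucc 0, Int.negSucc 0, Int.negSucc 0, Int.negSucc 0, Int.ofNat 1, Int.ofNat 1, Int.ofNat 1, Int.ofNat 1, Int.ofNat 1],
  [Int.negSucc 0, Int.ofNat 1, Int.ofNat 1, Int.ofNat 1, Int.negSucc 0, Int.negSucc 0, Int.ofNat 1, Int.ofNat 1, Int.ofNat 1, Int.ofNat 1, Int.ofNat 1, Int.negSucc 0, Int.negSucc 2, Int.negSucc 0, Int.ofNat 1, Int.negSucc 0, Int.negSucc 0, Int.ofNat 1, Int.ofNat 1, Int.negSucc 0, Int.ofNat 1, Int.ofNat 1, Int.ofNat 1, Int.ofNat 1],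
  [Int.ofNat 2, Int.ofNat 0, Int.ofNat 0, Int.ofNat 0, Int.ofNat 0, Int.negSucc 1, Int.ofNat 0, Int.ofNat 0, Int.ofNat 2, Int.ofNat 0, Int.ofNat 0, Int.ofNat 0, Int.negSucc 1, Int.ofNat 0, Int.ofNat 0, Int.negSucc 1, Int.ofNat 0, Int.ofNat 0, Int.ofNat 2, Int.negSucc 1, Int.ofNat 0, Int.ofNat 0, Int.ofNat 2, Int.ofNat 0],
  [Int.ofNat 2, Int.ofNat 0, Int.ofNat 0, Int.ofNat 0, Int.ofNat 0, Int.ofNat 2, Int.ofNat 0, Int.ofNat 0, Int.ofNat 2, Int.ofNat 0, Int.ofNat 0, Int.ofNat 0, Int.negSucc 1, Int.ofNat 0, Int.ofNat 0, Int.ofNat 2, Int.ofNat 0, Int.ofNat 0, Int.negSucc 1, Int.negSucc 1, Int.ofNat 0, Int.ofNat 0, Int.negSucc 1, Int.ofNat 0],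
  [Int.ofNat 0, Int.ofNat 0, Int.ofNat 0, Int.ofNat 2, Int.ofNat 0, Int.ofNat 0, Int.ofNat 0, Int.ofNat 0, Int.ofNat 2, Int.ofNat 0, Int.ofNat 0, Int.ofNat 0, Int.ofNat 2, Int.ofNat 0, Int.ofNat 0, Int.negSucc 1, Int.negSucc 1, Int.negSucc 1, Int.ofNat 0, Int.ofNat 0, Int.ofNat 2, Int.ofNat 0, Int.negSucc 1, Int.ofNat 0],
  [Int.ofNat 0, Int.negSucc 1, Int.ofNat 0, Int.negSucc 1, Int.negSucc 1, Int.ofNat 0, Int.ofNat 0, Int.ofNat 0, Int.ofNat 2, Int.ofNat 0, Int.negSucc 1, Int.ofNat 0, Int.ofNat 0, Int.ofNat 0, Int.ofNat 0, Int.ofNat 2, Int.ofNat 0, Int.ofNat 0, Int.ofNat 0, Int.ofNat 0, Int.ofNat 2, Int.ofNat 2, Int.ofNat 0, Int.ofNat 0],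
  [Int.ofNat 0, Int.negSucc 1, Int.ofNat 0, Int.negSucc 1, Int.negSucc 1, Int.ofNat 0, Int.ofNat 0, Int.ofNat 0, Int.ofNat 2, Int.ofNat 0, Int.ofNat 2, Int.ofNat 0, Int.ofNat 0, Int.ofNat 0, Int.ofNat 0, Int.ofNat 2, Int.ofNat 0, Int.ofNat 0, Int.ofNat 0, Int.ofNat 0, Int.ofNat 2, Int.negSucc 1, Int.ofNat 0, Int.ofNat 0],
  [Int.ofNat 0, Int.ofNat 0, Int.negSucc 1, Int.ofNat 0, Int.negSucc 1, Int.negSucc 1, Int.ofNat 0, Int.ofNat 0, Int.ofNat 0, Int.ofNat 2, Int.ofNat 0, Int.ofNat 2, Int.ofNat 0, Int.ofNat 0, Int.ofNat 0, Int.ofNat 0, Int.ofNat 2, Int.ofNat 0, Int.ofNat 0, Int.ofNat 0, Int.ofNat 0, Int.ofNat 2, Int.negSucc 1, Int.ofNat 0],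
  [Int.negSucc 0, Int.negSucc 0, Int.ofNat 1, Int.ofNat 1, Int.negSucc 0, Int.negSucc 0, Int.negSucc 0, Int.negSucc 0, Int.negSucc 0, Int.ofNat 1, Int.negSucc 0, Int.ofNat 1, Int.negSucc 0, Int.ofNat 1, Int.ofNat 1, Int.negSucc 0, Int.ofNat 3, Int.ofNat 1, Int.negSucc 0, Int.negSucc 0, Int.negSucc 0, Int.ofNat 1, Int.negSucc 0, Int.negSucc 0],
  [Int.ofNat 1, Int.negSucc 0, Int.negSucc 0, Int.negSucc 0, Int.negSucc 0, Int.negSucc 0, Int.ofNat 1, Int.negSucc 0, Int.ofNat 1, Int.negSucc 0, Int.ofNat 1, Int.ofNat 1, Int.negSucc 0, Int.ofNat 3, Int.ofNat 1, Int.negSucc 0, Int.negSucc 0, Int.negSucc 0, Int.ofNat 1, Int.negSucc 0, Int.negSucc 0, Int.negSucc 0, Int.ofNat 1, Int.negSucc 0],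
  [Int.negSucc 1, Int.ofNat 0, Int.ofNat 0, Int.ofNat 0, Int.negSucc 1, Int.ofNat 0, Int.ofNat 2, Int.ofNat 0, Int.ofNat 0, Int.ofNat 0, Int.ofNat 2, Int.ofNat 0, Int.negSucc 1, Int.ofNat 2, Int.ofNat 2, Int.ofNat 0, Int.negSucc 1, Int.ofNat 0, Int.ofNat 0, Int.ofNat 0, Int.ofNat 0, Int.ofNat 0, Int.ofNat 0, Int.ofNat 0],
  [Int.negSucc 1, Int.ofNat 2, Int.negSucc 1, Int.ofNat 0, Int.ofNat 0, Int.ofNat 0, Int.ofNat 0, Int.ofNat 2, Int.negSucc 1, Int.ofNat 2, Int.ofNat 0, Int.ofNat 0, Int.ofNat 0, Int.negSucc 1, Int.ofNat 0, Int.ofNat 0, Int.ofNat 0, Int.ofNat 2, Int.ofNat 0, Int.ofNat 0, Int.ofNat 0, Int.ofNat 0, Int.ofNat 0, Int.ofNat 0],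
  [Int.ofNat 1, Int.negSucc 2, Int.ofNat 1, Int.negSucc 0, Int.ofNat 1, Int.negSucc 0, Int.negSucc 0, Int.ofNat 1, Int.negSucc 0, Int.ofNat 1, Int.negSucc 0, Int.ofNat 1, Int.ofNat 1, Int.negSucc 0, Int.negSucc 0, Int.negSucc 0, Int.ofNat 1, Int.ofNat 1, Int.ofNat 1, Int.negSucc 0, Int.negSucc 0, Int.negSucc 0, Int.ofNat 1, Int.negSucc 0],
  [Int.ofNat 1, Int.negSucc 2, Int.negSucc 0, Int.negSucc 0, Int.ofNat 1, Int.ofNat 1, Int.ofNat 1, Int.ofNat 1, Int.negSucc 0, Int.negSucc 0, Int.ofNat 1, Int.ofNat 1, Int.ofNat 1, Int.negSucc 0, Int.negSucc 0, Int.ofNat 1, Int.ofNat 1, Int.ofNat 1, Int.negSucc 0, Int.negSucc 0, Int.negSucc 0, Int.negSucc 0, Int.negSucc 0, Int.negSucc 0],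
  [Int.ofNat 1, Int.ofNat 1, Int.negSucc 0, Int.negSucc 2, Int.negSucc 0, Int.negSucc 0, Int.negSucc 0, Int.ofNat 1, Int.ofNat 1, Int.negSucc 0, Int.ofNat 1, Int.negSucc 0, Int.ofNat 1, Int.ofNat 1, Int.negSucc 0, Int.negSucc 0, Int.negSucc 0, Int.ofNat 1, Int.negSucc 0, Int.negSucc 0, Int.ofNat 1, Int.ofNat 1, Int.ofNat 1, Int.negSucc 0],
  [Int.ofNat 1, Int.ofNat 1, Int.ofNat 1, Int.negSucc 2, Int.negSucc 0, Int.ofNat 1, Int.ofNat 1, Int.ofNat 1, Int.ofNat 1, Int.ofNat 1, Int.negSucc 0, Int.negSucc 0, Int.ofNat 1, Int.ofNat 1, Int.negSucc 0, Int.ofNat 1, Int.negSucc 0, Int.ofNat 1, Int.ofNat 1, Int.negSucc 0, Int.ofNat 1, Int.ofNat 1, Int.negSucc 0, Int.negSucc 0],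
  [Int.ofNat 0, Int.ofNat 0, Int.ofNat 0, Int.negSucc 1, Int.ofNat 0, Int.ofNat 2, Int.ofNat 0, Int.ofNat 0, Int.ofNat 0, Int.ofNat 0, Int.negSucc 1, Int.negSucc 1, Int.ofNat 0, Int.ofNat 2, Int.ofNat 0, Int.ofNat 0, Int.ofNat 0, Int.ofNat 2, Int.ofNat 0, Int.negSucc 1, Int.ofNat 0, Int.ofNat 0, Int.ofNat 0, Int.ofNat 2],
  [Int.ofNat 0, Int.ofNat 0, Int.ofNat 0, Int.negSucc 1, Int.ofNat 0, Int.ofNat 0, Int.ofNat 0, Int.ofNat 2, Int.ofNat 0, Int.ofNat 0, Int.ofNat 0, Int.negSucc 1, Int.ofNat 0, Int.ofNat 0, Int.ofNat 2, Int.ofNat 0, Int.ofNat 2, Int.negSucc 1, Int.ofNat 0, Int.ofNat 0, Int.negSucc 1, Int.ofNat 0, Int.ofNat 0, Int.ofNat 2],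
  [Int.ofNat 1, Int.ofNat 1, Int.ofNat 1, Int.negSucc 0, Int.negSucc 0, Int.ofNat 1, Int.negSucc 0, Int.ofNat 1, Int.ofNat 1, Int.ofNat 1, Int.ofNat 1, Int.negSucc 0, Int.ofNat 1, Int.negSucc 0, Int.ofNat 3, Int.ofNat 1, Int.ofNat 1, Int.negSucc 0, Int.ofNat 1, Int.negSucc 0, Int.negSucc 0, Int.negSucc 0, Int.negSucc 0, Int.negSucc 0],
  [Int.negSucc 0, Int.negSucc 0, Int.negSucc 0, Int.ofNat 1, Int.ofNat 1, Int.ofNat 1, Int.negSucc 0, Int.negSucc 0, Int.ofNat 1, Int.negSucc 0, Int.ofNat 1, Int.ofNat 1, Int.ofNat 1, Int.ofNat 1, Int.negSucc 0, Int.ofNat 1, Int.negSucc 0, Int.ofNat 3, Int.ofNat 1, Int.ofNat 1, Int.negSucc 0, Int.ofNat 1, Int.negSucc 0, Int.negSucc 0],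
  [Int.negSucc 0, Int.negSucc 0, Int.negSucc 0, Int.negSucc 0, Int.ofNat 1, Int.negSucc 0, Int.negSucc 0, Int.negSucc 0, Int.negSucc 0, Int.negSucc 0, Int.ofNat 1, Int.negSucc 0, Int.negSucc 0, Int.ofNat 1, Int.negSucc 2, Int.ofNat 1, Int.negSucc 0, Int.ofNat 1, Int.negSucc 0, Int.ofNat 1, Int.negSucc 0, Int.ofNat 1, Int.negSucc 0, Int.negSucc 0],
  [Int.negSucc 0, Int.negSucc 0, Int.negSucc 0, Int.ofNat 1, Int.negSucc 0, Int.negSucc 0, Int.negSucc 0, Int.negSucc 0, Int.negSucc 0, Int.ofNat 1, Int.negSucc 0, Int.negSucc 0, Int.ofNat 1, Int.negSucc 2, Int.ofNat 1, Int.negSucc 0, Int.ofNat 1, Int.negSucc 0, Int.ofNat 1, Int.negSucc 0, Int.ofNat 1, Int.negSucc 0, Int.negSucc 0, Int.negSucc 0],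
  [Int.ofNat 1, Int.negSucc 0, Int.ofNat 1, Int.ofNat 1, Int.negSucc 0, Int.negSucc 0, Int.negSucc 0, Int.ofNat 1, Int.negSucc 0, Int.negSucc 0, Int.ofNat 1, Int.ofNat 1, Int.ofNat 1, Int.negSucc 2, Int.ofNat 1, Int.negSucc 0, Int.ofNat 1, Int.negSucc 0, Int.negSucc 0, Int.negSucc 0, Int.ofNat 1, Int.ofNat 1, Int.negSucc 0, Int.negSucc 0]]

set_option maxRecDepth 100000 in
theorem c1te18_chk : pmChk (List.replicate 14 [18, 0, 26, 25]).flatten nxL c1te18M 0 0 = true := by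
  decide +kernel

theorem c1te18_ne : wE letE2 (List.replicate 14 [18, 0, 26, 25]).flatten ≠ 1 ∧ wE letE2 (List.replicate 14 [18, 0, 26, 25]).flatten ≠ negElt :=
  ne_pm_of_chk nxL_mem c1te18_chk

set_option maxRecDepth 100000 in
def c1te19M : List (List ℤ) :=
  [[Int.ofNat 4, Int.ofNat 0, Int.ofNat 0, Int.ofNat 0, Int.ofNat 0, Int.ofNat 0, Int.ofNat 0, Int.ofNat 0, Int.ofNat 0, Int.ofNat 0, Int.ofNat 0, Int.ofNat 0, Int.ofNat 0, Int.ofNat 0, Int.ofNat 0, Int.ofNat 0, Int.ofNat 0, Int.ofNat 0, Int.ofNat 0, Int.ofNat 0, Int.ofNat 0, Int.ofNat 0, Int.ofNat 0, Int.ofNat 4],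
  [Int.ofNat 4, Int.ofNat 0, Int.ofNat 0, Int.ofNat 0, Int.ofNat 0, Int.ofNat 0, Int.ofNat 0, Int.ofNat 0, Int.ofNat 0, Int.ofNat 0, Int.ofNat 0, Int.ofNat 0, Int.ofNat 0, Int.ofNat 0, Int.ofNat 0, Int.ofNat 0, Int.ofNat 0, Int.ofNat 0, Int.ofNat 0, Int.ofNat 0, Int.ofNat 0, Int.ofNat 0, Int.ofNat 0, Int.ofNat 4],
  [Int.negSucc 3, Int.ofNat 0, Int.ofNat 0, Int.ofNat 0, Int.ofNat 0, Int.ofNat 0, Int.ofNat 0, Int.ofNat 0, Int.ofNat 0, Int.ofNat 0, Int.ofNat 0, Int.ofNat 0, Int.ofNat 0, Int.ofNat 0, Int.ofNat 0, Int.ofNat 0, Int.ofNat 0, Int.ofNat 0, Int.ofNat 0, Int.ofNat 0, Int.ofNat 0, Int.ofNat 0, Int.ofNat 0, Int.ofNat 4],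
  [Int.ofNat 0, Int.negSucc 3, Int.ofNat 0, Int.ofNat 0, Int.ofNat 0, Int.ofNat 0, Int.ofNat 0, Int.ofNat 0, Int.ofNat 0, Int.ofNat 0, Int.ofNat 0, Int.ofNat 0, Int.ofNat 0, Int.ofNat 0, Int.ofNat 0, Int.ofNat 0, Int.ofNat 0, Int.ofNat 0, Int.ofNat 0, Int.ofNat 0, Int.ofNat 0, Int.ofNat 0, Int.ofNat 0, Int.ofNat 4],
  [Int.ofNat 0, Int.ofNat 4, Int.ofNat 0, Int.ofNat 0, Int.ofNat 0, Int.ofNat 0, Int.ofNat 0, Int.ofNat 0, Int.ofNat 0, Int.ofNat 0, Int.ofNat 0, Int.ofNat 0, Int.ofNat 0, Int.ofNat 0, Int.ofNat 0, Int.ofNat 0, Int.ofNat 0, Int.ofNat 0, Int.ofNat 0, Int.ofNat 0, Int.ofNat 0, Int.ofNat 0, Int.ofNat 0, Int.negSucc 3],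
  [Int.ofNat 0, Int.ofNat 0, Int.ofNat 0, Int.ofNat 0, Int.ofNat 0, Int.ofNat 0, Int.ofNat 0, Int.ofNat 0, Int.ofNat 0, Int.ofNat 0, Int.ofNat 0, Int.ofNat 0, Int.ofNat 0, Int.ofNat 0, Int.ofNat 0, Int.ofNat 0, Int.ofNat 0, Int.ofNat 0, Int.ofNat 0, Int.ofNat 0, Int.ofNat 0, Int.ofNat 4, Int.ofNat 0, Int.negSucc 3],
  [Int.negSucc 1, Int.negSucc 1, Int.negSucc 1, Int.ofNat 0, Int.ofNat 0, Int.ofNat 0, Int.negSucc 1, Int.negSucc 1, Int.ofNat 0, Int.ofNat 0, Int.ofNat 0, Int.ofNat 0, Int.ofNat 0, Int.ofNat 0, Int.ofNat 0, Int.ofNat 0, Int.ofNat 0, Int.ofNat 0, Int.ofNat 0, Int.negSucc 1, Int.ofNat 0, Int.ofNat 2, Int.ofNat 0, Int.ofNat 2],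
  [Int.negSucc 1, Int.negSucc 1, Int.ofNat 0, Int.ofNat 0, Int.ofNat 0, Int.negSucc 1, Int.negSucc 1, Int.ofNat 0, Int.ofNat 0, Int.ofNat 0, Int.ofNat 0, Int.ofNat 0, Int.ofNat 0, Int.ofNat 0, Int.ofNat 0, Int.ofNat 0, Int.ofNat 0, Int.ofNat 0, Int.negSucc 1, Int.ofNat 0, Int.ofNat 2, Int.ofNat 0, Int.negSucc 1, Int.ofNat 2],
  [Int.ofNat 1, Int.ofNat 1, Int.negSucc 0, Int.ofNat 1, Int.ofNat 1, Int.negSucc 0, Int.negSucc 0, Int.ofNat 1, Int.ofNat 1, Int.negSucc 0, Int.negSucc 0, Int.ofNat 1, Int.ofNat 1, Int.ofNat 1, Int.ofNat 1, Int.negSucc 0, Int.ofNat 1, Int.ofNat 1, Int.negSucc 0, Int.ofNat 1, Int.ofNat 1, Int.ofNat 1, Int.negSucc 0, Int.negSucc 2],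
  [Int.ofNat 1, Int.ofNat 1, Int.ofNat 1, Int.ofNat 1, Int.ofNat 1, Int.ofNat 1, Int.ofNat 1, Int.ofNat 1, Int.ofNat 1, Int.ofNat 1, Int.ofNat 1, Int.ofNat 1, Int.ofNat 1, Int.ofNat 1, Int.ofNat 1, Int.ofNat 1, Int.ofNat 1, Int.ofNat 1, Int.ofNat 1, Int.ofNat 1, Int.ofNat 1, Int.ofNat 1, Int.ofNat 1, Int.negSucc 2],
  [Int.ofNat 1, Int.ofNat 1, Int.ofNat 1, Int.ofNat 1, Int.ofNat 1, Int.ofNat 1, Int.ofNat 1, Int.ofNat 1, Int.ofNat 1, Int.ofNat 1, Int.ofNat 1, Int.ofNat 1, Int.ofNat 1, Int.ofNat 1, Int.ofNat 1, Int.ofNat 1, Int.ofNat 1, Int.ofNat 1, Int.ofNat 1, Int.ofNat 1, Int.ofNat 1, Int.ofNat 1, Int.ofNat 1, Int.negSucc 2],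
  [Int.negSucc 2, Int.ofNat 1, Int.ofNat 1, Int.ofNat 1, Int.ofNat 1, Int.ofNat 1, Int.ofNat 1, Int.ofNat 1, Int.ofNat 1, Int.ofNat 1, Int.ofNat 1, Int.ofNat 1, Int.ofNat 1, Int.ofNat 1, Int.ofNat 1, Int.ofNat 1, Int.ofNat 1, Int.ofNat 1, Int.ofNat 1, Int.ofNat 1, Int.ofNat 1, Int.ofNat 1, Int.ofNat 1, Int.ofNat 1],
  [Int.ofNat 3, Int.ofNat 1, Int.negSucc 0, Int.ofNat 1, Int.ofNat 1, Int.ofNat 1, Int.ofNat 1, Int.negSucc 0, Int.ofNat 1, Int.negSucc 0, Int.negSucc 0, Int.negSucc 0, Int.ofNat 1, Int.ofNat 1, Int.ofNat 1, Int.ofNat 1, Int.ofNat 1, Int.ofNat 1, Int.negSucc 0, Int.ofNat 1, Int.ofNat 1, Int.negSucc 0, Int.ofNat 1, Int.ofNat 1],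
  [Int.ofNat 1, Int.ofNat 3, Int.ofNat 1, Int.negSucc 0, Int.ofNat 1, Int.ofNat 1, Int.ofNat 1, Int.ofNat 1, Int.negSucc 0, Int.ofNat 1, Int.negSucc 0, Int.negSucc 0, Int.negSucc 0, Int.ofNat 1, Int.ofNat 1, Int.ofNat 1, Int.ofNat 1, Int.ofNat 1, Int.ofNat 1, Int.negSucc 0, Int.ofNat 1, Int.ofNat 1, Int.negSucc 0, Int.ofNat 1],
  [Int.ofNat 2, Int.ofNat 0, Int.ofNat 2, Int.negSucc 1, Int.ofNat 0, Int.ofNat 0, Int.ofNat 0, Int.ofNat 0, Int.ofNat 0, Int.ofNat 0, Int.negSucc 1, Int.ofNat 0, Int.ofNat 0, Int.ofNat 0, Int.ofNat 0, Int.ofNat 0, Int.ofNat 0, Int.ofNat 0, Int.ofNat 2, Int.negSucc 1, Int.ofNat 0, Int.ofNat 0, Int.negSucc 1, Int.ofNat 2],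
  [Int.negSucc 1, Int.ofNat 0, Int.ofNat 0, Int.ofNat 0, Int.ofNat 0, Int.ofNat 0, Int.ofNat 0, Int.negSucc 1, Int.ofNat 0, Int.ofNat 0, Int.ofNat 0, Int.ofNat 0, Int.ofNat 0, Int.ofNat 0, Int.ofNat 0, Int.ofNat 2, Int.negSucc 1, Int.ofNat 0, Int.ofNat 0, Int.negSucc 1, Int.ofNat 2, Int.ofNat 0, Int.ofNat 2, Int.ofNat 2],
  [Int.ofNat 2, Int.ofNat 0, Int.ofNat 0, Int.ofNat 0, Int.ofNat 0, Int.ofNat 0, Int.ofNat 2, Int.ofNat 0, Int.ofNat 0, Int.negSucc 1, Int.negSucc 1, Int.ofNat 0, Int.ofNat 0, Int.ofNat 0, Int.ofNat 0, Int.ofNat 0, Int.negSucc 1, Int.ofNat 0, Int.ofNat 0, Int.ofNat 0, Int.ofNat 0, Int.ofNat 2, Int.ofNat 2, Int.negSucc 1],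
  [Int.ofNat 2, Int.ofNat 2, Int.ofNat 0, Int.ofNat 0, Int.ofNat 0, Int.ofNat 0, Int.ofNat 0, Int.negSucc 1, Int.ofNat 0, Int.ofNat 0, Int.ofNat 0, Int.ofNat 0, Int.negSucc 1, Int.negSucc 1, Int.ofNat 2, Int.ofNat 0, Int.ofNat 0, Int.ofNat 0, Int.ofNat 0, Int.ofNat 0, Int.ofNat 2, Int.ofNat 0, Int.ofNat 0, Int.negSucc 1],
  [Int.negSucc 0, Int.negSucc 0, Int.ofNat 1, Int.negSucc 0, Int.ofNat 1, Int.negSucc 0, Int.ofNat 1, Int.negSucc 0, Int.ofNat 1, Int.negSucc 0, Int.negSucc 0, Int.ofNat 1, Int.negSucc 0, Int.negSucc 0, Int.ofNat 1, Int.negSucc 0, Int.ofNat 1, Int.negSucc 0, Int.ofNat 1, Int.ofNat 1, Int.ofNat 1, Int.ofNat 1, Int.ofNat 1, Int.ofNat 3],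
  [Int.negSucc 0, Int.negSucc 0, Int.negSucc 0, Int.negSucc 0, Int.ofNat 1, Int.ofNat 1, Int.negSucc 0, Int.negSucc 0, Int.ofNat 1, Int.ofNat 1, Int.ofNat 1, Int.ofNat 1, Int.negSucc 0, Int.negSucc 0, Int.ofNat 1, Int.ofNat 1, Int.ofNat 1, Int.negSucc 0, Int.negSucc 0, Int.ofNat 1, Int.ofNat 1, Int.ofNat 1, Int.negSucc 0, Int.ofNat 3],
  [Int.negSucc 0, Int.ofNat 1, Int.negSucc 0, Int.ofNat 1, Int.negSucc 0, Int.negSucc 0, Int.negSucc 0, Int.ofNat 1, Int.negSucc 0, Int.negSucc 0, Int.ofNat 1, Int.ofNat 1, Int.negSucc 0, Int.ofNat 1, Int.ofNat 1, Int.negSucc 0, Int.ofNat 1, Int.ofNat 1, Int.negSucc 0, Int.ofNat 1, Int.negSucc 0, Int.ofNat 1, Int.ofNat 1, Int.ofNat 3],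
  [Int.negSucc 0, Int.ofNat 1, Int.ofNat 1, Int.ofNat 1, Int.negSucc 0, Int.ofNat 1, Int.ofNat 1, Int.ofNat 1, Int.negSucc 0, Int.ofNat 1, Int.negSucc 0, Int.ofNat 1, Int.negSucc 0, Int.ofNat 1, Int.ofNat 1, Int.ofNat 1, Int.ofNat 1, Int.ofNat 1, Int.ofNat 1, Int.ofNat 1, Int.negSucc 0, Int.ofNat 1, Int.negSucc 0, Int.ofNat 3],
  [Int.ofNat 3, Int.ofNat 1, Int.ofNat 1, Int.negSucc 0, Int.negSucc 0, Int.negSucc 0, Int.negSucc 0, Int.negSucc 0, Int.negSucc 0, Int.ofNat 1, Int.negSucc 0, Int.ofNat 1, Int.negSucc 0, Int.ofNat 1, Int.negSucc 0, Int.ofNat 1, Int.ofNat 1, Int.negSucc 0, Int.ofNat 1, Int.negSucc 0, Int.negSucc 0, Int.negSucc 0, Int.negSucc 0, Int.negSucc 0],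
  [Int.ofNat 3, Int.ofNat 1, Int.negSucc 0, Int.negSucc 0, Int.ofNat 1, Int.negSucc 0, Int.ofNat 1, Int.negSucc 0, Int.ofNat 1, Int.negSucc 0, Int.negSucc 0, Int.negSucc 0, Int.negSucc 0, Int.ofNat 1, Int.negSucc 0, Int.ofNat 1, Int.ofNat 1, Int.ofNat 1, Int.negSucc 0, Int.negSucc 0, Int.negSucc 0, Int.negSucc 0, Int.negSucc 0, Int.negSucc 0],
  [Int.negSucc 1, Int.ofNat 0, Int.ofNat 2, Int.ofNat 0, Int.ofNat 0, Int.ofNat 0, Int.ofNat 2, Int.ofNat 0, Int.ofNat 2, Int.ofNat 0, Int.ofNat 0, Int.ofNat 0, Int.ofNat 0, Int.ofNat 0, Int.ofNat 0, Int.ofNat 2, Int.ofNat 0, Int.ofNat 2, Int.ofNat 0, Int.ofNat 0, Int.ofNat 0, Int.ofNat 0, Int.negSucc 1, Int.ofNat 2],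
  [Int.ofNat 0, Int.ofNat 0, Int.negSucc 1, Int.negSucc 1, Int.ofNat 0, Int.ofNat 2, Int.ofNat 0, Int.ofNat 0, Int.ofNat 0, Int.ofNat 2, Int.ofNat 0, Int.ofNat 2, Int.ofNat 0, Int.ofNat 0, Int.ofNat 0, Int.ofNat 0, Int.ofNat 0, Int.ofNat 0, Int.ofNat 2, Int.ofNat 0, Int.ofNat 2, Int.ofNat 0, Int.ofNat 0, Int.ofNat 2],
  [Int.ofNat 0, Int.ofNat 0, Int.ofNat 2, Int.negSucc 1, Int.ofNat 0, Int.ofNat 2, Int.ofNat 0, Int.ofNat 0, Int.negSucc 1, Int.ofNat 0, Int.negSucc 1, Int.ofNat 0, Int.negSucc 1, Int.ofNat 0, Int.ofNat 0, Int.negSucc 1, Int.ofNat 0, Int.ofNat 0, Int.ofNat 0, Int.ofNat 0, Int.ofNat 0, Int.ofNat 0, Int.ofNat 0, Int.negSucc 1],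
  [Int.ofNat 0, Int.ofNat 2, Int.negSucc 1, Int.ofNat 0, Int.ofNat 2, Int.ofNat 0, Int.ofNat 0, Int.negSucc 1, Int.ofNat 0, Int.negSucc 1, Int.ofNat 0, Int.negSucc 1, Int.ofNat 0, Int.ofNat 0, Int.negSucc 1, Int.ofNat 0, Int.ofNat 0, Int.ofNat 0, Int.ofNat 0, Int.ofNat 0, Int.ofNat 0, Int.ofNat 0, Int.ofNat 0, Int.negSucc 1],
  [Int.ofNat 0, Int.ofNat 2, Int.ofNat 2, Int.ofNat 0, Int.ofNat 2, Int.ofNat 0, Int.ofNat 0, Int.ofNat 2, Int.ofNat 0, Int.ofNat 2, Int.ofNat 0, Int.ofNat 2, Int.ofNat 0, Int.ofNat 0, Int.negSucc 1, Int.ofNat 0, Int.ofNat 0, Int.ofNat 0, Int.ofNat 0, Int.ofNat 0, Int.ofNat 0, Int.ofNat 0, Int.ofNat 0, Int.negSucc 1],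
  [Int.ofNat 0, Int.negSucc 1, Int.negSucc 1, Int.ofNat 0, Int.negSucc 1, Int.ofNat 0, Int.ofNat 0, Int.ofNat 2, Int.ofNat 0, Int.negSucc 1, Int.ofNat 0, Int.ofNat 2, Int.ofNat 0, Int.ofNat 0, Int.negSucc 1, Int.ofNat 0, Int.ofNat 0, Int.ofNat 0, Int.ofNat 0, Int.ofNat 0, Int.ofNat 0, Int.ofNat 0, Int.ofNat 0, Int.negSucc 1],
  [Int.ofNat 0, Int.negSucc 1, Int.ofNat 0, Int.ofNat 0, Int.negSucc 1, Int.ofNat 0, Int.negSucc 1, Int.ofNat 0, Int.negSucc 1, Int.ofNat 0, Int.ofNat 0, Int.negSucc 1, Int.ofNat 0, Int.ofNat 0, Int.ofNat 0, Int.ofNat 0, Int.ofNat 0, Int.ofNat 0, Int.ofNat 0, Int.ofNat 0, Int.ofNat 0, Int.ofNat 2, Int.ofNat 2, Int.negSucc 1],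
  [Int.ofNat 0, Int.negSucc 1, Int.ofNat 0, Int.ofNat 0, Int.negSucc 1, Int.ofNat 0, Int.negSucc 1, Int.ofNat 0, Int.negSucc 1, Int.ofNat 0, Int.ofNat 0, Int.ofNat 2, Int.ofNat 0, Int.ofNat 0, Int.ofNat 0, Int.ofNat 0, Int.ofNat 0, Int.ofNat 0, Int.ofNat 0, Int.ofNat 0, Int.ofNat 0, Int.negSucc 1, Int.ofNat 2, Int.negSucc 1],
  [Int.ofNat 2, Int.ofNat 0, Int.negSucc 1, Int.ofNat 0, Int.ofNat 0, Int.negSucc 1, Int.ofNat 0, Int.negSucc 1, Int.ofNat 0, Int.negSucc 1, Int.ofNat 0, Int.ofNat 0, Int.ofNat 2, Int.ofNat 0, Int.ofNat 0, Int.ofNat 0, Int.ofNat 0, Int.ofNat 0, Int.ofNat 0, Int.ofNat 0, Int.ofNat 0, Int.ofNat 0, Int.negSucc 1, Int.negSucc 1],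
  [Int.negSucc 2, Int.negSucc 0, Int.ofNat 1, Int.ofNat 1, Int.ofNat 1, Int.negSucc 0, Int.ofNat 1, Int.negSucc 0, Int.negSucc 0, Int.negSucc 0, Int.ofNat 1, Int.negSucc 0, Int.ofNat 1, Int.ofNat 1, Int.ofNat 1, Int.ofNat 1, Int.ofNat 1, Int.ofNat 1, Int.negSucc 0, Int.ofNat 1, Int.ofNat 1, Int.ofNat 1, Int.negSucc 0, Int.ofNat 1],
  [Int.ofNat 1, Int.ofNat 1, Int.negSucc 0, Int.ofNat 1, Int.negSucc 0, Int.negSucc 0, Int.negSucc 0, Int.ofNat 1, Int.negSucc 0, Int.ofNat 1, Int.ofNat 1, Int.ofNat 1, Int.ofNat 1, Int.ofNat 1, Int.ofNat 1, Int.negSucc 0, Int.ofNat 1, Int.ofNat 1, Int.ofNat 1, Int.negSucc 0, Int.negSucc 2, Int.negSucc 0, Int.ofNat 1, Int.ofNat 1],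
  [Int.ofNat 0, Int.ofNat 0, Int.ofNat 2, Int.ofNat 0, Int.negSucc 1, Int.negSucc 1, Int.ofNat 0, Int.ofNat 2, Int.negSucc 1, Int.ofNat 2, Int.ofNat 2, Int.ofNat 0, Int.ofNat 0, Int.ofNat 0, Int.ofNat 0, Int.ofNat 0, Int.ofNat 0, Int.ofNat 0, Int.ofNat 0, Int.ofNat 0, Int.negSucc 1, Int.ofNat 0, Int.ofNat 0, Int.ofNat 0],
  [Int.ofNat 0, Int.ofNat 0, Int.negSucc 1, Int.ofNat 0, Int.ofNat 0, Int.ofNat 2, Int.ofNat 2, Int.ofNat 2, Int.ofNat 0, Int.ofNat 0, Int.negSucc 1, Int.ofNat 0, Int.ofNat 2, Int.ofNat 0, Int.ofNat 0, Int.ofNat 0, Int.negSucc 1, Int.ofNat 0, Int.ofNat 0, Int.ofNat 0, Int.ofNat 0, Int.negSucc 1, Int.ofNat 0, Int.ofNat 0],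
  [Int.negSucc 0, Int.negSucc 0, Int.ofNat 1, Int.negSucc 0, Int.ofNat 1, Int.ofNat 1, Int.ofNat 1, Int.ofNat 1, Int.negSucc 0, Int.ofNat 1, Int.negSucc 0, Int.negSucc 0, Int.ofNat 1, Int.ofNat 1, Int.negSucc 0, Int.ofNat 1, Int.negSucc 0, Int.negSucc 0, Int.negSucc 0, Int.negSucc 0, Int.ofNat 1, Int.negSucc 2, Int.ofNat 1, Int.negSucc 0],
  [Int.negSucc 0, Int.negSucc 0, Int.negSucc 0, Int.negSucc 0, Int.ofNat 1, Int.negSucc 0, Int.negSucc 0, Int.ofNat 1, Int.negSucc 0, Int.negSucc 0, Int.ofNat 1, Int.negSucc 0, Int.ofNat 1, Int.ofNat 1, Int.negSucc 0, Int.negSucc 0, Int.negSucc 0, Int.negSucc 0, Int.ofNat 1, Int.negSucc 0, Int.ofNat 1, Int.negSucc 2, Int.negSucc 0, Int.negSucc 0],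
  [Int.ofNat 1, Int.negSucc 0, Int.negSucc 0, Int.negSucc 0, Int.negSucc 0, Int.negSucc 0, Int.negSucc 2, Int.negSucc 0, Int.negSucc 0, Int.ofNat 1, Int.ofNat 1, Int.ofNat 1, Int.negSucc 0, Int.ofNat 1, Int.negSucc 0, Int.ofNat 1, Int.negSucc 0, Int.ofNat 1, Int.negSucc 0, Int.negSucc 0, Int.negSucc 0, Int.negSucc 0, Int.negSucc 0, Int.negSucc 0],
  [Int.negSucc 0, Int.negSucc 0, Int.ofNat 1, Int.ofNat 1, Int.ofNat 1, Int.ofNat 1, Int.negSucc 0, Int.ofNat 1, Int.negSucc 0, Int.negSucc 0, Int.negSucc 0, Int.negSucc 0, Int.negSucc 0, Int.negSucc 0, Int.negSucc 0, Int.negSucc 0, Int.ofNat 1, Int.negSucc 0, Int.negSucc 0, Int.negSucc 2, Int.negSucc 0, Int.negSucc 0, Int.negSucc 0, Int.ofNat 1],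
  [Int.ofNat 1, Int.negSucc 0, Int.negSucc 0, Int.ofNat 1, Int.ofNat 1, Int.ofNat 1, Int.negSucc 0, Int.negSucc 0, Int.negSucc 0, Int.ofNat 1, Int.ofNat 1, Int.ofNat 1, Int.negSucc 0, Int.negSucc 0, Int.negSucc 0, Int.negSucc 0, Int.ofNat 1, Int.negSucc 0, Int.ofNat 1, Int.negSucc 2, Int.negSucc 0, Int.ofNat 1, Int.negSucc 0, Int.ofNat 1],
  [Int.negSucc 0, Int.ofNat 1, Int.negSucc 0, Int.negSucc 0, Int.ofNat 1, Int.ofNat 1, Int.ofNat 1, Int.negSucc 0, Int.negSucc 0, Int.negSucc 0, Int.ofNat 1, Int.ofNat 1, Int.ofNat 1, Int.negSucc 0, Int.negSucc 0, Int.negSucc 0, Int.negSucc 0, Int.ofNat 1, Int.negSucc 0, Int.ofNat 1, Int.negSucc 2, Int.negSucc 0, Int.ofNat 1, Int.ofNat 1],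
  [Int.ofNat 1, Int.negSucc 0, Int.ofNat 1, Int.negSucc 0, Int.ofNat 1, Int.ofNat 1, Int.ofNat 1, Int.negSucc 0, Int.negSucc 0, Int.ofNat 1, Int.ofNat 3, Int.ofNat 1, Int.ofNat 1, Int.negSucc 0, Int.negSucc 0, Int.ofNat 1, Int.negSucc 0, Int.ofNat 1, Int.negSucc 0, Int.ofNat 1, Int.negSucc 0, Int.negSucc 0, Int.ofNat 1, Int.negSucc 0],
  [Int.negSucc 0, Int.ofNat 1, Int.ofNat 1, Int.ofNat 1, Int.negSucc 0, Int.negSucc 0, Int.ofNat 1, Int.ofNat 3, Int.ofNat 1, Int.ofNat 1, Int.negSucc 0, Int.negSucc 0, Int.ofNat 1, Int.negSucc 0, Int.ofNat 1, Int.negSucc 0, Int.ofNat 1, Int.negSucc 0, Int.negSucc 0, Int.ofNat 1, Int.ofNat 1, Int.negSucc 0, Int.ofNat 1, Int.negSucc 0],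
  [Int.ofNat 1, Int.negSucc 0, Int.negSucc 0, Int.ofNat 1, Int.negSucc 0, Int.negSucc 0, Int.negSucc 0, Int.ofNat 1, Int.ofNat 1, Int.ofNat 1, Int.negSucc 0, Int.negSucc 0, Int.ofNat 1, Int.negSucc 0, Int.ofNat 1, Int.negSucc 0, Int.ofNat 1, Int.negSucc 0, Int.negSucc 0, Int.negSucc 0, Int.ofNat 1, Int.negSucc 2, Int.ofNat 1, Int.ofNat 1],
  [Int.ofNat 1, Int.negSucc 0, Int.negSucc 0, Int.ofNat 1, Int.negSucc 0, Int.ofNat 1, Int.negSucc 0, Int.negSucc 0, Int.ofNat 1, Int.negSucc 0, Int.ofNat 1, Int.negSucc 0, Int.ofNat 1, Int.ofNat 1, Int.ofNat 1, Int.negSucc 0, Int.ofNat 1, Int.ofNat 1, Int.negSucc 0, Int.negSucc 0, Int.negSucc 2, Int.negSucc 0, Int.negSucc 0, Int.ofNat 1],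
  [Int.negSucc 0, Int.ofNat 1, Int.ofNat 1, Int.negSucc 0, Int.negSucc 0, Int.negSucc 0, Int.ofNat 1, Int.ofNat 1, Int.ofNat 1, Int.ofNat 1, Int.ofNat 3, Int.negSucc 0, Int.ofNat 1, Int.ofNat 1, Int.negSucc 0, Int.ofNat 1, Int.ofNat 1, Int.negSucc 0, Int.negSucc 0, Int.ofNat 1, Int.negSucc 0, Int.ofNat 1, Int.negSucc 0, Int.negSucc 0],
  [Int.negSucc 0, Int.ofNat 1, Int.negSucc 0, Int.negSucc 0, Int.negSucc 0, Int.ofNat 1, Int.negSucc 0, Int.ofNat 1, Int.ofNat 1, Int.negSucc 0, Int.negSucc 2, Int.negSucc 0, Int.ofNat 1, Int.ofNat 1, Int.negSucc 0, Int.negSucc 0, Int.ofNat 1, Int.negSucc 0, Int.ofNat 1, Int.ofNat 1, Int.negSucc 0, Int.ofNat 1, Int.ofNat 1, Int.negSucc 0],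
  [Int.ofNat 1, Int.negSucc 2, Int.ofNat 1, Int.negSucc 0, Int.ofNat 1, Int.ofNat 1, Int.negSucc 0, Int.negSucc 0, Int.negSucc 0, Int.negSucc 0, Int.negSucc 0, Int.negSucc 0, Int.negSucc 0, Int.negSucc 0, Int.ofNat 1, Int.negSucc 0, Int.ofNat 1, Int.ofNat 1, Int.ofNat 1, Int.negSucc 0, Int.ofNat 1, Int.ofNat 1, Int.ofNat 1, Int.negSucc 0],
  [Int.ofNat 1, Int.negSucc 2, Int.negSucc 0, Int.negSucc 0, Int.ofNat 1, Int.negSucc 0, Int.ofNat 1, Int.negSucc 0, Int.negSucc 0, Int.ofNat 1, Int.ofNat 1, Int.negSucc 0, Int.negSucc 0, Int.negSucc 0, Int.ofNat 1, Int.ofNat 1, Int.ofNat 1, Int.ofNat 1, Int.negSucc 0, Int.negSucc 0, Int.ofNat 1, Int.ofNat 1, Int.negSucc 0, Int.negSucc 0],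
  [Int.negSucc 2, Int.ofNat 1, Int.negSucc 0, Int.negSucc 0, Int.ofNat 1, Int.negSucc 0, Int.ofNat 1, Int.negSucc 0, Int.ofNat 1, Int.negSucc 0, Int.negSucc 0, Int.ofNat 1, Int.ofNat 1, Int.negSucc 0, Int.ofNat 1, Int.negSucc 0, Int.ofNat 1, Int.ofNat 1, Int.ofNat 1, Int.negSucc 0, Int.negSucc 0, Int.ofNat 1, Int.negSucc 0, Int.negSucc 0],
  [Int.negSucc 2, Int.ofNat 1, Int.ofNat 1, Int.negSucc 0, Int.negSucc 0, Int.ofNat 1, Int.ofNat 1, Int.negSucc 0, Int.ofNat 1, Int.ofNat 1, Int.negSucc 0, Int.negSucc 0, Int.ofNat 1, Int.negSucc 0, Int.ofNat 1, Int.negSucc 0, Int.negSucc 0, Int.ofNat 1, Int.ofNat 1, Int.negSucc 0, Int.negSucc 0, Int.negSucc 0, Int.ofNat 1, Int.negSucc 0],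
  [Int.ofNat 2, Int.negSucc 1, Int.negSucc 1, Int.negSucc 1, Int.ofNat 0, Int.ofNat 0, Int.ofNat 2, Int.ofNat 0, Int.ofNat 0, Int.ofNat 2, Int.ofNat 0, Int.negSucc 1, Int.ofNat 0, Int.ofNat 0, Int.ofNat 0, Int.ofNat 0, Int.ofNat 0, Int.ofNat 0, Int.ofNat 0, Int.ofNat 0, Int.ofNat 0, Int.ofNat 0, Int.ofNat 2, Int.ofNat 0],
  [Int.ofNat 0, Int.ofNat 0, Int.ofNat 2, Int.ofNat 2, Int.negSucc 1, Int.negSucc 1, Int.negSucc 1, Int.ofNat 0, Int.ofNat 0, Int.ofNat 2, Int.ofNat 0, Int.ofNat 0, Int.ofNat 2, Int.ofNat 0, Int.negSucc 1, Int.ofNat 0, Int.ofNat 0, Int.ofNat 0, Int.ofNat 0, Int.ofNat 0, Int.ofNat 0, Int.ofNat 0, Int.ofNat 0, Int.ofNat 0],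
  [Int.ofNat 1, Int.ofNat 1, Int.negSucc 0, Int.ofNat 3, Int.negSucc 0, Int.negSucc 0, Int.negSucc 0, Int.ofNat 1, Int.negSucc 0, Int.ofNat 1, Int.negSucc 0, Int.negSucc 0, Int.ofNat 1, Int.ofNat 1, Int.negSucc 0, Int.negSucc 0, Int.ofNat 1, Int.ofNat 1, Int.negSucc 0, Int.ofNat 1, Int.negSucc 0, Int.ofNat 1, Int.ofNat 1, Int.ofNat 1],
  [Int.ofNat 1, Int.negSucc 0, Int.ofNat 3, Int.negSucc 0, Int.negSucc 0, Int.negSucc 0, Int.ofNat 1, Int.negSucc 0, Int.ofNat 1, Int.negSucc 0, Int.negSucc 0, Int.ofNat 1, Int.ofNat 1, Int.negSucc 0, Int.negSucc 0, Int.ofNat 1, Int.ofNat 1, Int.negSucc 0, Int.ofNat 1, Int.negSucc 0, Int.ofNat 1, Int.ofNat 1, Int.ofNat 1, Int.ofNat 1],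
  [Int.negSucc 0, Int.negSucc 0, Int.negSucc 2, Int.negSucc 0, Int.negSucc 0, Int.negSucc 0, Int.ofNat 1, Int.ofNat 1, Int.ofNat 1, Int.ofNat 1, Int.ofNat 1, Int.negSucc 0, Int.ofNat 1, Int.negSucc 0, Int.negSucc 0, Int.ofNat 1, Int.ofNat 1, Int.negSucc 0, Int.negSucc 0, Int.negSucc 0, Int.ofNat 1, Int.negSucc 0, Int.ofNat 1, Int.ofNat 1],
  [Int.ofNat 1, Int.ofNat 1, Int.ofNat 3, Int.ofNat 1, Int.ofNat 1, Int.negSucc 0, Int.negSucc 0, Int.ofNat 1, Int.negSucc 0, Int.negSucc 0, Int.ofNat 1, Int.negSucc 0, Int.negSucc 0, Int.ofNat 1, Int.negSucc 0, Int.ofNat 1, Int.negSucc 0, Int.negSucc 0, Int.ofNat 1, Int.negSucc 0, Int.ofNat 1, Int.negSucc 0, Int.ofNat 1, Int.ofNat 1],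
  [Int.ofNat 1, Int.ofNat 3, Int.ofNat 1, Int.ofNat 1, Int.ofNat 1, Int.ofNat 1, Int.ofNat 1, Int.ofNat 1, Int.negSucc 0, Int.negSucc 0, Int.negSucc 0, Int.negSucc 0, Int.ofNat 1, Int.negSucc 0, Int.negSucc 0, Int.ofNat 1, Int.negSucc 0, Int.ofNat 1, Int.negSucc 0, Int.negSucc 0, Int.negSucc 0, Int.ofNat 1, Int.negSucc 0, Int.ofNat 1],
  [Int.negSucc 0, Int.ofNat 3, Int.negSucc 0, Int.ofNat 1, Int.ofNat 1, Int.ofNat 1, Int.ofNat 1, Int.negSucc 0, Int.negSucc 0, Int.ofNat 1, Int.ofNat 1, Int.ofNat 1, Int.ofNat 1, Int.negSucc 0, Int.negSucc 0, Int.ofNat 1, Int.negSucc 0, Int.ofNat 1, Int.ofNat 1, Int.negSucc 0, Int.negSucc 0, Int.negSucc 0, Int.negSucc 0, Int.ofNat 1],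
  [Int.negSucc 0, Int.negSucc 0, Int.ofNat 3, Int.negSucc 0, Int.ofNat 1, Int.ofNat 1, Int.ofNat 1, Int.ofNat 1, Int.negSucc 0, Int.negSucc 0, Int.ofNat 1, Int.ofNat 1, Int.ofNat 1, Int.ofNat 1, Int.negSucc 0, Int.negSucc 0, Int.ofNat 1, Int.negSucc 0, Int.ofNat 1, Int.ofNat 1, Int.negSucc 0, Int.negSucc 0, Int.negSucc 0, Int.ofNat 1],
  [Int.ofNat 2, Int.ofNat 2, Int.negSucc 1, Int.ofNat 0, Int.ofNat 0, Int.ofNat 2, Int.ofNat 0, Int.ofNat 0, Int.negSucc 1, Int.ofNat 0, Int.ofNat 2, Int.ofNat 0, Int.ofNat 0, Int.ofNat 0, Int.ofNat 0, Int.ofNat 0, Int.ofNat 0, Int.ofNat 0, Int.ofNat 0, Int.ofNat 0, Int.ofNat 0, Int.negSucc 1, Int.negSucc 1, Int.ofNat 0],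
  [Int.ofNat 0, Int.ofNat 0, Int.ofNat 2, Int.ofNat 0, Int.ofNat 0, Int.negSucc 1, Int.ofNat 0, Int.ofNat 2, Int.ofNat 0, Int.ofNat 0, Int.ofNat 0, Int.ofNat 0, Int.ofNat 0, Int.ofNat 0, Int.ofNat 0, Int.ofNat 0, Int.ofNat 0, Int.ofNat 0, Int.negSucc 1, Int.negSucc 1, Int.ofNat 2, Int.ofNat 2, Int.negSucc 1, Int.ofNat 0],
  [Int.ofNat 1, Int.ofNat 1, Int.negSucc 0, Int.ofNat 1, Int.ofNat 1, Int.negSucc 0, Int.negSucc 0, Int.ofNat 1, Int.ofNat 1, Int.negSucc 0, Int.negSucc 0, Int.ofNat 1, Int.ofNat 1, Int.ofNat 1, Int.ofNat 1, Int.negSucc 0, Int.ofNat 1, Int.ofNat 1, Int.negSucc 0, Int.negSucc 2, Int.ofNat 1, Int.ofNat 1, Int.negSucc 0, Int.ofNat 1],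
  [Int.ofNat 1, Int.negSucc 0, Int.ofNat 1, Int.ofNat 1, Int.negSucc 0, Int.ofNat 1, Int.negSucc 0, Int.negSucc 0, Int.ofNat 1, Int.ofNat 1, Int.ofNat 1, Int.ofNat 1, Int.negSucc 0, Int.ofNat 1, Int.negSucc 0, Int.negSucc 0, Int.ofNat 1, Int.ofNat 1, Int.ofNat 1, Int.ofNat 1, Int.ofNat 1, Int.negSucc 0, Int.negSucc 2, Int.ofNat 1],
  [Int.ofNat 0, Int.ofNat 2, Int.ofNat 0, Int.ofNat 0, Int.ofNat 0, Int.ofNat 0, Int.ofNat 0, Int.ofNat 0, Int.ofNat 0, Int.ofNat 0, Int.ofNat 0, Int.ofNat 0, Int.negSucc 1, Int.ofNat 2, Int.negSucc 1, Int.negSucc 1, Int.ofNat 2, Int.ofNat 0, Int.ofNat 0, Int.ofNat 2, Int.ofNat 0, Int.ofNat 0, Int.negSucc 1, Int.ofNat 0],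
  [Int.ofNat 0, Int.ofNat 2, Int.ofNat 0, Int.ofNat 0, Int.ofNat 0, Int.ofNat 0, Int.ofNat 0, Int.ofNat 0, Int.ofNat 0, Int.ofNat 0, Int.ofNat 0, Int.ofNat 0, Int.negSucc 1, Int.ofNat 2, Int.negSucc 1, Int.ofNat 2, Int.ofNat 2, Int.ofNat 0, Int.ofNat 0, Int.ofNat 2, Int.ofNat 0, Int.ofNat 0, Int.ofNat 2, Int.ofNat 0],
  [Int.ofNat 0, Int.ofNat 2, Int.ofNat 0, Int.ofNat 0, Int.negSucc 1, Int.ofNat 0, Int.ofNat 0, Int.ofNat 0, Int.ofNat 0, Int.ofNat 0, Int.ofNat 2, Int.ofNat 0, Int.ofNat 2, Int.ofNat 0, Int.ofNat 0, Int.ofNat 0, Int.ofNat 2, Int.negSucc 1, Int.ofNat 0, Int.ofNat 0, Int.ofNat 0, Int.ofNat 2, Int.ofNat 2, Int.ofNat 0],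
  [Int.ofNat 0, Int.ofNat 2, Int.ofNat 0, Int.ofNat 0, Int.negSucc 1, Int.ofNat 0, Int.ofNat 0, Int.ofNat 0, Int.ofNat 0, Int.ofNat 0, Int.ofNat 2, Int.ofNat 0, Int.ofNat 2, Int.ofNat 0, Int.ofNat 0, Int.ofNat 0, Int.ofNat 2, Int.negSucc 1, Int.ofNat 0, Int.ofNat 0, Int.ofNat 0, Int.ofNat 2, Int.ofNat 2, Int.ofNat 0],
  [Int.ofNat 0, Int.ofNat 2, Int.ofNat 0, Int.ofNat 0, Int.negSucc 1, Int.ofNat 0, Int.ofNat 0, Int.ofNat 0, Int.ofNat 0, Int.ofNat 0, Int.negSucc 1, Int.ofNat 0, Int.ofNat 2, Int.ofNat 0, Int.ofNat 0, Int.ofNat 0, Int.ofNat 2, Int.negSucc 1, Int.ofNat 0, Int.ofNat 0, Int.ofNat 0, Int.negSucc 1, Int.ofNat 2, Int.ofNat 0],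
  [Int.ofNat 2, Int.ofNat 0, Int.ofNat 2, Int.ofNat 0, Int.ofNat 0, Int.negSucc 1, Int.ofNat 0, Int.ofNat 0, Int.ofNat 0, Int.ofNat 0, Int.ofNat 0, Int.negSucc 1, Int.ofNat 0, Int.ofNat 2, Int.ofNat 0, Int.ofNat 0, Int.ofNat 0, Int.ofNat 2, Int.negSucc 1, Int.ofNat 0, Int.ofNat 0, Int.ofNat 0, Int.negSucc 1, Int.ofNat 0],
  [Int.ofNat 0, Int.ofNat 2, Int.ofNat 0, Int.ofNat 0, Int.ofNat 0, Int.negSucc 1, Int.ofNat 0, Int.ofNat 0, Int.ofNat 2, Int.ofNat 0, Int.ofNat 0, Int.ofNat 0, Int.ofNat 2, Int.ofNat 2, Int.ofNat 0, Int.ofNat 0, Int.ofNat 0, Int.ofNat 2, Int.ofNat 0, Int.ofNat 0, Int.ofNat 0, Int.ofNat 0, Int.negSucc 1, Int.ofNat 2],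
  [Int.ofNat 0, Int.ofNat 0, Int.negSucc 1, Int.ofNat 0, Int.ofNat 0, Int.ofNat 2, Int.ofNat 0, Int.ofNat 0, Int.ofNat 0, Int.ofNat 2, Int.ofNat 2, Int.ofNat 0, Int.ofNat 0, Int.ofNat 0, Int.ofNat 2, Int.ofNat 0, Int.ofNat 0, Int.ofNat 0, Int.ofNat 0, Int.negSucc 1, Int.ofNat 0, Int.ofNat 2, Int.ofNat 0, Int.ofNat 2],
  [Int.ofNat 0, Int.ofNat 0, Int.ofNat 2, Int.negSucc 1, Int.ofNat 0, Int.ofNat 0, Int.ofNat 0, Int.ofNat 0, Int.ofNat 0, Int.ofNat 0, Int.ofNat 0, Int.ofNat 0, Int.ofNat 0, Int.ofNat 0, Int.ofNat 0, Int.negSucc 1, Int.ofNat 0, Int.negSucc 1, Int.ofNat 0, Int.negSucc 1, Int.negSucc 1, Int.ofNat 2, Int.ofNat 0, Int.negSucc 1],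
  [Int.ofNat 0, Int.ofNat 0, Int.ofNat 0, Int.negSucc 1, Int.ofNat 0, Int.ofNat 0, Int.ofNat 2, Int.ofNat 0, Int.ofNat 0, Int.ofNat 0, Int.negSucc 1, Int.negSucc 1, Int.ofNat 0, Int.ofNat 0, Int.ofNat 0, Int.negSucc 1, Int.ofNat 0, Int.ofNat 0, Int.ofNat 0, Int.ofNat 0, Int.ofNat 2, Int.ofNat 0, Int.negSucc 1, Int.negSucc 1],
  [Int.negSucc 0, Int.negSucc 0, Int.negSucc 0, Int.negSucc 0, Int.ofNat 1, Int.ofNat 1, Int.ofNat 1, Int.negSucc 0, Int.ofNat 1, Int.ofNat 1, Int.negSucc 0, Int.negSucc 0, Int.ofNat 1, Int.ofNat 1, Int.ofNat 1, Int.negSucc 0, Int.ofNat 1, Int.ofNat 1, Int.ofNat 1, Int.negSucc 0, Int.ofNat 3, Int.negSucc 0, Int.negSucc 0, Int.ofNat 1],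
  [Int.negSucc 0, Int.negSucc 0, Int.ofNat 1, Int.negSucc 0, Int.ofNat 1, Int.negSucc 0, Int.negSucc 0, Int.negSucc 0, Int.ofNat 1, Int.negSucc 0, Int.ofNat 1, Int.negSucc 0, Int.ofNat 1, Int.ofNat 1, Int.ofNat 1, Int.ofNat 1, Int.ofNat 1, Int.ofNat 1, Int.negSucc 0, Int.negSucc 0, Int.ofNat 3, Int.negSucc 0, Int.ofNat 1, Int.ofNat 1],
  [Int.ofNat 1, Int.ofNat 1, Int.negSucc 0, Int.ofNat 3, Int.negSucc 0, Int.ofNat 1, Int.negSucc 0, Int.ofNat 1, Int.negSucc 0, Int.negSucc 0, Int.negSucc 0, Int.ofNat 1, Int.ofNat 1, Int.ofNat 1, Int.negSucc 0, Int.ofNat 1, Int.ofNat 1, Int.negSucc 0, Int.ofNat 1, Int.negSucc 0, Int.negSucc 0, Int.negSucc 0, Int.ofNat 1, Int.ofNat 1],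
  [Int.ofNat 1, Int.ofNat 1, Int.ofNat 1, Int.ofNat 3, Int.negSucc 0, Int.negSucc 0, Int.ofNat 1, Int.ofNat 1, Int.negSucc 0, Int.ofNat 1, Int.ofNat 1, Int.ofNat 1, Int.ofNat 1, Int.ofNat 1, Int.negSucc 0, Int.negSucc 0, Int.ofNat 1, Int.negSucc 0, Int.negSucc 0, Int.negSucc 0, Int.negSucc 0, Int.negSucc 0, Int.negSucc 0, Int.ofNat 1],
  [Int.ofNat 1, Int.ofNat 1, Int.ofNat 1, Int.ofNat 3, Int.negSucc 0, Int.negSucc 0, Int.ofNat 1, Int.ofNat 1, Int.negSucc 0, Int.ofNat 1, Int.ofNat 1, Int.ofNat 1, Int.ofNat 1, Int.ofNat 1, Int.negSucc 0, Int.negSucc 0, Int.ofNat 1, Int.negSucc 0, Int.negSucc 0, Int.negSucc 0, Int.negSucc 0, Int.negSucc 0, Int.negSucc 0, Int.ofNat 1],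
  [Int.ofNat 1, Int.negSucc 0, Int.ofNat 1, Int.ofNat 3, Int.ofNat 1, Int.negSucc 0, Int.ofNat 1, Int.negSucc 0, Int.ofNat 1, Int.ofNat 1, Int.ofNat 1, Int.negSucc 0, Int.negSucc 0, Int.ofNat 1, Int.negSucc 0, Int.negSucc 0, Int.ofNat 1, Int.ofNat 1, Int.negSucc 0, Int.negSucc 0, Int.ofNat 1, Int.negSucc 0, Int.negSucc 0, Int.ofNat 1],
  [Int.ofNat 0, Int.ofNat 2, Int.ofNat 0, Int.ofNat 2, Int.ofNat 0, Int.negSucc 1, Int.ofNat 2, Int.ofNat 0, Int.ofNat 2, Int.ofNat 0, Int.ofNat 0, Int.ofNat 0, Int.ofNat 0, Int.ofNat 0, Int.negSucc 1, Int.negSucc 1, Int.ofNat 0, Int.ofNat 0, Int.ofNat 0, Int.ofNat 0, Int.ofNat 0, Int.ofNat 0, Int.negSucc 1, Int.ofNat 0],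
  [Int.ofNat 0, Int.ofNat 0, Int.negSucc 1, Int.ofNat 0, Int.ofNat 2, Int.ofNat 0, Int.ofNat 2, Int.ofNat 0, Int.negSucc 1, Int.ofNat 2, Int.ofNat 0, Int.ofNat 2, Int.ofNat 0, Int.ofNat 0, Int.ofNat 0, Int.ofNat 0, Int.ofNat 0, Int.negSucc 1, Int.negSucc 1, Int.ofNat 0, Int.ofNat 0, Int.ofNat 0, Int.ofNat 0, Int.ofNat 0],
  [Int.negSucc 0, Int.negSucc 0, Int.ofNat 1, Int.ofNat 1, Int.ofNat 1, Int.ofNat 1, Int.ofNat 1, Int.negSucc 0, Int.negSucc 0, Int.ofNat 1, Int.negSucc 0, Int.ofNat 3, Int.ofNat 1, Int.negSucc 0, Int.ofNat 1, Int.negSucc 0, Int.negSucc 0, Int.negSucc 0, Int.negSucc 0, Int.negSucc 0, Int.negSucc 0, Int.negSucc 0, Int.negSucc 0, Int.negSucc 0],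
  [Int.negSucc 0, Int.ofNat 1, Int.ofNat 1, Int.ofNat 1, Int.ofNat 1, Int.ofNat 1, Int.negSucc 0, Int.negSucc 0, Int.ofNat 1, Int.negSucc 0, Int.ofNat 3, Int.ofNat 1, Int.negSucc 0, Int.ofNat 1, Int.negSucc 0, Int.negSucc 0, Int.negSucc 0, Int.negSucc 0, Int.negSucc 0, Int.negSucc 0, Int.negSucc 0, Int.negSucc 0, Int.negSucc 0, Int.negSucc 0],
  [Int.ofNat 1, Int.ofNat 1, Int.negSucc 0, Int.ofNat 1, Int.ofNat 1, Int.ofNat 1, Int.negSucc 0, Int.ofNat 1, Int.ofNat 1, Int.ofNat 1, Int.negSucc 2, Int.negSucc 0, Int.negSucc 0, Int.ofNat 1, Int.negSucc 0, Int.negSucc 0, Int.negSucc 0, Int.negSucc 0, Int.ofNat 1, Int.negSucc 0, Int.negSucc 0, Int.ofNat 1, Int.negSucc 0, Int.negSucc 0],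
  [Int.negSucc 0, Int.negSucc 0, Int.ofNat 1, Int.negSucc 0, Int.negSucc 0, Int.ofNat 1, Int.ofNat 1, Int.ofNat 1, Int.negSucc 0, Int.negSucc 0, Int.negSucc 2, Int.negSucc 0, Int.ofNat 1, Int.negSucc 0, Int.negSucc 0, Int.negSucc 0, Int.ofNat 1, Int.negSucc 0, Int.negSucc 0, Int.negSucc 0, Int.negSucc 0, Int.ofNat 1, Int.negSucc 0, Int.negSucc 0],
  [Int.negSucc 0, Int.ofNat 1, Int.negSucc 0, Int.negSucc 0, Int.negSucc 0, Int.negSucc 2, Int.negSucc 0, Int.negSucc 0, Int.negSucc 0, Int.ofNat 1, Int.ofNat 1, Int.negSucc 0, Int.negSucc 0, Int.negSucc 0, Int.negSucc 0, Int.negSucc 0, Int.ofNat 1, Int.negSucc 0, Int.ofNat 1, Int.negSucc 0, Int.ofNat 1, Int.ofNat 1, Int.negSucc 0, Int.negSucc 0],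
  [Int.ofNat 1, Int.ofNat 1, Int.ofNat 1, Int.negSucc 0, Int.negSucc 0, Int.negSucc 2, Int.negSucc 0, Int.ofNat 1, Int.negSucc 0, Int.negSucc 0, Int.negSucc 0, Int.ofNat 1, Int.negSucc 0, Int.negSucc 0, Int.negSucc 0, Int.negSucc 0, Int.ofNat 1, Int.negSucc 0, Int.negSucc 0, Int.negSucc 0, Int.ofNat 1, Int.negSucc 0, Int.negSucc 0, Int.negSucc 0],
  [Int.negSucc 0, Int.ofNat 1, Int.ofNat 1, Int.ofNat 1, Int.negSucc 0, Int.negSucc 0, Int.negSucc 2, Int.negSucc 0, Int.ofNat 1, Int.negSucc 0, Int.negSucc 0, Int.negSucc 0, Int.ofNat 1, Int.negSucc 0, Int.negSucc 0, Int.negSucc 0, Int.negSucc 0, Int.ofNat 1, Int.negSucc 0, Int.negSucc 0, Int.negSucc 0, Int.ofNat 1, Int.negSucc 0, Int.negSucc 0],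
  [Int.ofNat 1, Int.negSucc 0, Int.negSucc 0, Int.ofNat 1, Int.ofNat 1, Int.negSucc 0, Int.negSucc 0, Int.ofNat 1, Int.ofNat 1, Int.ofNat 1, Int.ofNat 1, Int.negSucc 0, Int.ofNat 1, Int.ofNat 1, Int.negSucc 0, Int.ofNat 1, Int.ofNat 1, Int.ofNat 1, Int.negSucc 0, Int.ofNat 1, Int.ofNat 1, Int.ofNat 3, Int.ofNat 1, Int.ofNat 1],
  [Int.ofNat 1, Int.ofNat 1, Int.negSucc 0, Int.negSucc 0, Int.ofNat 1, Int.ofNat 1, Int.ofNat 1, Int.ofNat 1, Int.negSucc 0, Int.ofNat 1, Int.ofNat 1, Int.negSucc 0, Int.ofNat 1, Int.ofNat 1, Int.ofNat 1, Int.negSucc 0, Int.ofNat 1, Int.ofNat 1, Int.ofNat 3, Int.ofNat 1, Int.ofNat 1, Int.negSucc 0, Int.negSucc 0, Int.ofNat 1],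
  [Int.ofNat 0, Int.ofNat 0, Int.ofNat 2, Int.negSucc 1, Int.ofNat 0, Int.ofNat 0, Int.ofNat 0, Int.ofNat 0, Int.negSucc 1, Int.ofNat 0, Int.ofNat 0, Int.negSucc 1, Int.ofNat 0, Int.ofNat 0, Int.ofNat 0, Int.negSucc 1, Int.ofNat 0, Int.ofNat 0, Int.ofNat 2, Int.ofNat 0, Int.ofNat 0, Int.negSucc 1, Int.negSucc 1, Int.ofNat 0],
  [Int.ofNat 0, Int.ofNat 0, Int.ofNat 0, Int.negSucc 1, Int.ofNat 2, Int.ofNat 0, Int.ofNat 2, Int.ofNat 0, Int.ofNat 0, Int.ofNat 0, Int.ofNat 0, Int.ofNat 0, Int.ofNat 0, Int.ofNat 0, Int.negSucc 1, Int.negSucc 1, Int.negSucc 1, Int.ofNat 0, Int.ofNat 0, Int.negSucc 1, Int.negSucc 1, Int.ofNat 0, Int.ofNat 0, Int.ofNat 0],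
  [Int.ofNat 0, Int.ofNat 0, Int.ofNat 0, Int.ofNat 0, Int.ofNat 2, Int.ofNat 2, Int.ofNat 2, Int.ofNat 0, Int.ofNat 0, Int.ofNat 2, Int.ofNat 2, Int.ofNat 0, Int.ofNat 0, Int.ofNat 0, Int.ofNat 0, Int.ofNat 0, Int.negSucc 1, Int.ofNat 2, Int.ofNat 0, Int.negSucc 1, Int.ofNat 0, Int.ofNat 0, Int.ofNat 0, Int.ofNat 0],
  [Int.ofNat 0, Int.ofNat 0, Int.ofNat 0, Int.ofNat 0, Int.ofNat 2, Int.negSucc 1, Int.negSucc 1, Int.ofNat 0, Int.ofNat 0, Int.negSucc 1, Int.negSucc 1, Int.ofNat 0, Int.ofNat 0, Int.ofNat 0, Int.ofNat 0, Int.ofNat 0, Int.negSucc 1, Int.ofNat 2, Int.ofNat 0, Int.negSucc 1, Int.ofNat 0, Int.ofNat 0, Int.ofNat 0, Int.ofNat 0],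
  [Int.negSucc 1, Int.negSucc 1, Int.ofNat 0, Int.ofNat 0, Int.ofNat 0, Int.negSucc 1, Int.ofNat 0, Int.ofNat 0, Int.negSucc 1, Int.ofNat 0, Int.ofNat 0, Int.ofNat 0, Int.ofNat 0, Int.ofNat 2, Int.ofNat 2, Int.ofNat 0, Int.negSucc 1, Int.ofNat 0, Int.negSucc 1, Int.ofNat 0, Int.ofNat 0, Int.ofNat 0, Int.ofNat 0, Int.ofNat 0],
  [Int.ofNat 0, Int.ofNat 0, Int.ofNat 0, Int.ofNat 0, Int.ofNat 0, Int.ofNat 0, Int.ofNat 0, Int.ofNat 2, Int.ofNat 0, Int.negSucc 1, Int.negSucc 1, Int.ofNat 0, Int.ofNat 0, Int.ofNat 0, Int.negSucc 1, Int.ofNat 0, Int.ofNat 0, Int.ofNat 0, Int.ofNat 2, Int.ofNat 0, Int.negSucc 1, Int.ofNat 0, Int.negSucc 1, Int.negSucc 1],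
  [Int.ofNat 0, Int.ofNat 0, Int.ofNat 0, Int.ofNat 0, Int.ofNat 0, Int.ofNat 0, Int.ofNat 0, Int.negSucc 1, Int.ofNat 0, Int.ofNat 2, Int.ofNat 2, Int.ofNat 0, Int.ofNat 0, Int.ofNat 0, Int.negSucc 1, Int.ofNat 0, Int.ofNat 0, Int.ofNat 0, Int.negSucc 1, Int.ofNat 0, Int.negSucc 1, Int.ofNat 0, Int.negSucc 1, Int.negSucc 1],
  [Int.negSucc 1, Int.ofNat 0, Int.ofNat 0, Int.ofNat 0, Int.ofNat 0, Int.ofNat 0, Int.ofNat 0, Int.ofNat 0, Int.negSucc 1, Int.ofNat 0, Int.ofNat 2, Int.ofNat 2, Int.ofNat 0, Int.ofNat 0, Int.ofNat 0, Int.negSucc 1, Int.ofNat 0, Int.ofNat 0, Int.ofNat 0, Int.negSucc 1, Int.ofNat 0, Int.negSucc 1, Int.ofNat 0, Int.negSucc 1],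
  [Int.ofNat 0, Int.negSucc 1, Int.negSucc 1, Int.ofNat 0, Int.ofNat 0, Int.ofNat 0, Int.ofNat 2, Int.ofNat 2, Int.negSucc 1, Int.ofNat 0, Int.ofNat 2, Int.ofNat 2, Int.ofNat 0, Int.ofNat 0, Int.ofNat 0, Int.negSucc 1, Int.ofNat 0, Int.ofNat 0, Int.ofNat 0, Int.ofNat 0, Int.ofNat 0, Int.ofNat 0, Int.ofNat 0, Int.ofNat 0],
  [Int.ofNat 0, Int.ofNat 0, Int.ofNat 0, Int.ofNat 2, Int.ofNat 2, Int.negSucc 1, Int.ofNat 0, Int.ofNat 2, Int.ofNat 2, Int.ofNat 0, Int.ofNat 0, Int.ofNat 0, Int.negSucc 1, Int.ofNat 0, Int.ofNat 0, Int.ofNat 0, Int.ofNat 0, Int.ofNat 0, Int.ofNat 0, Int.ofNat 0, Int.ofNat 0, Int.negSucc 1, Int.negSucc 1, Int.ofNat 0],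
  [Int.ofNat 0, Int.ofNat 0, Int.ofNat 0, Int.ofNat 2, Int.ofNat 2, Int.negSucc 1, Int.ofNat 0, Int.ofNat 2, Int.ofNat 2, Int.ofNat 0, Int.ofNat 0, Int.ofNat 0, Int.negSucc 1, Int.ofNat 0, Int.ofNat 0, Int.ofNat 0, Int.ofNat 0, Int.ofNat 0, Int.ofNat 0, Int.ofNat 0, Int.ofNat 0, Int.negSucc 1, Int.negSucc 1, Int.ofNat 0],
  [Int.ofNat 0, Int.ofNat 0, Int.ofNat 2, Int.ofNat 2, Int.ofNat 0, Int.ofNat 2, Int.ofNat 0, Int.ofNat 0, Int.negSucc 1, Int.ofNat 0, Int.ofNat 0, Int.ofNat 0, Int.ofNat 0, Int.ofNat 0, Int.negSucc 1, Int.ofNat 0, Int.ofNat 2, Int.ofNat 0, Int.ofNat 0, Int.ofNat 0, Int.negSucc 1, Int.negSucc 1, Int.ofNat 0, Int.ofNat 0],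
  [Int.ofNat 1, Int.ofNat 1, Int.negSucc 0, Int.ofNat 1, Int.negSucc 0, Int.ofNat 1, Int.ofNat 1, Int.ofNat 1, Int.negSucc 0, Int.ofNat 1, Int.ofNat 1, Int.ofNat 1, Int.ofNat 1, Int.negSucc 0, Int.negSucc 2, Int.ofNat 1, Int.ofNat 1, Int.negSucc 0, Int.ofNat 1, Int.ofNat 1, Int.negSucc 0, Int.negSucc 0, Int.negSucc 0, Int.ofNat 1],
  [Int.ofNat 1, Int.ofNat 1, Int.ofNat 1, Int.ofNat 1, Int.negSucc 0, Int.negSucc 0, Int.negSucc 0, Int.ofNat 1, Int.negSucc 0, Int.negSucc 0, Int.negSucc 0, Int.ofNat 1, Int.ofNat 1, Int.negSucc 0, Int.negSucc 2, Int.negSucc 0, Int.ofNat 1, Int.negSucc 0, Int.negSucc 0, Int.ofNat 1, Int.negSucc 0, Int.negSucc 0, Int.ofNat 1, Int.ofNat 1],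
  [Int.ofNat 1, Int.negSucc 0, Int.ofNat 1, Int.negSucc 0, Int.negSucc 0, Int.negSucc 0, Int.ofNat 1, Int.negSucc 0, Int.negSucc 0, Int.ofNat 1, Int.ofNat 1, Int.negSucc 2, Int.ofNat 1, Int.negSucc 0, Int.negSucc 0, Int.negSucc 0, Int.negSucc 0, Int.ofNat 1, Int.ofNat 1, Int.negSucc 0, Int.ofNat 1, Int.negSucc 0, Int.ofNat 1, Int.ofNat 1],
  [Int.ofNat 1, Int.negSucc 0, Int.negSucc 0, Int.negSucc 0, Int.negSucc 0, Int.ofNat 1, Int.negSucc 0, Int.negSucc 0, Int.negSucc 0, Int.negSucc 0, Int.negSucc 0, Int.negSucc 2, Int.ofNat 1, Int.negSucc 0, Int.negSucc 0, Int.ofNat 1, Int.negSucc 0, Int.ofNat 1, Int.negSucc 0, Int.negSucc 0, Int.ofNat 1, Int.negSucc 0, Int.negSucc 0, Int.ofNat 1],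
  [Int.negSucc 0, Int.ofNat 1, Int.ofNat 1, Int.negSucc 0, Int.ofNat 1, Int.ofNat 1, Int.ofNat 1, Int.ofNat 1, Int.ofNat 1, Int.negSucc 0, Int.negSucc 0, Int.negSucc 0, Int.ofNat 3, Int.ofNat 1, Int.negSucc 0, Int.ofNat 1, Int.ofNat 1, Int.ofNat 1, Int.ofNat 1, Int.ofNat 1, Int.ofNat 1, Int.ofNat 1, Int.ofNat 1, Int.negSucc 0],
  [Int.negSucc 0, Int.ofNat 1, Int.ofNat 1, Int.negSucc 0, Int.ofNat 1, Int.ofNat 1, Int.ofNat 1, Int.ofNat 1, Int.ofNat 1, Int.ofNat 3, Int.ofNat 1, Int.ofNat 1, Int.ofNat 1, Int.negSucc 0, Int.ofNat 1, Int.ofNat 1, Int.ofNat 1, Int.negSucc 0, Int.ofNat 1, Int.ofNat 1, Int.negSucc 0, Int.ofNat 1, Int.negSucc 0, Int.negSucc 0],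
  [Int.ofNat 1, Int.negSucc 0, Int.negSucc 0, Int.negSucc 0, Int.ofNat 1, Int.ofNat 1, Int.negSucc 0, Int.negSucc 0, Int.negSucc 0, Int.ofNat 1, Int.negSucc 0, Int.negSucc 0, Int.negSucc 0, Int.negSucc 0, Int.ofNat 1, Int.negSucc 0, Int.ofNat 1, Int.negSucc 0, Int.negSucc 0, Int.negSucc 0, Int.negSucc 2, Int.negSucc 0, Int.negSucc 0, Int.ofNat 1],
  [Int.negSucc 2, Int.negSucc 0, Int.negSucc 0, Int.ofNat 1, Int.negSucc 0, Int.negSucc 0, Int.negSucc 0, Int.ofNat 1, Int.ofNat 1, Int.negSucc 0, Int.negSucc 0, Int.negSucc 0, Int.ofNat 1, Int.negSucc 0, Int.negSucc 0, Int.negSucc 0, Int.negSucc 0, Int.ofNat 1, Int.negSucc 0, Int.ofNat 1, Int.negSucc 0, Int.negSucc 0, Int.negSucc 0, Int.ofNat 1],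
  [Int.ofNat 1, Int.negSucc 0, Int.negSucc 0, Int.ofNat 1, Int.ofNat 1, Int.negSucc 0, Int.negSucc 0, Int.ofNat 1, Int.ofNat 1, Int.ofNat 1, Int.ofNat 1, Int.negSucc 0, Int.ofNat 1, Int.ofNat 1, Int.negSucc 0, Int.ofNat 1, Int.ofNat 1, Int.ofNat 1, Int.negSucc 0, Int.ofNat 1, Int.ofNat 1, Int.negSucc 0, Int.ofNat 1, Int.negSucc 2],
  [Int.negSucc 0, Int.negSucc 0, Int.ofNat 1, Int.ofNat 1, Int.negSucc 0, Int.negSucc 0, Int.ofNat 1, Int.ofNat 1, Int.ofNat 1, Int.ofNat 1, Int.negSucc 0, Int.ofNat 1, Int.ofNat 1, Int.negSucc 0, Int.ofNat 1, Int.ofNat 1, Int.ofNat 1, Int.negSucc 0, Int.ofNat 1, Int.ofNat 1, Int.negSucc 0, Int.ofNat 1, Int.ofNat 1, Int.negSucc 2],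
  [Int.ofNat 1, Int.negSucc 0, Int.negSucc 0, Int.ofNat 1, Int.negSucc 0, Int.negSucc 0, Int.ofNat 1, Int.negSucc 0, Int.ofNat 1, Int.negSucc 0, Int.ofNat 1, Int.negSucc 0, Int.ofNat 1, Int.negSucc 0, Int.ofNat 1, Int.ofNat 1, Int.ofNat 1, Int.negSucc 0, Int.negSucc 0, Int.ofNat 1, Int.negSucc 0, Int.negSucc 0, Int.ofNat 1, Int.negSucc 2],
  [Int.negSucc 0, Int.ofNat 1, Int.ofNat 1, Int.negSucc 0, Int.ofNat 1, Int.negSucc 0, Int.negSucc 0, Int.negSucc 0, Int.negSucc 0, Int.ofNat 1, Int.ofNat 1, Int.negSucc 0, Int.negSucc 0, Int.ofNat 1, Int.ofNat 1, Int.ofNat 1, Int.negSucc 0, Int.negSucc 0, Int.ofNat 1, Int.ofNat 1, Int.negSucc 0, Int.negSucc 0, Int.ofNat 1, Int.negSucc 2],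
  [Int.negSucc 0, Int.ofNat 1, Int.ofNat 1, Int.negSucc 0, Int.ofNat 1, Int.ofNat 1, Int.ofNat 1, Int.negSucc 0, Int.ofNat 1, Int.negSucc 0, Int.negSucc 0, Int.ofNat 1, Int.ofNat 1, Int.negSucc 0, Int.ofNat 1, Int.ofNat 1, Int.negSucc 0, Int.ofNat 1, Int.negSucc 0, Int.negSucc 0, Int.negSucc 0, Int.negSucc 0, Int.negSucc 0, Int.negSucc 2],
  [Int.ofNat 1, Int.ofNat 1, Int.negSucc 0, Int.negSucc 0, Int.ofNat 1, Int.ofNat 1, Int.ofNat 1, Int.ofNat 1, Int.ofNat 1, Int.ofNat 1, Int.ofNat 1, Int.negSucc 0, Int.ofNat 1, Int.negSucc 0, Int.ofNat 1, Int.ofNat 1, Int.negSucc 0, Int.ofNat 1, Int.ofNat 1, Int.negSucc 0, Int.negSucc 0, Int.ofNat 1, Int.negSucc 0, Int.negSucc 2],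
  [Int.negSucc 0, Int.ofNat 1, Int.ofNat 1, Int.negSucc 0, Int.negSucc 0, Int.ofNat 1, Int.ofNat 1, Int.ofNat 1, Int.ofNat 1, Int.ofNat 1, Int.ofNat 1, Int.ofNat 1, Int.negSucc 0, Int.ofNat 1, Int.negSucc 0, Int.ofNat 1, Int.ofNat 1, Int.negSucc 0, Int.ofNat 1, Int.ofNat 1, Int.negSucc 0, Int.negSucc 0, Int.ofNat 1, Int.negSucc 2],
  [Int.ofNat 0, Int.negSucc 1, Int.negSucc 1, Int.ofNat 0, Int.negSucc 1, Int.ofNat 2, Int.ofNat 0, Int.ofNat 0, Int.ofNat 0, Int.ofNat 0, Int.ofNat 0, Int.ofNat 0, Int.negSucc 1, Int.ofNat 0, Int.ofNat 0, Int.ofNat 0, Int.ofNat 0, Int.ofNat 0, Int.ofNat 0, Int.ofNat 0, Int.negSucc 1, Int.negSucc 1, Int.ofNat 0, Int.ofNat 2],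
  [Int.ofNat 0, Int.negSucc 1, Int.ofNat 2, Int.ofNat 0, Int.ofNat 0, Int.ofNat 0, Int.ofNat 0, Int.ofNat 0, Int.ofNat 0, Int.negSucc 1, Int.ofNat 0, Int.ofNat 0, Int.ofNat 0, Int.ofNat 0, Int.ofNat 0, Int.ofNat 0, Int.ofNat 0, Int.negSucc 1, Int.negSucc 1, Int.ofNat 0, Int.ofNat 0, Int.negSucc 1, Int.negSucc 1, Int.ofNat 2],
  [Int.ofNat 1, Int.ofNat 3, Int.negSucc 0, Int.ofNat 1, Int.ofNat 1, Int.ofNat 1, Int.ofNat 1, Int.ofNat 1, Int.ofNat 1, Int.negSucc 0, Int.ofNat 1, Int.ofNat 1, Int.ofNat 1, Int.ofNat 1, Int.ofNat 1, Int.ofNat 1, Int.ofNat 1, Int.negSucc 0, Int.negSucc 0, Int.ofNat 1, Int.ofNat 1, Int.negSucc 0, Int.negSucc 0, Int.negSucc 0],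
  [Int.ofNat 1, Int.ofNat 1, Int.ofNat 1, Int.ofNat 1, Int.negSucc 0, Int.ofNat 1, Int.negSucc 0, Int.ofNat 1, Int.ofNat 1, Int.ofNat 1, Int.ofNat 1, Int.negSucc 0, Int.negSucc 0, Int.ofNat 1, Int.negSucc 0, Int.ofNat 1, Int.ofNat 1, Int.ofNat 1, Int.ofNat 3, Int.ofNat 1, Int.negSucc 0, Int.ofNat 1, Int.ofNat 1, Int.negSucc 0],
  [Int.ofNat 0, Int.ofNat 0, Int.ofNat 0, Int.ofNat 0, Int.negSucc 1, Int.ofNat 0, Int.negSucc 1, Int.ofNat 0, Int.ofNat 0, Int.ofNat 0, Int.ofNat 0, Int.negSucc 1, Int.negSucc 1, Int.ofNat 0, Int.negSucc 1, Int.ofNat 0, Int.ofNat 0, Int.ofNat 0, Int.ofNat 2, Int.ofNat 0, Int.negSucc 1, Int.ofNat 0, Int.ofNat 0, Int.ofNat 2],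
  [Int.ofNat 0, Int.ofNat 0, Int.ofNat 0, Int.ofNat 0, Int.negSucc 1, Int.ofNat 0, Int.ofNat 2, Int.ofNat 0, Int.ofNat 0, Int.ofNat 0, Int.ofNat 0, Int.negSucc 1, Int.negSucc 1, Int.ofNat 0, Int.negSucc 1, Int.ofNat 0, Int.ofNat 0, Int.ofNat 0, Int.negSucc 1, Int.ofNat 0, Int.negSucc 1, Int.ofNat 0, Int.ofNat 0, Int.ofNat 2],
  [Int.ofNat 0, Int.ofNat 0, Int.negSucc 1, Int.ofNat 0, Int.negSucc 1, Int.ofNat 2, Int.ofNat 0, Int.ofNat 0, Int.ofNat 0, Int.negSucc 1, Int.ofNat 0, Int.ofNat 0, Int.ofNat 0, Int.negSucc 1, Int.ofNat 0, Int.negSucc 1, Int.ofNat 0, Int.negSucc 1, Int.ofNat 0, Int.ofNat 0, Int.ofNat 0, Int.ofNat 0, Int.ofNat 0, Int.ofNat 2],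
  [Int.ofNat 2, Int.ofNat 0, Int.ofNat 0, Int.negSucc 1, Int.negSucc 1, Int.negSucc 1, Int.ofNat 0, Int.negSucc 1, Int.ofNat 0, Int.ofNat 2, Int.ofNat 0, Int.negSucc 1, Int.ofNat 0, Int.ofNat 0, Int.ofNat 0, Int.ofNat 0, Int.ofNat 0, Int.negSucc 1, Int.ofNat 0, Int.ofNat 0, Int.ofNat 0, Int.ofNat 0, Int.ofNat 0, Int.ofNat 0],
  [Int.negSucc 1, Int.ofNat 0, Int.ofNat 0, Int.negSucc 1, Int.negSucc 1, Int.negSucc 1, Int.ofNat 0, Int.ofNat 2, Int.ofNat 0, Int.negSucc 1, Int.ofNat 0, Int.ofNat 2, Int.ofNat 0, Int.ofNat 0, Int.ofNat 0, Int.ofNat 0, Int.ofNat 0, Int.negSucc 1, Int.ofNat 0, Int.ofNat 0, Int.ofNat 0, Int.ofNat 0, Int.ofNat 0, Int.ofNat 0],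
  [Int.ofNat 0, Int.negSucc 1, Int.ofNat 0, Int.ofNat 0, Int.negSucc 1, Int.negSucc 1, Int.negSucc 1, Int.ofNat 0, Int.ofNat 2, Int.ofNat 0, Int.negSucc 1, Int.ofNat 0, Int.ofNat 2, Int.ofNat 0, Int.ofNat 0, Int.ofNat 0, Int.ofNat 0, Int.ofNat 0, Int.negSucc 1, Int.ofNat 0, Int.ofNat 0, Int.ofNat 0, Int.ofNat 0, Int.ofNat 0],
  [Int.negSucc 0, Int.ofNat 1, Int.negSucc 0, Int.ofNat 1, Int.negSucc 0, Int.negSucc 0, Int.negSucc 0, Int.ofNat 1, Int.ofNat 1, Int.ofNat 1, Int.negSucc 0, Int.negSucc 0, Int.ofNat 1, Int.ofNat 1, Int.ofNat 1, Int.ofNat 1, Int.ofNat 1, Int.ofNat 1, Int.negSucc 2, Int.ofNat 1, Int.ofNat 1, Int.ofNat 1, Int.ofNat 1, Int.negSucc 0],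
  [Int.ofNat 1, Int.negSucc 0, Int.negSucc 0, Int.negSucc 0, Int.ofNat 1, Int.ofNat 1, Int.ofNat 1, Int.negSucc 0, Int.negSucc 0, Int.ofNat 1, Int.ofNat 1, Int.ofNat 1, Int.ofNat 1, Int.ofNat 1, Int.ofNat 1, Int.negSucc 2, Int.ofNat 1, Int.ofNat 1, Int.ofNat 1, Int.ofNat 1, Int.negSucc 0, Int.ofNat 1, Int.negSucc 0, Int.negSucc 0],
  [Int.negSucc 1, Int.ofNat 0, Int.ofNat 0, Int.negSucc 1, Int.ofNat 0, Int.ofNat 0, Int.ofNat 0, Int.negSucc 1, Int.negSucc 1, Int.ofNat 2, Int.ofNat 2, Int.ofNat 0, Int.ofNat 0, Int.ofNat 0, Int.ofNat 0, Int.negSucc 1, Int.ofNat 0, Int.ofNat 0, Int.ofNat 0, Int.ofNat 0, Int.ofNat 0, Int.ofNat 0, Int.negSucc 1, Int.ofNat 0],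
  [Int.negSucc 1, Int.ofNat 0, Int.ofNat 0, Int.negSucc 1, Int.ofNat 0, Int.negSucc 1, Int.ofNat 0, Int.ofNat 2, Int.ofNat 0, Int.ofNat 0, Int.ofNat 0, Int.ofNat 0, Int.ofNat 2, Int.ofNat 0, Int.negSucc 1, Int.negSucc 1, Int.negSucc 1, Int.ofNat 0, Int.ofNat 0, Int.ofNat 0, Int.ofNat 0, Int.ofNat 0, Int.ofNat 0, Int.ofNat 0],
  [Int.ofNat 1, Int.negSucc 0, Int.negSucc 0, Int.ofNat 1, Int.ofNat 1, Int.ofNat 1, Int.negSucc 0, Int.ofNat 1, Int.negSucc 0, Int.ofNat 1, Int.ofNat 1, Int.negSucc 0, Int.ofNat 1, Int.ofNat 1, Int.ofNat 1, Int.negSucc 0, Int.negSucc 0, Int.ofNat 3, Int.negSucc 0, Int.negSucc 0, Int.ofNat 1, Int.negSucc 0, Int.ofNat 1, Int.negSucc 0],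
  [Int.ofNat 1, Int.negSucc 0, Int.ofNat 1, Int.ofNat 1, Int.ofNat 1, Int.negSucc 0, Int.ofNat 1, Int.ofNat 1, Int.negSucc 0, Int.negSucc 0, Int.negSucc 0, Int.negSucc 0, Int.ofNat 1, Int.ofNat 1, Int.ofNat 1, Int.ofNat 1, Int.negSucc 0, Int.ofNat 3, Int.ofNat 1, Int.negSucc 0, Int.ofNat 1, Int.negSucc 0, Int.negSucc 0, Int.negSucc 0],
  [Int.negSucc 0, Int.negSucc 0, Int.negSucc 0, Int.ofNat 1, Int.ofNat 1, Int.ofNat 1, Int.ofNat 1, Int.ofNat 1, Int.ofNat 1, Int.ofNat 1, Int.negSucc 0, Int.ofNat 1, Int.ofNat 1, Int.ofNat 1, Int.negSucc 0, Int.ofNat 3, Int.negSucc 0, Int.negSucc 0, Int.ofNat 1, Int.negSucc 0, Int.ofNat 1, Int.negSucc 0, Int.negSucc 0, Int.negSucc 0],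
  [Int.negSucc 0, Int.negSucc 0, Int.ofNat 1, Int.ofNat 1, Int.ofNat 1, Int.negSucc 0, Int.negSucc 0, Int.ofNat 1, Int.ofNat 1, Int.negSucc 0, Int.ofNat 1, Int.ofNat 1, Int.ofNat 1, Int.ofNat 1, Int.negSucc 0, Int.negSucc 2, Int.negSucc 0, Int.negSucc 0, Int.negSucc 0, Int.negSucc 0, Int.ofNat 1, Int.negSucc 0, Int.ofNat 1, Int.negSucc 0],
  [Int.ofNat 0, Int.ofNat 0, Int.negSucc 1, Int.ofNat 2, Int.ofNat 0, Int.ofNat 0, Int.ofNat 0, Int.ofNat 2, Int.ofNat 0, Int.ofNat 0, Int.ofNat 2, Int.ofNat 0, Int.ofNat 0, Int.ofNat 0, Int.ofNat 0, Int.negSucc 1, Int.negSucc 1, Int.ofNat 0, Int.negSucc 1, Int.ofNat 0, Int.ofNat 2, Int.ofNat 0, Int.ofNat 0, Int.ofNat 0],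
  [Int.ofNat 0, Int.negSucc 1, Int.ofNat 0, Int.ofNat 2, Int.negSucc 1, Int.ofNat 0, Int.ofNat 0, Int.ofNat 0, Int.negSucc 1, Int.ofNat 0, Int.ofNat 2, Int.ofNat 0, Int.ofNat 0, Int.ofNat 0, Int.ofNat 0, Int.negSucc 1, Int.ofNat 0, Int.ofNat 0, Int.ofNat 0, Int.ofNat 0, Int.ofNat 2, Int.ofNat 2, Int.ofNat 0, Int.ofNat 0],
  [Int.negSucc 0, Int.ofNat 1, Int.negSucc 0, Int.ofNat 1, Int.negSucc 0, Int.negSucc 0, Int.negSucc 0, Int.negSucc 0, Int.negSucc 0, Int.negSucc 0, Int.ofNat 1, Int.ofNat 1, Int.ofNat 1, Int.ofNat 1, Int.negSucc 0, Int.negSucc 2, Int.ofNat 1, Int.negSucc 0, Int.ofNat 1, Int.negSucc 0, Int.ofNat 1, Int.ofNat 1, Int.ofNat 1, Int.negSucc 0],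
  [Int.ofNat 1, Int.ofNat 1, Int.ofNat 1, Int.negSucc 0, Int.ofNat 1, Int.negSucc 0, Int.ofNat 1, Int.negSucc 0, Int.negSucc 0, Int.negSucc 0, Int.negSucc 0, Int.negSucc 0, Int.negSucc 0, Int.ofNat 1, Int.ofNat 1, Int.ofNat 1, Int.ofNat 1, Int.negSucc 0, Int.negSucc 2, Int.ofNat 1, Int.negSucc 0, Int.ofNat 1, Int.negSucc 0, Int.negSucc 0],
  [Int.ofNat 0, Int.ofNat 0, Int.ofNat 0, Int.ofNat 0, Int.ofNat 0, Int.ofNat 0, Int.ofNat 0, Int.negSucc 1, Int.ofNat 2, Int.ofNat 0, Int.ofNat 0, Int.ofNat 2, Int.ofNat 2, Int.ofNat 0, Int.ofNat 2, Int.ofNat 2, Int.ofNat 0, Int.ofNat 0, Int.ofNat 0, Int.ofNat 0, Int.ofNat 0, Int.ofNat 0, Int.negSucc 1, Int.ofNat 2],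
  [Int.ofNat 0, Int.ofNat 0, Int.ofNat 0, Int.ofNat 0, Int.ofNat 0, Int.ofNat 0, Int.negSucc 1, Int.ofNat 2, Int.ofNat 0, Int.ofNat 0, Int.ofNat 2, Int.ofNat 2, Int.ofNat 0, Int.ofNat 2, Int.ofNat 2, Int.ofNat 0, Int.ofNat 0, Int.ofNat 0, Int.ofNat 0, Int.ofNat 0, Int.ofNat 0, Int.negSucc 1, Int.ofNat 0, Int.ofNat 2],
  [Int.ofNat 0, Int.ofNat 0, Int.ofNat 0, Int.ofNat 0, Int.ofNat 0, Int.ofNat 0, Int.negSucc 1, Int.negSucc 1, Int.ofNat 0, Int.ofNat 0, Int.negSucc 1, Int.negSucc 1, Int.ofNat 0, Int.ofNat 2, Int.ofNat 2, Int.ofNat 0, Int.ofNat 0, Int.ofNat 0, Int.ofNat 0, Int.ofNat 0, Int.ofNat 0, Int.ofNat 2, Int.ofNat 0, Int.ofNat 2],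
  [Int.ofNat 0, Int.ofNat 0, Int.ofNat 0, Int.ofNat 0, Int.ofNat 0, Int.ofNat 0, Int.ofNat 2, Int.negSucc 1, Int.ofNat 0, Int.ofNat 0, Int.negSucc 1, Int.negSucc 1, Int.ofNat 0, Int.negSucc 1, Int.ofNat 2, Int.ofNat 0, Int.ofNat 0, Int.ofNat 0, Int.ofNat 0, Int.ofNat 0, Int.ofNat 0, Int.ofNat 2, Int.ofNat 0, Int.ofNat 2],
  [Int.ofNat 0, Int.ofNat 0, Int.ofNat 0, Int.ofNat 0, Int.ofNat 0, Int.negSucc 1, Int.ofNat 0, Int.ofNat 0, Int.ofNat 0, Int.ofNat 0, Int.ofNat 2, Int.ofNat 2, Int.negSucc 1, Int.ofNat 0, Int.ofNat 0, Int.ofNat 0, Int.ofNat 0, Int.ofNat 0, Int.ofNat 2, Int.ofNat 0, Int.ofNat 0, Int.negSucc 1, Int.negSucc 1, Int.ofNat 2],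
  [Int.ofNat 0, Int.ofNat 0, Int.ofNat 0, Int.ofNat 0, Int.ofNat 0, Int.negSucc 1, Int.ofNat 0, Int.ofNat 0, Int.ofNat 0, Int.ofNat 0, Int.negSucc 1, Int.negSucc 1, Int.negSucc 1, Int.ofNat 0, Int.ofNat 0, Int.ofNat 0, Int.ofNat 0, Int.ofNat 0, Int.negSucc 1, Int.ofNat 0, Int.ofNat 0, Int.ofNat 2, Int.negSucc 1, Int.ofNat 2],
  [Int.negSucc 1, Int.ofNat 0, Int.ofNat 0, Int.ofNat 0, Int.ofNat 0, Int.ofNat 0, Int.negSucc 1, Int.ofNat 0, Int.ofNat 0, Int.ofNat 0, Int.ofNat 0, Int.negSucc 1, Int.negSucc 1, Int.negSucc 1, Int.ofNat 0, Int.ofNat 0, Int.ofNat 0, Int.ofNat 0, Int.ofNat 0, Int.negSucc 1, Int.ofNat 0, Int.ofNat 0, Int.ofNat 2, Int.ofNat 2],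
  [Int.ofNat 2, Int.ofNat 0, Int.ofNat 0, Int.ofNat 0, Int.ofNat 0, Int.ofNat 0, Int.ofNat 0, Int.ofNat 2, Int.ofNat 2, Int.ofNat 0, Int.ofNat 0, Int.ofNat 0, Int.ofNat 0, Int.negSucc 1, Int.ofNat 0, Int.ofNat 0, Int.ofNat 0, Int.ofNat 0, Int.ofNat 2, Int.ofNat 0, Int.ofNat 0, Int.ofNat 2, Int.ofNat 2, Int.negSucc 1],
  [Int.ofNat 0, Int.ofNat 0, Int.ofNat 0, Int.ofNat 0, Int.ofNat 2, Int.ofNat 2, Int.ofNat 0, Int.ofNat 0, Int.ofNat 0, Int.ofNat 0, Int.negSucc 1, Int.ofNat 0, Int.ofNat 0, Int.ofNat 0, Int.ofNat 0, Int.ofNat 2, Int.ofNat 0, Int.ofNat 0, Int.ofNat 2, Int.ofNat 2, Int.ofNat 2, Int.ofNat 0, Int.ofNat 0, Int.negSucc 1],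
  [Int.negSucc 0, Int.negSucc 0, Int.negSucc 0, Int.negSucc 0, Int.ofNat 1, Int.ofNat 1, Int.negSucc 0, Int.negSucc 0, Int.negSucc 0, Int.negSucc 0, Int.negSucc 2, Int.negSucc 0, Int.negSucc 0, Int.negSucc 0, Int.negSucc 0, Int.ofNat 1, Int.negSucc 0, Int.negSucc 0, Int.ofNat 1, Int.ofNat 1, Int.ofNat 1, Int.negSucc 0, Int.negSucc 0, Int.ofNat 1],
  [Int.negSucc 0, Int.negSucc 0, Int.ofNat 1, Int.negSucc 0, Int.ofNat 1, Int.negSucc 0, Int.negSucc 0, Int.negSucc 2, Int.negSucc 0, Int.negSucc 0, Int.ofNat 1, Int.negSucc 0, Int.negSucc 0, Int.negSucc 0, Int.negSucc 0, Int.ofNat 1, Int.negSucc 0, Int.negSucc 0, Int.negSucc 0, Int.negSucc 0, Int.negSucc 0, Int.ofNat 1, Int.ofNat 1, Int.ofNat 1],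
  [Int.ofNat 1, Int.ofNat 1, Int.negSucc 0, Int.ofNat 1, Int.ofNat 1, Int.ofNat 1, Int.ofNat 1, Int.negSucc 0, Int.ofNat 1, Int.negSucc 0, Int.ofNat 1, Int.ofNat 1, Int.ofNat 1, Int.negSucc 0, Int.ofNat 1, Int.ofNat 1, Int.negSucc 0, Int.ofNat 1, Int.ofNat 1, Int.ofNat 1, Int.negSucc 0, Int.ofNat 3, Int.ofNat 1, Int.negSucc 0],
  [Int.ofNat 1, Int.ofNat 1, Int.ofNat 1, Int.ofNat 1, Int.ofNat 1, Int.negSucc 0, Int.negSucc 0, Int.negSucc 0, Int.ofNat 1, Int.ofNat 1, Int.negSucc 0, Int.ofNat 1, Int.ofNat 1, Int.negSucc 0, Int.ofNat 1, Int.negSucc 0, Int.negSucc 0, Int.ofNat 1, Int.negSucc 0, Int.ofNat 1, Int.negSucc 0, Int.ofNat 3, Int.negSucc 0, Int.negSucc 0],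
  [Int.negSucc 0, Int.negSucc 0, Int.ofNat 1, Int.ofNat 1, Int.ofNat 1, Int.negSucc 0, Int.ofNat 3, Int.ofNat 1, Int.negSucc 0, Int.negSucc 0, Int.negSucc 0, Int.negSucc 0, Int.negSucc 0, Int.ofNat 1, Int.ofNat 1, Int.negSucc 0, Int.ofNat 1, Int.ofNat 1, Int.ofNat 1, Int.ofNat 1, Int.ofNat 1, Int.ofNat 1, Int.negSucc 0, Int.negSucc 0],
  [Int.negSucc 0, Int.negSucc 0, Int.negSucc 0, Int.negSucc 0, Int.ofNat 1, Int.negSucc 0, Int.ofNat 1, Int.ofNat 1, Int.ofNat 1, Int.negSucc 0, Int.ofNat 1, Int.ofNat 1, Int.ofNat 1, Int.ofNat 1, Int.ofNat 1, Int.ofNat 1, Int.negSucc 0, Int.ofNat 1, Int.ofNat 1, Int.ofNat 3, Int.negSucc 0, Int.negSucc 0, Int.negSucc 0, Int.negSucc 0],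
  [Int.ofNat 1, Int.negSucc 0, Int.ofNat 1, Int.negSucc 0, Int.ofNat 1, Int.negSucc 0, Int.ofNat 1, Int.negSucc 0, Int.ofNat 1, Int.ofNat 1, Int.negSucc 0, Int.negSucc 0, Int.ofNat 1, Int.ofNat 1, Int.ofNat 1, Int.ofNat 1, Int.negSucc 0, Int.ofNat 1, Int.negSucc 0, Int.ofNat 3, Int.negSucc 0, Int.ofNat 1, Int.negSucc 0, Int.negSucc 0],
  [Int.negSucc 0, Int.ofNat 1, Int.negSucc 0, Int.ofNat 1, Int.negSucc 0, Int.ofNat 1, Int.negSucc 0, Int.ofNat 1, Int.negSucc 0, Int.ofNat 1, Int.ofNat 1, Int.negSucc 0, Int.negSucc 0, Int.ofNat 1, Int.ofNat 1, Int.ofNat 1, Int.ofNat 1, Int.negSucc 0, Int.ofNat 1, Int.negSucc 0, Int.ofNat 3, Int.negSucc 0, Int.ofNat 1, Int.negSucc 0],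
  [Int.ofNat 0, Int.negSucc 1, Int.ofNat 0, Int.ofNat 0, Int.negSucc 1, Int.ofNat 0, Int.ofNat 0, Int.ofNat 2, Int.ofNat 0, Int.negSucc 1, Int.negSucc 1, Int.ofNat 0, Int.ofNat 0, Int.ofNat 0, Int.ofNat 0, Int.negSucc 1, Int.ofNat 0, Int.negSucc 1, Int.ofNat 2, Int.ofNat 0, Int.ofNat 0, Int.ofNat 0, Int.ofNat 0, Int.ofNat 0],
  [Int.ofNat 0, Int.negSucc 1, Int.ofNat 0, Int.ofNat 0, Int.ofNat 2, Int.ofNat 0, Int.negSucc 1, Int.negSucc 1, Int.ofNat 0, Int.ofNat 0, Int.ofNat 0, Int.ofNat 0, Int.negSucc 1, Int.ofNat 0, Int.negSucc 1, Int.ofNat 2, Int.ofNat 0, Int.ofNat 0, Int.ofNat 0, Int.ofNat 0, Int.ofNat 0, Int.negSucc 1, Int.ofNat 0, Int.ofNat 0],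
  [Int.negSucc 0, Int.ofNat 1, Int.negSucc 0, Int.ofNat 1, Int.ofNat 1, Int.ofNat 1, Int.ofNat 1, Int.ofNat 1, Int.ofNat 1, Int.negSucc 0, Int.negSucc 0, Int.ofNat 1, Int.negSucc 0, Int.negSucc 0, Int.negSucc 0, Int.ofNat 1, Int.negSucc 0, Int.ofNat 1, Int.ofNat 1, Int.ofNat 3, Int.negSucc 0, Int.ofNat 1, Int.negSucc 0, Int.negSucc 0],
  [Int.negSucc 0, Int.ofNat 1, Int.ofNat 1, Int.ofNat 1, Int.ofNat 1, Int.ofNat 1, Int.negSucc 0, Int.negSucc 0, Int.negSucc 0, Int.negSucc 0, Int.negSucc 0, Int.ofNat 1, Int.negSucc 0, Int.negSucc 0, Int.negSucc 0, Int.ofNat 1, Int.ofNat 1, Int.negSucc 0, Int.ofNat 1, Int.ofNat 1, Int.ofNat 1, Int.ofNat 1, Int.ofNat 3, Int.negSucc 0],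
  [Int.ofNat 1, Int.negSucc 0, Int.negSucc 0, Int.ofNat 1, Int.negSucc 0, Int.ofNat 1, Int.negSucc 0, Int.negSucc 0, Int.negSucc 0, Int.negSucc 0, Int.negSucc 0, Int.ofNat 1, Int.negSucc 0, Int.negSucc 2, Int.negSucc 0, Int.ofNat 1, Int.negSucc 0, Int.negSucc 0, Int.ofNat 1, Int.ofNat 1, Int.ofNat 1, Int.ofNat 1, Int.ofNat 1, Int.ofNat 1],
  [Int.ofNat 1, Int.negSucc 0, Int.ofNat 1, Int.ofNat 1, Int.negSucc 0, Int.negSucc 0, Int.ofNat 1, Int.negSucc 0, Int.negSucc 0, Int.ofNat 1, Int.ofNat 1, Int.ofNat 1, Int.negSucc 0, Int.negSucc 2, Int.negSucc 0, Int.negSucc 0, Int.negSucc 0, Int.negSucc 0, Int.negSucc 0, Int.ofNat 1, Int.ofNat 1, Int.ofNat 1, Int.negSucc 0, Int.ofNat 1],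
  [Int.negSucc 0, Int.ofNat 1, Int.negSucc 0, Int.ofNat 1, Int.negSucc 0, Int.negSucc 2, Int.ofNat 1, Int.negSucc 0, Int.ofNat 1, Int.ofNat 1, Int.ofNat 1, Int.negSucc 0, Int.ofNat 1, Int.negSucc 0, Int.ofNat 1, Int.negSucc 0, Int.negSucc 0, Int.ofNat 1, Int.negSucc 0, Int.ofNat 1, Int.negSucc 0, Int.negSucc 0, Int.negSucc 0, Int.ofNat 1],
  [Int.negSucc 0, Int.ofNat 1, Int.ofNat 1, Int.ofNat 1, Int.negSucc 0, Int.ofNat 3, Int.negSucc 0, Int.negSucc 0, Int.ofNat 1, Int.negSucc 0, Int.negSucc 0, Int.negSucc 0, Int.ofNat 1, Int.negSucc 0, Int.ofNat 1, Int.ofNat 1, Int.negSucc 0, Int.ofNat 1, Int.ofNat 1, Int.ofNat 1, Int.negSucc 0, Int.negSucc 0, Int.ofNat 1, Int.ofNat 1],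
  [Int.ofNat 2, Int.ofNat 0, Int.ofNat 0, Int.negSucc 1, Int.ofNat 0, Int.ofNat 0, Int.ofNat 0, Int.ofNat 0, Int.ofNat 0, Int.ofNat 0, Int.ofNat 0, Int.negSucc 1, Int.ofNat 0, Int.ofNat 0, Int.negSucc 1, Int.ofNat 2, Int.ofNat 0, Int.negSucc 1, Int.ofNat 0, Int.ofNat 2, Int.ofNat 0, Int.ofNat 0, Int.ofNat 2, Int.ofNat 0],
  [Int.ofNat 2, Int.ofNat 0, Int.ofNat 0, Int.negSucc 1, Int.ofNat 0, Int.ofNat 0, Int.ofNat 0, Int.ofNat 0, Int.ofNat 0, Int.ofNat 0, Int.ofNat 0, Int.ofNat 2, Int.ofNat 0, Int.ofNat 0, Int.negSucc 1, Int.ofNat 2, Int.ofNat 0, Int.negSucc 1, Int.ofNat 0, Int.ofNat 2, Int.ofNat 0, Int.ofNat 0, Int.negSucc 1, Int.ofNat 0],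
  [Int.negSucc 0, Int.ofNat 1, Int.ofNat 1, Int.ofNat 1, Int.ofNat 1, Int.ofNat 3, Int.negSucc 0, Int.negSucc 0, Int.negSucc 0, Int.negSucc 0, Int.negSucc 0, Int.ofNat 1, Int.negSucc 0, Int.ofNat 1, Int.ofNat 1, Int.ofNat 1, Int.ofNat 1, Int.ofNat 1, Int.negSucc 0, Int.ofNat 1, Int.negSucc 0, Int.negSucc 0, Int.negSucc 0, Int.ofNat 1],
  [Int.negSucc 0, Int.negSucc 0, Int.negSucc 0, Int.negSucc 0, Int.ofNat 1, Int.ofNat 1, Int.ofNat 1, Int.ofNat 1, Int.ofNat 3, Int.negSucc 0, Int.negSucc 0, Int.negSucc 0, Int.negSucc 0, Int.negSucc 0, Int.ofNat 1, Int.negSucc 0, Int.ofNat 1, Int.ofNat 1, Int.ofNat 1, Int.ofNat 1, Int.ofNat 1, Int.negSucc 0, Int.ofNat 1, Int.ofNat 1],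
  [Int.ofNat 0, Int.ofNat 0, Int.ofNat 0, Int.negSucc 1, Int.ofNat 0, Int.ofNat 0, Int.ofNat 0, Int.ofNat 0, Int.ofNat 2, Int.ofNat 0, Int.ofNat 0, Int.negSucc 1, Int.negSucc 1, Int.negSucc 1, Int.ofNat 0, Int.ofNat 0, Int.ofNat 0, Int.ofNat 0, Int.ofNat 0, Int.ofNat 0, Int.ofNat 2, Int.negSucc 1, Int.ofNat 0, Int.negSucc 1],
  [Int.ofNat 0, Int.ofNat 0, Int.negSucc 1, Int.ofNat 0, Int.ofNat 0, Int.ofNat 0, Int.ofNat 0, Int.ofNat 2, Int.ofNat 0, Int.ofNat 0, Int.negSucc 1, Int.negSucc 1, Int.negSucc 1, Int.ofNat 0, Int.ofNat 0, Int.ofNat 0, Int.ofNat 0, Int.ofNat 0, Int.ofNat 0, Int.ofNat 2, Int.negSucc 1, Int.ofNat 0, Int.ofNat 0, Int.negSucc 1],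
  [Int.ofNat 0, Int.ofNat 0, Int.ofNat 2, Int.ofNat 0, Int.ofNat 0, Int.ofNat 0, Int.ofNat 0, Int.negSucc 1, Int.ofNat 0, Int.ofNat 0, Int.ofNat 2, Int.ofNat 2, Int.negSucc 1, Int.ofNat 0, Int.ofNat 0, Int.ofNat 0, Int.ofNat 0, Int.ofNat 0, Int.ofNat 0, Int.ofNat 2, Int.negSucc 1, Int.ofNat 0, Int.ofNat 0, Int.negSucc 1],
  [Int.ofNat 0, Int.ofNat 0, Int.negSucc 1, Int.ofNat 0, Int.ofNat 0, Int.ofNat 0, Int.ofNat 0, Int.negSucc 1, Int.ofNat 0, Int.ofNat 0, Int.ofNat 2, Int.ofNat 2, Int.ofNat 2, Int.ofNat 0, Int.ofNat 0, Int.ofNat 0, Int.ofNat 0, Int.ofNat 0, Int.ofNat 0, Int.ofNat 2, Int.negSucc 1, Int.ofNat 0, Int.ofNat 0, Int.negSucc 1],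
  [Int.ofNat 0, Int.negSucc 1, Int.ofNat 0, Int.ofNat 0, Int.ofNat 0, Int.ofNat 2, Int.ofNat 0, Int.negSucc 1, Int.ofNat 0, Int.ofNat 0, Int.ofNat 0, Int.ofNat 0, Int.ofNat 0, Int.ofNat 0, Int.ofNat 2, Int.ofNat 0, Int.ofNat 2, Int.ofNat 0, Int.ofNat 0, Int.ofNat 0, Int.ofNat 0, Int.negSucc 1, Int.ofNat 2, Int.negSucc 1],
  [Int.ofNat 0, Int.negSucc 1, Int.ofNat 0, Int.ofNat 0, Int.ofNat 0, Int.ofNat 2, Int.ofNat 0, Int.ofNat 2, Int.ofNat 0, Int.ofNat 0, Int.ofNat 0, Int.ofNat 0, Int.ofNat 0, Int.ofNat 0, Int.ofNat 2, Int.ofNat 0, Int.ofNat 2, Int.ofNat 0, Int.ofNat 0, Int.ofNat 0, Int.ofNat 0, Int.ofNat 2, Int.ofNat 2, Int.negSucc 1],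
  [Int.ofNat 2, Int.ofNat 0, Int.negSucc 1, Int.ofNat 0, Int.ofNat 0, Int.ofNat 0, Int.ofNat 2, Int.ofNat 0, Int.ofNat 2, Int.ofNat 0, Int.ofNat 0, Int.ofNat 0, Int.ofNat 0, Int.ofNat 0, Int.ofNat 0, Int.ofNat 2, Int.ofNat 0, Int.ofNat 2, Int.ofNat 0, Int.ofNat 0, Int.ofNat 0, Int.ofNat 0, Int.ofNat 2, Int.negSucc 1],
  [Int.negSucc 2, Int.negSucc 0, Int.ofNat 1, Int.negSucc 0, Int.negSucc 0, Int.negSucc 0, Int.ofNat 1, Int.negSucc 0, Int.ofNat 1, Int.negSucc 0, Int.negSucc 0, Int.negSucc 0, Int.negSucc 0, Int.negSucc 0, Int.negSucc 0, Int.ofNat 1, Int.negSucc 0, Int.ofNat 1, Int.negSucc 0, Int.negSucc 0, Int.negSucc 0, Int.negSucc 0, Int.ofNat 1, Int.ofNat 1],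
  [Int.negSucc 0, Int.negSucc 0, Int.negSucc 0, Int.ofNat 1, Int.negSucc 0, Int.ofNat 1, Int.negSucc 0, Int.negSucc 0, Int.negSucc 0, Int.negSucc 0, Int.negSucc 0, Int.negSucc 0, Int.ofNat 1, Int.negSucc 0, Int.ofNat 1, Int.negSucc 0, Int.negSucc 0, Int.negSucc 0, Int.negSucc 0, Int.ofNat 1, Int.negSucc 2, Int.negSucc 0, Int.ofNat 1, Int.ofNat 1],
  [Int.ofNat 0, Int.ofNat 0, Int.ofNat 0, Int.ofNat 0, Int.ofNat 0, Int.ofNat 0, Int.ofNat 0, Int.ofNat 0, Int.ofNat 0, Int.ofNat 2, Int.ofNat 2, Int.ofNat 0, Int.ofNat 2, Int.ofNat 0, Int.ofNat 0, Int.ofNat 2, Int.ofNat 0, Int.negSucc 1, Int.ofNat 0, Int.ofNat 2, Int.ofNat 0, Int.ofNat 0, Int.ofNat 2, Int.negSucc 1],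
  [Int.ofNat 0, Int.ofNat 0, Int.ofNat 0, Int.ofNat 0, Int.ofNat 0, Int.ofNat 0, Int.ofNat 0, Int.ofNat 2, Int.ofNat 2, Int.ofNat 0, Int.ofNat 0, Int.negSucc 1, Int.ofNat 2, Int.ofNat 0, Int.ofNat 2, Int.ofNat 2, Int.ofNat 0, Int.ofNat 0, Int.ofNat 0, Int.ofNat 0, Int.ofNat 0, Int.ofNat 0, Int.ofNat 2, Int.negSucc 1],
  [Int.negSucc 0, Int.negSucc 0, Int.negSucc 0, Int.negSucc 0, Int.negSucc 0, Int.negSucc 0, Int.negSucc 0, Int.ofNat 1, Int.ofNat 1, Int.negSucc 0, Int.negSucc 0, Int.negSucc 2, Int.ofNat 1, Int.negSucc 0, Int.ofNat 1, Int.ofNat 1, Int.negSucc 0, Int.negSucc 0, Int.negSucc 0, Int.negSucc 0, Int.negSucc 0, Int.negSucc 0, Int.ofNat 1, Int.ofNat 1],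
  [Int.negSucc 0, Int.negSucc 0, Int.ofNat 1, Int.negSucc 0, Int.negSucc 0, Int.ofNat 1, Int.ofNat 1, Int.ofNat 1, Int.ofNat 1, Int.ofNat 1, Int.ofNat 1, Int.negSucc 2, Int.ofNat 1, Int.negSucc 0, Int.ofNat 1, Int.negSucc 0, Int.negSucc 0, Int.negSucc 0, Int.ofNat 1, Int.negSucc 0, Int.negSucc 0, Int.negSucc 0, Int.negSucc 0, Int.ofNat 1],
  [Int.ofNat 1, Int.negSucc 0, Int.negSucc 2, Int.ofNat 1, Int.ofNat 1, Int.ofNat 1, Int.negSucc 0, Int.negSucc 0, Int.ofNat 1, Int.negSucc 0, Int.negSucc 0, Int.ofNat 1, Int.negSucc 0, Int.negSucc 0, Int.negSucc 0, Int.ofNat 1, Int.negSucc 0, Int.ofNat 1, Int.ofNat 1, Int.ofNat 1, Int.negSucc 0, Int.negSucc 0, Int.negSucc 0, Int.ofNat 1],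
  [Int.ofNat 1, Int.negSucc 0, Int.ofNat 1, Int.ofNat 1, Int.ofNat 1, Int.negSucc 0, Int.ofNat 1, Int.negSucc 0, Int.negSucc 0, Int.ofNat 1, Int.negSucc 0, Int.negSucc 2, Int.negSucc 0, Int.negSucc 0, Int.ofNat 1, Int.ofNat 1, Int.negSucc 0, Int.ofNat 1, Int.negSucc 0, Int.negSucc 0, Int.ofNat 1, Int.negSucc 0, Int.negSucc 0, Int.ofNat 1],
  [Int.negSucc 0, Int.negSucc 0, Int.negSucc 0, Int.ofNat 1, Int.ofNat 1, Int.negSucc 0, Int.ofNat 1, Int.ofNat 1, Int.negSucc 0, Int.negSucc 0, Int.ofNat 1, Int.ofNat 3, Int.negSucc 0, Int.negSucc 0, Int.ofNat 1, Int.ofNat 1, Int.negSucc 0, Int.ofNat 1, Int.ofNat 1, Int.negSucc 0, Int.ofNat 1, Int.ofNat 1, Int.negSucc 0, Int.ofNat 1],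
  [Int.negSucc 0, Int.negSucc 0, Int.negSucc 0, Int.negSucc 0, Int.ofNat 1, Int.ofNat 1, Int.negSucc 0, Int.ofNat 1, Int.ofNat 1, Int.negSucc 0, Int.negSucc 0, Int.ofNat 1, Int.ofNat 3, Int.negSucc 0, Int.negSucc 0, Int.ofNat 1, Int.ofNat 1, Int.negSucc 0, Int.ofNat 1, Int.ofNat 1, Int.negSucc 0, Int.ofNat 1, Int.ofNat 1, Int.ofNat 1],
  [Int.ofNat 0, Int.ofNat 0, Int.ofNat 0, Int.ofNat 0, Int.ofNat 0, Int.ofNat 2, Int.negSucc 1, Int.ofNat 0, Int.negSucc 1, Int.ofNat 0, Int.ofNat 0, Int.negSucc 1, Int.ofNat 0, Int.negSucc 1, Int.ofNat 0, Int.ofNat 2, Int.ofNat 0, Int.ofNat 0, Int.negSucc 1, Int.ofNat 0, Int.ofNat 0, Int.ofNat 0, Int.ofNat 0, Int.negSucc 1],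
  [Int.ofNat 0, Int.ofNat 0, Int.ofNat 2, Int.negSucc 1, Int.ofNat 0, Int.negSucc 1, Int.ofNat 0, Int.ofNat 0, Int.negSucc 1, Int.ofNat 0, Int.negSucc 1, Int.ofNat 0, Int.ofNat 2, Int.ofNat 0, Int.ofNat 0, Int.negSucc 1, Int.ofNat 0, Int.ofNat 0, Int.ofNat 0, Int.ofNat 0, Int.ofNat 0, Int.ofNat 0, Int.ofNat 0, Int.negSucc 1],
  [Int.ofNat 0, Int.ofNat 0, Int.negSucc 1, Int.ofNat 0, Int.ofNat 0, Int.ofNat 0, Int.ofNat 0, Int.ofNat 0, Int.negSucc 1, Int.ofNat 2, Int.ofNat 0, Int.ofNat 0, Int.ofNat 2, Int.ofNat 0, Int.ofNat 2, Int.ofNat 0, Int.ofNat 0, Int.ofNat 2, Int.ofNat 0, Int.ofNat 0, Int.ofNat 2, Int.ofNat 0, Int.ofNat 0, Int.ofNat 2],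
  [Int.ofNat 0, Int.ofNat 0, Int.ofNat 0, Int.ofNat 0, Int.ofNat 0, Int.ofNat 0, Int.negSucc 1, Int.ofNat 0, Int.ofNat 2, Int.ofNat 0, Int.ofNat 2, Int.ofNat 2, Int.ofNat 2, Int.ofNat 0, Int.ofNat 0, Int.ofNat 0, Int.negSucc 1, Int.ofNat 2, Int.ofNat 0, Int.ofNat 0, Int.ofNat 0, Int.ofNat 0, Int.ofNat 0, Int.ofNat 2],
  [Int.ofNat 1, Int.ofNat 1, Int.ofNat 1, Int.negSucc 0, Int.ofNat 1, Int.negSucc 0, Int.negSucc 0, Int.ofNat 1, Int.negSucc 0, Int.negSucc 0, Int.ofNat 1, Int.negSucc 0, Int.negSucc 0, Int.ofNat 1, Int.negSucc 0, Int.negSucc 0, Int.negSucc 0, Int.ofNat 1, Int.negSucc 2, Int.ofNat 1, Int.negSucc 0, Int.ofNat 1, Int.ofNat 1, Int.negSucc 0],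
  [Int.ofNat 1, Int.ofNat 1, Int.negSucc 0, Int.negSucc 0, Int.ofNat 1, Int.ofNat 1, Int.ofNat 1, Int.ofNat 1, Int.negSucc 0, Int.ofNat 1, Int.negSucc 0, Int.negSucc 0, Int.negSucc 0, Int.ofNat 1, Int.negSucc 0, Int.ofNat 1, Int.negSucc 0, Int.ofNat 1, Int.ofNat 3, Int.ofNat 1, Int.negSucc 0, Int.ofNat 1, Int.negSucc 0, Int.negSucc 0],
  [Int.negSucc 0, Int.negSucc 0, Int.ofNat 1, Int.negSucc 0, Int.ofNat 3, Int.ofNat 1, Int.negSucc 0, Int.ofNat 1, Int.ofNat 1, Int.ofNat 1, Int.negSucc 0, Int.negSucc 0, Int.negSucc 0, Int.ofNat 1, Int.ofNat 1, Int.ofNat 1, Int.negSucc 0, Int.ofNat 1, Int.negSucc 0, Int.ofNat 1, Int.ofNat 1, Int.ofNat 1, Int.negSucc 0, Int.negSucc 0],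
  [Int.negSucc 0, Int.negSucc 0, Int.negSucc 0, Int.negSucc 0, Int.ofNat 3, Int.negSucc 0, Int.ofNat 1, Int.ofNat 1, Int.ofNat 1, Int.negSucc 0, Int.ofNat 1, Int.negSucc 0, Int.negSucc 0, Int.ofNat 1, Int.ofNat 1, Int.negSucc 0, Int.negSucc 0, Int.ofNat 1, Int.ofNat 1, Int.ofNat 1, Int.ofNat 1, Int.ofNat 1, Int.ofNat 1, Int.negSucc 0],
  [Int.negSucc 0, Int.negSucc 0, Int.negSucc 0, Int.negSucc 0, Int.ofNat 1, Int.negSucc 0, Int.negSucc 0, Int.negSucc 0, Int.ofNat 1, Int.negSucc 0, Int.ofNat 1, Int.negSucc 0, Int.negSucc 0, Int.negSucc 0, Int.ofNat 1, Int.negSucc 0, Int.negSucc 2, Int.ofNat 1, Int.ofNat 1, Int.negSucc 0, Int.ofNat 1, Int.negSucc 0, Int.negSucc 0, Int.negSucc 0],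
  [Int.negSucc 0, Int.ofNat 1, Int.negSucc 0, Int.negSucc 0, Int.negSucc 0, Int.negSucc 0, Int.negSucc 0, Int.negSucc 0, Int.negSucc 2, Int.negSucc 0, Int.negSucc 0, Int.negSucc 0, Int.ofNat 1, Int.negSucc 0, Int.ofNat 1, Int.negSucc 0, Int.negSucc 0, Int.negSucc 0, Int.ofNat 1, Int.negSucc 0, Int.ofNat 1, Int.ofNat 1, Int.ofNat 1, Int.negSucc 0],
  [Int.ofNat 0, Int.negSucc 1, Int.ofNat 0, Int.ofNat 0, Int.ofNat 0, Int.ofNat 0, Int.ofNat 0, Int.ofNat 0, Int.negSucc 1, Int.ofNat 0, Int.ofNat 0, Int.ofNat 0, Int.ofNat 2, Int.ofNat 0, Int.ofNat 2, Int.ofNat 0, Int.ofNat 0, Int.ofNat 0, Int.ofNat 2, Int.ofNat 0, Int.ofNat 2, Int.ofNat 2, Int.ofNat 2, Int.ofNat 0],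
  [Int.ofNat 2, Int.ofNat 2, Int.ofNat 2, Int.ofNat 0, Int.negSucc 1, Int.ofNat 0, Int.ofNat 0, Int.ofNat 0, Int.ofNat 0, Int.ofNat 0, Int.ofNat 0, Int.negSucc 1, Int.ofNat 0, Int.ofNat 0, Int.ofNat 0, Int.ofNat 2, Int.ofNat 0, Int.ofNat 2, Int.ofNat 0, Int.ofNat 0, Int.ofNat 0, Int.ofNat 2, Int.ofNat 0, Int.ofNat 0],
  [Int.ofNat 1, Int.ofNat 1, Int.ofNat 1, Int.negSucc 0, Int.negSucc 0, Int.negSucc 0, Int.negSucc 0, Int.negSucc 0, Int.ofNat 1, Int.negSucc 0, Int.negSucc 0, Int.negSucc 0, Int.ofNat 1, Int.ofNat 1, Int.negSucc 0, Int.ofNat 1, Int.ofNat 1, Int.ofNat 1, Int.ofNat 1, Int.negSucc 0, Int.negSucc 0, Int.ofNat 1, Int.ofNat 1, Int.ofNat 3],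
  [Int.ofNat 1, Int.ofNat 1, Int.negSucc 0, Int.negSucc 0, Int.negSucc 0, Int.negSucc 0, Int.negSucc 0, Int.ofNat 1, Int.negSucc 0, Int.negSucc 0, Int.negSucc 0, Int.ofNat 1, Int.ofNat 1, Int.negSucc 0, Int.ofNat 1, Int.ofNat 1, Int.ofNat 1, Int.ofNat 1, Int.negSucc 0, Int.negSucc 0, Int.ofNat 1, Int.ofNat 1, Int.ofNat 1, Int.ofNat 3],
  [Int.negSucc 0, Int.ofNat 1, Int.ofNat 1, Int.negSucc 0, Int.negSucc 0, Int.negSucc 0, Int.negSucc 0, Int.negSucc 0, Int.negSucc 0, Int.ofNat 1, Int.ofNat 1, Int.negSucc 0, Int.ofNat 1, Int.negSucc 0, Int.ofNat 1, Int.ofNat 1, Int.ofNat 1, Int.ofNat 1, Int.ofNat 1, Int.negSucc 0, Int.ofNat 1, Int.negSucc 0, Int.ofNat 1, Int.ofNat 3],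
  [Int.ofNat 1, Int.negSucc 0, Int.negSucc 0, Int.ofNat 1, Int.ofNat 1, Int.negSucc 0, Int.ofNat 1, Int.negSucc 0, Int.ofNat 1, Int.negSucc 0, Int.ofNat 1, Int.negSucc 0, Int.negSucc 0, Int.ofNat 1, Int.ofNat 1, Int.ofNat 1, Int.negSucc 0, Int.ofNat 1, Int.negSucc 0, Int.negSucc 0, Int.ofNat 1, Int.negSucc 0, Int.ofNat 1, Int.ofNat 3],
  [Int.ofNat 1, Int.negSucc 0, Int.negSucc 0, Int.ofNat 1, Int.negSucc 0, Int.ofNat 1, Int.ofNat 1, Int.ofNat 1, Int.negSucc 0, Int.negSucc 0, Int.negSucc 0, Int.ofNat 1, Int.ofNat 1, Int.ofNat 1, Int.negSucc 0, Int.ofNat 1, Int.negSucc 0, Int.ofNat 1, Int.ofNat 1, Int.ofNat 1, Int.negSucc 0, Int.negSucc 0, Int.negSucc 0, Int.ofNat 3],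
  [Int.negSucc 0, Int.negSucc 0, Int.ofNat 1, Int.ofNat 1, Int.negSucc 0, Int.ofNat 1, Int.ofNat 1, Int.negSucc 0, Int.negSucc 0, Int.ofNat 1, Int.ofNat 1, Int.negSucc 0, Int.ofNat 1, Int.ofNat 1, Int.negSucc 0, Int.ofNat 1, Int.negSucc 0, Int.ofNat 1, Int.negSucc 0, Int.ofNat 1, Int.negSucc 0, Int.ofNat 1, Int.negSucc 0, Int.ofNat 3],
  [Int.negSucc 0, Int.negSucc 0, Int.negSucc 0, Int.ofNat 1, Int.ofNat 1, Int.negSucc 0, Int.ofNat 1, Int.ofNat 1, Int.negSucc 0, Int.negSucc 0, Int.ofNat 1, Int.ofNat 1, Int.negSucc 0, Int.ofNat 1, Int.ofNat 1, Int.negSucc 0, Int.ofNat 1, Int.negSucc 0, Int.ofNat 1, Int.negSucc 0, Int.ofNat 1, Int.negSucc 0, Int.ofNat 1, Int.ofNat 3],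
  [Int.ofNat 1, Int.ofNat 1, Int.ofNat 1, Int.ofNat 1, Int.negSucc 0, Int.negSucc 0, Int.ofNat 1, Int.ofNat 1, Int.negSucc 0, Int.negSucc 0, Int.ofNat 1, Int.ofNat 1, Int.negSucc 0, Int.negSucc 0, Int.ofNat 1, Int.negSucc 0, Int.negSucc 0, Int.negSucc 0, Int.ofNat 1, Int.negSucc 0, Int.ofNat 1, Int.negSucc 0, Int.negSucc 0, Int.negSucc 2],
  [Int.ofNat 1, Int.negSucc 0, Int.negSucc 0, Int.ofNat 1, Int.ofNat 1, Int.negSucc 0, Int.negSucc 0, Int.ofNat 1, Int.ofNat 1, Int.negSucc 0, Int.negSucc 0, Int.ofNat 1, Int.negSucc 0, Int.negSucc 0, Int.negSucc 0, Int.ofNat 1, Int.negSucc 0, Int.ofNat 1, Int.negSucc 0, Int.negSucc 0, Int.ofNat 1, Int.ofNat 1, Int.ofNat 1, Int.negSucc 2],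
  [Int.negSucc 2, Int.negSucc 0, Int.negSucc 0, Int.ofNat 1, Int.ofNat 1, Int.negSucc 0, Int.negSucc 0, Int.ofNat 1, Int.ofNat 1, Int.negSucc 0, Int.negSucc 0, Int.ofNat 1, Int.negSucc 0, Int.negSucc 0, Int.negSucc 0, Int.ofNat 1, Int.negSucc 0, Int.ofNat 1, Int.negSucc 0, Int.negSucc 0, Int.ofNat 1, Int.ofNat 1, Int.ofNat 1, Int.ofNat 1],
  [Int.negSucc 2, Int.negSucc 0, Int.ofNat 1, Int.ofNat 1, Int.negSucc 0, Int.ofNat 1, Int.negSucc 0, Int.negSucc 0, Int.negSucc 0, Int.negSucc 0, Int.ofNat 1, Int.ofNat 1, Int.negSucc 0, Int.negSucc 0, Int.ofNat 1, Int.ofNat 1, Int.ofNat 1, Int.negSucc 0, Int.negSucc 0, Int.ofNat 1, Int.ofNat 1, Int.negSucc 0, Int.negSucc 0, Int.ofNat 1],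
  [Int.ofNat 2, Int.ofNat 0, Int.negSucc 1, Int.ofNat 0, Int.ofNat 0, Int.ofNat 0, Int.ofNat 0, Int.ofNat 0, Int.ofNat 0, Int.negSucc 1, Int.ofNat 0, Int.ofNat 2, Int.ofNat 0, Int.ofNat 0, Int.ofNat 0, Int.ofNat 0, Int.ofNat 2, Int.negSucc 1, Int.ofNat 0, Int.ofNat 2, Int.ofNat 0, Int.ofNat 0, Int.ofNat 0, Int.negSucc 1],
  [Int.ofNat 2, Int.ofNat 0, Int.ofNat 2, Int.ofNat 0, Int.ofNat 0, Int.ofNat 0, Int.ofNat 0, Int.ofNat 0, Int.ofNat 0, Int.ofNat 2, Int.ofNat 0, Int.ofNat 2, Int.ofNat 0, Int.ofNat 0, Int.ofNat 0, Int.ofNat 0, Int.ofNat 2, Int.negSucc 1, Int.ofNat 0, Int.ofNat 2, Int.ofNat 0, Int.ofNat 0, Int.ofNat 0, Int.negSucc 1],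
  [Int.ofNat 0, Int.ofNat 2, Int.ofNat 2, Int.ofNat 0, Int.ofNat 0, Int.ofNat 0, Int.ofNat 0, Int.ofNat 0, Int.ofNat 0, Int.ofNat 0, Int.ofNat 0, Int.ofNat 0, Int.ofNat 0, Int.ofNat 0, Int.negSucc 1, Int.ofNat 0, Int.ofNat 2, Int.ofNat 0, Int.ofNat 2, Int.ofNat 2, Int.ofNat 2, Int.ofNat 0, Int.ofNat 0, Int.negSucc 1],
  [Int.negSucc 1, Int.ofNat 0, Int.ofNat 0, Int.ofNat 0, Int.ofNat 0, Int.ofNat 0, Int.ofNat 2, Int.ofNat 0, Int.ofNat 2, Int.ofNat 0, Int.ofNat 2, Int.ofNat 2, Int.ofNat 0, Int.ofNat 0, Int.ofNat 2, Int.ofNat 0, Int.ofNat 0, Int.ofNat 0, Int.negSucc 1, Int.ofNat 0, Int.ofNat 0, Int.ofNat 0, Int.ofNat 2, Int.ofNat 0],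
  [Int.ofNat 2, Int.ofNat 0, Int.ofNat 0, Int.ofNat 0, Int.ofNat 0, Int.ofNat 0, Int.ofNat 2, Int.ofNat 0, Int.ofNat 2, Int.ofNat 0, Int.negSucc 1, Int.negSucc 1, Int.ofNat 0, Int.ofNat 0, Int.ofNat 2, Int.ofNat 0, Int.ofNat 0, Int.ofNat 0, Int.ofNat 2, Int.ofNat 0, Int.ofNat 0, Int.ofNat 0, Int.ofNat 2, Int.ofNat 0],
  [Int.ofNat 2, Int.ofNat 2, Int.ofNat 0, Int.ofNat 0, Int.ofNat 0, Int.ofNat 0, Int.ofNat 0, Int.ofNat 2, Int.ofNat 0, Int.ofNat 2, Int.ofNat 0, Int.negSucc 1, Int.negSucc 1, Int.ofNat 0, Int.ofNat 0, Int.ofNat 2, Int.ofNat 0, Int.ofNat 0, Int.ofNat 0, Int.ofNat 2, Int.ofNat 0, Int.ofNat 0, Int.ofNat 0, Int.ofNat 0],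
  [Int.ofNat 0, Int.ofNat 0, Int.ofNat 2, Int.ofNat 0, Int.ofNat 0, Int.ofNat 0, Int.negSucc 1, Int.ofNat 0, Int.ofNat 2, Int.ofNat 0, Int.negSucc 1, Int.ofNat 0, Int.ofNat 0, Int.ofNat 0, Int.ofNat 0, Int.ofNat 0, Int.ofNat 0, Int.ofNat 0, Int.ofNat 2, Int.ofNat 0, Int.negSucc 1, Int.negSucc 1, Int.ofNat 0, Int.ofNat 2],
  [Int.ofNat 0, Int.ofNat 0, Int.ofNat 0, Int.negSucc 1, Int.ofNat 0, Int.ofNat 2, Int.ofNat 0, Int.negSucc 1, Int.ofNat 0, Int.ofNat 0, Int.ofNat 0, Int.ofNat 0, Int.ofNat 0, Int.ofNat 0, Int.ofNat 0, Int.ofNat 2, Int.ofNat 0, Int.negSucc 1, Int.negSucc 1, Int.ofNat 0, Int.ofNat 0, Int.ofNat 0, Int.ofNat 2, Int.ofNat 2],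
  [Int.ofNat 1, Int.ofNat 1, Int.ofNat 1, Int.negSucc 0, Int.negSucc 0, Int.ofNat 3, Int.ofNat 1, Int.negSucc 0, Int.ofNat 1, Int.negSucc 0, Int.negSucc 0, Int.ofNat 1, Int.ofNat 1, Int.negSucc 0, Int.ofNat 1, Int.ofNat 1, Int.negSucc 0, Int.negSucc 0, Int.negSucc 0, Int.ofNat 1, Int.negSucc 0, Int.ofNat 1, Int.ofNat 1, Int.negSucc 0],
  [Int.ofNat 1, Int.ofNat 1, Int.negSucc 0, Int.negSucc 0, Int.negSucc 0, Int.negSucc 0, Int.ofNat 1, Int.negSucc 0, Int.ofNat 1, Int.negSucc 0, Int.negSucc 0, Int.negSucc 0, Int.negSucc 0, Int.negSucc 0, Int.ofNat 1, Int.ofNat 1, Int.ofNat 1, Int.ofNat 1, Int.ofNat 1, Int.ofNat 1, Int.ofNat 1, Int.ofNat 3, Int.ofNat 1, Int.negSucc 0],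
  [Int.negSucc 0, Int.negSucc 0, Int.ofNat 1, Int.negSucc 0, Int.negSucc 0, Int.negSucc 0, Int.negSucc 0, Int.negSucc 2, Int.ofNat 1, Int.negSucc 0, Int.negSucc 0, Int.negSucc 0, Int.negSucc 0, Int.negSucc 0, Int.ofNat 1, Int.ofNat 1, Int.ofNat 1, Int.ofNat 1, Int.ofNat 1, Int.negSucc 0, Int.ofNat 1, Int.ofNat 1, Int.ofNat 1, Int.ofNat 1],
  [Int.negSucc 0, Int.negSucc 0, Int.negSucc 0, Int.negSucc 0, Int.negSucc 0, Int.ofNat 1, Int.ofNat 1, Int.negSucc 2, Int.ofNat 1, Int.ofNat 1, Int.ofNat 1, Int.negSucc 0, Int.negSucc 0, Int.negSucc 0, Int.ofNat 1, Int.negSucc 0, Int.ofNat 1, Int.ofNat 1, Int.negSucc 0, Int.negSucc 0, Int.ofNat 1, Int.ofNat 1, Int.negSucc 0, Int.ofNat 1],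
  [Int.negSucc 0, Int.ofNat 1, Int.negSucc 0, Int.ofNat 1, Int.negSucc 0, Int.negSucc 0, Int.negSucc 0, Int.negSucc 0, Int.ofNat 1, Int.negSucc 0, Int.negSucc 0, Int.ofNat 1, Int.negSucc 0, Int.negSucc 0, Int.ofNat 1, Int.ofNat 1, Int.ofNat 1, Int.negSucc 0, Int.negSucc 0, Int.ofNat 1, Int.negSucc 2, Int.ofNat 1, Int.ofNat 1, Int.ofNat 1],
  [Int.negSucc 0, Int.ofNat 1, Int.ofNat 1, Int.ofNat 1, Int.negSucc 0, Int.ofNat 1, Int.ofNat 1, Int.negSucc 0, Int.ofNat 1, Int.ofNat 1, Int.ofNat 1, Int.ofNat 1, Int.negSucc 0, Int.negSucc 0, Int.ofNat 1, Int.negSucc 0, Int.ofNat 1, Int.negSucc 0, Int.ofNat 1, Int.ofNat 1, Int.negSucc 2, Int.ofNat 1, Int.negSucc 0, Int.ofNat 1],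
  [Int.ofNat 2, Int.ofNat 0, Int.ofNat 0, Int.ofNat 0, Int.ofNat 0, Int.ofNat 0, Int.ofNat 0, Int.negSucc 1, Int.ofNat 0, Int.ofNat 2, Int.ofNat 2, Int.ofNat 0, Int.negSucc 1, Int.ofNat 0, Int.ofNat 0, Int.ofNat 0, Int.ofNat 2, Int.negSucc 1, Int.ofNat 0, Int.ofNat 0, Int.negSucc 1, Int.ofNat 0, Int.ofNat 0, Int.ofNat 0],
  [Int.ofNat 2, Int.ofNat 0, Int.ofNat 0, Int.ofNat 0, Int.ofNat 0, Int.ofNat 0, Int.ofNat 0, Int.ofNat 0, Int.ofNat 2, Int.negSucc 1, Int.negSucc 1, Int.ofNat 0, Int.ofNat 0, Int.ofNat 2, Int.negSucc 1, Int.ofNat 0, Int.ofNat 0, Int.ofNat 0, Int.ofNat 0, Int.ofNat 0, Int.ofNat 2, Int.negSucc 1, Int.ofNat 0, Int.ofNat 0],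
  [Int.negSucc 0, Int.ofNat 1, Int.ofNat 1, Int.ofNat 1, Int.negSucc 0, Int.ofNat 1, Int.ofNat 1, Int.ofNat 1, Int.ofNat 1, Int.negSucc 0, Int.negSucc 0, Int.negSucc 0, Int.negSucc 0, Int.ofNat 1, Int.negSucc 0, Int.ofNat 1, Int.negSucc 0, Int.ofNat 1, Int.negSucc 0, Int.ofNat 1, Int.ofNat 3, Int.negSucc 0, Int.negSucc 0, Int.ofNat 1],
  [Int.ofNat 3, Int.negSucc 0, Int.negSucc 0, Int.negSucc 0, Int.ofNat 1, Int.ofNat 1, Int.ofNat 1, Int.negSucc 0, Int.ofNat 1, Int.ofNat 1, Int.ofNat 1, Int.ofNat 1, Int.negSucc 0, Int.negSucc 0, Int.negSucc 0, Int.negSucc 0, Int.ofNat 1, Int.negSucc 0, Int.ofNat 1, Int.negSucc 0, Int.ofNat 1, Int.negSucc 0, Int.ofNat 1, Int.ofNat 1],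
  [Int.negSucc 1, Int.ofNat 2, Int.ofNat 2, Int.ofNat 0, Int.ofNat 0, Int.ofNat 2, Int.ofNat 2, Int.ofNat 0, Int.ofNat 0, Int.ofNat 0, Int.ofNat 0, Int.ofNat 0, Int.negSucc 1, Int.negSucc 1, Int.ofNat 0, Int.negSucc 1, Int.ofNat 0, Int.ofNat 0, Int.ofNat 0, Int.ofNat 0, Int.ofNat 0, Int.ofNat 0, Int.ofNat 0, Int.ofNat 0],
  [Int.ofNat 2, Int.ofNat 2, Int.ofNat 0, Int.ofNat 0, Int.ofNat 2, Int.ofNat 2, Int.ofNat 0, Int.ofNat 0, Int.ofNat 0, Int.ofNat 0, Int.ofNat 0, Int.negSucc 1, Int.negSucc 1, Int.ofNat 0, Int.negSucc 1, Int.ofNat 0, Int.ofNat 0, Int.ofNat 0, Int.ofNat 0, Int.ofNat 0, Int.ofNat 0, Int.ofNat 0, Int.negSucc 1, Int.ofNat 0],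
  [Int.negSucc 1, Int.ofNat 2, Int.ofNat 0, Int.ofNat 0, Int.ofNat 2, Int.ofNat 2, Int.ofNat 0, Int.ofNat 0, Int.ofNat 0, Int.ofNat 0, Int.ofNat 0, Int.ofNat 2, Int.negSucc 1, Int.ofNat 0, Int.negSucc 1, Int.ofNat 0, Int.ofNat 0, Int.ofNat 0, Int.ofNat 0, Int.ofNat 0, Int.ofNat 0, Int.ofNat 0, Int.negSucc 1, Int.ofNat 0],
  [Int.ofNat 2, Int.negSucc 1, Int.ofNat 0, Int.ofNat 0, Int.negSucc 1, Int.ofNat 2, Int.ofNat 0, Int.ofNat 0, Int.ofNat 0, Int.ofNat 0, Int.ofNat 0, Int.ofNat 2, Int.ofNat 2, Int.ofNat 0, Int.negSucc 1, Int.ofNat 0, Int.ofNat 0, Int.ofNat 0, Int.ofNat 0, Int.ofNat 0, Int.ofNat 0, Int.ofNat 0, Int.negSucc 1, Int.ofNat 0],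
  [Int.ofNat 2, Int.ofNat 0, Int.ofNat 0, Int.ofNat 0, Int.negSucc 1, Int.ofNat 0, Int.negSucc 1, Int.ofNat 0, Int.ofNat 0, Int.ofNat 0, Int.ofNat 0, Int.negSucc 1, Int.ofNat 0, Int.ofNat 0, Int.ofNat 0, Int.ofNat 0, Int.ofNat 2, Int.negSucc 1, Int.ofNat 0, Int.ofNat 0, Int.ofNat 2, Int.ofNat 0, Int.ofNat 2, Int.ofNat 0],
  [Int.negSucc 1, Int.ofNat 0, Int.ofNat 0, Int.ofNat 0, Int.negSucc 1, Int.ofNat 0, Int.negSucc 1, Int.ofNat 0, Int.ofNat 0, Int.ofNat 0, Int.ofNat 0, Int.ofNat 2, Int.ofNat 0, Int.ofNat 0, Int.ofNat 0, Int.ofNat 0, Int.ofNat 2, Int.negSucc 1, Int.ofNat 0, Int.ofNat 0, Int.ofNat 2, Int.ofNat 0, Int.ofNat 2, Int.ofNat 0],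
  [Int.ofNat 2, Int.negSucc 1, Int.ofNat 0, Int.ofNat 0, Int.ofNat 0, Int.negSucc 1, Int.ofNat 0, Int.negSucc 1, Int.ofNat 0, Int.ofNat 0, Int.ofNat 0, Int.ofNat 0, Int.ofNat 2, Int.ofNat 0, Int.ofNat 0, Int.ofNat 0, Int.ofNat 0, Int.ofNat 2, Int.negSucc 1, Int.ofNat 0, Int.ofNat 0, Int.ofNat 2, Int.ofNat 0, Int.ofNat 0],
  [Int.negSucc 1, Int.ofNat 2, Int.ofNat 0, Int.ofNat 0, Int.ofNat 0, Int.negSucc 1, Int.ofNat 0, Int.negSucc 1, Int.ofNat 0, Int.ofNat 0, Int.ofNat 0, Int.ofNat 0, Int.ofNat 2, Int.ofNat 0, Int.ofNat 0, Int.ofNat 0, Int.ofNat 0, Int.ofNat 2, Int.negSucc 1, Int.ofNat 0, Int.ofNat 0, Int.ofNat 2, Int.ofNat 0, Int.ofNat 0],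
  [Int.ofNat 0, Int.ofNat 0, Int.negSucc 1, Int.ofNat 0, Int.negSucc 1, Int.ofNat 0, Int.ofNat 0, Int.ofNat 0, Int.ofNat 0, Int.ofNat 2, Int.ofNat 0, Int.ofNat 0, Int.ofNat 0, Int.ofNat 0, Int.ofNat 2, Int.negSucc 1, Int.ofNat 0, Int.ofNat 0, Int.ofNat 2, Int.ofNat 0, Int.negSucc 1, Int.ofNat 2, Int.ofNat 0, Int.ofNat 0],
  [Int.negSucc 0, Int.negSucc 0, Int.ofNat 1, Int.negSucc 0, Int.negSucc 0, Int.negSucc 0, Int.negSucc 0, Int.negSucc 0, Int.negSucc 0, Int.ofNat 3, Int.ofNat 1, Int.negSucc 0, Int.negSucc 0, Int.ofNat 1, Int.ofNat 1, Int.negSucc 0, Int.ofNat 1, Int.negSucc 0, Int.ofNat 1, Int.negSucc 0, Int.negSucc 0, Int.ofNat 1, Int.ofNat 1, Int.negSucc 0],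
  [Int.negSucc 0, Int.negSucc 0, Int.negSucc 0, Int.negSucc 0, Int.ofNat 1, Int.negSucc 0, Int.ofNat 1, Int.ofNat 1, Int.negSucc 0, Int.ofNat 1, Int.negSucc 0, Int.negSucc 0, Int.ofNat 3, Int.ofNat 1, Int.ofNat 1, Int.negSucc 0, Int.negSucc 0, Int.ofNat 1, Int.negSucc 0, Int.negSucc 0, Int.ofNat 1, Int.negSucc 0, Int.negSucc 0, Int.negSucc 0],
  [Int.negSucc 0, Int.negSucc 0, Int.negSucc 0, Int.negSucc 0, Int.ofNat 1, Int.negSucc 0, Int.ofNat 1, Int.ofNat 1, Int.negSucc 0, Int.ofNat 1, Int.negSucc 0, Int.negSucc 0, Int.ofNat 3, Int.ofNat 1, Int.ofNat 1, Int.negSucc 0, Int.negSucc 0, Int.ofNat 1, Int.negSucc 0, Int.negSucc 0, Int.ofNat 1, Int.negSucc 0, Int.negSucc 0, Int.negSucc 0],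
  [Int.negSucc 0, Int.negSucc 0, Int.ofNat 1, Int.negSucc 0, Int.ofNat 1, Int.ofNat 1, Int.negSucc 0, Int.ofNat 1, Int.negSucc 0, Int.negSucc 0, Int.ofNat 1, Int.negSucc 0, Int.ofNat 3, Int.ofNat 1, Int.ofNat 1, Int.ofNat 1, Int.negSucc 0, Int.ofNat 1, Int.ofNat 1, Int.negSucc 0, Int.ofNat 1, Int.negSucc 0, Int.ofNat 1, Int.negSucc 0],
  [Int.ofNat 1, Int.negSucc 0, Int.negSucc 0, Int.negSucc 0, Int.ofNat 1, Int.negSucc 0, Int.negSucc 0, Int.negSucc 0, Int.ofNat 1, Int.ofNat 1, Int.ofNat 1, Int.ofNat 1, Int.ofNat 1, Int.ofNat 1, Int.ofNat 1, Int.ofNat 1, Int.negSucc 0, Int.ofNat 3, Int.negSucc 0, Int.ofNat 1, Int.negSucc 0, Int.negSucc 0, Int.ofNat 1, Int.negSucc 0],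
  [Int.negSucc 0, Int.ofNat 1, Int.ofNat 1, Int.ofNat 1, Int.ofNat 3, Int.ofNat 1, Int.ofNat 1, Int.ofNat 1, Int.negSucc 0, Int.negSucc 0, Int.negSucc 0, Int.negSucc 0, Int.negSucc 0, Int.negSucc 0, Int.negSucc 0, Int.negSucc 0, Int.ofNat 1, Int.ofNat 1, Int.ofNat 1, Int.negSucc 0, Int.ofNat 1, Int.ofNat 1, Int.negSucc 0, Int.ofNat 1],
  [Int.ofNat 1, Int.ofNat 1, Int.negSucc 0, Int.ofNat 1, Int.ofNat 3, Int.ofNat 1, Int.ofNat 1, Int.negSucc 0, Int.negSucc 0, Int.ofNat 1, Int.ofNat 1, Int.ofNat 1, Int.negSucc 0, Int.negSucc 0, Int.negSucc 0, Int.negSucc 0, Int.ofNat 1, Int.ofNat 1, Int.negSucc 0, Int.negSucc 0, Int.ofNat 1, Int.negSucc 0, Int.negSucc 0, Int.ofNat 1],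
  [Int.negSucc 0, Int.ofNat 1, Int.ofNat 1, Int.negSucc 0, Int.ofNat 1, Int.ofNat 3, Int.ofNat 1, Int.ofNat 1, Int.negSucc 0, Int.negSucc 0, Int.ofNat 1, Int.ofNat 1, Int.ofNat 1, Int.negSucc 0, Int.negSucc 0, Int.negSucc 0, Int.negSucc 0, Int.ofNat 1, Int.ofNat 1, Int.negSucc 0, Int.negSucc 0, Int.ofNat 1, Int.negSucc 0, Int.ofNat 1],
  [Int.ofNat 2, Int.ofNat 0, Int.ofNat 0, Int.negSucc 1, Int.ofNat 2, Int.ofNat 2, Int.ofNat 0, Int.ofNat 0, Int.negSucc 1, Int.ofNat 0, Int.ofNat 2, Int.ofNat 0, Int.ofNat 0, Int.ofNat 0, Int.negSucc 1, Int.ofNat 0, Int.ofNat 0, Int.ofNat 0, Int.ofNat 0, Int.negSucc 1, Int.ofNat 0, Int.ofNat 0, Int.ofNat 0, Int.ofNat 0],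
  [Int.negSucc 1, Int.ofNat 2, Int.ofNat 2, Int.ofNat 0, Int.ofNat 0, Int.negSucc 1, Int.ofNat 0, Int.ofNat 2, Int.ofNat 0, Int.ofNat 0, Int.ofNat 0, Int.negSucc 1, Int.ofNat 0, Int.ofNat 0, Int.ofNat 0, Int.ofNat 0, Int.negSucc 1, Int.ofNat 0, Int.ofNat 0, Int.ofNat 0, Int.ofNat 2, Int.ofNat 0, Int.ofNat 0, Int.ofNat 0],
  [Int.ofNat 3, Int.negSucc 0, Int.negSucc 0, Int.ofNat 1, Int.ofNat 1, Int.negSucc 0, Int.negSucc 0, Int.ofNat 1, Int.ofNat 1, Int.negSucc 0, Int.negSucc 0, Int.negSucc 0, Int.ofNat 1, Int.ofNat 1, Int.ofNat 1, Int.negSucc 0, Int.negSucc 0, Int.ofNat 1, Int.ofNat 1, Int.negSucc 0, Int.ofNat 1, Int.negSucc 0, Int.ofNat 1, Int.ofNat 1],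
  [Int.ofNat 3, Int.negSucc 0, Int.ofNat 1, Int.ofNat 1, Int.ofNat 1, Int.ofNat 1, Int.negSucc 0, Int.negSucc 0, Int.ofNat 1, Int.ofNat 1, Int.ofNat 1, Int.ofNat 1, Int.negSucc 0, Int.negSucc 0, Int.ofNat 1, Int.negSucc 0, Int.ofNat 1, Int.ofNat 1, Int.negSucc 0, Int.negSucc 0, Int.negSucc 0, Int.negSucc 0, Int.negSucc 0, Int.ofNat 1],
  [Int.negSucc 0, Int.ofNat 3, Int.ofNat 1, Int.negSucc 0, Int.ofNat 1, Int.negSucc 0, Int.ofNat 1, Int.ofNat 1, Int.ofNat 1, Int.ofNat 1, Int.ofNat 1, Int.ofNat 1, Int.negSucc 0, Int.negSucc 0, Int.negSucc 0, Int.negSucc 0, Int.ofNat 1, Int.negSucc 0, Int.negSucc 0, Int.ofNat 1, Int.negSucc 0, Int.ofNat 1, Int.negSucc 0, Int.ofNat 1],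
  [Int.negSucc 0, Int.ofNat 3, Int.negSucc 0, Int.negSucc 0, Int.ofNat 1, Int.ofNat 1, Int.negSucc 0, Int.ofNat 1, Int.ofNat 1, Int.negSucc 0, Int.negSucc 0, Int.ofNat 1, Int.negSucc 0, Int.negSucc 0, Int.negSucc 0, Int.ofNat 1, Int.ofNat 1, Int.negSucc 0, Int.ofNat 1, Int.ofNat 1, Int.negSucc 0, Int.ofNat 1, Int.ofNat 1, Int.ofNat 1],
  [Int.ofNat 1, Int.negSucc 0, Int.ofNat 3, Int.negSucc 0, Int.ofNat 1, Int.negSucc 0, Int.negSucc 0, Int.ofNat 1, Int.negSucc 0, Int.negSucc 0, Int.ofNat 1, Int.negSucc 0, Int.negSucc 0, Int.ofNat 1, Int.ofNat 1, Int.negSucc 0, Int.ofNat 1, Int.ofNat 1, Int.negSucc 0, Int.negSucc 0, Int.ofNat 1, Int.ofNat 1, Int.ofNat 1, Int.ofNat 1],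
  [Int.ofNat 1, Int.negSucc 0, Int.negSucc 2, Int.negSucc 0, Int.ofNat 1, Int.ofNat 1, Int.ofNat 1, Int.ofNat 1, Int.negSucc 0, Int.ofNat 1, Int.negSucc 0, Int.negSucc 0, Int.negSucc 0, Int.ofNat 1, Int.ofNat 1, Int.ofNat 1, Int.ofNat 1, Int.ofNat 1, Int.ofNat 1, Int.negSucc 0, Int.ofNat 1, Int.ofNat 1, Int.negSucc 0, Int.ofNat 1],
  [Int.negSucc 1, Int.ofNat 0, Int.ofNat 2, Int.negSucc 1, Int.ofNat 0, Int.ofNat 0, Int.ofNat 0, Int.ofNat 0, Int.ofNat 0, Int.ofNat 0, Int.negSucc 1, Int.ofNat 0, Int.ofNat 0, Int.ofNat 0, Int.ofNat 0, Int.ofNat 0, Int.ofNat 0, Int.ofNat 0, Int.ofNat 2, Int.negSucc 1, Int.ofNat 0, Int.ofNat 0, Int.negSucc 1, Int.negSucc 1],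
  [Int.negSucc 1, Int.ofNat 2, Int.ofNat 0, Int.negSucc 1, Int.ofNat 2, Int.ofNat 0, Int.ofNat 0, Int.ofNat 0, Int.ofNat 0, Int.ofNat 0, Int.ofNat 0, Int.negSucc 1, Int.ofNat 0, Int.ofNat 0, Int.ofNat 0, Int.ofNat 0, Int.ofNat 0, Int.ofNat 0, Int.ofNat 0, Int.negSucc 1, Int.negSucc 1, Int.ofNat 0, Int.ofNat 0, Int.negSucc 1],
  [Int.ofNat 1, Int.negSucc 2, Int.negSucc 0, Int.negSucc 0, Int.ofNat 1, Int.ofNat 1, Int.ofNat 1, Int.ofNat 1, Int.ofNat 1, Int.ofNat 1, Int.ofNat 1, Int.negSucc 0, Int.ofNat 1, Int.negSucc 0, Int.ofNat 1, Int.ofNat 1, Int.negSucc 0, Int.ofNat 1, Int.ofNat 1, Int.negSucc 0, Int.negSucc 0, Int.ofNat 1, Int.negSucc 0, Int.ofNat 1],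
  [Int.negSucc 0, Int.ofNat 1, Int.negSucc 0, Int.ofNat 1, Int.negSucc 2, Int.negSucc 0, Int.negSucc 0, Int.ofNat 1, Int.ofNat 1, Int.ofNat 1, Int.ofNat 1, Int.ofNat 1, Int.ofNat 1, Int.ofNat 1, Int.negSucc 0, Int.ofNat 1, Int.negSucc 0, Int.ofNat 1, Int.ofNat 1, Int.negSucc 0, Int.ofNat 1, Int.ofNat 1, Int.negSucc 0, Int.ofNat 1],
  [Int.ofNat 1, Int.negSucc 0, Int.ofNat 1, Int.ofNat 1, Int.negSucc 0, Int.negSucc 0, Int.negSucc 0, Int.ofNat 1, Int.negSucc 0, Int.negSucc 0, Int.negSucc 0, Int.negSucc 0, Int.negSucc 0, Int.ofNat 3, Int.negSucc 0, Int.negSucc 0, Int.ofNat 1, Int.ofNat 1, Int.negSucc 0, Int.negSucc 0, Int.negSucc 0, Int.ofNat 1, Int.ofNat 1, Int.negSucc 0],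
  [Int.negSucc 0, Int.ofNat 1, Int.ofNat 1, Int.negSucc 0, Int.negSucc 0, Int.negSucc 0, Int.ofNat 1, Int.negSucc 0, Int.negSucc 0, Int.negSucc 0, Int.negSucc 0, Int.negSucc 0, Int.ofNat 3, Int.negSucc 0, Int.negSucc 0, Int.ofNat 1, Int.ofNat 1, Int.negSucc 0, Int.negSucc 0, Int.negSucc 0, Int.ofNat 1, Int.ofNat 1, Int.ofNat 1, Int.negSucc 0],
  [Int.ofNat 1, Int.ofNat 1, Int.negSucc 0, Int.negSucc 0, Int.negSucc 0, Int.negSucc 0, Int.ofNat 1, Int.ofNat 1, Int.negSucc 0, Int.ofNat 1, Int.ofNat 1, Int.ofNat 1, Int.ofNat 3, Int.negSucc 0, Int.negSucc 0, Int.ofNat 1, Int.ofNat 1, Int.negSucc 0, Int.ofNat 1, Int.negSucc 0, Int.ofNat 1, Int.negSucc 0, Int.ofNat 1, Int.negSucc 0],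
  [Int.negSucc 0, Int.negSucc 0, Int.ofNat 1, Int.ofNat 1, Int.ofNat 1, Int.negSucc 0, Int.negSucc 0, Int.ofNat 1, Int.ofNat 1, Int.negSucc 0, Int.ofNat 1, Int.ofNat 1, Int.negSucc 2, Int.ofNat 1, Int.negSucc 0, Int.ofNat 1, Int.negSucc 0, Int.negSucc 0, Int.negSucc 0, Int.negSucc 0, Int.ofNat 1, Int.negSucc 0, Int.ofNat 1, Int.negSucc 0],
  [Int.negSucc 0, Int.ofNat 1, Int.negSucc 0, Int.ofNat 1, Int.negSucc 0, Int.ofNat 1, Int.ofNat 1, Int.ofNat 1, Int.negSucc 0, Int.negSucc 0, Int.negSucc 0, Int.negSucc 0, Int.ofNat 1, Int.ofNat 1, Int.negSucc 0, Int.ofNat 1, Int.negSucc 2, Int.ofNat 1, Int.negSucc 0, Int.negSucc 0, Int.negSucc 0, Int.ofNat 1, Int.ofNat 1, Int.negSucc 0],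
  [Int.ofNat 1, Int.ofNat 1, Int.ofNat 1, Int.ofNat 1, Int.negSucc 0, Int.ofNat 1, Int.ofNat 1, Int.negSucc 0, Int.negSucc 0, Int.ofNat 1, Int.ofNat 1, Int.ofNat 1, Int.ofNat 1, Int.ofNat 1, Int.negSucc 0, Int.ofNat 1, Int.negSucc 2, Int.ofNat 1, Int.ofNat 1, Int.negSucc 0, Int.negSucc 0, Int.negSucc 0, Int.ofNat 1, Int.negSucc 0],
  [Int.ofNat 1, Int.ofNat 1, Int.ofNat 1, Int.ofNat 1, Int.ofNat 1, Int.negSucc 0, Int.ofNat 1, Int.ofNat 1, Int.negSucc 0, Int.negSucc 0, Int.ofNat 1, Int.ofNat 1, Int.ofNat 1, Int.ofNat 1, Int.ofNat 1, Int.negSucc 0, Int.ofNat 1, Int.negSucc 2, Int.ofNat 1, Int.ofNat 1, Int.negSucc 0, Int.negSucc 0, Int.negSucc 0, Int.negSucc 0],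
  [Int.ofNat 0, Int.ofNat 0, Int.ofNat 0, Int.ofNat 2, Int.ofNat 0, Int.ofNat 0, Int.ofNat 0, Int.ofNat 0, Int.negSucc 1, Int.ofNat 0, Int.ofNat 2, Int.ofNat 0, Int.ofNat 0, Int.ofNat 0, Int.ofNat 2, Int.ofNat 0, Int.ofNat 0, Int.negSucc 1, Int.ofNat 0, Int.ofNat 0, Int.ofNat 0, Int.negSucc 1, Int.negSucc 1, Int.ofNat 2],
  [Int.ofNat 2, Int.ofNat 0, Int.ofNat 0, Int.ofNat 0, Int.ofNat 0, Int.negSucc 1, Int.ofNat 0, Int.ofNat 2, Int.ofNat 0, Int.ofNat 0, Int.ofNat 0, Int.ofNat 2, Int.ofNat 0, Int.ofNat 0, Int.negSucc 1, Int.ofNat 0, Int.ofNat 0, Int.ofNat 0, Int.negSucc 1, Int.negSucc 1, Int.ofNat 0, Int.ofNat 0, Int.ofNat 0, Int.ofNat 2],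
  [Int.ofNat 0, Int.ofNat 2, Int.ofNat 2, Int.ofNat 2, Int.ofNat 0, Int.ofNat 0, Int.ofNat 0, Int.ofNat 2, Int.ofNat 0, Int.ofNat 0, Int.ofNat 0, Int.ofNat 2, Int.ofNat 0, Int.ofNat 0, Int.ofNat 0, Int.ofNat 0, Int.ofNat 0, Int.ofNat 2, Int.negSucc 1, Int.negSucc 1, Int.ofNat 0, Int.ofNat 0, Int.ofNat 0, Int.ofNat 0],
  [Int.ofNat 0, Int.ofNat 0, Int.ofNat 0, Int.ofNat 2, Int.negSucc 1, Int.ofNat 2, Int.ofNat 2, Int.ofNat 0, Int.ofNat 0, Int.ofNat 0, Int.ofNat 0, Int.ofNat 2, Int.ofNat 0, Int.ofNat 0, Int.ofNat 0, Int.ofNat 0, Int.ofNat 0, Int.ofNat 0, Int.ofNat 2, Int.ofNat 2, Int.ofNat 0, Int.ofNat 0, Int.negSucc 1, Int.ofNat 0],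
  [Int.ofNat 0, Int.ofNat 0, Int.ofNat 0, Int.ofNat 0, Int.ofNat 0, Int.ofNat 0, Int.ofNat 0, Int.negSucc 1, Int.negSucc 1, Int.ofNat 0, Int.ofNat 0, Int.ofNat 0, Int.negSucc 1, Int.ofNat 2, Int.negSucc 1, Int.ofNat 0, Int.ofNat 2, Int.negSucc 1, Int.ofNat 0, Int.ofNat 0, Int.ofNat 0, Int.negSucc 1, Int.ofNat 0, Int.ofNat 0],
  [Int.ofNat 0, Int.ofNat 0, Int.ofNat 0, Int.ofNat 0, Int.ofNat 0, Int.ofNat 0, Int.ofNat 0, Int.negSucc 1, Int.negSucc 1, Int.ofNat 0, Int.ofNat 0, Int.ofNat 0, Int.negSucc 1, Int.ofNat 2, Int.negSucc 1, Int.ofNat 0, Int.ofNat 2, Int.negSucc 1, Int.ofNat 0, Int.ofNat 0, Int.ofNat 0, Int.negSucc 1, Int.ofNat 0, Int.ofNat 0],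
  [Int.ofNat 0, Int.ofNat 2, Int.ofNat 0, Int.negSucc 1, Int.negSucc 1, Int.ofNat 0, Int.negSucc 1, Int.ofNat 0, Int.ofNat 0, Int.ofNat 0, Int.ofNat 2, Int.negSucc 1, Int.ofNat 0, Int.ofNat 0, Int.negSucc 1, Int.ofNat 0, Int.ofNat 0, Int.negSucc 1, Int.ofNat 0, Int.ofNat 0, Int.ofNat 0, Int.ofNat 0, Int.ofNat 0, Int.ofNat 0],
  [Int.ofNat 0, Int.ofNat 0, Int.negSucc 1, Int.ofNat 0, Int.negSucc 1, Int.ofNat 0, Int.ofNat 0, Int.ofNat 0, Int.ofNat 0, Int.ofNat 0, Int.ofNat 0, Int.ofNat 0, Int.ofNat 0, Int.ofNat 0, Int.ofNat 0, Int.negSucc 1, Int.ofNat 2, Int.negSucc 1, Int.negSucc 1, Int.negSucc 1, Int.ofNat 0, Int.ofNat 0, Int.ofNat 2, Int.ofNat 0],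
  [Int.ofNat 0, Int.ofNat 0, Int.ofNat 2, Int.ofNat 0, Int.negSucc 1, Int.ofNat 0, Int.ofNat 0, Int.ofNat 0, Int.ofNat 0, Int.ofNat 0, Int.ofNat 0, Int.ofNat 0, Int.ofNat 0, Int.ofNat 0, Int.ofNat 0, Int.negSucc 1, Int.ofNat 2, Int.negSucc 1, Int.ofNat 2, Int.negSucc 1, Int.ofNat 0, Int.ofNat 0, Int.ofNat 2, Int.ofNat 0],
  [Int.ofNat 2, Int.ofNat 0, Int.ofNat 0, Int.ofNat 2, Int.ofNat 0, Int.negSucc 1, Int.ofNat 0, Int.ofNat 0, Int.ofNat 0, Int.ofNat 0, Int.ofNat 0, Int.ofNat 0, Int.ofNat 0, Int.ofNat 0, Int.ofNat 0, Int.ofNat 0, Int.negSucc 1, Int.ofNat 2, Int.negSucc 1, Int.ofNat 2, Int.negSucc 1, Int.ofNat 0, Int.ofNat 0, Int.ofNat 0],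
  [Int.negSucc 0, Int.ofNat 1, Int.ofNat 1, Int.ofNat 1, Int.ofNat 1, Int.negSucc 2, Int.negSucc 0, Int.negSucc 0, Int.ofNat 1, Int.ofNat 1, Int.ofNat 1, Int.ofNat 1, Int.ofNat 1, Int.ofNat 1, Int.negSucc 0, Int.ofNat 1, Int.negSucc 0, Int.ofNat 1, Int.negSucc 0, Int.ofNat 1, Int.negSucc 0, Int.negSucc 0, Int.ofNat 1, Int.ofNat 1],
  [Int.ofNat 1, Int.ofNat 1, Int.negSucc 2, Int.negSucc 0, Int.negSucc 0, Int.ofNat 1, Int.ofNat 1, Int.ofNat 1, Int.ofNat 1, Int.ofNat 1, Int.ofNat 1, Int.negSucc 0, Int.ofNat 1, Int.negSucc 0, Int.ofNat 1, Int.negSucc 0, Int.ofNat 1, Int.negSucc 0, Int.negSucc 0, Int.ofNat 1, Int.negSucc 0, Int.ofNat 1, Int.ofNat 1, Int.ofNat 1],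
  [Int.negSucc 0, Int.negSucc 0, Int.ofNat 3, Int.negSucc 0, Int.negSucc 0, Int.ofNat 1, Int.negSucc 0, Int.negSucc 0, Int.ofNat 1, Int.ofNat 1, Int.ofNat 1, Int.negSucc 0, Int.ofNat 1, Int.negSucc 0, Int.ofNat 1, Int.negSucc 0, Int.ofNat 1, Int.negSucc 0, Int.negSucc 0, Int.negSucc 0, Int.negSucc 0, Int.negSucc 0, Int.ofNat 1, Int.negSucc 0],
  [Int.negSucc 0, Int.negSucc 0, Int.negSucc 0, Int.negSucc 0, Int.negSucc 0, Int.negSucc 0, Int.ofNat 3, Int.ofNat 1, Int.ofNat 1, Int.negSucc 0, Int.negSucc 0, Int.negSucc 0, Int.ofNat 1, Int.ofNat 1, Int.ofNat 1, Int.negSucc 0, Int.ofNat 1, Int.ofNat 1, Int.negSucc 0, Int.negSucc 0, Int.negSucc 0, Int.ofNat 1, Int.negSucc 0, Int.negSucc 0],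
  [Int.negSucc 0, Int.negSucc 0, Int.negSucc 0, Int.negSucc 0, Int.negSucc 0, Int.negSucc 0, Int.ofNat 1, Int.negSucc 0, Int.ofNat 1, Int.ofNat 1, Int.ofNat 1, Int.negSucc 0, Int.ofNat 1, Int.ofNat 1, Int.ofNat 1, Int.ofNat 1, Int.ofNat 1, Int.ofNat 1, Int.negSucc 0, Int.negSucc 2, Int.ofNat 1, Int.negSucc 0, Int.negSucc 0, Int.negSucc 0],
  [Int.negSucc 0, Int.negSucc 0, Int.ofNat 1, Int.negSucc 0, Int.negSucc 0, Int.ofNat 1, Int.negSucc 0, Int.negSucc 0, Int.ofNat 1, Int.negSucc 0, Int.negSucc 0, Int.negSucc 0, Int.ofNat 1, Int.ofNat 1, Int.ofNat 1, Int.negSucc 0, Int.ofNat 1, Int.ofNat 1, Int.ofNat 1, Int.negSucc 2, Int.ofNat 1, Int.negSucc 0, Int.ofNat 1, Int.negSucc 0],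
  [Int.ofNat 1, Int.negSucc 0, Int.negSucc 0, Int.ofNat 1, Int.ofNat 1, Int.ofNat 1, Int.negSucc 0, Int.negSucc 0, Int.negSucc 0, Int.negSucc 0, Int.negSucc 0, Int.ofNat 1, Int.ofNat 1, Int.negSucc 0, Int.negSucc 0, Int.ofNat 1, Int.ofNat 1, Int.negSucc 2, Int.ofNat 1, Int.negSucc 0, Int.negSucc 0, Int.ofNat 1, Int.ofNat 1, Int.negSucc 0],
  [Int.ofNat 1, Int.negSucc 0, Int.ofNat 1, Int.ofNat 1, Int.ofNat 1, Int.negSucc 0, Int.ofNat 1, Int.negSucc 0, Int.negSucc 0, Int.ofNat 1, Int.ofNat 1, Int.ofNat 1, Int.ofNat 1, Int.negSucc 0, Int.negSucc 0, Int.negSucc 0, Int.ofNat 1, Int.negSucc 2, Int.negSucc 0, Int.negSucc 0, Int.negSucc 0, Int.ofNat 1, Int.negSucc 0, Int.negSucc 0],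
  [Int.negSucc 0, Int.ofNat 1, Int.negSucc 0, Int.ofNat 3, Int.ofNat 1, Int.ofNat 1, Int.ofNat 1, Int.negSucc 0, Int.negSucc 0, Int.ofNat 1, Int.ofNat 1, Int.ofNat 1, Int.ofNat 1, Int.negSucc 0, Int.ofNat 1, Int.negSucc 0, Int.ofNat 1, Int.negSucc 0, Int.negSucc 0, Int.negSucc 0, Int.negSucc 0, Int.ofNat 1, Int.negSucc 0, Int.ofNat 1],
  [Int.negSucc 0, Int.negSucc 0, Int.ofNat 1, Int.ofNat 3, Int.negSucc 0, Int.ofNat 1, Int.ofNat 1, Int.ofNat 1, Int.ofNat 1, Int.ofNat 1, Int.negSucc 0, Int.negSucc 0, Int.negSucc 0, Int.ofNat 1, Int.negSucc 0, Int.negSucc 0, Int.negSucc 0, Int.ofNat 1, Int.ofNat 1, Int.negSucc 0, Int.ofNat 1, Int.negSucc 0, Int.ofNat 1, Int.ofNat 1],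
  [Int.ofNat 1, Int.ofNat 1, Int.negSucc 0, Int.ofNat 1, Int.negSucc 0, Int.negSucc 0, Int.ofNat 1, Int.ofNat 1, Int.ofNat 1, Int.ofNat 1, Int.negSucc 0, Int.negSucc 0, Int.negSucc 0, Int.ofNat 1, Int.negSucc 2, Int.negSucc 0, Int.negSucc 0, Int.negSucc 0, Int.ofNat 1, Int.negSucc 0, Int.ofNat 1, Int.negSucc 0, Int.ofNat 1, Int.negSucc 0],
  [Int.ofNat 1, Int.negSucc 0, Int.ofNat 1, Int.ofNat 1, Int.ofNat 1, Int.negSucc 0, Int.ofNat 1, Int.negSucc 0, Int.negSucc 0, Int.ofNat 1, Int.ofNat 1, Int.ofNat 1, Int.ofNat 1, Int.negSucc 0, Int.negSucc 0, Int.negSucc 0, Int.ofNat 1, Int.negSucc 2, Int.negSucc 0, Int.negSucc 0, Int.negSucc 0, Int.ofNat 1, Int.negSucc 0, Int.negSucc 0],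
  [Int.negSucc 0, Int.ofNat 1, Int.negSucc 0, Int.ofNat 3, Int.ofNat 1, Int.ofNat 1, Int.ofNat 1, Int.negSucc 0, Int.negSucc 0, Int.ofNat 1, Int.ofNat 1, Int.ofNat 1, Int.ofNat 1, Int.negSucc 0, Int.ofNat 1, Int.negSucc 0, Int.ofNat 1, Int.negSucc 0, Int.negSucc 0, Int.negSucc 0, Int.negSucc 0, Int.ofNat 1, Int.negSucc 0, Int.ofNat 1],
  [Int.ofNat 1, Int.negSucc 0, Int.ofNat 3, Int.ofNat 1, Int.ofNat 1, Int.ofNat 1, Int.negSucc 0, Int.negSucc 0, Int.ofNat 1, Int.ofNat 1, Int.ofNat 1, Int.ofNat 1, Int.negSucc 0, Int.ofNat 1, Int.negSucc 0, Int.ofNat 1, Int.negSucc 0, Int.negSucc 0, Int.negSucc 0, Int.negSucc 0, Int.ofNat 1, Int.negSucc 0, Int.negSucc 0, Int.ofNat 1],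
  [Int.negSucc 0, Int.negSucc 0, Int.negSucc 2, Int.ofNat 1, Int.ofNat 1, Int.ofNat 1, Int.negSucc 0, Int.ofNat 1, Int.ofNat 1, Int.negSucc 0, Int.negSucc 0, Int.negSucc 0, Int.negSucc 0, Int.ofNat 1, Int.negSucc 0, Int.ofNat 1, Int.negSucc 0, Int.negSucc 0, Int.ofNat 1, Int.negSucc 0, Int.ofNat 1, Int.ofNat 1, Int.negSucc 0, Int.ofNat 1],
  [Int.ofNat 1, Int.ofNat 1, Int.ofNat 3, Int.negSucc 0, Int.negSucc 0, Int.ofNat 1, Int.ofNat 1, Int.ofNat 1, Int.negSucc 0, Int.ofNat 1, Int.negSucc 0, Int.negSucc 0, Int.ofNat 1, Int.negSucc 0, Int.negSucc 0, Int.ofNat 1, Int.ofNat 1, Int.negSucc 0, Int.negSucc 0, Int.negSucc 0, Int.ofNat 1, Int.ofNat 1, Int.negSucc 0, Int.ofNat 1],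
  [Int.ofNat 1, Int.ofNat 3, Int.negSucc 0, Int.negSucc 0, Int.ofNat 1, Int.negSucc 0, Int.negSucc 0, Int.ofNat 1, Int.ofNat 1, Int.ofNat 1, Int.ofNat 1, Int.negSucc 0, Int.negSucc 0, Int.negSucc 0, Int.negSucc 0, Int.ofNat 1, Int.ofNat 1, Int.negSucc 0, Int.ofNat 1, Int.negSucc 0, Int.ofNat 1, Int.ofNat 1, Int.negSucc 0, Int.ofNat 1],
  [Int.negSucc 0, Int.ofNat 3, Int.ofNat 1, Int.negSucc 0, Int.ofNat 1, Int.negSucc 0, Int.negSucc 0, Int.negSucc 0, Int.ofNat 1, Int.negSucc 0, Int.negSucc 0, Int.ofNat 1, Int.negSucc 0, Int.negSucc 0, Int.negSucc 0, Int.ofNat 1, Int.ofNat 1, Int.negSucc 0, Int.negSucc 0, Int.negSucc 0, Int.ofNat 1, Int.negSucc 0, Int.negSucc 0, Int.ofNat 1],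
  [Int.negSucc 0, Int.negSucc 0, Int.ofNat 3, Int.ofNat 1, Int.negSucc 0, Int.ofNat 1, Int.negSucc 0, Int.negSucc 0, Int.negSucc 0, Int.ofNat 1, Int.negSucc 0, Int.negSucc 0, Int.ofNat 1, Int.negSucc 0, Int.negSucc 0, Int.negSucc 0, Int.ofNat 1, Int.ofNat 1, Int.negSucc 0, Int.negSucc 0, Int.negSucc 0, Int.ofNat 1, Int.negSucc 0, Int.ofNat 1],
  [Int.ofNat 2, Int.ofNat 2, Int.negSucc 1, Int.ofNat 0, Int.ofNat 0, Int.ofNat 0, Int.ofNat 0, Int.ofNat 0, Int.ofNat 0, Int.ofNat 2, Int.ofNat 0, Int.ofNat 0, Int.ofNat 2, Int.ofNat 0, Int.negSucc 1, Int.ofNat 0, Int.ofNat 2, Int.ofNat 0, Int.ofNat 0, Int.ofNat 0, Int.ofNat 0, Int.ofNat 2, Int.ofNat 0, Int.ofNat 0],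
  [Int.ofNat 0, Int.ofNat 0, Int.ofNat 0, Int.ofNat 0, Int.ofNat 0, Int.ofNat 0, Int.ofNat 2, Int.ofNat 0, Int.ofNat 0, Int.ofNat 2, Int.ofNat 0, Int.negSucc 1, Int.ofNat 0, Int.ofNat 2, Int.ofNat 0, Int.ofNat 0, Int.ofNat 0, Int.ofNat 0, Int.ofNat 2, Int.ofNat 0, Int.ofNat 2, Int.ofNat 2, Int.negSucc 1, Int.ofNat 0],
  [Int.ofNat 0, Int.ofNat 0, Int.ofNat 0, Int.ofNat 0, Int.ofNat 0, Int.ofNat 0, Int.ofNat 0, Int.negSucc 1, Int.ofNat 0, Int.ofNat 0, Int.negSucc 1, Int.negSucc 1, Int.ofNat 0, Int.ofNat 2, Int.ofNat 0, Int.negSucc 1, Int.ofNat 0, Int.ofNat 0, Int.ofNat 2, Int.negSucc 1, Int.ofNat 0, Int.ofNat 0, Int.negSucc 1, Int.ofNat 0],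
  [Int.ofNat 0, Int.ofNat 0, Int.ofNat 0, Int.ofNat 0, Int.ofNat 2, Int.negSucc 1, Int.ofNat 0, Int.negSucc 1, Int.ofNat 0, Int.ofNat 2, Int.ofNat 0, Int.ofNat 0, Int.ofNat 0, Int.ofNat 0, Int.negSucc 1, Int.negSucc 1, Int.ofNat 0, Int.ofNat 0, Int.ofNat 0, Int.negSucc 1, Int.ofNat 0, Int.ofNat 0, Int.negSucc 1, Int.ofNat 0],
  [Int.ofNat 0, Int.ofNat 0, Int.ofNat 0, Int.ofNat 2, Int.ofNat 2, Int.ofNat 0, Int.ofNat 2, Int.ofNat 0, Int.ofNat 0, Int.ofNat 2, Int.ofNat 0, Int.ofNat 0, Int.ofNat 0, Int.ofNat 0, Int.ofNat 0, Int.negSucc 1, Int.ofNat 0, Int.ofNat 2, Int.ofNat 0, Int.ofNat 0, Int.ofNat 0, Int.ofNat 2, Int.negSucc 1, Int.ofNat 0],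
  [Int.ofNat 0, Int.ofNat 0, Int.ofNat 0, Int.ofNat 2, Int.ofNat 2, Int.ofNat 0, Int.negSucc 1, Int.ofNat 0, Int.ofNat 0, Int.negSucc 1, Int.ofNat 0, Int.ofNat 0, Int.ofNat 0, Int.ofNat 0, Int.ofNat 0, Int.ofNat 2, Int.ofNat 0, Int.ofNat 2, Int.ofNat 0, Int.ofNat 0, Int.ofNat 0, Int.ofNat 2, Int.ofNat 2, Int.ofNat 0],
  [Int.ofNat 0, Int.ofNat 0, Int.ofNat 0, Int.ofNat 0, Int.ofNat 0, Int.negSucc 1, Int.ofNat 2, Int.ofNat 2, Int.ofNat 0, Int.ofNat 0, Int.ofNat 0, Int.ofNat 0, Int.ofNat 2, Int.ofNat 2, Int.ofNat 2, Int.ofNat 0, Int.ofNat 0, Int.ofNat 0, Int.negSucc 1, Int.ofNat 0, Int.ofNat 0, Int.ofNat 0, Int.ofNat 2, Int.ofNat 0],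
  [Int.ofNat 0, Int.ofNat 2, Int.ofNat 0, Int.ofNat 0, Int.ofNat 0, Int.ofNat 0, Int.ofNat 0, Int.ofNat 2, Int.ofNat 0, Int.negSucc 1, Int.ofNat 0, Int.ofNat 0, Int.ofNat 0, Int.ofNat 2, Int.negSucc 1, Int.ofNat 0, Int.ofNat 0, Int.ofNat 0, Int.ofNat 2, Int.ofNat 2, Int.ofNat 0, Int.ofNat 2, Int.ofNat 0, Int.ofNat 0],
  [Int.ofNat 0, Int.ofNat 2, Int.ofNat 0, Int.ofNat 0, Int.ofNat 0, Int.ofNat 0, Int.ofNat 0, Int.negSucc 1, Int.ofNat 0, Int.ofNat 2, Int.ofNat 0, Int.ofNat 0, Int.ofNat 0, Int.ofNat 2, Int.negSucc 1, Int.ofNat 0, Int.ofNat 0, Int.ofNat 0, Int.negSucc 1, Int.ofNat 2, Int.ofNat 0, Int.negSucc 1, Int.ofNat 0, Int.ofNat 0],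
  [Int.ofNat 0, Int.ofNat 0, Int.ofNat 2, Int.ofNat 0, Int.ofNat 0, Int.ofNat 0, Int.ofNat 0, Int.ofNat 0, Int.negSucc 1, Int.ofNat 0, Int.ofNat 2, Int.ofNat 0, Int.ofNat 0, Int.ofNat 0, Int.ofNat 2, Int.negSucc 1, Int.ofNat 0, Int.ofNat 0, Int.ofNat 0, Int.negSucc 1, Int.ofNat 2, Int.ofNat 0, Int.negSucc 1, Int.ofNat 0],
  [Int.ofNat 1, Int.ofNat 1, Int.negSucc 0, Int.negSucc 0, Int.ofNat 1, Int.negSucc 0, Int.ofNat 1, Int.ofNat 1, Int.negSucc 0, Int.negSucc 0, Int.ofNat 1, Int.ofNat 1, Int.ofNat 1, Int.ofNat 1, Int.ofNat 1, Int.negSucc 2, Int.ofNat 1, Int.negSucc 0, Int.ofNat 1, Int.negSucc 0, Int.ofNat 1, Int.ofNat 1, Int.negSucc 0, Int.ofNat 1],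
  [Int.negSucc 0, Int.ofNat 1, Int.negSucc 0, Int.ofNat 1, Int.ofNat 1, Int.negSucc 0, Int.negSucc 0, Int.ofNat 1, Int.ofNat 1, Int.ofNat 1, Int.ofNat 1, Int.ofNat 1, Int.negSucc 2, Int.ofNat 1, Int.negSucc 0, Int.ofNat 1, Int.negSucc 0, Int.ofNat 1, Int.ofNat 1, Int.negSucc 0, Int.ofNat 1, Int.ofNat 1, Int.negSucc 0, Int.ofNat 1],
  [Int.ofNat 1, Int.negSucc 0, Int.ofNat 1, Int.ofNat 1, Int.ofNat 1, Int.negSucc 0, Int.negSucc 0, Int.ofNat 1, Int.ofNat 1, Int.negSucc 0, Int.negSucc 0, Int.ofNat 1, Int.negSucc 2, Int.ofNat 1, Int.negSucc 0, Int.negSucc 0, Int.negSucc 0, Int.ofNat 1, Int.ofNat 1, Int.negSucc 0, Int.negSucc 0, Int.ofNat 1, Int.negSucc 0, Int.negSucc 0],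
  [Int.ofNat 1, Int.negSucc 0, Int.ofNat 1, Int.ofNat 1, Int.ofNat 1, Int.ofNat 1, Int.ofNat 1, Int.negSucc 0, Int.negSucc 2, Int.ofNat 1, Int.negSucc 0, Int.ofNat 1, Int.negSucc 0, Int.negSucc 0, Int.negSucc 0, Int.negSucc 0, Int.ofNat 1, Int.negSucc 0, Int.negSucc 0, Int.ofNat 1, Int.ofNat 1, Int.negSucc 0, Int.negSucc 0, Int.negSucc 0],
  [Int.negSucc 0, Int.ofNat 1, Int.negSucc 0, Int.ofNat 1, Int.ofNat 1, Int.ofNat 1, Int.ofNat 1, Int.negSucc 0, Int.negSucc 0, Int.ofNat 1, Int.negSucc 0, Int.ofNat 3, Int.ofNat 1, Int.negSucc 0, Int.negSucc 0, Int.negSucc 0, Int.ofNat 1, Int.negSucc 0, Int.ofNat 1, Int.ofNat 1, Int.ofNat 1, Int.negSucc 0, Int.negSucc 0, Int.ofNat 1],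
  [Int.negSucc 0, Int.ofNat 1, Int.ofNat 1, Int.ofNat 1, Int.ofNat 1, Int.negSucc 0, Int.negSucc 0, Int.negSucc 0, Int.negSucc 0, Int.negSucc 0, Int.ofNat 1, Int.ofNat 3, Int.ofNat 1, Int.negSucc 0, Int.negSucc 0, Int.ofNat 1, Int.ofNat 1, Int.negSucc 0, Int.negSucc 0, Int.ofNat 1, Int.ofNat 1, Int.negSucc 0, Int.ofNat 1, Int.ofNat 1],
  [Int.ofNat 1, Int.ofNat 1, Int.ofNat 1, Int.ofNat 1, Int.negSucc 0, Int.negSucc 0, Int.ofNat 1, Int.ofNat 1, Int.negSucc 0, Int.negSucc 0, Int.ofNat 3, Int.negSucc 0, Int.ofNat 1, Int.ofNat 1, Int.negSucc 0, Int.negSucc 0, Int.negSucc 0, Int.ofNat 1, Int.ofNat 1, Int.negSucc 0, Int.negSucc 0, Int.negSucc 0, Int.ofNat 1, Int.ofNat 1],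
  [Int.ofNat 1, Int.ofNat 1, Int.negSucc 0, Int.ofNat 1, Int.negSucc 0, Int.ofNat 1, Int.negSucc 0, Int.ofNat 1, Int.negSucc 0, Int.ofNat 1, Int.negSucc 2, Int.negSucc 0, Int.ofNat 1, Int.ofNat 1, Int.negSucc 0, Int.ofNat 1, Int.negSucc 0, Int.ofNat 1, Int.negSucc 0, Int.negSucc 0, Int.negSucc 0, Int.negSucc 0, Int.negSucc 0, Int.ofNat 1],
  [Int.ofNat 0, Int.ofNat 0, Int.ofNat 2, Int.ofNat 0, Int.ofNat 0, Int.ofNat 0, Int.ofNat 0, Int.ofNat 2, Int.ofNat 0, Int.ofNat 2, Int.negSucc 1, Int.ofNat 0, Int.ofNat 2, Int.ofNat 2, Int.negSucc 1, Int.ofNat 2, Int.ofNat 0, Int.ofNat 0, Int.ofNat 0, Int.ofNat 0, Int.ofNat 0, Int.ofNat 0, Int.ofNat 0, Int.ofNat 0],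
  [Int.ofNat 0, Int.ofNat 0, Int.ofNat 0, Int.ofNat 0, Int.ofNat 2, Int.ofNat 0, Int.ofNat 0, Int.ofNat 0, Int.ofNat 0, Int.ofNat 2, Int.ofNat 2, Int.ofNat 0, Int.ofNat 0, Int.ofNat 2, Int.ofNat 0, Int.ofNat 2, Int.ofNat 2, Int.ofNat 0, Int.ofNat 0, Int.ofNat 0, Int.negSucc 1, Int.ofNat 0, Int.negSucc 1, Int.ofNat 0],
  [Int.ofNat 0, Int.ofNat 0, Int.ofNat 0, Int.ofNat 0, Int.ofNat 0, Int.ofNat 0, Int.ofNat 0, Int.ofNat 0, Int.ofNat 0, Int.ofNat 0, Int.ofNat 0, Int.ofNat 0, Int.ofNat 0, Int.ofNat 0, Int.ofNat 0, Int.ofNat 0, Int.ofNat 0, Int.ofNat 0, Int.ofNat 0, Int.ofNat 0, Int.negSucc 3, Int.ofNat 0, Int.negSucc 3, Int.ofNat 0],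
  [Int.negSucc 3, Int.ofNat 0, Int.negSucc 3, Int.ofNat 0, Int.ofNat 0, Int.ofNat 0, Int.ofNat 0, Int.ofNat 0, Int.ofNat 0, Int.ofNat 0, Int.ofNat 0, Int.ofNat 0, Int.ofNat 0, Int.ofNat 0, Int.ofNat 0, Int.ofNat 0, Int.ofNat 0, Int.ofNat 0, Int.ofNat 0, Int.ofNat 0, Int.ofNat 0, Int.ofNat 0, Int.ofNat 0, Int.ofNat 0],
  [Int.ofNat 0, Int.negSucc 3, Int.ofNat 0, Int.ofNat 0, Int.ofNat 0, Int.ofNat 0, Int.ofNat 0, Int.ofNat 0, Int.ofNat 0, Int.ofNat 0, Int.ofNat 0, Int.ofNat 0, Int.ofNat 0, Int.ofNat 0, Int.ofNat 0, Int.ofNat 0, Int.ofNat 0, Int.ofNat 0, Int.ofNat 0, Int.ofNat 0, Int.ofNat 0, Int.ofNat 0, Int.ofNat 0, Int.negSucc 3],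
  [Int.negSucc 3, Int.ofNat 0, Int.ofNat 0, Int.ofNat 0, Int.ofNat 0, Int.ofNat 0, Int.ofNat 0, Int.ofNat 0, Int.ofNat 0, Int.ofNat 0, Int.ofNat 0, Int.ofNat 0, Int.ofNat 0, Int.ofNat 0, Int.ofNat 0, Int.ofNat 0, Int.ofNat 0, Int.ofNat 0, Int.ofNat 0, Int.ofNat 0, Int.ofNat 0, Int.ofNat 0, Int.ofNat 0, Int.negSucc 3],
  [Int.ofNat 4, Int.ofNat 0, Int.ofNat 0, Int.ofNat 0, Int.ofNat 0, Int.ofNat 0, Int.ofNat 0, Int.ofNat 0, Int.ofNat 0, Int.ofNat 0, Int.ofNat 0, Int.ofNat 0, Int.ofNat 0, Int.ofNat 0, Int.ofNat 0, Int.ofNat 0, Int.ofNat 0, Int.ofNat 0, Int.ofNat 0, Int.ofNat 0, Int.ofNat 0, Int.ofNat 0, Int.ofNat 0, Int.negSucc 3],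
  [Int.negSucc 3, Int.ofNat 0, Int.ofNat 0, Int.ofNat 0, Int.ofNat 0, Int.ofNat 0, Int.ofNat 0, Int.ofNat 0, Int.ofNat 0, Int.ofNat 0, Int.ofNat 0, Int.ofNat 0, Int.ofNat 0, Int.ofNat 0, Int.ofNat 0, Int.ofNat 0, Int.ofNat 0, Int.ofNat 0, Int.ofNat 0, Int.ofNat 0, Int.ofNat 0, Int.ofNat 0, Int.ofNat 0, Int.negSucc 3],
  [Int.negSucc 3, Int.ofNat 0, Int.ofNat 0, Int.ofNat 0, Int.ofNat 0, Int.ofNat 0, Int.ofNat 0, Int.ofNat 0, Int.ofNat 0, Int.ofNat 0, Int.ofNat 0, Int.ofNat 0, Int.ofNat 0, Int.ofNat 0, Int.ofNat 0, Int.ofNat 0, Int.ofNat 0, Int.ofNat 0, Int.ofNat 0, Int.ofNat 0, Int.ofNat 0, Int.ofNat 0, Int.ofNat 0, Int.negSucc 3],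
  [Int.ofNat 4, Int.ofNat 0, Int.ofNat 0, Int.ofNat 0, Int.ofNat 0, Int.ofNat 0, Int.ofNat 0, Int.ofNat 0, Int.ofNat 0, Int.ofNat 0, Int.ofNat 0, Int.ofNat 0, Int.ofNat 0, Int.ofNat 0, Int.ofNat 0, Int.ofNat 0, Int.ofNat 0, Int.ofNat 0, Int.ofNat 0, Int.ofNat 0, Int.ofNat 0, Int.ofNat 0, Int.ofNat 0, Int.negSucc 3],
  [Int.ofNat 0, Int.ofNat 4, Int.ofNat 0, Int.ofNat 0, Int.ofNat 0, Int.ofNat 0, Int.ofNat 0, Int.ofNat 0, Int.ofNat 0, Int.ofNat 0, Int.ofNat 0, Int.ofNat 0, Int.ofNat 0, Int.ofNat 0, Int.ofNat 0, Int.ofNat 0, Int.ofNat 0, Int.ofNat 0, Int.ofNat 0, Int.ofNat 0, Int.ofNat 0, Int.ofNat 0, Int.ofNat 0, Int.negSucc 3],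
  [Int.ofNat 0, Int.negSucc 3, Int.ofNat 0, Int.ofNat 0, Int.ofNat 0, Int.ofNat 0, Int.ofNat 0, Int.ofNat 0, Int.ofNat 0, Int.ofNat 0, Int.ofNat 0, Int.ofNat 0, Int.ofNat 0, Int.ofNat 0, Int.ofNat 0, Int.ofNat 0, Int.ofNat 0, Int.ofNat 0, Int.ofNat 0, Int.ofNat 0, Int.ofNat 0, Int.ofNat 0, Int.ofNat 0, Int.ofNat 4],
  [Int.ofNat 0, Int.ofNat 0, Int.ofNat 0, Int.ofNat 0, Int.ofNat 0, Int.ofNat 0, Int.ofNat 0, Int.ofNat 0, Int.ofNat 0, Int.ofNat 0, Int.ofNat 0, Int.ofNat 0, Int.ofNat 0, Int.ofNat 0, Int.ofNat 0, Int.ofNat 0, Int.ofNat 0, Int.ofNat 0, Int.ofNat 0, Int.ofNat 0, Int.ofNat 0, Int.negSucc 3, Int.ofNat 0, Int.ofNat 4],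
  [Int.ofNat 2, Int.ofNat 2, Int.ofNat 2, Int.ofNat 0, Int.ofNat 0, Int.ofNat 0, Int.ofNat 2, Int.ofNat 2, Int.ofNat 0, Int.ofNat 0, Int.ofNat 0, Int.ofNat 0, Int.ofNat 0, Int.ofNat 0, Int.ofNat 0, Int.ofNat 0, Int.ofNat 0, Int.ofNat 0, Int.ofNat 0, Int.ofNat 2, Int.ofNat 0, Int.negSucc 1, Int.ofNat 0, Int.negSucc 1],
  [Int.ofNat 2, Int.ofNat 2, Int.ofNat 0, Int.ofNat 0, Int.ofNat 0, Int.ofNat 2, Int.ofNat 2, Int.ofNat 0, Int.ofNat 0, Int.ofNat 0, Int.ofNat 0, Int.ofNat 0, Int.ofNat 0, Int.ofNat 0, Int.ofNat 0, Int.ofNat 0, Int.ofNat 0, Int.ofNat 0, Int.ofNat 2, Int.ofNat 0, Int.negSucc 1, Int.ofNat 0, Int.ofNat 2, Int.negSucc 1],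
  [Int.negSucc 0, Int.negSucc 0, Int.ofNat 1, Int.negSucc 0, Int.negSucc 0, Int.ofNat 1, Int.ofNat 1, Int.negSucc 0, Int.negSucc 0, Int.ofNat 1, Int.ofNat 1, Int.negSucc 0, Int.negSucc 0, Int.negSucc 0, Int.negSucc 0, Int.ofNat 1, Int.negSucc 0, Int.negSucc 0, Int.ofNat 1, Int.negSucc 0, Int.negSucc 0, Int.negSucc 0, Int.ofNat 1, Int.ofNat 3],
  [Int.negSucc 0, Int.negSucc 0, Int.negSucc 0, Int.negSucc 0, Int.negSucc 0, Int.negSucc 0, Int.negSucc 0, Int.negSucc 0, Int.negSucc 0, Int.negSucc 0, Int.negSucc 0, Int.negSucc 0, Int.negSucc 0, Int.negSucc 0, Int.negSucc 0, Int.negSucc 0, Int.negSucc 0, Int.negSucc 0, Int.negSucc 0, Int.negSucc 0, Int.negSucc 0, Int.negSucc 0, Int.negSucc 0, Int.ofNat 3],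
  [Int.negSucc 0, Int.negSucc 0, Int.negSucc 0, Int.negSucc 0, Int.negSucc 0, Int.negSucc 0, Int.negSucc 0, Int.negSucc 0, Int.negSucc 0, Int.negSucc 0, Int.negSucc 0, Int.negSucc 0, Int.negSucc 0, Int.negSucc 0, Int.negSucc 0, Int.negSucc 0, Int.negSucc 0, Int.negSucc 0, Int.negSucc 0, Int.negSucc 0, Int.negSucc 0, Int.negSucc 0, Int.negSucc 0, Int.ofNat 3],
  [Int.ofNat 3, Int.negSucc 0, Int.negSucc 0, Int.negSucc 0, Int.negSucc 0, Int.negSucc 0, Int.negSucc 0, Int.negSucc 0, Int.negSucc 0, Int.negSucc 0, Int.negSucc 0, Int.negSucc 0, Int.negSucc 0, Int.negSucc 0, Int.negSucc 0, Int.negSucc 0, Int.negSucc 0, Int.negSucc 0, Int.negSucc 0, Int.negSucc 0, Int.negSucc 0, Int.negSucc 0, Int.negSucc 0, Int.negSucc 0],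
  [Int.negSucc 2, Int.negSucc 0, Int.ofNat 1, Int.negSucc 0, Int.negSucc 0, Int.negSucc 0, Int.negSucc 0, Int.ofNat 1, Int.negSucc 0, Int.ofNat 1, Int.ofNat 1, Int.ofNat 1, Int.negSucc 0, Int.negSucc 0, Int.negSucc 0, Int.negSucc 0, Int.negSucc 0, Int.negSucc 0, Int.ofNat 1, Int.negSucc 0, Int.negSucc 0, Int.ofNat 1, Int.negSucc 0, Int.negSucc 0],
  [Int.negSucc 0, Int.negSucc 2, Int.negSucc 0, Int.ofNat 1, Int.negSucc 0, Int.negSucc 0, Int.negSucc 0, Int.negSucc 0, Int.ofNat 1, Int.negSucc 0, Int.ofNat 1, Int.ofNat 1, Int.ofNat 1, Int.negSucc 0, Int.negSucc 0, Int.negSucc 0, Int.negSucc 0, Int.negSucc 0, Int.negSucc 0, Int.ofNat 1, Int.negSucc 0, Int.negSucc 0, Int.ofNat 1, Int.negSucc 0],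
  [Int.negSucc 1, Int.ofNat 0, Int.negSucc 1, Int.ofNat 2, Int.ofNat 0, Int.ofNat 0, Int.ofNat 0, Int.ofNat 0, Int.ofNat 0, Int.ofNat 0, Int.ofNat 2, Int.ofNat 0, Int.ofNat 0, Int.ofNat 0, Int.ofNat 0, Int.ofNat 0, Int.ofNat 0, Int.ofNat 0, Int.negSucc 1, Int.ofNat 2, Int.ofNat 0, Int.ofNat 0, Int.ofNat 2, Int.negSucc 1],
  [Int.ofNat 2, Int.ofNat 0, Int.ofNat 0, Int.ofNat 0, Int.ofNat 0, Int.ofNat 0, Int.ofNat 0, Int.ofNat 2, Int.ofNat 0, Int.ofNat 0, Int.ofNat 0, Int.ofNat 0, Int.ofNat 0, Int.ofNat 0, Int.ofNat 0, Int.negSucc 1, Int.ofNat 2, Int.ofNat 0, Int.ofNat 0, Int.ofNat 2, Int.negSucc 1, Int.ofNat 0, Int.negSucc 1, Int.negSucc 1],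
  [Int.negSucc 1, Int.ofNat 0, Int.ofNat 0, Int.ofNat 0, Int.ofNat 0, Int.ofNat 0, Int.negSucc 1, Int.ofNat 0, Int.ofNat 0, Int.ofNat 2, Int.ofNat 2, Int.ofNat 0, Int.ofNat 0, Int.ofNat 0, Int.ofNat 0, Int.ofNat 0, Int.ofNat 2, Int.ofNat 0, Int.ofNat 0, Int.ofNat 0, Int.ofNat 0, Int.negSucc 1, Int.negSucc 1, Int.ofNat 2],
  [Int.negSucc 1, Int.negSucc 1, Int.ofNat 0, Int.ofNat 0, Int.ofNat 0, Int.ofNat 0, Int.ofNat 0, Int.ofNat 2, Int.ofNat 0, Int.ofNat 0, Int.ofNat 0, Int.ofNat 0, Int.ofNat 2, Int.ofNat 2, Int.negSucc 1, Int.ofNat 0, Int.ofNat 0, Int.ofNat 0, Int.ofNat 0, Int.ofNat 0, Int.negSucc 1, Int.ofNat 0, Int.ofNat 0, Int.ofNat 2],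
  [Int.ofNat 1, Int.ofNat 1, Int.negSucc 0, Int.ofNat 1, Int.negSucc 0, Int.ofNat 1, Int.negSucc 0, Int.ofNat 1, Int.negSucc 0, Int.ofNat 1, Int.ofNat 1, Int.negSucc 0, Int.ofNat 1, Int.ofNat 1, Int.negSucc 0, Int.ofNat 1, Int.negSucc 0, Int.ofNat 1, Int.negSucc 0, Int.negSucc 0, Int.negSucc 0, Int.negSucc 0, Int.negSucc 0, Int.negSucc 2],
  [Int.ofNat 1, Int.ofNat 1, Int.ofNat 1, Int.ofNat 1, Int.negSucc 0, Int.negSucc 0, Int.ofNat 1, Int.ofNat 1, Int.negSucc 0, Int.negSucc 0, Int.negSucc 0, Int.negSucc 0, Int.ofNat 1, Int.ofNat 1, Int.negSucc 0, Int.negSucc 0, Int.negSucc 0, Int.ofNat 1, Int.ofNat 1, Int.negSucc 0, Int.negSucc 0, Int.negSucc 0, Int.ofNat 1, Int.negSucc 2],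
  [Int.ofNat 1, Int.negSucc 0, Int.ofNat 1, Int.negSucc 0, Int.ofNat 1, Int.ofNat 1, Int.ofNat 1, Int.negSucc 0, Int.ofNat 1, Int.ofNat 1, Int.negSucc 0, Int.negSucc 0, Int.ofNat 1, Int.negSucc 0, Int.negSucc 0, Int.ofNat 1, Int.negSucc 0, Int.negSucc 0, Int.ofNat 1, Int.negSucc 0, Int.ofNat 1, Int.negSucc 0, Int.negSucc 0, Int.negSucc 2],
  [Int.ofNat 1, Int.negSucc 0, Int.negSucc 0, Int.negSucc 0, Int.ofNat 1, Int.negSucc 0, Int.negSucc 0, Int.negSucc 0, Int.ofNat 1, Int.negSucc 0, Int.ofNat 1, Int.negSucc 0, Int.ofNat 1, Int.negSucc 0, Int.negSucc 0, Int.negSucc 0, Int.negSucc 0, Int.negSucc 0, Int.negSucc 0, Int.negSucc 0, Int.ofNat 1, Int.negSucc 0, Int.ofNat 1, Int.negSucc 2],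
  [Int.negSucc 2, Int.negSucc 0, Int.negSucc 0, Int.ofNat 1, Int.ofNat 1, Int.ofNat 1, Int.ofNat 1, Int.ofNat 1, Int.ofNat 1, Int.negSucc 0, Int.ofNat 1, Int.negSucc 0, Int.ofNat 1, Int.negSucc 0, Int.ofNat 1, Int.negSucc 0, Int.negSucc 0, Int.ofNat 1, Int.negSucc 0, Int.ofNat 1, Int.ofNat 1, Int.ofNat 1, Int.ofNat 1, Int.ofNat 1],
  [Int.negSucc 2, Int.negSucc 0, Int.ofNat 1, Int.ofNat 1, Int.negSucc 0, Int.ofNat 1, Int.negSucc 0, Int.ofNat 1, Int.negSucc 0, Int.ofNat 1, Int.ofNat 1, Int.ofNat 1, Int.ofNat 1, Int.negSucc 0, Int.ofNat 1, Int.negSucc 0, Int.negSucc 0, Int.negSucc 0, Int.ofNat 1, Int.ofNat 1, Int.ofNat 1, Int.ofNat 1, Int.ofNat 1, Int.ofNat 1],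
  [Int.ofNat 2, Int.ofNat 0, Int.negSucc 1, Int.ofNat 0, Int.ofNat 0, Int.ofNat 0, Int.negSucc 1, Int.ofNat 0, Int.negSucc 1, Int.ofNat 0, Int.ofNat 0, Int.ofNat 0, Int.ofNat 0, Int.ofNat 0, Int.ofNat 0, Int.negSucc 1, Int.ofNat 0, Int.negSucc 1, Int.ofNat 0, Int.ofNat 0, Int.ofNat 0, Int.ofNat 0, Int.ofNat 2, Int.negSucc 1],
  [Int.ofNat 0, Int.ofNat 0, Int.ofNat 2, Int.ofNat 2, Int.ofNat 0, Int.negSucc 1, Int.ofNat 0, Int.ofNat 0, Int.ofNat 0, Int.negSucc 1, Int.ofNat 0, Int.negSucc 1, Int.ofNat 0, Int.ofNat 0, Int.ofNat 0, Int.ofNat 0, Int.ofNat 0, Int.ofNat 0, Int.negSucc 1, Int.ofNat 0, Int.negSucc 1, Int.ofNat 0, Int.ofNat 0, Int.negSucc 1],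
  [Int.ofNat 0, Int.ofNat 0, Int.negSucc 1, Int.ofNat 2, Int.ofNat 0, Int.negSucc 1, Int.ofNat 0, Int.ofNat 0, Int.ofNat 2, Int.ofNat 0, Int.ofNat 2, Int.ofNat 0, Int.ofNat 2, Int.ofNat 0, Int.ofNat 0, Int.ofNat 2, Int.ofNat 0, Int.ofNat 0, Int.ofNat 0, Int.ofNat 0, Int.ofNat 0, Int.ofNat 0, Int.ofNat 0, Int.ofNat 2],
  [Int.ofNat 0, Int.negSucc 1, Int.ofNat 2, Int.ofNat 0, Int.negSucc 1, Int.ofNat 0, Int.ofNat 0, Int.ofNat 2, Int.ofNat 0, Int.ofNat 2, Int.ofNat 0, Int.ofNat 2, Int.ofNat 0, Int.ofNat 0, Int.ofNat 2, Int.ofNat 0, Int.ofNat 0, Int.ofNat 0, Int.ofNat 0, Int.ofNat 0, Int.ofNat 0, Int.ofNat 0, Int.ofNat 0, Int.ofNat 2],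
  [Int.ofNat 0, Int.negSucc 1, Int.negSucc 1, Int.ofNat 0, Int.negSucc 1, Int.ofNat 0, Int.ofNat 0, Int.negSucc 1, Int.ofNat 0, Int.negSucc 1, Int.ofNat 0, Int.negSucc 1, Int.ofNat 0, Int.ofNat 0, Int.ofNat 2, Int.ofNat 0, Int.ofNat 0, Int.ofNat 0, Int.ofNat 0, Int.ofNat 0, Int.ofNat 0, Int.ofNat 0, Int.ofNat 0, Int.ofNat 2],
  [Int.ofNat 0, Int.ofNat 2, Int.ofNat 2, Int.ofNat 0, Int.ofNat 2, Int.ofNat 0, Int.ofNat 0, Int.negSucc 1, Int.ofNat 0, Int.ofNat 2, Int.ofNat 0, Int.negSucc 1, Int.ofNat 0, Int.ofNat 0, Int.ofNat 2, Int.ofNat 0, Int.ofNat 0, Int.ofNat 0, Int.ofNat 0, Int.ofNat 0, Int.ofNat 0, Int.ofNat 0, Int.ofNat 0, Int.ofNat 2],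
  [Int.ofNat 0, Int.ofNat 2, Int.ofNat 0, Int.ofNat 0, Int.ofNat 2, Int.ofNat 0, Int.ofNat 2, Int.ofNat 0, Int.ofNat 2, Int.ofNat 0, Int.ofNat 0, Int.ofNat 2, Int.ofNat 0, Int.ofNat 0, Int.ofNat 0, Int.ofNat 0, Int.ofNat 0, Int.ofNat 0, Int.ofNat 0, Int.ofNat 0, Int.ofNat 0, Int.negSucc 1, Int.negSucc 1, Int.ofNat 2],
  [Int.ofNat 0, Int.ofNat 2, Int.ofNat 0, Int.ofNat 0, Int.ofNat 2, Int.ofNat 0, Int.ofNat 2, Int.ofNat 0, Int.ofNat 2, Int.ofNat 0, Int.ofNat 0, Int.negSucc 1, Int.ofNat 0, Int.ofNat 0, Int.ofNat 0, Int.ofNat 0, Int.ofNat 0, Int.ofNat 0, Int.ofNat 0, Int.ofNat 0, Int.ofNat 0, Int.ofNat 2, Int.negSucc 1, Int.ofNat 2],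
  [Int.negSucc 1, Int.ofNat 0, Int.ofNat 2, Int.ofNat 0, Int.ofNat 0, Int.ofNat 2, Int.ofNat 0, Int.ofNat 2, Int.ofNat 0, Int.ofNat 2, Int.ofNat 0, Int.ofNat 0, Int.negSucc 1, Int.ofNat 0, Int.ofNat 0, Int.ofNat 0, Int.ofNat 0, Int.ofNat 0, Int.ofNat 0, Int.ofNat 0, Int.ofNat 0, Int.ofNat 0, Int.ofNat 2, Int.ofNat 2],
  [Int.ofNat 3, Int.ofNat 1, Int.negSucc 0, Int.negSucc 0, Int.negSucc 0, Int.ofNat 1, Int.negSucc 0, Int.ofNat 1, Int.ofNat 1, Int.ofNat 1, Int.negSucc 0, Int.ofNat 1, Int.negSucc 0, Int.negSucc 0, Int.negSucc 0, Int.negSucc 0, Int.negSucc 0, Int.negSucc 0, Int.ofNat 1, Int.negSucc 0, Int.negSucc 0, Int.negSucc 0, Int.ofNat 1, Int.negSucc 0],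
  [Int.negSucc 0, Int.negSucc 0, Int.ofNat 1, Int.negSucc 0, Int.ofNat 1, Int.ofNat 1, Int.ofNat 1, Int.negSucc 0, Int.ofNat 1, Int.negSucc 0, Int.negSucc 0, Int.negSucc 0, Int.negSucc 0, Int.negSucc 0, Int.negSucc 0, Int.ofNat 1, Int.negSucc 0, Int.negSucc 0, Int.negSucc 0, Int.ofNat 1, Int.ofNat 3, Int.ofNat 1, Int.negSucc 0, Int.negSucc 0],
  [Int.ofNat 0, Int.ofNat 0, Int.negSucc 1, Int.ofNat 0, Int.ofNat 2, Int.ofNat 2, Int.ofNat 0, Int.negSucc 1, Int.ofNat 2, Int.negSucc 1, Int.negSucc 1, Int.ofNat 0, Int.ofNat 0, Int.ofNat 0, Int.ofNat 0, Int.ofNat 0, Int.ofNat 0, Int.ofNat 0, Int.ofNat 0, Int.ofNat 0, Int.ofNat 2, Int.ofNat 0, Int.ofNat 0, Int.ofNat 0],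
  [Int.ofNat 0, Int.ofNat 0, Int.ofNat 2, Int.ofNat 0, Int.ofNat 0, Int.negSucc 1, Int.negSucc 1, Int.negSucc 1, Int.ofNat 0, Int.ofNat 0, Int.ofNat 2, Int.ofNat 0, Int.negSucc 1, Int.ofNat 0, Int.ofNat 0, Int.ofNat 0, Int.ofNat 2, Int.ofNat 0, Int.ofNat 0, Int.ofNat 0, Int.ofNat 0, Int.ofNat 2, Int.ofNat 0, Int.ofNat 0],
  [Int.ofNat 1, Int.ofNat 1, Int.negSucc 0, Int.ofNat 1, Int.negSucc 0, Int.negSucc 0, Int.negSucc 0, Int.negSucc 0, Int.ofNat 1, Int.negSucc 0, Int.ofNat 1, Int.ofNat 1, Int.negSucc 0, Int.negSucc 0, Int.ofNat 1, Int.negSucc 0, Int.ofNat 1, Int.ofNat 1, Int.ofNat 1, Int.ofNat 1, Int.negSucc 0, Int.ofNat 3, Int.negSucc 0, Int.ofNat 1],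
  [Int.ofNat 1, Int.ofNat 1, Int.ofNat 1, Int.ofNat 1, Int.negSucc 0, Int.ofNat 1, Int.ofNat 1, Int.negSucc 0, Int.ofNat 1, Int.ofNat 1, Int.negSucc 0, Int.ofNat 1, Int.negSucc 0, Int.negSucc 0, Int.ofNat 1, Int.ofNat 1, Int.ofNat 1, Int.ofNat 1, Int.negSucc 0, Int.ofNat 1, Int.negSucc 0, Int.ofNat 3, Int.ofNat 1, Int.ofNat 1],
  [Int.negSucc 0, Int.ofNat 1, Int.ofNat 1, Int.ofNat 1, Int.ofNat 1, Int.ofNat 1, Int.ofNat 3, Int.ofNat 1, Int.ofNat 1, Int.negSucc 0, Int.negSucc 0, Int.negSucc 0, Int.ofNat 1, Int.negSucc 0, Int.ofNat 1, Int.negSucc 0, Int.ofNat 1, Int.negSucc 0, Int.ofNat 1, Int.ofNat 1, Int.ofNat 1, Int.ofNat 1, Int.ofNat 1, Int.ofNat 1],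
  [Int.ofNat 1, Int.ofNat 1, Int.negSucc 0, Int.negSucc 0, Int.negSucc 0, Int.negSucc 0, Int.ofNat 1, Int.negSucc 0, Int.ofNat 1, Int.ofNat 1, Int.ofNat 1, Int.ofNat 1, Int.ofNat 1, Int.ofNat 1, Int.ofNat 1, Int.ofNat 1, Int.negSucc 0, Int.ofNat 1, Int.ofNat 1, Int.ofNat 3, Int.ofNat 1, Int.ofNat 1, Int.ofNat 1, Int.negSucc 0],
  [Int.negSucc 0, Int.ofNat 1, Int.ofNat 1, Int.negSucc 0, Int.negSucc 0, Int.negSucc 0, Int.ofNat 1, Int.ofNat 1, Int.ofNat 1, Int.negSucc 0, Int.negSucc 0, Int.negSucc 0, Int.ofNat 1, Int.ofNat 1, Int.ofNat 1, Int.ofNat 1, Int.negSucc 0, Int.ofNat 1, Int.negSucc 0, Int.ofNat 3, Int.ofNat 1, Int.negSucc 0, Int.ofNat 1, Int.negSucc 0],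
  [Int.ofNat 1, Int.negSucc 0, Int.ofNat 1, Int.ofNat 1, Int.negSucc 0, Int.negSucc 0, Int.negSucc 0, Int.ofNat 1, Int.ofNat 1, Int.ofNat 1, Int.negSucc 0, Int.negSucc 0, Int.negSucc 0, Int.ofNat 1, Int.ofNat 1, Int.ofNat 1, Int.ofNat 1, Int.negSucc 0, Int.ofNat 1, Int.negSucc 0, Int.ofNat 3, Int.ofNat 1, Int.negSucc 0, Int.negSucc 0],
  [Int.negSucc 0, Int.ofNat 1, Int.negSucc 0, Int.ofNat 1, Int.negSucc 0, Int.negSucc 0, Int.negSucc 0, Int.ofNat 1, Int.ofNat 1, Int.negSucc 0, Int.negSucc 2, Int.negSucc 0, Int.negSucc 0, Int.ofNat 1, Int.ofNat 1, Int.negSucc 0, Int.ofNat 1, Int.negSucc 0, Int.ofNat 1, Int.negSucc 0, Int.ofNat 1, Int.ofNat 1, Int.negSucc 0, Int.ofNat 1],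
  [Int.ofNat 1, Int.negSucc 0, Int.negSucc 0, Int.negSucc 0, Int.ofNat 1, Int.ofNat 1, Int.negSucc 0, Int.negSucc 2, Int.negSucc 0, Int.negSucc 0, Int.ofNat 1, Int.ofNat 1, Int.negSucc 0, Int.ofNat 1, Int.negSucc 0, Int.ofNat 1, Int.negSucc 0, Int.ofNat 1, Int.ofNat 1, Int.negSucc 0, Int.negSucc 0, Int.ofNat 1, Int.negSucc 0, Int.ofNat 1],
  [Int.negSucc 0, Int.ofNat 1, Int.ofNat 1, Int.negSucc 0, Int.ofNat 1, Int.ofNat 1, Int.ofNat 1, Int.negSucc 0, Int.negSucc 0, Int.negSucc 0, Int.ofNat 1, Int.ofNat 1, Int.negSucc 0, Int.ofNat 1, Int.negSucc 0, Int.ofNat 1, Int.negSucc 0, Int.ofNat 1, Int.ofNat 1, Int.ofNat 1, Int.negSucc 0, Int.ofNat 3, Int.negSucc 0, Int.negSucc 0],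
  [Int.negSucc 0, Int.ofNat 1, Int.ofNat 1, Int.negSucc 0, Int.ofNat 1, Int.negSucc 0, Int.ofNat 1, Int.ofNat 1, Int.negSucc 0, Int.ofNat 1, Int.negSucc 0, Int.ofNat 1, Int.negSucc 0, Int.negSucc 0, Int.negSucc 0, Int.ofNat 1, Int.negSucc 0, Int.negSucc 0, Int.ofNat 1, Int.ofNat 1, Int.ofNat 3, Int.ofNat 1, Int.ofNat 1, Int.negSucc 0],
  [Int.ofNat 1, Int.negSucc 0, Int.negSucc 0, Int.ofNat 1, Int.ofNat 1, Int.ofNat 1, Int.negSucc 0, Int.negSucc 0, Int.negSucc 0, Int.negSucc 0, Int.negSucc 2, Int.ofNat 1, Int.negSucc 0, Int.negSucc 0, Int.ofNat 1, Int.negSucc 0, Int.negSucc 0, Int.ofNat 1, Int.ofNat 1, Int.negSucc 0, Int.ofNat 1, Int.negSucc 0, Int.ofNat 1, Int.ofNat 1],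
  [Int.ofNat 1, Int.negSucc 0, Int.ofNat 1, Int.ofNat 1, Int.ofNat 1, Int.negSucc 0, Int.ofNat 1, Int.negSucc 0, Int.negSucc 0, Int.ofNat 1, Int.ofNat 3, Int.ofNat 1, Int.negSucc 0, Int.negSucc 0, Int.ofNat 1, Int.ofNat 1, Int.negSucc 0, Int.ofNat 1, Int.negSucc 0, Int.negSucc 0, Int.ofNat 1, Int.negSucc 0, Int.negSucc 0, Int.ofNat 1],
  [Int.negSucc 0, Int.ofNat 3, Int.negSucc 0, Int.ofNat 1, Int.negSucc 0, Int.negSucc 0, Int.ofNat 1, Int.ofNat 1, Int.ofNat 1, Int.ofNat 1, Int.ofNat 1, Int.ofNat 1, Int.ofNat 1, Int.ofNat 1, Int.negSucc 0, Int.ofNat 1, Int.negSucc 0, Int.negSucc 0, Int.negSucc 0, Int.ofNat 1, Int.negSucc 0, Int.negSucc 0, Int.negSucc 0, Int.ofNat 1],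
  [Int.negSucc 0, Int.ofNat 3, Int.ofNat 1, Int.ofNat 1, Int.negSucc 0, Int.ofNat 1, Int.negSucc 0, Int.ofNat 1, Int.ofNat 1, Int.negSucc 0, Int.negSucc 0, Int.ofNat 1, Int.ofNat 1, Int.ofNat 1, Int.negSucc 0, Int.negSucc 0, Int.negSucc 0, Int.negSucc 0, Int.ofNat 1, Int.ofNat 1, Int.negSucc 0, Int.negSucc 0, Int.ofNat 1, Int.ofNat 1],
  [Int.ofNat 3, Int.negSucc 0, Int.ofNat 1, Int.ofNat 1, Int.negSucc 0, Int.ofNat 1, Int.negSucc 0, Int.ofNat 1, Int.negSucc 0, Int.ofNat 1, Int.ofNat 1, Int.negSucc 0, Int.negSucc 0, Int.ofNat 1, Int.negSucc 0, Int.ofNat 1, Int.negSucc 0, Int.negSucc 0, Int.negSucc 0, Int.ofNat 1, Int.ofNat 1, Int.negSucc 0, Int.ofNat 1, Int.ofNat 1],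
  [Int.ofNat 3, Int.negSucc 0, Int.negSucc 0, Int.ofNat 1, Int.ofNat 1, Int.negSucc 0, Int.negSucc 0, Int.ofNat 1, Int.negSucc 0, Int.negSucc 0, Int.ofNat 1, Int.ofNat 1, Int.negSucc 0, Int.ofNat 1, Int.negSucc 0, Int.ofNat 1, Int.ofNat 1, Int.negSucc 0, Int.negSucc 0, Int.ofNat 1, Int.ofNat 1, Int.ofNat 1, Int.negSucc 0, Int.ofNat 1],
  [Int.negSucc 1, Int.ofNat 2, Int.ofNat 2, Int.ofNat 2, Int.ofNat 0, Int.ofNat 0, Int.negSucc 1, Int.ofNat 0, Int.ofNat 0, Int.negSucc 1, Int.ofNat 0, Int.ofNat 2, Int.ofNat 0, Int.ofNat 0, Int.ofNat 0, Int.ofNat 0, Int.ofNat 0, Int.ofNat 0, Int.ofNat 0, Int.ofNat 0, Int.ofNat 0, Int.ofNat 0, Int.negSucc 1, Int.ofNat 0],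
  [Int.ofNat 0, Int.ofNat 0, Int.negSucc 1, Int.negSucc 1, Int.ofNat 2, Int.ofNat 2, Int.ofNat 2, Int.ofNat 0, Int.ofNat 0, Int.negSucc 1, Int.ofNat 0, Int.ofNat 0, Int.negSucc 1, Int.ofNat 0, Int.ofNat 2, Int.ofNat 0, Int.ofNat 0, Int.ofNat 0, Int.ofNat 0, Int.ofNat 0, Int.ofNat 0, Int.ofNat 0, Int.ofNat 0, Int.ofNat 0],
  [Int.negSucc 0, Int.negSucc 0, Int.ofNat 1, Int.negSucc 2, Int.ofNat 1, Int.ofNat 1, Int.ofNat 1, Int.negSucc 0, Int.ofNat 1, Int.negSucc 0, Int.ofNat 1, Int.ofNat 1, Int.negSucc 0, Int.negSucc 0, Int.ofNat 1, Int.ofNat 1, Int.negSucc 0, Int.negSucc 0, Int.ofNat 1, Int.negSucc 0, Int.ofNat 1, Int.negSucc 0, Int.negSucc 0, Int.negSucc 0],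
  [Int.negSucc 0, Int.ofNat 1, Int.negSucc 2, Int.ofNat 1, Int.ofNat 1, Int.ofNat 1, Int.negSucc 0, Int.ofNat 1, Int.negSucc 0, Int.ofNat 1, Int.ofNat 1, Int.negSucc 0, Int.negSucc 0, Int.ofNat 1, Int.ofNat 1, Int.negSucc 0, Int.negSucc 0, Int.ofNat 1, Int.negSucc 0, Int.ofNat 1, Int.negSucc 0, Int.negSucc 0, Int.negSucc 0, Int.negSucc 0],
  [Int.ofNat 1, Int.ofNat 1, Int.ofNat 3, Int.ofNat 1, Int.ofNat 1, Int.ofNat 1, Int.negSucc 0, Int.negSucc 0, Int.negSucc 0, Int.negSucc 0, Int.negSucc 0, Int.ofNat 1, Int.negSucc 0, Int.ofNat 1, Int.ofNat 1, Int.negSucc 0, Int.negSucc 0, Int.ofNat 1, Int.ofNat 1, Int.ofNat 1, Int.negSucc 0, Int.ofNat 1, Int.negSucc 0, Int.negSucc 0],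
  [Int.negSucc 0, Int.negSucc 0, Int.negSucc 2, Int.negSucc 0, Int.negSucc 0, Int.ofNat 1, Int.ofNat 1, Int.negSucc 0, Int.ofNat 1, Int.ofNat 1, Int.negSucc 0, Int.ofNat 1, Int.ofNat 1, Int.negSucc 0, Int.ofNat 1, Int.negSucc 0, Int.ofNat 1, Int.ofNat 1, Int.negSucc 0, Int.ofNat 1, Int.negSucc 0, Int.ofNat 1, Int.negSucc 0, Int.negSucc 0],
  [Int.negSucc 0, Int.negSucc 2, Int.negSucc 0, Int.negSucc 0, Int.negSucc 0, Int.negSucc 0, Int.negSucc 0, Int.negSucc 0, Int.ofNat 1, Int.ofNat 1, Int.ofNat 1, Int.ofNat 1, Int.negSucc 0, Int.ofNat 1, Int.ofNat 1, Int.negSucc 0, Int.ofNat 1, Int.negSucc 0, Int.ofNat 1, Int.ofNat 1, Int.ofNat 1, Int.negSucc 0, Int.ofNat 1, Int.negSucc 0],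
  [Int.ofNat 1, Int.negSucc 2, Int.ofNat 1, Int.negSucc 0, Int.negSucc 0, Int.negSucc 0, Int.negSucc 0, Int.ofNat 1, Int.ofNat 1, Int.negSucc 0, Int.negSucc 0, Int.negSucc 0, Int.negSucc 0, Int.ofNat 1, Int.ofNat 1, Int.negSucc 0, Int.ofNat 1, Int.negSucc 0, Int.negSucc 0, Int.ofNat 1, Int.ofNat 1, Int.ofNat 1, Int.ofNat 1, Int.negSucc 0],
  [Int.ofNat 1, Int.ofNat 1, Int.negSucc 2, Int.ofNat 1, Int.negSucc 0, Int.negSucc 0, Int.negSucc 0, Int.negSucc 0, Int.ofNat 1, Int.ofNat 1, Int.negSucc 0, Int.negSucc 0, Int.negSucc 0, Int.negSucc 0, Int.ofNat 1, Int.ofNat 1, Int.negSucc 0, Int.ofNat 1, Int.negSucc 0, Int.negSucc 0, Int.ofNat 1, Int.ofNat 1, Int.ofNat 1, Int.negSucc 0],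
  [Int.negSucc 1, Int.negSucc 1, Int.ofNat 2, Int.ofNat 0, Int.ofNat 0, Int.negSucc 1, Int.ofNat 0, Int.ofNat 0, Int.ofNat 2, Int.ofNat 0, Int.negSucc 1, Int.ofNat 0, Int.ofNat 0, Int.ofNat 0, Int.ofNat 0, Int.ofNat 0, Int.ofNat 0, Int.ofNat 0, Int.ofNat 0, Int.ofNat 0, Int.ofNat 0, Int.ofNat 2, Int.ofNat 2, Int.ofNat 0],
  [Int.ofNat 0, Int.ofNat 0, Int.negSucc 1, Int.ofNat 0, Int.ofNat 0, Int.ofNat 2, Int.ofNat 0, Int.negSucc 1, Int.ofNat 0, Int.ofNat 0, Int.ofNat 0, Int.ofNat 0, Int.ofNat 0, Int.ofNat 0, Int.ofNat 0, Int.ofNat 0, Int.ofNat 0, Int.ofNat 0, Int.ofNat 2, Int.ofNat 2, Int.negSucc 1, Int.negSucc 1, Int.ofNat 2, Int.ofNat 0],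
  [Int.negSucc 0, Int.negSucc 0, Int.ofNat 1, Int.negSucc 0, Int.negSucc 0, Int.ofNat 1, Int.ofNat 1, Int.negSucc 0, Int.negSucc 0, Int.ofNat 1, Int.ofNat 1, Int.negSucc 0, Int.negSucc 0, Int.negSucc 0, Int.negSucc 0, Int.ofNat 1, Int.negSucc 0, Int.negSucc 0, Int.ofNat 1, Int.ofNat 3, Int.negSucc 0, Int.negSucc 0, Int.ofNat 1, Int.negSucc 0],
  [Int.negSucc 0, Int.ofNat 1, Int.negSucc 0, Int.negSucc 0, Int.ofNat 1, Int.negSucc 0, Int.ofNat 1, Int.ofNat 1, Int.negSucc 0, Int.negSucc 0, Int.negSucc 0, Int.negSucc 0, Int.ofNat 1, Int.negSucc 0, Int.ofNat 1, Int.ofNat 1, Int.negSucc 0, Int.negSucc 0, Int.negSucc 0, Int.negSucc 0, Int.negSucc 0, Int.ofNat 1, Int.ofNat 3, Int.negSucc 0],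
  [Int.ofNat 0, Int.negSucc 1, Int.ofNat 0, Int.ofNat 0, Int.ofNat 0, Int.ofNat 0, Int.ofNat 0, Int.ofNat 0, Int.ofNat 0, Int.ofNat 0, Int.ofNat 0, Int.ofNat 0, Int.ofNat 2, Int.negSucc 1, Int.ofNat 2, Int.ofNat 2, Int.negSucc 1, Int.ofNat 0, Int.ofNat 0, Int.negSucc 1, Int.ofNat 0, Int.ofNat 0, Int.ofNat 2, Int.ofNat 0],
  [Int.ofNat 0, Int.negSucc 1, Int.ofNat 0, Int.ofNat 0, Int.ofNat 0, Int.ofNat 0, Int.ofNat 0, Int.ofNat 0, Int.ofNat 0, Int.ofNat 0, Int.ofNat 0, Int.ofNat 0, Int.ofNat 2, Int.negSucc 1, Int.ofNat 2, Int.negSucc 1, Int.negSucc 1, Int.ofNat 0, Int.ofNat 0, Int.negSucc 1, Int.ofNat 0, Int.ofNat 0, Int.negSucc 1, Int.ofNat 0],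
  [Int.ofNat 0, Int.negSucc 1, Int.ofNat 0, Int.ofNat 0, Int.ofNat 2, Int.ofNat 0, Int.ofNat 0, Int.ofNat 0, Int.ofNat 0, Int.ofNat 0, Int.negSucc 1, Int.ofNat 0, Int.negSucc 1, Int.ofNat 0, Int.ofNat 0, Int.ofNat 0, Int.negSucc 1, Int.ofNat 2, Int.ofNat 0, Int.ofNat 0, Int.ofNat 0, Int.negSucc 1, Int.negSucc 1, Int.ofNat 0],
  [Int.ofNat 0, Int.negSucc 1, Int.ofNat 0, Int.ofNat 0, Int.ofNat 2, Int.ofNat 0, Int.ofNat 0, Int.ofNat 0, Int.ofNat 0, Int.ofNat 0, Int.negSucc 1, Int.ofNat 0, Int.negSucc 1, Int.ofNat 0, Int.ofNat 0, Int.ofNat 0, Int.negSucc 1, Int.ofNat 2, Int.ofNat 0, Int.ofNat 0, Int.ofNat 0, Int.negSucc 1, Int.negSucc 1, Int.ofNat 0],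
  [Int.ofNat 0, Int.negSucc 1, Int.ofNat 0, Int.ofNat 0, Int.ofNat 2, Int.ofNat 0, Int.ofNat 0, Int.ofNat 0, Int.ofNat 0, Int.ofNat 0, Int.ofNat 2, Int.ofNat 0, Int.negSucc 1, Int.ofNat 0, Int.ofNat 0, Int.ofNat 0, Int.negSucc 1, Int.ofNat 2, Int.ofNat 0, Int.ofNat 0, Int.ofNat 0, Int.ofNat 2, Int.negSucc 1, Int.ofNat 0],
  [Int.negSucc 1, Int.ofNat 0, Int.negSucc 1, Int.ofNat 0, Int.ofNat 0, Int.ofNat 2, Int.ofNat 0, Int.ofNat 0, Int.ofNat 0, Int.ofNat 0, Int.ofNat 0, Int.ofNat 2, Int.ofNat 0, Int.negSucc 1, Int.ofNat 0, Int.ofNat 0, Int.ofNat 0, Int.negSucc 1, Int.ofNat 2, Int.ofNat 0, Int.ofNat 0, Int.ofNat 0, Int.ofNat 2, Int.ofNat 0],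
  [Int.ofNat 0, Int.negSucc 1, Int.ofNat 0, Int.ofNat 0, Int.ofNat 0, Int.ofNat 2, Int.ofNat 0, Int.ofNat 0, Int.negSucc 1, Int.ofNat 0, Int.ofNat 0, Int.ofNat 0, Int.negSucc 1, Int.negSucc 1, Int.ofNat 0, Int.ofNat 0, Int.ofNat 0, Int.negSucc 1, Int.ofNat 0, Int.ofNat 0, Int.ofNat 0, Int.ofNat 0, Int.ofNat 2, Int.negSucc 1],
  [Int.ofNat 0, Int.ofNat 0, Int.ofNat 2, Int.ofNat 0, Int.ofNat 0, Int.negSucc 1, Int.ofNat 0, Int.ofNat 0, Int.ofNat 0, Int.negSucc 1, Int.negSucc 1, Int.ofNat 0, Int.ofNat 0, Int.ofNat 0, Int.negSucc 1, Int.ofNat 0, Int.ofNat 0, Int.ofNat 0, Int.ofNat 0, Int.ofNat 2, Int.ofNat 0, Int.negSucc 1, Int.ofNat 0, Int.negSucc 1],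
  [Int.ofNat 0, Int.ofNat 0, Int.negSucc 1, Int.ofNat 2, Int.ofNat 0, Int.ofNat 0, Int.ofNat 0, Int.ofNat 0, Int.ofNat 0, Int.ofNat 0, Int.ofNat 0, Int.ofNat 0, Int.ofNat 0, Int.ofNat 0, Int.ofNat 0, Int.ofNat 2, Int.ofNat 0, Int.ofNat 2, Int.ofNat 0, Int.ofNat 2, Int.ofNat 2, Int.negSucc 1, Int.ofNat 0, Int.ofNat 2],
  [Int.ofNat 0, Int.ofNat 0, Int.ofNat 0, Int.ofNat 2, Int.ofNat 0, Int.ofNat 0, Int.negSucc 1, Int.ofNat 0, Int.ofNat 0, Int.ofNat 0, Int.ofNat 2, Int.ofNat 2, Int.ofNat 0, Int.ofNat 0, Int.ofNat 0, Int.ofNat 2, Int.ofNat 0, Int.ofNat 0, Int.ofNat 0, Int.ofNat 0, Int.negSucc 1, Int.ofNat 0, Int.ofNat 2, Int.ofNat 2],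
  [Int.ofNat 1, Int.ofNat 1, Int.ofNat 1, Int.ofNat 1, Int.negSucc 0, Int.negSucc 0, Int.negSucc 0, Int.ofNat 1, Int.negSucc 0, Int.negSucc 0, Int.ofNat 1, Int.ofNat 1, Int.negSucc 0, Int.negSucc 0, Int.negSucc 0, Int.ofNat 1, Int.negSucc 0, Int.negSucc 0, Int.negSucc 0, Int.ofNat 1, Int.negSucc 2, Int.ofNat 1, Int.ofNat 1, Int.negSucc 0],
  [Int.ofNat 1, Int.ofNat 1, Int.negSucc 0, Int.ofNat 1, Int.negSucc 0, Int.ofNat 1, Int.ofNat 1, Int.ofNat 1, Int.negSucc 0, Int.ofNat 1, Int.negSucc 0, Int.ofNat 1, Int.negSucc 0, Int.negSucc 0, Int.negSucc 0, Int.negSucc 0, Int.negSucc 0, Int.negSucc 0, Int.ofNat 1, Int.ofNat 1, Int.negSucc 2, Int.ofNat 1, Int.negSucc 0, Int.negSucc 0],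
  [Int.negSucc 0, Int.negSucc 0, Int.ofNat 1, Int.negSucc 2, Int.ofNat 1, Int.negSucc 0, Int.ofNat 1, Int.negSucc 0, Int.ofNat 1, Int.ofNat 1, Int.ofNat 1, Int.negSucc 0, Int.negSucc 0, Int.negSucc 0, Int.ofNat 1, Int.negSucc 0, Int.negSucc 0, Int.ofNat 1, Int.negSucc 0, Int.ofNat 1, Int.ofNat 1, Int.ofNat 1, Int.negSucc 0, Int.negSucc 0],
  [Int.negSucc 0, Int.negSucc 0, Int.negSucc 0, Int.negSucc 2, Int.ofNat 1, Int.ofNat 1, Int.negSucc 0, Int.negSucc 0, Int.ofNat 1, Int.negSucc 0, Int.negSucc 0, Int.negSucc 0, Int.negSucc 0, Int.negSucc 0, Int.ofNat 1, Int.ofNat 1, Int.negSucc 0, Int.ofNat 1, Int.ofNat 1, Int.ofNat 1, Int.ofNat 1, Int.ofNat 1, Int.ofNat 1, Int.negSucc 0],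
  [Int.negSucc 0, Int.negSucc 0, Int.negSucc 0, Int.negSucc 2, Int.ofNat 1, Int.ofNat 1, Int.negSucc 0, Int.negSucc 0, Int.ofNat 1, Int.negSucc 0, Int.negSucc 0, Int.negSucc 0, Int.negSucc 0, Int.negSucc 0, Int.ofNat 1, Int.ofNat 1, Int.negSucc 0, Int.ofNat 1, Int.ofNat 1, Int.ofNat 1, Int.ofNat 1, Int.ofNat 1, Int.ofNat 1, Int.negSucc 0],
  [Int.negSucc 0, Int.ofNat 1, Int.negSucc 0, Int.negSucc 2, Int.negSucc 0, Int.ofNat 1, Int.negSucc 0, Int.ofNat 1, Int.negSucc 0, Int.negSucc 0, Int.negSucc 0, Int.ofNat 1, Int.ofNat 1, Int.negSucc 0, Int.ofNat 1, Int.ofNat 1, Int.negSucc 0, Int.negSucc 0, Int.ofNat 1, Int.ofNat 1, Int.negSucc 0, Int.ofNat 1, Int.ofNat 1, Int.negSucc 0],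
  [Int.ofNat 0, Int.negSucc 1, Int.ofNat 0, Int.negSucc 1, Int.ofNat 0, Int.ofNat 2, Int.negSucc 1, Int.ofNat 0, Int.negSucc 1, Int.ofNat 0, Int.ofNat 0, Int.ofNat 0, Int.ofNat 0, Int.ofNat 0, Int.ofNat 2, Int.ofNat 2, Int.ofNat 0, Int.ofNat 0, Int.ofNat 0, Int.ofNat 0, Int.ofNat 0, Int.ofNat 0, Int.ofNat 2, Int.ofNat 0],
  [Int.ofNat 0, Int.ofNat 0, Int.ofNat 2, Int.ofNat 0, Int.negSucc 1, Int.ofNat 0, Int.negSucc 1, Int.ofNat 0, Int.ofNat 2, Int.negSucc 1, Int.ofNat 0, Int.negSucc 1, Int.ofNat 0, Int.ofNat 0, Int.ofNat 0, Int.ofNat 0, Int.ofNat 0, Int.ofNat 2, Int.ofNat 2, Int.ofNat 0, Int.ofNat 0, Int.ofNat 0, Int.ofNat 0, Int.ofNat 0],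
  [Int.ofNat 1, Int.ofNat 1, Int.negSucc 0, Int.negSucc 0, Int.negSucc 0, Int.negSucc 0, Int.negSucc 0, Int.ofNat 1, Int.ofNat 1, Int.negSucc 0, Int.ofNat 1, Int.negSucc 2, Int.negSucc 0, Int.ofNat 1, Int.negSucc 0, Int.ofNat 1, Int.ofNat 1, Int.ofNat 1, Int.ofNat 1, Int.ofNat 1, Int.ofNat 1, Int.ofNat 1, Int.ofNat 1, Int.ofNat 1],
  [Int.ofNat 1, Int.negSucc 0, Int.negSucc 0, Int.negSucc 0, Int.negSucc 0, Int.negSucc 0, Int.ofNat 1, Int.ofNat 1, Int.negSucc 0, Int.ofNat 1, Int.negSucc 2, Int.negSucc 0, Int.ofNat 1, Int.negSucc 0, Int.ofNat 1, Int.ofNat 1, Int.ofNat 1, Int.ofNat 1, Int.ofNat 1, Int.ofNat 1, Int.ofNat 1, Int.ofNat 1, Int.ofNat 1, Int.ofNat 1],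
  [Int.negSucc 0, Int.negSucc 0, Int.ofNat 1, Int.negSucc 0, Int.negSucc 0, Int.negSucc 0, Int.ofNat 1, Int.negSucc 0, Int.negSucc 0, Int.negSucc 0, Int.ofNat 3, Int.ofNat 1, Int.ofNat 1, Int.negSucc 0, Int.ofNat 1, Int.ofNat 1, Int.ofNat 1, Int.ofNat 1, Int.negSucc 0, Int.ofNat 1, Int.ofNat 1, Int.negSucc 0, Int.ofNat 1, Int.ofNat 1]]

set_option maxRecDepth 100000 in
theorem c1te19_chk : pmChk (List.replicate 14 [19, 0, 26, 25]).flatten nxL c1te19M 0 0 = true := by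
  decide +kernel

theorem c1te19_ne : wE letE2 (List.replicate 14 [19, 0, 26, 25]).flatten ≠ 1 ∧ wE letE2 (List.replicate 14 [19, 0, 26, 25]).flatten ≠ negElt :=
  ne_pm_of_chk nxL_mem c1te19_chk

set_option maxRecDepth 100000 in
def c1te20M : List (List ℤ) :=
  [[Int.ofNat 4, Int.ofNat 0, Int.ofNat 0, Int.ofNat 0, Int.ofNat 0, Int.ofNat 0, Int.ofNat 0, Int.ofNat 0, Int.ofNat 0, Int.ofNat 0, Int.ofNat 0, Int.ofNat 0, Int.ofNat 0, Int.ofNat 0, Int.ofNat 0, Int.ofNat 0, Int.ofNat 0, Int.ofNat 0, Int.ofNat 0, Int.ofNat 0, Int.ofNat 0, Int.ofNat 0, Int.ofNat 0, Int.ofNat 4],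
  [Int.ofNat 4, Int.ofNat 0, Int.ofNat 0, Int.ofNat 0, Int.ofNat 0, Int.ofNat 0, Int.ofNat 0, Int.ofNat 0, Int.ofNat 0, Int.ofNat 0, Int.ofNat 0, Int.ofNat 0, Int.ofNat 0, Int.ofNat 0, Int.ofNat 0, Int.ofNat 0, Int.ofNat 0, Int.ofNat 0, Int.ofNat 0, Int.ofNat 0, Int.ofNat 0, Int.ofNat 0, Int.ofNat 0, Int.ofNat 4],
  [Int.negSucc 3, Int.ofNat 0, Int.ofNat 0, Int.ofNat 0, Int.ofNat 0, Int.ofNat 0, Int.ofNat 0, Int.ofNat 0, Int.ofNat 0, Int.ofNat 0, Int.ofNat 0, Int.ofNat 0, Int.ofNat 0, Int.ofNat 0, Int.ofNat 0, Int.ofNat 0, Int.ofNat 0, Int.ofNat 0, Int.ofNat 0, Int.ofNat 0, Int.ofNat 0, Int.ofNat 0, Int.ofNat 0, Int.ofNat 4],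
  [Int.ofNat 0, Int.negSucc 3, Int.ofNat 0, Int.ofNat 0, Int.ofNat 0, Int.ofNat 0, Int.ofNat 0, Int.ofNat 0, Int.ofNat 0, Int.ofNat 0, Int.ofNat 0, Int.ofNat 0, Int.ofNat 0, Int.ofNat 0, Int.ofNat 0, Int.ofNat 0, Int.ofNat 0, Int.ofNat 0, Int.ofNat 0, Int.ofNat 0, Int.ofNat 0, Int.ofNat 0, Int.ofNat 0, Int.ofNat 4],
  [Int.ofNat 0, Int.ofNat 4, Int.ofNat 0, Int.ofNat 0, Int.ofNat 0, Int.ofNat 0, Int.ofNat 0, Int.ofNat 0, Int.ofNat 0, Int.ofNat 0, Int.ofNat 0, Int.ofNat 0, Int.ofNat 0, Int.ofNat 0, Int.ofNat 0, Int.ofNat 0, Int.ofNat 0, Int.ofNat 0, Int.ofNat 0, Int.ofNat 0, Int.ofNat 0, Int.ofNat 0, Int.ofNat 0, Int.negSucc 3],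
  [Int.ofNat 0, Int.ofNat 0, Int.ofNat 0, Int.ofNat 0, Int.ofNat 0, Int.ofNat 0, Int.ofNat 0, Int.ofNat 0, Int.ofNat 0, Int.ofNat 0, Int.ofNat 0, Int.ofNat 0, Int.ofNat 0, Int.ofNat 0, Int.ofNat 0, Int.ofNat 0, Int.ofNat 0, Int.ofNat 0, Int.ofNat 0, Int.ofNat 0, Int.ofNat 0, Int.ofNat 4, Int.ofNat 0, Int.negSucc 3],
  [Int.negSucc 1, Int.negSucc 1, Int.negSucc 1, Int.ofNat 0, Int.ofNat 0, Int.ofNat 0, Int.negSucc 1, Int.negSucc 1, Int.ofNat 0, Int.ofNat 0, Int.ofNat 0, Int.ofNat 0, Int.ofNat 0, Int.ofNat 0, Int.ofNat 0, Int.ofNat 0, Int.ofNat 0, Int.ofNat 0, Int.ofNat 0, Int.negSucc 1, Int.ofNat 0, Int.ofNat 2, Int.ofNat 0, Int.ofNat 2],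
  [Int.negSucc 1, Int.negSucc 1, Int.ofNat 0, Int.ofNat 0, Int.ofNat 0, Int.negSucc 1, Int.negSucc 1, Int.ofNat 0, Int.ofNat 0, Int.ofNat 0, Int.ofNat 0, Int.ofNat 0, Int.ofNat 0, Int.ofNat 0, Int.ofNat 0, Int.ofNat 0, Int.ofNat 0, Int.ofNat 0, Int.negSucc 1, Int.ofNat 0, Int.ofNat 2, Int.ofNat 0, Int.negSucc 1, Int.ofNat 2],
  [Int.ofNat 1, Int.ofNat 1, Int.negSucc 0, Int.ofNat 1, Int.ofNat 1, Int.negSucc 0, Int.negSucc 0, Int.ofNat 1, Int.ofNat 1, Int.negSucc 0, Int.negSucc 0, Int.ofNat 1, Int.ofNat 1, Int.ofNat 1, Int.ofNat 1, Int.negSucc 0, Int.ofNat 1, Int.ofNat 1, Int.negSucc 0, Int.ofNat 1, Int.ofNat 1, Int.ofNat 1, Int.negSucc 0, Int.negSucc 2],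
  [Int.ofNat 1, Int.ofNat 1, Int.ofNat 1, Int.ofNat 1, Int.ofNat 1, Int.ofNat 1, Int.ofNat 1, Int.ofNat 1, Int.ofNat 1, Int.ofNat 1, Int.ofNat 1, Int.ofNat 1, Int.ofNat 1, Int.ofNat 1, Int.ofNat 1, Int.ofNat 1, Int.ofNat 1, Int.ofNat 1, Int.ofNat 1, Int.ofNat 1, Int.ofNat 1, Int.ofNat 1, Int.ofNat 1, Int.negSucc 2],
  [Int.ofNat 1, Int.ofNat 1, Int.ofNat 1, Int.ofNat 1, Int.ofNat 1, Int.ofNat 1, Int.ofNat 1, Int.ofNat 1, Int.ofNat 1, Int.ofNat 1, Int.ofNat 1, Int.ofNat 1, Int.ofNat 1, Int.ofNat 1, Int.ofNat 1, Int.ofNat 1, Int.ofNat 1, Int.ofNat 1, Int.ofNat 1, Int.ofNat 1, Int.ofNat 1, Int.ofNat 1, Int.ofNat 1, Int.negSucc 2],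
  [Int.negSucc 2, Int.ofNat 1, Int.ofNat 1, Int.ofNat 1, Int.ofNat 1, Int.ofNat 1, Int.ofNat 1, Int.ofNat 1, Int.ofNat 1, Int.ofNat 1, Int.ofNat 1, Int.ofNat 1, Int.ofNat 1, Int.ofNat 1, Int.ofNat 1, Int.ofNat 1, Int.ofNat 1, Int.ofNat 1, Int.ofNat 1, Int.ofNat 1, Int.ofNat 1, Int.ofNat 1, Int.ofNat 1, Int.ofNat 1],
  [Int.ofNat 3, Int.ofNat 1, Int.negSucc 0, Int.ofNat 1, Int.ofNat 1, Int.ofNat 1, Int.ofNat 1, Int.negSucc 0, Int.ofNat 1, Int.negSucc 0, Int.negSucc 0, Int.negSucc 0, Int.ofNat 1, Int.ofNat 1, Int.ofNat 1, Int.ofNat 1, Int.ofNat 1, Int.ofNat 1, Int.negSucc 0, Int.ofNat 1, Int.ofNat 1, Int.negSucc 0, Int.ofNat 1, Int.ofNat 1],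
  [Int.ofNat 1, Int.ofNat 3, Int.ofNat 1, Int.negSucc 0, Int.ofNat 1, Int.ofNat 1, Int.ofNat 1, Int.ofNat 1, Int.negSucc 0, Int.ofNat 1, Int.negSucc 0, Int.negSucc 0, Int.negSucc 0, Int.ofNat 1, Int.ofNat 1, Int.ofNat 1, Int.ofNat 1, Int.ofNat 1, Int.ofNat 1, Int.negSucc 0, Int.ofNat 1, Int.ofNat 1, Int.negSucc 0, Int.ofNat 1],
  [Int.ofNat 2, Int.ofNat 0, Int.ofNat 2, Int.negSucc 1, Int.ofNat 0, Int.ofNat 0, Int.ofNat 0, Int.ofNat 0, Int.ofNat 0, Int.ofNat 0, Int.negSucc 1, Int.ofNat 0, Int.ofNat 0, Int.ofNat 0, Int.ofNat 0, Int.ofNat 0, Int.ofNat 0, Int.ofNat 0, Int.ofNat 2, Int.negSucc 1, Int.ofNat 0, Int.ofNat 0, Int.negSucc 1, Int.ofNat 2],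
  [Int.negSucc 1, Int.ofNat 0, Int.ofNat 0, Int.ofNat 0, Int.ofNat 0, Int.ofNat 0, Int.ofNat 0, Int.negSucc 1, Int.ofNat 0, Int.ofNat 0, Int.ofNat 0, Int.ofNat 0, Int.ofNat 0, Int.ofNat 0, Int.ofNat 0, Int.ofNat 2, Int.negSucc 1, Int.ofNat 0, Int.ofNat 0, Int.negSucc 1, Int.ofNat 2, Int.ofNat 0, Int.ofNat 2, Int.ofNat 2],
  [Int.ofNat 2, Int.ofNat 0, Int.ofNat 0, Int.ofNat 0, Int.ofNat 0, Int.ofNat 0, Int.ofNat 2, Int.ofNat 0, Int.ofNat 0, Int.negSucc 1, Int.negSucc 1, Int.ofNat 0, Int.ofNat 0, Int.ofNat 0, Int.ofNat 0, Int.ofNat 0, Int.negSucc 1, Int.ofNat 0, Int.ofNat 0, Int.ofNat 0, Int.ofNat 0, Int.ofNat 2, Int.ofNat 2, Int.negSucc 1],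
  [Int.ofNat 2, Int.ofNat 2, Int.ofNat 0, Int.ofNat 0, Int.ofNat 0, Int.ofNat 0, Int.ofNat 0, Int.negSucc 1, Int.ofNat 0, Int.ofNat 0, Int.ofNat 0, Int.ofNat 0, Int.negSucc 1, Int.negSucc 1, Int.ofNat 2, Int.ofNat 0, Int.ofNat 0, Int.ofNat 0, Int.ofNat 0, Int.ofNat 0, Int.ofNat 2, Int.ofNat 0, Int.ofNat 0, Int.negSucc 1],
  [Int.negSucc 0, Int.negSucc 0, Int.ofNat 1, Int.negSucc 0, Int.ofNat 1, Int.negSucc 0, Int.ofNat 1, Int.negSucc 0, Int.ofNat 1, Int.negSucc 0, Int.negSucc 0, Int.ofNat 1, Int.negSucc 0, Int.negSucc 0, Int.ofNat 1, Int.negSucc 0, Int.ofNat 1, Int.negSucc 0, Int.ofNat 1, Int.ofNat 1, Int.ofNat 1, Int.ofNat 1, Int.ofNat 1, Int.ofNat 3],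
  [Int.negSucc 0, Int.negSucc 0, Int.negSucc 0, Int.negSucc 0, Int.ofNat 1, Int.ofNat 1, Int.negSucc 0, Int.negSucc 0, Int.ofNat 1, Int.ofNat 1, Int.ofNat 1, Int.ofNat 1, Int.negSucc 0, Int.negSucc 0, Int.ofNat 1, Int.ofNat 1, Int.ofNat 1, Int.negSucc 0, Int.negSucc 0, Int.ofNat 1, Int.ofNat 1, Int.ofNat 1, Int.negSucc 0, Int.ofNat 3],
  [Int.negSucc 0, Int.negSucc 0, Int.ofNat 1, Int.negSucc 0, Int.ofNat 1, Int.negSucc 0, Int.ofNat 1, Int.ofNat 1, Int.ofNat 1, Int.ofNat 1, Int.ofNat 1, Int.negSucc 0, Int.negSucc 0, Int.ofNat 1, Int.negSucc 0, Int.ofNat 1, Int.negSucc 0, Int.ofNat 1, Int.negSucc 0, Int.ofNat 1, Int.negSucc 0, Int.negSucc 0, Int.ofNat 1, Int.ofNat 3],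
  [Int.negSucc 0, Int.negSucc 0, Int.negSucc 0, Int.negSucc 0, Int.ofNat 1, Int.ofNat 1, Int.negSucc 0, Int.ofNat 1, Int.ofNat 1, Int.negSucc 0, Int.negSucc 0, Int.negSucc 0, Int.negSucc 0, Int.ofNat 1, Int.negSucc 0, Int.negSucc 0, Int.negSucc 0, Int.ofNat 1, Int.ofNat 1, Int.ofNat 1, Int.negSucc 0, Int.negSucc 0, Int.negSucc 0, Int.ofNat 3],
  [Int.ofNat 1, Int.ofNat 1, Int.ofNat 1, Int.negSucc 0, Int.ofNat 1, Int.ofNat 1, Int.negSucc 0, Int.ofNat 1, Int.ofNat 1, Int.ofNat 1, Int.ofNat 1, Int.negSucc 0, Int.negSucc 0, Int.ofNat 1, Int.negSucc 0, Int.ofNat 1, Int.negSucc 0, Int.ofNat 1, Int.ofNat 1, Int.ofNat 1, Int.ofNat 1, Int.negSucc 0, Int.negSucc 0, Int.negSucc 2],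
  [Int.ofNat 1, Int.ofNat 1, Int.negSucc 0, Int.negSucc 0, Int.ofNat 1, Int.negSucc 0, Int.ofNat 1, Int.ofNat 1, Int.negSucc 0, Int.negSucc 0, Int.ofNat 1, Int.ofNat 1, Int.ofNat 1, Int.ofNat 1, Int.ofNat 1, Int.ofNat 1, Int.ofNat 1, Int.negSucc 0, Int.ofNat 1, Int.negSucc 0, Int.ofNat 1, Int.ofNat 1, Int.negSucc 0, Int.negSucc 2],
  [Int.negSucc 1, Int.negSucc 1, Int.ofNat 0, Int.ofNat 0, Int.ofNat 0, Int.ofNat 0, Int.ofNat 0, Int.ofNat 0, Int.negSucc 1, Int.negSucc 1, Int.ofNat 0, Int.ofNat 0, Int.ofNat 0, Int.ofNat 0, Int.ofNat 2, Int.ofNat 0, Int.ofNat 0, Int.ofNat 0, Int.ofNat 0, Int.negSucc 1, Int.ofNat 0, Int.ofNat 0, Int.negSucc 1, Int.ofNat 2],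
  [Int.ofNat 0, Int.ofNat 0, Int.negSucc 1, Int.negSucc 1, Int.negSucc 1, Int.ofNat 0, Int.ofNat 0, Int.ofNat 0, Int.ofNat 0, Int.ofNat 0, Int.ofNat 0, Int.negSucc 1, Int.negSucc 1, Int.ofNat 0, Int.ofNat 0, Int.ofNat 0, Int.ofNat 0, Int.ofNat 2, Int.ofNat 0, Int.ofNat 0, Int.ofNat 0, Int.ofNat 0, Int.negSucc 1, Int.ofNat 2],
  [Int.ofNat 0, Int.ofNat 0, Int.ofNat 2, Int.negSucc 1, Int.ofNat 0, Int.ofNat 0, Int.ofNat 0, Int.ofNat 0, Int.ofNat 2, Int.ofNat 0, Int.ofNat 0, Int.ofNat 0, Int.ofNat 0, Int.ofNat 2, Int.ofNat 0, Int.ofNat 0, Int.ofNat 2, Int.ofNat 2, Int.ofNat 2, Int.ofNat 0, Int.ofNat 0, Int.ofNat 0, Int.ofNat 0, Int.negSucc 1],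
  [Int.ofNat 0, Int.ofNat 2, Int.negSucc 1, Int.ofNat 0, Int.ofNat 0, Int.ofNat 0, Int.ofNat 0, Int.ofNat 2, Int.ofNat 0, Int.ofNat 0, Int.ofNat 0, Int.ofNat 0, Int.ofNat 2, Int.ofNat 0, Int.ofNat 0, Int.ofNat 2, Int.ofNat 2, Int.ofNat 2, Int.ofNat 0, Int.ofNat 0, Int.ofNat 0, Int.ofNat 0, Int.ofNat 0, Int.negSucc 1],
  [Int.ofNat 0, Int.ofNat 2, Int.ofNat 2, Int.ofNat 0, Int.ofNat 0, Int.ofNat 0, Int.ofNat 0, Int.negSucc 1, Int.ofNat 0, Int.ofNat 0, Int.ofNat 0, Int.ofNat 0, Int.ofNat 2, Int.ofNat 0, Int.ofNat 0, Int.ofNat 2, Int.ofNat 2, Int.ofNat 2, Int.ofNat 0, Int.ofNat 0, Int.ofNat 0, Int.ofNat 0, Int.ofNat 0, Int.negSucc 1],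
  [Int.ofNat 0, Int.negSucc 1, Int.negSucc 1, Int.ofNat 0, Int.ofNat 0, Int.ofNat 0, Int.ofNat 0, Int.negSucc 1, Int.ofNat 0, Int.ofNat 0, Int.ofNat 0, Int.ofNat 0, Int.negSucc 1, Int.ofNat 0, Int.ofNat 0, Int.ofNat 2, Int.negSucc 1, Int.ofNat 2, Int.ofNat 0, Int.ofNat 0, Int.ofNat 0, Int.ofNat 0, Int.ofNat 0, Int.negSucc 1],
  [Int.ofNat 0, Int.negSucc 1, Int.ofNat 0, Int.ofNat 0, Int.negSucc 1, Int.ofNat 0, Int.ofNat 0, Int.ofNat 0, Int.ofNat 0, Int.negSucc 1, Int.ofNat 0, Int.ofNat 0, Int.ofNat 0, Int.ofNat 0, Int.ofNat 0, Int.ofNat 2, Int.negSucc 1, Int.ofNat 0, Int.ofNat 0, Int.ofNat 2, Int.ofNat 0, Int.negSucc 1, Int.ofNat 0, Int.negSucc 1],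
  [Int.ofNat 0, Int.negSucc 1, Int.ofNat 0, Int.ofNat 0, Int.negSucc 1, Int.ofNat 0, Int.ofNat 0, Int.ofNat 0, Int.ofNat 0, Int.ofNat 2, Int.ofNat 0, Int.ofNat 0, Int.ofNat 0, Int.ofNat 0, Int.ofNat 0, Int.ofNat 2, Int.negSucc 1, Int.ofNat 0, Int.ofNat 0, Int.ofNat 2, Int.ofNat 0, Int.ofNat 2, Int.ofNat 0, Int.negSucc 1],
  [Int.ofNat 0, Int.ofNat 0, Int.negSucc 1, Int.ofNat 0, Int.ofNat 0, Int.negSucc 1, Int.ofNat 0, Int.ofNat 0, Int.ofNat 0, Int.ofNat 0, Int.ofNat 2, Int.ofNat 0, Int.ofNat 0, Int.ofNat 0, Int.ofNat 0, Int.ofNat 0, Int.ofNat 2, Int.negSucc 1, Int.ofNat 0, Int.ofNat 0, Int.ofNat 2, Int.ofNat 0, Int.ofNat 2, Int.negSucc 1],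
  [Int.negSucc 1, Int.negSucc 1, Int.ofNat 0, Int.ofNat 2, Int.negSucc 1, Int.ofNat 0, Int.ofNat 0, Int.ofNat 0, Int.ofNat 0, Int.negSucc 1, Int.ofNat 0, Int.ofNat 0, Int.ofNat 0, Int.negSucc 1, Int.ofNat 2, Int.negSucc 1, Int.ofNat 0, Int.ofNat 0, Int.ofNat 0, Int.ofNat 0, Int.ofNat 0, Int.ofNat 0, Int.ofNat 0, Int.ofNat 0],
  [Int.ofNat 2, Int.negSucc 1, Int.ofNat 0, Int.ofNat 0, Int.ofNat 0, Int.ofNat 0, Int.negSucc 1, Int.ofNat 0, Int.ofNat 0, Int.ofNat 0, Int.negSucc 1, Int.ofNat 2, Int.negSucc 1, Int.ofNat 0, Int.ofNat 0, Int.ofNat 0, Int.ofNat 0, Int.ofNat 0, Int.ofNat 0, Int.ofNat 0, Int.negSucc 1, Int.negSucc 1, Int.ofNat 0, Int.ofNat 0],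
  [Int.negSucc 1, Int.ofNat 2, Int.ofNat 0, Int.ofNat 0, Int.ofNat 0, Int.ofNat 0, Int.ofNat 0, Int.ofNat 2, Int.ofNat 0, Int.ofNat 2, Int.ofNat 0, Int.ofNat 2, Int.negSucc 1, Int.ofNat 0, Int.ofNat 0, Int.ofNat 2, Int.ofNat 0, Int.ofNat 0, Int.ofNat 0, Int.ofNat 2, Int.ofNat 0, Int.ofNat 0, Int.ofNat 0, Int.ofNat 0],
  [Int.negSucc 1, Int.ofNat 0, Int.ofNat 0, Int.ofNat 0, Int.ofNat 0, Int.ofNat 2, Int.ofNat 0, Int.ofNat 0, Int.negSucc 1, Int.ofNat 0, Int.ofNat 0, Int.ofNat 0, Int.ofNat 2, Int.ofNat 0, Int.ofNat 0, Int.ofNat 2, Int.ofNat 0, Int.ofNat 0, Int.ofNat 2, Int.ofNat 2, Int.ofNat 0, Int.ofNat 0, Int.ofNat 2, Int.ofNat 0],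
  [Int.ofNat 1, Int.negSucc 0, Int.negSucc 0, Int.negSucc 0, Int.negSucc 0, Int.ofNat 1, Int.negSucc 0, Int.negSucc 0, Int.negSucc 2, Int.negSucc 0, Int.negSucc 0, Int.negSucc 0, Int.ofNat 1, Int.negSucc 0, Int.negSucc 0, Int.ofNat 1, Int.negSucc 0, Int.negSucc 0, Int.ofNat 1, Int.ofNat 1, Int.negSucc 0, Int.negSucc 0, Int.ofNat 1, Int.negSucc 0],
  [Int.ofNat 1, Int.negSucc 0, Int.ofNat 1, Int.negSucc 0, Int.negSucc 0, Int.negSucc 0, Int.ofNat 1, Int.negSucc 0, Int.negSucc 2, Int.ofNat 1, Int.ofNat 1, Int.negSucc 0, Int.ofNat 1, Int.negSucc 0, Int.negSucc 0, Int.negSucc 0, Int.negSucc 0, Int.negSucc 0, Int.negSucc 0, Int.ofNat 1, Int.negSucc 0, Int.negSucc 0, Int.negSucc 0, Int.negSucc 0],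
  [Int.ofNat 1, Int.negSucc 0, Int.negSucc 0, Int.negSucc 2, Int.negSucc 0, Int.ofNat 1, Int.negSucc 0, Int.negSucc 0, Int.negSucc 0, Int.negSucc 0, Int.negSucc 0, Int.negSucc 0, Int.negSucc 0, Int.negSucc 0, Int.negSucc 0, Int.negSucc 0, Int.ofNat 1, Int.ofNat 1, Int.ofNat 1, Int.ofNat 1, Int.ofNat 1, Int.negSucc 0, Int.negSucc 0, Int.negSucc 0],
  [Int.negSucc 0, Int.negSucc 0, Int.negSucc 0, Int.negSucc 0, Int.ofNat 1, Int.negSucc 0, Int.ofNat 1, Int.negSucc 0, Int.ofNat 1, Int.ofNat 1, Int.ofNat 1, Int.negSucc 0, Int.negSucc 0, Int.negSucc 0, Int.ofNat 1, Int.negSucc 2, Int.negSucc 0, Int.negSucc 0, Int.negSucc 0, Int.negSucc 0, Int.negSucc 0, Int.negSucc 0, Int.negSucc 0, Int.ofNat 1],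
  [Int.ofNat 1, Int.negSucc 0, Int.ofNat 1, Int.negSucc 0, Int.ofNat 1, Int.negSucc 0, Int.ofNat 1, Int.ofNat 1, Int.ofNat 1, Int.negSucc 0, Int.negSucc 0, Int.ofNat 1, Int.negSucc 0, Int.negSucc 0, Int.ofNat 1, Int.negSucc 2, Int.negSucc 0, Int.negSucc 0, Int.ofNat 1, Int.negSucc 0, Int.negSucc 0, Int.ofNat 1, Int.negSucc 0, Int.ofNat 1],
  [Int.negSucc 0, Int.ofNat 1, Int.negSucc 0, Int.ofNat 1, Int.negSucc 0, Int.ofNat 1, Int.negSucc 0, Int.ofNat 1, Int.ofNat 1, Int.ofNat 1, Int.negSucc 0, Int.negSucc 0, Int.ofNat 1, Int.negSucc 0, Int.negSucc 0, Int.ofNat 1, Int.negSucc 2, Int.negSucc 0, Int.negSucc 0, Int.ofNat 1, Int.negSucc 0, Int.negSucc 0, Int.ofNat 1, Int.ofNat 1],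
  [Int.ofNat 1, Int.negSucc 0, Int.ofNat 1, Int.ofNat 1, Int.ofNat 1, Int.ofNat 1, Int.negSucc 0, Int.ofNat 1, Int.ofNat 1, Int.ofNat 1, Int.negSucc 0, Int.negSucc 0, Int.ofNat 1, Int.ofNat 1, Int.negSucc 0, Int.ofNat 1, Int.negSucc 0, Int.negSucc 0, Int.negSucc 0, Int.ofNat 1, Int.negSucc 0, Int.negSucc 0, Int.ofNat 3, Int.negSucc 0],
  [Int.ofNat 1, Int.ofNat 1, Int.ofNat 1, Int.negSucc 0, Int.ofNat 1, Int.ofNat 1, Int.ofNat 1, Int.negSucc 0, Int.negSucc 0, Int.ofNat 1, Int.ofNat 1, Int.negSucc 0, Int.ofNat 1, Int.negSucc 0, Int.negSucc 0, Int.negSucc 0, Int.ofNat 1, Int.negSucc 0, Int.negSucc 0, Int.ofNat 3, Int.ofNat 1, Int.negSucc 0, Int.ofNat 1, Int.negSucc 0],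
  [Int.ofNat 0, Int.ofNat 0, Int.ofNat 0, Int.ofNat 0, Int.ofNat 0, Int.ofNat 2, Int.ofNat 0, Int.negSucc 1, Int.ofNat 0, Int.ofNat 0, Int.ofNat 0, Int.ofNat 0, Int.ofNat 2, Int.negSucc 1, Int.ofNat 0, Int.negSucc 1, Int.ofNat 0, Int.ofNat 0, Int.ofNat 0, Int.ofNat 2, Int.ofNat 0, Int.negSucc 1, Int.ofNat 0, Int.ofNat 2],
  [Int.ofNat 0, Int.ofNat 0, Int.ofNat 0, Int.ofNat 0, Int.ofNat 0, Int.negSucc 1, Int.ofNat 0, Int.ofNat 0, Int.ofNat 2, Int.negSucc 1, Int.ofNat 0, Int.ofNat 0, Int.ofNat 0, Int.ofNat 0, Int.ofNat 0, Int.negSucc 1, Int.ofNat 0, Int.ofNat 0, Int.ofNat 0, Int.ofNat 0, Int.negSucc 1, Int.ofNat 2, Int.ofNat 2, Int.ofNat 2],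
  [Int.ofNat 1, Int.ofNat 1, Int.ofNat 1, Int.ofNat 1, Int.negSucc 0, Int.negSucc 0, Int.negSucc 0, Int.negSucc 0, Int.ofNat 1, Int.ofNat 1, Int.ofNat 3, Int.negSucc 0, Int.negSucc 0, Int.negSucc 0, Int.ofNat 1, Int.ofNat 1, Int.negSucc 0, Int.ofNat 1, Int.negSucc 0, Int.negSucc 0, Int.ofNat 1, Int.ofNat 1, Int.ofNat 1, Int.negSucc 0],
  [Int.ofNat 1, Int.ofNat 1, Int.negSucc 0, Int.ofNat 1, Int.negSucc 0, Int.ofNat 1, Int.ofNat 1, Int.negSucc 0, Int.ofNat 1, Int.negSucc 0, Int.negSucc 2, Int.negSucc 0, Int.negSucc 0, Int.negSucc 0, Int.ofNat 1, Int.negSucc 0, Int.negSucc 0, Int.ofNat 1, Int.ofNat 1, Int.negSucc 0, Int.ofNat 1, Int.ofNat 1, Int.negSucc 0, Int.negSucc 0],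
  [Int.negSucc 0, Int.negSucc 0, Int.ofNat 1, Int.ofNat 1, Int.ofNat 1, Int.ofNat 1, Int.negSucc 0, Int.negSucc 0, Int.negSucc 0, Int.ofNat 1, Int.negSucc 0, Int.ofNat 1, Int.ofNat 1, Int.negSucc 2, Int.negSucc 0, Int.negSucc 0, Int.ofNat 1, Int.ofNat 1, Int.ofNat 1, Int.ofNat 1, Int.negSucc 0, Int.negSucc 0, Int.negSucc 0, Int.negSucc 0],
  [Int.negSucc 0, Int.negSucc 0, Int.negSucc 0, Int.ofNat 1, Int.ofNat 1, Int.negSucc 0, Int.ofNat 1, Int.negSucc 0, Int.negSucc 0, Int.negSucc 0, Int.ofNat 1, Int.ofNat 1, Int.ofNat 1, Int.negSucc 2, Int.negSucc 0, Int.ofNat 1, Int.ofNat 1, Int.ofNat 1, Int.negSucc 0, Int.ofNat 1, Int.negSucc 0, Int.negSucc 0, Int.ofNat 1, Int.negSucc 0],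
  [Int.negSucc 0, Int.negSucc 0, Int.negSucc 0, Int.ofNat 1, Int.ofNat 1, Int.negSucc 0, Int.ofNat 1, Int.negSucc 0, Int.negSucc 0, Int.negSucc 0, Int.ofNat 1, Int.ofNat 1, Int.ofNat 1, Int.negSucc 2, Int.negSucc 0, Int.ofNat 1, Int.ofNat 1, Int.ofNat 1, Int.negSucc 0, Int.ofNat 1, Int.negSucc 0, Int.negSucc 0, Int.ofNat 1, Int.negSucc 0],
  [Int.negSucc 0, Int.negSucc 0, Int.ofNat 1, Int.ofNat 1, Int.negSucc 0, Int.negSucc 0, Int.negSucc 0, Int.negSucc 0, Int.ofNat 1, Int.ofNat 1, Int.negSucc 0, Int.ofNat 1, Int.negSucc 0, Int.negSucc 0, Int.ofNat 1, Int.ofNat 1, Int.negSucc 2, Int.ofNat 1, Int.ofNat 1, Int.ofNat 1, Int.ofNat 1, Int.negSucc 0, Int.negSucc 0, Int.negSucc 0],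
  [Int.ofNat 0, Int.ofNat 0, Int.negSucc 1, Int.ofNat 0, Int.ofNat 2, Int.negSucc 1, Int.ofNat 0, Int.ofNat 0, Int.ofNat 0, Int.ofNat 0, Int.negSucc 1, Int.ofNat 0, Int.negSucc 1, Int.ofNat 2, Int.ofNat 0, Int.ofNat 0, Int.ofNat 0, Int.ofNat 0, Int.ofNat 0, Int.ofNat 2, Int.ofNat 0, Int.ofNat 0, Int.ofNat 2, Int.ofNat 0],
  [Int.ofNat 0, Int.ofNat 0, Int.ofNat 2, Int.ofNat 0, Int.ofNat 0, Int.negSucc 1, Int.ofNat 0, Int.ofNat 2, Int.negSucc 1, Int.ofNat 0, Int.ofNat 0, Int.ofNat 0, Int.ofNat 0, Int.negSucc 1, Int.ofNat 0, Int.negSucc 1, Int.ofNat 2, Int.ofNat 0, Int.ofNat 0, Int.ofNat 0, Int.ofNat 0, Int.ofNat 0, Int.ofNat 2, Int.ofNat 0],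
  [Int.ofNat 1, Int.ofNat 1, Int.negSucc 0, Int.ofNat 1, Int.negSucc 0, Int.negSucc 0, Int.negSucc 0, Int.ofNat 1, Int.negSucc 0, Int.ofNat 1, Int.ofNat 1, Int.ofNat 1, Int.ofNat 1, Int.negSucc 2, Int.ofNat 1, Int.negSucc 0, Int.ofNat 1, Int.ofNat 1, Int.ofNat 1, Int.negSucc 0, Int.ofNat 1, Int.negSucc 0, Int.ofNat 1, Int.ofNat 1],
  [Int.ofNat 1, Int.negSucc 0, Int.ofNat 1, Int.negSucc 0, Int.negSucc 0, Int.negSucc 0, Int.ofNat 1, Int.negSucc 0, Int.ofNat 1, Int.ofNat 1, Int.ofNat 1, Int.ofNat 1, Int.negSucc 2, Int.ofNat 1, Int.negSucc 0, Int.ofNat 1, Int.ofNat 1, Int.ofNat 1, Int.negSucc 0, Int.ofNat 1, Int.negSucc 0, Int.ofNat 1, Int.ofNat 1, Int.ofNat 1],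
  [Int.negSucc 0, Int.negSucc 0, Int.negSucc 0, Int.negSucc 0, Int.negSucc 0, Int.negSucc 0, Int.ofNat 1, Int.ofNat 1, Int.ofNat 1, Int.negSucc 0, Int.negSucc 0, Int.negSucc 0, Int.negSucc 2, Int.ofNat 1, Int.negSucc 0, Int.ofNat 1, Int.ofNat 1, Int.ofNat 1, Int.ofNat 1, Int.ofNat 1, Int.negSucc 0, Int.negSucc 0, Int.ofNat 1, Int.ofNat 1],
  [Int.ofNat 1, Int.ofNat 1, Int.ofNat 1, Int.ofNat 1, Int.ofNat 1, Int.negSucc 0, Int.negSucc 0, Int.ofNat 1, Int.negSucc 0, Int.ofNat 1, Int.negSucc 0, Int.negSucc 0, Int.ofNat 3, Int.negSucc 0, Int.negSucc 0, Int.ofNat 1, Int.negSucc 0, Int.ofNat 1, Int.negSucc 0, Int.ofNat 1, Int.negSucc 0, Int.negSucc 0, Int.ofNat 1, Int.ofNat 1],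
  [Int.ofNat 1, Int.ofNat 1, Int.negSucc 0, Int.ofNat 1, Int.ofNat 1, Int.negSucc 0, Int.ofNat 1, Int.negSucc 0, Int.ofNat 1, Int.negSucc 0, Int.negSucc 0, Int.negSucc 0, Int.negSucc 0, Int.negSucc 0, Int.ofNat 1, Int.ofNat 1, Int.ofNat 3, Int.ofNat 1, Int.negSucc 0, Int.ofNat 1, Int.negSucc 0, Int.ofNat 1, Int.negSucc 0, Int.ofNat 1],
  [Int.negSucc 0, Int.ofNat 1, Int.ofNat 1, Int.ofNat 1, Int.ofNat 1, Int.negSucc 0, Int.ofNat 1, Int.ofNat 1, Int.ofNat 1, Int.ofNat 1, Int.ofNat 1, Int.ofNat 1, Int.negSucc 0, Int.negSucc 0, Int.ofNat 1, Int.ofNat 1, Int.ofNat 3, Int.ofNat 1, Int.ofNat 1, Int.ofNat 1, Int.negSucc 0, Int.negSucc 0, Int.negSucc 0, Int.ofNat 1],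
  [Int.negSucc 0, Int.negSucc 0, Int.ofNat 1, Int.ofNat 1, Int.ofNat 1, Int.ofNat 1, Int.negSucc 0, Int.ofNat 1, Int.ofNat 1, Int.ofNat 1, Int.ofNat 1, Int.ofNat 1, Int.ofNat 1, Int.negSucc 0, Int.negSucc 0, Int.ofNat 1, Int.ofNat 1, Int.ofNat 3, Int.ofNat 1, Int.ofNat 1, Int.ofNat 1, Int.negSucc 0, Int.negSucc 0, Int.ofNat 1],
  [Int.ofNat 1, Int.ofNat 1, Int.negSucc 0, Int.negSucc 0, Int.ofNat 1, Int.negSucc 0, Int.negSucc 0, Int.ofNat 1, Int.negSucc 0, Int.negSucc 0, Int.negSucc 0, Int.negSucc 0, Int.negSucc 0, Int.negSucc 0, Int.negSucc 2, Int.negSucc 0, Int.ofNat 1, Int.ofNat 1, Int.negSucc 0, Int.ofNat 1, Int.negSucc 0, Int.negSucc 0, Int.negSucc 0, Int.negSucc 0],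
  [Int.negSucc 0, Int.ofNat 1, Int.negSucc 0, Int.negSucc 0, Int.ofNat 1, Int.negSucc 0, Int.negSucc 0, Int.negSucc 0, Int.negSucc 0, Int.negSucc 0, Int.negSucc 0, Int.negSucc 2, Int.negSucc 0, Int.ofNat 1, Int.ofNat 1, Int.negSucc 0, Int.ofNat 1, Int.negSucc 0, Int.negSucc 0, Int.negSucc 0, Int.ofNat 1, Int.ofNat 1, Int.negSucc 0, Int.negSucc 0],
  [Int.ofNat 0, Int.negSucc 1, Int.ofNat 0, Int.ofNat 0, Int.ofNat 0, Int.ofNat 0, Int.ofNat 0, Int.ofNat 0, Int.ofNat 2, Int.ofNat 0, Int.ofNat 0, Int.ofNat 0, Int.ofNat 2, Int.ofNat 0, Int.ofNat 2, Int.ofNat 0, Int.ofNat 0, Int.ofNat 0, Int.ofNat 2, Int.ofNat 0, Int.ofNat 2, Int.ofNat 2, Int.negSucc 1, Int.ofNat 0],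
  [Int.ofNat 0, Int.ofNat 0, Int.ofNat 0, Int.ofNat 0, Int.ofNat 2, Int.ofNat 0, Int.ofNat 0, Int.ofNat 0, Int.ofNat 2, Int.ofNat 0, Int.ofNat 2, Int.ofNat 0, Int.ofNat 0, Int.ofNat 0, Int.negSucc 1, Int.ofNat 0, Int.ofNat 2, Int.ofNat 2, Int.negSucc 1, Int.ofNat 0, Int.ofNat 2, Int.ofNat 0, Int.ofNat 0, Int.ofNat 0],
  [Int.ofNat 0, Int.ofNat 0, Int.ofNat 0, Int.ofNat 0, Int.ofNat 0, Int.ofNat 0, Int.ofNat 0, Int.ofNat 0, Int.ofNat 2, Int.negSucc 1, Int.ofNat 0, Int.ofNat 0, Int.ofNat 0, Int.negSucc 1, Int.negSucc 1, Int.negSucc 1, Int.ofNat 0, Int.ofNat 2, Int.negSucc 1, Int.ofNat 0, Int.ofNat 0, Int.ofNat 0, Int.negSucc 1, Int.ofNat 0],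
  [Int.ofNat 0, Int.ofNat 0, Int.ofNat 0, Int.ofNat 0, Int.ofNat 0, Int.ofNat 0, Int.ofNat 0, Int.ofNat 0, Int.ofNat 2, Int.ofNat 2, Int.ofNat 0, Int.ofNat 0, Int.ofNat 0, Int.negSucc 1, Int.negSucc 1, Int.ofNat 2, Int.ofNat 0, Int.ofNat 2, Int.ofNat 2, Int.ofNat 0, Int.ofNat 0, Int.ofNat 0, Int.ofNat 2, Int.ofNat 0],
  [Int.ofNat 0, Int.ofNat 0, Int.ofNat 0, Int.ofNat 2, Int.negSucc 1, Int.ofNat 0, Int.ofNat 0, Int.ofNat 0, Int.ofNat 0, Int.ofNat 0, Int.negSucc 1, Int.ofNat 0, Int.ofNat 2, Int.ofNat 0, Int.ofNat 2, Int.ofNat 2, Int.ofNat 0, Int.ofNat 0, Int.ofNat 2, Int.ofNat 0, Int.ofNat 0, Int.ofNat 0, Int.ofNat 2, Int.ofNat 0],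
  [Int.ofNat 0, Int.ofNat 2, Int.ofNat 0, Int.ofNat 2, Int.ofNat 0, Int.ofNat 0, Int.ofNat 0, Int.ofNat 0, Int.ofNat 0, Int.ofNat 0, Int.ofNat 0, Int.ofNat 0, Int.ofNat 0, Int.ofNat 0, Int.ofNat 2, Int.ofNat 2, Int.negSucc 1, Int.negSucc 1, Int.ofNat 2, Int.ofNat 0, Int.ofNat 0, Int.ofNat 2, Int.ofNat 0, Int.ofNat 0],
  [Int.ofNat 0, Int.ofNat 2, Int.ofNat 0, Int.ofNat 2, Int.ofNat 0, Int.ofNat 0, Int.ofNat 0, Int.ofNat 0, Int.ofNat 0, Int.ofNat 0, Int.ofNat 0, Int.ofNat 0, Int.ofNat 0, Int.ofNat 0, Int.ofNat 2, Int.ofNat 2, Int.negSucc 1, Int.negSucc 1, Int.negSucc 1, Int.ofNat 0, Int.ofNat 0, Int.negSucc 1, Int.ofNat 0, Int.ofNat 0],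
  [Int.ofNat 0, Int.ofNat 0, Int.ofNat 2, Int.ofNat 0, Int.ofNat 2, Int.ofNat 0, Int.ofNat 0, Int.ofNat 0, Int.ofNat 0, Int.ofNat 0, Int.ofNat 0, Int.ofNat 0, Int.ofNat 0, Int.ofNat 0, Int.ofNat 0, Int.ofNat 2, Int.ofNat 2, Int.negSucc 1, Int.negSucc 1, Int.negSucc 1, Int.ofNat 0, Int.ofNat 0, Int.negSucc 1, Int.ofNat 0],
  [Int.ofNat 1, Int.ofNat 1, Int.negSucc 0, Int.ofNat 1, Int.ofNat 1, Int.ofNat 1, Int.ofNat 1, Int.ofNat 1, Int.ofNat 1, Int.negSucc 0, Int.negSucc 0, Int.ofNat 1, Int.ofNat 1, Int.negSucc 0, Int.ofNat 1, Int.ofNat 1, Int.ofNat 1, Int.negSucc 0, Int.negSucc 0, Int.negSucc 0, Int.negSucc 0, Int.ofNat 1, Int.negSucc 2, Int.ofNat 1],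
  [Int.ofNat 1, Int.ofNat 1, Int.ofNat 1, Int.ofNat 1, Int.ofNat 1, Int.ofNat 1, Int.negSucc 0, Int.negSucc 0, Int.ofNat 1, Int.ofNat 1, Int.negSucc 0, Int.ofNat 1, Int.ofNat 1, Int.ofNat 1, Int.negSucc 0, Int.negSucc 0, Int.negSucc 0, Int.negSucc 0, Int.ofNat 1, Int.negSucc 2, Int.ofNat 1, Int.ofNat 1, Int.negSucc 0, Int.ofNat 1],
  [Int.ofNat 1, Int.ofNat 1, Int.ofNat 1, Int.ofNat 1, Int.ofNat 1, Int.ofNat 1, Int.ofNat 1, Int.ofNat 1, Int.negSucc 0, Int.ofNat 1, Int.negSucc 0, Int.negSucc 0, Int.negSucc 0, Int.ofNat 1, Int.negSucc 0, Int.negSucc 0, Int.negSucc 0, Int.negSucc 0, Int.negSucc 0, Int.negSucc 0, Int.ofNat 1, Int.ofNat 3, Int.negSucc 0, Int.ofNat 1],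
  [Int.ofNat 1, Int.ofNat 1, Int.ofNat 1, Int.ofNat 1, Int.negSucc 0, Int.ofNat 1, Int.ofNat 1, Int.negSucc 0, Int.negSucc 0, Int.ofNat 1, Int.ofNat 1, Int.negSucc 0, Int.ofNat 1, Int.negSucc 0, Int.negSucc 0, Int.negSucc 0, Int.negSucc 0, Int.negSucc 0, Int.ofNat 1, Int.negSucc 0, Int.ofNat 3, Int.ofNat 1, Int.negSucc 0, Int.ofNat 1],
  [Int.ofNat 1, Int.ofNat 1, Int.ofNat 1, Int.ofNat 1, Int.ofNat 1, Int.ofNat 1, Int.ofNat 1, Int.negSucc 0, Int.negSucc 0, Int.negSucc 0, Int.negSucc 0, Int.negSucc 0, Int.ofNat 1, Int.ofNat 1, Int.negSucc 0, Int.negSucc 2, Int.ofNat 1, Int.negSucc 0, Int.ofNat 1, Int.negSucc 0, Int.ofNat 1, Int.ofNat 1, Int.ofNat 1, Int.ofNat 1],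
  [Int.ofNat 1, Int.ofNat 1, Int.negSucc 0, Int.ofNat 1, Int.ofNat 1, Int.negSucc 0, Int.negSucc 0, Int.negSucc 0, Int.negSucc 0, Int.ofNat 1, Int.ofNat 1, Int.negSucc 0, Int.ofNat 1, Int.ofNat 1, Int.negSucc 0, Int.ofNat 3, Int.ofNat 1, Int.negSucc 0, Int.negSucc 0, Int.negSucc 0, Int.ofNat 1, Int.ofNat 1, Int.negSucc 0, Int.ofNat 1],
  [Int.ofNat 1, Int.negSucc 0, Int.ofNat 1, Int.ofNat 1, Int.negSucc 0, Int.ofNat 1, Int.ofNat 1, Int.ofNat 1, Int.negSucc 0, Int.negSucc 0, Int.ofNat 1, Int.negSucc 0, Int.ofNat 1, Int.ofNat 1, Int.ofNat 1, Int.negSucc 0, Int.negSucc 0, Int.negSucc 0, Int.negSucc 0, Int.ofNat 1, Int.negSucc 0, Int.negSucc 0, Int.ofNat 3, Int.ofNat 1],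
  [Int.ofNat 1, Int.negSucc 0, Int.negSucc 0, Int.ofNat 1, Int.negSucc 0, Int.negSucc 0, Int.negSucc 0, Int.ofNat 1, Int.negSucc 0, Int.ofNat 1, Int.negSucc 0, Int.negSucc 0, Int.ofNat 1, Int.ofNat 1, Int.ofNat 1, Int.ofNat 1, Int.negSucc 0, Int.negSucc 0, Int.ofNat 1, Int.ofNat 1, Int.negSucc 0, Int.negSucc 0, Int.negSucc 2, Int.ofNat 1],
  [Int.negSucc 0, Int.ofNat 1, Int.ofNat 1, Int.ofNat 1, Int.ofNat 1, Int.negSucc 0, Int.negSucc 0, Int.ofNat 1, Int.negSucc 0, Int.ofNat 1, Int.negSucc 0, Int.negSucc 0, Int.ofNat 1, Int.ofNat 3, Int.ofNat 1, Int.ofNat 1, Int.ofNat 1, Int.negSucc 0, Int.ofNat 1, Int.ofNat 1, Int.negSucc 0, Int.negSucc 0, Int.negSucc 0, Int.negSucc 0],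
  [Int.negSucc 0, Int.ofNat 1, Int.negSucc 0, Int.ofNat 1, Int.ofNat 1, Int.negSucc 0, Int.ofNat 1, Int.negSucc 0, Int.ofNat 1, Int.ofNat 1, Int.ofNat 1, Int.ofNat 1, Int.negSucc 0, Int.ofNat 1, Int.negSucc 0, Int.ofNat 1, Int.ofNat 3, Int.negSucc 0, Int.ofNat 1, Int.negSucc 0, Int.negSucc 0, Int.negSucc 0, Int.ofNat 1, Int.negSucc 0],
  [Int.ofNat 0, Int.negSucc 1, Int.ofNat 0, Int.ofNat 2, Int.negSucc 1, Int.ofNat 0, Int.ofNat 2, Int.ofNat 0, Int.ofNat 0, Int.ofNat 0, Int.ofNat 0, Int.ofNat 0, Int.negSucc 1, Int.negSucc 1, Int.ofNat 0, Int.ofNat 0, Int.ofNat 0, Int.ofNat 0, Int.ofNat 0, Int.ofNat 0, Int.negSucc 1, Int.ofNat 0, Int.negSucc 1, Int.ofNat 0],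
  [Int.negSucc 1, Int.ofNat 0, Int.negSucc 1, Int.ofNat 0, Int.negSucc 1, Int.ofNat 0, Int.ofNat 2, Int.negSucc 1, Int.ofNat 0, Int.ofNat 2, Int.ofNat 0, Int.ofNat 0, Int.ofNat 0, Int.ofNat 0, Int.ofNat 0, Int.negSucc 1, Int.negSucc 1, Int.ofNat 0, Int.ofNat 0, Int.ofNat 0, Int.ofNat 0, Int.ofNat 0, Int.ofNat 0, Int.ofNat 0],
  [Int.ofNat 0, Int.negSucc 1, Int.ofNat 0, Int.ofNat 0, Int.ofNat 0, Int.ofNat 0, Int.ofNat 2, Int.negSucc 1, Int.ofNat 0, Int.ofNat 2, Int.ofNat 0, Int.ofNat 0, Int.ofNat 0, Int.ofNat 2, Int.ofNat 0, Int.negSucc 1, Int.ofNat 0, Int.ofNat 0, Int.ofNat 0, Int.ofNat 0, Int.ofNat 0, Int.ofNat 0, Int.ofNat 2, Int.negSucc 1],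
  [Int.negSucc 1, Int.ofNat 0, Int.ofNat 0, Int.ofNat 0, Int.ofNat 0, Int.ofNat 2, Int.negSucc 1, Int.ofNat 0, Int.ofNat 2, Int.ofNat 0, Int.ofNat 0, Int.ofNat 0, Int.ofNat 2, Int.ofNat 0, Int.negSucc 1, Int.ofNat 0, Int.ofNat 0, Int.ofNat 0, Int.ofNat 0, Int.ofNat 0, Int.ofNat 0, Int.ofNat 2, Int.ofNat 0, Int.negSucc 1],
  [Int.ofNat 2, Int.ofNat 0, Int.ofNat 0, Int.ofNat 0, Int.ofNat 0, Int.ofNat 2, Int.negSucc 1, Int.ofNat 0, Int.ofNat 2, Int.ofNat 0, Int.ofNat 0, Int.ofNat 0, Int.ofNat 2, Int.ofNat 0, Int.negSucc 1, Int.ofNat 0, Int.ofNat 0, Int.ofNat 0, Int.ofNat 0, Int.ofNat 0, Int.ofNat 0, Int.negSucc 1, Int.ofNat 0, Int.negSucc 1],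
  [Int.negSucc 1, Int.ofNat 0, Int.ofNat 0, Int.ofNat 0, Int.ofNat 0, Int.ofNat 2, Int.ofNat 2, Int.ofNat 0, Int.negSucc 1, Int.ofNat 0, Int.ofNat 0, Int.ofNat 0, Int.negSucc 1, Int.ofNat 0, Int.negSucc 1, Int.ofNat 0, Int.ofNat 0, Int.ofNat 0, Int.ofNat 0, Int.ofNat 0, Int.ofNat 0, Int.negSucc 1, Int.ofNat 0, Int.negSucc 1],
  [Int.negSucc 1, Int.ofNat 0, Int.ofNat 0, Int.ofNat 0, Int.ofNat 0, Int.ofNat 0, Int.ofNat 0, Int.ofNat 0, Int.ofNat 0, Int.ofNat 0, Int.negSucc 1, Int.negSucc 1, Int.ofNat 0, Int.negSucc 1, Int.ofNat 0, Int.ofNat 0, Int.negSucc 1, Int.ofNat 0, Int.ofNat 2, Int.ofNat 0, Int.ofNat 2, Int.ofNat 0, Int.ofNat 0, Int.negSucc 1],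
  [Int.ofNat 2, Int.ofNat 0, Int.ofNat 0, Int.ofNat 0, Int.ofNat 0, Int.ofNat 0, Int.ofNat 0, Int.ofNat 0, Int.ofNat 0, Int.ofNat 0, Int.ofNat 2, Int.ofNat 2, Int.ofNat 0, Int.negSucc 1, Int.ofNat 0, Int.ofNat 0, Int.negSucc 1, Int.ofNat 0, Int.negSucc 1, Int.ofNat 0, Int.ofNat 2, Int.ofNat 0, Int.ofNat 0, Int.negSucc 1],
  [Int.ofNat 0, Int.ofNat 2, Int.ofNat 0, Int.ofNat 0, Int.ofNat 0, Int.ofNat 0, Int.ofNat 0, Int.ofNat 0, Int.ofNat 0, Int.ofNat 0, Int.ofNat 0, Int.ofNat 2, Int.ofNat 2, Int.ofNat 0, Int.negSucc 1, Int.ofNat 0, Int.ofNat 0, Int.negSucc 1, Int.ofNat 0, Int.negSucc 1, Int.ofNat 0, Int.ofNat 2, Int.ofNat 0, Int.negSucc 1],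
  [Int.ofNat 0, Int.negSucc 1, Int.ofNat 0, Int.ofNat 2, Int.ofNat 0, Int.ofNat 2, Int.ofNat 0, Int.ofNat 0, Int.negSucc 1, Int.ofNat 0, Int.ofNat 0, Int.ofNat 0, Int.ofNat 0, Int.ofNat 0, Int.ofNat 0, Int.ofNat 0, Int.ofNat 0, Int.ofNat 0, Int.negSucc 1, Int.negSucc 1, Int.ofNat 0, Int.ofNat 2, Int.ofNat 0, Int.ofNat 2],
  [Int.ofNat 2, Int.ofNat 0, Int.ofNat 2, Int.ofNat 0, Int.ofNat 0, Int.negSucc 1, Int.ofNat 0, Int.ofNat 0, Int.ofNat 0, Int.ofNat 0, Int.ofNat 0, Int.ofNat 0, Int.ofNat 0, Int.ofNat 0, Int.ofNat 0, Int.negSucc 1, Int.negSucc 1, Int.ofNat 0, Int.ofNat 2, Int.ofNat 0, Int.ofNat 0, Int.negSucc 1, Int.ofNat 0, Int.ofNat 2],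
  [Int.ofNat 1, Int.ofNat 3, Int.ofNat 1, Int.ofNat 1, Int.ofNat 1, Int.negSucc 0, Int.ofNat 1, Int.ofNat 1, Int.negSucc 0, Int.ofNat 1, Int.ofNat 1, Int.negSucc 0, Int.negSucc 0, Int.ofNat 1, Int.ofNat 1, Int.negSucc 0, Int.negSucc 0, Int.ofNat 1, Int.ofNat 1, Int.ofNat 1, Int.ofNat 1, Int.negSucc 0, Int.ofNat 1, Int.ofNat 1],
  [Int.ofNat 1, Int.ofNat 1, Int.ofNat 1, Int.ofNat 1, Int.ofNat 1, Int.ofNat 1, Int.ofNat 1, Int.ofNat 1, Int.negSucc 0, Int.ofNat 1, Int.ofNat 1, Int.ofNat 1, Int.ofNat 1, Int.negSucc 0, Int.ofNat 1, Int.negSucc 0, Int.negSucc 0, Int.ofNat 1, Int.ofNat 3, Int.negSucc 0, Int.negSucc 0, Int.negSucc 0, Int.ofNat 1, Int.ofNat 1],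
  [Int.ofNat 1, Int.ofNat 1, Int.ofNat 1, Int.negSucc 0, Int.ofNat 1, Int.negSucc 0, Int.ofNat 1, Int.ofNat 1, Int.negSucc 2, Int.ofNat 1, Int.ofNat 1, Int.negSucc 0, Int.negSucc 0, Int.negSucc 0, Int.negSucc 0, Int.negSucc 0, Int.negSucc 0, Int.negSucc 0, Int.ofNat 1, Int.negSucc 0, Int.negSucc 0, Int.negSucc 0, Int.ofNat 1, Int.ofNat 1],
  [Int.ofNat 1, Int.ofNat 1, Int.negSucc 0, Int.negSucc 0, Int.ofNat 1, Int.ofNat 1, Int.negSucc 0, Int.ofNat 1, Int.negSucc 2, Int.negSucc 0, Int.negSucc 0, Int.negSucc 0, Int.negSucc 0, Int.negSucc 0, Int.negSucc 0, Int.ofNat 1, Int.negSucc 0, Int.negSucc 0, Int.negSucc 0, Int.negSucc 0, Int.negSucc 0, Int.negSucc 0, Int.negSucc 0, Int.ofNat 1],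
  [Int.negSucc 0, Int.negSucc 0, Int.negSucc 0, Int.negSucc 2, Int.negSucc 0, Int.negSucc 0, Int.negSucc 0, Int.negSucc 0, Int.ofNat 1, Int.negSucc 0, Int.negSucc 0, Int.ofNat 1, Int.ofNat 1, Int.ofNat 1, Int.negSucc 0, Int.negSucc 0, Int.negSucc 0, Int.negSucc 0, Int.negSucc 0, Int.negSucc 0, Int.ofNat 1, Int.ofNat 1, Int.negSucc 0, Int.ofNat 1],
  [Int.ofNat 1, Int.negSucc 0, Int.ofNat 1, Int.negSucc 0, Int.negSucc 0, Int.negSucc 0, Int.negSucc 0, Int.ofNat 1, Int.ofNat 1, Int.negSucc 0, Int.negSucc 0, Int.negSucc 0, Int.ofNat 1, Int.negSucc 0, Int.negSucc 0, Int.negSucc 2, Int.negSucc 0, Int.negSucc 0, Int.negSucc 0, Int.negSucc 0, Int.ofNat 1, Int.ofNat 1, Int.negSucc 0, Int.negSucc 0],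
  [Int.negSucc 0, Int.negSucc 0, Int.negSucc 0, Int.negSucc 0, Int.negSucc 0, Int.negSucc 0, Int.negSucc 0, Int.negSucc 0, Int.ofNat 1, Int.ofNat 1, Int.ofNat 1, Int.ofNat 1, Int.ofNat 1, Int.negSucc 0, Int.negSucc 0, Int.negSucc 2, Int.negSucc 0, Int.negSucc 0, Int.ofNat 1, Int.negSucc 0, Int.ofNat 1, Int.negSucc 0, Int.negSucc 0, Int.negSucc 0],
  [Int.negSucc 0, Int.negSucc 0, Int.negSucc 0, Int.negSucc 0, Int.negSucc 0, Int.negSucc 0, Int.negSucc 0, Int.negSucc 0, Int.negSucc 0, Int.ofNat 1, Int.ofNat 1, Int.ofNat 1, Int.ofNat 1, Int.ofNat 1, Int.negSucc 0, Int.negSucc 0, Int.negSucc 2, Int.negSucc 0, Int.negSucc 0, Int.ofNat 1, Int.negSucc 0, Int.ofNat 1, Int.negSucc 0, Int.negSucc 0],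
  [Int.negSucc 0, Int.negSucc 0, Int.negSucc 0, Int.ofNat 1, Int.ofNat 1, Int.ofNat 1, Int.negSucc 0, Int.negSucc 0, Int.negSucc 0, Int.ofNat 1, Int.ofNat 1, Int.ofNat 1, Int.ofNat 1, Int.ofNat 3, Int.ofNat 1, Int.negSucc 0, Int.negSucc 0, Int.ofNat 1, Int.negSucc 0, Int.ofNat 1, Int.negSucc 0, Int.ofNat 1, Int.ofNat 1, Int.negSucc 0],
  [Int.ofNat 1, Int.ofNat 1, Int.ofNat 1, Int.negSucc 0, Int.negSucc 0, Int.negSucc 0, Int.ofNat 1, Int.ofNat 1, Int.ofNat 1, Int.ofNat 1, Int.ofNat 3, Int.ofNat 1, Int.negSucc 0, Int.negSucc 0, Int.ofNat 1, Int.negSucc 0, Int.ofNat 1, Int.negSucc 0, Int.ofNat 1, Int.ofNat 1, Int.negSucc 0, Int.negSucc 0, Int.negSucc 0, Int.negSucc 0],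
  [Int.ofNat 0, Int.ofNat 0, Int.ofNat 0, Int.ofNat 0, Int.ofNat 0, Int.ofNat 0, Int.ofNat 0, Int.ofNat 0, Int.ofNat 0, Int.ofNat 0, Int.ofNat 2, Int.ofNat 0, Int.negSucc 1, Int.ofNat 0, Int.ofNat 2, Int.negSucc 1, Int.ofNat 2, Int.ofNat 0, Int.ofNat 0, Int.ofNat 0, Int.negSucc 1, Int.negSucc 1, Int.ofNat 0, Int.ofNat 2],
  [Int.ofNat 0, Int.ofNat 0, Int.ofNat 0, Int.ofNat 0, Int.ofNat 0, Int.ofNat 0, Int.ofNat 0, Int.ofNat 2, Int.negSucc 1, Int.ofNat 0, Int.negSucc 1, Int.ofNat 0, Int.ofNat 0, Int.ofNat 2, Int.ofNat 0, Int.negSucc 1, Int.ofNat 0, Int.ofNat 2, Int.ofNat 0, Int.ofNat 0, Int.negSucc 1, Int.ofNat 0, Int.ofNat 0, Int.ofNat 2],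
  [Int.ofNat 1, Int.ofNat 1, Int.ofNat 1, Int.negSucc 0, Int.negSucc 0, Int.negSucc 0, Int.negSucc 0, Int.ofNat 1, Int.negSucc 0, Int.ofNat 3, Int.ofNat 1, Int.ofNat 1, Int.ofNat 1, Int.ofNat 1, Int.negSucc 0, Int.ofNat 1, Int.negSucc 0, Int.ofNat 1, Int.ofNat 1, Int.negSucc 0, Int.ofNat 1, Int.negSucc 0, Int.negSucc 0, Int.negSucc 0],
  [Int.ofNat 1, Int.ofNat 1, Int.negSucc 0, Int.negSucc 0, Int.negSucc 0, Int.ofNat 1, Int.ofNat 1, Int.ofNat 1, Int.negSucc 0, Int.negSucc 2, Int.negSucc 0, Int.ofNat 1, Int.ofNat 1, Int.ofNat 1, Int.negSucc 0, Int.negSucc 0, Int.negSucc 0, Int.ofNat 1, Int.negSucc 0, Int.negSucc 0, Int.ofNat 1, Int.negSucc 0, Int.ofNat 1, Int.negSucc 0],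
  [Int.ofNat 1, Int.ofNat 1, Int.ofNat 1, Int.ofNat 1, Int.negSucc 0, Int.ofNat 1, Int.negSucc 2, Int.negSucc 0, Int.negSucc 0, Int.ofNat 1, Int.negSucc 0, Int.negSucc 0, Int.negSucc 0, Int.negSucc 0, Int.ofNat 1, Int.ofNat 1, Int.ofNat 1, Int.negSucc 0, Int.ofNat 1, Int.negSucc 0, Int.ofNat 1, Int.negSucc 0, Int.negSucc 0, Int.negSucc 0],
  [Int.ofNat 1, Int.ofNat 1, Int.negSucc 0, Int.ofNat 1, Int.negSucc 0, Int.negSucc 0, Int.ofNat 3, Int.negSucc 0, Int.negSucc 0, Int.negSucc 0, Int.ofNat 1, Int.negSucc 0, Int.negSucc 0, Int.negSucc 0, Int.ofNat 1, Int.negSucc 0, Int.ofNat 1, Int.negSucc 0, Int.negSucc 0, Int.negSucc 0, Int.ofNat 1, Int.negSucc 0, Int.ofNat 1, Int.negSucc 0],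
  [Int.negSucc 0, Int.negSucc 0, Int.ofNat 1, Int.ofNat 1, Int.negSucc 0, Int.negSucc 0, Int.ofNat 3, Int.negSucc 0, Int.ofNat 1, Int.negSucc 0, Int.ofNat 1, Int.ofNat 1, Int.ofNat 1, Int.negSucc 0, Int.ofNat 1, Int.negSucc 0, Int.ofNat 1, Int.negSucc 0, Int.ofNat 1, Int.negSucc 0, Int.ofNat 1, Int.negSucc 0, Int.ofNat 1, Int.ofNat 1],
  [Int.negSucc 0, Int.ofNat 1, Int.ofNat 3, Int.ofNat 1, Int.ofNat 1, Int.negSucc 0, Int.negSucc 0, Int.negSucc 0, Int.ofNat 1, Int.ofNat 1, Int.negSucc 0, Int.negSucc 0, Int.ofNat 1, Int.negSucc 0, Int.negSucc 0, Int.negSucc 0, Int.negSucc 0, Int.ofNat 1, Int.negSucc 0, Int.ofNat 1, Int.ofNat 1, Int.ofNat 1, Int.ofNat 1, Int.ofNat 1],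
  [Int.ofNat 3, Int.ofNat 1, Int.negSucc 0, Int.ofNat 1, Int.ofNat 1, Int.negSucc 0, Int.negSucc 0, Int.negSucc 0, Int.ofNat 1, Int.ofNat 1, Int.negSucc 0, Int.negSucc 0, Int.ofNat 1, Int.negSucc 0, Int.negSucc 0, Int.negSucc 0, Int.negSucc 0, Int.ofNat 1, Int.negSucc 0, Int.ofNat 1, Int.ofNat 1, Int.ofNat 1, Int.ofNat 1, Int.ofNat 1],
  [Int.ofNat 1, Int.ofNat 1, Int.ofNat 1, Int.ofNat 3, Int.ofNat 1, Int.negSucc 0, Int.ofNat 1, Int.ofNat 1, Int.negSucc 0, Int.negSucc 0, Int.negSucc 0, Int.ofNat 1, Int.ofNat 1, Int.negSucc 0, Int.negSucc 0, Int.ofNat 1, Int.negSucc 0, Int.negSucc 0, Int.negSucc 0, Int.negSucc 0, Int.ofNat 1, Int.negSucc 0, Int.ofNat 1, Int.ofNat 1],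
  [Int.ofNat 1, Int.ofNat 1, Int.ofNat 1, Int.ofNat 3, Int.ofNat 1, Int.negSucc 0, Int.ofNat 1, Int.ofNat 1, Int.negSucc 0, Int.negSucc 0, Int.negSucc 0, Int.ofNat 1, Int.ofNat 1, Int.negSucc 0, Int.negSucc 0, Int.ofNat 1, Int.negSucc 0, Int.negSucc 0, Int.negSucc 0, Int.negSucc 0, Int.ofNat 1, Int.negSucc 0, Int.ofNat 1, Int.ofNat 1],
  [Int.ofNat 1, Int.ofNat 1, Int.ofNat 3, Int.ofNat 1, Int.negSucc 0, Int.ofNat 1, Int.ofNat 1, Int.negSucc 0, Int.negSucc 0, Int.negSucc 0, Int.ofNat 1, Int.ofNat 1, Int.negSucc 0, Int.negSucc 0, Int.ofNat 1, Int.negSucc 0, Int.negSucc 0, Int.negSucc 0, Int.negSucc 0, Int.ofNat 1, Int.negSucc 0, Int.ofNat 1, Int.ofNat 1, Int.ofNat 1],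
  [Int.negSucc 0, Int.ofNat 1, Int.negSucc 2, Int.ofNat 1, Int.negSucc 0, Int.ofNat 1, Int.ofNat 1, Int.ofNat 1, Int.negSucc 0, Int.ofNat 1, Int.negSucc 0, Int.negSucc 0, Int.negSucc 0, Int.negSucc 0, Int.ofNat 1, Int.negSucc 0, Int.negSucc 0, Int.negSucc 0, Int.ofNat 1, Int.ofNat 1, Int.negSucc 0, Int.negSucc 0, Int.ofNat 1, Int.ofNat 1],
  [Int.ofNat 1, Int.negSucc 0, Int.ofNat 3, Int.negSucc 0, Int.ofNat 1, Int.ofNat 1, Int.negSucc 0, Int.ofNat 1, Int.ofNat 1, Int.negSucc 0, Int.negSucc 0, Int.negSucc 0, Int.ofNat 1, Int.ofNat 1, Int.ofNat 1, Int.negSucc 0, Int.ofNat 1, Int.negSucc 0, Int.negSucc 0, Int.ofNat 1, Int.negSucc 0, Int.negSucc 0, Int.ofNat 1, Int.ofNat 1],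
  [Int.ofNat 1, Int.ofNat 3, Int.negSucc 0, Int.negSucc 0, Int.negSucc 0, Int.negSucc 0, Int.ofNat 1, Int.negSucc 0, Int.negSucc 0, Int.ofNat 1, Int.negSucc 0, Int.ofNat 1, Int.ofNat 1, Int.ofNat 1, Int.ofNat 1, Int.negSucc 0, Int.ofNat 1, Int.ofNat 1, Int.negSucc 0, Int.negSucc 0, Int.ofNat 1, Int.ofNat 1, Int.negSucc 0, Int.ofNat 1],
  [Int.negSucc 0, Int.ofNat 3, Int.ofNat 1, Int.negSucc 0, Int.negSucc 0, Int.negSucc 0, Int.ofNat 1, Int.ofNat 1, Int.negSucc 0, Int.negSucc 0, Int.ofNat 1, Int.negSucc 0, Int.ofNat 1, Int.ofNat 1, Int.ofNat 1, Int.negSucc 0, Int.ofNat 1, Int.ofNat 1, Int.ofNat 1, Int.negSucc 0, Int.ofNat 1, Int.negSucc 0, Int.negSucc 0, Int.ofNat 1],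
  [Int.negSucc 0, Int.negSucc 0, Int.ofNat 3, Int.ofNat 1, Int.negSucc 0, Int.negSucc 0, Int.negSucc 0, Int.ofNat 1, Int.ofNat 1, Int.negSucc 0, Int.negSucc 0, Int.ofNat 1, Int.negSucc 0, Int.ofNat 1, Int.ofNat 1, Int.ofNat 1, Int.negSucc 0, Int.ofNat 1, Int.ofNat 1, Int.ofNat 1, Int.negSucc 0, Int.ofNat 1, Int.negSucc 0, Int.ofNat 1],
  [Int.ofNat 2, Int.ofNat 2, Int.negSucc 1, Int.ofNat 0, Int.ofNat 0, Int.negSucc 1, Int.negSucc 1, Int.ofNat 0, Int.ofNat 0, Int.ofNat 0, Int.ofNat 0, Int.ofNat 0, Int.negSucc 1, Int.ofNat 2, Int.ofNat 0, Int.ofNat 2, Int.ofNat 0, Int.ofNat 0, Int.ofNat 0, Int.ofNat 0, Int.ofNat 0, Int.ofNat 0, Int.ofNat 0, Int.ofNat 0],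
  [Int.ofNat 0, Int.ofNat 0, Int.negSucc 1, Int.negSucc 1, Int.ofNat 0, Int.ofNat 0, Int.ofNat 0, Int.ofNat 0, Int.ofNat 0, Int.negSucc 1, Int.ofNat 2, Int.ofNat 0, Int.ofNat 2, Int.ofNat 0, Int.ofNat 0, Int.ofNat 0, Int.ofNat 0, Int.ofNat 0, Int.ofNat 0, Int.ofNat 0, Int.ofNat 2, Int.ofNat 2, Int.negSucc 1, Int.ofNat 0],
  [Int.negSucc 0, Int.negSucc 0, Int.ofNat 1, Int.negSucc 0, Int.ofNat 1, Int.ofNat 1, Int.negSucc 0, Int.negSucc 0, Int.negSucc 0, Int.negSucc 2, Int.ofNat 1, Int.negSucc 0, Int.ofNat 1, Int.ofNat 1, Int.ofNat 1, Int.negSucc 0, Int.ofNat 1, Int.ofNat 1, Int.negSucc 0, Int.negSucc 0, Int.ofNat 1, Int.ofNat 1, Int.negSucc 0, Int.negSucc 0],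
  [Int.negSucc 0, Int.negSucc 0, Int.ofNat 1, Int.negSucc 0, Int.negSucc 0, Int.negSucc 0, Int.ofNat 1, Int.ofNat 1, Int.ofNat 1, Int.ofNat 1, Int.ofNat 1, Int.ofNat 1, Int.negSucc 2, Int.ofNat 1, Int.negSucc 0, Int.negSucc 0, Int.negSucc 0, Int.ofNat 1, Int.negSucc 0, Int.negSucc 0, Int.ofNat 1, Int.ofNat 1, Int.negSucc 0, Int.negSucc 0],
  [Int.ofNat 0, Int.ofNat 0, Int.negSucc 1, Int.ofNat 0, Int.ofNat 0, Int.ofNat 0, Int.ofNat 0, Int.ofNat 0, Int.ofNat 2, Int.ofNat 0, Int.ofNat 0, Int.ofNat 2, Int.negSucc 1, Int.ofNat 2, Int.ofNat 0, Int.negSucc 1, Int.ofNat 0, Int.ofNat 2, Int.ofNat 0, Int.negSucc 1, Int.ofNat 0, Int.ofNat 0, Int.ofNat 0, Int.ofNat 0],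
  [Int.ofNat 0, Int.ofNat 0, Int.ofNat 2, Int.ofNat 0, Int.ofNat 0, Int.ofNat 0, Int.ofNat 0, Int.ofNat 0, Int.ofNat 2, Int.ofNat 0, Int.ofNat 0, Int.ofNat 2, Int.negSucc 1, Int.ofNat 2, Int.ofNat 0, Int.ofNat 2, Int.ofNat 0, Int.ofNat 2, Int.ofNat 0, Int.negSucc 1, Int.ofNat 0, Int.ofNat 0, Int.ofNat 0, Int.ofNat 0],
  [Int.ofNat 0, Int.ofNat 0, Int.ofNat 2, Int.ofNat 2, Int.ofNat 0, Int.ofNat 0, Int.ofNat 0, Int.ofNat 0, Int.ofNat 0, Int.ofNat 0, Int.ofNat 2, Int.ofNat 0, Int.ofNat 2, Int.ofNat 0, Int.ofNat 2, Int.ofNat 0, Int.negSucc 1, Int.negSucc 1, Int.ofNat 0, Int.ofNat 2, Int.ofNat 0, Int.ofNat 0, Int.ofNat 0, Int.ofNat 0],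
  [Int.ofNat 0, Int.ofNat 0, Int.ofNat 0, Int.ofNat 0, Int.negSucc 1, Int.ofNat 0, Int.ofNat 2, Int.ofNat 0, Int.ofNat 0, Int.ofNat 0, Int.negSucc 1, Int.ofNat 2, Int.ofNat 0, Int.ofNat 0, Int.ofNat 0, Int.ofNat 2, Int.ofNat 2, Int.ofNat 0, Int.ofNat 2, Int.ofNat 0, Int.ofNat 0, Int.ofNat 2, Int.ofNat 0, Int.ofNat 0],
  [Int.ofNat 0, Int.ofNat 0, Int.ofNat 0, Int.ofNat 0, Int.negSucc 1, Int.ofNat 0, Int.ofNat 2, Int.ofNat 0, Int.ofNat 0, Int.ofNat 0, Int.ofNat 2, Int.negSucc 1, Int.ofNat 0, Int.ofNat 0, Int.ofNat 0, Int.ofNat 2, Int.ofNat 2, Int.ofNat 0, Int.negSucc 1, Int.ofNat 0, Int.ofNat 0, Int.negSucc 1, Int.ofNat 0, Int.ofNat 0],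
  [Int.ofNat 0, Int.ofNat 0, Int.ofNat 0, Int.ofNat 0, Int.ofNat 0, Int.negSucc 1, Int.ofNat 0, Int.ofNat 2, Int.ofNat 0, Int.ofNat 0, Int.ofNat 0, Int.ofNat 2, Int.negSucc 1, Int.ofNat 0, Int.ofNat 0, Int.ofNat 0, Int.ofNat 2, Int.ofNat 2, Int.ofNat 0, Int.negSucc 1, Int.ofNat 0, Int.ofNat 0, Int.negSucc 1, Int.ofNat 0],
  [Int.ofNat 0, Int.ofNat 0, Int.ofNat 0, Int.ofNat 0, Int.ofNat 0, Int.negSucc 1, Int.ofNat 0, Int.ofNat 2, Int.ofNat 0, Int.ofNat 0, Int.ofNat 0, Int.ofNat 2, Int.negSucc 1, Int.ofNat 0, Int.ofNat 0, Int.ofNat 0, Int.ofNat 2, Int.ofNat 2, Int.ofNat 0, Int.negSucc 1, Int.ofNat 0, Int.ofNat 0, Int.negSucc 1, Int.ofNat 0],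
  [Int.ofNat 0, Int.ofNat 0, Int.negSucc 1, Int.ofNat 0, Int.ofNat 2, Int.ofNat 0, Int.ofNat 0, Int.ofNat 0, Int.ofNat 2, Int.negSucc 1, Int.ofNat 0, Int.ofNat 0, Int.ofNat 0, Int.ofNat 2, Int.ofNat 2, Int.ofNat 0, Int.negSucc 1, Int.ofNat 0, Int.ofNat 0, Int.negSucc 1, Int.ofNat 0, Int.ofNat 0, Int.ofNat 0, Int.ofNat 0],
  [Int.negSucc 0, Int.negSucc 0, Int.ofNat 1, Int.negSucc 0, Int.ofNat 1, Int.negSucc 0, Int.ofNat 1, Int.ofNat 1, Int.ofNat 1, Int.negSucc 0, Int.ofNat 1, Int.negSucc 0, Int.negSucc 0, Int.ofNat 1, Int.ofNat 1, Int.ofNat 1, Int.negSucc 2, Int.negSucc 0, Int.negSucc 0, Int.negSucc 0, Int.ofNat 1, Int.ofNat 1, Int.negSucc 0, Int.negSucc 0],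
  [Int.negSucc 0, Int.ofNat 1, Int.ofNat 1, Int.negSucc 0, Int.negSucc 0, Int.ofNat 1, Int.ofNat 1, Int.ofNat 1, Int.negSucc 0, Int.ofNat 1, Int.ofNat 1, Int.negSucc 0, Int.negSucc 0, Int.negSucc 2, Int.negSucc 0, Int.ofNat 1, Int.ofNat 1, Int.ofNat 1, Int.negSucc 0, Int.negSucc 0, Int.ofNat 1, Int.negSucc 0, Int.negSucc 0, Int.negSucc 0],
  [Int.ofNat 1, Int.negSucc 0, Int.negSucc 0, Int.negSucc 0, Int.ofNat 1, Int.ofNat 1, Int.ofNat 1, Int.ofNat 1, Int.ofNat 1, Int.negSucc 0, Int.negSucc 0, Int.ofNat 1, Int.ofNat 1, Int.negSucc 0, Int.negSucc 0, Int.negSucc 0, Int.ofNat 3, Int.ofNat 1, Int.ofNat 1, Int.negSucc 0, Int.negSucc 0, Int.negSucc 0, Int.ofNat 1, Int.ofNat 1],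
  [Int.ofNat 1, Int.negSucc 0, Int.ofNat 1, Int.negSucc 0, Int.ofNat 1, Int.negSucc 0, Int.negSucc 0, Int.ofNat 1, Int.ofNat 1, Int.ofNat 1, Int.ofNat 1, Int.ofNat 1, Int.ofNat 1, Int.negSucc 0, Int.negSucc 0, Int.ofNat 1, Int.ofNat 3, Int.ofNat 1, Int.negSucc 0, Int.negSucc 0, Int.negSucc 0, Int.negSucc 0, Int.negSucc 0, Int.ofNat 1],
  [Int.negSucc 0, Int.ofNat 1, Int.negSucc 0, Int.ofNat 1, Int.ofNat 1, Int.negSucc 0, Int.ofNat 1, Int.ofNat 3, Int.negSucc 0, Int.negSucc 0, Int.ofNat 1, Int.negSucc 0, Int.negSucc 0, Int.ofNat 1, Int.ofNat 1, Int.ofNat 1, Int.ofNat 1, Int.negSucc 0, Int.negSucc 0, Int.negSucc 0, Int.negSucc 0, Int.ofNat 1, Int.ofNat 1, Int.ofNat 1],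
  [Int.negSucc 0, Int.ofNat 1, Int.ofNat 1, Int.ofNat 1, Int.ofNat 1, Int.ofNat 1, Int.negSucc 0, Int.ofNat 3, Int.negSucc 0, Int.ofNat 1, Int.negSucc 0, Int.negSucc 0, Int.negSucc 0, Int.ofNat 1, Int.ofNat 1, Int.negSucc 0, Int.ofNat 1, Int.negSucc 0, Int.ofNat 1, Int.negSucc 0, Int.negSucc 0, Int.ofNat 1, Int.negSucc 0, Int.ofNat 1],
  [Int.ofNat 2, Int.ofNat 0, Int.ofNat 0, Int.ofNat 0, Int.ofNat 0, Int.ofNat 0, Int.negSucc 1, Int.ofNat 2, Int.ofNat 0, Int.ofNat 2, Int.ofNat 0, Int.ofNat 0, Int.ofNat 0, Int.ofNat 0, Int.ofNat 0, Int.ofNat 0, Int.ofNat 0, Int.negSucc 1, Int.ofNat 2, Int.negSucc 1, Int.ofNat 0, Int.ofNat 0, Int.negSucc 1, Int.ofNat 0],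
  [Int.ofNat 2, Int.ofNat 2, Int.negSucc 1, Int.ofNat 0, Int.ofNat 0, Int.ofNat 0, Int.ofNat 0, Int.ofNat 0, Int.ofNat 0, Int.ofNat 0, Int.ofNat 2, Int.negSucc 1, Int.ofNat 0, Int.ofNat 2, Int.negSucc 1, Int.ofNat 0, Int.ofNat 0, Int.ofNat 0, Int.ofNat 0, Int.negSucc 1, Int.ofNat 0, Int.ofNat 0, Int.ofNat 0, Int.ofNat 0],
  [Int.negSucc 0, Int.negSucc 0, Int.ofNat 3, Int.ofNat 1, Int.negSucc 0, Int.ofNat 1, Int.ofNat 1, Int.ofNat 1, Int.ofNat 1, Int.negSucc 0, Int.ofNat 1, Int.negSucc 0, Int.ofNat 1, Int.ofNat 1, Int.negSucc 0, Int.negSucc 0, Int.negSucc 0, Int.ofNat 1, Int.ofNat 1, Int.negSucc 0, Int.negSucc 0, Int.ofNat 1, Int.negSucc 0, Int.ofNat 1],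
  [Int.negSucc 0, Int.ofNat 1, Int.negSucc 0, Int.negSucc 0, Int.negSucc 0, Int.ofNat 3, Int.ofNat 1, Int.negSucc 0, Int.ofNat 1, Int.ofNat 1, Int.ofNat 1, Int.ofNat 1, Int.negSucc 0, Int.ofNat 1, Int.negSucc 0, Int.ofNat 1, Int.ofNat 1, Int.negSucc 0, Int.negSucc 0, Int.negSucc 0, Int.ofNat 1, Int.ofNat 1, Int.negSucc 0, Int.ofNat 1],
  [Int.ofNat 1, Int.negSucc 0, Int.ofNat 1, Int.negSucc 0, Int.negSucc 0, Int.ofNat 3, Int.ofNat 1, Int.negSucc 0, Int.ofNat 1, Int.negSucc 0, Int.negSucc 0, Int.ofNat 1, Int.negSucc 0, Int.ofNat 1, Int.negSucc 0, Int.negSucc 0, Int.ofNat 1, Int.negSucc 0, Int.negSucc 0, Int.negSucc 0, Int.negSucc 0, Int.ofNat 1, Int.negSucc 0, Int.negSucc 0],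
  [Int.negSucc 0, Int.ofNat 1, Int.negSucc 0, Int.negSucc 0, Int.ofNat 3, Int.ofNat 1, Int.negSucc 0, Int.ofNat 1, Int.negSucc 0, Int.negSucc 0, Int.ofNat 1, Int.negSucc 0, Int.ofNat 1, Int.negSucc 0, Int.negSucc 0, Int.ofNat 1, Int.negSucc 0, Int.negSucc 0, Int.negSucc 0, Int.negSucc 0, Int.ofNat 1, Int.negSucc 0, Int.ofNat 1, Int.negSucc 0],
  [Int.ofNat 1, Int.ofNat 1, Int.ofNat 1, Int.negSucc 0, Int.ofNat 3, Int.ofNat 1, Int.negSucc 0, Int.negSucc 0, Int.negSucc 0, Int.ofNat 1, Int.negSucc 0, Int.ofNat 1, Int.ofNat 1, Int.negSucc 0, Int.negSucc 0, Int.ofNat 1, Int.negSucc 0, Int.negSucc 0, Int.ofNat 1, Int.negSucc 0, Int.ofNat 1, Int.ofNat 1, Int.ofNat 1, Int.negSucc 0],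
  [Int.negSucc 0, Int.negSucc 0, Int.negSucc 0, Int.ofNat 1, Int.negSucc 2, Int.ofNat 1, Int.ofNat 1, Int.negSucc 0, Int.ofNat 1, Int.negSucc 0, Int.negSucc 0, Int.ofNat 1, Int.negSucc 0, Int.ofNat 1, Int.negSucc 0, Int.ofNat 1, Int.ofNat 1, Int.negSucc 0, Int.negSucc 0, Int.negSucc 0, Int.ofNat 1, Int.ofNat 1, Int.ofNat 1, Int.negSucc 0],
  [Int.negSucc 0, Int.negSucc 0, Int.negSucc 0, Int.ofNat 1, Int.negSucc 0, Int.negSucc 0, Int.negSucc 2, Int.ofNat 1, Int.negSucc 0, Int.ofNat 1, Int.ofNat 1, Int.negSucc 0, Int.ofNat 1, Int.ofNat 1, Int.negSucc 0, Int.ofNat 1, Int.negSucc 0, Int.ofNat 1, Int.ofNat 1, Int.negSucc 0, Int.ofNat 1, Int.negSucc 0, Int.ofNat 1, Int.negSucc 0],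
  [Int.ofNat 1, Int.negSucc 0, Int.ofNat 1, Int.ofNat 1, Int.negSucc 0, Int.negSucc 0, Int.negSucc 2, Int.negSucc 0, Int.negSucc 0, Int.negSucc 0, Int.negSucc 0, Int.ofNat 1, Int.ofNat 1, Int.ofNat 1, Int.negSucc 0, Int.ofNat 1, Int.negSucc 0, Int.ofNat 1, Int.negSucc 0, Int.negSucc 0, Int.ofNat 1, Int.ofNat 1, Int.ofNat 1, Int.negSucc 0],
  [Int.ofNat 1, Int.ofNat 1, Int.negSucc 0, Int.ofNat 1, Int.ofNat 1, Int.negSucc 0, Int.negSucc 0, Int.negSucc 2, Int.negSucc 0, Int.negSucc 0, Int.negSucc 0, Int.negSucc 0, Int.ofNat 1, Int.ofNat 1, Int.ofNat 1, Int.negSucc 0, Int.ofNat 1, Int.negSucc 0, Int.ofNat 1, Int.negSucc 0, Int.negSucc 0, Int.ofNat 1, Int.ofNat 1, Int.negSucc 0],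
  [Int.negSucc 0, Int.negSucc 0, Int.ofNat 1, Int.ofNat 1, Int.negSucc 0, Int.negSucc 0, Int.ofNat 1, Int.negSucc 0, Int.negSucc 0, Int.ofNat 1, Int.ofNat 1, Int.negSucc 0, Int.ofNat 1, Int.negSucc 0, Int.ofNat 1, Int.ofNat 1, Int.negSucc 0, Int.negSucc 0, Int.ofNat 1, Int.ofNat 1, Int.ofNat 1, Int.ofNat 3, Int.negSucc 0, Int.ofNat 1],
  [Int.ofNat 1, Int.negSucc 0, Int.negSucc 0, Int.ofNat 1, Int.negSucc 0, Int.negSucc 0, Int.ofNat 1, Int.ofNat 1, Int.negSucc 0, Int.ofNat 1, Int.negSucc 0, Int.ofNat 1, Int.ofNat 1, Int.negSucc 0, Int.negSucc 0, Int.ofNat 1, Int.ofNat 1, Int.ofNat 1, Int.ofNat 3, Int.negSucc 0, Int.negSucc 0, Int.negSucc 0, Int.ofNat 1, Int.ofNat 1],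
  [Int.negSucc 0, Int.ofNat 1, Int.ofNat 1, Int.ofNat 1, Int.negSucc 0, Int.negSucc 0, Int.ofNat 1, Int.ofNat 1, Int.negSucc 2, Int.ofNat 1, Int.negSucc 0, Int.negSucc 0, Int.negSucc 0, Int.negSucc 0, Int.negSucc 0, Int.ofNat 1, Int.ofNat 1, Int.ofNat 1, Int.ofNat 1, Int.negSucc 0, Int.negSucc 0, Int.negSucc 0, Int.ofNat 1, Int.negSucc 0],
  [Int.negSucc 0, Int.ofNat 1, Int.negSucc 0, Int.ofNat 1, Int.ofNat 1, Int.ofNat 1, Int.ofNat 1, Int.negSucc 0, Int.negSucc 0, Int.negSucc 0, Int.negSucc 0, Int.ofNat 1, Int.ofNat 1, Int.ofNat 1, Int.ofNat 1, Int.ofNat 1, Int.negSucc 2, Int.negSucc 0, Int.ofNat 1, Int.negSucc 0, Int.negSucc 0, Int.negSucc 0, Int.negSucc 0, Int.negSucc 0],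
  [Int.ofNat 0, Int.negSucc 1, Int.ofNat 0, Int.ofNat 0, Int.ofNat 2, Int.ofNat 0, Int.ofNat 2, Int.ofNat 0, Int.negSucc 1, Int.ofNat 0, Int.ofNat 0, Int.ofNat 0, Int.ofNat 0, Int.ofNat 2, Int.ofNat 0, Int.ofNat 2, Int.negSucc 1, Int.negSucc 1, Int.ofNat 0, Int.ofNat 0, Int.ofNat 0, Int.ofNat 0, Int.ofNat 0, Int.ofNat 0],
  [Int.ofNat 0, Int.negSucc 1, Int.ofNat 0, Int.ofNat 0, Int.ofNat 2, Int.ofNat 0, Int.negSucc 1, Int.ofNat 0, Int.negSucc 1, Int.ofNat 0, Int.ofNat 0, Int.ofNat 0, Int.ofNat 0, Int.ofNat 2, Int.ofNat 0, Int.negSucc 1, Int.negSucc 1, Int.negSucc 1, Int.ofNat 0, Int.ofNat 0, Int.ofNat 0, Int.ofNat 0, Int.ofNat 0, Int.ofNat 0],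
  [Int.ofNat 0, Int.negSucc 1, Int.ofNat 0, Int.negSucc 1, Int.ofNat 0, Int.negSucc 1, Int.ofNat 0, Int.ofNat 0, Int.ofNat 0, Int.ofNat 0, Int.ofNat 2, Int.ofNat 0, Int.negSucc 1, Int.ofNat 2, Int.negSucc 1, Int.ofNat 0, Int.ofNat 0, Int.ofNat 0, Int.ofNat 0, Int.ofNat 0, Int.ofNat 0, Int.negSucc 1, Int.ofNat 0, Int.ofNat 0],
  [Int.ofNat 0, Int.ofNat 0, Int.ofNat 0, Int.ofNat 0, Int.ofNat 0, Int.ofNat 0, Int.ofNat 0, Int.ofNat 2, Int.ofNat 0, Int.negSucc 1, Int.ofNat 0, Int.ofNat 0, Int.negSucc 1, Int.ofNat 0, Int.ofNat 0, Int.negSucc 1, Int.ofNat 2, Int.ofNat 0, Int.negSucc 1, Int.ofNat 0, Int.ofNat 0, Int.negSucc 1, Int.negSucc 1, Int.ofNat 0],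
  [Int.ofNat 0, Int.ofNat 0, Int.ofNat 0, Int.ofNat 0, Int.ofNat 0, Int.ofNat 0, Int.ofNat 0, Int.negSucc 1, Int.ofNat 0, Int.ofNat 2, Int.ofNat 0, Int.ofNat 0, Int.negSucc 1, Int.ofNat 0, Int.ofNat 0, Int.negSucc 1, Int.ofNat 2, Int.ofNat 0, Int.ofNat 2, Int.ofNat 0, Int.ofNat 0, Int.ofNat 2, Int.negSucc 1, Int.ofNat 0],
  [Int.negSucc 1, Int.ofNat 0, Int.ofNat 0, Int.ofNat 0, Int.ofNat 0, Int.ofNat 0, Int.ofNat 0, Int.ofNat 0, Int.negSucc 1, Int.ofNat 0, Int.ofNat 2, Int.ofNat 0, Int.ofNat 0, Int.negSucc 1, Int.ofNat 0, Int.ofNat 0, Int.negSucc 1, Int.ofNat 2, Int.ofNat 0, Int.ofNat 2, Int.ofNat 0, Int.ofNat 0, Int.ofNat 2, Int.ofNat 0],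
  [Int.ofNat 1, Int.negSucc 0, Int.negSucc 0, Int.negSucc 0, Int.ofNat 1, Int.negSucc 0, Int.negSucc 0, Int.negSucc 0, Int.negSucc 0, Int.negSucc 0, Int.ofNat 1, Int.ofNat 1, Int.ofNat 1, Int.negSucc 0, Int.negSucc 0, Int.negSucc 0, Int.negSucc 0, Int.ofNat 1, Int.ofNat 1, Int.ofNat 1, Int.negSucc 0, Int.negSucc 0, Int.ofNat 3, Int.negSucc 0],
  [Int.negSucc 0, Int.ofNat 1, Int.negSucc 0, Int.negSucc 0, Int.negSucc 0, Int.negSucc 0, Int.negSucc 0, Int.ofNat 1, Int.ofNat 1, Int.ofNat 1, Int.negSucc 0, Int.negSucc 0, Int.negSucc 0, Int.negSucc 0, Int.ofNat 1, Int.ofNat 1, Int.ofNat 1, Int.negSucc 0, Int.negSucc 0, Int.ofNat 3, Int.ofNat 1, Int.negSucc 0, Int.negSucc 0, Int.negSucc 0],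
  [Int.ofNat 0, Int.negSucc 1, Int.ofNat 0, Int.ofNat 0, Int.ofNat 0, Int.ofNat 0, Int.negSucc 1, Int.ofNat 0, Int.ofNat 2, Int.ofNat 0, Int.negSucc 1, Int.ofNat 0, Int.ofNat 0, Int.ofNat 0, Int.ofNat 2, Int.ofNat 0, Int.ofNat 2, Int.ofNat 0, Int.ofNat 0, Int.ofNat 2, Int.ofNat 0, Int.negSucc 1, Int.ofNat 0, Int.ofNat 0],
  [Int.ofNat 0, Int.negSucc 1, Int.ofNat 0, Int.ofNat 0, Int.ofNat 0, Int.ofNat 0, Int.ofNat 0, Int.negSucc 1, Int.ofNat 0, Int.ofNat 0, Int.ofNat 0, Int.ofNat 0, Int.ofNat 0, Int.ofNat 2, Int.ofNat 0, Int.ofNat 0, Int.ofNat 2, Int.ofNat 2, Int.negSucc 1, Int.ofNat 0, Int.negSucc 1, Int.ofNat 0, Int.ofNat 2, Int.ofNat 0],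
  [Int.negSucc 0, Int.ofNat 1, Int.negSucc 0, Int.negSucc 0, Int.negSucc 2, Int.negSucc 0, Int.ofNat 1, Int.negSucc 0, Int.ofNat 1, Int.ofNat 1, Int.ofNat 1, Int.ofNat 1, Int.ofNat 1, Int.negSucc 0, Int.negSucc 0, Int.ofNat 1, Int.negSucc 0, Int.ofNat 1, Int.negSucc 0, Int.ofNat 1, Int.negSucc 0, Int.ofNat 1, Int.negSucc 0, Int.negSucc 0],
  [Int.negSucc 0, Int.ofNat 1, Int.ofNat 1, Int.negSucc 0, Int.negSucc 2, Int.ofNat 1, Int.negSucc 0, Int.negSucc 0, Int.ofNat 1, Int.negSucc 0, Int.negSucc 0, Int.ofNat 1, Int.ofNat 1, Int.negSucc 0, Int.negSucc 0, Int.negSucc 0, Int.negSucc 0, Int.ofNat 1, Int.ofNat 1, Int.ofNat 1, Int.negSucc 0, Int.ofNat 1, Int.ofNat 1, Int.negSucc 0],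
  [Int.negSucc 0, Int.negSucc 0, Int.negSucc 0, Int.negSucc 0, Int.ofNat 1, Int.ofNat 1, Int.negSucc 0, Int.negSucc 0, Int.ofNat 1, Int.ofNat 1, Int.negSucc 2, Int.ofNat 1, Int.negSucc 0, Int.negSucc 0, Int.ofNat 1, Int.ofNat 1, Int.ofNat 1, Int.negSucc 0, Int.negSucc 0, Int.ofNat 1, Int.ofNat 1, Int.ofNat 1, Int.negSucc 0, Int.negSucc 0],
  [Int.negSucc 0, Int.negSucc 0, Int.ofNat 1, Int.negSucc 0, Int.ofNat 1, Int.negSucc 0, Int.ofNat 1, Int.negSucc 0, Int.ofNat 1, Int.negSucc 0, Int.ofNat 3, Int.ofNat 1, Int.negSucc 0, Int.negSucc 0, Int.ofNat 1, Int.negSucc 0, Int.ofNat 1, Int.negSucc 0, Int.ofNat 1, Int.ofNat 1, Int.ofNat 1, Int.ofNat 1, Int.ofNat 1, Int.negSucc 0],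
  [Int.ofNat 0, Int.ofNat 0, Int.negSucc 1, Int.ofNat 0, Int.ofNat 0, Int.ofNat 0, Int.ofNat 0, Int.negSucc 1, Int.ofNat 0, Int.negSucc 1, Int.ofNat 2, Int.ofNat 0, Int.negSucc 1, Int.negSucc 1, Int.ofNat 2, Int.negSucc 1, Int.ofNat 0, Int.ofNat 0, Int.ofNat 0, Int.ofNat 0, Int.ofNat 0, Int.ofNat 0, Int.ofNat 0, Int.ofNat 0],
  [Int.ofNat 0, Int.ofNat 0, Int.ofNat 0, Int.ofNat 0, Int.negSucc 1, Int.ofNat 0, Int.ofNat 0, Int.ofNat 0, Int.ofNat 0, Int.negSucc 1, Int.negSucc 1, Int.ofNat 0, Int.ofNat 0, Int.negSucc 1, Int.ofNat 0, Int.negSucc 1, Int.negSucc 1, Int.ofNat 0, Int.ofNat 0, Int.ofNat 0, Int.ofNat 2, Int.ofNat 0, Int.ofNat 2, Int.ofNat 0],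
  [Int.ofNat 0, Int.ofNat 0, Int.ofNat 0, Int.ofNat 0, Int.ofNat 0, Int.ofNat 0, Int.ofNat 0, Int.ofNat 0, Int.ofNat 0, Int.ofNat 0, Int.ofNat 0, Int.ofNat 0, Int.ofNat 0, Int.ofNat 0, Int.ofNat 0, Int.ofNat 0, Int.ofNat 0, Int.ofNat 0, Int.ofNat 0, Int.ofNat 0, Int.ofNat 4, Int.ofNat 0, Int.ofNat 4, Int.ofNat 0],
  [Int.ofNat 4, Int.ofNat 0, Int.ofNat 4, Int.ofNat 0, Int.ofNat 0, Int.ofNat 0, Int.ofNat 0, Int.ofNat 0, Int.ofNat 0, Int.ofNat 0, Int.ofNat 0, Int.ofNat 0, Int.ofNat 0, Int.ofNat 0, Int.ofNat 0, Int.ofNat 0, Int.ofNat 0, Int.ofNat 0, Int.ofNat 0, Int.ofNat 0, Int.ofNat 0, Int.ofNat 0, Int.ofNat 0, Int.ofNat 0],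
  [Int.ofNat 0, Int.ofNat 4, Int.ofNat 0, Int.ofNat 0, Int.ofNat 0, Int.ofNat 0, Int.ofNat 0, Int.ofNat 0, Int.ofNat 0, Int.ofNat 0, Int.ofNat 0, Int.ofNat 0, Int.ofNat 0, Int.ofNat 0, Int.ofNat 0, Int.ofNat 0, Int.ofNat 0, Int.ofNat 0, Int.ofNat 0, Int.ofNat 0, Int.ofNat 0, Int.ofNat 0, Int.ofNat 0, Int.ofNat 4],
  [Int.ofNat 4, Int.ofNat 0, Int.ofNat 0, Int.ofNat 0, Int.ofNat 0, Int.ofNat 0, Int.ofNat 0, Int.ofNat 0, Int.ofNat 0, Int.ofNat 0, Int.ofNat 0, Int.ofNat 0, Int.ofNat 0, Int.ofNat 0, Int.ofNat 0, Int.ofNat 0, Int.ofNat 0, Int.ofNat 0, Int.ofNat 0, Int.ofNat 0, Int.ofNat 0, Int.ofNat 0, Int.ofNat 0, Int.ofNat 4],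
  [Int.negSucc 3, Int.ofNat 0, Int.ofNat 0, Int.ofNat 0, Int.ofNat 0, Int.ofNat 0, Int.ofNat 0, Int.ofNat 0, Int.ofNat 0, Int.ofNat 0, Int.ofNat 0, Int.ofNat 0, Int.ofNat 0, Int.ofNat 0, Int.ofNat 0, Int.ofNat 0, Int.ofNat 0, Int.ofNat 0, Int.ofNat 0, Int.ofNat 0, Int.ofNat 0, Int.ofNat 0, Int.ofNat 0, Int.ofNat 4],
  [Int.ofNat 4, Int.ofNat 0, Int.ofNat 0, Int.ofNat 0, Int.ofNat 0, Int.ofNat 0, Int.ofNat 0, Int.ofNat 0, Int.ofNat 0, Int.ofNat 0, Int.ofNat 0, Int.ofNat 0, Int.ofNat 0, Int.ofNat 0, Int.ofNat 0, Int.ofNat 0, Int.ofNat 0, Int.ofNat 0, Int.ofNat 0, Int.ofNat 0, Int.ofNat 0, Int.ofNat 0, Int.ofNat 0, Int.ofNat 4],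
  [Int.ofNat 4, Int.ofNat 0, Int.ofNat 0, Int.ofNat 0, Int.ofNat 0, Int.ofNat 0, Int.ofNat 0, Int.ofNat 0, Int.ofNat 0, Int.ofNat 0, Int.ofNat 0, Int.ofNat 0, Int.ofNat 0, Int.ofNat 0, Int.ofNat 0, Int.ofNat 0, Int.ofNat 0, Int.ofNat 0, Int.ofNat 0, Int.ofNat 0, Int.ofNat 0, Int.ofNat 0, Int.ofNat 0, Int.ofNat 4],
  [Int.negSucc 3, Int.ofNat 0, Int.ofNat 0, Int.ofNat 0, Int.ofNat 0, Int.ofNat 0, Int.ofNat 0, Int.ofNat 0, Int.ofNat 0, Int.ofNat 0, Int.ofNat 0, Int.ofNat 0, Int.ofNat 0, Int.ofNat 0, Int.ofNat 0, Int.ofNat 0, Int.ofNat 0, Int.ofNat 0, Int.ofNat 0, Int.ofNat 0, Int.ofNat 0, Int.ofNat 0, Int.ofNat 0, Int.ofNat 4],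
  [Int.ofNat 0, Int.negSucc 3, Int.ofNat 0, Int.ofNat 0, Int.ofNat 0, Int.ofNat 0, Int.ofNat 0, Int.ofNat 0, Int.ofNat 0, Int.ofNat 0, Int.ofNat 0, Int.ofNat 0, Int.ofNat 0, Int.ofNat 0, Int.ofNat 0, Int.ofNat 0, Int.ofNat 0, Int.ofNat 0, Int.ofNat 0, Int.ofNat 0, Int.ofNat 0, Int.ofNat 0, Int.ofNat 0, Int.ofNat 4],
  [Int.ofNat 0, Int.ofNat 4, Int.ofNat 0, Int.ofNat 0, Int.ofNat 0, Int.ofNat 0, Int.ofNat 0, Int.ofNat 0, Int.ofNat 0, Int.ofNat 0, Int.ofNat 0, Int.ofNat 0, Int.ofNat 0, Int.ofNat 0, Int.ofNat 0, Int.ofNat 0, Int.ofNat 0, Int.ofNat 0, Int.ofNat 0, Int.ofNat 0, Int.ofNat 0, Int.ofNat 0, Int.ofNat 0, Int.negSucc 3],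
  [Int.ofNat 0, Int.ofNat 0, Int.ofNat 0, Int.ofNat 0, Int.ofNat 0, Int.ofNat 0, Int.ofNat 0, Int.ofNat 0, Int.ofNat 0, Int.ofNat 0, Int.ofNat 0, Int.ofNat 0, Int.ofNat 0, Int.ofNat 0, Int.ofNat 0, Int.ofNat 0, Int.ofNat 0, Int.ofNat 0, Int.ofNat 0, Int.ofNat 0, Int.ofNat 0, Int.ofNat 4, Int.ofNat 0, Int.negSucc 3],
  [Int.negSucc 1, Int.negSucc 1, Int.negSucc 1, Int.ofNat 0, Int.ofNat 0, Int.ofNat 0, Int.negSucc 1, Int.negSucc 1, Int.ofNat 0, Int.ofNat 0, Int.ofNat 0, Int.ofNat 0, Int.ofNat 0, Int.ofNat 0, Int.ofNat 0, Int.ofNat 0, Int.ofNat 0, Int.ofNat 0, Int.ofNat 0, Int.negSucc 1, Int.ofNat 0, Int.ofNat 2, Int.ofNat 0, Int.ofNat 2],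
  [Int.negSucc 1, Int.negSucc 1, Int.ofNat 0, Int.ofNat 0, Int.ofNat 0, Int.negSucc 1, Int.negSucc 1, Int.ofNat 0, Int.ofNat 0, Int.ofNat 0, Int.ofNat 0, Int.ofNat 0, Int.ofNat 0, Int.ofNat 0, Int.ofNat 0, Int.ofNat 0, Int.ofNat 0, Int.ofNat 0, Int.negSucc 1, Int.ofNat 0, Int.ofNat 2, Int.ofNat 0, Int.negSucc 1, Int.ofNat 2],
  [Int.ofNat 1, Int.ofNat 1, Int.negSucc 0, Int.ofNat 1, Int.ofNat 1, Int.negSucc 0, Int.negSucc 0, Int.ofNat 1, Int.ofNat 1, Int.negSucc 0, Int.negSucc 0, Int.ofNat 1, Int.ofNat 1, Int.ofNat 1, Int.ofNat 1, Int.negSucc 0, Int.ofNat 1, Int.ofNat 1, Int.negSucc 0, Int.ofNat 1, Int.ofNat 1, Int.ofNat 1, Int.negSucc 0, Int.negSucc 2],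
  [Int.ofNat 1, Int.ofNat 1, Int.ofNat 1, Int.ofNat 1, Int.ofNat 1, Int.ofNat 1, Int.ofNat 1, Int.ofNat 1, Int.ofNat 1, Int.ofNat 1, Int.ofNat 1, Int.ofNat 1, Int.ofNat 1, Int.ofNat 1, Int.ofNat 1, Int.ofNat 1, Int.ofNat 1, Int.ofNat 1, Int.ofNat 1, Int.ofNat 1, Int.ofNat 1, Int.ofNat 1, Int.ofNat 1, Int.negSucc 2],
  [Int.ofNat 1, Int.ofNat 1, Int.ofNat 1, Int.ofNat 1, Int.ofNat 1, Int.ofNat 1, Int.ofNat 1, Int.ofNat 1, Int.ofNat 1, Int.ofNat 1, Int.ofNat 1, Int.ofNat 1, Int.ofNat 1, Int.ofNat 1, Int.ofNat 1, Int.ofNat 1, Int.ofNat 1, Int.ofNat 1, Int.ofNat 1, Int.ofNat 1, Int.ofNat 1, Int.ofNat 1, Int.ofNat 1, Int.negSucc 2],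
  [Int.negSucc 2, Int.ofNat 1, Int.ofNat 1, Int.ofNat 1, Int.ofNat 1, Int.ofNat 1, Int.ofNat 1, Int.ofNat 1, Int.ofNat 1, Int.ofNat 1, Int.ofNat 1, Int.ofNat 1, Int.ofNat 1, Int.ofNat 1, Int.ofNat 1, Int.ofNat 1, Int.ofNat 1, Int.ofNat 1, Int.ofNat 1, Int.ofNat 1, Int.ofNat 1, Int.ofNat 1, Int.ofNat 1, Int.ofNat 1],
  [Int.ofNat 3, Int.ofNat 1, Int.negSucc 0, Int.ofNat 1, Int.ofNat 1, Int.ofNat 1, Int.ofNat 1, Int.negSucc 0, Int.ofNat 1, Int.negSucc 0, Int.negSucc 0, Int.negSucc 0, Int.ofNat 1, Int.ofNat 1, Int.ofNat 1, Int.ofNat 1, Int.ofNat 1, Int.ofNat 1, Int.negSucc 0, Int.ofNat 1, Int.ofNat 1, Int.negSucc 0, Int.ofNat 1, Int.ofNat 1],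
  [Int.ofNat 1, Int.ofNat 3, Int.ofNat 1, Int.negSucc 0, Int.ofNat 1, Int.ofNat 1, Int.ofNat 1, Int.ofNat 1, Int.negSucc 0, Int.ofNat 1, Int.negSucc 0, Int.negSucc 0, Int.negSucc 0, Int.ofNat 1, Int.ofNat 1, Int.ofNat 1, Int.ofNat 1, Int.ofNat 1, Int.ofNat 1, Int.negSucc 0, Int.ofNat 1, Int.ofNat 1, Int.negSucc 0, Int.ofNat 1],
  [Int.ofNat 2, Int.ofNat 0, Int.ofNat 2, Int.negSucc 1, Int.ofNat 0, Int.ofNat 0, Int.ofNat 0, Int.ofNat 0, Int.ofNat 0, Int.ofNat 0, Int.negSucc 1, Int.ofNat 0, Int.ofNat 0, Int.ofNat 0, Int.ofNat 0, Int.ofNat 0, Int.ofNat 0, Int.ofNat 0, Int.ofNat 2, Int.negSucc 1, Int.ofNat 0, Int.ofNat 0, Int.negSucc 1, Int.ofNat 2],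
  [Int.negSucc 1, Int.ofNat 0, Int.ofNat 0, Int.ofNat 0, Int.ofNat 0, Int.ofNat 0, Int.ofNat 0, Int.negSucc 1, Int.ofNat 0, Int.ofNat 0, Int.ofNat 0, Int.ofNat 0, Int.ofNat 0, Int.ofNat 0, Int.ofNat 0, Int.ofNat 2, Int.negSucc 1, Int.ofNat 0, Int.ofNat 0, Int.negSucc 1, Int.ofNat 2, Int.ofNat 0, Int.ofNat 2, Int.ofNat 2],
  [Int.ofNat 2, Int.ofNat 0, Int.ofNat 0, Int.ofNat 0, Int.ofNat 0, Int.ofNat 0, Int.ofNat 2, Int.ofNat 0, Int.ofNat 0, Int.negSucc 1, Int.negSucc 1, Int.ofNat 0, Int.ofNat 0, Int.ofNat 0, Int.ofNat 0, Int.ofNat 0, Int.negSucc 1, Int.ofNat 0, Int.ofNat 0, Int.ofNat 0, Int.ofNat 0, Int.ofNat 2, Int.ofNat 2, Int.negSucc 1],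
  [Int.ofNat 2, Int.ofNat 2, Int.ofNat 0, Int.ofNat 0, Int.ofNat 0, Int.ofNat 0, Int.ofNat 0, Int.negSucc 1, Int.ofNat 0, Int.ofNat 0, Int.ofNat 0, Int.ofNat 0, Int.negSucc 1, Int.negSucc 1, Int.ofNat 2, Int.ofNat 0, Int.ofNat 0, Int.ofNat 0, Int.ofNat 0, Int.ofNat 0, Int.ofNat 2, Int.ofNat 0, Int.ofNat 0, Int.negSucc 1],
  [Int.negSucc 0, Int.negSucc 0, Int.ofNat 1, Int.negSucc 0, Int.ofNat 1, Int.negSucc 0, Int.ofNat 1, Int.negSucc 0, Int.ofNat 1, Int.negSucc 0, Int.negSucc 0, Int.ofNat 1, Int.negSucc 0, Int.negSucc 0, Int.ofNat 1, Int.negSucc 0, Int.ofNat 1, Int.negSucc 0, Int.ofNat 1, Int.ofNat 1, Int.ofNat 1, Int.ofNat 1, Int.ofNat 1, Int.ofNat 3],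
  [Int.negSucc 0, Int.negSucc 0, Int.negSucc 0, Int.negSucc 0, Int.ofNat 1, Int.ofNat 1, Int.negSucc 0, Int.negSucc 0, Int.ofNat 1, Int.ofNat 1, Int.ofNat 1, Int.ofNat 1, Int.negSucc 0, Int.negSucc 0, Int.ofNat 1, Int.ofNat 1, Int.ofNat 1, Int.negSucc 0, Int.negSucc 0, Int.ofNat 1, Int.ofNat 1, Int.ofNat 1, Int.negSucc 0, Int.ofNat 3],
  [Int.negSucc 0, Int.negSucc 0, Int.ofNat 1, Int.negSucc 0, Int.ofNat 1, Int.negSucc 0, Int.ofNat 1, Int.ofNat 1, Int.ofNat 1, Int.ofNat 1, Int.ofNat 1, Int.negSucc 0, Int.negSucc 0, Int.ofNat 1, Int.negSucc 0, Int.ofNat 1, Int.negSucc 0, Int.ofNat 1, Int.negSucc 0, Int.ofNat 1, Int.negSucc 0, Int.negSucc 0, Int.ofNat 1, Int.ofNat 3],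
  [Int.negSucc 0, Int.negSucc 0, Int.negSucc 0, Int.negSucc 0, Int.ofNat 1, Int.ofNat 1, Int.negSucc 0, Int.ofNat 1, Int.ofNat 1, Int.negSucc 0, Int.negSucc 0, Int.negSucc 0, Int.negSucc 0, Int.ofNat 1, Int.negSucc 0, Int.negSucc 0, Int.negSucc 0, Int.ofNat 1, Int.ofNat 1, Int.ofNat 1, Int.negSucc 0, Int.negSucc 0, Int.negSucc 0, Int.ofNat 3],
  [Int.ofNat 1, Int.ofNat 1, Int.ofNat 1, Int.negSucc 0, Int.ofNat 1, Int.ofNat 1, Int.negSucc 0, Int.ofNat 1, Int.ofNat 1, Int.ofNat 1, Int.ofNat 1, Int.negSucc 0, Int.negSucc 0, Int.ofNat 1, Int.negSucc 0, Int.ofNat 1, Int.negSucc 0, Int.ofNat 1, Int.ofNat 1, Int.ofNat 1, Int.ofNat 1, Int.negSucc 0, Int.negSucc 0, Int.negSucc 2],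
  [Int.ofNat 1, Int.ofNat 1, Int.negSucc 0, Int.negSucc 0, Int.ofNat 1, Int.negSucc 0, Int.ofNat 1, Int.ofNat 1, Int.negSucc 0, Int.negSucc 0, Int.ofNat 1, Int.ofNat 1, Int.ofNat 1, Int.ofNat 1, Int.ofNat 1, Int.ofNat 1, Int.ofNat 1, Int.negSucc 0, Int.ofNat 1, Int.negSucc 0, Int.ofNat 1, Int.ofNat 1, Int.negSucc 0, Int.negSucc 2],
  [Int.negSucc 1, Int.negSucc 1, Int.ofNat 0, Int.ofNat 0, Int.ofNat 0, Int.ofNat 0, Int.ofNat 0, Int.ofNat 0, Int.negSucc 1, Int.negSucc 1, Int.ofNat 0, Int.ofNat 0, Int.ofNat 0, Int.ofNat 0, Int.ofNat 2, Int.ofNat 0, Int.ofNat 0, Int.ofNat 0, Int.ofNat 0, Int.negSucc 1, Int.ofNat 0, Int.ofNat 0, Int.negSucc 1, Int.ofNat 2],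
  [Int.ofNat 0, Int.ofNat 0, Int.negSucc 1, Int.negSucc 1, Int.negSucc 1, Int.ofNat 0, Int.ofNat 0, Int.ofNat 0, Int.ofNat 0, Int.ofNat 0, Int.ofNat 0, Int.negSucc 1, Int.negSucc 1, Int.ofNat 0, Int.ofNat 0, Int.ofNat 0, Int.ofNat 0, Int.ofNat 2, Int.ofNat 0, Int.ofNat 0, Int.ofNat 0, Int.ofNat 0, Int.negSucc 1, Int.ofNat 2],
  [Int.ofNat 0, Int.ofNat 0, Int.ofNat 2, Int.negSucc 1, Int.ofNat 0, Int.ofNat 0, Int.ofNat 0, Int.ofNat 0, Int.ofNat 2, Int.ofNat 0, Int.ofNat 0, Int.ofNat 0, Int.ofNat 0, Int.ofNat 2, Int.ofNat 0, Int.ofNat 0, Int.ofNat 2, Int.ofNat 2, Int.ofNat 2, Int.ofNat 0, Int.ofNat 0, Int.ofNat 0, Int.ofNat 0, Int.negSucc 1],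
  [Int.ofNat 0, Int.ofNat 2, Int.negSucc 1, Int.ofNat 0, Int.ofNat 0, Int.ofNat 0, Int.ofNat 0, Int.ofNat 2, Int.ofNat 0, Int.ofNat 0, Int.ofNat 0, Int.ofNat 0, Int.ofNat 2, Int.ofNat 0, Int.ofNat 0, Int.ofNat 2, Int.ofNat 2, Int.ofNat 2, Int.ofNat 0, Int.ofNat 0, Int.ofNat 0, Int.ofNat 0, Int.ofNat 0, Int.negSucc 1],
  [Int.ofNat 0, Int.ofNat 2, Int.ofNat 2, Int.ofNat 0, Int.ofNat 0, Int.ofNat 0, Int.ofNat 0, Int.negSucc 1, Int.ofNat 0, Int.ofNat 0, Int.ofNat 0, Int.ofNat 0, Int.ofNat 2, Int.ofNat 0, Int.ofNat 0, Int.ofNat 2, Int.ofNat 2, Int.ofNat 2, Int.ofNat 0, Int.ofNat 0, Int.ofNat 0, Int.ofNat 0, Int.ofNat 0, Int.negSucc 1],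
  [Int.ofNat 0, Int.negSucc 1, Int.negSucc 1, Int.ofNat 0, Int.ofNat 0, Int.ofNat 0, Int.ofNat 0, Int.negSucc 1, Int.ofNat 0, Int.ofNat 0, Int.ofNat 0, Int.ofNat 0, Int.negSucc 1, Int.ofNat 0, Int.ofNat 0, Int.ofNat 2, Int.negSucc 1, Int.ofNat 2, Int.ofNat 0, Int.ofNat 0, Int.ofNat 0, Int.ofNat 0, Int.ofNat 0, Int.negSucc 1],
  [Int.ofNat 0, Int.negSucc 1, Int.ofNat 0, Int.ofNat 0, Int.negSucc 1, Int.ofNat 0, Int.ofNat 0, Int.ofNat 0, Int.ofNat 0, Int.negSucc 1, Int.ofNat 0, Int.ofNat 0, Int.ofNat 0, Int.ofNat 0, Int.ofNat 0, Int.ofNat 2, Int.negSucc 1, Int.ofNat 0, Int.ofNat 0, Int.ofNat 2, Int.ofNat 0, Int.negSucc 1, Int.ofNat 0, Int.negSucc 1],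
  [Int.ofNat 0, Int.negSucc 1, Int.ofNat 0, Int.ofNat 0, Int.negSucc 1, Int.ofNat 0, Int.ofNat 0, Int.ofNat 0, Int.ofNat 0, Int.ofNat 2, Int.ofNat 0, Int.ofNat 0, Int.ofNat 0, Int.ofNat 0, Int.ofNat 0, Int.ofNat 2, Int.negSucc 1, Int.ofNat 0, Int.ofNat 0, Int.ofNat 2, Int.ofNat 0, Int.ofNat 2, Int.ofNat 0, Int.negSucc 1],
  [Int.ofNat 0, Int.ofNat 0, Int.negSucc 1, Int.ofNat 0, Int.ofNat 0, Int.negSucc 1, Int.ofNat 0, Int.ofNat 0, Int.ofNat 0, Int.ofNat 0, Int.ofNat 2, Int.ofNat 0, Int.ofNat 0, Int.ofNat 0, Int.ofNat 0, Int.ofNat 0, Int.ofNat 2, Int.negSucc 1, Int.ofNat 0, Int.ofNat 0, Int.ofNat 2, Int.ofNat 0, Int.ofNat 2, Int.negSucc 1],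
  [Int.negSucc 1, Int.negSucc 1, Int.ofNat 0, Int.ofNat 2, Int.negSucc 1, Int.ofNat 0, Int.ofNat 0, Int.ofNat 0, Int.ofNat 0, Int.negSucc 1, Int.ofNat 0, Int.ofNat 0, Int.ofNat 0, Int.negSucc 1, Int.ofNat 2, Int.negSucc 1, Int.ofNat 0, Int.ofNat 0, Int.ofNat 0, Int.ofNat 0, Int.ofNat 0, Int.ofNat 0, Int.ofNat 0, Int.ofNat 0],
  [Int.ofNat 2, Int.negSucc 1, Int.ofNat 0, Int.ofNat 0, Int.ofNat 0, Int.ofNat 0, Int.negSucc 1, Int.ofNat 0, Int.ofNat 0, Int.ofNat 0, Int.negSucc 1, Int.ofNat 2, Int.negSucc 1, Int.ofNat 0, Int.ofNat 0, Int.ofNat 0, Int.ofNat 0, Int.ofNat 0, Int.ofNat 0, Int.ofNat 0, Int.negSucc 1, Int.negSucc 1, Int.ofNat 0, Int.ofNat 0],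
  [Int.negSucc 1, Int.ofNat 2, Int.ofNat 0, Int.ofNat 0, Int.ofNat 0, Int.ofNat 0, Int.ofNat 0, Int.ofNat 2, Int.ofNat 0, Int.ofNat 2, Int.ofNat 0, Int.ofNat 2, Int.negSucc 1, Int.ofNat 0, Int.ofNat 0, Int.ofNat 2, Int.ofNat 0, Int.ofNat 0, Int.ofNat 0, Int.ofNat 2, Int.ofNat 0, Int.ofNat 0, Int.ofNat 0, Int.ofNat 0],
  [Int.negSucc 1, Int.ofNat 0, Int.ofNat 0, Int.ofNat 0, Int.ofNat 0, Int.ofNat 2, Int.ofNat 0, Int.ofNat 0, Int.negSucc 1, Int.ofNat 0, Int.ofNat 0, Int.ofNat 0, Int.ofNat 2, Int.ofNat 0, Int.ofNat 0, Int.ofNat 2, Int.ofNat 0, Int.ofNat 0, Int.ofNat 2, Int.ofNat 2, Int.ofNat 0, Int.ofNat 0, Int.ofNat 2, Int.ofNat 0],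
  [Int.ofNat 1, Int.negSucc 0, Int.negSucc 0, Int.negSucc 0, Int.negSucc 0, Int.ofNat 1, Int.negSucc 0, Int.negSucc 0, Int.negSucc 2, Int.negSucc 0, Int.negSucc 0, Int.negSucc 0, Int.ofNat 1, Int.negSucc 0, Int.negSucc 0, Int.ofNat 1, Int.negSucc 0, Int.negSucc 0, Int.ofNat 1, Int.ofNat 1, Int.negSucc 0, Int.negSucc 0, Int.ofNat 1, Int.negSucc 0],
  [Int.ofNat 1, Int.negSucc 0, Int.ofNat 1, Int.negSucc 0, Int.negSucc 0, Int.negSucc 0, Int.ofNat 1, Int.negSucc 0, Int.negSucc 2, Int.ofNat 1, Int.ofNat 1, Int.negSucc 0, Int.ofNat 1, Int.negSucc 0, Int.negSucc 0, Int.negSucc 0, Int.negSucc 0, Int.negSucc 0, Int.negSucc 0, Int.ofNat 1, Int.negSucc 0, Int.negSucc 0, Int.negSucc 0, Int.negSucc 0],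
  [Int.ofNat 1, Int.negSucc 0, Int.negSucc 0, Int.negSucc 2, Int.negSucc 0, Int.ofNat 1, Int.negSucc 0, Int.negSucc 0, Int.negSucc 0, Int.negSucc 0, Int.negSucc 0, Int.negSucc 0, Int.negSucc 0, Int.negSucc 0, Int.negSucc 0, Int.negSucc 0, Int.ofNat 1, Int.ofNat 1, Int.ofNat 1, Int.ofNat 1, Int.ofNat 1, Int.negSucc 0, Int.negSucc 0, Int.negSucc 0],
  [Int.negSucc 0, Int.negSucc 0, Int.negSucc 0, Int.negSucc 0, Int.ofNat 1, Int.negSucc 0, Int.ofNat 1, Int.negSucc 0, Int.ofNat 1, Int.ofNat 1, Int.ofNat 1, Int.negSucc 0, Int.negSucc 0, Int.negSucc 0, Int.ofNat 1, Int.negSucc 2, Int.negSucc 0, Int.negSucc 0, Int.negSucc 0, Int.negSucc 0, Int.negSucc 0, Int.negSucc 0, Int.negSucc 0, Int.ofNat 1],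
  [Int.ofNat 1, Int.negSucc 0, Int.ofNat 1, Int.negSucc 0, Int.ofNat 1, Int.negSucc 0, Int.ofNat 1, Int.ofNat 1, Int.ofNat 1, Int.negSucc 0, Int.negSucc 0, Int.ofNat 1, Int.negSucc 0, Int.negSucc 0, Int.ofNat 1, Int.negSucc 2, Int.negSucc 0, Int.negSucc 0, Int.ofNat 1, Int.negSucc 0, Int.negSucc 0, Int.ofNat 1, Int.negSucc 0, Int.ofNat 1],
  [Int.negSucc 0, Int.ofNat 1, Int.negSucc 0, Int.ofNat 1, Int.negSucc 0, Int.ofNat 1, Int.negSucc 0, Int.ofNat 1, Int.ofNat 1, Int.ofNat 1, Int.negSucc 0, Int.negSucc 0, Int.ofNat 1, Int.negSucc 0, Int.negSucc 0, Int.ofNat 1, Int.negSucc 2, Int.negSucc 0, Int.negSucc 0, Int.ofNat 1, Int.negSucc 0, Int.negSucc 0, Int.ofNat 1, Int.ofNat 1],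
  [Int.ofNat 1, Int.negSucc 0, Int.ofNat 1, Int.ofNat 1, Int.ofNat 1, Int.ofNat 1, Int.negSucc 0, Int.ofNat 1, Int.ofNat 1, Int.ofNat 1, Int.negSucc 0, Int.negSucc 0, Int.ofNat 1, Int.ofNat 1, Int.negSucc 0, Int.ofNat 1, Int.negSucc 0, Int.negSucc 0, Int.negSucc 0, Int.ofNat 1, Int.negSucc 0, Int.negSucc 0, Int.ofNat 3, Int.negSucc 0],
  [Int.ofNat 1, Int.ofNat 1, Int.ofNat 1, Int.negSucc 0, Int.ofNat 1, Int.ofNat 1, Int.ofNat 1, Int.negSucc 0, Int.negSucc 0, Int.ofNat 1, Int.ofNat 1, Int.negSucc 0, Int.ofNat 1, Int.negSucc 0, Int.negSucc 0, Int.negSucc 0, Int.ofNat 1, Int.negSucc 0, Int.negSucc 0, Int.ofNat 3, Int.ofNat 1, Int.negSucc 0, Int.ofNat 1, Int.negSucc 0],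
  [Int.ofNat 0, Int.ofNat 0, Int.ofNat 0, Int.ofNat 0, Int.ofNat 0, Int.ofNat 2, Int.ofNat 0, Int.negSucc 1, Int.ofNat 0, Int.ofNat 0, Int.ofNat 0, Int.ofNat 0, Int.ofNat 2, Int.negSucc 1, Int.ofNat 0, Int.negSucc 1, Int.ofNat 0, Int.ofNat 0, Int.ofNat 0, Int.ofNat 2, Int.ofNat 0, Int.negSucc 1, Int.ofNat 0, Int.ofNat 2],
  [Int.ofNat 0, Int.ofNat 0, Int.ofNat 0, Int.ofNat 0, Int.ofNat 0, Int.negSucc 1, Int.ofNat 0, Int.ofNat 0, Int.ofNat 2, Int.negSucc 1, Int.ofNat 0, Int.ofNat 0, Int.ofNat 0, Int.ofNat 0, Int.ofNat 0, Int.negSucc 1, Int.ofNat 0, Int.ofNat 0, Int.ofNat 0, Int.ofNat 0, Int.negSucc 1, Int.ofNat 2, Int.ofNat 2, Int.ofNat 2],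
  [Int.ofNat 1, Int.ofNat 1, Int.ofNat 1, Int.ofNat 1, Int.negSucc 0, Int.negSucc 0, Int.negSucc 0, Int.negSucc 0, Int.ofNat 1, Int.ofNat 1, Int.ofNat 3, Int.negSucc 0, Int.negSucc 0, Int.negSucc 0, Int.ofNat 1, Int.ofNat 1, Int.negSucc 0, Int.ofNat 1, Int.negSucc 0, Int.negSucc 0, Int.ofNat 1, Int.ofNat 1, Int.ofNat 1, Int.negSucc 0],
  [Int.ofNat 1, Int.ofNat 1, Int.negSucc 0, Int.ofNat 1, Int.negSucc 0, Int.ofNat 1, Int.ofNat 1, Int.negSucc 0, Int.ofNat 1, Int.negSucc 0, Int.negSucc 2, Int.negSucc 0, Int.negSucc 0, Int.negSucc 0, Int.ofNat 1, Int.negSucc 0, Int.negSucc 0, Int.ofNat 1, Int.ofNat 1, Int.negSucc 0, Int.ofNat 1, Int.ofNat 1, Int.negSucc 0, Int.negSucc 0],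
  [Int.negSucc 0, Int.negSucc 0, Int.ofNat 1, Int.ofNat 1, Int.ofNat 1, Int.ofNat 1, Int.negSucc 0, Int.negSucc 0, Int.negSucc 0, Int.ofNat 1, Int.negSucc 0, Int.ofNat 1, Int.ofNat 1, Int.negSucc 2, Int.negSucc 0, Int.negSucc 0, Int.ofNat 1, Int.ofNat 1, Int.ofNat 1, Int.ofNat 1, Int.negSucc 0, Int.negSucc 0, Int.negSucc 0, Int.negSucc 0],
  [Int.negSucc 0, Int.negSucc 0, Int.negSucc 0, Int.ofNat 1, Int.ofNat 1, Int.negSucc 0, Int.ofNat 1, Int.negSucc 0, Int.negSucc 0, Int.negSucc 0, Int.ofNat 1, Int.ofNat 1, Int.ofNat 1, Int.negSucc 2, Int.negSucc 0, Int.ofNat 1, Int.ofNat 1, Int.ofNat 1, Int.negSucc 0, Int.ofNat 1, Int.negSucc 0, Int.negSucc 0, Int.ofNat 1, Int.negSucc 0],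
  [Int.negSucc 0, Int.negSucc 0, Int.negSucc 0, Int.ofNat 1, Int.ofNat 1, Int.negSucc 0, Int.ofNat 1, Int.negSucc 0, Int.negSucc 0, Int.negSucc 0, Int.ofNat 1, Int.ofNat 1, Int.ofNat 1, Int.negSucc 2, Int.negSucc 0, Int.ofNat 1, Int.ofNat 1, Int.ofNat 1, Int.negSucc 0, Int.ofNat 1, Int.negSucc 0, Int.negSucc 0, Int.ofNat 1, Int.negSucc 0],
  [Int.negSucc 0, Int.negSucc 0, Int.ofNat 1, Int.ofNat 1, Int.negSucc 0, Int.negSucc 0, Int.negSucc 0, Int.negSucc 0, Int.ofNat 1, Int.ofNat 1, Int.negSucc 0, Int.ofNat 1, Int.negSucc 0, Int.negSucc 0, Int.ofNat 1, Int.ofNat 1, Int.negSucc 2, Int.ofNat 1, Int.ofNat 1, Int.ofNat 1, Int.ofNat 1, Int.negSucc 0, Int.negSucc 0, Int.negSucc 0],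
  [Int.ofNat 0, Int.ofNat 0, Int.negSucc 1, Int.ofNat 0, Int.ofNat 2, Int.negSucc 1, Int.ofNat 0, Int.ofNat 0, Int.ofNat 0, Int.ofNat 0, Int.negSucc 1, Int.ofNat 0, Int.negSucc 1, Int.ofNat 2, Int.ofNat 0, Int.ofNat 0, Int.ofNat 0, Int.ofNat 0, Int.ofNat 0, Int.ofNat 2, Int.ofNat 0, Int.ofNat 0, Int.ofNat 2, Int.ofNat 0],
  [Int.ofNat 0, Int.ofNat 0, Int.ofNat 2, Int.ofNat 0, Int.ofNat 0, Int.negSucc 1, Int.ofNat 0, Int.ofNat 2, Int.negSucc 1, Int.ofNat 0, Int.ofNat 0, Int.ofNat 0, Int.ofNat 0, Int.negSucc 1, Int.ofNat 0, Int.negSucc 1, Int.ofNat 2, Int.ofNat 0, Int.ofNat 0, Int.ofNat 0, Int.ofNat 0, Int.ofNat 0, Int.ofNat 2, Int.ofNat 0],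
  [Int.ofNat 1, Int.ofNat 1, Int.negSucc 0, Int.ofNat 1, Int.negSucc 0, Int.negSucc 0, Int.negSucc 0, Int.ofNat 1, Int.negSucc 0, Int.ofNat 1, Int.ofNat 1, Int.ofNat 1, Int.ofNat 1, Int.negSucc 2, Int.ofNat 1, Int.negSucc 0, Int.ofNat 1, Int.ofNat 1, Int.ofNat 1, Int.negSucc 0, Int.ofNat 1, Int.negSucc 0, Int.ofNat 1, Int.ofNat 1],
  [Int.ofNat 1, Int.negSucc 0, Int.ofNat 1, Int.negSucc 0, Int.negSucc 0, Int.negSucc 0, Int.ofNat 1, Int.negSucc 0, Int.ofNat 1, Int.ofNat 1, Int.ofNat 1, Int.ofNat 1, Int.negSucc 2, Int.ofNat 1, Int.negSucc 0, Int.ofNat 1, Int.ofNat 1, Int.ofNat 1, Int.negSucc 0, Int.ofNat 1, Int.negSucc 0, Int.ofNat 1, Int.ofNat 1, Int.ofNat 1],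
  [Int.negSucc 0, Int.negSucc 0, Int.negSucc 0, Int.negSucc 0, Int.negSucc 0, Int.negSucc 0, Int.ofNat 1, Int.ofNat 1, Int.ofNat 1, Int.negSucc 0, Int.negSucc 0, Int.negSucc 0, Int.negSucc 2, Int.ofNat 1, Int.negSucc 0, Int.ofNat 1, Int.ofNat 1, Int.ofNat 1, Int.ofNat 1, Int.ofNat 1, Int.negSucc 0, Int.negSucc 0, Int.ofNat 1, Int.ofNat 1],
  [Int.ofNat 1, Int.ofNat 1, Int.ofNat 1, Int.ofNat 1, Int.ofNat 1, Int.negSucc 0, Int.negSucc 0, Int.ofNat 1, Int.negSucc 0, Int.ofNat 1, Int.negSucc 0, Int.negSucc 0, Int.ofNat 3, Int.negSucc 0, Int.negSucc 0, Int.ofNat 1, Int.negSucc 0, Int.ofNat 1, Int.negSucc 0, Int.ofNat 1, Int.negSucc 0, Int.negSucc 0, Int.ofNat 1, Int.ofNat 1],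
  [Int.ofNat 1, Int.ofNat 1, Int.negSucc 0, Int.ofNat 1, Int.ofNat 1, Int.negSucc 0, Int.ofNat 1, Int.negSucc 0, Int.ofNat 1, Int.negSucc 0, Int.negSucc 0, Int.negSucc 0, Int.negSucc 0, Int.negSucc 0, Int.ofNat 1, Int.ofNat 1, Int.ofNat 3, Int.ofNat 1, Int.negSucc 0, Int.ofNat 1, Int.negSucc 0, Int.ofNat 1, Int.negSucc 0, Int.ofNat 1],
  [Int.negSucc 0, Int.ofNat 1, Int.ofNat 1, Int.ofNat 1, Int.ofNat 1, Int.negSucc 0, Int.ofNat 1, Int.ofNat 1, Int.ofNat 1, Int.ofNat 1, Int.ofNat 1, Int.ofNat 1, Int.negSucc 0, Int.negSucc 0, Int.ofNat 1, Int.ofNat 1, Int.ofNat 3, Int.ofNat 1, Int.ofNat 1, Int.ofNat 1, Int.negSucc 0, Int.negSucc 0, Int.negSucc 0, Int.ofNat 1],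
  [Int.negSucc 0, Int.negSucc 0, Int.ofNat 1, Int.ofNat 1, Int.ofNat 1, Int.ofNat 1, Int.negSucc 0, Int.ofNat 1, Int.ofNat 1, Int.ofNat 1, Int.ofNat 1, Int.ofNat 1, Int.ofNat 1, Int.negSucc 0, Int.negSucc 0, Int.ofNat 1, Int.ofNat 1, Int.ofNat 3, Int.ofNat 1, Int.ofNat 1, Int.ofNat 1, Int.negSucc 0, Int.negSucc 0, Int.ofNat 1],
  [Int.ofNat 1, Int.ofNat 1, Int.negSucc 0, Int.negSucc 0, Int.ofNat 1, Int.negSucc 0, Int.negSucc 0, Int.ofNat 1, Int.negSucc 0, Int.negSucc 0, Int.negSucc 0, Int.negSucc 0, Int.negSucc 0, Int.negSucc 0, Int.negSucc 2, Int.negSucc 0, Int.ofNat 1, Int.ofNat 1, Int.negSucc 0, Int.ofNat 1, Int.negSucc 0, Int.negSucc 0, Int.negSucc 0, Int.negSucc 0],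
  [Int.negSucc 0, Int.ofNat 1, Int.negSucc 0, Int.negSucc 0, Int.ofNat 1, Int.negSucc 0, Int.negSucc 0, Int.negSucc 0, Int.negSucc 0, Int.negSucc 0, Int.negSucc 0, Int.negSucc 2, Int.negSucc 0, Int.ofNat 1, Int.ofNat 1, Int.negSucc 0, Int.ofNat 1, Int.negSucc 0, Int.negSucc 0, Int.negSucc 0, Int.ofNat 1, Int.ofNat 1, Int.negSucc 0, Int.negSucc 0],
  [Int.ofNat 0, Int.negSucc 1, Int.ofNat 0, Int.ofNat 0, Int.ofNat 0, Int.ofNat 0, Int.ofNat 0, Int.ofNat 0, Int.ofNat 2, Int.ofNat 0, Int.ofNat 0, Int.ofNat 0, Int.ofNat 2, Int.ofNat 0, Int.ofNat 2, Int.ofNat 0, Int.ofNat 0, Int.ofNat 0, Int.ofNat 2, Int.ofNat 0, Int.ofNat 2, Int.ofNat 2, Int.negSucc 1, Int.ofNat 0],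
  [Int.ofNat 0, Int.ofNat 0, Int.ofNat 0, Int.ofNat 0, Int.ofNat 2, Int.ofNat 0, Int.ofNat 0, Int.ofNat 0, Int.ofNat 2, Int.ofNat 0, Int.ofNat 2, Int.ofNat 0, Int.ofNat 0, Int.ofNat 0, Int.negSucc 1, Int.ofNat 0, Int.ofNat 2, Int.ofNat 2, Int.negSucc 1, Int.ofNat 0, Int.ofNat 2, Int.ofNat 0, Int.ofNat 0, Int.ofNat 0],
  [Int.ofNat 0, Int.ofNat 0, Int.ofNat 0, Int.ofNat 0, Int.ofNat 0, Int.ofNat 0, Int.ofNat 0, Int.ofNat 0, Int.ofNat 2, Int.negSucc 1, Int.ofNat 0, Int.ofNat 0, Int.ofNat 0, Int.negSucc 1, Int.negSucc 1, Int.negSucc 1, Int.ofNat 0, Int.ofNat 2, Int.negSucc 1, Int.ofNat 0, Int.ofNat 0, Int.ofNat 0, Int.negSucc 1, Int.ofNat 0],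
  [Int.ofNat 0, Int.ofNat 0, Int.ofNat 0, Int.ofNat 0, Int.ofNat 0, Int.ofNat 0, Int.ofNat 0, Int.ofNat 0, Int.ofNat 2, Int.ofNat 2, Int.ofNat 0, Int.ofNat 0, Int.ofNat 0, Int.negSucc 1, Int.negSucc 1, Int.ofNat 2, Int.ofNat 0, Int.ofNat 2, Int.ofNat 2, Int.ofNat 0, Int.ofNat 0, Int.ofNat 0, Int.ofNat 2, Int.ofNat 0],
  [Int.ofNat 0, Int.ofNat 0, Int.ofNat 0, Int.ofNat 2, Int.negSucc 1, Int.ofNat 0, Int.ofNat 0, Int.ofNat 0, Int.ofNat 0, Int.ofNat 0, Int.negSucc 1, Int.ofNat 0, Int.ofNat 2, Int.ofNat 0, Int.ofNat 2, Int.ofNat 2, Int.ofNat 0, Int.ofNat 0, Int.ofNat 2, Int.ofNat 0, Int.ofNat 0, Int.ofNat 0, Int.ofNat 2, Int.ofNat 0],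
  [Int.ofNat 0, Int.ofNat 2, Int.ofNat 0, Int.ofNat 2, Int.ofNat 0, Int.ofNat 0, Int.ofNat 0, Int.ofNat 0, Int.ofNat 0, Int.ofNat 0, Int.ofNat 0, Int.ofNat 0, Int.ofNat 0, Int.ofNat 0, Int.ofNat 2, Int.ofNat 2, Int.negSucc 1, Int.negSucc 1, Int.ofNat 2, Int.ofNat 0, Int.ofNat 0, Int.ofNat 2, Int.ofNat 0, Int.ofNat 0],
  [Int.ofNat 0, Int.ofNat 2, Int.ofNat 0, Int.ofNat 2, Int.ofNat 0, Int.ofNat 0, Int.ofNat 0, Int.ofNat 0, Int.ofNat 0, Int.ofNat 0, Int.ofNat 0, Int.ofNat 0, Int.ofNat 0, Int.ofNat 0, Int.ofNat 2, Int.ofNat 2, Int.negSucc 1, Int.negSucc 1, Int.negSucc 1, Int.ofNat 0, Int.ofNat 0, Int.negSucc 1, Int.ofNat 0, Int.ofNat 0],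
  [Int.ofNat 0, Int.ofNat 0, Int.ofNat 2, Int.ofNat 0, Int.ofNat 2, Int.ofNat 0, Int.ofNat 0, Int.ofNat 0, Int.ofNat 0, Int.ofNat 0, Int.ofNat 0, Int.ofNat 0, Int.ofNat 0, Int.ofNat 0, Int.ofNat 0, Int.ofNat 2, Int.ofNat 2, Int.negSucc 1, Int.negSucc 1, Int.negSucc 1, Int.ofNat 0, Int.ofNat 0, Int.negSucc 1, Int.ofNat 0],
  [Int.ofNat 1, Int.ofNat 1, Int.negSucc 0, Int.ofNat 1, Int.ofNat 1, Int.ofNat 1, Int.ofNat 1, Int.ofNat 1, Int.ofNat 1, Int.negSucc 0, Int.negSucc 0, Int.ofNat 1, Int.ofNat 1, Int.negSucc 0, Int.ofNat 1, Int.ofNat 1, Int.ofNat 1, Int.negSucc 0, Int.negSucc 0, Int.negSucc 0, Int.negSucc 0, Int.ofNat 1, Int.negSucc 2, Int.ofNat 1],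
  [Int.ofNat 1, Int.ofNat 1, Int.ofNat 1, Int.ofNat 1, Int.ofNat 1, Int.ofNat 1, Int.negSucc 0, Int.negSucc 0, Int.ofNat 1, Int.ofNat 1, Int.negSucc 0, Int.ofNat 1, Int.ofNat 1, Int.ofNat 1, Int.negSucc 0, Int.negSucc 0, Int.negSucc 0, Int.negSucc 0, Int.ofNat 1, Int.negSucc 2, Int.ofNat 1, Int.ofNat 1, Int.negSucc 0, Int.ofNat 1],
  [Int.ofNat 1, Int.ofNat 1, Int.ofNat 1, Int.ofNat 1, Int.ofNat 1, Int.ofNat 1, Int.ofNat 1, Int.ofNat 1, Int.negSucc 0, Int.ofNat 1, Int.negSucc 0, Int.negSucc 0, Int.negSucc 0, Int.ofNat 1, Int.negSucc 0, Int.negSucc 0, Int.negSucc 0, Int.negSucc 0, Int.negSucc 0, Int.negSucc 0, Int.ofNat 1, Int.ofNat 3, Int.negSucc 0, Int.ofNat 1],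
  [Int.ofNat 1, Int.ofNat 1, Int.ofNat 1, Int.ofNat 1, Int.negSucc 0, Int.ofNat 1, Int.ofNat 1, Int.negSucc 0, Int.negSucc 0, Int.ofNat 1, Int.ofNat 1, Int.negSucc 0, Int.ofNat 1, Int.negSucc 0, Int.negSucc 0, Int.negSucc 0, Int.negSucc 0, Int.negSucc 0, Int.ofNat 1, Int.negSucc 0, Int.ofNat 3, Int.ofNat 1, Int.negSucc 0, Int.ofNat 1],
  [Int.ofNat 1, Int.ofNat 1, Int.ofNat 1, Int.ofNat 1, Int.ofNat 1, Int.ofNat 1, Int.ofNat 1, Int.negSucc 0, Int.negSucc 0, Int.negSucc 0, Int.negSucc 0, Int.negSucc 0, Int.ofNat 1, Int.ofNat 1, Int.negSucc 0, Int.negSucc 2, Int.ofNat 1, Int.negSucc 0, Int.ofNat 1, Int.negSucc 0, Int.ofNat 1, Int.ofNat 1, Int.ofNat 1, Int.ofNat 1],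
  [Int.ofNat 1, Int.ofNat 1, Int.negSucc 0, Int.ofNat 1, Int.ofNat 1, Int.negSucc 0, Int.negSucc 0, Int.negSucc 0, Int.negSucc 0, Int.ofNat 1, Int.ofNat 1, Int.negSucc 0, Int.ofNat 1, Int.ofNat 1, Int.negSucc 0, Int.ofNat 3, Int.ofNat 1, Int.negSucc 0, Int.negSucc 0, Int.negSucc 0, Int.ofNat 1, Int.ofNat 1, Int.negSucc 0, Int.ofNat 1],
  [Int.ofNat 1, Int.negSucc 0, Int.ofNat 1, Int.ofNat 1, Int.negSucc 0, Int.ofNat 1, Int.ofNat 1, Int.ofNat 1, Int.negSucc 0, Int.negSucc 0, Int.ofNat 1, Int.negSucc 0, Int.ofNat 1, Int.ofNat 1, Int.ofNat 1, Int.negSucc 0, Int.negSucc 0, Int.negSucc 0, Int.negSucc 0, Int.ofNat 1, Int.negSucc 0, Int.negSucc 0, Int.ofNat 3, Int.ofNat 1],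
  [Int.ofNat 1, Int.negSucc 0, Int.negSucc 0, Int.ofNat 1, Int.negSucc 0, Int.negSucc 0, Int.negSucc 0, Int.ofNat 1, Int.negSucc 0, Int.ofNat 1, Int.negSucc 0, Int.negSucc 0, Int.ofNat 1, Int.ofNat 1, Int.ofNat 1, Int.ofNat 1, Int.negSucc 0, Int.negSucc 0, Int.ofNat 1, Int.ofNat 1, Int.negSucc 0, Int.negSucc 0, Int.negSucc 2, Int.ofNat 1],
  [Int.negSucc 0, Int.ofNat 1, Int.ofNat 1, Int.ofNat 1, Int.ofNat 1, Int.negSucc 0, Int.negSucc 0, Int.ofNat 1, Int.negSucc 0, Int.ofNat 1, Int.negSucc 0, Int.negSucc 0, Int.ofNat 1, Int.ofNat 3, Int.ofNat 1, Int.ofNat 1, Int.ofNat 1, Int.negSucc 0, Int.ofNat 1, Int.ofNat 1, Int.negSucc 0, Int.negSucc 0, Int.negSucc 0, Int.negSucc 0],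
  [Int.negSucc 0, Int.ofNat 1, Int.negSucc 0, Int.ofNat 1, Int.ofNat 1, Int.negSucc 0, Int.ofNat 1, Int.negSucc 0, Int.ofNat 1, Int.ofNat 1, Int.ofNat 1, Int.ofNat 1, Int.negSucc 0, Int.ofNat 1, Int.negSucc 0, Int.ofNat 1, Int.ofNat 3, Int.negSucc 0, Int.ofNat 1, Int.negSucc 0, Int.negSucc 0, Int.negSucc 0, Int.ofNat 1, Int.negSucc 0],
  [Int.ofNat 0, Int.negSucc 1, Int.ofNat 0, Int.ofNat 2, Int.negSucc 1, Int.ofNat 0, Int.ofNat 2, Int.ofNat 0, Int.ofNat 0, Int.ofNat 0, Int.ofNat 0, Int.ofNat 0, Int.negSucc 1, Int.negSucc 1, Int.ofNat 0, Int.ofNat 0, Int.ofNat 0, Int.ofNat 0, Int.ofNat 0, Int.ofNat 0, Int.negSucc 1, Int.ofNat 0, Int.negSucc 1, Int.ofNat 0],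
  [Int.negSucc 1, Int.ofNat 0, Int.negSucc 1, Int.ofNat 0, Int.negSucc 1, Int.ofNat 0, Int.ofNat 2, Int.negSucc 1, Int.ofNat 0, Int.ofNat 2, Int.ofNat 0, Int.ofNat 0, Int.ofNat 0, Int.ofNat 0, Int.ofNat 0, Int.negSucc 1, Int.negSucc 1, Int.ofNat 0, Int.ofNat 0, Int.ofNat 0, Int.ofNat 0, Int.ofNat 0, Int.ofNat 0, Int.ofNat 0],
  [Int.ofNat 0, Int.negSucc 1, Int.ofNat 0, Int.ofNat 0, Int.ofNat 0, Int.ofNat 0, Int.ofNat 2, Int.negSucc 1, Int.ofNat 0, Int.ofNat 2, Int.ofNat 0, Int.ofNat 0, Int.ofNat 0, Int.ofNat 2, Int.ofNat 0, Int.negSucc 1, Int.ofNat 0, Int.ofNat 0, Int.ofNat 0, Int.ofNat 0, Int.ofNat 0, Int.ofNat 0, Int.ofNat 2, Int.negSucc 1],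
  [Int.negSucc 1, Int.ofNat 0, Int.ofNat 0, Int.ofNat 0, Int.ofNat 0, Int.ofNat 2, Int.negSucc 1, Int.ofNat 0, Int.ofNat 2, Int.ofNat 0, Int.ofNat 0, Int.ofNat 0, Int.ofNat 2, Int.ofNat 0, Int.negSucc 1, Int.ofNat 0, Int.ofNat 0, Int.ofNat 0, Int.ofNat 0, Int.ofNat 0, Int.ofNat 0, Int.ofNat 2, Int.ofNat 0, Int.negSucc 1],
  [Int.ofNat 2, Int.ofNat 0, Int.ofNat 0, Int.ofNat 0, Int.ofNat 0, Int.ofNat 2, Int.negSucc 1, Int.ofNat 0, Int.ofNat 2, Int.ofNat 0, Int.ofNat 0, Int.ofNat 0, Int.ofNat 2, Int.ofNat 0, Int.negSucc 1, Int.ofNat 0, Int.ofNat 0, Int.ofNat 0, Int.ofNat 0, Int.ofNat 0, Int.ofNat 0, Int.negSucc 1, Int.ofNat 0, Int.negSucc 1],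
  [Int.negSucc 1, Int.ofNat 0, Int.ofNat 0, Int.ofNat 0, Int.ofNat 0, Int.ofNat 2, Int.ofNat 2, Int.ofNat 0, Int.negSucc 1, Int.ofNat 0, Int.ofNat 0, Int.ofNat 0, Int.negSucc 1, Int.ofNat 0, Int.negSucc 1, Int.ofNat 0, Int.ofNat 0, Int.ofNat 0, Int.ofNat 0, Int.ofNat 0, Int.ofNat 0, Int.negSucc 1, Int.ofNat 0, Int.negSucc 1],
  [Int.negSucc 1, Int.ofNat 0, Int.ofNat 0, Int.ofNat 0, Int.ofNat 0, Int.ofNat 0, Int.ofNat 0, Int.ofNat 0, Int.ofNat 0, Int.ofNat 0, Int.negSucc 1, Int.negSucc 1, Int.ofNat 0, Int.negSucc 1, Int.ofNat 0, Int.ofNat 0, Int.negSucc 1, Int.ofNat 0, Int.ofNat 2, Int.ofNat 0, Int.ofNat 2, Int.ofNat 0, Int.ofNat 0, Int.negSucc 1],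
  [Int.ofNat 2, Int.ofNat 0, Int.ofNat 0, Int.ofNat 0, Int.ofNat 0, Int.ofNat 0, Int.ofNat 0, Int.ofNat 0, Int.ofNat 0, Int.ofNat 0, Int.ofNat 2, Int.ofNat 2, Int.ofNat 0, Int.negSucc 1, Int.ofNat 0, Int.ofNat 0, Int.negSucc 1, Int.ofNat 0, Int.negSucc 1, Int.ofNat 0, Int.ofNat 2, Int.ofNat 0, Int.ofNat 0, Int.negSucc 1],
  [Int.ofNat 0, Int.ofNat 2, Int.ofNat 0, Int.ofNat 0, Int.ofNat 0, Int.ofNat 0, Int.ofNat 0, Int.ofNat 0, Int.ofNat 0, Int.ofNat 0, Int.ofNat 0, Int.ofNat 2, Int.ofNat 2, Int.ofNat 0, Int.negSucc 1, Int.ofNat 0, Int.ofNat 0, Int.negSucc 1, Int.ofNat 0, Int.negSucc 1, Int.ofNat 0, Int.ofNat 2, Int.ofNat 0, Int.negSucc 1],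
  [Int.ofNat 0, Int.negSucc 1, Int.ofNat 0, Int.ofNat 2, Int.ofNat 0, Int.ofNat 2, Int.ofNat 0, Int.ofNat 0, Int.negSucc 1, Int.ofNat 0, Int.ofNat 0, Int.ofNat 0, Int.ofNat 0, Int.ofNat 0, Int.ofNat 0, Int.ofNat 0, Int.ofNat 0, Int.ofNat 0, Int.negSucc 1, Int.negSucc 1, Int.ofNat 0, Int.ofNat 2, Int.ofNat 0, Int.ofNat 2],
  [Int.ofNat 2, Int.ofNat 0, Int.ofNat 2, Int.ofNat 0, Int.ofNat 0, Int.negSucc 1, Int.ofNat 0, Int.ofNat 0, Int.ofNat 0, Int.ofNat 0, Int.ofNat 0, Int.ofNat 0, Int.ofNat 0, Int.ofNat 0, Int.ofNat 0, Int.negSucc 1, Int.negSucc 1, Int.ofNat 0, Int.ofNat 2, Int.ofNat 0, Int.ofNat 0, Int.negSucc 1, Int.ofNat 0, Int.ofNat 2],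
  [Int.ofNat 1, Int.ofNat 3, Int.ofNat 1, Int.ofNat 1, Int.ofNat 1, Int.negSucc 0, Int.ofNat 1, Int.ofNat 1, Int.negSucc 0, Int.ofNat 1, Int.ofNat 1, Int.negSucc 0, Int.negSucc 0, Int.ofNat 1, Int.ofNat 1, Int.negSucc 0, Int.negSucc 0, Int.ofNat 1, Int.ofNat 1, Int.ofNat 1, Int.ofNat 1, Int.negSucc 0, Int.ofNat 1, Int.ofNat 1],
  [Int.ofNat 1, Int.ofNat 1, Int.ofNat 1, Int.ofNat 1, Int.ofNat 1, Int.ofNat 1, Int.ofNat 1, Int.ofNat 1, Int.negSucc 0, Int.ofNat 1, Int.ofNat 1, Int.ofNat 1, Int.ofNat 1, Int.negSucc 0, Int.ofNat 1, Int.negSucc 0, Int.negSucc 0, Int.ofNat 1, Int.ofNat 3, Int.negSucc 0, Int.negSucc 0, Int.negSucc 0, Int.ofNat 1, Int.ofNat 1],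
  [Int.ofNat 1, Int.ofNat 1, Int.ofNat 1, Int.negSucc 0, Int.ofNat 1, Int.negSucc 0, Int.ofNat 1, Int.ofNat 1, Int.negSucc 2, Int.ofNat 1, Int.ofNat 1, Int.negSucc 0, Int.negSucc 0, Int.negSucc 0, Int.negSucc 0, Int.negSucc 0, Int.negSucc 0, Int.negSucc 0, Int.ofNat 1, Int.negSucc 0, Int.negSucc 0, Int.negSucc 0, Int.ofNat 1, Int.ofNat 1],
  [Int.ofNat 1, Int.ofNat 1, Int.negSucc 0, Int.negSucc 0, Int.ofNat 1, Int.ofNat 1, Int.negSucc 0, Int.ofNat 1, Int.negSucc 2, Int.negSucc 0, Int.negSucc 0, Int.negSucc 0, Int.negSucc 0, Int.negSucc 0, Int.negSucc 0, Int.ofNat 1, Int.negSucc 0, Int.negSucc 0, Int.negSucc 0, Int.negSucc 0, Int.negSucc 0, Int.negSucc 0, Int.negSucc 0, Int.ofNat 1],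
  [Int.negSucc 0, Int.negSucc 0, Int.negSucc 0, Int.negSucc 2, Int.negSucc 0, Int.negSucc 0, Int.negSucc 0, Int.negSucc 0, Int.ofNat 1, Int.negSucc 0, Int.negSucc 0, Int.ofNat 1, Int.ofNat 1, Int.ofNat 1, Int.negSucc 0, Int.negSucc 0, Int.negSucc 0, Int.negSucc 0, Int.negSucc 0, Int.negSucc 0, Int.ofNat 1, Int.ofNat 1, Int.negSucc 0, Int.ofNat 1],
  [Int.ofNat 1, Int.negSucc 0, Int.ofNat 1, Int.negSucc 0, Int.negSucc 0, Int.negSucc 0, Int.negSucc 0, Int.ofNat 1, Int.ofNat 1, Int.negSucc 0, Int.negSucc 0, Int.negSucc 0, Int.ofNat 1, Int.negSucc 0, Int.negSucc 0, Int.negSucc 2, Int.negSucc 0, Int.negSucc 0, Int.negSucc 0, Int.negSucc 0, Int.ofNat 1, Int.ofNat 1, Int.negSucc 0, Int.negSucc 0],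
  [Int.negSucc 0, Int.negSucc 0, Int.negSucc 0, Int.negSucc 0, Int.negSucc 0, Int.negSucc 0, Int.negSucc 0, Int.negSucc 0, Int.ofNat 1, Int.ofNat 1, Int.ofNat 1, Int.ofNat 1, Int.ofNat 1, Int.negSucc 0, Int.negSucc 0, Int.negSucc 2, Int.negSucc 0, Int.negSucc 0, Int.ofNat 1, Int.negSucc 0, Int.ofNat 1, Int.negSucc 0, Int.negSucc 0, Int.negSucc 0],
  [Int.negSucc 0, Int.negSucc 0, Int.negSucc 0, Int.negSucc 0, Int.negSucc 0, Int.negSucc 0, Int.negSucc 0, Int.negSucc 0, Int.negSucc 0, Int.ofNat 1, Int.ofNat 1, Int.ofNat 1, Int.ofNat 1, Int.ofNat 1, Int.negSucc 0, Int.negSucc 0, Int.negSucc 2, Int.negSucc 0, Int.negSucc 0, Int.ofNat 1, Int.negSucc 0, Int.ofNat 1, Int.negSucc 0, Int.negSucc 0],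
  [Int.negSucc 0, Int.negSucc 0, Int.negSucc 0, Int.ofNat 1, Int.ofNat 1, Int.ofNat 1, Int.negSucc 0, Int.negSucc 0, Int.negSucc 0, Int.ofNat 1, Int.ofNat 1, Int.ofNat 1, Int.ofNat 1, Int.ofNat 3, Int.ofNat 1, Int.negSucc 0, Int.negSucc 0, Int.ofNat 1, Int.negSucc 0, Int.ofNat 1, Int.negSucc 0, Int.ofNat 1, Int.ofNat 1, Int.negSucc 0],
  [Int.ofNat 1, Int.ofNat 1, Int.ofNat 1, Int.negSucc 0, Int.negSucc 0, Int.negSucc 0, Int.ofNat 1, Int.ofNat 1, Int.ofNat 1, Int.ofNat 1, Int.ofNat 3, Int.ofNat 1, Int.negSucc 0, Int.negSucc 0, Int.ofNat 1, Int.negSucc 0, Int.ofNat 1, Int.negSucc 0, Int.ofNat 1, Int.ofNat 1, Int.negSucc 0, Int.negSucc 0, Int.negSucc 0, Int.negSucc 0],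
  [Int.ofNat 0, Int.ofNat 0, Int.ofNat 0, Int.ofNat 0, Int.ofNat 0, Int.ofNat 0, Int.ofNat 0, Int.ofNat 0, Int.ofNat 0, Int.ofNat 0, Int.ofNat 2, Int.ofNat 0, Int.negSucc 1, Int.ofNat 0, Int.ofNat 2, Int.negSucc 1, Int.ofNat 2, Int.ofNat 0, Int.ofNat 0, Int.ofNat 0, Int.negSucc 1, Int.negSucc 1, Int.ofNat 0, Int.ofNat 2],
  [Int.ofNat 0, Int.ofNat 0, Int.ofNat 0, Int.ofNat 0, Int.ofNat 0, Int.ofNat 0, Int.ofNat 0, Int.ofNat 2, Int.negSucc 1, Int.ofNat 0, Int.negSucc 1, Int.ofNat 0, Int.ofNat 0, Int.ofNat 2, Int.ofNat 0, Int.negSucc 1, Int.ofNat 0, Int.ofNat 2, Int.ofNat 0, Int.ofNat 0, Int.negSucc 1, Int.ofNat 0, Int.ofNat 0, Int.ofNat 2],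
  [Int.ofNat 1, Int.ofNat 1, Int.ofNat 1, Int.negSucc 0, Int.negSucc 0, Int.negSucc 0, Int.negSucc 0, Int.ofNat 1, Int.negSucc 0, Int.ofNat 3, Int.ofNat 1, Int.ofNat 1, Int.ofNat 1, Int.ofNat 1, Int.negSucc 0, Int.ofNat 1, Int.negSucc 0, Int.ofNat 1, Int.ofNat 1, Int.negSucc 0, Int.ofNat 1, Int.negSucc 0, Int.negSucc 0, Int.negSucc 0],
  [Int.ofNat 1, Int.ofNat 1, Int.negSucc 0, Int.negSucc 0, Int.negSucc 0, Int.ofNat 1, Int.ofNat 1, Int.ofNat 1, Int.negSucc 0, Int.negSucc 2, Int.negSucc 0, Int.ofNat 1, Int.ofNat 1, Int.ofNat 1, Int.negSucc 0, Int.negSucc 0, Int.negSucc 0, Int.ofNat 1, Int.negSucc 0, Int.negSucc 0, Int.ofNat 1, Int.negSucc 0, Int.ofNat 1, Int.negSucc 0],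
  [Int.ofNat 1, Int.ofNat 1, Int.ofNat 1, Int.ofNat 1, Int.negSucc 0, Int.ofNat 1, Int.negSucc 2, Int.negSucc 0, Int.negSucc 0, Int.ofNat 1, Int.negSucc 0, Int.negSucc 0, Int.negSucc 0, Int.negSucc 0, Int.ofNat 1, Int.ofNat 1, Int.ofNat 1, Int.negSucc 0, Int.ofNat 1, Int.negSucc 0, Int.ofNat 1, Int.negSucc 0, Int.negSucc 0, Int.negSucc 0],
  [Int.ofNat 1, Int.ofNat 1, Int.negSucc 0, Int.ofNat 1, Int.negSucc 0, Int.negSucc 0, Int.ofNat 3, Int.negSucc 0, Int.negSucc 0, Int.negSucc 0, Int.ofNat 1, Int.negSucc 0, Int.negSucc 0, Int.negSucc 0, Int.ofNat 1, Int.negSucc 0, Int.ofNat 1, Int.negSucc 0, Int.negSucc 0, Int.negSucc 0, Int.ofNat 1, Int.negSucc 0, Int.ofNat 1, Int.negSucc 0],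
  [Int.negSucc 0, Int.negSucc 0, Int.ofNat 1, Int.ofNat 1, Int.negSucc 0, Int.negSucc 0, Int.ofNat 3, Int.negSucc 0, Int.ofNat 1, Int.negSucc 0, Int.ofNat 1, Int.ofNat 1, Int.ofNat 1, Int.negSucc 0, Int.ofNat 1, Int.negSucc 0, Int.ofNat 1, Int.negSucc 0, Int.ofNat 1, Int.negSucc 0, Int.ofNat 1, Int.negSucc 0, Int.ofNat 1, Int.ofNat 1],
  [Int.negSucc 0, Int.ofNat 1, Int.ofNat 3, Int.ofNat 1, Int.ofNat 1, Int.negSucc 0, Int.negSucc 0, Int.negSucc 0, Int.ofNat 1, Int.ofNat 1, Int.negSucc 0, Int.negSucc 0, Int.ofNat 1, Int.negSucc 0, Int.negSucc 0, Int.negSucc 0, Int.negSucc 0, Int.ofNat 1, Int.negSucc 0, Int.ofNat 1, Int.ofNat 1, Int.ofNat 1, Int.ofNat 1, Int.ofNat 1],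
  [Int.ofNat 3, Int.ofNat 1, Int.negSucc 0, Int.ofNat 1, Int.ofNat 1, Int.negSucc 0, Int.negSucc 0, Int.negSucc 0, Int.ofNat 1, Int.ofNat 1, Int.negSucc 0, Int.negSucc 0, Int.ofNat 1, Int.negSucc 0, Int.negSucc 0, Int.negSucc 0, Int.negSucc 0, Int.ofNat 1, Int.negSucc 0, Int.ofNat 1, Int.ofNat 1, Int.ofNat 1, Int.ofNat 1, Int.ofNat 1],
  [Int.ofNat 1, Int.ofNat 1, Int.ofNat 1, Int.ofNat 3, Int.ofNat 1, Int.negSucc 0, Int.ofNat 1, Int.ofNat 1, Int.negSucc 0, Int.negSucc 0, Int.negSucc 0, Int.ofNat 1, Int.ofNat 1, Int.negSucc 0, Int.negSucc 0, Int.ofNat 1, Int.negSucc 0, Int.negSucc 0, Int.negSucc 0, Int.negSucc 0, Int.ofNat 1, Int.negSucc 0, Int.ofNat 1, Int.ofNat 1],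
  [Int.ofNat 1, Int.ofNat 1, Int.ofNat 1, Int.ofNat 3, Int.ofNat 1, Int.negSucc 0, Int.ofNat 1, Int.ofNat 1, Int.negSucc 0, Int.negSucc 0, Int.negSucc 0, Int.ofNat 1, Int.ofNat 1, Int.negSucc 0, Int.negSucc 0, Int.ofNat 1, Int.negSucc 0, Int.negSucc 0, Int.negSucc 0, Int.negSucc 0, Int.ofNat 1, Int.negSucc 0, Int.ofNat 1, Int.ofNat 1],
  [Int.ofNat 1, Int.ofNat 1, Int.ofNat 3, Int.ofNat 1, Int.negSucc 0, Int.ofNat 1, Int.ofNat 1, Int.negSucc 0, Int.negSucc 0, Int.negSucc 0, Int.ofNat 1, Int.ofNat 1, Int.negSucc 0, Int.negSucc 0, Int.ofNat 1, Int.negSucc 0, Int.negSucc 0, Int.negSucc 0, Int.negSucc 0, Int.ofNat 1, Int.negSucc 0, Int.ofNat 1, Int.ofNat 1, Int.ofNat 1],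
  [Int.negSucc 0, Int.ofNat 1, Int.negSucc 2, Int.ofNat 1, Int.negSucc 0, Int.ofNat 1, Int.ofNat 1, Int.ofNat 1, Int.negSucc 0, Int.ofNat 1, Int.negSucc 0, Int.negSucc 0, Int.negSucc 0, Int.negSucc 0, Int.ofNat 1, Int.negSucc 0, Int.negSucc 0, Int.negSucc 0, Int.ofNat 1, Int.ofNat 1, Int.negSucc 0, Int.negSucc 0, Int.ofNat 1, Int.ofNat 1],
  [Int.ofNat 1, Int.negSucc 0, Int.ofNat 3, Int.negSucc 0, Int.ofNat 1, Int.ofNat 1, Int.negSucc 0, Int.ofNat 1, Int.ofNat 1, Int.negSucc 0, Int.negSucc 0, Int.negSucc 0, Int.ofNat 1, Int.ofNat 1, Int.ofNat 1, Int.negSucc 0, Int.ofNat 1, Int.negSucc 0, Int.negSucc 0, Int.ofNat 1, Int.negSucc 0, Int.negSucc 0, Int.ofNat 1, Int.ofNat 1],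
  [Int.ofNat 1, Int.ofNat 3, Int.negSucc 0, Int.negSucc 0, Int.negSucc 0, Int.negSucc 0, Int.ofNat 1, Int.negSucc 0, Int.negSucc 0, Int.ofNat 1, Int.negSucc 0, Int.ofNat 1, Int.ofNat 1, Int.ofNat 1, Int.ofNat 1, Int.negSucc 0, Int.ofNat 1, Int.ofNat 1, Int.negSucc 0, Int.negSucc 0, Int.ofNat 1, Int.ofNat 1, Int.negSucc 0, Int.ofNat 1],
  [Int.negSucc 0, Int.ofNat 3, Int.ofNat 1, Int.negSucc 0, Int.negSucc 0, Int.negSucc 0, Int.ofNat 1, Int.ofNat 1, Int.negSucc 0, Int.negSucc 0, Int.ofNat 1, Int.negSucc 0, Int.ofNat 1, Int.ofNat 1, Int.ofNat 1, Int.negSucc 0, Int.ofNat 1, Int.ofNat 1, Int.ofNat 1, Int.negSucc 0, Int.ofNat 1, Int.negSucc 0, Int.negSucc 0, Int.ofNat 1],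
  [Int.negSucc 0, Int.negSucc 0, Int.ofNat 3, Int.ofNat 1, Int.negSucc 0, Int.negSucc 0, Int.negSucc 0, Int.ofNat 1, Int.ofNat 1, Int.negSucc 0, Int.negSucc 0, Int.ofNat 1, Int.negSucc 0, Int.ofNat 1, Int.ofNat 1, Int.ofNat 1, Int.negSucc 0, Int.ofNat 1, Int.ofNat 1, Int.ofNat 1, Int.negSucc 0, Int.ofNat 1, Int.negSucc 0, Int.ofNat 1],
  [Int.ofNat 2, Int.ofNat 2, Int.negSucc 1, Int.ofNat 0, Int.ofNat 0, Int.negSucc 1, Int.negSucc 1, Int.ofNat 0, Int.ofNat 0, Int.ofNat 0, Int.ofNat 0, Int.ofNat 0, Int.negSucc 1, Int.ofNat 2, Int.ofNat 0, Int.ofNat 2, Int.ofNat 0, Int.ofNat 0, Int.ofNat 0, Int.ofNat 0, Int.ofNat 0, Int.ofNat 0, Int.ofNat 0, Int.ofNat 0],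
  [Int.ofNat 0, Int.ofNat 0, Int.negSucc 1, Int.negSucc 1, Int.ofNat 0, Int.ofNat 0, Int.ofNat 0, Int.ofNat 0, Int.ofNat 0, Int.negSucc 1, Int.ofNat 2, Int.ofNat 0, Int.ofNat 2, Int.ofNat 0, Int.ofNat 0, Int.ofNat 0, Int.ofNat 0, Int.ofNat 0, Int.ofNat 0, Int.ofNat 0, Int.ofNat 2, Int.ofNat 2, Int.negSucc 1, Int.ofNat 0],
  [Int.negSucc 0, Int.negSucc 0, Int.ofNat 1, Int.negSucc 0, Int.ofNat 1, Int.ofNat 1, Int.negSucc 0, Int.negSucc 0, Int.negSucc 0, Int.negSucc 2, Int.ofNat 1, Int.negSucc 0, Int.ofNat 1, Int.ofNat 1, Int.ofNat 1, Int.negSucc 0, Int.ofNat 1, Int.ofNat 1, Int.negSucc 0, Int.negSucc 0, Int.ofNat 1, Int.ofNat 1, Int.negSucc 0, Int.negSucc 0],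
  [Int.negSucc 0, Int.negSucc 0, Int.ofNat 1, Int.negSucc 0, Int.negSucc 0, Int.negSucc 0, Int.ofNat 1, Int.ofNat 1, Int.ofNat 1, Int.ofNat 1, Int.ofNat 1, Int.ofNat 1, Int.negSucc 2, Int.ofNat 1, Int.negSucc 0, Int.negSucc 0, Int.negSucc 0, Int.ofNat 1, Int.negSucc 0, Int.negSucc 0, Int.ofNat 1, Int.ofNat 1, Int.negSucc 0, Int.negSucc 0],
  [Int.ofNat 0, Int.ofNat 0, Int.negSucc 1, Int.ofNat 0, Int.ofNat 0, Int.ofNat 0, Int.ofNat 0, Int.ofNat 0, Int.ofNat 2, Int.ofNat 0, Int.ofNat 0, Int.ofNat 2, Int.negSucc 1, Int.ofNat 2, Int.ofNat 0, Int.negSucc 1, Int.ofNat 0, Int.ofNat 2, Int.ofNat 0, Int.negSucc 1, Int.ofNat 0, Int.ofNat 0, Int.ofNat 0, Int.ofNat 0],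
  [Int.ofNat 0, Int.ofNat 0, Int.ofNat 2, Int.ofNat 0, Int.ofNat 0, Int.ofNat 0, Int.ofNat 0, Int.ofNat 0, Int.ofNat 2, Int.ofNat 0, Int.ofNat 0, Int.ofNat 2, Int.negSucc 1, Int.ofNat 2, Int.ofNat 0, Int.ofNat 2, Int.ofNat 0, Int.ofNat 2, Int.ofNat 0, Int.negSucc 1, Int.ofNat 0, Int.ofNat 0, Int.ofNat 0, Int.ofNat 0],
  [Int.ofNat 0, Int.ofNat 0, Int.ofNat 2, Int.ofNat 2, Int.ofNat 0, Int.ofNat 0, Int.ofNat 0, Int.ofNat 0, Int.ofNat 0, Int.ofNat 0, Int.ofNat 2, Int.ofNat 0, Int.ofNat 2, Int.ofNat 0, Int.ofNat 2, Int.ofNat 0, Int.negSucc 1, Int.negSucc 1, Int.ofNat 0, Int.ofNat 2, Int.ofNat 0, Int.ofNat 0, Int.ofNat 0, Int.ofNat 0],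
  [Int.ofNat 0, Int.ofNat 0, Int.ofNat 0, Int.ofNat 0, Int.negSucc 1, Int.ofNat 0, Int.ofNat 2, Int.ofNat 0, Int.ofNat 0, Int.ofNat 0, Int.negSucc 1, Int.ofNat 2, Int.ofNat 0, Int.ofNat 0, Int.ofNat 0, Int.ofNat 2, Int.ofNat 2, Int.ofNat 0, Int.ofNat 2, Int.ofNat 0, Int.ofNat 0, Int.ofNat 2, Int.ofNat 0, Int.ofNat 0],
  [Int.ofNat 0, Int.ofNat 0, Int.ofNat 0, Int.ofNat 0, Int.negSucc 1, Int.ofNat 0, Int.ofNat 2, Int.ofNat 0, Int.ofNat 0, Int.ofNat 0, Int.ofNat 2, Int.negSucc 1, Int.ofNat 0, Int.ofNat 0, Int.ofNat 0, Int.ofNat 2, Int.ofNat 2, Int.ofNat 0, Int.negSucc 1, Int.ofNat 0, Int.ofNat 0, Int.negSucc 1, Int.ofNat 0, Int.ofNat 0],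
  [Int.ofNat 0, Int.ofNat 0, Int.ofNat 0, Int.ofNat 0, Int.ofNat 0, Int.negSucc 1, Int.ofNat 0, Int.ofNat 2, Int.ofNat 0, Int.ofNat 0, Int.ofNat 0, Int.ofNat 2, Int.negSucc 1, Int.ofNat 0, Int.ofNat 0, Int.ofNat 0, Int.ofNat 2, Int.ofNat 2, Int.ofNat 0, Int.negSucc 1, Int.ofNat 0, Int.ofNat 0, Int.negSucc 1, Int.ofNat 0],
  [Int.ofNat 0, Int.ofNat 0, Int.ofNat 0, Int.ofNat 0, Int.ofNat 0, Int.negSucc 1, Int.ofNat 0, Int.ofNat 2, Int.ofNat 0, Int.ofNat 0, Int.ofNat 0, Int.ofNat 2, Int.negSucc 1, Int.ofNat 0, Int.ofNat 0, Int.ofNat 0, Int.ofNat 2, Int.ofNat 2, Int.ofNat 0, Int.negSucc 1, Int.ofNat 0, Int.ofNat 0, Int.negSucc 1, Int.ofNat 0],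
  [Int.ofNat 0, Int.ofNat 0, Int.negSucc 1, Int.ofNat 0, Int.ofNat 2, Int.ofNat 0, Int.ofNat 0, Int.ofNat 0, Int.ofNat 2, Int.negSucc 1, Int.ofNat 0, Int.ofNat 0, Int.ofNat 0, Int.ofNat 2, Int.ofNat 2, Int.ofNat 0, Int.negSucc 1, Int.ofNat 0, Int.ofNat 0, Int.negSucc 1, Int.ofNat 0, Int.ofNat 0, Int.ofNat 0, Int.ofNat 0],
  [Int.negSucc 0, Int.negSucc 0, Int.ofNat 1, Int.negSucc 0, Int.ofNat 1, Int.negSucc 0, Int.ofNat 1, Int.ofNat 1, Int.ofNat 1, Int.negSucc 0, Int.ofNat 1, Int.negSucc 0, Int.negSucc 0, Int.ofNat 1, Int.ofNat 1, Int.ofNat 1, Int.negSucc 2, Int.negSucc 0, Int.negSucc 0, Int.negSucc 0, Int.ofNat 1, Int.ofNat 1, Int.negSucc 0, Int.negSucc 0],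
  [Int.negSucc 0, Int.ofNat 1, Int.ofNat 1, Int.negSucc 0, Int.negSucc 0, Int.ofNat 1, Int.ofNat 1, Int.ofNat 1, Int.negSucc 0, Int.ofNat 1, Int.ofNat 1, Int.negSucc 0, Int.negSucc 0, Int.negSucc 2, Int.negSucc 0, Int.ofNat 1, Int.ofNat 1, Int.ofNat 1, Int.negSucc 0, Int.negSucc 0, Int.ofNat 1, Int.negSucc 0, Int.negSucc 0, Int.negSucc 0],
  [Int.ofNat 1, Int.negSucc 0, Int.negSucc 0, Int.negSucc 0, Int.ofNat 1, Int.ofNat 1, Int.ofNat 1, Int.ofNat 1, Int.ofNat 1, Int.negSucc 0, Int.negSucc 0, Int.ofNat 1, Int.ofNat 1, Int.negSucc 0, Int.negSucc 0, Int.negSucc 0, Int.ofNat 3, Int.ofNat 1, Int.ofNat 1, Int.negSucc 0, Int.negSucc 0, Int.negSucc 0, Int.ofNat 1, Int.ofNat 1],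
  [Int.ofNat 1, Int.negSucc 0, Int.ofNat 1, Int.negSucc 0, Int.ofNat 1, Int.negSucc 0, Int.negSucc 0, Int.ofNat 1, Int.ofNat 1, Int.ofNat 1, Int.ofNat 1, Int.ofNat 1, Int.ofNat 1, Int.negSucc 0, Int.negSucc 0, Int.ofNat 1, Int.ofNat 3, Int.ofNat 1, Int.negSucc 0, Int.negSucc 0, Int.negSucc 0, Int.negSucc 0, Int.negSucc 0, Int.ofNat 1],
  [Int.negSucc 0, Int.ofNat 1, Int.negSucc 0, Int.ofNat 1, Int.ofNat 1, Int.negSucc 0, Int.ofNat 1, Int.ofNat 3, Int.negSucc 0, Int.negSucc 0, Int.ofNat 1, Int.negSucc 0, Int.negSucc 0, Int.ofNat 1, Int.ofNat 1, Int.ofNat 1, Int.ofNat 1, Int.negSucc 0, Int.negSucc 0, Int.negSucc 0, Int.negSucc 0, Int.ofNat 1, Int.ofNat 1, Int.ofNat 1],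
  [Int.negSucc 0, Int.ofNat 1, Int.ofNat 1, Int.ofNat 1, Int.ofNat 1, Int.ofNat 1, Int.negSucc 0, Int.ofNat 3, Int.negSucc 0, Int.ofNat 1, Int.negSucc 0, Int.negSucc 0, Int.negSucc 0, Int.ofNat 1, Int.ofNat 1, Int.negSucc 0, Int.ofNat 1, Int.negSucc 0, Int.ofNat 1, Int.negSucc 0, Int.negSucc 0, Int.ofNat 1, Int.negSucc 0, Int.ofNat 1],
  [Int.ofNat 2, Int.ofNat 0, Int.ofNat 0, Int.ofNat 0, Int.ofNat 0, Int.ofNat 0, Int.negSucc 1, Int.ofNat 2, Int.ofNat 0, Int.ofNat 2, Int.ofNat 0, Int.ofNat 0, Int.ofNat 0, Int.ofNat 0, Int.ofNat 0, Int.ofNat 0, Int.ofNat 0, Int.negSucc 1, Int.ofNat 2, Int.negSucc 1, Int.ofNat 0, Int.ofNat 0, Int.negSucc 1, Int.ofNat 0],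
  [Int.ofNat 2, Int.ofNat 2, Int.negSucc 1, Int.ofNat 0, Int.ofNat 0, Int.ofNat 0, Int.ofNat 0, Int.ofNat 0, Int.ofNat 0, Int.ofNat 0, Int.ofNat 2, Int.negSucc 1, Int.ofNat 0, Int.ofNat 2, Int.negSucc 1, Int.ofNat 0, Int.ofNat 0, Int.ofNat 0, Int.ofNat 0, Int.negSucc 1, Int.ofNat 0, Int.ofNat 0, Int.ofNat 0, Int.ofNat 0],
  [Int.negSucc 0, Int.negSucc 0, Int.ofNat 3, Int.ofNat 1, Int.negSucc 0, Int.ofNat 1, Int.ofNat 1, Int.ofNat 1, Int.ofNat 1, Int.negSucc 0, Int.ofNat 1, Int.negSucc 0, Int.ofNat 1, Int.ofNat 1, Int.negSucc 0, Int.negSucc 0, Int.negSucc 0, Int.ofNat 1, Int.ofNat 1, Int.negSucc 0, Int.negSucc 0, Int.ofNat 1, Int.negSucc 0, Int.ofNat 1],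
  [Int.negSucc 0, Int.ofNat 1, Int.negSucc 0, Int.negSucc 0, Int.negSucc 0, Int.ofNat 3, Int.ofNat 1, Int.negSucc 0, Int.ofNat 1, Int.ofNat 1, Int.ofNat 1, Int.ofNat 1, Int.negSucc 0, Int.ofNat 1, Int.negSucc 0, Int.ofNat 1, Int.ofNat 1, Int.negSucc 0, Int.negSucc 0, Int.negSucc 0, Int.ofNat 1, Int.ofNat 1, Int.negSucc 0, Int.ofNat 1],
  [Int.ofNat 1, Int.negSucc 0, Int.ofNat 1, Int.negSucc 0, Int.negSucc 0, Int.ofNat 3, Int.ofNat 1, Int.negSucc 0, Int.ofNat 1, Int.negSucc 0, Int.negSucc 0, Int.ofNat 1, Int.negSucc 0, Int.ofNat 1, Int.negSucc 0, Int.negSucc 0, Int.ofNat 1, Int.negSucc 0, Int.negSucc 0, Int.negSucc 0, Int.negSucc 0, Int.ofNat 1, Int.negSucc 0, Int.negSucc 0],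
  [Int.negSucc 0, Int.ofNat 1, Int.negSucc 0, Int.negSucc 0, Int.ofNat 3, Int.ofNat 1, Int.negSucc 0, Int.ofNat 1, Int.negSucc 0, Int.negSucc 0, Int.ofNat 1, Int.negSucc 0, Int.ofNat 1, Int.negSucc 0, Int.negSucc 0, Int.ofNat 1, Int.negSucc 0, Int.negSucc 0, Int.negSucc 0, Int.negSucc 0, Int.ofNat 1, Int.negSucc 0, Int.ofNat 1, Int.negSucc 0],
  [Int.ofNat 1, Int.ofNat 1, Int.ofNat 1, Int.negSucc 0, Int.ofNat 3, Int.ofNat 1, Int.negSucc 0, Int.negSucc 0, Int.negSucc 0, Int.ofNat 1, Int.negSucc 0, Int.ofNat 1, Int.ofNat 1, Int.negSucc 0, Int.negSucc 0, Int.ofNat 1, Int.negSucc 0, Int.negSucc 0, Int.ofNat 1, Int.negSucc 0, Int.ofNat 1, Int.ofNat 1, Int.ofNat 1, Int.negSucc 0],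
  [Int.negSucc 0, Int.negSucc 0, Int.negSucc 0, Int.ofNat 1, Int.negSucc 2, Int.ofNat 1, Int.ofNat 1, Int.negSucc 0, Int.ofNat 1, Int.negSucc 0, Int.negSucc 0, Int.ofNat 1, Int.negSucc 0, Int.ofNat 1, Int.negSucc 0, Int.ofNat 1, Int.ofNat 1, Int.negSucc 0, Int.negSucc 0, Int.negSucc 0, Int.ofNat 1, Int.ofNat 1, Int.ofNat 1, Int.negSucc 0],
  [Int.negSucc 0, Int.negSucc 0, Int.negSucc 0, Int.ofNat 1, Int.negSucc 0, Int.negSucc 0, Int.negSucc 2, Int.ofNat 1, Int.negSucc 0, Int.ofNat 1, Int.ofNat 1, Int.negSucc 0, Int.ofNat 1, Int.ofNat 1, Int.negSucc 0, Int.ofNat 1, Int.negSucc 0, Int.ofNat 1, Int.ofNat 1, Int.negSucc 0, Int.ofNat 1, Int.negSucc 0, Int.ofNat 1, Int.negSucc 0],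
  [Int.ofNat 1, Int.negSucc 0, Int.ofNat 1, Int.ofNat 1, Int.negSucc 0, Int.negSucc 0, Int.negSucc 2, Int.negSucc 0, Int.negSucc 0, Int.negSucc 0, Int.negSucc 0, Int.ofNat 1, Int.ofNat 1, Int.ofNat 1, Int.negSucc 0, Int.ofNat 1, Int.negSucc 0, Int.ofNat 1, Int.negSucc 0, Int.negSucc 0, Int.ofNat 1, Int.ofNat 1, Int.ofNat 1, Int.negSucc 0],
  [Int.ofNat 1, Int.ofNat 1, Int.negSucc 0, Int.ofNat 1, Int.ofNat 1, Int.negSucc 0, Int.negSucc 0, Int.negSucc 2, Int.negSucc 0, Int.negSucc 0, Int.negSucc 0, Int.negSucc 0, Int.ofNat 1, Int.ofNat 1, Int.ofNat 1, Int.negSucc 0, Int.ofNat 1, Int.negSucc 0, Int.ofNat 1, Int.negSucc 0, Int.negSucc 0, Int.ofNat 1, Int.ofNat 1, Int.negSucc 0],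
  [Int.negSucc 0, Int.negSucc 0, Int.ofNat 1, Int.ofNat 1, Int.negSucc 0, Int.negSucc 0, Int.ofNat 1, Int.negSucc 0, Int.negSucc 0, Int.ofNat 1, Int.ofNat 1, Int.negSucc 0, Int.ofNat 1, Int.negSucc 0, Int.ofNat 1, Int.ofNat 1, Int.negSucc 0, Int.negSucc 0, Int.ofNat 1, Int.ofNat 1, Int.ofNat 1, Int.ofNat 3, Int.negSucc 0, Int.ofNat 1],
  [Int.ofNat 1, Int.negSucc 0, Int.negSucc 0, Int.ofNat 1, Int.negSucc 0, Int.negSucc 0, Int.ofNat 1, Int.ofNat 1, Int.negSucc 0, Int.ofNat 1, Int.negSucc 0, Int.ofNat 1, Int.ofNat 1, Int.negSucc 0, Int.negSucc 0, Int.ofNat 1, Int.ofNat 1, Int.ofNat 1, Int.ofNat 3, Int.negSucc 0, Int.negSucc 0, Int.negSucc 0, Int.ofNat 1, Int.ofNat 1],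
  [Int.negSucc 0, Int.ofNat 1, Int.ofNat 1, Int.ofNat 1, Int.negSucc 0, Int.negSucc 0, Int.ofNat 1, Int.ofNat 1, Int.negSucc 2, Int.ofNat 1, Int.negSucc 0, Int.negSucc 0, Int.negSucc 0, Int.negSucc 0, Int.negSucc 0, Int.ofNat 1, Int.ofNat 1, Int.ofNat 1, Int.ofNat 1, Int.negSucc 0, Int.negSucc 0, Int.negSucc 0, Int.ofNat 1, Int.negSucc 0],
  [Int.negSucc 0, Int.ofNat 1, Int.negSucc 0, Int.ofNat 1, Int.ofNat 1, Int.ofNat 1, Int.ofNat 1, Int.negSucc 0, Int.negSucc 0, Int.negSucc 0, Int.negSucc 0, Int.ofNat 1, Int.ofNat 1, Int.ofNat 1, Int.ofNat 1, Int.ofNat 1, Int.negSucc 2, Int.negSucc 0, Int.ofNat 1, Int.negSucc 0, Int.negSucc 0, Int.negSucc 0, Int.negSucc 0, Int.negSucc 0],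
  [Int.ofNat 0, Int.negSucc 1, Int.ofNat 0, Int.ofNat 0, Int.ofNat 2, Int.ofNat 0, Int.ofNat 2, Int.ofNat 0, Int.negSucc 1, Int.ofNat 0, Int.ofNat 0, Int.ofNat 0, Int.ofNat 0, Int.ofNat 2, Int.ofNat 0, Int.ofNat 2, Int.negSucc 1, Int.negSucc 1, Int.ofNat 0, Int.ofNat 0, Int.ofNat 0, Int.ofNat 0, Int.ofNat 0, Int.ofNat 0],
  [Int.ofNat 0, Int.negSucc 1, Int.ofNat 0, Int.ofNat 0, Int.ofNat 2, Int.ofNat 0, Int.negSucc 1, Int.ofNat 0, Int.negSucc 1, Int.ofNat 0, Int.ofNat 0, Int.ofNat 0, Int.ofNat 0, Int.ofNat 2, Int.ofNat 0, Int.negSucc 1, Int.negSucc 1, Int.negSucc 1, Int.ofNat 0, Int.ofNat 0, Int.ofNat 0, Int.ofNat 0, Int.ofNat 0, Int.ofNat 0],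
  [Int.ofNat 0, Int.negSucc 1, Int.ofNat 0, Int.negSucc 1, Int.ofNat 0, Int.negSucc 1, Int.ofNat 0, Int.ofNat 0, Int.ofNat 0, Int.ofNat 0, Int.ofNat 2, Int.ofNat 0, Int.negSucc 1, Int.ofNat 2, Int.negSucc 1, Int.ofNat 0, Int.ofNat 0, Int.ofNat 0, Int.ofNat 0, Int.ofNat 0, Int.ofNat 0, Int.negSucc 1, Int.ofNat 0, Int.ofNat 0],
  [Int.ofNat 0, Int.ofNat 0, Int.ofNat 0, Int.ofNat 0, Int.ofNat 0, Int.ofNat 0, Int.ofNat 0, Int.ofNat 2, Int.ofNat 0, Int.negSucc 1, Int.ofNat 0, Int.ofNat 0, Int.negSucc 1, Int.ofNat 0, Int.ofNat 0, Int.negSucc 1, Int.ofNat 2, Int.ofNat 0, Int.negSucc 1, Int.ofNat 0, Int.ofNat 0, Int.negSucc 1, Int.negSucc 1, Int.ofNat 0],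
  [Int.ofNat 0, Int.ofNat 0, Int.ofNat 0, Int.ofNat 0, Int.ofNat 0, Int.ofNat 0, Int.ofNat 0, Int.negSucc 1, Int.ofNat 0, Int.ofNat 2, Int.ofNat 0, Int.ofNat 0, Int.negSucc 1, Int.ofNat 0, Int.ofNat 0, Int.negSucc 1, Int.ofNat 2, Int.ofNat 0, Int.ofNat 2, Int.ofNat 0, Int.ofNat 0, Int.ofNat 2, Int.negSucc 1, Int.ofNat 0],
  [Int.negSucc 1, Int.ofNat 0, Int.ofNat 0, Int.ofNat 0, Int.ofNat 0, Int.ofNat 0, Int.ofNat 0, Int.ofNat 0, Int.negSucc 1, Int.ofNat 0, Int.ofNat 2, Int.ofNat 0, Int.ofNat 0, Int.negSucc 1, Int.ofNat 0, Int.ofNat 0, Int.negSucc 1, Int.ofNat 2, Int.ofNat 0, Int.ofNat 2, Int.ofNat 0, Int.ofNat 0, Int.ofNat 2, Int.ofNat 0],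
  [Int.ofNat 1, Int.negSucc 0, Int.negSucc 0, Int.negSucc 0, Int.ofNat 1, Int.negSucc 0, Int.negSucc 0, Int.negSucc 0, Int.negSucc 0, Int.negSucc 0, Int.ofNat 1, Int.ofNat 1, Int.ofNat 1, Int.negSucc 0, Int.negSucc 0, Int.negSucc 0, Int.negSucc 0, Int.ofNat 1, Int.ofNat 1, Int.ofNat 1, Int.negSucc 0, Int.negSucc 0, Int.ofNat 3, Int.negSucc 0],
  [Int.negSucc 0, Int.ofNat 1, Int.negSucc 0, Int.negSucc 0, Int.negSucc 0, Int.negSucc 0, Int.negSucc 0, Int.ofNat 1, Int.ofNat 1, Int.ofNat 1, Int.negSucc 0, Int.negSucc 0, Int.negSucc 0, Int.negSucc 0, Int.ofNat 1, Int.ofNat 1, Int.ofNat 1, Int.negSucc 0, Int.negSucc 0, Int.ofNat 3, Int.ofNat 1, Int.negSucc 0, Int.negSucc 0, Int.negSucc 0],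
  [Int.ofNat 0, Int.negSucc 1, Int.ofNat 0, Int.ofNat 0, Int.ofNat 0, Int.ofNat 0, Int.negSucc 1, Int.ofNat 0, Int.ofNat 2, Int.ofNat 0, Int.negSucc 1, Int.ofNat 0, Int.ofNat 0, Int.ofNat 0, Int.ofNat 2, Int.ofNat 0, Int.ofNat 2, Int.ofNat 0, Int.ofNat 0, Int.ofNat 2, Int.ofNat 0, Int.negSucc 1, Int.ofNat 0, Int.ofNat 0],
  [Int.ofNat 0, Int.negSucc 1, Int.ofNat 0, Int.ofNat 0, Int.ofNat 0, Int.ofNat 0, Int.ofNat 0, Int.negSucc 1, Int.ofNat 0, Int.ofNat 0, Int.ofNat 0, Int.ofNat 0, Int.ofNat 0, Int.ofNat 2, Int.ofNat 0, Int.ofNat 0, Int.ofNat 2, Int.ofNat 2, Int.negSucc 1, Int.ofNat 0, Int.negSucc 1, Int.ofNat 0, Int.ofNat 2, Int.ofNat 0],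
  [Int.negSucc 0, Int.ofNat 1, Int.negSucc 0, Int.negSucc 0, Int.negSucc 2, Int.negSucc 0, Int.ofNat 1, Int.negSucc 0, Int.ofNat 1, Int.ofNat 1, Int.ofNat 1, Int.ofNat 1, Int.ofNat 1, Int.negSucc 0, Int.negSucc 0, Int.ofNat 1, Int.negSucc 0, Int.ofNat 1, Int.negSucc 0, Int.ofNat 1, Int.negSucc 0, Int.ofNat 1, Int.negSucc 0, Int.negSucc 0],
  [Int.negSucc 0, Int.ofNat 1, Int.ofNat 1, Int.negSucc 0, Int.negSucc 2, Int.ofNat 1, Int.negSucc 0, Int.negSucc 0, Int.ofNat 1, Int.negSucc 0, Int.negSucc 0, Int.ofNat 1, Int.ofNat 1, Int.negSucc 0, Int.negSucc 0, Int.negSucc 0, Int.negSucc 0, Int.ofNat 1, Int.ofNat 1, Int.ofNat 1, Int.negSucc 0, Int.ofNat 1, Int.ofNat 1, Int.negSucc 0],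
  [Int.negSucc 0, Int.negSucc 0, Int.negSucc 0, Int.negSucc 0, Int.ofNat 1, Int.ofNat 1, Int.negSucc 0, Int.negSucc 0, Int.ofNat 1, Int.ofNat 1, Int.negSucc 2, Int.ofNat 1, Int.negSucc 0, Int.negSucc 0, Int.ofNat 1, Int.ofNat 1, Int.ofNat 1, Int.negSucc 0, Int.negSucc 0, Int.ofNat 1, Int.ofNat 1, Int.ofNat 1, Int.negSucc 0, Int.negSucc 0],
  [Int.negSucc 0, Int.negSucc 0, Int.ofNat 1, Int.negSucc 0, Int.ofNat 1, Int.negSucc 0, Int.ofNat 1, Int.negSucc 0, Int.ofNat 1, Int.negSucc 0, Int.ofNat 3, Int.ofNat 1, Int.negSucc 0, Int.negSucc 0, Int.ofNat 1, Int.negSucc 0, Int.ofNat 1, Int.negSucc 0, Int.ofNat 1, Int.ofNat 1, Int.ofNat 1, Int.ofNat 1, Int.ofNat 1, Int.negSucc 0],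
  [Int.ofNat 0, Int.ofNat 0, Int.negSucc 1, Int.ofNat 0, Int.ofNat 0, Int.ofNat 0, Int.ofNat 0, Int.negSucc 1, Int.ofNat 0, Int.negSucc 1, Int.ofNat 2, Int.ofNat 0, Int.negSucc 1, Int.negSucc 1, Int.ofNat 2, Int.negSucc 1, Int.ofNat 0, Int.ofNat 0, Int.ofNat 0, Int.ofNat 0, Int.ofNat 0, Int.ofNat 0, Int.ofNat 0, Int.ofNat 0],
  [Int.ofNat 0, Int.ofNat 0, Int.ofNat 0, Int.ofNat 0, Int.negSucc 1, Int.ofNat 0, Int.ofNat 0, Int.ofNat 0, Int.ofNat 0, Int.negSucc 1, Int.negSucc 1, Int.ofNat 0, Int.ofNat 0, Int.negSucc 1, Int.ofNat 0, Int.negSucc 1, Int.negSucc 1, Int.ofNat 0, Int.ofNat 0, Int.ofNat 0, Int.ofNat 2, Int.ofNat 0, Int.ofNat 2, Int.ofNat 0],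
  [Int.ofNat 0, Int.ofNat 0, Int.ofNat 0, Int.ofNat 0, Int.ofNat 0, Int.ofNat 0, Int.ofNat 0, Int.ofNat 0, Int.ofNat 0, Int.ofNat 0, Int.ofNat 0, Int.ofNat 0, Int.ofNat 0, Int.ofNat 0, Int.ofNat 0, Int.ofNat 0, Int.ofNat 0, Int.ofNat 0, Int.ofNat 0, Int.ofNat 0, Int.ofNat 4, Int.ofNat 0, Int.ofNat 4, Int.ofNat 0],
  [Int.ofNat 4, Int.ofNat 0, Int.ofNat 4, Int.ofNat 0, Int.ofNat 0, Int.ofNat 0, Int.ofNat 0, Int.ofNat 0, Int.ofNat 0, Int.ofNat 0, Int.ofNat 0, Int.ofNat 0, Int.ofNat 0, Int.ofNat 0, Int.ofNat 0, Int.ofNat 0, Int.ofNat 0, Int.ofNat 0, Int.ofNat 0, Int.ofNat 0, Int.ofNat 0, Int.ofNat 0, Int.ofNat 0, Int.ofNat 0],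
  [Int.ofNat 0, Int.ofNat 4, Int.ofNat 0, Int.ofNat 0, Int.ofNat 0, Int.ofNat 0, Int.ofNat 0, Int.ofNat 0, Int.ofNat 0, Int.ofNat 0, Int.ofNat 0, Int.ofNat 0, Int.ofNat 0, Int.ofNat 0, Int.ofNat 0, Int.ofNat 0, Int.ofNat 0, Int.ofNat 0, Int.ofNat 0, Int.ofNat 0, Int.ofNat 0, Int.ofNat 0, Int.ofNat 0, Int.ofNat 4],
  [Int.ofNat 4, Int.ofNat 0, Int.ofNat 0, Int.ofNat 0, Int.ofNat 0, Int.ofNat 0, Int.ofNat 0, Int.ofNat 0, Int.ofNat 0, Int.ofNat 0, Int.ofNat 0, Int.ofNat 0, Int.ofNat 0, Int.ofNat 0, Int.ofNat 0, Int.ofNat 0, Int.ofNat 0, Int.ofNat 0, Int.ofNat 0, Int.ofNat 0, Int.ofNat 0, Int.ofNat 0, Int.ofNat 0, Int.ofNat 4],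
  [Int.negSucc 3, Int.ofNat 0, Int.ofNat 0, Int.ofNat 0, Int.ofNat 0, Int.ofNat 0, Int.ofNat 0, Int.ofNat 0, Int.ofNat 0, Int.ofNat 0, Int.ofNat 0, Int.ofNat 0, Int.ofNat 0, Int.ofNat 0, Int.ofNat 0, Int.ofNat 0, Int.ofNat 0, Int.ofNat 0, Int.ofNat 0, Int.ofNat 0, Int.ofNat 0, Int.ofNat 0, Int.ofNat 0, Int.ofNat 4],
  [Int.ofNat 4, Int.ofNat 0, Int.ofNat 0, Int.ofNat 0, Int.ofNat 0, Int.ofNat 0, Int.ofNat 0, Int.ofNat 0, Int.ofNat 0, Int.ofNat 0, Int.ofNat 0, Int.ofNat 0, Int.ofNat 0, Int.ofNat 0, Int.ofNat 0, Int.ofNat 0, Int.ofNat 0, Int.ofNat 0, Int.ofNat 0, Int.ofNat 0, Int.ofNat 0, Int.ofNat 0, Int.ofNat 0, Int.ofNat 4],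
  [Int.ofNat 4, Int.ofNat 0, Int.ofNat 0, Int.ofNat 0, Int.ofNat 0, Int.ofNat 0, Int.ofNat 0, Int.ofNat 0, Int.ofNat 0, Int.ofNat 0, Int.ofNat 0, Int.ofNat 0, Int.ofNat 0, Int.ofNat 0, Int.ofNat 0, Int.ofNat 0, Int.ofNat 0, Int.ofNat 0, Int.ofNat 0, Int.ofNat 0, Int.ofNat 0, Int.ofNat 0, Int.ofNat 0, Int.ofNat 4],
  [Int.negSucc 3, Int.ofNat 0, Int.ofNat 0, Int.ofNat 0, Int.ofNat 0, Int.ofNat 0, Int.ofNat 0, Int.ofNat 0, Int.ofNat 0, Int.ofNat 0, Int.ofNat 0, Int.ofNat 0, Int.ofNat 0, Int.ofNat 0, Int.ofNat 0, Int.ofNat 0, Int.ofNat 0, Int.ofNat 0, Int.ofNat 0, Int.ofNat 0, Int.ofNat 0, Int.ofNat 0, Int.ofNat 0, Int.ofNat 4],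
  [Int.ofNat 0, Int.negSucc 3, Int.ofNat 0, Int.ofNat 0, Int.ofNat 0, Int.ofNat 0, Int.ofNat 0, Int.ofNat 0, Int.ofNat 0, Int.ofNat 0, Int.ofNat 0, Int.ofNat 0, Int.ofNat 0, Int.ofNat 0, Int.ofNat 0, Int.ofNat 0, Int.ofNat 0, Int.ofNat 0, Int.ofNat 0, Int.ofNat 0, Int.ofNat 0, Int.ofNat 0, Int.ofNat 0, Int.ofNat 4],
  [Int.ofNat 0, Int.ofNat 4, Int.ofNat 0, Int.ofNat 0, Int.ofNat 0, Int.ofNat 0, Int.ofNat 0, Int.ofNat 0, Int.ofNat 0, Int.ofNat 0, Int.ofNat 0, Int.ofNat 0, Int.ofNat 0, Int.ofNat 0, Int.ofNat 0, Int.ofNat 0, Int.ofNat 0, Int.ofNat 0, Int.ofNat 0, Int.ofNat 0, Int.ofNat 0, Int.ofNat 0, Int.ofNat 0, Int.negSucc 3],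
  [Int.ofNat 0, Int.ofNat 0, Int.ofNat 0, Int.ofNat 0, Int.ofNat 0, Int.ofNat 0, Int.ofNat 0, Int.ofNat 0, Int.ofNat 0, Int.ofNat 0, Int.ofNat 0, Int.ofNat 0, Int.ofNat 0, Int.ofNat 0, Int.ofNat 0, Int.ofNat 0, Int.ofNat 0, Int.ofNat 0, Int.ofNat 0, Int.ofNat 0, Int.ofNat 0, Int.ofNat 4, Int.ofNat 0, Int.negSucc 3],
  [Int.negSucc 1, Int.negSucc 1, Int.negSucc 1, Int.ofNat 0, Int.ofNat 0, Int.ofNat 0, Int.negSucc 1, Int.negSucc 1, Int.ofNat 0, Int.ofNat 0, Int.ofNat 0, Int.ofNat 0, Int.ofNat 0, Int.ofNat 0, Int.ofNat 0, Int.ofNat 0, Int.ofNat 0, Int.ofNat 0, Int.ofNat 0, Int.negSucc 1, Int.ofNat 0, Int.ofNat 2, Int.ofNat 0, Int.ofNat 2],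
  [Int.negSucc 1, Int.negSucc 1, Int.ofNat 0, Int.ofNat 0, Int.ofNat 0, Int.negSucc 1, Int.negSucc 1, Int.ofNat 0, Int.ofNat 0, Int.ofNat 0, Int.ofNat 0, Int.ofNat 0, Int.ofNat 0, Int.ofNat 0, Int.ofNat 0, Int.ofNat 0, Int.ofNat 0, Int.ofNat 0, Int.negSucc 1, Int.ofNat 0, Int.ofNat 2, Int.ofNat 0, Int.negSucc 1, Int.ofNat 2],
  [Int.ofNat 1, Int.ofNat 1, Int.negSucc 0, Int.ofNat 1, Int.ofNat 1, Int.negSucc 0, Int.negSucc 0, Int.ofNat 1, Int.ofNat 1, Int.negSucc 0, Int.negSucc 0, Int.ofNat 1, Int.ofNat 1, Int.ofNat 1, Int.ofNat 1, Int.negSucc 0, Int.ofNat 1, Int.ofNat 1, Int.negSucc 0, Int.ofNat 1, Int.ofNat 1, Int.ofNat 1, Int.negSucc 0, Int.negSucc 2],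
  [Int.ofNat 1, Int.ofNat 1, Int.ofNat 1, Int.ofNat 1, Int.ofNat 1, Int.ofNat 1, Int.ofNat 1, Int.ofNat 1, Int.ofNat 1, Int.ofNat 1, Int.ofNat 1, Int.ofNat 1, Int.ofNat 1, Int.ofNat 1, Int.ofNat 1, Int.ofNat 1, Int.ofNat 1, Int.ofNat 1, Int.ofNat 1, Int.ofNat 1, Int.ofNat 1, Int.ofNat 1, Int.ofNat 1, Int.negSucc 2],
  [Int.ofNat 1, Int.ofNat 1, Int.ofNat 1, Int.ofNat 1, Int.ofNat 1, Int.ofNat 1, Int.ofNat 1, Int.ofNat 1, Int.ofNat 1, Int.ofNat 1, Int.ofNat 1, Int.ofNat 1, Int.ofNat 1, Int.ofNat 1, Int.ofNat 1, Int.ofNat 1, Int.ofNat 1, Int.ofNat 1, Int.ofNat 1, Int.ofNat 1, Int.ofNat 1, Int.ofNat 1, Int.ofNat 1, Int.negSucc 2],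
  [Int.negSucc 2, Int.ofNat 1, Int.ofNat 1, Int.ofNat 1, Int.ofNat 1, Int.ofNat 1, Int.ofNat 1, Int.ofNat 1, Int.ofNat 1, Int.ofNat 1, Int.ofNat 1, Int.ofNat 1, Int.ofNat 1, Int.ofNat 1, Int.ofNat 1, Int.ofNat 1, Int.ofNat 1, Int.ofNat 1, Int.ofNat 1, Int.ofNat 1, Int.ofNat 1, Int.ofNat 1, Int.ofNat 1, Int.ofNat 1],
  [Int.ofNat 3, Int.ofNat 1, Int.negSucc 0, Int.ofNat 1, Int.ofNat 1, Int.ofNat 1, Int.ofNat 1, Int.negSucc 0, Int.ofNat 1, Int.negSucc 0, Int.negSucc 0, Int.negSucc 0, Int.ofNat 1, Int.ofNat 1, Int.ofNat 1, Int.ofNat 1, Int.ofNat 1, Int.ofNat 1, Int.negSucc 0, Int.ofNat 1, Int.ofNat 1, Int.negSucc 0, Int.ofNat 1, Int.ofNat 1],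
  [Int.ofNat 1, Int.ofNat 3, Int.ofNat 1, Int.negSucc 0, Int.ofNat 1, Int.ofNat 1, Int.ofNat 1, Int.ofNat 1, Int.negSucc 0, Int.ofNat 1, Int.negSucc 0, Int.negSucc 0, Int.negSucc 0, Int.ofNat 1, Int.ofNat 1, Int.ofNat 1, Int.ofNat 1, Int.ofNat 1, Int.ofNat 1, Int.negSucc 0, Int.ofNat 1, Int.ofNat 1, Int.negSucc 0, Int.ofNat 1],
  [Int.ofNat 2, Int.ofNat 0, Int.ofNat 2, Int.negSucc 1, Int.ofNat 0, Int.ofNat 0, Int.ofNat 0, Int.ofNat 0, Int.ofNat 0, Int.ofNat 0, Int.negSucc 1, Int.ofNat 0, Int.ofNat 0, Int.ofNat 0, Int.ofNat 0, Int.ofNat 0, Int.ofNat 0, Int.ofNat 0, Int.ofNat 2, Int.negSucc 1, Int.ofNat 0, Int.ofNat 0, Int.negSucc 1, Int.ofNat 2],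
  [Int.negSucc 1, Int.ofNat 0, Int.ofNat 0, Int.ofNat 0, Int.ofNat 0, Int.ofNat 0, Int.ofNat 0, Int.negSucc 1, Int.ofNat 0, Int.ofNat 0, Int.ofNat 0, Int.ofNat 0, Int.ofNat 0, Int.ofNat 0, Int.ofNat 0, Int.ofNat 2, Int.negSucc 1, Int.ofNat 0, Int.ofNat 0, Int.negSucc 1, Int.ofNat 2, Int.ofNat 0, Int.ofNat 2, Int.ofNat 2],
  [Int.ofNat 2, Int.ofNat 0, Int.ofNat 0, Int.ofNat 0, Int.ofNat 0, Int.ofNat 0, Int.ofNat 2, Int.ofNat 0, Int.ofNat 0, Int.negSucc 1, Int.negSucc 1, Int.ofNat 0, Int.ofNat 0, Int.ofNat 0, Int.ofNat 0, Int.ofNat 0, Int.negSucc 1, Int.ofNat 0, Int.ofNat 0, Int.ofNat 0, Int.ofNat 0, Int.ofNat 2, Int.ofNat 2, Int.negSucc 1],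
  [Int.ofNat 2, Int.ofNat 2, Int.ofNat 0, Int.ofNat 0, Int.ofNat 0, Int.ofNat 0, Int.ofNat 0, Int.negSucc 1, Int.ofNat 0, Int.ofNat 0, Int.ofNat 0, Int.ofNat 0, Int.negSucc 1, Int.negSucc 1, Int.ofNat 2, Int.ofNat 0, Int.ofNat 0, Int.ofNat 0, Int.ofNat 0, Int.ofNat 0, Int.ofNat 2, Int.ofNat 0, Int.ofNat 0, Int.negSucc 1],
  [Int.negSucc 0, Int.negSucc 0, Int.ofNat 1, Int.negSucc 0, Int.ofNat 1, Int.negSucc 0, Int.ofNat 1, Int.negSucc 0, Int.ofNat 1, Int.negSucc 0, Int.negSucc 0, Int.ofNat 1, Int.negSucc 0, Int.negSucc 0, Int.ofNat 1, Int.negSucc 0, Int.ofNat 1, Int.negSucc 0, Int.ofNat 1, Int.ofNat 1, Int.ofNat 1, Int.ofNat 1, Int.ofNat 1, Int.ofNat 3],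
  [Int.negSucc 0, Int.negSucc 0, Int.negSucc 0, Int.negSucc 0, Int.ofNat 1, Int.ofNat 1, Int.negSucc 0, Int.negSucc 0, Int.ofNat 1, Int.ofNat 1, Int.ofNat 1, Int.ofNat 1, Int.negSucc 0, Int.negSucc 0, Int.ofNat 1, Int.ofNat 1, Int.ofNat 1, Int.negSucc 0, Int.negSucc 0, Int.ofNat 1, Int.ofNat 1, Int.ofNat 1, Int.negSucc 0, Int.ofNat 3],
  [Int.negSucc 0, Int.negSucc 0, Int.ofNat 1, Int.negSucc 0, Int.ofNat 1, Int.negSucc 0, Int.ofNat 1, Int.ofNat 1, Int.ofNat 1, Int.ofNat 1, Int.ofNat 1, Int.negSucc 0, Int.negSucc 0, Int.ofNat 1, Int.negSucc 0, Int.ofNat 1, Int.negSucc 0, Int.ofNat 1, Int.negSucc 0, Int.ofNat 1, Int.negSucc 0, Int.negSucc 0, Int.ofNat 1, Int.ofNat 3],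
  [Int.negSucc 0, Int.negSucc 0, Int.negSucc 0, Int.negSucc 0, Int.ofNat 1, Int.ofNat 1, Int.negSucc 0, Int.ofNat 1, Int.ofNat 1, Int.negSucc 0, Int.negSucc 0, Int.negSucc 0, Int.negSucc 0, Int.ofNat 1, Int.negSucc 0, Int.negSucc 0, Int.negSucc 0, Int.ofNat 1, Int.ofNat 1, Int.ofNat 1, Int.negSucc 0, Int.negSucc 0, Int.negSucc 0, Int.ofNat 3],
  [Int.ofNat 1, Int.ofNat 1, Int.ofNat 1, Int.negSucc 0, Int.ofNat 1, Int.ofNat 1, Int.negSucc 0, Int.ofNat 1, Int.ofNat 1, Int.ofNat 1, Int.ofNat 1, Int.negSucc 0, Int.negSucc 0, Int.ofNat 1, Int.negSucc 0, Int.ofNat 1, Int.negSucc 0, Int.ofNat 1, Int.ofNat 1, Int.ofNat 1, Int.ofNat 1, Int.negSucc 0, Int.negSucc 0, Int.negSucc 2],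
  [Int.ofNat 1, Int.ofNat 1, Int.negSucc 0, Int.negSucc 0, Int.ofNat 1, Int.negSucc 0, Int.ofNat 1, Int.ofNat 1, Int.negSucc 0, Int.negSucc 0, Int.ofNat 1, Int.ofNat 1, Int.ofNat 1, Int.ofNat 1, Int.ofNat 1, Int.ofNat 1, Int.ofNat 1, Int.negSucc 0, Int.ofNat 1, Int.negSucc 0, Int.ofNat 1, Int.ofNat 1, Int.negSucc 0, Int.negSucc 2],
  [Int.negSucc 1, Int.negSucc 1, Int.ofNat 0, Int.ofNat 0, Int.ofNat 0, Int.ofNat 0, Int.ofNat 0, Int.ofNat 0, Int.negSucc 1, Int.negSucc 1, Int.ofNat 0, Int.ofNat 0, Int.ofNat 0, Int.ofNat 0, Int.ofNat 2, Int.ofNat 0, Int.ofNat 0, Int.ofNat 0, Int.ofNat 0, Int.negSucc 1, Int.ofNat 0, Int.ofNat 0, Int.negSucc 1, Int.ofNat 2],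
  [Int.ofNat 0, Int.ofNat 0, Int.negSucc 1, Int.negSucc 1, Int.negSucc 1, Int.ofNat 0, Int.ofNat 0, Int.ofNat 0, Int.ofNat 0, Int.ofNat 0, Int.ofNat 0, Int.negSucc 1, Int.negSucc 1, Int.ofNat 0, Int.ofNat 0, Int.ofNat 0, Int.ofNat 0, Int.ofNat 2, Int.ofNat 0, Int.ofNat 0, Int.ofNat 0, Int.ofNat 0, Int.negSucc 1, Int.ofNat 2],
  [Int.ofNat 0, Int.ofNat 0, Int.ofNat 2, Int.negSucc 1, Int.ofNat 0, Int.ofNat 0, Int.ofNat 0, Int.ofNat 0, Int.ofNat 2, Int.ofNat 0, Int.ofNat 0, Int.ofNat 0, Int.ofNat 0, Int.ofNat 2, Int.ofNat 0, Int.ofNat 0, Int.ofNat 2, Int.ofNat 2, Int.ofNat 2, Int.ofNat 0, Int.ofNat 0, Int.ofNat 0, Int.ofNat 0, Int.negSucc 1],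
  [Int.ofNat 0, Int.ofNat 2, Int.negSucc 1, Int.ofNat 0, Int.ofNat 0, Int.ofNat 0, Int.ofNat 0, Int.ofNat 2, Int.ofNat 0, Int.ofNat 0, Int.ofNat 0, Int.ofNat 0, Int.ofNat 2, Int.ofNat 0, Int.ofNat 0, Int.ofNat 2, Int.ofNat 2, Int.ofNat 2, Int.ofNat 0, Int.ofNat 0, Int.ofNat 0, Int.ofNat 0, Int.ofNat 0, Int.negSucc 1],
  [Int.ofNat 0, Int.ofNat 2, Int.ofNat 2, Int.ofNat 0, Int.ofNat 0, Int.ofNat 0, Int.ofNat 0, Int.negSucc 1, Int.ofNat 0, Int.ofNat 0, Int.ofNat 0, Int.ofNat 0, Int.ofNat 2, Int.ofNat 0, Int.ofNat 0, Int.ofNat 2, Int.ofNat 2, Int.ofNat 2, Int.ofNat 0, Int.ofNat 0, Int.ofNat 0, Int.ofNat 0, Int.ofNat 0, Int.negSucc 1],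
  [Int.ofNat 0, Int.negSucc 1, Int.negSucc 1, Int.ofNat 0, Int.ofNat 0, Int.ofNat 0, Int.ofNat 0, Int.negSucc 1, Int.ofNat 0, Int.ofNat 0, Int.ofNat 0, Int.ofNat 0, Int.negSucc 1, Int.ofNat 0, Int.ofNat 0, Int.ofNat 2, Int.negSucc 1, Int.ofNat 2, Int.ofNat 0, Int.ofNat 0, Int.ofNat 0, Int.ofNat 0, Int.ofNat 0, Int.negSucc 1],
  [Int.ofNat 0, Int.negSucc 1, Int.ofNat 0, Int.ofNat 0, Int.negSucc 1, Int.ofNat 0, Int.ofNat 0, Int.ofNat 0, Int.ofNat 0, Int.negSucc 1, Int.ofNat 0, Int.ofNat 0, Int.ofNat 0, Int.ofNat 0, Int.ofNat 0, Int.ofNat 2, Int.negSucc 1, Int.ofNat 0, Int.ofNat 0, Int.ofNat 2, Int.ofNat 0, Int.negSucc 1, Int.ofNat 0, Int.negSucc 1],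
  [Int.ofNat 0, Int.negSucc 1, Int.ofNat 0, Int.ofNat 0, Int.negSucc 1, Int.ofNat 0, Int.ofNat 0, Int.ofNat 0, Int.ofNat 0, Int.ofNat 2, Int.ofNat 0, Int.ofNat 0, Int.ofNat 0, Int.ofNat 0, Int.ofNat 0, Int.ofNat 2, Int.negSucc 1, Int.ofNat 0, Int.ofNat 0, Int.ofNat 2, Int.ofNat 0, Int.ofNat 2, Int.ofNat 0, Int.negSucc 1],
  [Int.ofNat 0, Int.ofNat 0, Int.negSucc 1, Int.ofNat 0, Int.ofNat 0, Int.negSucc 1, Int.ofNat 0, Int.ofNat 0, Int.ofNat 0, Int.ofNat 0, Int.ofNat 2, Int.ofNat 0, Int.ofNat 0, Int.ofNat 0, Int.ofNat 0, Int.ofNat 0, Int.ofNat 2, Int.negSucc 1, Int.ofNat 0, Int.ofNat 0, Int.ofNat 2, Int.ofNat 0, Int.ofNat 2, Int.negSucc 1],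
  [Int.negSucc 1, Int.negSucc 1, Int.ofNat 0, Int.ofNat 2, Int.negSucc 1, Int.ofNat 0, Int.ofNat 0, Int.ofNat 0, Int.ofNat 0, Int.negSucc 1, Int.ofNat 0, Int.ofNat 0, Int.ofNat 0, Int.negSucc 1, Int.ofNat 2, Int.negSucc 1, Int.ofNat 0, Int.ofNat 0, Int.ofNat 0, Int.ofNat 0, Int.ofNat 0, Int.ofNat 0, Int.ofNat 0, Int.ofNat 0],
  [Int.ofNat 2, Int.negSucc 1, Int.ofNat 0, Int.ofNat 0, Int.ofNat 0, Int.ofNat 0, Int.negSucc 1, Int.ofNat 0, Int.ofNat 0, Int.ofNat 0, Int.negSucc 1, Int.ofNat 2, Int.negSucc 1, Int.ofNat 0, Int.ofNat 0, Int.ofNat 0, Int.ofNat 0, Int.ofNat 0, Int.ofNat 0, Int.ofNat 0, Int.negSucc 1, Int.negSucc 1, Int.ofNat 0, Int.ofNat 0],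
  [Int.negSucc 1, Int.ofNat 2, Int.ofNat 0, Int.ofNat 0, Int.ofNat 0, Int.ofNat 0, Int.ofNat 0, Int.ofNat 2, Int.ofNat 0, Int.ofNat 2, Int.ofNat 0, Int.ofNat 2, Int.negSucc 1, Int.ofNat 0, Int.ofNat 0, Int.ofNat 2, Int.ofNat 0, Int.ofNat 0, Int.ofNat 0, Int.ofNat 2, Int.ofNat 0, Int.ofNat 0, Int.ofNat 0, Int.ofNat 0],
  [Int.negSucc 1, Int.ofNat 0, Int.ofNat 0, Int.ofNat 0, Int.ofNat 0, Int.ofNat 2, Int.ofNat 0, Int.ofNat 0, Int.negSucc 1, Int.ofNat 0, Int.ofNat 0, Int.ofNat 0, Int.ofNat 2, Int.ofNat 0, Int.ofNat 0, Int.ofNat 2, Int.ofNat 0, Int.ofNat 0, Int.ofNat 2, Int.ofNat 2, Int.ofNat 0, Int.ofNat 0, Int.ofNat 2, Int.ofNat 0],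
  [Int.ofNat 1, Int.negSucc 0, Int.negSucc 0, Int.negSucc 0, Int.negSucc 0, Int.ofNat 1, Int.negSucc 0, Int.negSucc 0, Int.negSucc 2, Int.negSucc 0, Int.negSucc 0, Int.negSucc 0, Int.ofNat 1, Int.negSucc 0, Int.negSucc 0, Int.ofNat 1, Int.negSucc 0, Int.negSucc 0, Int.ofNat 1, Int.ofNat 1, Int.negSucc 0, Int.negSucc 0, Int.ofNat 1, Int.negSucc 0],
  [Int.ofNat 1, Int.negSucc 0, Int.ofNat 1, Int.negSucc 0, Int.negSucc 0, Int.negSucc 0, Int.ofNat 1, Int.negSucc 0, Int.negSucc 2, Int.ofNat 1, Int.ofNat 1, Int.negSucc 0, Int.ofNat 1, Int.negSucc 0, Int.negSucc 0, Int.negSucc 0, Int.negSucc 0, Int.negSucc 0, Int.negSucc 0, Int.ofNat 1, Int.negSucc 0, Int.negSucc 0, Int.negSucc 0, Int.negSucc 0],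
  [Int.ofNat 1, Int.negSucc 0, Int.negSucc 0, Int.negSucc 2, Int.negSucc 0, Int.ofNat 1, Int.negSucc 0, Int.negSucc 0, Int.negSucc 0, Int.negSucc 0, Int.negSucc 0, Int.negSucc 0, Int.negSucc 0, Int.negSucc 0, Int.negSucc 0, Int.negSucc 0, Int.ofNat 1, Int.ofNat 1, Int.ofNat 1, Int.ofNat 1, Int.ofNat 1, Int.negSucc 0, Int.negSucc 0, Int.negSucc 0],
  [Int.negSucc 0, Int.negSucc 0, Int.negSucc 0, Int.negSucc 0, Int.ofNat 1, Int.negSucc 0, Int.ofNat 1, Int.negSucc 0, Int.ofNat 1, Int.ofNat 1, Int.ofNat 1, Int.negSucc 0, Int.negSucc 0, Int.negSucc 0, Int.ofNat 1, Int.negSucc 2, Int.negSucc 0, Int.negSucc 0, Int.negSucc 0, Int.negSucc 0, Int.negSucc 0, Int.negSucc 0, Int.negSucc 0, Int.ofNat 1],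
  [Int.ofNat 1, Int.negSucc 0, Int.ofNat 1, Int.negSucc 0, Int.ofNat 1, Int.negSucc 0, Int.ofNat 1, Int.ofNat 1, Int.ofNat 1, Int.negSucc 0, Int.negSucc 0, Int.ofNat 1, Int.negSucc 0, Int.negSucc 0, Int.ofNat 1, Int.negSucc 2, Int.negSucc 0, Int.negSucc 0, Int.ofNat 1, Int.negSucc 0, Int.negSucc 0, Int.ofNat 1, Int.negSucc 0, Int.ofNat 1],
  [Int.negSucc 0, Int.ofNat 1, Int.negSucc 0, Int.ofNat 1, Int.negSucc 0, Int.ofNat 1, Int.negSucc 0, Int.ofNat 1, Int.ofNat 1, Int.ofNat 1, Int.negSucc 0, Int.negSucc 0, Int.ofNat 1, Int.negSucc 0, Int.negSucc 0, Int.ofNat 1, Int.negSucc 2, Int.negSucc 0, Int.negSucc 0, Int.ofNat 1, Int.negSucc 0, Int.negSucc 0, Int.ofNat 1, Int.ofNat 1],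
  [Int.ofNat 1, Int.negSucc 0, Int.ofNat 1, Int.ofNat 1, Int.ofNat 1, Int.ofNat 1, Int.negSucc 0, Int.ofNat 1, Int.ofNat 1, Int.ofNat 1, Int.negSucc 0, Int.negSucc 0, Int.ofNat 1, Int.ofNat 1, Int.negSucc 0, Int.ofNat 1, Int.negSucc 0, Int.negSucc 0, Int.negSucc 0, Int.ofNat 1, Int.negSucc 0, Int.negSucc 0, Int.ofNat 3, Int.negSucc 0],
  [Int.ofNat 1, Int.ofNat 1, Int.ofNat 1, Int.negSucc 0, Int.ofNat 1, Int.ofNat 1, Int.ofNat 1, Int.negSucc 0, Int.negSucc 0, Int.ofNat 1, Int.ofNat 1, Int.negSucc 0, Int.ofNat 1, Int.negSucc 0, Int.negSucc 0, Int.negSucc 0, Int.ofNat 1, Int.negSucc 0, Int.negSucc 0, Int.ofNat 3, Int.ofNat 1, Int.negSucc 0, Int.ofNat 1, Int.negSucc 0],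
  [Int.ofNat 0, Int.ofNat 0, Int.ofNat 0, Int.ofNat 0, Int.ofNat 0, Int.ofNat 2, Int.ofNat 0, Int.negSucc 1, Int.ofNat 0, Int.ofNat 0, Int.ofNat 0, Int.ofNat 0, Int.ofNat 2, Int.negSucc 1, Int.ofNat 0, Int.negSucc 1, Int.ofNat 0, Int.ofNat 0, Int.ofNat 0, Int.ofNat 2, Int.ofNat 0, Int.negSucc 1, Int.ofNat 0, Int.ofNat 2],
  [Int.ofNat 0, Int.ofNat 0, Int.ofNat 0, Int.ofNat 0, Int.ofNat 0, Int.negSucc 1, Int.ofNat 0, Int.ofNat 0, Int.ofNat 2, Int.negSucc 1, Int.ofNat 0, Int.ofNat 0, Int.ofNat 0, Int.ofNat 0, Int.ofNat 0, Int.negSucc 1, Int.ofNat 0, Int.ofNat 0, Int.ofNat 0, Int.ofNat 0, Int.negSucc 1, Int.ofNat 2, Int.ofNat 2, Int.ofNat 2],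
  [Int.ofNat 1, Int.ofNat 1, Int.ofNat 1, Int.ofNat 1, Int.negSucc 0, Int.negSucc 0, Int.negSucc 0, Int.negSucc 0, Int.ofNat 1, Int.ofNat 1, Int.ofNat 3, Int.negSucc 0, Int.negSucc 0, Int.negSucc 0, Int.ofNat 1, Int.ofNat 1, Int.negSucc 0, Int.ofNat 1, Int.negSucc 0, Int.negSucc 0, Int.ofNat 1, Int.ofNat 1, Int.ofNat 1, Int.negSucc 0],
  [Int.ofNat 1, Int.ofNat 1, Int.negSucc 0, Int.ofNat 1, Int.negSucc 0, Int.ofNat 1, Int.ofNat 1, Int.negSucc 0, Int.ofNat 1, Int.negSucc 0, Int.negSucc 2, Int.negSucc 0, Int.negSucc 0, Int.negSucc 0, Int.ofNat 1, Int.negSucc 0, Int.negSucc 0, Int.ofNat 1, Int.ofNat 1, Int.negSucc 0, Int.ofNat 1, Int.ofNat 1, Int.negSucc 0, Int.negSucc 0],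
  [Int.negSucc 0, Int.negSucc 0, Int.ofNat 1, Int.ofNat 1, Int.ofNat 1, Int.ofNat 1, Int.negSucc 0, Int.negSucc 0, Int.negSucc 0, Int.ofNat 1, Int.negSucc 0, Int.ofNat 1, Int.ofNat 1, Int.negSucc 2, Int.negSucc 0, Int.negSucc 0, Int.ofNat 1, Int.ofNat 1, Int.ofNat 1, Int.ofNat 1, Int.negSucc 0, Int.negSucc 0, Int.negSucc 0, Int.negSucc 0],
  [Int.negSucc 0, Int.negSucc 0, Int.negSucc 0, Int.ofNat 1, Int.ofNat 1, Int.negSucc 0, Int.ofNat 1, Int.negSucc 0, Int.negSucc 0, Int.negSucc 0, Int.ofNat 1, Int.ofNat 1, Int.ofNat 1, Int.negSucc 2, Int.negSucc 0, Int.ofNat 1, Int.ofNat 1, Int.ofNat 1, Int.negSucc 0, Int.ofNat 1, Int.negSucc 0, Int.negSucc 0, Int.ofNat 1, Int.negSucc 0],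
  [Int.negSucc 0, Int.negSucc 0, Int.negSucc 0, Int.ofNat 1, Int.ofNat 1, Int.negSucc 0, Int.ofNat 1, Int.negSucc 0, Int.negSucc 0, Int.negSucc 0, Int.ofNat 1, Int.ofNat 1, Int.ofNat 1, Int.negSucc 2, Int.negSucc 0, Int.ofNat 1, Int.ofNat 1, Int.ofNat 1, Int.negSucc 0, Int.ofNat 1, Int.negSucc 0, Int.negSucc 0, Int.ofNat 1, Int.negSucc 0],
  [Int.negSucc 0, Int.negSucc 0, Int.ofNat 1, Int.ofNat 1, Int.negSucc 0, Int.negSucc 0, Int.negSucc 0, Int.negSucc 0, Int.ofNat 1, Int.ofNat 1, Int.negSucc 0, Int.ofNat 1, Int.negSucc 0, Int.negSucc 0, Int.ofNat 1, Int.ofNat 1, Int.negSucc 2, Int.ofNat 1, Int.ofNat 1, Int.ofNat 1, Int.ofNat 1, Int.negSucc 0, Int.negSucc 0, Int.negSucc 0],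
  [Int.ofNat 0, Int.ofNat 0, Int.negSucc 1, Int.ofNat 0, Int.ofNat 2, Int.negSucc 1, Int.ofNat 0, Int.ofNat 0, Int.ofNat 0, Int.ofNat 0, Int.negSucc 1, Int.ofNat 0, Int.negSucc 1, Int.ofNat 2, Int.ofNat 0, Int.ofNat 0, Int.ofNat 0, Int.ofNat 0, Int.ofNat 0, Int.ofNat 2, Int.ofNat 0, Int.ofNat 0, Int.ofNat 2, Int.ofNat 0],
  [Int.ofNat 0, Int.ofNat 0, Int.ofNat 2, Int.ofNat 0, Int.ofNat 0, Int.negSucc 1, Int.ofNat 0, Int.ofNat 2, Int.negSucc 1, Int.ofNat 0, Int.ofNat 0, Int.ofNat 0, Int.ofNat 0, Int.negSucc 1, Int.ofNat 0, Int.negSucc 1, Int.ofNat 2, Int.ofNat 0, Int.ofNat 0, Int.ofNat 0, Int.ofNat 0, Int.ofNat 0, Int.ofNat 2, Int.ofNat 0],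
  [Int.ofNat 1, Int.ofNat 1, Int.negSucc 0, Int.ofNat 1, Int.negSucc 0, Int.negSucc 0, Int.negSucc 0, Int.ofNat 1, Int.negSucc 0, Int.ofNat 1, Int.ofNat 1, Int.ofNat 1, Int.ofNat 1, Int.negSucc 2, Int.ofNat 1, Int.negSucc 0, Int.ofNat 1, Int.ofNat 1, Int.ofNat 1, Int.negSucc 0, Int.ofNat 1, Int.negSucc 0, Int.ofNat 1, Int.ofNat 1],
  [Int.ofNat 1, Int.negSucc 0, Int.ofNat 1, Int.negSucc 0, Int.negSucc 0, Int.negSucc 0, Int.ofNat 1, Int.negSucc 0, Int.ofNat 1, Int.ofNat 1, Int.ofNat 1, Int.ofNat 1, Int.negSucc 2, Int.ofNat 1, Int.negSucc 0, Int.ofNat 1, Int.ofNat 1, Int.ofNat 1, Int.negSucc 0, Int.ofNat 1, Int.negSucc 0, Int.ofNat 1, Int.ofNat 1, Int.ofNat 1],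
  [Int.negSucc 0, Int.negSucc 0, Int.negSucc 0, Int.negSucc 0, Int.negSucc 0, Int.negSucc 0, Int.ofNat 1, Int.ofNat 1, Int.ofNat 1, Int.negSucc 0, Int.negSucc 0, Int.negSucc 0, Int.negSucc 2, Int.ofNat 1, Int.negSucc 0, Int.ofNat 1, Int.ofNat 1, Int.ofNat 1, Int.ofNat 1, Int.ofNat 1, Int.negSucc 0, Int.negSucc 0, Int.ofNat 1, Int.ofNat 1]]

set_option maxRecDepth 100000 in
theorem c1te20_chk : pmChk (List.replicate 14 [20, 0, 26, 25]).flatten nxL c1te20M 0 0 = true := by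
  decide +kernel

theorem c1te20_ne : wE letE2 (List.replicate 14 [20, 0, 26, 25]).flatten ≠ 1 ∧ wE letE2 (List.replicate 14 [20, 0, 26, 25]).flatten ≠ negElt :=
  ne_pm_of_chk nxL_mem c1te20_chk

set_option maxRecDepth 100000 in
def c1te21M : List (List ℤ) :=
  [[Int.ofNat 4, Int.ofNat 0, Int.ofNat 0, Int.ofNat 0, Int.ofNat 0, Int.ofNat 0, Int.ofNat 0, Int.ofNat 0, Int.ofNat 0, Int.ofNat 0, Int.ofNat 0, Int.ofNat 0, Int.ofNat 0, Int.ofNat 0, Int.ofNat 0, Int.ofNat 0, Int.ofNat 0, Int.ofNat 0, Int.ofNat 0, Int.ofNat 0, Int.ofNat 0, Int.ofNat 0, Int.ofNat 0, Int.ofNat 4],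
  [Int.ofNat 4, Int.ofNat 0, Int.ofNat 0, Int.ofNat 0, Int.ofNat 0, Int.ofNat 0, Int.ofNat 0, Int.ofNat 0, Int.ofNat 0, Int.ofNat 0, Int.ofNat 0, Int.ofNat 0, Int.ofNat 0, Int.ofNat 0, Int.ofNat 0, Int.ofNat 0, Int.ofNat 0, Int.ofNat 0, Int.ofNat 0, Int.ofNat 0, Int.ofNat 0, Int.ofNat 0, Int.ofNat 0, Int.ofNat 4],
  [Int.negSucc 3, Int.ofNat 0, Int.ofNat 0, Int.ofNat 0, Int.ofNat 0, Int.ofNat 0, Int.ofNat 0, Int.ofNat 0, Int.ofNat 0, Int.ofNat 0, Int.ofNat 0, Int.ofNat 0, Int.ofNat 0, Int.ofNat 0, Int.ofNat 0, Int.ofNat 0, Int.ofNat 0, Int.ofNat 0, Int.ofNat 0, Int.ofNat 0, Int.ofNat 0, Int.ofNat 0, Int.ofNat 0, Int.ofNat 4],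
  [Int.ofNat 0, Int.negSucc 3, Int.ofNat 0, Int.ofNat 0, Int.ofNat 0, Int.ofNat 0, Int.ofNat 0, Int.ofNat 0, Int.ofNat 0, Int.ofNat 0, Int.ofNat 0, Int.ofNat 0, Int.ofNat 0, Int.ofNat 0, Int.ofNat 0, Int.ofNat 0, Int.ofNat 0, Int.ofNat 0, Int.ofNat 0, Int.ofNat 0, Int.ofNat 0, Int.ofNat 0, Int.ofNat 0, Int.ofNat 4],
  [Int.ofNat 0, Int.ofNat 4, Int.ofNat 0, Int.ofNat 0, Int.ofNat 0, Int.ofNat 0, Int.ofNat 0, Int.ofNat 0, Int.ofNat 0, Int.ofNat 0, Int.ofNat 0, Int.ofNat 0, Int.ofNat 0, Int.ofNat 0, Int.ofNat 0, Int.ofNat 0, Int.ofNat 0, Int.ofNat 0, Int.ofNat 0, Int.ofNat 0, Int.ofNat 0, Int.ofNat 0, Int.ofNat 0, Int.negSucc 3],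
  [Int.ofNat 0, Int.ofNat 0, Int.ofNat 0, Int.ofNat 0, Int.ofNat 0, Int.ofNat 0, Int.ofNat 0, Int.ofNat 0, Int.ofNat 0, Int.ofNat 0, Int.ofNat 0, Int.ofNat 0, Int.ofNat 0, Int.ofNat 0, Int.ofNat 0, Int.ofNat 0, Int.ofNat 0, Int.ofNat 0, Int.ofNat 0, Int.ofNat 0, Int.ofNat 0, Int.ofNat 4, Int.ofNat 0, Int.negSucc 3],
  [Int.negSucc 1, Int.negSucc 1, Int.negSucc 1, Int.ofNat 0, Int.ofNat 0, Int.ofNat 0, Int.negSucc 1, Int.negSucc 1, Int.ofNat 0, Int.ofNat 0, Int.ofNat 0, Int.ofNat 0, Int.ofNat 0, Int.ofNat 0, Int.ofNat 0, Int.ofNat 0, Int.ofNat 0, Int.ofNat 0, Int.ofNat 0, Int.negSucc 1, Int.ofNat 0, Int.ofNat 2, Int.ofNat 0, Int.ofNat 2],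
  [Int.negSucc 1, Int.negSucc 1, Int.ofNat 0, Int.ofNat 0, Int.ofNat 0, Int.negSucc 1, Int.negSucc 1, Int.ofNat 0, Int.ofNat 0, Int.ofNat 0, Int.ofNat 0, Int.ofNat 0, Int.ofNat 0, Int.ofNat 0, Int.ofNat 0, Int.ofNat 0, Int.ofNat 0, Int.ofNat 0, Int.negSucc 1, Int.ofNat 0, Int.ofNat 2, Int.ofNat 0, Int.negSucc 1, Int.ofNat 2],
  [Int.ofNat 1, Int.ofNat 1, Int.negSucc 0, Int.ofNat 1, Int.ofNat 1, Int.negSucc 0, Int.negSucc 0, Int.ofNat 1, Int.ofNat 1, Int.negSucc 0, Int.negSucc 0, Int.ofNat 1, Int.ofNat 1, Int.ofNat 1, Int.ofNat 1, Int.negSucc 0, Int.ofNat 1, Int.ofNat 1, Int.negSucc 0, Int.ofNat 1, Int.ofNat 1, Int.ofNat 1, Int.negSucc 0, Int.negSucc 2],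
  [Int.ofNat 1, Int.ofNat 1, Int.ofNat 1, Int.ofNat 1, Int.ofNat 1, Int.ofNat 1, Int.ofNat 1, Int.ofNat 1, Int.ofNat 1, Int.ofNat 1, Int.ofNat 1, Int.ofNat 1, Int.ofNat 1, Int.ofNat 1, Int.ofNat 1, Int.ofNat 1, Int.ofNat 1, Int.ofNat 1, Int.ofNat 1, Int.ofNat 1, Int.ofNat 1, Int.ofNat 1, Int.ofNat 1, Int.negSucc 2],
  [Int.ofNat 1, Int.ofNat 1, Int.ofNat 1, Int.ofNat 1, Int.ofNat 1, Int.ofNat 1, Int.ofNat 1, Int.ofNat 1, Int.ofNat 1, Int.ofNat 1, Int.ofNat 1, Int.ofNat 1, Int.ofNat 1, Int.ofNat 1, Int.ofNat 1, Int.ofNat 1, Int.ofNat 1, Int.ofNat 1, Int.ofNat 1, Int.ofNat 1, Int.ofNat 1, Int.ofNat 1, Int.ofNat 1, Int.negSucc 2],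
  [Int.negSucc 2, Int.ofNat 1, Int.ofNat 1, Int.ofNat 1, Int.ofNat 1, Int.ofNat 1, Int.ofNat 1, Int.ofNat 1, Int.ofNat 1, Int.ofNat 1, Int.ofNat 1, Int.ofNat 1, Int.ofNat 1, Int.ofNat 1, Int.ofNat 1, Int.ofNat 1, Int.ofNat 1, Int.ofNat 1, Int.ofNat 1, Int.ofNat 1, Int.ofNat 1, Int.ofNat 1, Int.ofNat 1, Int.ofNat 1],
  [Int.ofNat 3, Int.ofNat 1, Int.negSucc 0, Int.ofNat 1, Int.ofNat 1, Int.ofNat 1, Int.ofNat 1, Int.negSucc 0, Int.ofNat 1, Int.negSucc 0, Int.negSucc 0, Int.negSucc 0, Int.ofNat 1, Int.ofNat 1, Int.ofNat 1, Int.ofNat 1, Int.ofNat 1, Int.ofNat 1, Int.negSucc 0, Int.ofNat 1, Int.ofNat 1, Int.negSucc 0, Int.ofNat 1, Int.ofNat 1],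
  [Int.ofNat 1, Int.ofNat 3, Int.ofNat 1, Int.negSucc 0, Int.ofNat 1, Int.ofNat 1, Int.ofNat 1, Int.ofNat 1, Int.negSucc 0, Int.ofNat 1, Int.negSucc 0, Int.negSucc 0, Int.negSucc 0, Int.ofNat 1, Int.ofNat 1, Int.ofNat 1, Int.ofNat 1, Int.ofNat 1, Int.ofNat 1, Int.negSucc 0, Int.ofNat 1, Int.ofNat 1, Int.negSucc 0, Int.ofNat 1],
  [Int.ofNat 2, Int.ofNat 0, Int.ofNat 2, Int.negSucc 1, Int.ofNat 0, Int.ofNat 0, Int.ofNat 0, Int.ofNat 0, Int.ofNat 0, Int.ofNat 0, Int.negSucc 1, Int.ofNat 0, Int.ofNat 0, Int.ofNat 0, Int.ofNat 0, Int.ofNat 0, Int.ofNat 0, Int.ofNat 0, Int.ofNat 2, Int.negSucc 1, Int.ofNat 0, Int.ofNat 0, Int.negSucc 1, Int.ofNat 2],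
  [Int.negSucc 1, Int.ofNat 0, Int.ofNat 0, Int.ofNat 0, Int.ofNat 0, Int.ofNat 0, Int.ofNat 0, Int.negSucc 1, Int.ofNat 0, Int.ofNat 0, Int.ofNat 0, Int.ofNat 0, Int.ofNat 0, Int.ofNat 0, Int.ofNat 0, Int.ofNat 2, Int.negSucc 1, Int.ofNat 0, Int.ofNat 0, Int.negSucc 1, Int.ofNat 2, Int.ofNat 0, Int.ofNat 2, Int.ofNat 2],
  [Int.ofNat 2, Int.ofNat 0, Int.ofNat 0, Int.ofNat 0, Int.ofNat 0, Int.ofNat 0, Int.ofNat 2, Int.ofNat 0, Int.ofNat 0, Int.negSucc 1, Int.negSucc 1, Int.ofNat 0, Int.ofNat 0, Int.ofNat 0, Int.ofNat 0, Int.ofNat 0, Int.negSucc 1, Int.ofNat 0, Int.ofNat 0, Int.ofNat 0, Int.ofNat 0, Int.ofNat 2, Int.ofNat 2, Int.negSucc 1],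
  [Int.ofNat 2, Int.ofNat 2, Int.ofNat 0, Int.ofNat 0, Int.ofNat 0, Int.ofNat 0, Int.ofNat 0, Int.negSucc 1, Int.ofNat 0, Int.ofNat 0, Int.ofNat 0, Int.ofNat 0, Int.negSucc 1, Int.negSucc 1, Int.ofNat 2, Int.ofNat 0, Int.ofNat 0, Int.ofNat 0, Int.ofNat 0, Int.ofNat 0, Int.ofNat 2, Int.ofNat 0, Int.ofNat 0, Int.negSucc 1],
  [Int.negSucc 0, Int.negSucc 0, Int.ofNat 1, Int.negSucc 0, Int.ofNat 1, Int.negSucc 0, Int.ofNat 1, Int.negSucc 0, Int.ofNat 1, Int.negSucc 0, Int.negSucc 0, Int.ofNat 1, Int.negSucc 0, Int.negSucc 0, Int.ofNat 1, Int.negSucc 0, Int.ofNat 1, Int.negSucc 0, Int.ofNat 1, Int.ofNat 1, Int.ofNat 1, Int.ofNat 1, Int.ofNat 1, Int.ofNat 3],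
  [Int.negSucc 0, Int.negSucc 0, Int.negSucc 0, Int.negSucc 0, Int.ofNat 1, Int.ofNat 1, Int.negSucc 0, Int.negSucc 0, Int.ofNat 1, Int.ofNat 1, Int.ofNat 1, Int.ofNat 1, Int.negSucc 0, Int.negSucc 0, Int.ofNat 1, Int.ofNat 1, Int.ofNat 1, Int.negSucc 0, Int.negSucc 0, Int.ofNat 1, Int.ofNat 1, Int.ofNat 1, Int.negSucc 0, Int.ofNat 3],
  [Int.negSucc 0, Int.negSucc 0, Int.negSucc 0, Int.ofNat 1, Int.negSucc 0, Int.ofNat 1, Int.ofNat 1, Int.ofNat 1, Int.ofNat 1, Int.negSucc 0, Int.ofNat 1, Int.ofNat 1, Int.ofNat 1, Int.negSucc 0, Int.negSucc 0, Int.ofNat 1, Int.ofNat 1, Int.negSucc 0, Int.ofNat 1, Int.negSucc 0, Int.negSucc 0, Int.negSucc 0, Int.ofNat 1, Int.ofNat 3],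
  [Int.negSucc 0, Int.negSucc 0, Int.ofNat 1, Int.ofNat 1, Int.negSucc 0, Int.negSucc 0, Int.negSucc 0, Int.ofNat 1, Int.ofNat 1, Int.ofNat 1, Int.negSucc 0, Int.ofNat 1, Int.ofNat 1, Int.negSucc 0, Int.negSucc 0, Int.negSucc 0, Int.ofNat 1, Int.negSucc 0, Int.negSucc 0, Int.negSucc 0, Int.negSucc 0, Int.negSucc 0, Int.negSucc 0, Int.ofNat 3],
  [Int.ofNat 2, Int.ofNat 2, Int.ofNat 0, Int.ofNat 2, Int.ofNat 0, Int.ofNat 0, Int.ofNat 0, Int.ofNat 2, Int.ofNat 0, Int.ofNat 2, Int.ofNat 0, Int.ofNat 0, Int.ofNat 0, Int.ofNat 0, Int.ofNat 0, Int.ofNat 0, Int.ofNat 2, Int.ofNat 0, Int.negSucc 1, Int.ofNat 0, Int.ofNat 0, Int.ofNat 0, Int.ofNat 0, Int.negSucc 1],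
  [Int.ofNat 2, Int.negSucc 1, Int.ofNat 0, Int.ofNat 2, Int.ofNat 0, Int.ofNat 0, Int.ofNat 2, Int.ofNat 0, Int.ofNat 2, Int.ofNat 0, Int.ofNat 2, Int.ofNat 0, Int.ofNat 0, Int.ofNat 2, Int.ofNat 0, Int.ofNat 0, Int.ofNat 0, Int.ofNat 0, Int.ofNat 0, Int.ofNat 0, Int.ofNat 0, Int.ofNat 0, Int.ofNat 0, Int.negSucc 1],
  [Int.negSucc 2, Int.ofNat 1, Int.negSucc 0, Int.ofNat 1, Int.negSucc 0, Int.negSucc 0, Int.ofNat 1, Int.negSucc 0, Int.ofNat 1, Int.negSucc 0, Int.ofNat 1, Int.negSucc 0, Int.negSucc 0, Int.ofNat 1, Int.negSucc 0, Int.negSucc 0, Int.negSucc 0, Int.negSucc 0, Int.negSucc 0, Int.negSucc 0, Int.negSucc 0, Int.negSucc 0, Int.negSucc 0, Int.ofNat 1],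
  [Int.negSucc 0, Int.negSucc 0, Int.negSucc 0, Int.negSucc 2, Int.ofNat 1, Int.negSucc 0, Int.ofNat 1, Int.negSucc 0, Int.negSucc 0, Int.ofNat 1, Int.negSucc 0, Int.ofNat 1, Int.negSucc 0, Int.ofNat 1, Int.negSucc 0, Int.negSucc 0, Int.ofNat 1, Int.negSucc 0, Int.negSucc 0, Int.negSucc 0, Int.negSucc 0, Int.negSucc 0, Int.negSucc 0, Int.ofNat 1],
  [Int.ofNat 0, Int.ofNat 0, Int.ofNat 0, Int.ofNat 0, Int.ofNat 0, Int.ofNat 2, Int.ofNat 2, Int.ofNat 0, Int.ofNat 0, Int.ofNat 2, Int.ofNat 0, Int.ofNat 2, Int.ofNat 0, Int.ofNat 0, Int.ofNat 2, Int.ofNat 0, Int.ofNat 0, Int.ofNat 2, Int.ofNat 0, Int.ofNat 0, Int.ofNat 0, Int.ofNat 0, Int.negSucc 1, Int.negSucc 1],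
  [Int.ofNat 0, Int.ofNat 0, Int.ofNat 0, Int.ofNat 0, Int.ofNat 2, Int.ofNat 2, Int.ofNat 0, Int.ofNat 0, Int.ofNat 2, Int.ofNat 0, Int.ofNat 2, Int.ofNat 0, Int.ofNat 0, Int.ofNat 2, Int.ofNat 0, Int.ofNat 0, Int.ofNat 2, Int.ofNat 0, Int.ofNat 0, Int.ofNat 0, Int.ofNat 0, Int.negSucc 1, Int.ofNat 0, Int.negSucc 1],
  [Int.ofNat 0, Int.ofNat 0, Int.ofNat 0, Int.ofNat 0, Int.ofNat 2, Int.ofNat 2, Int.ofNat 0, Int.ofNat 0, Int.ofNat 2, Int.ofNat 0, Int.negSucc 1, Int.ofNat 0, Int.ofNat 0, Int.ofNat 2, Int.ofNat 0, Int.ofNat 0, Int.ofNat 2, Int.ofNat 0, Int.ofNat 0, Int.ofNat 0, Int.ofNat 0, Int.ofNat 2, Int.ofNat 0, Int.negSucc 1],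
  [Int.ofNat 0, Int.ofNat 0, Int.ofNat 0, Int.ofNat 0, Int.negSucc 1, Int.ofNat 2, Int.ofNat 0, Int.ofNat 0, Int.negSucc 1, Int.ofNat 0, Int.negSucc 1, Int.ofNat 0, Int.ofNat 0, Int.negSucc 1, Int.ofNat 0, Int.ofNat 0, Int.negSucc 1, Int.ofNat 0, Int.ofNat 0, Int.ofNat 0, Int.ofNat 0, Int.ofNat 2, Int.ofNat 0, Int.negSucc 1],
  [Int.ofNat 0, Int.ofNat 0, Int.ofNat 0, Int.ofNat 0, Int.ofNat 0, Int.negSucc 1, Int.negSucc 1, Int.ofNat 0, Int.ofNat 0, Int.negSucc 1, Int.ofNat 2, Int.ofNat 0, Int.negSucc 1, Int.negSucc 1, Int.ofNat 0, Int.ofNat 0, Int.ofNat 0, Int.ofNat 0, Int.ofNat 0, Int.ofNat 0, Int.ofNat 2, Int.ofNat 0, Int.ofNat 0, Int.negSucc 1],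
  [Int.ofNat 0, Int.ofNat 0, Int.ofNat 0, Int.ofNat 0, Int.ofNat 0, Int.negSucc 1, Int.negSucc 1, Int.ofNat 0, Int.ofNat 0, Int.ofNat 2, Int.negSucc 1, Int.ofNat 0, Int.negSucc 1, Int.negSucc 1, Int.ofNat 0, Int.ofNat 0, Int.ofNat 0, Int.ofNat 0, Int.ofNat 0, Int.ofNat 0, Int.ofNat 2, Int.ofNat 0, Int.ofNat 0, Int.negSucc 1],
  [Int.ofNat 0, Int.ofNat 0, Int.ofNat 0, Int.ofNat 0, Int.ofNat 0, Int.ofNat 0, Int.negSucc 1, Int.negSucc 1, Int.ofNat 0, Int.ofNat 0, Int.ofNat 2, Int.negSucc 1, Int.ofNat 0, Int.negSucc 1, Int.negSucc 1, Int.ofNat 0, Int.ofNat 0, Int.ofNat 0, Int.ofNat 0, Int.ofNat 0, Int.ofNat 0, Int.ofNat 2, Int.ofNat 0, Int.negSucc 1],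
  [Int.negSucc 0, Int.negSucc 0, Int.negSucc 0, Int.ofNat 1, Int.ofNat 1, Int.ofNat 1, Int.negSucc 0, Int.negSucc 0, Int.ofNat 1, Int.negSucc 0, Int.ofNat 1, Int.negSucc 0, Int.ofNat 1, Int.negSucc 0, Int.negSucc 0, Int.negSucc 0, Int.ofNat 1, Int.ofNat 1, Int.ofNat 1, Int.ofNat 1, Int.negSucc 0, Int.ofNat 3, Int.ofNat 1, Int.ofNat 1],
  [Int.ofNat 1, Int.ofNat 1, Int.ofNat 1, Int.negSucc 0, Int.negSucc 0, Int.ofNat 1, Int.negSucc 0, Int.ofNat 1, Int.negSucc 0, Int.ofNat 1, Int.negSucc 0, Int.negSucc 0, Int.negSucc 0, Int.ofNat 1, Int.ofNat 1, Int.ofNat 1, Int.ofNat 1, Int.negSucc 0, Int.ofNat 3, Int.ofNat 1, Int.negSucc 0, Int.negSucc 0, Int.negSucc 0, Int.ofNat 1],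
  [Int.ofNat 1, Int.ofNat 1, Int.ofNat 1, Int.negSucc 0, Int.negSucc 0, Int.ofNat 1, Int.negSucc 0, Int.ofNat 1, Int.negSucc 0, Int.ofNat 1, Int.negSucc 0, Int.negSucc 0, Int.negSucc 0, Int.ofNat 1, Int.ofNat 1, Int.ofNat 1, Int.ofNat 1, Int.negSucc 0, Int.ofNat 3, Int.ofNat 1, Int.negSucc 0, Int.negSucc 0, Int.negSucc 0, Int.ofNat 1],
  [Int.ofNat 1, Int.negSucc 0, Int.negSucc 0, Int.negSucc 0, Int.ofNat 3, Int.ofNat 1, Int.ofNat 1, Int.negSucc 0, Int.negSucc 0, Int.ofNat 1, Int.negSucc 0, Int.negSucc 0, Int.ofNat 1, Int.ofNat 1, Int.negSucc 0, Int.ofNat 1, Int.negSucc 0, Int.ofNat 1, Int.ofNat 1, Int.negSucc 0, Int.negSucc 0, Int.ofNat 1, Int.ofNat 1, Int.ofNat 1],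
  [Int.negSucc 0, Int.ofNat 1, Int.ofNat 1, Int.negSucc 0, Int.ofNat 1, Int.ofNat 1, Int.ofNat 1, Int.negSucc 0, Int.negSucc 0, Int.ofNat 1, Int.negSucc 0, Int.negSucc 0, Int.ofNat 1, Int.negSucc 0, Int.negSucc 0, Int.ofNat 1, Int.negSucc 2, Int.ofNat 1, Int.ofNat 1, Int.negSucc 0, Int.negSucc 0, Int.ofNat 1, Int.negSucc 0, Int.negSucc 0],
  [Int.negSucc 0, Int.ofNat 1, Int.negSucc 0, Int.negSucc 0, Int.ofNat 1, Int.negSucc 0, Int.negSucc 0, Int.negSucc 0, Int.negSucc 0, Int.negSucc 0, Int.ofNat 1, Int.negSucc 0, Int.ofNat 1, Int.negSucc 0, Int.negSucc 0, Int.negSucc 0, Int.negSucc 2, Int.ofNat 1, Int.negSucc 0, Int.negSucc 0, Int.negSucc 0, Int.ofNat 1, Int.ofNat 1, Int.negSucc 0],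
  [Int.ofNat 1, Int.negSucc 2, Int.negSucc 0, Int.negSucc 0, Int.negSucc 0, Int.negSucc 0, Int.ofNat 1, Int.negSucc 0, Int.negSucc 0, Int.negSucc 0, Int.negSucc 0, Int.negSucc 0, Int.negSucc 0, Int.ofNat 1, Int.ofNat 1, Int.negSucc 0, Int.negSucc 0, Int.ofNat 1, Int.negSucc 0, Int.negSucc 0, Int.negSucc 0, Int.ofNat 1, Int.ofNat 1, Int.negSucc 0],
  [Int.negSucc 0, Int.ofNat 1, Int.negSucc 0, Int.negSucc 0, Int.ofNat 1, Int.negSucc 0, Int.negSucc 0, Int.ofNat 1, Int.negSucc 0, Int.negSucc 0, Int.negSucc 0, Int.negSucc 0, Int.ofNat 1, Int.negSucc 0, Int.negSucc 0, Int.negSucc 0, Int.negSucc 0, Int.negSucc 0, Int.ofNat 1, Int.ofNat 1, Int.negSucc 0, Int.negSucc 0, Int.negSucc 2, Int.ofNat 1],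
  [Int.ofNat 1, Int.ofNat 1, Int.ofNat 1, Int.negSucc 0, Int.ofNat 1, Int.negSucc 0, Int.negSucc 0, Int.negSucc 0, Int.negSucc 0, Int.ofNat 1, Int.ofNat 1, Int.ofNat 1, Int.ofNat 1, Int.negSucc 0, Int.negSucc 0, Int.negSucc 0, Int.negSucc 0, Int.negSucc 0, Int.negSucc 0, Int.ofNat 1, Int.negSucc 0, Int.ofNat 1, Int.negSucc 2, Int.ofNat 1],
  [Int.negSucc 2, Int.ofNat 1, Int.ofNat 1, Int.ofNat 1, Int.negSucc 0, Int.ofNat 1, Int.negSucc 0, Int.negSucc 0, Int.negSucc 0, Int.negSucc 0, Int.ofNat 1, Int.ofNat 1, Int.ofNat 1, Int.ofNat 1, Int.negSucc 0, Int.negSucc 0, Int.negSucc 0, Int.negSucc 0, Int.negSucc 0, Int.negSucc 0, Int.ofNat 1, Int.negSucc 0, Int.ofNat 1, Int.ofNat 1],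
  [Int.ofNat 3, Int.negSucc 0, Int.negSucc 0, Int.ofNat 1, Int.negSucc 0, Int.ofNat 1, Int.ofNat 1, Int.ofNat 1, Int.negSucc 0, Int.negSucc 0, Int.ofNat 1, Int.ofNat 1, Int.ofNat 1, Int.ofNat 1, Int.negSucc 0, Int.negSucc 0, Int.negSucc 0, Int.negSucc 0, Int.negSucc 0, Int.ofNat 1, Int.ofNat 1, Int.ofNat 1, Int.ofNat 1, Int.negSucc 0],
  [Int.ofNat 1, Int.negSucc 0, Int.ofNat 1, Int.ofNat 1, Int.ofNat 1, Int.negSucc 0, Int.negSucc 0, Int.ofNat 1, Int.ofNat 1, Int.ofNat 1, Int.ofNat 1, Int.negSucc 0, Int.negSucc 0, Int.negSucc 0, Int.negSucc 0, Int.negSucc 0, Int.ofNat 1, Int.ofNat 1, Int.ofNat 1, Int.ofNat 1, Int.ofNat 3, Int.negSucc 0, Int.negSucc 0, Int.negSucc 0],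
  [Int.negSucc 0, Int.ofNat 1, Int.negSucc 0, Int.ofNat 1, Int.ofNat 1, Int.negSucc 0, Int.negSucc 0, Int.ofNat 1, Int.ofNat 1, Int.negSucc 0, Int.negSucc 0, Int.negSucc 0, Int.negSucc 0, Int.negSucc 0, Int.negSucc 0, Int.negSucc 2, Int.ofNat 1, Int.ofNat 1, Int.ofNat 1, Int.ofNat 1, Int.ofNat 1, Int.negSucc 0, Int.negSucc 0, Int.ofNat 1],
  [Int.negSucc 0, Int.negSucc 0, Int.ofNat 1, Int.ofNat 1, Int.ofNat 1, Int.ofNat 1, Int.negSucc 0, Int.negSucc 0, Int.negSucc 0, Int.negSucc 0, Int.ofNat 1, Int.ofNat 1, Int.negSucc 0, Int.ofNat 1, Int.negSucc 0, Int.negSucc 2, Int.ofNat 1, Int.negSucc 0, Int.ofNat 1, Int.negSucc 0, Int.negSucc 0, Int.negSucc 0, Int.ofNat 1, Int.ofNat 1],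
  [Int.ofNat 1, Int.ofNat 1, Int.negSucc 0, Int.ofNat 1, Int.negSucc 0, Int.ofNat 1, Int.ofNat 1, Int.ofNat 1, Int.negSucc 0, Int.ofNat 1, Int.ofNat 3, Int.ofNat 1, Int.negSucc 0, Int.negSucc 0, Int.negSucc 0, Int.negSucc 0, Int.negSucc 0, Int.negSucc 0, Int.ofNat 1, Int.ofNat 1, Int.ofNat 1, Int.ofNat 1, Int.negSucc 0, Int.negSucc 0],
  [Int.ofNat 1, Int.ofNat 1, Int.ofNat 1, Int.ofNat 1, Int.negSucc 0, Int.negSucc 0, Int.negSucc 0, Int.ofNat 1, Int.negSucc 0, Int.negSucc 0, Int.negSucc 2, Int.ofNat 1, Int.negSucc 0, Int.negSucc 0, Int.negSucc 0, Int.ofNat 1, Int.negSucc 0, Int.negSucc 0, Int.negSucc 0, Int.ofNat 1, Int.ofNat 1, Int.ofNat 1, Int.ofNat 1, Int.negSucc 0],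
  [Int.ofNat 1, Int.ofNat 1, Int.ofNat 1, Int.negSucc 0, Int.negSucc 0, Int.ofNat 1, Int.ofNat 1, Int.ofNat 1, Int.negSucc 0, Int.ofNat 1, Int.negSucc 0, Int.negSucc 0, Int.negSucc 0, Int.ofNat 1, Int.negSucc 0, Int.negSucc 0, Int.ofNat 1, Int.negSucc 0, Int.ofNat 1, Int.negSucc 0, Int.negSucc 0, Int.ofNat 1, Int.negSucc 2, Int.negSucc 0],
  [Int.ofNat 1, Int.ofNat 1, Int.negSucc 0, Int.negSucc 0, Int.negSucc 0, Int.negSucc 0, Int.negSucc 0, Int.ofNat 1, Int.negSucc 0, Int.negSucc 0, Int.ofNat 1, Int.negSucc 0, Int.negSucc 0, Int.ofNat 1, Int.negSucc 0, Int.ofNat 1, Int.ofNat 1, Int.negSucc 0, Int.negSucc 0, Int.negSucc 0, Int.negSucc 0, Int.ofNat 1, Int.ofNat 3, Int.negSucc 0],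
  [Int.negSucc 0, Int.negSucc 0, Int.ofNat 1, Int.ofNat 1, Int.negSucc 2, Int.ofNat 1, Int.negSucc 0, Int.ofNat 1, Int.ofNat 1, Int.negSucc 0, Int.ofNat 1, Int.ofNat 1, Int.ofNat 1, Int.negSucc 0, Int.ofNat 1, Int.ofNat 1, Int.negSucc 0, Int.ofNat 1, Int.ofNat 1, Int.negSucc 0, Int.negSucc 0, Int.ofNat 1, Int.ofNat 1, Int.ofNat 1],
  [Int.negSucc 0, Int.ofNat 1, Int.negSucc 0, Int.ofNat 1, Int.ofNat 1, Int.ofNat 1, Int.negSucc 0, Int.ofNat 1, Int.negSucc 0, Int.ofNat 1, Int.ofNat 1, Int.negSucc 0, Int.ofNat 1, Int.negSucc 0, Int.ofNat 1, Int.ofNat 1, Int.negSucc 0, Int.ofNat 1, Int.negSucc 2, Int.ofNat 1, Int.ofNat 1, Int.negSucc 0, Int.ofNat 1, Int.ofNat 1],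
  [Int.ofNat 1, Int.negSucc 0, Int.ofNat 1, Int.negSucc 0, Int.ofNat 1, Int.negSucc 0, Int.negSucc 0, Int.ofNat 1, Int.ofNat 1, Int.negSucc 0, Int.negSucc 0, Int.ofNat 1, Int.ofNat 3, Int.negSucc 0, Int.negSucc 0, Int.negSucc 0, Int.negSucc 0, Int.negSucc 0, Int.negSucc 0, Int.ofNat 1, Int.negSucc 0, Int.negSucc 0, Int.ofNat 1, Int.negSucc 0],
  [Int.negSucc 0, Int.negSucc 0, Int.ofNat 1, Int.ofNat 1, Int.negSucc 0, Int.ofNat 1, Int.negSucc 0, Int.ofNat 1, Int.negSucc 0, Int.negSucc 0, Int.ofNat 1, Int.ofNat 1, Int.negSucc 0, Int.negSucc 0, Int.ofNat 1, Int.ofNat 3, Int.negSucc 0, Int.negSucc 0, Int.negSucc 0, Int.negSucc 0, Int.negSucc 0, Int.negSucc 0, Int.ofNat 1, Int.negSucc 0],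
  [Int.ofNat 0, Int.ofNat 0, Int.negSucc 1, Int.ofNat 0, Int.ofNat 0, Int.ofNat 0, Int.ofNat 0, Int.ofNat 2, Int.ofNat 0, Int.negSucc 1, Int.ofNat 0, Int.ofNat 2, Int.ofNat 0, Int.ofNat 0, Int.ofNat 0, Int.ofNat 2, Int.ofNat 0, Int.negSucc 1, Int.ofNat 0, Int.ofNat 0, Int.negSucc 1, Int.ofNat 0, Int.ofNat 2, Int.ofNat 0],
  [Int.ofNat 0, Int.negSucc 1, Int.ofNat 0, Int.ofNat 0, Int.ofNat 0, Int.ofNat 0, Int.ofNat 2, Int.ofNat 0, Int.negSucc 1, Int.ofNat 0, Int.ofNat 2, Int.ofNat 0, Int.ofNat 0, Int.ofNat 0, Int.ofNat 2, Int.ofNat 0, Int.negSucc 1, Int.ofNat 0, Int.ofNat 0, Int.negSucc 1, Int.ofNat 0, Int.ofNat 2, Int.ofNat 0, Int.ofNat 0],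
  [Int.ofNat 0, Int.negSucc 1, Int.ofNat 0, Int.ofNat 0, Int.ofNat 0, Int.ofNat 0, Int.ofNat 2, Int.ofNat 0, Int.negSucc 1, Int.ofNat 0, Int.negSucc 1, Int.ofNat 0, Int.ofNat 0, Int.ofNat 0, Int.ofNat 2, Int.ofNat 0, Int.negSucc 1, Int.ofNat 0, Int.ofNat 0, Int.negSucc 1, Int.ofNat 0, Int.negSucc 1, Int.ofNat 0, Int.ofNat 0],
  [Int.ofNat 0, Int.ofNat 2, Int.ofNat 0, Int.ofNat 0, Int.ofNat 0, Int.ofNat 0, Int.negSucc 1, Int.ofNat 0, Int.ofNat 2, Int.ofNat 0, Int.negSucc 1, Int.ofNat 0, Int.ofNat 0, Int.ofNat 0, Int.ofNat 2, Int.ofNat 0, Int.ofNat 2, Int.ofNat 0, Int.ofNat 0, Int.negSucc 1, Int.ofNat 0, Int.negSucc 1, Int.ofNat 0, Int.ofNat 0],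
  [Int.ofNat 0, Int.ofNat 0, Int.ofNat 0, Int.ofNat 0, Int.ofNat 2, Int.negSucc 1, Int.ofNat 0, Int.ofNat 0, Int.ofNat 0, Int.ofNat 2, Int.negSucc 1, Int.ofNat 2, Int.ofNat 0, Int.ofNat 2, Int.negSucc 1, Int.ofNat 0, Int.ofNat 0, Int.ofNat 0, Int.negSucc 1, Int.ofNat 0, Int.ofNat 0, Int.ofNat 0, Int.ofNat 0, Int.ofNat 0],
  [Int.ofNat 0, Int.ofNat 0, Int.ofNat 0, Int.ofNat 0, Int.ofNat 2, Int.negSucc 1, Int.ofNat 0, Int.ofNat 0, Int.ofNat 0, Int.negSucc 1, Int.ofNat 2, Int.negSucc 1, Int.ofNat 0, Int.ofNat 2, Int.negSucc 1, Int.ofNat 0, Int.ofNat 0, Int.ofNat 0, Int.ofNat 2, Int.ofNat 0, Int.ofNat 0, Int.ofNat 0, Int.ofNat 0, Int.ofNat 0],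
  [Int.ofNat 0, Int.ofNat 0, Int.ofNat 0, Int.ofNat 0, Int.ofNat 0, Int.ofNat 2, Int.negSucc 1, Int.ofNat 0, Int.ofNat 0, Int.ofNat 0, Int.negSucc 1, Int.ofNat 2, Int.negSucc 1, Int.ofNat 0, Int.ofNat 2, Int.negSucc 1, Int.ofNat 0, Int.ofNat 0, Int.ofNat 0, Int.ofNat 2, Int.ofNat 0, Int.ofNat 0, Int.ofNat 0, Int.ofNat 0],
  [Int.ofNat 0, Int.ofNat 0, Int.ofNat 0, Int.negSucc 1, Int.ofNat 0, Int.ofNat 0, Int.negSucc 1, Int.ofNat 0, Int.ofNat 0, Int.ofNat 2, Int.ofNat 0, Int.ofNat 2, Int.negSucc 1, Int.ofNat 0, Int.ofNat 0, Int.ofNat 0, Int.ofNat 0, Int.negSucc 1, Int.ofNat 0, Int.ofNat 2, Int.ofNat 2, Int.ofNat 0, Int.ofNat 0, Int.ofNat 0],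
  [Int.negSucc 1, Int.ofNat 0, Int.ofNat 0, Int.negSucc 1, Int.ofNat 0, Int.ofNat 0, Int.ofNat 2, Int.ofNat 0, Int.ofNat 2, Int.negSucc 1, Int.ofNat 0, Int.ofNat 0, Int.ofNat 0, Int.ofNat 0, Int.negSucc 1, Int.ofNat 0, Int.ofNat 2, Int.ofNat 2, Int.ofNat 0, Int.ofNat 0, Int.ofNat 0, Int.ofNat 0, Int.ofNat 0, Int.ofNat 0],
  [Int.ofNat 1, Int.negSucc 0, Int.negSucc 0, Int.negSucc 0, Int.negSucc 0, Int.ofNat 1, Int.ofNat 1, Int.negSucc 0, Int.ofNat 1, Int.negSucc 0, Int.ofNat 1, Int.negSucc 0, Int.negSucc 0, Int.negSucc 0, Int.negSucc 0, Int.ofNat 1, Int.ofNat 1, Int.ofNat 3, Int.negSucc 0, Int.negSucc 0, Int.ofNat 1, Int.negSucc 0, Int.negSucc 0, Int.negSucc 0],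
  [Int.ofNat 1, Int.ofNat 1, Int.negSucc 0, Int.negSucc 0, Int.negSucc 0, Int.negSucc 0, Int.negSucc 0, Int.ofNat 1, Int.negSucc 0, Int.negSucc 0, Int.ofNat 1, Int.ofNat 3, Int.negSucc 0, Int.ofNat 1, Int.negSucc 0, Int.ofNat 1, Int.ofNat 1, Int.negSucc 0, Int.negSucc 0, Int.negSucc 0, Int.negSucc 0, Int.ofNat 1, Int.negSucc 0, Int.negSucc 0],
  [Int.negSucc 0, Int.negSucc 0, Int.ofNat 1, Int.ofNat 1, Int.negSucc 0, Int.ofNat 1, Int.negSucc 0, Int.ofNat 1, Int.negSucc 0, Int.negSucc 0, Int.ofNat 1, Int.ofNat 3, Int.negSucc 0, Int.ofNat 1, Int.ofNat 1, Int.ofNat 1, Int.ofNat 1, Int.ofNat 1, Int.negSucc 0, Int.negSucc 0, Int.negSucc 0, Int.ofNat 1, Int.negSucc 0, Int.ofNat 1],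
  [Int.negSucc 0, Int.negSucc 0, Int.negSucc 0, Int.ofNat 1, Int.negSucc 0, Int.negSucc 0, Int.ofNat 1, Int.ofNat 1, Int.negSucc 0, Int.ofNat 1, Int.negSucc 0, Int.ofNat 3, Int.negSucc 0, Int.ofNat 1, Int.ofNat 1, Int.negSucc 0, Int.ofNat 1, Int.ofNat 1, Int.ofNat 1, Int.negSucc 0, Int.negSucc 0, Int.ofNat 1, Int.ofNat 1, Int.ofNat 1],
  [Int.negSucc 0, Int.ofNat 1, Int.ofNat 3, Int.negSucc 0, Int.ofNat 1, Int.ofNat 1, Int.ofNat 1, Int.ofNat 1, Int.negSucc 0, Int.negSucc 0, Int.ofNat 1, Int.ofNat 1, Int.negSucc 0, Int.negSucc 0, Int.ofNat 1, Int.ofNat 1, Int.negSucc 0, Int.negSucc 0, Int.ofNat 1, Int.negSucc 0, Int.negSucc 0, Int.negSucc 0, Int.ofNat 1, Int.ofNat 1],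
  [Int.ofNat 1, Int.ofNat 1, Int.ofNat 1, Int.ofNat 1, Int.negSucc 0, Int.negSucc 0, Int.negSucc 0, Int.negSucc 0, Int.negSucc 0, Int.ofNat 1, Int.negSucc 0, Int.ofNat 3, Int.negSucc 0, Int.ofNat 1, Int.ofNat 1, Int.negSucc 0, Int.ofNat 1, Int.ofNat 1, Int.ofNat 1, Int.ofNat 1, Int.negSucc 0, Int.negSucc 0, Int.ofNat 1, Int.negSucc 0],
  [Int.negSucc 0, Int.ofNat 1, Int.negSucc 0, Int.ofNat 1, Int.negSucc 0, Int.negSucc 0, Int.negSucc 0, Int.ofNat 1, Int.negSucc 0, Int.negSucc 0, Int.ofNat 1, Int.negSucc 2, Int.negSucc 0, Int.ofNat 1, Int.ofNat 1, Int.negSucc 0, Int.ofNat 1, Int.ofNat 1, Int.negSucc 0, Int.ofNat 1, Int.negSucc 0, Int.ofNat 1, Int.ofNat 1, Int.negSucc 0],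
  [Int.ofNat 1, Int.negSucc 0, Int.ofNat 1, Int.negSucc 0, Int.ofNat 1, Int.negSucc 0, Int.negSucc 0, Int.negSucc 0, Int.ofNat 1, Int.negSucc 0, Int.negSucc 0, Int.ofNat 1, Int.negSucc 2, Int.negSucc 0, Int.ofNat 1, Int.ofNat 1, Int.negSucc 0, Int.ofNat 1, Int.ofNat 1, Int.negSucc 0, Int.ofNat 1, Int.negSucc 0, Int.ofNat 1, Int.negSucc 0],
  [Int.negSucc 0, Int.ofNat 1, Int.negSucc 0, Int.negSucc 0, Int.ofNat 1, Int.negSucc 0, Int.ofNat 1, Int.ofNat 1, Int.ofNat 1, Int.negSucc 0, Int.negSucc 0, Int.ofNat 1, Int.negSucc 2, Int.negSucc 0, Int.ofNat 1, Int.ofNat 1, Int.negSucc 0, Int.ofNat 1, Int.ofNat 1, Int.ofNat 1, Int.ofNat 1, Int.ofNat 1, Int.ofNat 1, Int.ofNat 1],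
  [Int.negSucc 0, Int.ofNat 1, Int.negSucc 0, Int.ofNat 1, Int.ofNat 1, Int.ofNat 1, Int.negSucc 0, Int.negSucc 0, Int.ofNat 1, Int.negSucc 2, Int.negSucc 0, Int.ofNat 1, Int.ofNat 1, Int.negSucc 0, Int.ofNat 1, Int.ofNat 1, Int.ofNat 1, Int.ofNat 1, Int.ofNat 1, Int.ofNat 1, Int.negSucc 0, Int.ofNat 1, Int.negSucc 0, Int.ofNat 1],
  [Int.ofNat 1, Int.negSucc 0, Int.ofNat 1, Int.negSucc 0, Int.ofNat 1, Int.negSucc 0, Int.negSucc 0, Int.negSucc 0, Int.negSucc 0, Int.negSucc 0, Int.ofNat 1, Int.negSucc 0, Int.negSucc 0, Int.negSucc 0, Int.negSucc 0, Int.ofNat 3, Int.ofNat 1, Int.negSucc 0, Int.negSucc 0, Int.ofNat 1, Int.ofNat 1, Int.ofNat 1, Int.negSucc 0, Int.negSucc 0],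
  [Int.ofNat 1, Int.negSucc 0, Int.ofNat 1, Int.negSucc 0, Int.negSucc 0, Int.negSucc 0, Int.ofNat 1, Int.ofNat 1, Int.negSucc 0, Int.negSucc 0, Int.ofNat 1, Int.negSucc 0, Int.negSucc 0, Int.ofNat 1, Int.negSucc 0, Int.ofNat 3, Int.negSucc 0, Int.negSucc 0, Int.negSucc 0, Int.negSucc 0, Int.ofNat 1, Int.negSucc 0, Int.ofNat 1, Int.negSucc 0],
  [Int.negSucc 0, Int.ofNat 1, Int.negSucc 0, Int.ofNat 1, Int.negSucc 0, Int.ofNat 1, Int.ofNat 1, Int.ofNat 1, Int.ofNat 1, Int.negSucc 2, Int.negSucc 0, Int.ofNat 1, Int.ofNat 1, Int.ofNat 1, Int.ofNat 1, Int.ofNat 1, Int.negSucc 0, Int.ofNat 1, Int.ofNat 1, Int.negSucc 0, Int.negSucc 0, Int.negSucc 0, Int.ofNat 1, Int.ofNat 1],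
  [Int.negSucc 0, Int.ofNat 1, Int.ofNat 1, Int.ofNat 1, Int.negSucc 0, Int.negSucc 0, Int.negSucc 0, Int.ofNat 1, Int.ofNat 1, Int.ofNat 3, Int.ofNat 1, Int.ofNat 1, Int.ofNat 1, Int.ofNat 1, Int.ofNat 1, Int.negSucc 0, Int.negSucc 0, Int.ofNat 1, Int.negSucc 0, Int.negSucc 0, Int.negSucc 0, Int.negSucc 0, Int.negSucc 0, Int.ofNat 1],
  [Int.ofNat 1, Int.negSucc 0, Int.negSucc 0, Int.negSucc 0, Int.ofNat 1, Int.negSucc 0, Int.negSucc 0, Int.negSucc 0, Int.ofNat 1, Int.ofNat 1, Int.negSucc 0, Int.ofNat 1, Int.ofNat 3, Int.ofNat 1, Int.negSucc 0, Int.negSucc 0, Int.ofNat 1, Int.negSucc 0, Int.negSucc 0, Int.ofNat 1, Int.ofNat 1, Int.ofNat 1, Int.ofNat 1, Int.ofNat 1],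
  [Int.ofNat 1, Int.negSucc 0, Int.ofNat 1, Int.negSucc 0, Int.ofNat 1, Int.ofNat 1, Int.ofNat 1, Int.negSucc 0, Int.ofNat 1, Int.negSucc 0, Int.ofNat 1, Int.ofNat 1, Int.ofNat 3, Int.ofNat 1, Int.negSucc 0, Int.ofNat 1, Int.ofNat 1, Int.negSucc 0, Int.ofNat 1, Int.ofNat 1, Int.ofNat 1, Int.ofNat 1, Int.negSucc 0, Int.ofNat 1],
  [Int.ofNat 0, Int.ofNat 2, Int.ofNat 0, Int.ofNat 0, Int.ofNat 0, Int.ofNat 2, Int.ofNat 0, Int.negSucc 1, Int.negSucc 1, Int.negSucc 1, Int.ofNat 0, Int.negSucc 1, Int.ofNat 0, Int.ofNat 0, Int.ofNat 0, Int.ofNat 0, Int.ofNat 0, Int.ofNat 0, Int.negSucc 1, Int.ofNat 0, Int.ofNat 0, Int.ofNat 0, Int.negSucc 1, Int.ofNat 0],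
  [Int.ofNat 0, Int.negSucc 1, Int.ofNat 0, Int.ofNat 0, Int.ofNat 0, Int.ofNat 0, Int.ofNat 2, Int.ofNat 2, Int.ofNat 0, Int.ofNat 0, Int.negSucc 1, Int.ofNat 0, Int.negSucc 1, Int.negSucc 1, Int.ofNat 0, Int.ofNat 0, Int.ofNat 0, Int.negSucc 1, Int.ofNat 0, Int.negSucc 1, Int.ofNat 0, Int.ofNat 0, Int.ofNat 0, Int.ofNat 0],
  [Int.negSucc 0, Int.ofNat 1, Int.negSucc 0, Int.ofNat 1, Int.ofNat 1, Int.ofNat 1, Int.ofNat 1, Int.ofNat 1, Int.ofNat 1, Int.ofNat 1, Int.negSucc 0, Int.ofNat 1, Int.negSucc 0, Int.negSucc 0, Int.ofNat 1, Int.ofNat 1, Int.ofNat 1, Int.negSucc 0, Int.ofNat 1, Int.negSucc 2, Int.ofNat 1, Int.negSucc 0, Int.ofNat 1, Int.negSucc 0],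
  [Int.ofNat 1, Int.negSucc 0, Int.ofNat 1, Int.negSucc 0, Int.ofNat 1, Int.negSucc 0, Int.ofNat 1, Int.ofNat 1, Int.ofNat 1, Int.ofNat 1, Int.ofNat 1, Int.ofNat 1, Int.ofNat 1, Int.negSucc 0, Int.ofNat 1, Int.negSucc 0, Int.negSucc 0, Int.ofNat 1, Int.ofNat 1, Int.ofNat 1, Int.negSucc 0, Int.ofNat 1, Int.negSucc 2, Int.negSucc 0],
  [Int.negSucc 0, Int.ofNat 1, Int.negSucc 0, Int.negSucc 0, Int.ofNat 3, Int.negSucc 0, Int.negSucc 0, Int.negSucc 0, Int.negSucc 0, Int.ofNat 1, Int.ofNat 1, Int.negSucc 0, Int.negSucc 0, Int.ofNat 1, Int.ofNat 1, Int.negSucc 0, Int.ofNat 1, Int.ofNat 1, Int.negSucc 0, Int.negSucc 0, Int.negSucc 0, Int.negSucc 0, Int.negSucc 0, Int.ofNat 1],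
  [Int.ofNat 1, Int.negSucc 0, Int.negSucc 0, Int.ofNat 3, Int.negSucc 0, Int.negSucc 0, Int.negSucc 0, Int.negSucc 0, Int.ofNat 1, Int.ofNat 1, Int.negSucc 0, Int.negSucc 0, Int.ofNat 1, Int.ofNat 1, Int.negSucc 0, Int.ofNat 1, Int.ofNat 1, Int.negSucc 0, Int.negSucc 0, Int.negSucc 0, Int.negSucc 0, Int.negSucc 0, Int.negSucc 0, Int.ofNat 1],
  [Int.negSucc 0, Int.negSucc 0, Int.ofNat 1, Int.ofNat 3, Int.negSucc 0, Int.negSucc 0, Int.negSucc 0, Int.ofNat 1, Int.ofNat 1, Int.negSucc 0, Int.ofNat 1, Int.ofNat 1, Int.ofNat 1, Int.ofNat 1, Int.negSucc 0, Int.ofNat 1, Int.ofNat 1, Int.negSucc 0, Int.ofNat 1, Int.negSucc 0, Int.negSucc 0, Int.ofNat 1, Int.negSucc 0, Int.ofNat 1],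
  [Int.ofNat 1, Int.ofNat 1, Int.negSucc 0, Int.negSucc 2, Int.ofNat 1, Int.negSucc 0, Int.ofNat 1, Int.ofNat 1, Int.negSucc 0, Int.ofNat 1, Int.ofNat 1, Int.ofNat 1, Int.negSucc 0, Int.negSucc 0, Int.negSucc 0, Int.ofNat 1, Int.negSucc 0, Int.negSucc 0, Int.negSucc 0, Int.negSucc 0, Int.negSucc 0, Int.ofNat 1, Int.negSucc 0, Int.ofNat 1],
  [Int.ofNat 1, Int.negSucc 0, Int.negSucc 0, Int.negSucc 2, Int.ofNat 1, Int.ofNat 1, Int.ofNat 1, Int.negSucc 0, Int.ofNat 1, Int.negSucc 0, Int.ofNat 1, Int.negSucc 0, Int.negSucc 0, Int.negSucc 0, Int.negSucc 0, Int.ofNat 1, Int.negSucc 0, Int.negSucc 0, Int.ofNat 1, Int.negSucc 0, Int.negSucc 0, Int.ofNat 1, Int.ofNat 1, Int.ofNat 1],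
  [Int.negSucc 0, Int.negSucc 0, Int.ofNat 1, Int.negSucc 2, Int.ofNat 1, Int.ofNat 1, Int.ofNat 1, Int.ofNat 1, Int.ofNat 1, Int.ofNat 1, Int.negSucc 0, Int.ofNat 1, Int.negSucc 0, Int.negSucc 0, Int.negSucc 0, Int.ofNat 1, Int.negSucc 0, Int.negSucc 0, Int.negSucc 0, Int.negSucc 0, Int.negSucc 0, Int.negSucc 0, Int.ofNat 1, Int.ofNat 1],
  [Int.ofNat 1, Int.negSucc 0, Int.negSucc 0, Int.ofNat 1, Int.negSucc 2, Int.ofNat 1, Int.ofNat 1, Int.ofNat 1, Int.ofNat 1, Int.ofNat 1, Int.ofNat 1, Int.negSucc 0, Int.ofNat 1, Int.negSucc 0, Int.negSucc 0, Int.negSucc 0, Int.ofNat 1, Int.negSucc 0, Int.negSucc 0, Int.negSucc 0, Int.negSucc 0, Int.negSucc 0, Int.negSucc 0, Int.ofNat 1],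
  [Int.negSucc 0, Int.ofNat 1, Int.ofNat 1, Int.ofNat 1, Int.negSucc 0, Int.ofNat 1, Int.ofNat 1, Int.ofNat 1, Int.ofNat 1, Int.ofNat 1, Int.ofNat 1, Int.negSucc 0, Int.ofNat 1, Int.ofNat 1, Int.negSucc 0, Int.negSucc 0, Int.ofNat 3, Int.negSucc 0, Int.negSucc 0, Int.negSucc 0, Int.negSucc 0, Int.negSucc 0, Int.ofNat 1, Int.negSucc 0],
  [Int.ofNat 1, Int.negSucc 0, Int.ofNat 1, Int.ofNat 1, Int.ofNat 1, Int.ofNat 1, Int.ofNat 1, Int.ofNat 1, Int.negSucc 0, Int.ofNat 1, Int.ofNat 1, Int.negSucc 0, Int.negSucc 0, Int.ofNat 3, Int.negSucc 0, Int.negSucc 0, Int.negSucc 0, Int.negSucc 0, Int.negSucc 0, Int.ofNat 1, Int.negSucc 0, Int.ofNat 1, Int.ofNat 1, Int.negSucc 0],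
  [Int.negSucc 0, Int.ofNat 1, Int.negSucc 0, Int.ofNat 1, Int.negSucc 0, Int.ofNat 1, Int.negSucc 0, Int.negSucc 0, Int.ofNat 1, Int.ofNat 1, Int.ofNat 1, Int.ofNat 1, Int.ofNat 1, Int.ofNat 1, Int.negSucc 0, Int.negSucc 0, Int.negSucc 2, Int.negSucc 0, Int.ofNat 1, Int.negSucc 0, Int.negSucc 0, Int.negSucc 0, Int.negSucc 0, Int.ofNat 1],
  [Int.negSucc 0, Int.negSucc 0, Int.negSucc 0, Int.ofNat 1, Int.ofNat 1, Int.negSucc 0, Int.negSucc 0, Int.ofNat 1, Int.ofNat 1, Int.ofNat 1, Int.negSucc 0, Int.negSucc 0, Int.ofNat 1, Int.negSucc 2, Int.negSucc 0, Int.negSucc 0, Int.ofNat 1, Int.negSucc 0, Int.ofNat 1, Int.ofNat 1, Int.negSucc 0, Int.ofNat 1, Int.negSucc 0, Int.ofNat 1],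
  [Int.ofNat 0, Int.ofNat 0, Int.ofNat 0, Int.ofNat 2, Int.ofNat 2, Int.ofNat 0, Int.negSucc 1, Int.ofNat 0, Int.ofNat 0, Int.ofNat 2, Int.ofNat 0, Int.negSucc 1, Int.ofNat 0, Int.negSucc 1, Int.ofNat 0, Int.ofNat 0, Int.ofNat 2, Int.ofNat 0, Int.ofNat 0, Int.ofNat 0, Int.ofNat 0, Int.ofNat 0, Int.ofNat 0, Int.negSucc 1],
  [Int.ofNat 0, Int.ofNat 0, Int.ofNat 0, Int.ofNat 2, Int.ofNat 2, Int.ofNat 0, Int.ofNat 2, Int.ofNat 0, Int.ofNat 0, Int.negSucc 1, Int.ofNat 0, Int.negSucc 1, Int.ofNat 0, Int.negSucc 1, Int.ofNat 0, Int.ofNat 0, Int.ofNat 2, Int.ofNat 0, Int.ofNat 0, Int.ofNat 0, Int.ofNat 0, Int.ofNat 0, Int.ofNat 0, Int.negSucc 1],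
  [Int.ofNat 0, Int.ofNat 2, Int.negSucc 1, Int.ofNat 0, Int.ofNat 0, Int.ofNat 2, Int.ofNat 0, Int.ofNat 2, Int.ofNat 0, Int.ofNat 0, Int.negSucc 1, Int.ofNat 0, Int.ofNat 0, Int.ofNat 2, Int.ofNat 0, Int.ofNat 0, Int.ofNat 0, Int.ofNat 0, Int.negSucc 1, Int.ofNat 0, Int.ofNat 0, Int.ofNat 0, Int.ofNat 0, Int.negSucc 1],
  [Int.negSucc 1, Int.ofNat 0, Int.ofNat 0, Int.ofNat 0, Int.ofNat 0, Int.ofNat 0, Int.ofNat 0, Int.ofNat 2, Int.ofNat 0, Int.ofNat 2, Int.ofNat 0, Int.negSucc 1, Int.ofNat 0, Int.ofNat 2, Int.negSucc 1, Int.ofNat 0, Int.negSucc 1, Int.ofNat 0, Int.ofNat 0, Int.ofNat 0, Int.ofNat 0, Int.ofNat 0, Int.ofNat 2, Int.ofNat 0],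
  [Int.ofNat 2, Int.ofNat 0, Int.ofNat 0, Int.ofNat 0, Int.ofNat 0, Int.ofNat 0, Int.ofNat 0, Int.negSucc 1, Int.ofNat 0, Int.negSucc 1, Int.ofNat 0, Int.ofNat 2, Int.ofNat 0, Int.ofNat 2, Int.negSucc 1, Int.ofNat 0, Int.negSucc 1, Int.ofNat 0, Int.ofNat 0, Int.ofNat 0, Int.ofNat 0, Int.ofNat 0, Int.ofNat 2, Int.ofNat 0],
  [Int.ofNat 2, Int.ofNat 2, Int.ofNat 0, Int.ofNat 0, Int.ofNat 0, Int.ofNat 0, Int.ofNat 0, Int.ofNat 0, Int.negSucc 1, Int.ofNat 0, Int.negSucc 1, Int.ofNat 0, Int.ofNat 2, Int.ofNat 0, Int.ofNat 2, Int.negSucc 1, Int.ofNat 0, Int.negSucc 1, Int.ofNat 0, Int.ofNat 0, Int.ofNat 0, Int.ofNat 0, Int.ofNat 0, Int.ofNat 0],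
  [Int.ofNat 0, Int.ofNat 0, Int.ofNat 2, Int.ofNat 0, Int.ofNat 0, Int.ofNat 0, Int.ofNat 0, Int.ofNat 0, Int.negSucc 1, Int.ofNat 2, Int.ofNat 0, Int.ofNat 0, Int.ofNat 2, Int.ofNat 0, Int.ofNat 2, Int.ofNat 0, Int.ofNat 0, Int.negSucc 1, Int.ofNat 0, Int.ofNat 0, Int.ofNat 2, Int.ofNat 0, Int.ofNat 0, Int.ofNat 2],
  [Int.ofNat 0, Int.ofNat 0, Int.ofNat 0, Int.ofNat 0, Int.ofNat 0, Int.negSucc 1, Int.ofNat 2, Int.ofNat 0, Int.ofNat 0, Int.ofNat 2, Int.ofNat 0, Int.ofNat 2, Int.ofNat 0, Int.ofNat 0, Int.negSucc 1, Int.ofNat 0, Int.ofNat 0, Int.ofNat 2, Int.ofNat 0, Int.ofNat 0, Int.ofNat 0, Int.ofNat 0, Int.ofNat 2, Int.ofNat 2],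
  [Int.ofNat 1, Int.ofNat 1, Int.ofNat 1, Int.ofNat 1, Int.negSucc 0, Int.negSucc 0, Int.ofNat 1, Int.negSucc 0, Int.negSucc 0, Int.ofNat 1, Int.negSucc 0, Int.ofNat 1, Int.negSucc 0, Int.negSucc 0, Int.negSucc 0, Int.negSucc 0, Int.negSucc 0, Int.ofNat 3, Int.negSucc 0, Int.negSucc 0, Int.negSucc 0, Int.negSucc 0, Int.ofNat 1, Int.negSucc 0],
  [Int.ofNat 1, Int.ofNat 1, Int.negSucc 0, Int.ofNat 1, Int.negSucc 0, Int.negSucc 0, Int.ofNat 1, Int.negSucc 0, Int.negSucc 0, Int.negSucc 0, Int.negSucc 0, Int.ofNat 3, Int.ofNat 1, Int.negSucc 0, Int.ofNat 1, Int.negSucc 0, Int.negSucc 0, Int.negSucc 0, Int.ofNat 1, Int.ofNat 1, Int.negSucc 0, Int.negSucc 0, Int.negSucc 0, Int.negSucc 0],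
  [Int.negSucc 0, Int.negSucc 0, Int.ofNat 1, Int.ofNat 1, Int.ofNat 1, Int.negSucc 0, Int.ofNat 1, Int.negSucc 0, Int.negSucc 2, Int.ofNat 1, Int.ofNat 1, Int.ofNat 1, Int.negSucc 0, Int.ofNat 1, Int.ofNat 1, Int.ofNat 1, Int.ofNat 1, Int.negSucc 0, Int.negSucc 0, Int.ofNat 1, Int.ofNat 1, Int.negSucc 0, Int.ofNat 1, Int.ofNat 1],
  [Int.negSucc 0, Int.negSucc 0, Int.negSucc 0, Int.ofNat 1, Int.ofNat 1, Int.ofNat 1, Int.negSucc 0, Int.negSucc 0, Int.negSucc 2, Int.negSucc 0, Int.negSucc 0, Int.ofNat 1, Int.negSucc 0, Int.ofNat 1, Int.ofNat 1, Int.negSucc 0, Int.ofNat 1, Int.negSucc 0, Int.ofNat 1, Int.ofNat 1, Int.ofNat 1, Int.negSucc 0, Int.negSucc 0, Int.ofNat 1],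
  [Int.negSucc 0, Int.negSucc 0, Int.negSucc 0, Int.ofNat 1, Int.negSucc 0, Int.ofNat 1, Int.negSucc 0, Int.negSucc 0, Int.ofNat 1, Int.negSucc 0, Int.ofNat 1, Int.negSucc 2, Int.negSucc 0, Int.negSucc 0, Int.negSucc 0, Int.ofNat 1, Int.ofNat 1, Int.ofNat 1, Int.ofNat 1, Int.negSucc 0, Int.ofNat 1, Int.ofNat 1, Int.negSucc 0, Int.ofNat 1],
  [Int.negSucc 0, Int.negSucc 0, Int.ofNat 1, Int.ofNat 1, Int.negSucc 0, Int.negSucc 0, Int.ofNat 1, Int.negSucc 0, Int.ofNat 1, Int.ofNat 1, Int.negSucc 0, Int.negSucc 2, Int.negSucc 0, Int.negSucc 0, Int.negSucc 0, Int.negSucc 0, Int.ofNat 1, Int.ofNat 1, Int.negSucc 0, Int.negSucc 0, Int.ofNat 1, Int.ofNat 1, Int.ofNat 1, Int.ofNat 1],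
  [Int.ofNat 1, Int.ofNat 1, Int.negSucc 0, Int.ofNat 1, Int.negSucc 0, Int.negSucc 0, Int.ofNat 1, Int.negSucc 0, Int.ofNat 3, Int.ofNat 1, Int.negSucc 0, Int.negSucc 0, Int.ofNat 1, Int.negSucc 0, Int.negSucc 0, Int.negSucc 0, Int.ofNat 1, Int.ofNat 1, Int.ofNat 1, Int.negSucc 0, Int.ofNat 1, Int.ofNat 1, Int.ofNat 1, Int.negSucc 0],
  [Int.ofNat 1, Int.ofNat 1, Int.ofNat 1, Int.ofNat 1, Int.negSucc 0, Int.ofNat 1, Int.ofNat 1, Int.negSucc 0, Int.ofNat 1, Int.ofNat 1, Int.negSucc 0, Int.negSucc 0, Int.ofNat 3, Int.ofNat 1, Int.ofNat 1, Int.negSucc 0, Int.negSucc 0, Int.negSucc 0, Int.negSucc 0, Int.ofNat 1, Int.negSucc 0, Int.ofNat 1, Int.negSucc 0, Int.negSucc 0],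
  [Int.ofNat 0, Int.ofNat 0, Int.ofNat 0, Int.ofNat 0, Int.ofNat 0, Int.ofNat 0, Int.ofNat 0, Int.negSucc 1, Int.ofNat 0, Int.ofNat 2, Int.ofNat 0, Int.negSucc 1, Int.ofNat 2, Int.ofNat 2, Int.ofNat 0, Int.ofNat 0, Int.ofNat 0, Int.negSucc 1, Int.negSucc 1, Int.ofNat 0, Int.ofNat 0, Int.ofNat 0, Int.ofNat 0, Int.ofNat 2],
  [Int.ofNat 0, Int.ofNat 0, Int.ofNat 0, Int.ofNat 0, Int.ofNat 0, Int.ofNat 0, Int.ofNat 0, Int.ofNat 0, Int.ofNat 0, Int.ofNat 0, Int.negSucc 1, Int.ofNat 0, Int.ofNat 2, Int.ofNat 0, Int.negSucc 1, Int.ofNat 2, Int.ofNat 2, Int.ofNat 0, Int.ofNat 0, Int.ofNat 0, Int.negSucc 1, Int.negSucc 1, Int.ofNat 0, Int.ofNat 2],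
  [Int.ofNat 1, Int.ofNat 1, Int.ofNat 1, Int.ofNat 1, Int.negSucc 0, Int.ofNat 1, Int.ofNat 1, Int.ofNat 1, Int.negSucc 0, Int.ofNat 1, Int.negSucc 0, Int.negSucc 0, Int.ofNat 1, Int.negSucc 0, Int.negSucc 0, Int.ofNat 3, Int.ofNat 1, Int.ofNat 1, Int.negSucc 0, Int.ofNat 1, Int.negSucc 0, Int.negSucc 0, Int.negSucc 0, Int.negSucc 0],
  [Int.ofNat 1, Int.ofNat 1, Int.ofNat 1, Int.negSucc 0, Int.ofNat 1, Int.ofNat 1, Int.ofNat 1, Int.negSucc 0, Int.ofNat 1, Int.negSucc 0, Int.negSucc 0, Int.ofNat 1, Int.negSucc 0, Int.negSucc 0, Int.ofNat 3, Int.ofNat 1, Int.ofNat 1, Int.negSucc 0, Int.ofNat 1, Int.negSucc 0, Int.negSucc 0, Int.negSucc 0, Int.ofNat 1, Int.negSucc 0],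
  [Int.negSucc 0, Int.ofNat 1, Int.negSucc 0, Int.negSucc 0, Int.ofNat 1, Int.ofNat 1, Int.ofNat 1, Int.ofNat 1, Int.ofNat 1, Int.ofNat 1, Int.ofNat 1, Int.negSucc 0, Int.negSucc 0, Int.negSucc 0, Int.ofNat 3, Int.ofNat 1, Int.ofNat 1, Int.negSucc 0, Int.negSucc 0, Int.negSucc 0, Int.negSucc 0, Int.ofNat 1, Int.ofNat 1, Int.negSucc 0],
  [Int.ofNat 1, Int.negSucc 0, Int.ofNat 1, Int.ofNat 1, Int.negSucc 0, Int.ofNat 1, Int.negSucc 0, Int.ofNat 1, Int.negSucc 0, Int.negSucc 0, Int.ofNat 1, Int.negSucc 0, Int.ofNat 1, Int.ofNat 1, Int.ofNat 3, Int.ofNat 1, Int.negSucc 0, Int.negSucc 0, Int.ofNat 1, Int.negSucc 0, Int.negSucc 0, Int.ofNat 1, Int.ofNat 1, Int.negSucc 0],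
  [Int.ofNat 1, Int.ofNat 1, Int.ofNat 1, Int.ofNat 1, Int.negSucc 0, Int.ofNat 1, Int.negSucc 0, Int.negSucc 0, Int.negSucc 0, Int.negSucc 0, Int.ofNat 1, Int.ofNat 3, Int.ofNat 1, Int.negSucc 0, Int.negSucc 0, Int.ofNat 1, Int.ofNat 1, Int.ofNat 1, Int.negSucc 0, Int.negSucc 0, Int.ofNat 1, Int.ofNat 1, Int.negSucc 0, Int.negSucc 0],
  [Int.negSucc 0, Int.ofNat 1, Int.negSucc 0, Int.ofNat 1, Int.negSucc 0, Int.ofNat 1, Int.negSucc 0, Int.ofNat 1, Int.negSucc 0, Int.ofNat 1, Int.negSucc 0, Int.negSucc 2, Int.ofNat 1, Int.negSucc 0, Int.negSucc 0, Int.ofNat 1, Int.ofNat 1, Int.ofNat 1, Int.ofNat 1, Int.negSucc 0, Int.ofNat 1, Int.negSucc 0, Int.negSucc 0, Int.negSucc 0],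
  [Int.negSucc 0, Int.negSucc 0, Int.ofNat 1, Int.negSucc 0, Int.ofNat 1, Int.negSucc 0, Int.ofNat 1, Int.negSucc 0, Int.ofNat 1, Int.negSucc 0, Int.ofNat 1, Int.negSucc 0, Int.negSucc 2, Int.ofNat 1, Int.negSucc 0, Int.negSucc 0, Int.ofNat 1, Int.ofNat 1, Int.ofNat 1, Int.ofNat 1, Int.negSucc 0, Int.ofNat 1, Int.negSucc 0, Int.negSucc 0],
  [Int.ofNat 0, Int.ofNat 0, Int.negSucc 1, Int.ofNat 0, Int.ofNat 0, Int.ofNat 0, Int.ofNat 0, Int.negSucc 1, Int.ofNat 2, Int.ofNat 0, Int.ofNat 2, Int.ofNat 0, Int.negSucc 1, Int.ofNat 0, Int.ofNat 0, Int.ofNat 0, Int.ofNat 0, Int.ofNat 2, Int.ofNat 2, Int.ofNat 0, Int.ofNat 0, Int.ofNat 0, Int.negSucc 1, Int.ofNat 0],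
  [Int.ofNat 0, Int.ofNat 0, Int.ofNat 0, Int.ofNat 0, Int.negSucc 1, Int.ofNat 2, Int.ofNat 0, Int.ofNat 2, Int.ofNat 0, Int.negSucc 1, Int.ofNat 0, Int.ofNat 0, Int.ofNat 0, Int.ofNat 0, Int.ofNat 2, Int.ofNat 2, Int.ofNat 0, Int.ofNat 0, Int.ofNat 0, Int.negSucc 1, Int.ofNat 0, Int.ofNat 0, Int.negSucc 1, Int.ofNat 0],
  [Int.ofNat 0, Int.ofNat 0, Int.ofNat 0, Int.negSucc 1, Int.ofNat 0, Int.ofNat 0, Int.ofNat 0, Int.ofNat 2, Int.ofNat 0, Int.negSucc 1, Int.ofNat 0, Int.ofNat 0, Int.ofNat 0, Int.ofNat 2, Int.ofNat 0, Int.ofNat 2, Int.ofNat 2, Int.negSucc 1, Int.ofNat 0, Int.negSucc 1, Int.ofNat 0, Int.ofNat 0, Int.ofNat 0, Int.ofNat 0],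
  [Int.ofNat 0, Int.ofNat 0, Int.ofNat 0, Int.negSucc 1, Int.ofNat 0, Int.ofNat 2, Int.ofNat 0, Int.ofNat 0, Int.ofNat 0, Int.ofNat 2, Int.ofNat 0, Int.negSucc 1, Int.negSucc 1, Int.ofNat 2, Int.ofNat 0, Int.ofNat 2, Int.ofNat 0, Int.ofNat 0, Int.ofNat 0, Int.ofNat 0, Int.ofNat 0, Int.ofNat 0, Int.negSucc 1, Int.ofNat 0],
  [Int.ofNat 0, Int.ofNat 0, Int.ofNat 0, Int.negSucc 1, Int.ofNat 0, Int.ofNat 2, Int.ofNat 0, Int.ofNat 0, Int.ofNat 2, Int.ofNat 0, Int.negSucc 1, Int.ofNat 0, Int.ofNat 0, Int.ofNat 2, Int.ofNat 0, Int.ofNat 0, Int.ofNat 0, Int.ofNat 0, Int.ofNat 2, Int.ofNat 0, Int.negSucc 1, Int.ofNat 0, Int.negSucc 1, Int.ofNat 0],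
  [Int.ofNat 0, Int.ofNat 0, Int.ofNat 0, Int.negSucc 1, Int.ofNat 0, Int.negSucc 1, Int.ofNat 0, Int.ofNat 0, Int.ofNat 2, Int.ofNat 0, Int.ofNat 2, Int.ofNat 0, Int.ofNat 0, Int.ofNat 2, Int.ofNat 0, Int.ofNat 0, Int.ofNat 0, Int.ofNat 0, Int.negSucc 1, Int.ofNat 0, Int.negSucc 1, Int.ofNat 0, Int.ofNat 2, Int.ofNat 0],
  [Int.ofNat 2, Int.ofNat 0, Int.ofNat 0, Int.ofNat 2, Int.ofNat 0, Int.ofNat 0, Int.ofNat 0, Int.negSucc 1, Int.negSucc 1, Int.negSucc 1, Int.ofNat 2, Int.ofNat 0, Int.ofNat 0, Int.ofNat 0, Int.ofNat 0, Int.negSucc 1, Int.ofNat 0, Int.ofNat 0, Int.ofNat 0, Int.ofNat 0, Int.ofNat 0, Int.ofNat 0, Int.ofNat 2, Int.ofNat 0],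
  [Int.ofNat 0, Int.ofNat 2, Int.ofNat 0, Int.negSucc 1, Int.ofNat 0, Int.negSucc 1, Int.ofNat 0, Int.ofNat 0, Int.ofNat 0, Int.ofNat 0, Int.ofNat 0, Int.ofNat 0, Int.ofNat 0, Int.negSucc 1, Int.ofNat 0, Int.ofNat 2, Int.ofNat 2, Int.ofNat 0, Int.ofNat 0, Int.ofNat 0, Int.negSucc 1, Int.ofNat 0, Int.ofNat 0, Int.ofNat 2],
  [Int.ofNat 0, Int.ofNat 2, Int.ofNat 0, Int.negSucc 1, Int.ofNat 0, Int.negSucc 1, Int.ofNat 0, Int.ofNat 0, Int.ofNat 0, Int.ofNat 0, Int.ofNat 0, Int.ofNat 0, Int.ofNat 0, Int.negSucc 1, Int.ofNat 0, Int.ofNat 2, Int.ofNat 2, Int.ofNat 0, Int.ofNat 0, Int.ofNat 0, Int.negSucc 1, Int.ofNat 0, Int.ofNat 0, Int.ofNat 2],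
  [Int.ofNat 0, Int.ofNat 0, Int.ofNat 2, Int.ofNat 0, Int.negSucc 1, Int.ofNat 0, Int.negSucc 1, Int.ofNat 0, Int.ofNat 0, Int.ofNat 0, Int.ofNat 0, Int.ofNat 0, Int.ofNat 0, Int.ofNat 0, Int.negSucc 1, Int.ofNat 0, Int.ofNat 2, Int.ofNat 2, Int.ofNat 0, Int.ofNat 0, Int.ofNat 0, Int.negSucc 1, Int.ofNat 0, Int.ofNat 2],
  [Int.ofNat 2, Int.ofNat 2, Int.ofNat 0, Int.ofNat 0, Int.negSucc 1, Int.ofNat 0, Int.ofNat 0, Int.ofNat 2, Int.ofNat 0, Int.ofNat 0, Int.ofNat 0, Int.ofNat 0, Int.ofNat 0, Int.ofNat 0, Int.negSucc 1, Int.ofNat 0, Int.ofNat 2, Int.ofNat 2, Int.ofNat 0, Int.ofNat 2, Int.ofNat 0, Int.ofNat 0, Int.ofNat 0, Int.ofNat 0],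
  [Int.ofNat 0, Int.negSucc 1, Int.ofNat 0, Int.ofNat 0, Int.ofNat 2, Int.ofNat 0, Int.ofNat 0, Int.ofNat 0, Int.ofNat 0, Int.ofNat 0, Int.ofNat 0, Int.negSucc 1, Int.ofNat 0, Int.ofNat 2, Int.ofNat 2, Int.ofNat 0, Int.ofNat 2, Int.ofNat 0, Int.ofNat 0, Int.ofNat 0, Int.ofNat 2, Int.ofNat 2, Int.ofNat 0, Int.ofNat 0],
  [Int.negSucc 0, Int.ofNat 1, Int.negSucc 0, Int.negSucc 0, Int.negSucc 0, Int.negSucc 0, Int.negSucc 0, Int.negSucc 0, Int.ofNat 1, Int.negSucc 0, Int.negSucc 0, Int.negSucc 0, Int.ofNat 1, Int.negSucc 0, Int.ofNat 1, Int.negSucc 0, Int.negSucc 0, Int.negSucc 0, Int.ofNat 1, Int.negSucc 0, Int.ofNat 1, Int.ofNat 1, Int.negSucc 2, Int.negSucc 0],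
  [Int.negSucc 0, Int.negSucc 0, Int.negSucc 0, Int.negSucc 0, Int.ofNat 1, Int.negSucc 0, Int.negSucc 0, Int.negSucc 0, Int.ofNat 1, Int.negSucc 0, Int.ofNat 1, Int.negSucc 0, Int.negSucc 0, Int.negSucc 0, Int.negSucc 2, Int.negSucc 0, Int.ofNat 1, Int.ofNat 1, Int.ofNat 1, Int.negSucc 0, Int.ofNat 1, Int.negSucc 0, Int.negSucc 0, Int.negSucc 0],
  [Int.negSucc 0, Int.negSucc 0, Int.negSucc 0, Int.ofNat 1, Int.ofNat 1, Int.ofNat 1, Int.ofNat 1, Int.ofNat 1, Int.ofNat 1, Int.negSucc 0, Int.ofNat 1, Int.negSucc 0, Int.negSucc 0, Int.negSucc 0, Int.negSucc 0, Int.negSucc 0, Int.ofNat 1, Int.ofNat 3, Int.ofNat 1, Int.ofNat 1, Int.ofNat 1, Int.ofNat 1, Int.negSucc 0, Int.negSucc 0],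
  [Int.negSucc 0, Int.negSucc 0, Int.ofNat 1, Int.ofNat 1, Int.ofNat 1, Int.negSucc 0, Int.negSucc 0, Int.ofNat 1, Int.ofNat 1, Int.ofNat 1, Int.negSucc 0, Int.negSucc 0, Int.negSucc 0, Int.negSucc 0, Int.negSucc 0, Int.ofNat 1, Int.ofNat 1, Int.ofNat 3, Int.negSucc 0, Int.ofNat 1, Int.ofNat 1, Int.ofNat 1, Int.ofNat 1, Int.negSucc 0],
  [Int.negSucc 0, Int.ofNat 1, Int.negSucc 0, Int.negSucc 0, Int.ofNat 3, Int.ofNat 1, Int.ofNat 1, Int.ofNat 1, Int.negSucc 0, Int.ofNat 1, Int.ofNat 1, Int.ofNat 1, Int.ofNat 1, Int.ofNat 1, Int.negSucc 0, Int.ofNat 1, Int.negSucc 0, Int.negSucc 0, Int.ofNat 1, Int.negSucc 0, Int.negSucc 0, Int.ofNat 1, Int.negSucc 0, Int.negSucc 0],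
  [Int.negSucc 0, Int.ofNat 1, Int.ofNat 1, Int.negSucc 0, Int.ofNat 3, Int.negSucc 0, Int.negSucc 0, Int.ofNat 1, Int.negSucc 0, Int.negSucc 0, Int.negSucc 0, Int.ofNat 1, Int.ofNat 1, Int.ofNat 1, Int.negSucc 0, Int.negSucc 0, Int.negSucc 0, Int.negSucc 0, Int.negSucc 0, Int.negSucc 0, Int.negSucc 0, Int.ofNat 1, Int.ofNat 1, Int.negSucc 0],
  [Int.ofNat 1, Int.negSucc 0, Int.negSucc 0, Int.ofNat 1, Int.ofNat 1, Int.ofNat 1, Int.negSucc 0, Int.ofNat 1, Int.negSucc 0, Int.ofNat 1, Int.ofNat 1, Int.ofNat 1, Int.ofNat 1, Int.negSucc 0, Int.ofNat 1, Int.ofNat 1, Int.negSucc 2, Int.ofNat 1, Int.negSucc 0, Int.negSucc 0, Int.ofNat 1, Int.ofNat 1, Int.negSucc 0, Int.ofNat 1],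
  [Int.ofNat 1, Int.negSucc 0, Int.negSucc 0, Int.ofNat 1, Int.negSucc 0, Int.ofNat 1, Int.negSucc 0, Int.ofNat 1, Int.negSucc 2, Int.ofNat 1, Int.ofNat 1, Int.negSucc 0, Int.negSucc 0, Int.ofNat 1, Int.ofNat 1, Int.ofNat 1, Int.negSucc 0, Int.ofNat 1, Int.ofNat 1, Int.negSucc 0, Int.ofNat 1, Int.ofNat 1, Int.ofNat 1, Int.ofNat 1],
  [Int.negSucc 0, Int.ofNat 1, Int.ofNat 1, Int.negSucc 0, Int.negSucc 0, Int.negSucc 0, Int.negSucc 0, Int.ofNat 1, Int.negSucc 0, Int.negSucc 0, Int.negSucc 0, Int.ofNat 1, Int.ofNat 1, Int.ofNat 1, Int.negSucc 0, Int.negSucc 0, Int.negSucc 0, Int.negSucc 0, Int.ofNat 3, Int.negSucc 0, Int.negSucc 0, Int.ofNat 1, Int.ofNat 1, Int.negSucc 0],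
  [Int.negSucc 0, Int.ofNat 1, Int.ofNat 1, Int.negSucc 0, Int.ofNat 1, Int.ofNat 1, Int.negSucc 0, Int.negSucc 0, Int.negSucc 0, Int.negSucc 0, Int.ofNat 1, Int.negSucc 0, Int.negSucc 0, Int.negSucc 0, Int.ofNat 1, Int.ofNat 1, Int.ofNat 1, Int.negSucc 0, Int.negSucc 0, Int.negSucc 0, Int.negSucc 0, Int.ofNat 3, Int.negSucc 0, Int.negSucc 0],
  [Int.ofNat 1, Int.negSucc 0, Int.negSucc 0, Int.negSucc 0, Int.ofNat 1, Int.ofNat 1, Int.negSucc 0, Int.negSucc 0, Int.ofNat 1, Int.negSucc 0, Int.ofNat 1, Int.ofNat 1, Int.ofNat 1, Int.negSucc 0, Int.ofNat 1, Int.ofNat 1, Int.ofNat 1, Int.negSucc 0, Int.ofNat 1, Int.negSucc 0, Int.negSucc 0, Int.ofNat 3, Int.negSucc 0, Int.ofNat 1],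
  [Int.negSucc 0, Int.negSucc 0, Int.negSucc 0, Int.ofNat 1, Int.ofNat 1, Int.negSucc 0, Int.negSucc 0, Int.ofNat 1, Int.negSucc 0, Int.ofNat 1, Int.ofNat 1, Int.ofNat 1, Int.negSucc 0, Int.ofNat 1, Int.ofNat 1, Int.ofNat 1, Int.negSucc 0, Int.ofNat 1, Int.negSucc 0, Int.negSucc 0, Int.ofNat 3, Int.negSucc 0, Int.ofNat 1, Int.ofNat 1],
  [Int.ofNat 1, Int.negSucc 0, Int.ofNat 1, Int.ofNat 1, Int.ofNat 1, Int.negSucc 0, Int.negSucc 0, Int.negSucc 0, Int.negSucc 0, Int.negSucc 0, Int.negSucc 0, Int.negSucc 0, Int.negSucc 0, Int.ofNat 1, Int.ofNat 1, Int.ofNat 1, Int.negSucc 0, Int.ofNat 1, Int.ofNat 1, Int.negSucc 0, Int.ofNat 3, Int.ofNat 1, Int.ofNat 1, Int.ofNat 1],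
  [Int.negSucc 0, Int.ofNat 1, Int.negSucc 0, Int.negSucc 0, Int.negSucc 0, Int.negSucc 0, Int.ofNat 1, Int.negSucc 0, Int.ofNat 1, Int.ofNat 1, Int.negSucc 0, Int.negSucc 0, Int.ofNat 1, Int.negSucc 0, Int.ofNat 1, Int.ofNat 1, Int.ofNat 1, Int.ofNat 1, Int.negSucc 0, Int.negSucc 0, Int.ofNat 3, Int.ofNat 1, Int.ofNat 1, Int.ofNat 1],
  [Int.negSucc 0, Int.negSucc 0, Int.negSucc 0, Int.negSucc 0, Int.ofNat 1, Int.negSucc 0, Int.negSucc 0, Int.ofNat 3, Int.ofNat 1, Int.ofNat 1, Int.ofNat 1, Int.ofNat 1, Int.negSucc 0, Int.ofNat 1, Int.negSucc 0, Int.ofNat 1, Int.ofNat 1, Int.ofNat 1, Int.ofNat 1, Int.ofNat 1, Int.negSucc 0, Int.negSucc 0, Int.negSucc 0, Int.ofNat 1],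
  [Int.ofNat 1, Int.negSucc 0, Int.ofNat 1, Int.negSucc 0, Int.ofNat 1, Int.negSucc 0, Int.negSucc 0, Int.negSucc 2, Int.ofNat 1, Int.negSucc 0, Int.negSucc 0, Int.negSucc 0, Int.negSucc 0, Int.ofNat 1, Int.negSucc 0, Int.ofNat 1, Int.ofNat 1, Int.ofNat 1, Int.negSucc 0, Int.ofNat 1, Int.negSucc 0, Int.ofNat 1, Int.negSucc 0, Int.ofNat 1],
  [Int.negSucc 0, Int.ofNat 1, Int.negSucc 0, Int.ofNat 1, Int.negSucc 0, Int.ofNat 1, Int.negSucc 0, Int.negSucc 0, Int.negSucc 2, Int.ofNat 1, Int.negSucc 0, Int.negSucc 0, Int.negSucc 0, Int.negSucc 0, Int.ofNat 1, Int.negSucc 0, Int.ofNat 1, Int.ofNat 1, Int.ofNat 1, Int.negSucc 0, Int.ofNat 1, Int.negSucc 0, Int.ofNat 1, Int.ofNat 1],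
  [Int.ofNat 1, Int.negSucc 0, Int.ofNat 1, Int.negSucc 0, Int.negSucc 0, Int.negSucc 0, Int.ofNat 1, Int.ofNat 1, Int.negSucc 0, Int.ofNat 1, Int.negSucc 0, Int.ofNat 1, Int.ofNat 1, Int.negSucc 0, Int.negSucc 0, Int.negSucc 0, Int.ofNat 1, Int.negSucc 0, Int.ofNat 3, Int.ofNat 1, Int.ofNat 1, Int.ofNat 1, Int.ofNat 1, Int.negSucc 0],
  [Int.negSucc 0, Int.negSucc 0, Int.negSucc 0, Int.ofNat 1, Int.ofNat 1, Int.negSucc 0, Int.ofNat 1, Int.negSucc 0, Int.ofNat 1, Int.ofNat 1, Int.negSucc 0, Int.negSucc 0, Int.negSucc 0, Int.ofNat 1, Int.negSucc 0, Int.ofNat 3, Int.ofNat 1, Int.ofNat 1, Int.ofNat 1, Int.ofNat 1, Int.ofNat 1, Int.negSucc 0, Int.ofNat 1, Int.negSucc 0],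
  [Int.negSucc 0, Int.negSucc 0, Int.negSucc 0, Int.ofNat 1, Int.negSucc 0, Int.negSucc 0, Int.ofNat 1, Int.negSucc 0, Int.ofNat 1, Int.negSucc 0, Int.negSucc 2, Int.negSucc 0, Int.negSucc 0, Int.negSucc 0, Int.negSucc 0, Int.ofNat 1, Int.negSucc 0, Int.ofNat 1, Int.ofNat 1, Int.ofNat 1, Int.negSucc 0, Int.negSucc 0, Int.negSucc 0, Int.negSucc 0],
  [Int.negSucc 0, Int.ofNat 1, Int.negSucc 0, Int.ofNat 1, Int.ofNat 1, Int.negSucc 0, Int.negSucc 0, Int.negSucc 2, Int.negSucc 0, Int.negSucc 0, Int.negSucc 0, Int.ofNat 1, Int.negSucc 0, Int.negSucc 0, Int.negSucc 0, Int.ofNat 1, Int.ofNat 1, Int.negSucc 0, Int.negSucc 0, Int.negSucc 0, Int.negSucc 0, Int.negSucc 0, Int.ofNat 1, Int.negSucc 0],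
  [Int.ofNat 0, Int.negSucc 1, Int.ofNat 0, Int.ofNat 2, Int.ofNat 0, Int.ofNat 0, Int.ofNat 2, Int.ofNat 0, Int.ofNat 0, Int.ofNat 0, Int.ofNat 0, Int.ofNat 2, Int.ofNat 0, Int.negSucc 1, Int.ofNat 0, Int.ofNat 2, Int.ofNat 0, Int.ofNat 0, Int.ofNat 0, Int.ofNat 2, Int.ofNat 0, Int.ofNat 2, Int.ofNat 0, Int.ofNat 0],
  [Int.ofNat 0, Int.negSucc 1, Int.ofNat 0, Int.ofNat 2, Int.ofNat 0, Int.ofNat 0, Int.negSucc 1, Int.ofNat 0, Int.ofNat 0, Int.ofNat 0, Int.ofNat 0, Int.ofNat 2, Int.ofNat 0, Int.negSucc 1, Int.ofNat 0, Int.negSucc 1, Int.ofNat 0, Int.ofNat 0, Int.ofNat 0, Int.ofNat 2, Int.ofNat 0, Int.ofNat 2, Int.ofNat 0, Int.ofNat 0],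
  [Int.ofNat 0, Int.ofNat 0, Int.ofNat 2, Int.ofNat 0, Int.ofNat 0, Int.negSucc 1, Int.ofNat 2, Int.ofNat 2, Int.ofNat 0, Int.ofNat 0, Int.negSucc 1, Int.ofNat 0, Int.negSucc 1, Int.ofNat 0, Int.ofNat 0, Int.ofNat 0, Int.ofNat 2, Int.ofNat 0, Int.ofNat 0, Int.ofNat 0, Int.ofNat 0, Int.negSucc 1, Int.ofNat 0, Int.ofNat 0],
  [Int.ofNat 0, Int.ofNat 0, Int.ofNat 0, Int.ofNat 0, Int.ofNat 0, Int.ofNat 0, Int.ofNat 0, Int.ofNat 0, Int.ofNat 0, Int.negSucc 1, Int.ofNat 2, Int.ofNat 2, Int.negSucc 1, Int.ofNat 2, Int.ofNat 0, Int.ofNat 0, Int.negSucc 1, Int.ofNat 0, Int.ofNat 0, Int.ofNat 2, Int.ofNat 0, Int.negSucc 1, Int.ofNat 0, Int.ofNat 0],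
  [Int.ofNat 0, Int.ofNat 0, Int.ofNat 0, Int.ofNat 0, Int.ofNat 0, Int.ofNat 0, Int.ofNat 0, Int.ofNat 0, Int.ofNat 0, Int.ofNat 2, Int.negSucc 1, Int.negSucc 1, Int.negSucc 1, Int.ofNat 2, Int.ofNat 0, Int.ofNat 0, Int.negSucc 1, Int.ofNat 0, Int.ofNat 0, Int.ofNat 2, Int.ofNat 0, Int.ofNat 2, Int.ofNat 0, Int.ofNat 0],
  [Int.ofNat 0, Int.ofNat 0, Int.ofNat 0, Int.ofNat 0, Int.ofNat 0, Int.ofNat 0, Int.ofNat 0, Int.ofNat 0, Int.ofNat 0, Int.ofNat 0, Int.ofNat 2, Int.negSucc 1, Int.negSucc 1, Int.negSucc 1, Int.ofNat 2, Int.ofNat 0, Int.ofNat 0, Int.negSucc 1, Int.ofNat 0, Int.ofNat 0, Int.ofNat 2, Int.ofNat 0, Int.ofNat 2, Int.ofNat 0],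
  [Int.ofNat 0, Int.ofNat 0, Int.ofNat 0, Int.ofNat 0, Int.ofNat 0, Int.ofNat 0, Int.ofNat 0, Int.ofNat 0, Int.ofNat 2, Int.negSucc 1, Int.ofNat 0, Int.ofNat 0, Int.ofNat 0, Int.negSucc 1, Int.ofNat 2, Int.negSucc 1, Int.ofNat 0, Int.negSucc 1, Int.ofNat 2, Int.ofNat 0, Int.ofNat 0, Int.ofNat 0, Int.ofNat 2, Int.ofNat 0],
  [Int.ofNat 0, Int.ofNat 0, Int.ofNat 0, Int.ofNat 0, Int.ofNat 0, Int.ofNat 2, Int.negSucc 1, Int.ofNat 0, Int.ofNat 0, Int.ofNat 0, Int.negSucc 1, Int.ofNat 2, Int.negSucc 1, Int.ofNat 0, Int.negSucc 1, Int.ofNat 2, Int.ofNat 0, Int.ofNat 0, Int.ofNat 0, Int.ofNat 2, Int.ofNat 0, Int.ofNat 0, Int.ofNat 0, Int.ofNat 0],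
  [Int.ofNat 0, Int.ofNat 0, Int.ofNat 0, Int.ofNat 0, Int.ofNat 0, Int.ofNat 2, Int.negSucc 1, Int.ofNat 0, Int.ofNat 0, Int.ofNat 0, Int.negSucc 1, Int.ofNat 2, Int.negSucc 1, Int.ofNat 0, Int.negSucc 1, Int.ofNat 2, Int.ofNat 0, Int.ofNat 0, Int.ofNat 0, Int.ofNat 2, Int.ofNat 0, Int.ofNat 0, Int.ofNat 0, Int.ofNat 0],
  [Int.ofNat 0, Int.negSucc 1, Int.ofNat 0, Int.ofNat 0, Int.ofNat 0, Int.ofNat 0, Int.ofNat 0, Int.negSucc 1, Int.negSucc 1, Int.ofNat 0, Int.ofNat 0, Int.ofNat 0, Int.ofNat 0, Int.ofNat 0, Int.ofNat 0, Int.ofNat 2, Int.ofNat 0, Int.negSucc 1, Int.ofNat 0, Int.ofNat 2, Int.ofNat 0, Int.ofNat 2, Int.ofNat 2, Int.ofNat 0],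
  [Int.negSucc 0, Int.ofNat 1, Int.negSucc 0, Int.ofNat 1, Int.negSucc 0, Int.ofNat 1, Int.negSucc 0, Int.negSucc 2, Int.negSucc 0, Int.negSucc 0, Int.negSucc 0, Int.ofNat 1, Int.ofNat 1, Int.negSucc 0, Int.ofNat 1, Int.ofNat 1, Int.negSucc 0, Int.negSucc 0, Int.ofNat 1, Int.ofNat 1, Int.negSucc 0, Int.ofNat 1, Int.ofNat 1, Int.negSucc 0],
  [Int.negSucc 0, Int.ofNat 1, Int.ofNat 1, Int.ofNat 1, Int.negSucc 0, Int.negSucc 0, Int.ofNat 1, Int.negSucc 2, Int.negSucc 0, Int.ofNat 1, Int.ofNat 1, Int.ofNat 1, Int.ofNat 1, Int.negSucc 0, Int.ofNat 1, Int.negSucc 0, Int.negSucc 0, Int.negSucc 0, Int.negSucc 0, Int.ofNat 1, Int.negSucc 0, Int.ofNat 1, Int.negSucc 0, Int.negSucc 0],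
  [Int.ofNat 1, Int.negSucc 0, Int.negSucc 0, Int.negSucc 0, Int.negSucc 0, Int.negSucc 0, Int.ofNat 1, Int.negSucc 0, Int.ofNat 1, Int.ofNat 1, Int.negSucc 0, Int.negSucc 0, Int.ofNat 1, Int.negSucc 2, Int.ofNat 1, Int.negSucc 0, Int.ofNat 1, Int.negSucc 0, Int.ofNat 1, Int.ofNat 1, Int.negSucc 0, Int.ofNat 1, Int.ofNat 1, Int.negSucc 0],
  [Int.ofNat 1, Int.negSucc 0, Int.ofNat 1, Int.negSucc 0, Int.negSucc 0, Int.ofNat 1, Int.negSucc 0, Int.negSucc 0, Int.ofNat 1, Int.negSucc 0, Int.ofNat 1, Int.negSucc 0, Int.ofNat 1, Int.negSucc 2, Int.ofNat 1, Int.ofNat 1, Int.ofNat 1, Int.negSucc 0, Int.negSucc 0, Int.ofNat 1, Int.negSucc 0, Int.ofNat 1, Int.negSucc 0, Int.negSucc 0],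
  [Int.negSucc 0, Int.ofNat 1, Int.negSucc 0, Int.negSucc 0, Int.ofNat 1, Int.ofNat 1, Int.negSucc 0, Int.negSucc 0, Int.ofNat 1, Int.negSucc 0, Int.ofNat 1, Int.negSucc 0, Int.ofNat 1, Int.negSucc 0, Int.ofNat 1, Int.ofNat 1, Int.ofNat 3, Int.negSucc 0, Int.negSucc 0, Int.ofNat 1, Int.negSucc 0, Int.ofNat 1, Int.ofNat 1, Int.ofNat 1],
  [Int.negSucc 0, Int.negSucc 0, Int.negSucc 0, Int.negSucc 0, Int.negSucc 0, Int.ofNat 1, Int.ofNat 1, Int.ofNat 1, Int.ofNat 3, Int.ofNat 1, Int.negSucc 0, Int.ofNat 1, Int.ofNat 1, Int.negSucc 0, Int.negSucc 0, Int.ofNat 1, Int.negSucc 0, Int.negSucc 0, Int.ofNat 1, Int.ofNat 1, Int.ofNat 1, Int.negSucc 0, Int.ofNat 1, Int.ofNat 1],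
  [Int.ofNat 0, Int.ofNat 0, Int.ofNat 0, Int.ofNat 0, Int.ofNat 0, Int.ofNat 2, Int.ofNat 0, Int.ofNat 0, Int.ofNat 0, Int.ofNat 0, Int.negSucc 1, Int.negSucc 1, Int.negSucc 1, Int.ofNat 0, Int.ofNat 0, Int.ofNat 0, Int.ofNat 0, Int.ofNat 0, Int.negSucc 1, Int.ofNat 0, Int.ofNat 0, Int.negSucc 1, Int.ofNat 2, Int.negSucc 1],
  [Int.ofNat 0, Int.negSucc 1, Int.ofNat 2, Int.ofNat 0, Int.ofNat 0, Int.ofNat 0, Int.ofNat 0, Int.ofNat 0, Int.ofNat 2, Int.ofNat 0, Int.ofNat 0, Int.ofNat 0, Int.ofNat 0, Int.negSucc 1, Int.negSucc 1, Int.negSucc 1, Int.ofNat 0, Int.ofNat 0, Int.ofNat 0, Int.ofNat 0, Int.ofNat 0, Int.negSucc 1, Int.ofNat 0, Int.negSucc 1],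
  [Int.negSucc 0, Int.ofNat 1, Int.negSucc 2, Int.ofNat 1, Int.ofNat 1, Int.ofNat 1, Int.ofNat 1, Int.ofNat 1, Int.ofNat 1, Int.ofNat 1, Int.ofNat 1, Int.negSucc 0, Int.negSucc 0, Int.negSucc 0, Int.negSucc 0, Int.negSucc 0, Int.ofNat 1, Int.ofNat 1, Int.negSucc 0, Int.ofNat 1, Int.ofNat 1, Int.negSucc 0, Int.ofNat 1, Int.ofNat 1],
  [Int.ofNat 1, Int.negSucc 2, Int.ofNat 1, Int.ofNat 1, Int.ofNat 1, Int.ofNat 1, Int.ofNat 1, Int.ofNat 1, Int.ofNat 1, Int.ofNat 1, Int.negSucc 0, Int.negSucc 0, Int.negSucc 0, Int.negSucc 0, Int.negSucc 0, Int.ofNat 1, Int.ofNat 1, Int.negSucc 0, Int.ofNat 1, Int.ofNat 1, Int.negSucc 0, Int.ofNat 1, Int.negSucc 0, Int.ofNat 1],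
  [Int.negSucc 0, Int.negSucc 2, Int.negSucc 0, Int.ofNat 1, Int.ofNat 1, Int.ofNat 1, Int.ofNat 1, Int.negSucc 0, Int.ofNat 1, Int.negSucc 0, Int.ofNat 1, Int.ofNat 1, Int.negSucc 0, Int.negSucc 0, Int.negSucc 0, Int.ofNat 1, Int.ofNat 1, Int.negSucc 0, Int.negSucc 0, Int.ofNat 1, Int.negSucc 0, Int.negSucc 0, Int.negSucc 0, Int.ofNat 1],
  [Int.ofNat 1, Int.ofNat 3, Int.ofNat 1, Int.negSucc 0, Int.negSucc 0, Int.ofNat 1, Int.negSucc 0, Int.negSucc 0, Int.negSucc 0, Int.ofNat 1, Int.ofNat 1, Int.ofNat 1, Int.ofNat 1, Int.ofNat 1, Int.negSucc 0, Int.ofNat 1, Int.negSucc 0, Int.negSucc 0, Int.ofNat 1, Int.ofNat 1, Int.negSucc 0, Int.negSucc 0, Int.negSucc 0, Int.ofNat 1],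
  [Int.ofNat 1, Int.ofNat 1, Int.ofNat 1, Int.negSucc 0, Int.ofNat 3, Int.ofNat 1, Int.negSucc 0, Int.negSucc 0, Int.ofNat 1, Int.negSucc 0, Int.negSucc 0, Int.negSucc 0, Int.ofNat 1, Int.negSucc 0, Int.ofNat 1, Int.ofNat 1, Int.ofNat 1, Int.negSucc 0, Int.negSucc 0, Int.negSucc 0, Int.ofNat 1, Int.negSucc 0, Int.ofNat 1, Int.ofNat 1],
  [Int.negSucc 0, Int.ofNat 1, Int.negSucc 0, Int.negSucc 0, Int.ofNat 3, Int.ofNat 1, Int.negSucc 0, Int.ofNat 1, Int.ofNat 1, Int.ofNat 1, Int.ofNat 1, Int.ofNat 1, Int.ofNat 1, Int.negSucc 0, Int.ofNat 1, Int.ofNat 1, Int.ofNat 1, Int.negSucc 0, Int.ofNat 1, Int.negSucc 0, Int.ofNat 1, Int.ofNat 1, Int.ofNat 1, Int.ofNat 1],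
  [Int.ofNat 1, Int.negSucc 0, Int.ofNat 1, Int.negSucc 0, Int.negSucc 0, Int.ofNat 3, Int.ofNat 1, Int.negSucc 0, Int.ofNat 1, Int.ofNat 1, Int.ofNat 1, Int.ofNat 1, Int.ofNat 1, Int.ofNat 1, Int.negSucc 0, Int.ofNat 1, Int.ofNat 1, Int.ofNat 1, Int.negSucc 0, Int.ofNat 1, Int.negSucc 0, Int.ofNat 1, Int.ofNat 1, Int.ofNat 1],
  [Int.ofNat 0, Int.ofNat 2, Int.ofNat 0, Int.negSucc 1, Int.negSucc 1, Int.ofNat 2, Int.ofNat 0, Int.negSucc 1, Int.ofNat 0, Int.ofNat 0, Int.ofNat 0, Int.ofNat 0, Int.ofNat 0, Int.ofNat 0, Int.negSucc 1, Int.ofNat 0, Int.ofNat 0, Int.ofNat 0, Int.negSucc 1, Int.ofNat 0, Int.negSucc 1, Int.ofNat 0, Int.ofNat 0, Int.ofNat 0],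
  [Int.negSucc 1, Int.negSucc 1, Int.ofNat 2, Int.ofNat 0, Int.negSucc 1, Int.ofNat 0, Int.ofNat 0, Int.ofNat 0, Int.ofNat 0, Int.ofNat 0, Int.ofNat 0, Int.negSucc 1, Int.ofNat 0, Int.ofNat 0, Int.ofNat 0, Int.negSucc 1, Int.ofNat 0, Int.negSucc 1, Int.ofNat 0, Int.ofNat 0, Int.ofNat 0, Int.ofNat 2, Int.ofNat 0, Int.ofNat 0],
  [Int.ofNat 1, Int.ofNat 1, Int.negSucc 2, Int.ofNat 1, Int.negSucc 0, Int.ofNat 1, Int.negSucc 0, Int.negSucc 0, Int.ofNat 1, Int.ofNat 1, Int.ofNat 1, Int.negSucc 0, Int.ofNat 1, Int.ofNat 1, Int.ofNat 1, Int.negSucc 0, Int.ofNat 1, Int.negSucc 0, Int.ofNat 1, Int.negSucc 0, Int.ofNat 1, Int.ofNat 1, Int.ofNat 1, Int.negSucc 0],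
  [Int.ofNat 1, Int.negSucc 0, Int.negSucc 0, Int.ofNat 1, Int.ofNat 1, Int.negSucc 0, Int.negSucc 2, Int.ofNat 1, Int.ofNat 1, Int.ofNat 1, Int.ofNat 1, Int.negSucc 0, Int.ofNat 1, Int.ofNat 1, Int.ofNat 1, Int.negSucc 0, Int.ofNat 1, Int.ofNat 1, Int.ofNat 1, Int.negSucc 0, Int.ofNat 1, Int.ofNat 1, Int.negSucc 0, Int.negSucc 0],
  [Int.negSucc 1, Int.ofNat 0, Int.ofNat 0, Int.ofNat 0, Int.ofNat 0, Int.negSucc 1, Int.negSucc 1, Int.ofNat 2, Int.ofNat 0, Int.ofNat 0, Int.ofNat 0, Int.negSucc 1, Int.ofNat 0, Int.ofNat 0, Int.ofNat 0, Int.negSucc 1, Int.ofNat 0, Int.ofNat 0, Int.ofNat 0, Int.ofNat 0, Int.ofNat 0, Int.ofNat 2, Int.negSucc 1, Int.ofNat 0],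
  [Int.negSucc 1, Int.ofNat 0, Int.ofNat 0, Int.ofNat 0, Int.ofNat 0, Int.ofNat 2, Int.ofNat 2, Int.ofNat 2, Int.ofNat 0, Int.ofNat 0, Int.ofNat 0, Int.negSucc 1, Int.ofNat 0, Int.ofNat 0, Int.ofNat 0, Int.ofNat 2, Int.ofNat 0, Int.ofNat 0, Int.ofNat 0, Int.ofNat 0, Int.ofNat 0, Int.ofNat 2, Int.ofNat 2, Int.ofNat 0],
  [Int.ofNat 0, Int.ofNat 0, Int.negSucc 1, Int.ofNat 0, Int.ofNat 0, Int.ofNat 2, Int.ofNat 2, Int.ofNat 0, Int.ofNat 2, Int.ofNat 0, Int.ofNat 0, Int.ofNat 2, Int.ofNat 2, Int.ofNat 0, Int.ofNat 0, Int.ofNat 0, Int.ofNat 0, Int.ofNat 0, Int.ofNat 0, Int.ofNat 0, Int.negSucc 1, Int.ofNat 0, Int.ofNat 2, Int.ofNat 0],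
  [Int.ofNat 0, Int.ofNat 2, Int.ofNat 2, Int.ofNat 0, Int.ofNat 0, Int.ofNat 0, Int.ofNat 0, Int.ofNat 0, Int.negSucc 1, Int.ofNat 2, Int.ofNat 0, Int.negSucc 1, Int.ofNat 0, Int.ofNat 0, Int.ofNat 0, Int.ofNat 0, Int.ofNat 0, Int.ofNat 0, Int.ofNat 0, Int.ofNat 2, Int.ofNat 2, Int.ofNat 2, Int.ofNat 0, Int.ofNat 0],
  [Int.ofNat 0, Int.ofNat 2, Int.negSucc 1, Int.ofNat 0, Int.ofNat 0, Int.ofNat 0, Int.ofNat 0, Int.ofNat 0, Int.negSucc 1, Int.negSucc 1, Int.ofNat 0, Int.ofNat 2, Int.ofNat 0, Int.ofNat 0, Int.ofNat 0, Int.ofNat 0, Int.ofNat 0, Int.ofNat 0, Int.ofNat 0, Int.ofNat 2, Int.ofNat 2, Int.negSucc 1, Int.ofNat 0, Int.ofNat 0],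
  [Int.ofNat 0, Int.ofNat 0, Int.ofNat 2, Int.negSucc 1, Int.ofNat 0, Int.ofNat 0, Int.ofNat 0, Int.ofNat 0, Int.ofNat 0, Int.negSucc 1, Int.negSucc 1, Int.ofNat 0, Int.ofNat 2, Int.ofNat 0, Int.ofNat 0, Int.ofNat 0, Int.ofNat 0, Int.ofNat 0, Int.ofNat 0, Int.ofNat 0, Int.ofNat 2, Int.ofNat 2, Int.negSucc 1, Int.ofNat 0],
  [Int.ofNat 1, Int.ofNat 1, Int.negSucc 0, Int.negSucc 0, Int.ofNat 1, Int.ofNat 1, Int.negSucc 0, Int.negSucc 0, Int.negSucc 0, Int.negSucc 0, Int.negSucc 0, Int.negSucc 0, Int.ofNat 1, Int.ofNat 1, Int.ofNat 1, Int.ofNat 1, Int.ofNat 1, Int.ofNat 1, Int.negSucc 0, Int.negSucc 0, Int.ofNat 3, Int.ofNat 1, Int.negSucc 0, Int.ofNat 1],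
  [Int.negSucc 0, Int.ofNat 1, Int.ofNat 1, Int.negSucc 0, Int.negSucc 0, Int.negSucc 0, Int.negSucc 0, Int.negSucc 0, Int.negSucc 0, Int.ofNat 1, Int.ofNat 1, Int.ofNat 1, Int.ofNat 1, Int.ofNat 1, Int.ofNat 1, Int.negSucc 0, Int.negSucc 0, Int.ofNat 3, Int.ofNat 1, Int.negSucc 0, Int.ofNat 1, Int.ofNat 1, Int.negSucc 0, Int.ofNat 1],
  [Int.ofNat 2, Int.ofNat 0, Int.ofNat 0, Int.negSucc 1, Int.ofNat 0, Int.negSucc 1, Int.ofNat 0, Int.ofNat 0, Int.negSucc 1, Int.ofNat 0, Int.ofNat 0, Int.ofNat 0, Int.ofNat 0, Int.ofNat 2, Int.ofNat 0, Int.negSucc 1, Int.ofNat 0, Int.ofNat 2, Int.ofNat 0, Int.ofNat 0, Int.ofNat 0, Int.ofNat 2, Int.ofNat 0, Int.ofNat 0],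
  [Int.ofNat 2, Int.ofNat 0, Int.ofNat 0, Int.negSucc 1, Int.ofNat 0, Int.ofNat 0, Int.ofNat 0, Int.ofNat 0, Int.ofNat 0, Int.ofNat 2, Int.ofNat 0, Int.ofNat 2, Int.ofNat 0, Int.ofNat 0, Int.ofNat 0, Int.negSucc 1, Int.negSucc 1, Int.ofNat 0, Int.ofNat 0, Int.ofNat 0, Int.ofNat 2, Int.negSucc 1, Int.ofNat 0, Int.ofNat 0],
  [Int.negSucc 0, Int.ofNat 1, Int.ofNat 1, Int.negSucc 0, Int.ofNat 1, Int.ofNat 1, Int.ofNat 1, Int.ofNat 1, Int.negSucc 0, Int.ofNat 1, Int.negSucc 0, Int.ofNat 1, Int.negSucc 0, Int.ofNat 1, Int.ofNat 1, Int.negSucc 2, Int.negSucc 0, Int.ofNat 1, Int.negSucc 0, Int.ofNat 1, Int.ofNat 1, Int.negSucc 0, Int.ofNat 1, Int.ofNat 1],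
  [Int.negSucc 0, Int.ofNat 1, Int.negSucc 0, Int.negSucc 0, Int.ofNat 1, Int.negSucc 0, Int.negSucc 0, Int.ofNat 1, Int.negSucc 0, Int.negSucc 0, Int.ofNat 1, Int.ofNat 1, Int.negSucc 0, Int.ofNat 1, Int.ofNat 1, Int.ofNat 3, Int.negSucc 0, Int.ofNat 1, Int.ofNat 1, Int.ofNat 1, Int.ofNat 1, Int.negSucc 0, Int.negSucc 0, Int.ofNat 1],
  [Int.ofNat 1, Int.negSucc 0, Int.negSucc 0, Int.negSucc 0, Int.ofNat 1, Int.ofNat 1, Int.negSucc 0, Int.ofNat 3, Int.ofNat 1, Int.negSucc 0, Int.negSucc 0, Int.negSucc 0, Int.negSucc 0, Int.ofNat 1, Int.negSucc 0, Int.ofNat 1, Int.ofNat 1, Int.ofNat 1, Int.ofNat 1, Int.negSucc 0, Int.ofNat 1, Int.negSucc 0, Int.ofNat 1, Int.ofNat 1],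
  [Int.ofNat 1, Int.negSucc 0, Int.ofNat 1, Int.negSucc 0, Int.ofNat 1, Int.negSucc 0, Int.ofNat 1, Int.ofNat 3, Int.ofNat 1, Int.ofNat 1, Int.ofNat 1, Int.negSucc 0, Int.negSucc 0, Int.ofNat 1, Int.negSucc 0, Int.negSucc 0, Int.ofNat 1, Int.ofNat 1, Int.negSucc 0, Int.negSucc 0, Int.ofNat 1, Int.negSucc 0, Int.negSucc 0, Int.ofNat 1],
  [Int.ofNat 0, Int.ofNat 2, Int.ofNat 0, Int.ofNat 0, Int.ofNat 0, Int.ofNat 0, Int.ofNat 0, Int.ofNat 2, Int.ofNat 2, Int.ofNat 0, Int.ofNat 0, Int.ofNat 0, Int.ofNat 0, Int.ofNat 0, Int.ofNat 0, Int.negSucc 1, Int.ofNat 0, Int.ofNat 2, Int.ofNat 0, Int.negSucc 1, Int.ofNat 0, Int.negSucc 1, Int.negSucc 1, Int.ofNat 0],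
  [Int.ofNat 0, Int.ofNat 0, Int.ofNat 0, Int.ofNat 0, Int.ofNat 0, Int.negSucc 1, Int.ofNat 2, Int.ofNat 0, Int.ofNat 0, Int.ofNat 0, Int.ofNat 2, Int.negSucc 1, Int.ofNat 2, Int.ofNat 0, Int.ofNat 2, Int.negSucc 1, Int.ofNat 0, Int.ofNat 0, Int.ofNat 0, Int.negSucc 1, Int.ofNat 0, Int.ofNat 0, Int.ofNat 0, Int.ofNat 0],
  [Int.ofNat 0, Int.ofNat 0, Int.ofNat 0, Int.ofNat 0, Int.ofNat 0, Int.negSucc 1, Int.ofNat 2, Int.ofNat 0, Int.ofNat 0, Int.ofNat 0, Int.ofNat 2, Int.negSucc 1, Int.ofNat 2, Int.ofNat 0, Int.ofNat 2, Int.negSucc 1, Int.ofNat 0, Int.ofNat 0, Int.ofNat 0, Int.negSucc 1, Int.ofNat 0, Int.ofNat 0, Int.ofNat 0, Int.ofNat 0],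
  [Int.ofNat 0, Int.ofNat 0, Int.ofNat 0, Int.ofNat 0, Int.ofNat 0, Int.ofNat 0, Int.ofNat 0, Int.ofNat 0, Int.negSucc 1, Int.ofNat 2, Int.ofNat 0, Int.ofNat 0, Int.ofNat 0, Int.ofNat 2, Int.negSucc 1, Int.ofNat 2, Int.ofNat 0, Int.ofNat 2, Int.negSucc 1, Int.ofNat 0, Int.ofNat 0, Int.ofNat 0, Int.negSucc 1, Int.ofNat 0],
  [Int.ofNat 0, Int.ofNat 0, Int.ofNat 0, Int.ofNat 0, Int.ofNat 0, Int.ofNat 0, Int.ofNat 0, Int.ofNat 0, Int.ofNat 0, Int.ofNat 0, Int.negSucc 1, Int.ofNat 2, Int.ofNat 2, Int.ofNat 2, Int.negSucc 1, Int.ofNat 0, Int.ofNat 0, Int.ofNat 2, Int.ofNat 0, Int.ofNat 0, Int.negSucc 1, Int.ofNat 0, Int.negSucc 1, Int.ofNat 0],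
  [Int.ofNat 0, Int.ofNat 0, Int.ofNat 0, Int.ofNat 0, Int.ofNat 0, Int.ofNat 0, Int.ofNat 0, Int.ofNat 0, Int.ofNat 0, Int.negSucc 1, Int.ofNat 2, Int.ofNat 2, Int.ofNat 2, Int.negSucc 1, Int.ofNat 0, Int.ofNat 0, Int.ofNat 2, Int.ofNat 0, Int.ofNat 0, Int.negSucc 1, Int.ofNat 0, Int.negSucc 1, Int.ofNat 0, Int.ofNat 0],
  [Int.ofNat 0, Int.ofNat 0, Int.ofNat 0, Int.ofNat 0, Int.ofNat 0, Int.ofNat 0, Int.ofNat 0, Int.ofNat 0, Int.ofNat 0, Int.ofNat 2, Int.negSucc 1, Int.negSucc 1, Int.ofNat 2, Int.negSucc 1, Int.ofNat 0, Int.ofNat 0, Int.ofNat 2, Int.ofNat 0, Int.ofNat 0, Int.negSucc 1, Int.ofNat 0, Int.ofNat 2, Int.ofNat 0, Int.ofNat 0],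
  [Int.ofNat 0, Int.ofNat 0, Int.ofNat 0, Int.ofNat 0, Int.ofNat 0, Int.ofNat 0, Int.ofNat 0, Int.ofNat 0, Int.ofNat 0, Int.negSucc 1, Int.negSucc 1, Int.negSucc 1, Int.negSucc 1, Int.ofNat 2, Int.ofNat 0, Int.ofNat 0, Int.negSucc 1, Int.ofNat 0, Int.ofNat 0, Int.negSucc 1, Int.ofNat 0, Int.ofNat 2, Int.ofNat 0, Int.ofNat 0],
  [Int.ofNat 0, Int.ofNat 0, Int.ofNat 0, Int.ofNat 0, Int.ofNat 0, Int.negSucc 1, Int.ofNat 0, Int.ofNat 0, Int.negSucc 1, Int.negSucc 1, Int.ofNat 2, Int.ofNat 0, Int.ofNat 2, Int.ofNat 0, Int.negSucc 1, Int.ofNat 0, Int.negSucc 1, Int.ofNat 0, Int.ofNat 0, Int.ofNat 0, Int.ofNat 0, Int.ofNat 0, Int.negSucc 1, Int.ofNat 0],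
  [Int.ofNat 0, Int.ofNat 0, Int.ofNat 0, Int.ofNat 0, Int.ofNat 0, Int.negSucc 1, Int.ofNat 0, Int.ofNat 0, Int.negSucc 1, Int.ofNat 2, Int.negSucc 1, Int.ofNat 0, Int.ofNat 2, Int.ofNat 0, Int.negSucc 1, Int.ofNat 0, Int.negSucc 1, Int.ofNat 0, Int.ofNat 0, Int.ofNat 0, Int.ofNat 0, Int.ofNat 0, Int.negSucc 1, Int.ofNat 0],
  [Int.negSucc 1, Int.ofNat 0, Int.ofNat 0, Int.ofNat 0, Int.ofNat 0, Int.ofNat 0, Int.negSucc 1, Int.ofNat 0, Int.ofNat 0, Int.negSucc 1, Int.ofNat 2, Int.negSucc 1, Int.ofNat 0, Int.ofNat 2, Int.ofNat 0, Int.negSucc 1, Int.ofNat 0, Int.negSucc 1, Int.ofNat 0, Int.ofNat 0, Int.ofNat 0, Int.ofNat 0, Int.ofNat 0, Int.ofNat 0],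
  [Int.ofNat 1, Int.negSucc 0, Int.negSucc 0, Int.ofNat 1, Int.negSucc 0, Int.ofNat 1, Int.negSucc 0, Int.ofNat 1, Int.ofNat 1, Int.negSucc 0, Int.ofNat 3, Int.negSucc 0, Int.ofNat 1, Int.ofNat 1, Int.ofNat 1, Int.negSucc 0, Int.negSucc 0, Int.negSucc 0, Int.ofNat 1, Int.ofNat 1, Int.ofNat 1, Int.ofNat 1, Int.negSucc 0, Int.negSucc 0],
  [Int.ofNat 1, Int.negSucc 0, Int.ofNat 1, Int.negSucc 0, Int.ofNat 1, Int.ofNat 1, Int.negSucc 0, Int.ofNat 3, Int.negSucc 0, Int.ofNat 1, Int.ofNat 1, Int.ofNat 1, Int.negSucc 0, Int.negSucc 0, Int.negSucc 0, Int.ofNat 1, Int.ofNat 1, Int.ofNat 1, Int.ofNat 1, Int.negSucc 0, Int.ofNat 1, Int.negSucc 0, Int.negSucc 0, Int.negSucc 0],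
  [Int.negSucc 0, Int.ofNat 1, Int.negSucc 0, Int.negSucc 0, Int.ofNat 1, Int.ofNat 1, Int.negSucc 0, Int.ofNat 3, Int.negSucc 0, Int.negSucc 0, Int.negSucc 0, Int.ofNat 1, Int.negSucc 0, Int.negSucc 0, Int.negSucc 0, Int.negSucc 0, Int.ofNat 1, Int.ofNat 1, Int.ofNat 1, Int.negSucc 0, Int.negSucc 0, Int.negSucc 0, Int.negSucc 0, Int.ofNat 1],
  [Int.negSucc 0, Int.negSucc 0, Int.ofNat 1, Int.negSucc 0, Int.ofNat 1, Int.ofNat 3, Int.negSucc 0, Int.negSucc 0, Int.negSucc 0, Int.negSucc 0, Int.negSucc 0, Int.ofNat 1, Int.negSucc 0, Int.ofNat 1, Int.negSucc 0, Int.negSucc 0, Int.negSucc 0, Int.negSucc 0, Int.ofNat 1, Int.ofNat 1, Int.negSucc 0, Int.ofNat 1, Int.negSucc 0, Int.ofNat 1],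
  [Int.ofNat 1, Int.ofNat 1, Int.negSucc 0, Int.negSucc 0, Int.ofNat 1, Int.ofNat 3, Int.negSucc 0, Int.negSucc 0, Int.negSucc 0, Int.ofNat 1, Int.ofNat 1, Int.ofNat 1, Int.negSucc 0, Int.ofNat 1, Int.negSucc 0, Int.ofNat 1, Int.negSucc 0, Int.negSucc 0, Int.ofNat 1, Int.ofNat 1, Int.ofNat 1, Int.ofNat 1, Int.negSucc 0, Int.negSucc 0],
  [Int.ofNat 1, Int.ofNat 1, Int.ofNat 1, Int.negSucc 0, Int.ofNat 1, Int.negSucc 2, Int.ofNat 1, Int.negSucc 0, Int.negSucc 0, Int.negSucc 0, Int.negSucc 0, Int.ofNat 1, Int.negSucc 0, Int.ofNat 1, Int.negSucc 0, Int.negSucc 0, Int.negSucc 0, Int.negSucc 0, Int.negSucc 0, Int.ofNat 1, Int.ofNat 1, Int.ofNat 1, Int.ofNat 1, Int.negSucc 0],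
  [Int.negSucc 0, Int.negSucc 0, Int.ofNat 1, Int.negSucc 0, Int.negSucc 0, Int.ofNat 1, Int.ofNat 1, Int.negSucc 0, Int.negSucc 2, Int.ofNat 1, Int.ofNat 1, Int.negSucc 0, Int.negSucc 0, Int.ofNat 1, Int.negSucc 0, Int.negSucc 0, Int.ofNat 1, Int.negSucc 0, Int.negSucc 0, Int.ofNat 1, Int.ofNat 1, Int.ofNat 1, Int.ofNat 1, Int.negSucc 0],
  [Int.negSucc 0, Int.ofNat 1, Int.negSucc 0, Int.negSucc 0, Int.negSucc 0, Int.ofNat 1, Int.ofNat 1, Int.ofNat 1, Int.ofNat 1, Int.ofNat 1, Int.ofNat 1, Int.ofNat 1, Int.ofNat 1, Int.negSucc 0, Int.negSucc 0, Int.negSucc 0, Int.ofNat 1, Int.negSucc 0, Int.negSucc 0, Int.ofNat 1, Int.negSucc 2, Int.negSucc 0, Int.negSucc 0, Int.negSucc 0],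
  [Int.ofNat 1, Int.ofNat 1, Int.ofNat 1, Int.negSucc 0, Int.negSucc 0, Int.ofNat 1, Int.ofNat 1, Int.negSucc 0, Int.ofNat 1, Int.negSucc 0, Int.negSucc 0, Int.negSucc 0, Int.ofNat 1, Int.negSucc 0, Int.negSucc 0, Int.negSucc 0, Int.ofNat 1, Int.negSucc 0, Int.ofNat 1, Int.ofNat 1, Int.negSucc 2, Int.ofNat 1, Int.negSucc 0, Int.negSucc 0],
  [Int.negSucc 0, Int.ofNat 1, Int.ofNat 1, Int.ofNat 1, Int.negSucc 0, Int.negSucc 0, Int.ofNat 1, Int.ofNat 1, Int.negSucc 0, Int.ofNat 1, Int.negSucc 0, Int.negSucc 0, Int.negSucc 0, Int.ofNat 1, Int.negSucc 0, Int.negSucc 0, Int.negSucc 0, Int.ofNat 1, Int.negSucc 0, Int.ofNat 1, Int.ofNat 1, Int.negSucc 2, Int.ofNat 1, Int.negSucc 0],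
  [Int.ofNat 1, Int.negSucc 0, Int.negSucc 0, Int.ofNat 1, Int.negSucc 0, Int.negSucc 0, Int.ofNat 1, Int.ofNat 1, Int.ofNat 1, Int.ofNat 1, Int.negSucc 0, Int.ofNat 1, Int.ofNat 1, Int.ofNat 1, Int.negSucc 0, Int.negSucc 0, Int.negSucc 0, Int.ofNat 1, Int.ofNat 1, Int.ofNat 1, Int.ofNat 1, Int.negSucc 2, Int.ofNat 1, Int.ofNat 1],
  [Int.ofNat 1, Int.negSucc 0, Int.negSucc 0, Int.ofNat 1, Int.ofNat 1, Int.ofNat 1, Int.ofNat 1, Int.negSucc 0, Int.ofNat 1, Int.ofNat 1, Int.ofNat 1, Int.negSucc 0, Int.negSucc 0, Int.negSucc 0, Int.ofNat 1, Int.ofNat 1, Int.ofNat 1, Int.ofNat 1, Int.negSucc 2, Int.ofNat 1, Int.ofNat 1, Int.negSucc 0, Int.negSucc 0, Int.ofNat 1],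
  [Int.negSucc 0, Int.ofNat 1, Int.ofNat 1, Int.negSucc 0, Int.ofNat 1, Int.negSucc 0, Int.ofNat 1, Int.negSucc 0, Int.ofNat 3, Int.negSucc 0, Int.negSucc 0, Int.ofNat 1, Int.ofNat 1, Int.negSucc 0, Int.negSucc 0, Int.negSucc 0, Int.ofNat 1, Int.negSucc 0, Int.negSucc 0, Int.ofNat 1, Int.negSucc 0, Int.negSucc 0, Int.negSucc 0, Int.negSucc 0],
  [Int.negSucc 0, Int.ofNat 1, Int.ofNat 1, Int.negSucc 0, Int.negSucc 0, Int.negSucc 0, Int.ofNat 1, Int.negSucc 0, Int.ofNat 1, Int.negSucc 0, Int.negSucc 0, Int.negSucc 0, Int.negSucc 0, Int.ofNat 1, Int.negSucc 0, Int.negSucc 0, Int.ofNat 3, Int.negSucc 0, Int.ofNat 1, Int.ofNat 1, Int.negSucc 0, Int.negSucc 0, Int.ofNat 1, Int.negSucc 0],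
  [Int.ofNat 1, Int.negSucc 0, Int.negSucc 0, Int.ofNat 1, Int.negSucc 2, Int.ofNat 1, Int.ofNat 1, Int.negSucc 0, Int.ofNat 1, Int.ofNat 1, Int.ofNat 1, Int.negSucc 0, Int.negSucc 0, Int.negSucc 0, Int.ofNat 1, Int.ofNat 1, Int.ofNat 1, Int.ofNat 1, Int.ofNat 1, Int.ofNat 1, Int.ofNat 1, Int.negSucc 0, Int.negSucc 0, Int.ofNat 1],
  [Int.ofNat 1, Int.negSucc 0, Int.ofNat 1, Int.ofNat 1, Int.negSucc 2, Int.negSucc 0, Int.negSucc 0, Int.negSucc 0, Int.ofNat 1, Int.negSucc 0, Int.negSucc 0, Int.negSucc 0, Int.negSucc 0, Int.negSucc 0, Int.ofNat 1, Int.negSucc 0, Int.ofNat 1, Int.ofNat 1, Int.negSucc 0, Int.ofNat 1, Int.ofNat 1, Int.negSucc 0, Int.ofNat 1, Int.ofNat 1],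
  [Int.negSucc 0, Int.ofNat 1, Int.ofNat 1, Int.negSucc 0, Int.ofNat 1, Int.ofNat 1, Int.negSucc 0, Int.negSucc 0, Int.ofNat 1, Int.ofNat 1, Int.ofNat 1, Int.ofNat 1, Int.negSucc 0, Int.negSucc 0, Int.negSucc 0, Int.negSucc 2, Int.negSucc 0, Int.negSucc 0, Int.ofNat 1, Int.negSucc 0, Int.negSucc 0, Int.ofNat 1, Int.negSucc 0, Int.ofNat 1],
  [Int.negSucc 0, Int.ofNat 1, Int.negSucc 0, Int.negSucc 0, Int.ofNat 1, Int.negSucc 0, Int.ofNat 1, Int.negSucc 0, Int.ofNat 1, Int.negSucc 0, Int.negSucc 0, Int.ofNat 1, Int.negSucc 0, Int.negSucc 0, Int.negSucc 0, Int.ofNat 3, Int.negSucc 0, Int.negSucc 0, Int.negSucc 0, Int.negSucc 0, Int.negSucc 0, Int.ofNat 1, Int.ofNat 1, Int.ofNat 1],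
  [Int.ofNat 1, Int.negSucc 0, Int.ofNat 1, Int.ofNat 1, Int.ofNat 1, Int.ofNat 1, Int.ofNat 1, Int.negSucc 0, Int.ofNat 1, Int.negSucc 0, Int.negSucc 0, Int.ofNat 1, Int.negSucc 0, Int.negSucc 0, Int.ofNat 1, Int.ofNat 3, Int.negSucc 0, Int.ofNat 1, Int.negSucc 0, Int.negSucc 0, Int.negSucc 0, Int.ofNat 1, Int.ofNat 1, Int.negSucc 0],
  [Int.ofNat 1, Int.negSucc 0, Int.ofNat 1, Int.ofNat 1, Int.ofNat 1, Int.ofNat 1, Int.negSucc 0, Int.ofNat 1, Int.negSucc 0, Int.negSucc 0, Int.negSucc 0, Int.negSucc 0, Int.ofNat 1, Int.negSucc 0, Int.ofNat 1, Int.ofNat 3, Int.negSucc 0, Int.ofNat 1, Int.ofNat 1, Int.ofNat 1, Int.negSucc 0, Int.negSucc 0, Int.ofNat 1, Int.negSucc 0],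
  [Int.negSucc 0, Int.ofNat 1, Int.negSucc 0, Int.negSucc 0, Int.ofNat 1, Int.negSucc 0, Int.negSucc 0, Int.ofNat 1, Int.negSucc 0, Int.negSucc 0, Int.negSucc 0, Int.negSucc 0, Int.ofNat 1, Int.negSucc 0, Int.negSucc 0, Int.ofNat 3, Int.negSucc 0, Int.negSucc 0, Int.ofNat 1, Int.ofNat 1, Int.negSucc 0, Int.negSucc 0, Int.ofNat 1, Int.ofNat 1],
  [Int.negSucc 0, Int.negSucc 0, Int.ofNat 1, Int.negSucc 0, Int.ofNat 1, Int.negSucc 0, Int.negSucc 0, Int.ofNat 1, Int.negSucc 0, Int.negSucc 0, Int.ofNat 1, Int.negSucc 0, Int.negSucc 0, Int.negSucc 0, Int.negSucc 0, Int.ofNat 1, Int.negSucc 0, Int.negSucc 0, Int.ofNat 3, Int.negSucc 0, Int.negSucc 0, Int.ofNat 1, Int.ofNat 1, Int.ofNat 1],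
  [Int.ofNat 1, Int.ofNat 1, Int.negSucc 0, Int.ofNat 1, Int.ofNat 1, Int.ofNat 1, Int.negSucc 0, Int.ofNat 1, Int.negSucc 0, Int.negSucc 0, Int.ofNat 1, Int.negSucc 0, Int.negSucc 0, Int.negSucc 0, Int.ofNat 1, Int.ofNat 1, Int.negSucc 0, Int.ofNat 1, Int.ofNat 3, Int.negSucc 0, Int.negSucc 0, Int.ofNat 1, Int.ofNat 1, Int.negSucc 0],
  [Int.ofNat 1, Int.negSucc 0, Int.ofNat 1, Int.ofNat 1, Int.ofNat 1, Int.negSucc 0, Int.ofNat 1, Int.negSucc 0, Int.negSucc 0, Int.ofNat 1, Int.negSucc 0, Int.negSucc 0, Int.negSucc 0, Int.ofNat 1, Int.ofNat 1, Int.negSucc 0, Int.ofNat 1, Int.ofNat 3, Int.negSucc 0, Int.negSucc 0, Int.ofNat 1, Int.ofNat 1, Int.ofNat 1, Int.negSucc 0],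
  [Int.negSucc 0, Int.negSucc 0, Int.negSucc 0, Int.ofNat 1, Int.ofNat 1, Int.negSucc 0, Int.ofNat 1, Int.ofNat 1, Int.negSucc 0, Int.negSucc 0, Int.ofNat 1, Int.ofNat 1, Int.negSucc 0, Int.ofNat 1, Int.ofNat 1, Int.negSucc 0, Int.ofNat 1, Int.ofNat 3, Int.ofNat 1, Int.negSucc 0, Int.ofNat 1, Int.negSucc 0, Int.ofNat 1, Int.negSucc 0],
  [Int.ofNat 1, Int.ofNat 1, Int.ofNat 1, Int.negSucc 0, Int.negSucc 0, Int.negSucc 0, Int.negSucc 0, Int.ofNat 1, Int.ofNat 1, Int.ofNat 1, Int.ofNat 1, Int.ofNat 1, Int.ofNat 1, Int.negSucc 0, Int.ofNat 1, Int.negSucc 0, Int.negSucc 0, Int.ofNat 3, Int.negSucc 0, Int.negSucc 0, Int.ofNat 1, Int.negSucc 0, Int.ofNat 1, Int.negSucc 0],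
  [Int.ofNat 1, Int.ofNat 1, Int.negSucc 0, Int.negSucc 0, Int.ofNat 1, Int.ofNat 1, Int.negSucc 0, Int.ofNat 1, Int.ofNat 1, Int.negSucc 0, Int.negSucc 0, Int.ofNat 1, Int.negSucc 0, Int.ofNat 1, Int.negSucc 0, Int.negSucc 0, Int.ofNat 1, Int.ofNat 1, Int.negSucc 0, Int.ofNat 3, Int.negSucc 0, Int.ofNat 1, Int.ofNat 1, Int.negSucc 0],
  [Int.negSucc 0, Int.ofNat 1, Int.ofNat 1, Int.negSucc 0, Int.ofNat 1, Int.ofNat 1, Int.negSucc 0, Int.negSucc 0, Int.ofNat 1, Int.ofNat 1, Int.ofNat 1, Int.negSucc 0, Int.negSucc 0, Int.ofNat 1, Int.negSucc 0, Int.negSucc 0, Int.ofNat 1, Int.ofNat 1, Int.ofNat 1, Int.ofNat 3, Int.negSucc 0, Int.negSucc 0, Int.ofNat 1, Int.negSucc 0],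
  [Int.ofNat 1, Int.negSucc 0, Int.ofNat 1, Int.ofNat 1, Int.negSucc 0, Int.ofNat 1, Int.ofNat 1, Int.negSucc 0, Int.negSucc 0, Int.ofNat 1, Int.ofNat 1, Int.ofNat 1, Int.negSucc 0, Int.negSucc 0, Int.ofNat 1, Int.negSucc 0, Int.negSucc 0, Int.ofNat 1, Int.ofNat 1, Int.ofNat 1, Int.ofNat 3, Int.negSucc 0, Int.negSucc 0, Int.negSucc 0],
  [Int.negSucc 0, Int.ofNat 1, Int.negSucc 0, Int.negSucc 0, Int.ofNat 1, Int.negSucc 0, Int.ofNat 1, Int.negSucc 0, Int.negSucc 0, Int.negSucc 0, Int.negSucc 0, Int.ofNat 1, Int.negSucc 0, Int.ofNat 1, Int.negSucc 0, Int.negSucc 2, Int.ofNat 1, Int.negSucc 0, Int.ofNat 1, Int.ofNat 1, Int.ofNat 1, Int.negSucc 0, Int.ofNat 1, Int.ofNat 1],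
  [Int.negSucc 0, Int.ofNat 1, Int.negSucc 0, Int.ofNat 1, Int.negSucc 0, Int.negSucc 0, Int.negSucc 0, Int.negSucc 0, Int.ofNat 1, Int.negSucc 0, Int.ofNat 1, Int.negSucc 0, Int.negSucc 2, Int.ofNat 1, Int.negSucc 0, Int.ofNat 1, Int.ofNat 1, Int.ofNat 1, Int.negSucc 0, Int.ofNat 1, Int.negSucc 0, Int.ofNat 1, Int.negSucc 0, Int.ofNat 1],
  [Int.ofNat 1, Int.negSucc 0, Int.ofNat 1, Int.ofNat 1, Int.negSucc 0, Int.negSucc 0, Int.negSucc 0, Int.negSucc 0, Int.ofNat 3, Int.negSucc 0, Int.ofNat 1, Int.ofNat 1, Int.negSucc 0, Int.ofNat 1, Int.negSucc 0, Int.ofNat 1, Int.ofNat 1, Int.ofNat 1, Int.ofNat 1, Int.ofNat 1, Int.negSucc 0, Int.ofNat 1, Int.negSucc 0, Int.negSucc 0],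
  [Int.ofNat 1, Int.negSucc 0, Int.negSucc 0, Int.ofNat 1, Int.ofNat 1, Int.negSucc 0, Int.ofNat 1, Int.ofNat 1, Int.negSucc 0, Int.ofNat 1, Int.negSucc 0, Int.ofNat 1, Int.negSucc 0, Int.ofNat 1, Int.negSucc 0, Int.ofNat 1, Int.ofNat 3, Int.negSucc 0, Int.negSucc 0, Int.ofNat 1, Int.ofNat 1, Int.negSucc 0, Int.ofNat 1, Int.negSucc 0],
  [Int.negSucc 1, Int.ofNat 0, Int.ofNat 0, Int.ofNat 2, Int.negSucc 1, Int.ofNat 0, Int.ofNat 0, Int.ofNat 0, Int.ofNat 0, Int.ofNat 0, Int.negSucc 1, Int.ofNat 2, Int.ofNat 0, Int.negSucc 1, Int.ofNat 0, Int.ofNat 0, Int.ofNat 0, Int.ofNat 0, Int.ofNat 0, Int.ofNat 0, Int.ofNat 0, Int.negSucc 1, Int.negSucc 1, Int.ofNat 0],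
  [Int.negSucc 1, Int.ofNat 0, Int.ofNat 0, Int.ofNat 2, Int.negSucc 1, Int.ofNat 0, Int.ofNat 0, Int.ofNat 0, Int.ofNat 0, Int.ofNat 0, Int.ofNat 2, Int.ofNat 2, Int.ofNat 0, Int.negSucc 1, Int.ofNat 0, Int.ofNat 0, Int.ofNat 0, Int.ofNat 0, Int.ofNat 0, Int.ofNat 0, Int.ofNat 0, Int.negSucc 1, Int.ofNat 2, Int.ofNat 0],
  [Int.ofNat 2, Int.ofNat 0, Int.ofNat 2, Int.ofNat 0, Int.ofNat 0, Int.ofNat 0, Int.negSucc 1, Int.ofNat 2, Int.ofNat 0, Int.ofNat 0, Int.negSucc 1, Int.ofNat 0, Int.ofNat 0, Int.negSucc 1, Int.ofNat 0, Int.ofNat 0, Int.ofNat 0, Int.ofNat 0, Int.ofNat 0, Int.ofNat 0, Int.negSucc 1, Int.ofNat 0, Int.ofNat 2, Int.ofNat 0],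
  [Int.ofNat 0, Int.ofNat 2, Int.ofNat 0, Int.ofNat 0, Int.ofNat 0, Int.ofNat 0, Int.ofNat 0, Int.negSucc 1, Int.negSucc 1, Int.ofNat 0, Int.ofNat 0, Int.ofNat 2, Int.ofNat 0, Int.ofNat 2, Int.ofNat 0, Int.ofNat 0, Int.negSucc 1, Int.ofNat 0, Int.ofNat 0, Int.negSucc 1, Int.ofNat 0, Int.ofNat 0, Int.ofNat 0, Int.ofNat 2],
  [Int.ofNat 0, Int.ofNat 2, Int.ofNat 0, Int.ofNat 0, Int.ofNat 0, Int.ofNat 0, Int.ofNat 0, Int.ofNat 2, Int.negSucc 1, Int.ofNat 0, Int.ofNat 0, Int.negSucc 1, Int.ofNat 0, Int.ofNat 2, Int.ofNat 0, Int.ofNat 0, Int.negSucc 1, Int.ofNat 0, Int.ofNat 0, Int.negSucc 1, Int.ofNat 0, Int.ofNat 0, Int.ofNat 0, Int.ofNat 2],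
  [Int.ofNat 0, Int.ofNat 0, Int.ofNat 2, Int.ofNat 0, Int.ofNat 0, Int.ofNat 0, Int.ofNat 0, Int.ofNat 0, Int.ofNat 2, Int.negSucc 1, Int.ofNat 0, Int.ofNat 0, Int.negSucc 1, Int.ofNat 0, Int.ofNat 2, Int.ofNat 0, Int.ofNat 0, Int.negSucc 1, Int.ofNat 0, Int.ofNat 0, Int.negSucc 1, Int.ofNat 0, Int.ofNat 0, Int.ofNat 2],
  [Int.ofNat 2, Int.ofNat 2, Int.ofNat 0, Int.ofNat 0, Int.ofNat 0, Int.ofNat 0, Int.ofNat 0, Int.ofNat 0, Int.ofNat 2, Int.ofNat 0, Int.ofNat 2, Int.ofNat 0, Int.negSucc 1, Int.ofNat 0, Int.ofNat 2, Int.ofNat 2, Int.ofNat 0, Int.negSucc 1, Int.ofNat 0, Int.ofNat 0, Int.ofNat 0, Int.ofNat 0, Int.ofNat 0, Int.ofNat 0],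
  [Int.ofNat 0, Int.ofNat 0, Int.ofNat 0, Int.ofNat 0, Int.ofNat 0, Int.ofNat 2, Int.ofNat 0, Int.ofNat 2, Int.ofNat 0, Int.negSucc 1, Int.ofNat 0, Int.ofNat 2, Int.ofNat 2, Int.ofNat 0, Int.negSucc 1, Int.ofNat 0, Int.ofNat 0, Int.ofNat 0, Int.ofNat 0, Int.ofNat 0, Int.ofNat 2, Int.ofNat 2, Int.ofNat 0, Int.ofNat 0],
  [Int.ofNat 0, Int.ofNat 0, Int.ofNat 0, Int.ofNat 0, Int.ofNat 0, Int.ofNat 2, Int.negSucc 1, Int.ofNat 0, Int.negSucc 1, Int.negSucc 1, Int.ofNat 0, Int.ofNat 0, Int.ofNat 0, Int.ofNat 0, Int.negSucc 1, Int.ofNat 0, Int.ofNat 0, Int.ofNat 0, Int.negSucc 1, Int.negSucc 1, Int.ofNat 2, Int.ofNat 0, Int.ofNat 0, Int.ofNat 0],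
  [Int.ofNat 0, Int.negSucc 1, Int.ofNat 0, Int.ofNat 0, Int.negSucc 1, Int.ofNat 0, Int.ofNat 0, Int.ofNat 0, Int.ofNat 0, Int.ofNat 0, Int.ofNat 2, Int.ofNat 0, Int.negSucc 1, Int.ofNat 0, Int.ofNat 0, Int.ofNat 0, Int.negSucc 1, Int.negSucc 1, Int.ofNat 0, Int.ofNat 0, Int.ofNat 0, Int.ofNat 2, Int.negSucc 1, Int.ofNat 0],
  [Int.negSucc 0, Int.ofNat 1, Int.negSucc 0, Int.ofNat 1, Int.ofNat 1, Int.ofNat 1, Int.negSucc 0, Int.negSucc 0, Int.ofNat 1, Int.negSucc 0, Int.ofNat 1, Int.ofNat 1, Int.negSucc 0, Int.ofNat 3, Int.ofNat 1, Int.negSucc 0, Int.ofNat 1, Int.negSucc 0, Int.ofNat 1, Int.negSucc 0, Int.negSucc 0, Int.ofNat 1, Int.ofNat 1, Int.negSucc 0],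
  [Int.negSucc 0, Int.ofNat 1, Int.ofNat 1, Int.ofNat 1, Int.ofNat 1, Int.negSucc 0, Int.ofNat 1, Int.negSucc 0, Int.ofNat 1, Int.ofNat 1, Int.negSucc 0, Int.ofNat 1, Int.negSucc 0, Int.ofNat 3, Int.ofNat 1, Int.ofNat 1, Int.ofNat 1, Int.negSucc 0, Int.negSucc 0, Int.negSucc 0, Int.negSucc 0, Int.ofNat 1, Int.negSucc 0, Int.negSucc 0],
  [Int.ofNat 1, Int.negSucc 0, Int.negSucc 0, Int.negSucc 0, Int.negSucc 0, Int.negSucc 0, Int.ofNat 1, Int.ofNat 1, Int.ofNat 1, Int.ofNat 1, Int.ofNat 1, Int.ofNat 1, Int.ofNat 1, Int.negSucc 0, Int.ofNat 1, Int.ofNat 1, Int.ofNat 1, Int.negSucc 0, Int.negSucc 0, Int.negSucc 0, Int.ofNat 3, Int.ofNat 1, Int.negSucc 0, Int.negSucc 0],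
  [Int.ofNat 1, Int.negSucc 0, Int.ofNat 1, Int.negSucc 0, Int.negSucc 0, Int.ofNat 1, Int.negSucc 0, Int.ofNat 1, Int.ofNat 1, Int.negSucc 0, Int.negSucc 0, Int.ofNat 1, Int.ofNat 1, Int.negSucc 0, Int.ofNat 1, Int.negSucc 0, Int.ofNat 1, Int.negSucc 0, Int.ofNat 1, Int.negSucc 0, Int.ofNat 3, Int.ofNat 1, Int.ofNat 1, Int.negSucc 0],
  [Int.negSucc 0, Int.ofNat 1, Int.negSucc 0, Int.negSucc 0, Int.negSucc 0, Int.ofNat 1, Int.negSucc 0, Int.ofNat 1, Int.negSucc 0, Int.negSucc 0, Int.negSucc 0, Int.negSucc 0, Int.negSucc 0, Int.negSucc 0, Int.ofNat 1, Int.negSucc 0, Int.ofNat 1, Int.negSucc 0, Int.negSucc 0, Int.negSucc 0, Int.ofNat 3, Int.ofNat 1, Int.ofNat 1, Int.ofNat 1],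
  [Int.negSucc 0, Int.negSucc 0, Int.negSucc 0, Int.negSucc 0, Int.negSucc 0, Int.ofNat 1, Int.ofNat 1, Int.ofNat 1, Int.ofNat 1, Int.negSucc 0, Int.ofNat 1, Int.negSucc 0, Int.negSucc 0, Int.negSucc 0, Int.negSucc 0, Int.negSucc 0, Int.negSucc 0, Int.negSucc 0, Int.negSucc 0, Int.ofNat 1, Int.negSucc 0, Int.ofNat 3, Int.ofNat 1, Int.ofNat 1],
  [Int.ofNat 0, Int.ofNat 0, Int.ofNat 0, Int.ofNat 0, Int.ofNat 0, Int.ofNat 2, Int.negSucc 1, Int.negSucc 1, Int.ofNat 2, Int.ofNat 0, Int.ofNat 2, Int.ofNat 0, Int.ofNat 0, Int.ofNat 0, Int.ofNat 0, Int.ofNat 0, Int.ofNat 0, Int.ofNat 0, Int.ofNat 0, Int.negSucc 1, Int.ofNat 0, Int.ofNat 0, Int.ofNat 2, Int.negSucc 1],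
  [Int.ofNat 0, Int.ofNat 0, Int.ofNat 2, Int.ofNat 0, Int.ofNat 0, Int.ofNat 0, Int.ofNat 0, Int.ofNat 0, Int.ofNat 2, Int.negSucc 1, Int.negSucc 1, Int.ofNat 2, Int.ofNat 0, Int.ofNat 2, Int.ofNat 0, Int.ofNat 0, Int.ofNat 0, Int.ofNat 0, Int.ofNat 0, Int.ofNat 0, Int.ofNat 0, Int.ofNat 0, Int.negSucc 1, Int.negSucc 1],
  [Int.ofNat 0, Int.ofNat 0, Int.negSucc 1, Int.ofNat 0, Int.ofNat 0, Int.ofNat 0, Int.ofNat 0, Int.ofNat 0, Int.ofNat 0, Int.ofNat 0, Int.ofNat 0, Int.ofNat 0, Int.negSucc 1, Int.ofNat 2, Int.ofNat 0, Int.ofNat 2, Int.ofNat 0, Int.ofNat 0, Int.negSucc 1, Int.ofNat 0, Int.ofNat 2, Int.ofNat 0, Int.negSucc 1, Int.ofNat 2],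
  [Int.ofNat 0, Int.negSucc 1, Int.ofNat 0, Int.ofNat 0, Int.ofNat 0, Int.ofNat 0, Int.ofNat 0, Int.ofNat 0, Int.ofNat 0, Int.ofNat 0, Int.ofNat 0, Int.negSucc 1, Int.ofNat 2, Int.ofNat 0, Int.ofNat 2, Int.ofNat 0, Int.ofNat 0, Int.negSucc 1, Int.ofNat 0, Int.ofNat 2, Int.ofNat 0, Int.negSucc 1, Int.ofNat 0, Int.ofNat 2],
  [Int.ofNat 0, Int.negSucc 1, Int.ofNat 0, Int.ofNat 0, Int.ofNat 0, Int.ofNat 0, Int.ofNat 0, Int.ofNat 0, Int.ofNat 0, Int.ofNat 0, Int.ofNat 0, Int.ofNat 2, Int.ofNat 2, Int.ofNat 0, Int.ofNat 2, Int.ofNat 0, Int.ofNat 0, Int.negSucc 1, Int.ofNat 0, Int.ofNat 2, Int.ofNat 0, Int.ofNat 2, Int.ofNat 0, Int.ofNat 2],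
  [Int.ofNat 0, Int.ofNat 2, Int.ofNat 0, Int.ofNat 0, Int.ofNat 0, Int.ofNat 0, Int.ofNat 0, Int.ofNat 0, Int.ofNat 0, Int.ofNat 0, Int.ofNat 0, Int.ofNat 2, Int.negSucc 1, Int.ofNat 0, Int.ofNat 2, Int.ofNat 0, Int.ofNat 0, Int.negSucc 1, Int.ofNat 0, Int.ofNat 2, Int.ofNat 0, Int.ofNat 2, Int.ofNat 0, Int.ofNat 2],
  [Int.ofNat 0, Int.ofNat 0, Int.ofNat 0, Int.ofNat 0, Int.ofNat 2, Int.ofNat 0, Int.ofNat 0, Int.ofNat 0, Int.ofNat 0, Int.ofNat 0, Int.ofNat 2, Int.ofNat 2, Int.ofNat 0, Int.ofNat 0, Int.ofNat 2, Int.ofNat 0, Int.negSucc 1, Int.ofNat 0, Int.ofNat 0, Int.negSucc 1, Int.ofNat 0, Int.ofNat 0, Int.ofNat 2, Int.ofNat 2],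
  [Int.ofNat 0, Int.ofNat 0, Int.ofNat 0, Int.ofNat 0, Int.ofNat 2, Int.ofNat 0, Int.ofNat 0, Int.ofNat 0, Int.ofNat 0, Int.ofNat 0, Int.negSucc 1, Int.negSucc 1, Int.ofNat 0, Int.ofNat 0, Int.ofNat 2, Int.ofNat 0, Int.negSucc 1, Int.ofNat 0, Int.ofNat 0, Int.negSucc 1, Int.ofNat 0, Int.ofNat 0, Int.ofNat 2, Int.ofNat 2],
  [Int.ofNat 2, Int.ofNat 0, Int.ofNat 0, Int.ofNat 0, Int.ofNat 0, Int.ofNat 2, Int.ofNat 0, Int.ofNat 0, Int.ofNat 0, Int.ofNat 0, Int.ofNat 0, Int.negSucc 1, Int.negSucc 1, Int.ofNat 0, Int.ofNat 0, Int.ofNat 2, Int.ofNat 0, Int.negSucc 1, Int.ofNat 0, Int.ofNat 0, Int.negSucc 1, Int.ofNat 0, Int.ofNat 0, Int.ofNat 2],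
  [Int.ofNat 0, Int.ofNat 2, Int.ofNat 2, Int.ofNat 0, Int.ofNat 0, Int.ofNat 2, Int.ofNat 0, Int.ofNat 0, Int.ofNat 2, Int.ofNat 0, Int.ofNat 0, Int.ofNat 0, Int.ofNat 0, Int.ofNat 0, Int.ofNat 0, Int.ofNat 2, Int.ofNat 0, Int.negSucc 1, Int.ofNat 2, Int.ofNat 0, Int.negSucc 1, Int.ofNat 0, Int.ofNat 0, Int.ofNat 0],
  [Int.ofNat 0, Int.ofNat 0, Int.ofNat 2, Int.ofNat 0, Int.ofNat 0, Int.ofNat 2, Int.ofNat 0, Int.ofNat 0, Int.ofNat 0, Int.ofNat 0, Int.ofNat 0, Int.ofNat 0, Int.ofNat 2, Int.ofNat 0, Int.negSucc 1, Int.ofNat 2, Int.ofNat 0, Int.negSucc 1, Int.ofNat 0, Int.ofNat 0, Int.ofNat 0, Int.ofNat 2, Int.ofNat 2, Int.ofNat 0],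
  [Int.ofNat 1, Int.ofNat 1, Int.negSucc 0, Int.ofNat 1, Int.negSucc 0, Int.ofNat 3, Int.negSucc 0, Int.negSucc 0, Int.negSucc 0, Int.negSucc 0, Int.negSucc 0, Int.negSucc 0, Int.ofNat 1, Int.negSucc 0, Int.negSucc 0, Int.ofNat 1, Int.negSucc 0, Int.negSucc 0, Int.negSucc 0, Int.negSucc 0, Int.negSucc 0, Int.ofNat 1, Int.ofNat 1, Int.ofNat 1],
  [Int.ofNat 1, Int.negSucc 0, Int.negSucc 0, Int.ofNat 1, Int.negSucc 0, Int.negSucc 0, Int.negSucc 0, Int.negSucc 0, Int.ofNat 1, Int.negSucc 0, Int.negSucc 0, Int.negSucc 0, Int.negSucc 0, Int.negSucc 0, Int.ofNat 1, Int.ofNat 1, Int.negSucc 0, Int.negSucc 0, Int.ofNat 1, Int.negSucc 0, Int.ofNat 1, Int.ofNat 3, Int.negSucc 0, Int.ofNat 1],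
  [Int.negSucc 0, Int.ofNat 1, Int.ofNat 1, Int.ofNat 1, Int.ofNat 1, Int.negSucc 0, Int.negSucc 0, Int.negSucc 0, Int.ofNat 1, Int.negSucc 0, Int.negSucc 0, Int.negSucc 0, Int.negSucc 0, Int.ofNat 1, Int.ofNat 1, Int.ofNat 1, Int.ofNat 1, Int.negSucc 0, Int.ofNat 1, Int.negSucc 0, Int.ofNat 1, Int.ofNat 3, Int.ofNat 1, Int.negSucc 0],
  [Int.negSucc 0, Int.ofNat 1, Int.negSucc 0, Int.ofNat 1, Int.ofNat 1, Int.ofNat 1, Int.ofNat 1, Int.negSucc 0, Int.ofNat 1, Int.ofNat 1, Int.ofNat 1, Int.negSucc 0, Int.negSucc 0, Int.ofNat 1, Int.ofNat 1, Int.negSucc 0, Int.ofNat 1, Int.negSucc 0, Int.negSucc 0, Int.negSucc 0, Int.ofNat 1, Int.ofNat 3, Int.negSucc 0, Int.negSucc 0],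
  [Int.ofNat 1, Int.ofNat 1, Int.negSucc 0, Int.ofNat 1, Int.ofNat 1, Int.ofNat 1, Int.ofNat 3, Int.ofNat 1, Int.ofNat 1, Int.ofNat 1, Int.ofNat 1, Int.negSucc 0, Int.negSucc 0, Int.ofNat 1, Int.negSucc 0, Int.negSucc 0, Int.negSucc 0, Int.negSucc 0, Int.ofNat 1, Int.negSucc 0, Int.negSucc 0, Int.ofNat 1, Int.negSucc 0, Int.negSucc 0],
  [Int.negSucc 0, Int.negSucc 0, Int.negSucc 0, Int.negSucc 0, Int.negSucc 0, Int.ofNat 1, Int.negSucc 0, Int.ofNat 1, Int.negSucc 0, Int.ofNat 1, Int.negSucc 0, Int.negSucc 0, Int.ofNat 1, Int.ofNat 1, Int.ofNat 1, Int.ofNat 1, Int.ofNat 1, Int.ofNat 1, Int.negSucc 0, Int.ofNat 3, Int.ofNat 1, Int.negSucc 0, Int.ofNat 1, Int.ofNat 1],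
  [Int.ofNat 1, Int.negSucc 0, Int.ofNat 1, Int.negSucc 0, Int.negSucc 0, Int.ofNat 1, Int.negSucc 0, Int.negSucc 0, Int.negSucc 0, Int.negSucc 0, Int.ofNat 1, Int.ofNat 1, Int.ofNat 1, Int.ofNat 1, Int.ofNat 1, Int.ofNat 1, Int.ofNat 1, Int.ofNat 1, Int.ofNat 1, Int.ofNat 3, Int.ofNat 1, Int.ofNat 1, Int.ofNat 1, Int.ofNat 1],
  [Int.ofNat 1, Int.ofNat 1, Int.negSucc 0, Int.ofNat 1, Int.negSucc 0, Int.negSucc 0, Int.ofNat 1, Int.negSucc 0, Int.negSucc 0, Int.negSucc 0, Int.negSucc 0, Int.ofNat 1, Int.ofNat 1, Int.ofNat 1, Int.ofNat 1, Int.ofNat 1, Int.ofNat 1, Int.ofNat 1, Int.ofNat 1, Int.ofNat 1, Int.ofNat 3, Int.ofNat 1, Int.ofNat 1, Int.ofNat 1],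
  [Int.ofNat 0, Int.ofNat 0, Int.ofNat 2, Int.ofNat 0, Int.negSucc 1, Int.negSucc 1, Int.ofNat 0, Int.negSucc 1, Int.negSucc 1, Int.negSucc 1, Int.negSucc 1, Int.ofNat 0, Int.ofNat 0, Int.ofNat 0, Int.ofNat 0, Int.ofNat 0, Int.ofNat 0, Int.ofNat 0, Int.ofNat 0, Int.ofNat 0, Int.ofNat 2, Int.ofNat 0, Int.ofNat 0, Int.ofNat 0],
  [Int.ofNat 0, Int.negSucc 1, Int.negSucc 1, Int.ofNat 0, Int.negSucc 1, Int.negSucc 1, Int.negSucc 1, Int.negSucc 1, Int.ofNat 0, Int.ofNat 0, Int.ofNat 0, Int.ofNat 0, Int.ofNat 0, Int.ofNat 0, Int.ofNat 0, Int.ofNat 0, Int.ofNat 0, Int.ofNat 2, Int.ofNat 0, Int.ofNat 0, Int.ofNat 0, Int.ofNat 0, Int.ofNat 2, Int.ofNat 0],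
  [Int.negSucc 1, Int.ofNat 0, Int.ofNat 0, Int.ofNat 0, Int.negSucc 1, Int.negSucc 1, Int.ofNat 0, Int.ofNat 0, Int.ofNat 0, Int.ofNat 0, Int.ofNat 0, Int.ofNat 0, Int.ofNat 0, Int.ofNat 0, Int.ofNat 0, Int.ofNat 0, Int.ofNat 0, Int.ofNat 2, Int.ofNat 0, Int.ofNat 2, Int.ofNat 0, Int.ofNat 2, Int.ofNat 2, Int.negSucc 1],
  [Int.negSucc 1, Int.ofNat 0, Int.negSucc 1, Int.ofNat 0, Int.ofNat 0, Int.ofNat 0, Int.ofNat 0, Int.ofNat 0, Int.ofNat 0, Int.ofNat 0, Int.ofNat 0, Int.ofNat 2, Int.ofNat 0, Int.ofNat 0, Int.ofNat 2, Int.ofNat 0, Int.ofNat 0, Int.ofNat 0, Int.ofNat 0, Int.ofNat 0, Int.ofNat 2, Int.negSucc 1, Int.ofNat 2, Int.negSucc 1],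
  [Int.negSucc 0, Int.negSucc 2, Int.negSucc 0, Int.negSucc 0, Int.negSucc 0, Int.negSucc 0, Int.ofNat 1, Int.ofNat 1, Int.negSucc 0, Int.negSucc 0, Int.negSucc 0, Int.ofNat 1, Int.negSucc 0, Int.negSucc 0, Int.ofNat 1, Int.negSucc 0, Int.negSucc 0, Int.negSucc 0, Int.negSucc 0, Int.ofNat 1, Int.ofNat 1, Int.negSucc 0, Int.ofNat 1, Int.negSucc 0],
  [Int.negSucc 0, Int.negSucc 2, Int.ofNat 1, Int.negSucc 0, Int.negSucc 0, Int.ofNat 1, Int.negSucc 0, Int.ofNat 1, Int.negSucc 0, Int.ofNat 1, Int.ofNat 1, Int.ofNat 1, Int.negSucc 0, Int.negSucc 0, Int.ofNat 1, Int.ofNat 1, Int.negSucc 0, Int.negSucc 0, Int.ofNat 1, Int.ofNat 1, Int.ofNat 1, Int.negSucc 0, Int.negSucc 0, Int.negSucc 0],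
  [Int.negSucc 2, Int.negSucc 0, Int.negSucc 0, Int.ofNat 1, Int.negSucc 0, Int.ofNat 1, Int.negSucc 0, Int.ofNat 1, Int.ofNat 1, Int.ofNat 1, Int.negSucc 0, Int.negSucc 0, Int.ofNat 1, Int.ofNat 1, Int.negSucc 0, Int.negSucc 0, Int.ofNat 1, Int.ofNat 1, Int.ofNat 1, Int.negSucc 0, Int.negSucc 0, Int.negSucc 0, Int.ofNat 1, Int.negSucc 0],
  [Int.negSucc 2, Int.negSucc 0, Int.ofNat 1, Int.ofNat 1, Int.negSucc 0, Int.negSucc 0, Int.ofNat 1, Int.ofNat 1, Int.ofNat 1, Int.negSucc 0, Int.ofNat 1, Int.negSucc 0, Int.ofNat 1, Int.ofNat 1, Int.negSucc 0, Int.ofNat 1, Int.ofNat 1, Int.ofNat 1, Int.negSucc 0, Int.negSucc 0, Int.negSucc 0, Int.negSucc 0, Int.negSucc 0, Int.negSucc 0],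
  [Int.ofNat 1, Int.negSucc 0, Int.negSucc 2, Int.ofNat 1, Int.negSucc 0, Int.negSucc 0, Int.ofNat 1, Int.ofNat 1, Int.ofNat 1, Int.negSucc 0, Int.ofNat 1, Int.negSucc 0, Int.ofNat 1, Int.ofNat 1, Int.negSucc 0, Int.ofNat 1, Int.ofNat 1, Int.ofNat 1, Int.negSucc 0, Int.negSucc 0, Int.negSucc 0, Int.negSucc 0, Int.negSucc 0, Int.negSucc 0],
  [Int.ofNat 1, Int.negSucc 0, Int.ofNat 1, Int.ofNat 1, Int.negSucc 2, Int.negSucc 0, Int.negSucc 0, Int.negSucc 0, Int.ofNat 1, Int.ofNat 1, Int.ofNat 1, Int.negSucc 0, Int.ofNat 1, Int.negSucc 0, Int.ofNat 1, Int.ofNat 1, Int.ofNat 1, Int.negSucc 0, Int.negSucc 0, Int.negSucc 0, Int.ofNat 1, Int.negSucc 0, Int.negSucc 0, Int.negSucc 0],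
  [Int.negSucc 0, Int.ofNat 1, Int.negSucc 0, Int.ofNat 1, Int.negSucc 0, Int.negSucc 0, Int.ofNat 1, Int.ofNat 1, Int.ofNat 1, Int.negSucc 0, Int.negSucc 0, Int.negSucc 0, Int.ofNat 1, Int.ofNat 1, Int.ofNat 1, Int.negSucc 0, Int.ofNat 3, Int.negSucc 0, Int.negSucc 0, Int.ofNat 1, Int.negSucc 0, Int.ofNat 1, Int.ofNat 1, Int.ofNat 1],
  [Int.negSucc 0, Int.ofNat 1, Int.ofNat 1, Int.negSucc 0, Int.ofNat 1, Int.negSucc 0, Int.ofNat 1, Int.negSucc 0, Int.negSucc 0, Int.ofNat 1, Int.ofNat 1, Int.ofNat 1, Int.negSucc 0, Int.negSucc 0, Int.negSucc 0, Int.ofNat 1, Int.ofNat 1, Int.ofNat 1, Int.negSucc 0, Int.ofNat 3, Int.negSucc 0, Int.negSucc 0, Int.ofNat 1, Int.ofNat 1],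
  [Int.ofNat 2, Int.ofNat 0, Int.ofNat 0, Int.ofNat 0, Int.ofNat 0, Int.ofNat 0, Int.ofNat 0, Int.negSucc 1, Int.ofNat 0, Int.ofNat 0, Int.ofNat 0, Int.ofNat 2, Int.ofNat 0, Int.negSucc 1, Int.ofNat 0, Int.ofNat 0, Int.ofNat 0, Int.ofNat 2, Int.ofNat 0, Int.ofNat 2, Int.negSucc 1, Int.negSucc 1, Int.ofNat 0, Int.ofNat 0],
  [Int.ofNat 0, Int.ofNat 0, Int.ofNat 0, Int.ofNat 0, Int.ofNat 0, Int.ofNat 0, Int.negSucc 1, Int.ofNat 0, Int.ofNat 0, Int.ofNat 0, Int.ofNat 2, Int.ofNat 0, Int.negSucc 1, Int.ofNat 0, Int.ofNat 0, Int.ofNat 0, Int.ofNat 2, Int.ofNat 0, Int.ofNat 2, Int.negSucc 1, Int.negSucc 1, Int.ofNat 0, Int.ofNat 2, Int.ofNat 0],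
  [Int.ofNat 0, Int.ofNat 0, Int.ofNat 0, Int.ofNat 0, Int.ofNat 0, Int.ofNat 0, Int.negSucc 1, Int.ofNat 0, Int.ofNat 0, Int.ofNat 0, Int.negSucc 1, Int.ofNat 0, Int.negSucc 1, Int.ofNat 0, Int.ofNat 0, Int.ofNat 0, Int.ofNat 2, Int.ofNat 0, Int.negSucc 1, Int.negSucc 1, Int.negSucc 1, Int.ofNat 0, Int.ofNat 2, Int.ofNat 0],
  [Int.ofNat 0, Int.ofNat 0, Int.ofNat 0, Int.ofNat 0, Int.ofNat 0, Int.ofNat 0, Int.ofNat 2, Int.ofNat 0, Int.ofNat 0, Int.ofNat 0, Int.negSucc 1, Int.ofNat 0, Int.ofNat 2, Int.ofNat 0, Int.ofNat 0, Int.ofNat 0, Int.negSucc 1, Int.ofNat 0, Int.ofNat 2, Int.negSucc 1, Int.negSucc 1, Int.ofNat 0, Int.ofNat 2, Int.ofNat 0],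
  [Int.ofNat 0, Int.ofNat 0, Int.ofNat 2, Int.ofNat 0, Int.ofNat 0, Int.negSucc 1, Int.ofNat 0, Int.negSucc 1, Int.ofNat 0, Int.negSucc 1, Int.ofNat 0, Int.ofNat 0, Int.ofNat 0, Int.ofNat 0, Int.negSucc 1, Int.ofNat 0, Int.ofNat 2, Int.ofNat 2, Int.ofNat 2, Int.ofNat 0, Int.ofNat 0, Int.ofNat 0, Int.ofNat 0, Int.ofNat 0],
  [Int.ofNat 0, Int.ofNat 0, Int.negSucc 1, Int.ofNat 0, Int.ofNat 0, Int.negSucc 1, Int.ofNat 0, Int.ofNat 2, Int.ofNat 0, Int.ofNat 2, Int.ofNat 0, Int.ofNat 0, Int.ofNat 0, Int.ofNat 0, Int.negSucc 1, Int.ofNat 0, Int.ofNat 2, Int.ofNat 2, Int.negSucc 1, Int.ofNat 0, Int.ofNat 0, Int.ofNat 0, Int.ofNat 0, Int.ofNat 0],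
  [Int.ofNat 0, Int.ofNat 0, Int.ofNat 0, Int.negSucc 1, Int.ofNat 0, Int.ofNat 0, Int.negSucc 1, Int.ofNat 0, Int.ofNat 2, Int.ofNat 0, Int.ofNat 2, Int.ofNat 0, Int.ofNat 0, Int.ofNat 0, Int.ofNat 0, Int.negSucc 1, Int.ofNat 0, Int.ofNat 2, Int.ofNat 2, Int.negSucc 1, Int.ofNat 0, Int.ofNat 0, Int.ofNat 0, Int.ofNat 0],
  [Int.ofNat 0, Int.ofNat 0, Int.ofNat 0, Int.negSucc 1, Int.ofNat 0, Int.ofNat 0, Int.ofNat 0, Int.ofNat 2, Int.ofNat 0, Int.ofNat 0, Int.ofNat 2, Int.negSucc 1, Int.negSucc 1, Int.ofNat 0, Int.ofNat 0, Int.negSucc 1, Int.ofNat 0, Int.ofNat 2, Int.ofNat 0, Int.ofNat 0, Int.ofNat 0, Int.ofNat 2, Int.ofNat 0, Int.ofNat 0],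
  [Int.negSucc 1, Int.ofNat 0, Int.ofNat 0, Int.ofNat 0, Int.ofNat 2, Int.ofNat 0, Int.ofNat 0, Int.ofNat 2, Int.negSucc 1, Int.negSucc 1, Int.ofNat 0, Int.ofNat 0, Int.negSucc 1, Int.ofNat 0, Int.ofNat 2, Int.ofNat 0, Int.ofNat 0, Int.ofNat 0, Int.ofNat 2, Int.ofNat 0, Int.ofNat 0, Int.ofNat 0, Int.ofNat 0, Int.ofNat 0],
  [Int.ofNat 1, Int.negSucc 0, Int.negSucc 0, Int.negSucc 0, Int.ofNat 1, Int.negSucc 0, Int.negSucc 0, Int.ofNat 1, Int.negSucc 0, Int.negSucc 0, Int.ofNat 1, Int.ofNat 1, Int.negSucc 0, Int.negSucc 0, Int.ofNat 1, Int.ofNat 1, Int.negSucc 0, Int.negSucc 0, Int.ofNat 3, Int.negSucc 0, Int.ofNat 1, Int.negSucc 0, Int.negSucc 0, Int.negSucc 0],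
  [Int.ofNat 1, Int.negSucc 0, Int.ofNat 1, Int.negSucc 0, Int.ofNat 3, Int.ofNat 1, Int.negSucc 0, Int.ofNat 1, Int.negSucc 0, Int.negSucc 0, Int.ofNat 1, Int.negSucc 0, Int.negSucc 0, Int.negSucc 0, Int.negSucc 0, Int.ofNat 1, Int.negSucc 0, Int.ofNat 1, Int.negSucc 0, Int.ofNat 1, Int.negSucc 0, Int.negSucc 0, Int.negSucc 0, Int.negSucc 0],
  [Int.negSucc 0, Int.ofNat 1, Int.negSucc 0, Int.negSucc 0, Int.ofNat 3, Int.ofNat 1, Int.negSucc 0, Int.ofNat 1, Int.ofNat 1, Int.negSucc 0, Int.ofNat 1, Int.ofNat 1, Int.ofNat 1, Int.negSucc 0, Int.negSucc 0, Int.ofNat 1, Int.negSucc 0, Int.ofNat 1, Int.ofNat 1, Int.ofNat 1, Int.negSucc 0, Int.negSucc 0, Int.negSucc 0, Int.ofNat 1],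
  [Int.negSucc 0, Int.ofNat 1, Int.ofNat 1, Int.negSucc 0, Int.ofNat 3, Int.negSucc 0, Int.ofNat 1, Int.ofNat 1, Int.ofNat 1, Int.ofNat 1, Int.negSucc 0, Int.ofNat 1, Int.ofNat 1, Int.negSucc 0, Int.negSucc 0, Int.negSucc 0, Int.negSucc 0, Int.ofNat 1, Int.negSucc 0, Int.ofNat 1, Int.negSucc 0, Int.negSucc 0, Int.ofNat 1, Int.ofNat 1],
  [Int.negSucc 0, Int.negSucc 0, Int.ofNat 1, Int.ofNat 1, Int.negSucc 0, Int.ofNat 1, Int.negSucc 0, Int.negSucc 0, Int.negSucc 0, Int.negSucc 0, Int.negSucc 0, Int.ofNat 1, Int.negSucc 0, Int.ofNat 3, Int.ofNat 1, Int.negSucc 0, Int.ofNat 1, Int.ofNat 1, Int.ofNat 1, Int.ofNat 1, Int.negSucc 0, Int.ofNat 1, Int.ofNat 1, Int.ofNat 1],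
  [Int.ofNat 1, Int.ofNat 1, Int.ofNat 1, Int.negSucc 0, Int.ofNat 1, Int.negSucc 0, Int.ofNat 1, Int.ofNat 3, Int.negSucc 0, Int.ofNat 1, Int.ofNat 1, Int.ofNat 1, Int.ofNat 1, Int.negSucc 0, Int.ofNat 1, Int.ofNat 1, Int.negSucc 0, Int.negSucc 0, Int.ofNat 1, Int.negSucc 0, Int.negSucc 0, Int.negSucc 0, Int.negSucc 0, Int.negSucc 0],
  [Int.negSucc 0, Int.ofNat 1, Int.negSucc 0, Int.negSucc 0, Int.ofNat 1, Int.negSucc 0, Int.ofNat 1, Int.negSucc 2, Int.negSucc 0, Int.negSucc 0, Int.negSucc 0, Int.negSucc 0, Int.ofNat 1, Int.negSucc 0, Int.ofNat 1, Int.ofNat 1, Int.negSucc 0, Int.negSucc 0, Int.negSucc 0, Int.negSucc 0, Int.negSucc 0, Int.ofNat 1, Int.negSucc 0, Int.negSucc 0],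
  [Int.negSucc 0, Int.negSucc 0, Int.ofNat 1, Int.negSucc 0, Int.negSucc 0, Int.ofNat 1, Int.negSucc 0, Int.ofNat 1, Int.negSucc 2, Int.negSucc 0, Int.negSucc 0, Int.negSucc 0, Int.negSucc 0, Int.ofNat 1, Int.negSucc 0, Int.ofNat 1, Int.ofNat 1, Int.negSucc 0, Int.negSucc 0, Int.negSucc 0, Int.negSucc 0, Int.negSucc 0, Int.ofNat 1, Int.negSucc 0],
  [Int.ofNat 0, Int.ofNat 0, Int.negSucc 1, Int.ofNat 0, Int.negSucc 1, Int.ofNat 2, Int.ofNat 0, Int.ofNat 2, Int.ofNat 0, Int.ofNat 0, Int.ofNat 0, Int.ofNat 2, Int.ofNat 2, Int.ofNat 0, Int.ofNat 0, Int.ofNat 2, Int.ofNat 0, Int.ofNat 0, Int.ofNat 2, Int.ofNat 0, Int.ofNat 0, Int.ofNat 0, Int.ofNat 0, Int.ofNat 0],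
  [Int.ofNat 0, Int.negSucc 1, Int.ofNat 2, Int.ofNat 0, Int.ofNat 2, Int.ofNat 0, Int.ofNat 0, Int.ofNat 0, Int.ofNat 2, Int.ofNat 2, Int.ofNat 0, Int.ofNat 0, Int.ofNat 2, Int.ofNat 0, Int.ofNat 0, Int.ofNat 2, Int.ofNat 0, Int.ofNat 0, Int.ofNat 0, Int.ofNat 0, Int.ofNat 0, Int.ofNat 0, Int.negSucc 1, Int.ofNat 0],
  [Int.ofNat 0, Int.ofNat 2, Int.negSucc 1, Int.ofNat 0, Int.ofNat 2, Int.ofNat 0, Int.ofNat 0, Int.ofNat 0, Int.ofNat 0, Int.ofNat 0, Int.negSucc 1, Int.negSucc 1, Int.ofNat 0, Int.ofNat 0, Int.ofNat 0, Int.ofNat 0, Int.ofNat 0, Int.ofNat 0, Int.negSucc 1, Int.ofNat 0, Int.negSucc 1, Int.ofNat 0, Int.negSucc 1, Int.ofNat 0],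
  [Int.ofNat 0, Int.ofNat 0, Int.ofNat 2, Int.ofNat 0, Int.negSucc 1, Int.ofNat 0, Int.negSucc 1, Int.negSucc 1, Int.ofNat 0, Int.ofNat 0, Int.negSucc 1, Int.ofNat 0, Int.ofNat 0, Int.ofNat 0, Int.negSucc 1, Int.ofNat 0, Int.ofNat 0, Int.ofNat 0, Int.ofNat 2, Int.negSucc 1, Int.ofNat 0, Int.ofNat 0, Int.ofNat 0, Int.ofNat 0],
  [Int.ofNat 1, Int.ofNat 1, Int.negSucc 0, Int.ofNat 1, Int.negSucc 0, Int.ofNat 1, Int.ofNat 1, Int.ofNat 1, Int.negSucc 0, Int.ofNat 1, Int.negSucc 0, Int.negSucc 0, Int.negSucc 0, Int.ofNat 1, Int.negSucc 0, Int.ofNat 1, Int.ofNat 1, Int.ofNat 1, Int.ofNat 1, Int.ofNat 1, Int.ofNat 1, Int.ofNat 3, Int.ofNat 1, Int.ofNat 1],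
  [Int.ofNat 1, Int.ofNat 1, Int.ofNat 1, Int.ofNat 1, Int.negSucc 0, Int.negSucc 0, Int.negSucc 0, Int.ofNat 1, Int.negSucc 0, Int.negSucc 0, Int.ofNat 1, Int.negSucc 0, Int.negSucc 0, Int.ofNat 1, Int.negSucc 0, Int.negSucc 0, Int.ofNat 1, Int.ofNat 1, Int.negSucc 0, Int.ofNat 1, Int.ofNat 1, Int.ofNat 3, Int.negSucc 0, Int.ofNat 1],
  [Int.ofNat 1, Int.negSucc 0, Int.ofNat 1, Int.negSucc 0, Int.ofNat 1, Int.ofNat 1, Int.ofNat 3, Int.negSucc 0, Int.negSucc 0, Int.ofNat 1, Int.ofNat 1, Int.negSucc 0, Int.negSucc 0, Int.ofNat 1, Int.negSucc 0, Int.negSucc 0, Int.negSucc 0, Int.negSucc 0, Int.ofNat 1, Int.negSucc 0, Int.ofNat 1, Int.ofNat 1, Int.ofNat 1, Int.ofNat 1],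
  [Int.ofNat 1, Int.negSucc 0, Int.negSucc 0, Int.negSucc 0, Int.ofNat 1, Int.negSucc 0, Int.negSucc 2, Int.negSucc 0, Int.negSucc 0, Int.negSucc 0, Int.negSucc 0, Int.negSucc 0, Int.negSucc 0, Int.ofNat 1, Int.negSucc 0, Int.ofNat 1, Int.negSucc 0, Int.negSucc 0, Int.negSucc 0, Int.negSucc 0, Int.ofNat 1, Int.ofNat 1, Int.negSucc 0, Int.ofNat 1],
  [Int.negSucc 0, Int.ofNat 1, Int.ofNat 1, Int.ofNat 1, Int.ofNat 1, Int.ofNat 1, Int.negSucc 0, Int.ofNat 1, Int.ofNat 1, Int.negSucc 0, Int.negSucc 0, Int.ofNat 1, Int.ofNat 1, Int.ofNat 1, Int.ofNat 1, Int.ofNat 1, Int.negSucc 0, Int.ofNat 1, Int.ofNat 1, Int.ofNat 1, Int.ofNat 1, Int.ofNat 3, Int.negSucc 0, Int.negSucc 0],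
  [Int.negSucc 0, Int.ofNat 1, Int.negSucc 0, Int.ofNat 1, Int.ofNat 1, Int.ofNat 3, Int.ofNat 1, Int.ofNat 1, Int.negSucc 0, Int.ofNat 1, Int.ofNat 1, Int.ofNat 1, Int.ofNat 1, Int.negSucc 0, Int.ofNat 1, Int.ofNat 1, Int.ofNat 1, Int.ofNat 1, Int.ofNat 1, Int.negSucc 0, Int.negSucc 0, Int.ofNat 1, Int.ofNat 1, Int.negSucc 0],
  [Int.ofNat 0, Int.negSucc 1, Int.ofNat 0, Int.negSucc 1, Int.ofNat 0, Int.ofNat 0, Int.ofNat 0, Int.ofNat 0, Int.negSucc 1, Int.ofNat 0, Int.ofNat 0, Int.ofNat 0, Int.ofNat 0, Int.negSucc 1, Int.negSucc 1, Int.ofNat 0, Int.ofNat 0, Int.negSucc 1, Int.ofNat 0, Int.negSucc 1, Int.negSucc 1, Int.ofNat 0, Int.ofNat 0, Int.ofNat 0],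
  [Int.negSucc 1, Int.ofNat 0, Int.ofNat 0, Int.ofNat 0, Int.negSucc 1, Int.ofNat 0, Int.negSucc 1, Int.ofNat 0, Int.ofNat 0, Int.ofNat 0, Int.ofNat 0, Int.negSucc 1, Int.ofNat 0, Int.ofNat 0, Int.ofNat 0, Int.ofNat 0, Int.negSucc 1, Int.negSucc 1, Int.ofNat 0, Int.ofNat 0, Int.negSucc 1, Int.ofNat 0, Int.negSucc 1, Int.ofNat 0],
  [Int.ofNat 1, Int.negSucc 0, Int.negSucc 0, Int.ofNat 1, Int.ofNat 1, Int.ofNat 1, Int.negSucc 0, Int.ofNat 1, Int.ofNat 1, Int.ofNat 1, Int.ofNat 1, Int.negSucc 0, Int.ofNat 1, Int.ofNat 3, Int.ofNat 1, Int.ofNat 1, Int.ofNat 1, Int.negSucc 0, Int.ofNat 1, Int.ofNat 1, Int.negSucc 0, Int.ofNat 1, Int.ofNat 1, Int.negSucc 0],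
  [Int.negSucc 0, Int.negSucc 0, Int.ofNat 1, Int.ofNat 1, Int.ofNat 1, Int.negSucc 0, Int.ofNat 1, Int.ofNat 1, Int.ofNat 1, Int.ofNat 1, Int.negSucc 0, Int.ofNat 1, Int.ofNat 3, Int.ofNat 1, Int.ofNat 1, Int.ofNat 1, Int.negSucc 0, Int.ofNat 1, Int.ofNat 1, Int.negSucc 0, Int.ofNat 1, Int.ofNat 1, Int.ofNat 1, Int.negSucc 0],
  [Int.ofNat 1, Int.negSucc 0, Int.negSucc 0, Int.ofNat 1, Int.ofNat 1, Int.negSucc 0, Int.ofNat 1, Int.negSucc 0, Int.ofNat 1, Int.negSucc 0, Int.ofNat 1, Int.negSucc 0, Int.ofNat 3, Int.ofNat 1, Int.ofNat 1, Int.ofNat 1, Int.negSucc 0, Int.ofNat 1, Int.negSucc 0, Int.negSucc 0, Int.ofNat 1, Int.negSucc 0, Int.ofNat 1, Int.negSucc 0],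
  [Int.negSucc 0, Int.ofNat 1, Int.ofNat 1, Int.negSucc 0, Int.negSucc 0, Int.negSucc 0, Int.negSucc 0, Int.negSucc 0, Int.negSucc 0, Int.ofNat 1, Int.ofNat 1, Int.negSucc 0, Int.negSucc 2, Int.negSucc 0, Int.ofNat 1, Int.ofNat 1, Int.ofNat 1, Int.ofNat 1, Int.ofNat 1, Int.negSucc 0, Int.ofNat 1, Int.negSucc 0, Int.ofNat 1, Int.negSucc 0],
  [Int.negSucc 0, Int.ofNat 1, Int.ofNat 1, Int.negSucc 0, Int.ofNat 1, Int.ofNat 1, Int.negSucc 0, Int.ofNat 1, Int.ofNat 1, Int.ofNat 1, Int.negSucc 0, Int.ofNat 1, Int.negSucc 0, Int.negSucc 0, Int.negSucc 0, Int.ofNat 1, Int.negSucc 2, Int.ofNat 1, Int.negSucc 0, Int.ofNat 1, Int.negSucc 0, Int.negSucc 0, Int.negSucc 0, Int.negSucc 0],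
  [Int.ofNat 1, Int.ofNat 1, Int.negSucc 0, Int.negSucc 0, Int.ofNat 1, Int.ofNat 1, Int.negSucc 0, Int.negSucc 0, Int.ofNat 1, Int.negSucc 0, Int.ofNat 1, Int.negSucc 0, Int.negSucc 0, Int.negSucc 0, Int.negSucc 0, Int.ofNat 1, Int.negSucc 2, Int.ofNat 1, Int.ofNat 1, Int.ofNat 1, Int.negSucc 0, Int.ofNat 1, Int.negSucc 0, Int.negSucc 0],
  [Int.negSucc 0, Int.ofNat 1, Int.ofNat 1, Int.negSucc 0, Int.negSucc 0, Int.ofNat 1, Int.ofNat 1, Int.negSucc 0, Int.negSucc 0, Int.ofNat 1, Int.negSucc 0, Int.ofNat 1, Int.negSucc 0, Int.negSucc 0, Int.negSucc 0, Int.negSucc 0, Int.ofNat 1, Int.negSucc 2, Int.ofNat 1, Int.ofNat 1, Int.ofNat 1, Int.negSucc 0, Int.ofNat 1, Int.negSucc 0],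
  [Int.ofNat 1, Int.negSucc 0, Int.negSucc 0, Int.ofNat 1, Int.negSucc 0, Int.ofNat 3, Int.ofNat 1, Int.negSucc 0, Int.negSucc 0, Int.ofNat 1, Int.negSucc 0, Int.ofNat 1, Int.negSucc 0, Int.negSucc 0, Int.ofNat 1, Int.negSucc 0, Int.ofNat 1, Int.negSucc 0, Int.ofNat 1, Int.ofNat 1, Int.ofNat 1, Int.negSucc 0, Int.ofNat 1, Int.ofNat 1],
  [Int.ofNat 1, Int.negSucc 0, Int.ofNat 3, Int.ofNat 1, Int.negSucc 0, Int.negSucc 0, Int.ofNat 1, Int.negSucc 0, Int.ofNat 1, Int.negSucc 0, Int.negSucc 0, Int.ofNat 1, Int.negSucc 0, Int.ofNat 1, Int.negSucc 0, Int.ofNat 1, Int.ofNat 1, Int.ofNat 1, Int.negSucc 0, Int.ofNat 1, Int.ofNat 1, Int.negSucc 0, Int.negSucc 0, Int.ofNat 1],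
  [Int.ofNat 1, Int.ofNat 3, Int.negSucc 0, Int.ofNat 1, Int.negSucc 0, Int.negSucc 0, Int.ofNat 1, Int.negSucc 0, Int.ofNat 1, Int.negSucc 0, Int.negSucc 0, Int.ofNat 1, Int.negSucc 0, Int.ofNat 1, Int.negSucc 0, Int.ofNat 1, Int.ofNat 1, Int.ofNat 1, Int.negSucc 0, Int.ofNat 1, Int.ofNat 1, Int.negSucc 0, Int.negSucc 0, Int.ofNat 1],
  [Int.ofNat 1, Int.ofNat 1, Int.negSucc 0, Int.ofNat 1, Int.negSucc 0, Int.negSucc 0, Int.negSucc 0, Int.negSucc 0, Int.negSucc 0, Int.ofNat 1, Int.ofNat 1, Int.ofNat 1, Int.negSucc 0, Int.ofNat 1, Int.negSucc 0, Int.ofNat 1, Int.ofNat 1, Int.negSucc 0, Int.ofNat 3, Int.ofNat 1, Int.negSucc 0, Int.negSucc 0, Int.ofNat 1, Int.ofNat 1],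
  [Int.ofNat 0, Int.ofNat 0, Int.ofNat 2, Int.ofNat 2, Int.negSucc 1, Int.ofNat 0, Int.ofNat 0, Int.ofNat 0, Int.negSucc 1, Int.ofNat 0, Int.ofNat 0, Int.ofNat 0, Int.negSucc 1, Int.ofNat 0, Int.ofNat 0, Int.ofNat 0, Int.ofNat 0, Int.ofNat 0, Int.ofNat 2, Int.ofNat 2, Int.negSucc 1, Int.ofNat 0, Int.ofNat 0, Int.ofNat 0],
  [Int.ofNat 0, Int.ofNat 0, Int.negSucc 1, Int.ofNat 2, Int.negSucc 1, Int.ofNat 0, Int.ofNat 0, Int.ofNat 0, Int.negSucc 1, Int.ofNat 0, Int.ofNat 0, Int.ofNat 0, Int.negSucc 1, Int.ofNat 0, Int.ofNat 0, Int.ofNat 0, Int.ofNat 0, Int.ofNat 0, Int.negSucc 1, Int.ofNat 2, Int.negSucc 1, Int.ofNat 0, Int.ofNat 0, Int.ofNat 0],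
  [Int.ofNat 0, Int.ofNat 0, Int.ofNat 0, Int.negSucc 1, Int.ofNat 0, Int.ofNat 0, Int.ofNat 0, Int.ofNat 2, Int.ofNat 0, Int.negSucc 1, Int.ofNat 0, Int.ofNat 0, Int.ofNat 0, Int.negSucc 1, Int.ofNat 0, Int.negSucc 1, Int.ofNat 2, Int.negSucc 1, Int.ofNat 0, Int.negSucc 1, Int.ofNat 0, Int.ofNat 0, Int.ofNat 0, Int.ofNat 0],
  [Int.ofNat 0, Int.ofNat 0, Int.ofNat 0, Int.negSucc 1, Int.negSucc 1, Int.negSucc 1, Int.negSucc 1, Int.negSucc 1, Int.ofNat 0, Int.ofNat 0, Int.ofNat 2, Int.ofNat 0, Int.ofNat 0, Int.ofNat 2, Int.ofNat 0, Int.negSucc 1, Int.ofNat 0, Int.ofNat 0, Int.ofNat 0, Int.ofNat 0, Int.ofNat 0, Int.ofNat 0, Int.ofNat 0, Int.ofNat 0],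
  [Int.ofNat 0, Int.ofNat 0, Int.ofNat 0, Int.negSucc 1, Int.negSucc 1, Int.negSucc 1, Int.negSucc 1, Int.ofNat 2, Int.ofNat 0, Int.ofNat 0, Int.negSucc 1, Int.ofNat 0, Int.ofNat 0, Int.ofNat 2, Int.ofNat 0, Int.negSucc 1, Int.ofNat 0, Int.ofNat 0, Int.ofNat 0, Int.ofNat 0, Int.ofNat 0, Int.ofNat 0, Int.ofNat 0, Int.ofNat 0],
  [Int.ofNat 0, Int.ofNat 0, Int.ofNat 0, Int.ofNat 0, Int.negSucc 1, Int.negSucc 1, Int.negSucc 1, Int.negSucc 1, Int.ofNat 2, Int.ofNat 0, Int.ofNat 0, Int.negSucc 1, Int.ofNat 0, Int.ofNat 0, Int.ofNat 2, Int.ofNat 0, Int.negSucc 1, Int.ofNat 0, Int.ofNat 0, Int.ofNat 0, Int.ofNat 0, Int.ofNat 0, Int.ofNat 0, Int.ofNat 0],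
  [Int.ofNat 0, Int.ofNat 0, Int.ofNat 0, Int.ofNat 0, Int.ofNat 0, Int.negSucc 1, Int.ofNat 0, Int.ofNat 0, Int.ofNat 2, Int.ofNat 0, Int.ofNat 0, Int.negSucc 1, Int.ofNat 0, Int.ofNat 2, Int.ofNat 2, Int.ofNat 0, Int.ofNat 0, Int.ofNat 0, Int.ofNat 0, Int.ofNat 2, Int.ofNat 0, Int.ofNat 2, Int.ofNat 2, Int.ofNat 0],
  [Int.ofNat 0, Int.ofNat 0, Int.negSucc 1, Int.ofNat 0, Int.ofNat 0, Int.ofNat 2, Int.ofNat 0, Int.ofNat 0, Int.negSucc 1, Int.ofNat 0, Int.ofNat 2, Int.ofNat 2, Int.ofNat 0, Int.ofNat 0, Int.ofNat 0, Int.ofNat 0, Int.ofNat 2, Int.ofNat 0, Int.ofNat 2, Int.ofNat 2, Int.ofNat 0, Int.ofNat 0, Int.ofNat 0, Int.ofNat 0],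
  [Int.negSucc 0, Int.negSucc 0, Int.ofNat 1, Int.negSucc 0, Int.negSucc 0, Int.ofNat 1, Int.negSucc 0, Int.negSucc 0, Int.negSucc 2, Int.negSucc 0, Int.ofNat 1, Int.ofNat 1, Int.negSucc 0, Int.negSucc 0, Int.negSucc 0, Int.negSucc 0, Int.ofNat 1, Int.negSucc 0, Int.ofNat 1, Int.ofNat 1, Int.negSucc 0, Int.negSucc 0, Int.negSucc 0, Int.negSucc 0],
  [Int.negSucc 0, Int.negSucc 0, Int.negSucc 0, Int.negSucc 0, Int.ofNat 1, Int.negSucc 0, Int.ofNat 1, Int.ofNat 1, Int.negSucc 0, Int.negSucc 0, Int.negSucc 0, Int.negSucc 0, Int.negSucc 0, Int.ofNat 1, Int.negSucc 0, Int.negSucc 0, Int.negSucc 2, Int.negSucc 0, Int.negSucc 0, Int.ofNat 1, Int.negSucc 0, Int.ofNat 1, Int.ofNat 1, Int.negSucc 0],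
  [Int.negSucc 0, Int.negSucc 0, Int.negSucc 0, Int.ofNat 1, Int.ofNat 1, Int.ofNat 1, Int.negSucc 0, Int.negSucc 0, Int.ofNat 1, Int.ofNat 1, Int.ofNat 1, Int.ofNat 1, Int.ofNat 1, Int.ofNat 1, Int.ofNat 1, Int.ofNat 1, Int.negSucc 2, Int.ofNat 1, Int.ofNat 1, Int.negSucc 0, Int.ofNat 1, Int.negSucc 0, Int.ofNat 1, Int.negSucc 0],
  [Int.negSucc 0, Int.negSucc 0, Int.ofNat 1, Int.ofNat 1, Int.ofNat 1, Int.negSucc 0, Int.ofNat 1, Int.negSucc 0, Int.ofNat 1, Int.negSucc 0, Int.negSucc 0, Int.ofNat 1, Int.ofNat 1, Int.ofNat 1, Int.ofNat 1, Int.negSucc 0, Int.negSucc 2, Int.ofNat 1, Int.negSucc 0, Int.negSucc 0, Int.ofNat 1, Int.negSucc 0, Int.negSucc 0, Int.negSucc 0],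
  [Int.negSucc 0, Int.negSucc 0, Int.negSucc 0, Int.negSucc 0, Int.ofNat 1, Int.ofNat 1, Int.negSucc 0, Int.negSucc 0, Int.ofNat 1, Int.ofNat 1, Int.negSucc 2, Int.ofNat 1, Int.negSucc 0, Int.negSucc 0, Int.ofNat 1, Int.ofNat 1, Int.ofNat 1, Int.negSucc 0, Int.negSucc 0, Int.ofNat 1, Int.ofNat 1, Int.ofNat 1, Int.negSucc 0, Int.negSucc 0],
  [Int.negSucc 0, Int.negSucc 0, Int.ofNat 1, Int.negSucc 0, Int.ofNat 1, Int.negSucc 0, Int.ofNat 1, Int.negSucc 0, Int.ofNat 1, Int.negSucc 0, Int.ofNat 3, Int.ofNat 1, Int.negSucc 0, Int.negSucc 0, Int.ofNat 1, Int.negSucc 0, Int.ofNat 1, Int.negSucc 0, Int.ofNat 1, Int.ofNat 1, Int.ofNat 1, Int.ofNat 1, Int.ofNat 1, Int.negSucc 0],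
  [Int.ofNat 0, Int.ofNat 0, Int.negSucc 1, Int.ofNat 0, Int.ofNat 0, Int.ofNat 0, Int.ofNat 0, Int.negSucc 1, Int.ofNat 0, Int.negSucc 1, Int.ofNat 2, Int.ofNat 0, Int.negSucc 1, Int.negSucc 1, Int.ofNat 2, Int.negSucc 1, Int.ofNat 0, Int.ofNat 0, Int.ofNat 0, Int.ofNat 0, Int.ofNat 0, Int.ofNat 0, Int.ofNat 0, Int.ofNat 0],
  [Int.ofNat 0, Int.ofNat 0, Int.ofNat 0, Int.ofNat 0, Int.negSucc 1, Int.ofNat 0, Int.ofNat 0, Int.ofNat 0, Int.ofNat 0, Int.negSucc 1, Int.negSucc 1, Int.ofNat 0, Int.ofNat 0, Int.negSucc 1, Int.ofNat 0, Int.negSucc 1, Int.negSucc 1, Int.ofNat 0, Int.ofNat 0, Int.ofNat 0, Int.ofNat 2, Int.ofNat 0, Int.ofNat 2, Int.ofNat 0],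
  [Int.ofNat 0, Int.ofNat 0, Int.ofNat 0, Int.ofNat 0, Int.ofNat 0, Int.ofNat 0, Int.ofNat 0, Int.ofNat 0, Int.ofNat 0, Int.ofNat 0, Int.ofNat 0, Int.ofNat 0, Int.ofNat 0, Int.ofNat 0, Int.ofNat 0, Int.ofNat 0, Int.ofNat 0, Int.ofNat 0, Int.ofNat 0, Int.ofNat 0, Int.ofNat 4, Int.ofNat 0, Int.ofNat 4, Int.ofNat 0],
  [Int.ofNat 4, Int.ofNat 0, Int.ofNat 4, Int.ofNat 0, Int.ofNat 0, Int.ofNat 0, Int.ofNat 0, Int.ofNat 0, Int.ofNat 0, Int.ofNat 0, Int.ofNat 0, Int.ofNat 0, Int.ofNat 0, Int.ofNat 0, Int.ofNat 0, Int.ofNat 0, Int.ofNat 0, Int.ofNat 0, Int.ofNat 0, Int.ofNat 0, Int.ofNat 0, Int.ofNat 0, Int.ofNat 0, Int.ofNat 0],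
  [Int.ofNat 0, Int.ofNat 4, Int.ofNat 0, Int.ofNat 0, Int.ofNat 0, Int.ofNat 0, Int.ofNat 0, Int.ofNat 0, Int.ofNat 0, Int.ofNat 0, Int.ofNat 0, Int.ofNat 0, Int.ofNat 0, Int.ofNat 0, Int.ofNat 0, Int.ofNat 0, Int.ofNat 0, Int.ofNat 0, Int.ofNat 0, Int.ofNat 0, Int.ofNat 0, Int.ofNat 0, Int.ofNat 0, Int.ofNat 4],
  [Int.ofNat 4, Int.ofNat 0, Int.ofNat 0, Int.ofNat 0, Int.ofNat 0, Int.ofNat 0, Int.ofNat 0, Int.ofNat 0, Int.ofNat 0, Int.ofNat 0, Int.ofNat 0, Int.ofNat 0, Int.ofNat 0, Int.ofNat 0, Int.ofNat 0, Int.ofNat 0, Int.ofNat 0, Int.ofNat 0, Int.ofNat 0, Int.ofNat 0, Int.ofNat 0, Int.ofNat 0, Int.ofNat 0, Int.ofNat 4],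
  [Int.negSucc 3, Int.ofNat 0, Int.ofNat 0, Int.ofNat 0, Int.ofNat 0, Int.ofNat 0, Int.ofNat 0, Int.ofNat 0, Int.ofNat 0, Int.ofNat 0, Int.ofNat 0, Int.ofNat 0, Int.ofNat 0, Int.ofNat 0, Int.ofNat 0, Int.ofNat 0, Int.ofNat 0, Int.ofNat 0, Int.ofNat 0, Int.ofNat 0, Int.ofNat 0, Int.ofNat 0, Int.ofNat 0, Int.ofNat 4],
  [Int.ofNat 4, Int.ofNat 0, Int.ofNat 0, Int.ofNat 0, Int.ofNat 0, Int.ofNat 0, Int.ofNat 0, Int.ofNat 0, Int.ofNat 0, Int.ofNat 0, Int.ofNat 0, Int.ofNat 0, Int.ofNat 0, Int.ofNat 0, Int.ofNat 0, Int.ofNat 0, Int.ofNat 0, Int.ofNat 0, Int.ofNat 0, Int.ofNat 0, Int.ofNat 0, Int.ofNat 0, Int.ofNat 0, Int.ofNat 4],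
  [Int.ofNat 4, Int.ofNat 0, Int.ofNat 0, Int.ofNat 0, Int.ofNat 0, Int.ofNat 0, Int.ofNat 0, Int.ofNat 0, Int.ofNat 0, Int.ofNat 0, Int.ofNat 0, Int.ofNat 0, Int.ofNat 0, Int.ofNat 0, Int.ofNat 0, Int.ofNat 0, Int.ofNat 0, Int.ofNat 0, Int.ofNat 0, Int.ofNat 0, Int.ofNat 0, Int.ofNat 0, Int.ofNat 0, Int.ofNat 4],
  [Int.negSucc 3, Int.ofNat 0, Int.ofNat 0, Int.ofNat 0, Int.ofNat 0, Int.ofNat 0, Int.ofNat 0, Int.ofNat 0, Int.ofNat 0, Int.ofNat 0, Int.ofNat 0, Int.ofNat 0, Int.ofNat 0, Int.ofNat 0, Int.ofNat 0, Int.ofNat 0, Int.ofNat 0, Int.ofNat 0, Int.ofNat 0, Int.ofNat 0, Int.ofNat 0, Int.ofNat 0, Int.ofNat 0, Int.ofNat 4],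
  [Int.ofNat 0, Int.negSucc 3, Int.ofNat 0, Int.ofNat 0, Int.ofNat 0, Int.ofNat 0, Int.ofNat 0, Int.ofNat 0, Int.ofNat 0, Int.ofNat 0, Int.ofNat 0, Int.ofNat 0, Int.ofNat 0, Int.ofNat 0, Int.ofNat 0, Int.ofNat 0, Int.ofNat 0, Int.ofNat 0, Int.ofNat 0, Int.ofNat 0, Int.ofNat 0, Int.ofNat 0, Int.ofNat 0, Int.ofNat 4],
  [Int.ofNat 0, Int.ofNat 4, Int.ofNat 0, Int.ofNat 0, Int.ofNat 0, Int.ofNat 0, Int.ofNat 0, Int.ofNat 0, Int.ofNat 0, Int.ofNat 0, Int.ofNat 0, Int.ofNat 0, Int.ofNat 0, Int.ofNat 0, Int.ofNat 0, Int.ofNat 0, Int.ofNat 0, Int.ofNat 0, Int.ofNat 0, Int.ofNat 0, Int.ofNat 0, Int.ofNat 0, Int.ofNat 0, Int.negSucc 3],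
  [Int.ofNat 0, Int.ofNat 0, Int.ofNat 0, Int.ofNat 0, Int.ofNat 0, Int.ofNat 0, Int.ofNat 0, Int.ofNat 0, Int.ofNat 0, Int.ofNat 0, Int.ofNat 0, Int.ofNat 0, Int.ofNat 0, Int.ofNat 0, Int.ofNat 0, Int.ofNat 0, Int.ofNat 0, Int.ofNat 0, Int.ofNat 0, Int.ofNat 0, Int.ofNat 0, Int.ofNat 4, Int.ofNat 0, Int.negSucc 3],
  [Int.negSucc 1, Int.negSucc 1, Int.negSucc 1, Int.ofNat 0, Int.ofNat 0, Int.ofNat 0, Int.negSucc 1, Int.negSucc 1, Int.ofNat 0, Int.ofNat 0, Int.ofNat 0, Int.ofNat 0, Int.ofNat 0, Int.ofNat 0, Int.ofNat 0, Int.ofNat 0, Int.ofNat 0, Int.ofNat 0, Int.ofNat 0, Int.negSucc 1, Int.ofNat 0, Int.ofNat 2, Int.ofNat 0, Int.ofNat 2],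
  [Int.negSucc 1, Int.negSucc 1, Int.ofNat 0, Int.ofNat 0, Int.ofNat 0, Int.negSucc 1, Int.negSucc 1, Int.ofNat 0, Int.ofNat 0, Int.ofNat 0, Int.ofNat 0, Int.ofNat 0, Int.ofNat 0, Int.ofNat 0, Int.ofNat 0, Int.ofNat 0, Int.ofNat 0, Int.ofNat 0, Int.negSucc 1, Int.ofNat 0, Int.ofNat 2, Int.ofNat 0, Int.negSucc 1, Int.ofNat 2],
  [Int.ofNat 1, Int.ofNat 1, Int.negSucc 0, Int.ofNat 1, Int.ofNat 1, Int.negSucc 0, Int.negSucc 0, Int.ofNat 1, Int.ofNat 1, Int.negSucc 0, Int.negSucc 0, Int.ofNat 1, Int.ofNat 1, Int.ofNat 1, Int.ofNat 1, Int.negSucc 0, Int.ofNat 1, Int.ofNat 1, Int.negSucc 0, Int.ofNat 1, Int.ofNat 1, Int.ofNat 1, Int.negSucc 0, Int.negSucc 2],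
  [Int.ofNat 1, Int.ofNat 1, Int.ofNat 1, Int.ofNat 1, Int.ofNat 1, Int.ofNat 1, Int.ofNat 1, Int.ofNat 1, Int.ofNat 1, Int.ofNat 1, Int.ofNat 1, Int.ofNat 1, Int.ofNat 1, Int.ofNat 1, Int.ofNat 1, Int.ofNat 1, Int.ofNat 1, Int.ofNat 1, Int.ofNat 1, Int.ofNat 1, Int.ofNat 1, Int.ofNat 1, Int.ofNat 1, Int.negSucc 2],
  [Int.ofNat 1, Int.ofNat 1, Int.ofNat 1, Int.ofNat 1, Int.ofNat 1, Int.ofNat 1, Int.ofNat 1, Int.ofNat 1, Int.ofNat 1, Int.ofNat 1, Int.ofNat 1, Int.ofNat 1, Int.ofNat 1, Int.ofNat 1, Int.ofNat 1, Int.ofNat 1, Int.ofNat 1, Int.ofNat 1, Int.ofNat 1, Int.ofNat 1, Int.ofNat 1, Int.ofNat 1, Int.ofNat 1, Int.negSucc 2],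
  [Int.negSucc 2, Int.ofNat 1, Int.ofNat 1, Int.ofNat 1, Int.ofNat 1, Int.ofNat 1, Int.ofNat 1, Int.ofNat 1, Int.ofNat 1, Int.ofNat 1, Int.ofNat 1, Int.ofNat 1, Int.ofNat 1, Int.ofNat 1, Int.ofNat 1, Int.ofNat 1, Int.ofNat 1, Int.ofNat 1, Int.ofNat 1, Int.ofNat 1, Int.ofNat 1, Int.ofNat 1, Int.ofNat 1, Int.ofNat 1],
  [Int.ofNat 3, Int.ofNat 1, Int.negSucc 0, Int.ofNat 1, Int.ofNat 1, Int.ofNat 1, Int.ofNat 1, Int.negSucc 0, Int.ofNat 1, Int.negSucc 0, Int.negSucc 0, Int.negSucc 0, Int.ofNat 1, Int.ofNat 1, Int.ofNat 1, Int.ofNat 1, Int.ofNat 1, Int.ofNat 1, Int.negSucc 0, Int.ofNat 1, Int.ofNat 1, Int.negSucc 0, Int.ofNat 1, Int.ofNat 1],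
  [Int.ofNat 1, Int.ofNat 3, Int.ofNat 1, Int.negSucc 0, Int.ofNat 1, Int.ofNat 1, Int.ofNat 1, Int.ofNat 1, Int.negSucc 0, Int.ofNat 1, Int.negSucc 0, Int.negSucc 0, Int.negSucc 0, Int.ofNat 1, Int.ofNat 1, Int.ofNat 1, Int.ofNat 1, Int.ofNat 1, Int.ofNat 1, Int.negSucc 0, Int.ofNat 1, Int.ofNat 1, Int.negSucc 0, Int.ofNat 1],
  [Int.ofNat 2, Int.ofNat 0, Int.ofNat 2, Int.negSucc 1, Int.ofNat 0, Int.ofNat 0, Int.ofNat 0, Int.ofNat 0, Int.ofNat 0, Int.ofNat 0, Int.negSucc 1, Int.ofNat 0, Int.ofNat 0, Int.ofNat 0, Int.ofNat 0, Int.ofNat 0, Int.ofNat 0, Int.ofNat 0, Int.ofNat 2, Int.negSucc 1, Int.ofNat 0, Int.ofNat 0, Int.negSucc 1, Int.ofNat 2],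
  [Int.negSucc 1, Int.ofNat 0, Int.ofNat 0, Int.ofNat 0, Int.ofNat 0, Int.ofNat 0, Int.ofNat 0, Int.negSucc 1, Int.ofNat 0, Int.ofNat 0, Int.ofNat 0, Int.ofNat 0, Int.ofNat 0, Int.ofNat 0, Int.ofNat 0, Int.ofNat 2, Int.negSucc 1, Int.ofNat 0, Int.ofNat 0, Int.negSucc 1, Int.ofNat 2, Int.ofNat 0, Int.ofNat 2, Int.ofNat 2],
  [Int.ofNat 2, Int.ofNat 0, Int.ofNat 0, Int.ofNat 0, Int.ofNat 0, Int.ofNat 0, Int.ofNat 2, Int.ofNat 0, Int.ofNat 0, Int.negSucc 1, Int.negSucc 1, Int.ofNat 0, Int.ofNat 0, Int.ofNat 0, Int.ofNat 0, Int.ofNat 0, Int.negSucc 1, Int.ofNat 0, Int.ofNat 0, Int.ofNat 0, Int.ofNat 0, Int.ofNat 2, Int.ofNat 2, Int.negSucc 1],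
  [Int.ofNat 2, Int.ofNat 2, Int.ofNat 0, Int.ofNat 0, Int.ofNat 0, Int.ofNat 0, Int.ofNat 0, Int.negSucc 1, Int.ofNat 0, Int.ofNat 0, Int.ofNat 0, Int.ofNat 0, Int.negSucc 1, Int.negSucc 1, Int.ofNat 2, Int.ofNat 0, Int.ofNat 0, Int.ofNat 0, Int.ofNat 0, Int.ofNat 0, Int.ofNat 2, Int.ofNat 0, Int.ofNat 0, Int.negSucc 1],
  [Int.negSucc 0, Int.negSucc 0, Int.ofNat 1, Int.negSucc 0, Int.ofNat 1, Int.negSucc 0, Int.ofNat 1, Int.negSucc 0, Int.ofNat 1, Int.negSucc 0, Int.negSucc 0, Int.ofNat 1, Int.negSucc 0, Int.negSucc 0, Int.ofNat 1, Int.negSucc 0, Int.ofNat 1, Int.negSucc 0, Int.ofNat 1, Int.ofNat 1, Int.ofNat 1, Int.ofNat 1, Int.ofNat 1, Int.ofNat 3],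
  [Int.negSucc 0, Int.negSucc 0, Int.negSucc 0, Int.negSucc 0, Int.ofNat 1, Int.ofNat 1, Int.negSucc 0, Int.negSucc 0, Int.ofNat 1, Int.ofNat 1, Int.ofNat 1, Int.ofNat 1, Int.negSucc 0, Int.negSucc 0, Int.ofNat 1, Int.ofNat 1, Int.ofNat 1, Int.negSucc 0, Int.negSucc 0, Int.ofNat 1, Int.ofNat 1, Int.ofNat 1, Int.negSucc 0, Int.ofNat 3],
  [Int.negSucc 0, Int.negSucc 0, Int.negSucc 0, Int.ofNat 1, Int.negSucc 0, Int.ofNat 1, Int.ofNat 1, Int.ofNat 1, Int.ofNat 1, Int.negSucc 0, Int.ofNat 1, Int.ofNat 1, Int.ofNat 1, Int.negSucc 0, Int.negSucc 0, Int.ofNat 1, Int.ofNat 1, Int.negSucc 0, Int.ofNat 1, Int.negSucc 0, Int.negSucc 0, Int.negSucc 0, Int.ofNat 1, Int.ofNat 3],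
  [Int.negSucc 0, Int.negSucc 0, Int.ofNat 1, Int.ofNat 1, Int.negSucc 0, Int.negSucc 0, Int.negSucc 0, Int.ofNat 1, Int.ofNat 1, Int.ofNat 1, Int.negSucc 0, Int.ofNat 1, Int.ofNat 1, Int.negSucc 0, Int.negSucc 0, Int.negSucc 0, Int.ofNat 1, Int.negSucc 0, Int.negSucc 0, Int.negSucc 0, Int.negSucc 0, Int.negSucc 0, Int.negSucc 0, Int.ofNat 3],
  [Int.ofNat 2, Int.ofNat 2, Int.ofNat 0, Int.ofNat 2, Int.ofNat 0, Int.ofNat 0, Int.ofNat 0, Int.ofNat 2, Int.ofNat 0, Int.ofNat 2, Int.ofNat 0, Int.ofNat 0, Int.ofNat 0, Int.ofNat 0, Int.ofNat 0, Int.ofNat 0, Int.ofNat 2, Int.ofNat 0, Int.negSucc 1, Int.ofNat 0, Int.ofNat 0, Int.ofNat 0, Int.ofNat 0, Int.negSucc 1],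
  [Int.ofNat 2, Int.negSucc 1, Int.ofNat 0, Int.ofNat 2, Int.ofNat 0, Int.ofNat 0, Int.ofNat 2, Int.ofNat 0, Int.ofNat 2, Int.ofNat 0, Int.ofNat 2, Int.ofNat 0, Int.ofNat 0, Int.ofNat 2, Int.ofNat 0, Int.ofNat 0, Int.ofNat 0, Int.ofNat 0, Int.ofNat 0, Int.ofNat 0, Int.ofNat 0, Int.ofNat 0, Int.ofNat 0, Int.negSucc 1],
  [Int.negSucc 2, Int.ofNat 1, Int.negSucc 0, Int.ofNat 1, Int.negSucc 0, Int.negSucc 0, Int.ofNat 1, Int.negSucc 0, Int.ofNat 1, Int.negSucc 0, Int.ofNat 1, Int.negSucc 0, Int.negSucc 0, Int.ofNat 1, Int.negSucc 0, Int.negSucc 0, Int.negSucc 0, Int.negSucc 0, Int.negSucc 0, Int.negSucc 0, Int.negSucc 0, Int.negSucc 0, Int.negSucc 0, Int.ofNat 1],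
  [Int.negSucc 0, Int.negSucc 0, Int.negSucc 0, Int.negSucc 2, Int.ofNat 1, Int.negSucc 0, Int.ofNat 1, Int.negSucc 0, Int.negSucc 0, Int.ofNat 1, Int.negSucc 0, Int.ofNat 1, Int.negSucc 0, Int.ofNat 1, Int.negSucc 0, Int.negSucc 0, Int.ofNat 1, Int.negSucc 0, Int.negSucc 0, Int.negSucc 0, Int.negSucc 0, Int.negSucc 0, Int.negSucc 0, Int.ofNat 1],
  [Int.ofNat 0, Int.ofNat 0, Int.ofNat 0, Int.ofNat 0, Int.ofNat 0, Int.ofNat 2, Int.ofNat 2, Int.ofNat 0, Int.ofNat 0, Int.ofNat 2, Int.ofNat 0, Int.ofNat 2, Int.ofNat 0, Int.ofNat 0, Int.ofNat 2, Int.ofNat 0, Int.ofNat 0, Int.ofNat 2, Int.ofNat 0, Int.ofNat 0, Int.ofNat 0, Int.ofNat 0, Int.negSucc 1, Int.negSucc 1],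
  [Int.ofNat 0, Int.ofNat 0, Int.ofNat 0, Int.ofNat 0, Int.ofNat 2, Int.ofNat 2, Int.ofNat 0, Int.ofNat 0, Int.ofNat 2, Int.ofNat 0, Int.ofNat 2, Int.ofNat 0, Int.ofNat 0, Int.ofNat 2, Int.ofNat 0, Int.ofNat 0, Int.ofNat 2, Int.ofNat 0, Int.ofNat 0, Int.ofNat 0, Int.ofNat 0, Int.negSucc 1, Int.ofNat 0, Int.negSucc 1],
  [Int.ofNat 0, Int.ofNat 0, Int.ofNat 0, Int.ofNat 0, Int.ofNat 2, Int.ofNat 2, Int.ofNat 0, Int.ofNat 0, Int.ofNat 2, Int.ofNat 0, Int.negSucc 1, Int.ofNat 0, Int.ofNat 0, Int.ofNat 2, Int.ofNat 0, Int.ofNat 0, Int.ofNat 2, Int.ofNat 0, Int.ofNat 0, Int.ofNat 0, Int.ofNat 0, Int.ofNat 2, Int.ofNat 0, Int.negSucc 1],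
  [Int.ofNat 0, Int.ofNat 0, Int.ofNat 0, Int.ofNat 0, Int.negSucc 1, Int.ofNat 2, Int.ofNat 0, Int.ofNat 0, Int.negSucc 1, Int.ofNat 0, Int.negSucc 1, Int.ofNat 0, Int.ofNat 0, Int.negSucc 1, Int.ofNat 0, Int.ofNat 0, Int.negSucc 1, Int.ofNat 0, Int.ofNat 0, Int.ofNat 0, Int.ofNat 0, Int.ofNat 2, Int.ofNat 0, Int.negSucc 1],
  [Int.ofNat 0, Int.ofNat 0, Int.ofNat 0, Int.ofNat 0, Int.ofNat 0, Int.negSucc 1, Int.negSucc 1, Int.ofNat 0, Int.ofNat 0, Int.negSucc 1, Int.ofNat 2, Int.ofNat 0, Int.negSucc 1, Int.negSucc 1, Int.ofNat 0, Int.ofNat 0, Int.ofNat 0, Int.ofNat 0, Int.ofNat 0, Int.ofNat 0, Int.ofNat 2, Int.ofNat 0, Int.ofNat 0, Int.negSucc 1],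
  [Int.ofNat 0, Int.ofNat 0, Int.ofNat 0, Int.ofNat 0, Int.ofNat 0, Int.negSucc 1, Int.negSucc 1, Int.ofNat 0, Int.ofNat 0, Int.ofNat 2, Int.negSucc 1, Int.ofNat 0, Int.negSucc 1, Int.negSucc 1, Int.ofNat 0, Int.ofNat 0, Int.ofNat 0, Int.ofNat 0, Int.ofNat 0, Int.ofNat 0, Int.ofNat 2, Int.ofNat 0, Int.ofNat 0, Int.negSucc 1],
  [Int.ofNat 0, Int.ofNat 0, Int.ofNat 0, Int.ofNat 0, Int.ofNat 0, Int.ofNat 0, Int.negSucc 1, Int.negSucc 1, Int.ofNat 0, Int.ofNat 0, Int.ofNat 2, Int.negSucc 1, Int.ofNat 0, Int.negSucc 1, Int.negSucc 1, Int.ofNat 0, Int.ofNat 0, Int.ofNat 0, Int.ofNat 0, Int.ofNat 0, Int.ofNat 0, Int.ofNat 2, Int.ofNat 0, Int.negSucc 1],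
  [Int.negSucc 0, Int.negSucc 0, Int.negSucc 0, Int.ofNat 1, Int.ofNat 1, Int.ofNat 1, Int.negSucc 0, Int.negSucc 0, Int.ofNat 1, Int.negSucc 0, Int.ofNat 1, Int.negSucc 0, Int.ofNat 1, Int.negSucc 0, Int.negSucc 0, Int.negSucc 0, Int.ofNat 1, Int.ofNat 1, Int.ofNat 1, Int.ofNat 1, Int.negSucc 0, Int.ofNat 3, Int.ofNat 1, Int.ofNat 1],
  [Int.ofNat 1, Int.ofNat 1, Int.ofNat 1, Int.negSucc 0, Int.negSucc 0, Int.ofNat 1, Int.negSucc 0, Int.ofNat 1, Int.negSucc 0, Int.ofNat 1, Int.negSucc 0, Int.negSucc 0, Int.negSucc 0, Int.ofNat 1, Int.ofNat 1, Int.ofNat 1, Int.ofNat 1, Int.negSucc 0, Int.ofNat 3, Int.ofNat 1, Int.negSucc 0, Int.negSucc 0, Int.negSucc 0, Int.ofNat 1],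
  [Int.ofNat 1, Int.ofNat 1, Int.ofNat 1, Int.negSucc 0, Int.negSucc 0, Int.ofNat 1, Int.negSucc 0, Int.ofNat 1, Int.negSucc 0, Int.ofNat 1, Int.negSucc 0, Int.negSucc 0, Int.negSucc 0, Int.ofNat 1, Int.ofNat 1, Int.ofNat 1, Int.ofNat 1, Int.negSucc 0, Int.ofNat 3, Int.ofNat 1, Int.negSucc 0, Int.negSucc 0, Int.negSucc 0, Int.ofNat 1],
  [Int.ofNat 1, Int.negSucc 0, Int.negSucc 0, Int.negSucc 0, Int.ofNat 3, Int.ofNat 1, Int.ofNat 1, Int.negSucc 0, Int.negSucc 0, Int.ofNat 1, Int.negSucc 0, Int.negSucc 0, Int.ofNat 1, Int.ofNat 1, Int.negSucc 0, Int.ofNat 1, Int.negSucc 0, Int.ofNat 1, Int.ofNat 1, Int.negSucc 0, Int.negSucc 0, Int.ofNat 1, Int.ofNat 1, Int.ofNat 1],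
  [Int.negSucc 0, Int.ofNat 1, Int.ofNat 1, Int.negSucc 0, Int.ofNat 1, Int.ofNat 1, Int.ofNat 1, Int.negSucc 0, Int.negSucc 0, Int.ofNat 1, Int.negSucc 0, Int.negSucc 0, Int.ofNat 1, Int.negSucc 0, Int.negSucc 0, Int.ofNat 1, Int.negSucc 2, Int.ofNat 1, Int.ofNat 1, Int.negSucc 0, Int.negSucc 0, Int.ofNat 1, Int.negSucc 0, Int.negSucc 0],
  [Int.negSucc 0, Int.ofNat 1, Int.negSucc 0, Int.negSucc 0, Int.ofNat 1, Int.negSucc 0, Int.negSucc 0, Int.negSucc 0, Int.negSucc 0, Int.negSucc 0, Int.ofNat 1, Int.negSucc 0, Int.ofNat 1, Int.negSucc 0, Int.negSucc 0, Int.negSucc 0, Int.negSucc 2, Int.ofNat 1, Int.negSucc 0, Int.negSucc 0, Int.negSucc 0, Int.ofNat 1, Int.ofNat 1, Int.negSucc 0],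
  [Int.ofNat 1, Int.negSucc 2, Int.negSucc 0, Int.negSucc 0, Int.negSucc 0, Int.negSucc 0, Int.ofNat 1, Int.negSucc 0, Int.negSucc 0, Int.negSucc 0, Int.negSucc 0, Int.negSucc 0, Int.negSucc 0, Int.ofNat 1, Int.ofNat 1, Int.negSucc 0, Int.negSucc 0, Int.ofNat 1, Int.negSucc 0, Int.negSucc 0, Int.negSucc 0, Int.ofNat 1, Int.ofNat 1, Int.negSucc 0],
  [Int.negSucc 0, Int.ofNat 1, Int.negSucc 0, Int.negSucc 0, Int.ofNat 1, Int.negSucc 0, Int.negSucc 0, Int.ofNat 1, Int.negSucc 0, Int.negSucc 0, Int.negSucc 0, Int.negSucc 0, Int.ofNat 1, Int.negSucc 0, Int.negSucc 0, Int.negSucc 0, Int.negSucc 0, Int.negSucc 0, Int.ofNat 1, Int.ofNat 1, Int.negSucc 0, Int.negSucc 0, Int.negSucc 2, Int.ofNat 1],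
  [Int.ofNat 1, Int.ofNat 1, Int.ofNat 1, Int.negSucc 0, Int.ofNat 1, Int.negSucc 0, Int.negSucc 0, Int.negSucc 0, Int.negSucc 0, Int.ofNat 1, Int.ofNat 1, Int.ofNat 1, Int.ofNat 1, Int.negSucc 0, Int.negSucc 0, Int.negSucc 0, Int.negSucc 0, Int.negSucc 0, Int.negSucc 0, Int.ofNat 1, Int.negSucc 0, Int.ofNat 1, Int.negSucc 2, Int.ofNat 1],
  [Int.negSucc 2, Int.ofNat 1, Int.ofNat 1, Int.ofNat 1, Int.negSucc 0, Int.ofNat 1, Int.negSucc 0, Int.negSucc 0, Int.negSucc 0, Int.negSucc 0, Int.ofNat 1, Int.ofNat 1, Int.ofNat 1, Int.ofNat 1, Int.negSucc 0, Int.negSucc 0, Int.negSucc 0, Int.negSucc 0, Int.negSucc 0, Int.negSucc 0, Int.ofNat 1, Int.negSucc 0, Int.ofNat 1, Int.ofNat 1],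
  [Int.ofNat 3, Int.negSucc 0, Int.negSucc 0, Int.ofNat 1, Int.negSucc 0, Int.ofNat 1, Int.ofNat 1, Int.ofNat 1, Int.negSucc 0, Int.negSucc 0, Int.ofNat 1, Int.ofNat 1, Int.ofNat 1, Int.ofNat 1, Int.negSucc 0, Int.negSucc 0, Int.negSucc 0, Int.negSucc 0, Int.negSucc 0, Int.ofNat 1, Int.ofNat 1, Int.ofNat 1, Int.ofNat 1, Int.negSucc 0],
  [Int.ofNat 1, Int.negSucc 0, Int.ofNat 1, Int.ofNat 1, Int.ofNat 1, Int.negSucc 0, Int.negSucc 0, Int.ofNat 1, Int.ofNat 1, Int.ofNat 1, Int.ofNat 1, Int.negSucc 0, Int.negSucc 0, Int.negSucc 0, Int.negSucc 0, Int.negSucc 0, Int.ofNat 1, Int.ofNat 1, Int.ofNat 1, Int.ofNat 1, Int.ofNat 3, Int.negSucc 0, Int.negSucc 0, Int.negSucc 0],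
  [Int.negSucc 0, Int.ofNat 1, Int.negSucc 0, Int.ofNat 1, Int.ofNat 1, Int.negSucc 0, Int.negSucc 0, Int.ofNat 1, Int.ofNat 1, Int.negSucc 0, Int.negSucc 0, Int.negSucc 0, Int.negSucc 0, Int.negSucc 0, Int.negSucc 0, Int.negSucc 2, Int.ofNat 1, Int.ofNat 1, Int.ofNat 1, Int.ofNat 1, Int.ofNat 1, Int.negSucc 0, Int.negSucc 0, Int.ofNat 1],
  [Int.negSucc 0, Int.negSucc 0, Int.ofNat 1, Int.ofNat 1, Int.ofNat 1, Int.ofNat 1, Int.negSucc 0, Int.negSucc 0, Int.negSucc 0, Int.negSucc 0, Int.ofNat 1, Int.ofNat 1, Int.negSucc 0, Int.ofNat 1, Int.negSucc 0, Int.negSucc 2, Int.ofNat 1, Int.negSucc 0, Int.ofNat 1, Int.negSucc 0, Int.negSucc 0, Int.negSucc 0, Int.ofNat 1, Int.ofNat 1],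
  [Int.ofNat 1, Int.ofNat 1, Int.negSucc 0, Int.ofNat 1, Int.negSucc 0, Int.ofNat 1, Int.ofNat 1, Int.ofNat 1, Int.negSucc 0, Int.ofNat 1, Int.ofNat 3, Int.ofNat 1, Int.negSucc 0, Int.negSucc 0, Int.negSucc 0, Int.negSucc 0, Int.negSucc 0, Int.negSucc 0, Int.ofNat 1, Int.ofNat 1, Int.ofNat 1, Int.ofNat 1, Int.negSucc 0, Int.negSucc 0],
  [Int.ofNat 1, Int.ofNat 1, Int.ofNat 1, Int.ofNat 1, Int.negSucc 0, Int.negSucc 0, Int.negSucc 0, Int.ofNat 1, Int.negSucc 0, Int.negSucc 0, Int.negSucc 2, Int.ofNat 1, Int.negSucc 0, Int.negSucc 0, Int.negSucc 0, Int.ofNat 1, Int.negSucc 0, Int.negSucc 0, Int.negSucc 0, Int.ofNat 1, Int.ofNat 1, Int.ofNat 1, Int.ofNat 1, Int.negSucc 0],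
  [Int.ofNat 1, Int.ofNat 1, Int.ofNat 1, Int.negSucc 0, Int.negSucc 0, Int.ofNat 1, Int.ofNat 1, Int.ofNat 1, Int.negSucc 0, Int.ofNat 1, Int.negSucc 0, Int.negSucc 0, Int.negSucc 0, Int.ofNat 1, Int.negSucc 0, Int.negSucc 0, Int.ofNat 1, Int.negSucc 0, Int.ofNat 1, Int.negSucc 0, Int.negSucc 0, Int.ofNat 1, Int.negSucc 2, Int.negSucc 0],
  [Int.ofNat 1, Int.ofNat 1, Int.negSucc 0, Int.negSucc 0, Int.negSucc 0, Int.negSucc 0, Int.negSucc 0, Int.ofNat 1, Int.negSucc 0, Int.negSucc 0, Int.ofNat 1, Int.negSucc 0, Int.negSucc 0, Int.ofNat 1, Int.negSucc 0, Int.ofNat 1, Int.ofNat 1, Int.negSucc 0, Int.negSucc 0, Int.negSucc 0, Int.negSucc 0, Int.ofNat 1, Int.ofNat 3, Int.negSucc 0],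
  [Int.negSucc 0, Int.negSucc 0, Int.ofNat 1, Int.ofNat 1, Int.negSucc 2, Int.ofNat 1, Int.negSucc 0, Int.ofNat 1, Int.ofNat 1, Int.negSucc 0, Int.ofNat 1, Int.ofNat 1, Int.ofNat 1, Int.negSucc 0, Int.ofNat 1, Int.ofNat 1, Int.negSucc 0, Int.ofNat 1, Int.ofNat 1, Int.negSucc 0, Int.negSucc 0, Int.ofNat 1, Int.ofNat 1, Int.ofNat 1],
  [Int.negSucc 0, Int.ofNat 1, Int.negSucc 0, Int.ofNat 1, Int.ofNat 1, Int.ofNat 1, Int.negSucc 0, Int.ofNat 1, Int.negSucc 0, Int.ofNat 1, Int.ofNat 1, Int.negSucc 0, Int.ofNat 1, Int.negSucc 0, Int.ofNat 1, Int.ofNat 1, Int.negSucc 0, Int.ofNat 1, Int.negSucc 2, Int.ofNat 1, Int.ofNat 1, Int.negSucc 0, Int.ofNat 1, Int.ofNat 1],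
  [Int.ofNat 1, Int.negSucc 0, Int.ofNat 1, Int.negSucc 0, Int.ofNat 1, Int.negSucc 0, Int.negSucc 0, Int.ofNat 1, Int.ofNat 1, Int.negSucc 0, Int.negSucc 0, Int.ofNat 1, Int.ofNat 3, Int.negSucc 0, Int.negSucc 0, Int.negSucc 0, Int.negSucc 0, Int.negSucc 0, Int.negSucc 0, Int.ofNat 1, Int.negSucc 0, Int.negSucc 0, Int.ofNat 1, Int.negSucc 0],
  [Int.negSucc 0, Int.negSucc 0, Int.ofNat 1, Int.ofNat 1, Int.negSucc 0, Int.ofNat 1, Int.negSucc 0, Int.ofNat 1, Int.negSucc 0, Int.negSucc 0, Int.ofNat 1, Int.ofNat 1, Int.negSucc 0, Int.negSucc 0, Int.ofNat 1, Int.ofNat 3, Int.negSucc 0, Int.negSucc 0, Int.negSucc 0, Int.negSucc 0, Int.negSucc 0, Int.negSucc 0, Int.ofNat 1, Int.negSucc 0],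
  [Int.ofNat 0, Int.ofNat 0, Int.negSucc 1, Int.ofNat 0, Int.ofNat 0, Int.ofNat 0, Int.ofNat 0, Int.ofNat 2, Int.ofNat 0, Int.negSucc 1, Int.ofNat 0, Int.ofNat 2, Int.ofNat 0, Int.ofNat 0, Int.ofNat 0, Int.ofNat 2, Int.ofNat 0, Int.negSucc 1, Int.ofNat 0, Int.ofNat 0, Int.negSucc 1, Int.ofNat 0, Int.ofNat 2, Int.ofNat 0],
  [Int.ofNat 0, Int.negSucc 1, Int.ofNat 0, Int.ofNat 0, Int.ofNat 0, Int.ofNat 0, Int.ofNat 2, Int.ofNat 0, Int.negSucc 1, Int.ofNat 0, Int.ofNat 2, Int.ofNat 0, Int.ofNat 0, Int.ofNat 0, Int.ofNat 2, Int.ofNat 0, Int.negSucc 1, Int.ofNat 0, Int.ofNat 0, Int.negSucc 1, Int.ofNat 0, Int.ofNat 2, Int.ofNat 0, Int.ofNat 0],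
  [Int.ofNat 0, Int.negSucc 1, Int.ofNat 0, Int.ofNat 0, Int.ofNat 0, Int.ofNat 0, Int.ofNat 2, Int.ofNat 0, Int.negSucc 1, Int.ofNat 0, Int.negSucc 1, Int.ofNat 0, Int.ofNat 0, Int.ofNat 0, Int.ofNat 2, Int.ofNat 0, Int.negSucc 1, Int.ofNat 0, Int.ofNat 0, Int.negSucc 1, Int.ofNat 0, Int.negSucc 1, Int.ofNat 0, Int.ofNat 0]]

set_option maxRecDepth 100000 in
theorem c1te21_chk : pmChk (List.replicate 14 [21, 0, 26, 25]).flatten nxL c1te21M 0 0 = true := by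
  decide +kernel

theorem c1te21_ne : wE letE2 (List.replicate 14 [21, 0, 26, 25]).flatten ≠ 1 ∧ wE letE2 (List.replicate 14 [21, 0, 26, 25]).flatten ≠ negElt :=
  ne_pm_of_chk nxL_mem c1te21_chk

set_option maxRecDepth 100000 in
def c1te22M : List (List ℤ) :=
  [[Int.ofNat 4, Int.ofNat 0, Int.ofNat 0, Int.ofNat 0, Int.ofNat 0, Int.ofNat 0, Int.ofNat 0, Int.ofNat 0, Int.ofNat 0, Int.ofNat 0, Int.ofNat 0, Int.ofNat 0, Int.ofNat 0, Int.ofNat 0, Int.ofNat 0, Int.ofNat 0, Int.ofNat 0, Int.ofNat 0, Int.ofNat 0, Int.ofNat 0, Int.ofNat 0, Int.ofNat 0, Int.ofNat 0, Int.ofNat 4],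
  [Int.ofNat 4, Int.ofNat 0, Int.ofNat 0, Int.ofNat 0, Int.ofNat 0, Int.ofNat 0, Int.ofNat 0, Int.ofNat 0, Int.ofNat 0, Int.ofNat 0, Int.ofNat 0, Int.ofNat 0, Int.ofNat 0, Int.ofNat 0, Int.ofNat 0, Int.ofNat 0, Int.ofNat 0, Int.ofNat 0, Int.ofNat 0, Int.ofNat 0, Int.ofNat 0, Int.ofNat 0, Int.ofNat 0, Int.ofNat 4],
  [Int.negSucc 3, Int.ofNat 0, Int.ofNat 0, Int.ofNat 0, Int.ofNat 0, Int.ofNat 0, Int.ofNat 0, Int.ofNat 0, Int.ofNat 0, Int.ofNat 0, Int.ofNat 0, Int.ofNat 0, Int.ofNat 0, Int.ofNat 0, Int.ofNat 0, Int.ofNat 0, Int.ofNat 0, Int.ofNat 0, Int.ofNat 0, Int.ofNat 0, Int.ofNat 0, Int.ofNat 0, Int.ofNat 0, Int.ofNat 4],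
  [Int.ofNat 0, Int.negSucc 3, Int.ofNat 0, Int.ofNat 0, Int.ofNat 0, Int.ofNat 0, Int.ofNat 0, Int.ofNat 0, Int.ofNat 0, Int.ofNat 0, Int.ofNat 0, Int.ofNat 0, Int.ofNat 0, Int.ofNat 0, Int.ofNat 0, Int.ofNat 0, Int.ofNat 0, Int.ofNat 0, Int.ofNat 0, Int.ofNat 0, Int.ofNat 0, Int.ofNat 0, Int.ofNat 0, Int.ofNat 4],
  [Int.ofNat 0, Int.ofNat 4, Int.ofNat 0, Int.ofNat 0, Int.ofNat 0, Int.ofNat 0, Int.ofNat 0, Int.ofNat 0, Int.ofNat 0, Int.ofNat 0, Int.ofNat 0, Int.ofNat 0, Int.ofNat 0, Int.ofNat 0, Int.ofNat 0, Int.ofNat 0, Int.ofNat 0, Int.ofNat 0, Int.ofNat 0, Int.ofNat 0, Int.ofNat 0, Int.ofNat 0, Int.ofNat 0, Int.negSucc 3],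
  [Int.ofNat 0, Int.ofNat 0, Int.ofNat 0, Int.ofNat 0, Int.ofNat 0, Int.ofNat 0, Int.ofNat 0, Int.ofNat 0, Int.ofNat 0, Int.ofNat 0, Int.ofNat 0, Int.ofNat 0, Int.ofNat 0, Int.ofNat 0, Int.ofNat 0, Int.ofNat 0, Int.ofNat 0, Int.ofNat 0, Int.ofNat 0, Int.ofNat 0, Int.ofNat 0, Int.ofNat 4, Int.ofNat 0, Int.negSucc 3],
  [Int.negSucc 1, Int.negSucc 1, Int.negSucc 1, Int.ofNat 0, Int.ofNat 0, Int.ofNat 0, Int.negSucc 1, Int.negSucc 1, Int.ofNat 0, Int.ofNat 0, Int.ofNat 0, Int.ofNat 0, Int.ofNat 0, Int.ofNat 0, Int.ofNat 0, Int.ofNat 0, Int.ofNat 0, Int.ofNat 0, Int.ofNat 0, Int.negSucc 1, Int.ofNat 0, Int.ofNat 2, Int.ofNat 0, Int.ofNat 2],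
  [Int.negSucc 1, Int.negSucc 1, Int.ofNat 0, Int.ofNat 0, Int.ofNat 0, Int.negSucc 1, Int.negSucc 1, Int.ofNat 0, Int.ofNat 0, Int.ofNat 0, Int.ofNat 0, Int.ofNat 0, Int.ofNat 0, Int.ofNat 0, Int.ofNat 0, Int.ofNat 0, Int.ofNat 0, Int.ofNat 0, Int.negSucc 1, Int.ofNat 0, Int.ofNat 2, Int.ofNat 0, Int.negSucc 1, Int.ofNat 2],
  [Int.ofNat 1, Int.ofNat 1, Int.negSucc 0, Int.ofNat 1, Int.ofNat 1, Int.negSucc 0, Int.negSucc 0, Int.ofNat 1, Int.ofNat 1, Int.negSucc 0, Int.negSucc 0, Int.ofNat 1, Int.ofNat 1, Int.ofNat 1, Int.ofNat 1, Int.negSucc 0, Int.ofNat 1, Int.ofNat 1, Int.negSucc 0, Int.ofNat 1, Int.ofNat 1, Int.ofNat 1, Int.negSucc 0, Int.negSucc 2],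
  [Int.ofNat 1, Int.ofNat 1, Int.ofNat 1, Int.ofNat 1, Int.ofNat 1, Int.ofNat 1, Int.ofNat 1, Int.ofNat 1, Int.ofNat 1, Int.ofNat 1, Int.ofNat 1, Int.ofNat 1, Int.ofNat 1, Int.ofNat 1, Int.ofNat 1, Int.ofNat 1, Int.ofNat 1, Int.ofNat 1, Int.ofNat 1, Int.ofNat 1, Int.ofNat 1, Int.ofNat 1, Int.ofNat 1, Int.negSucc 2],
  [Int.ofNat 1, Int.ofNat 1, Int.ofNat 1, Int.ofNat 1, Int.ofNat 1, Int.ofNat 1, Int.ofNat 1, Int.ofNat 1, Int.ofNat 1, Int.ofNat 1, Int.ofNat 1, Int.ofNat 1, Int.ofNat 1, Int.ofNat 1, Int.ofNat 1, Int.ofNat 1, Int.ofNat 1, Int.ofNat 1, Int.ofNat 1, Int.ofNat 1, Int.ofNat 1, Int.ofNat 1, Int.ofNat 1, Int.negSucc 2],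
  [Int.negSucc 2, Int.ofNat 1, Int.ofNat 1, Int.ofNat 1, Int.ofNat 1, Int.ofNat 1, Int.ofNat 1, Int.ofNat 1, Int.ofNat 1, Int.ofNat 1, Int.ofNat 1, Int.ofNat 1, Int.ofNat 1, Int.ofNat 1, Int.ofNat 1, Int.ofNat 1, Int.ofNat 1, Int.ofNat 1, Int.ofNat 1, Int.ofNat 1, Int.ofNat 1, Int.ofNat 1, Int.ofNat 1, Int.ofNat 1],
  [Int.ofNat 3, Int.ofNat 1, Int.negSucc 0, Int.ofNat 1, Int.ofNat 1, Int.ofNat 1, Int.ofNat 1, Int.negSucc 0, Int.ofNat 1, Int.negSucc 0, Int.negSucc 0, Int.negSucc 0, Int.ofNat 1, Int.ofNat 1, Int.ofNat 1, Int.ofNat 1, Int.ofNat 1, Int.ofNat 1, Int.negSucc 0, Int.ofNat 1, Int.ofNat 1, Int.negSucc 0, Int.ofNat 1, Int.ofNat 1],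
  [Int.ofNat 1, Int.ofNat 3, Int.ofNat 1, Int.negSucc 0, Int.ofNat 1, Int.ofNat 1, Int.ofNat 1, Int.ofNat 1, Int.negSucc 0, Int.ofNat 1, Int.negSucc 0, Int.negSucc 0, Int.negSucc 0, Int.ofNat 1, Int.ofNat 1, Int.ofNat 1, Int.ofNat 1, Int.ofNat 1, Int.ofNat 1, Int.negSucc 0, Int.ofNat 1, Int.ofNat 1, Int.negSucc 0, Int.ofNat 1],
  [Int.ofNat 2, Int.ofNat 0, Int.ofNat 2, Int.negSucc 1, Int.ofNat 0, Int.ofNat 0, Int.ofNat 0, Int.ofNat 0, Int.ofNat 0, Int.ofNat 0, Int.negSucc 1, Int.ofNat 0, Int.ofNat 0, Int.ofNat 0, Int.ofNat 0, Int.ofNat 0, Int.ofNat 0, Int.ofNat 0, Int.ofNat 2, Int.negSucc 1, Int.ofNat 0, Int.ofNat 0, Int.negSucc 1, Int.ofNat 2],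
  [Int.negSucc 1, Int.ofNat 0, Int.ofNat 0, Int.ofNat 0, Int.ofNat 0, Int.ofNat 0, Int.ofNat 0, Int.negSucc 1, Int.ofNat 0, Int.ofNat 0, Int.ofNat 0, Int.ofNat 0, Int.ofNat 0, Int.ofNat 0, Int.ofNat 0, Int.ofNat 2, Int.negSucc 1, Int.ofNat 0, Int.ofNat 0, Int.negSucc 1, Int.ofNat 2, Int.ofNat 0, Int.ofNat 2, Int.ofNat 2],
  [Int.ofNat 2, Int.ofNat 0, Int.ofNat 0, Int.ofNat 0, Int.ofNat 0, Int.ofNat 0, Int.ofNat 2, Int.ofNat 0, Int.ofNat 0, Int.negSucc 1, Int.negSucc 1, Int.ofNat 0, Int.ofNat 0, Int.ofNat 0, Int.ofNat 0, Int.ofNat 0, Int.negSucc 1, Int.ofNat 0, Int.ofNat 0, Int.ofNat 0, Int.ofNat 0, Int.ofNat 2, Int.ofNat 2, Int.negSucc 1],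
  [Int.ofNat 2, Int.ofNat 2, Int.ofNat 0, Int.ofNat 0, Int.ofNat 0, Int.ofNat 0, Int.ofNat 0, Int.negSucc 1, Int.ofNat 0, Int.ofNat 0, Int.ofNat 0, Int.ofNat 0, Int.negSucc 1, Int.negSucc 1, Int.ofNat 2, Int.ofNat 0, Int.ofNat 0, Int.ofNat 0, Int.ofNat 0, Int.ofNat 0, Int.ofNat 2, Int.ofNat 0, Int.ofNat 0, Int.negSucc 1],
  [Int.negSucc 0, Int.negSucc 0, Int.ofNat 1, Int.negSucc 0, Int.ofNat 1, Int.negSucc 0, Int.ofNat 1, Int.negSucc 0, Int.ofNat 1, Int.negSucc 0, Int.negSucc 0, Int.ofNat 1, Int.negSucc 0, Int.negSucc 0, Int.ofNat 1, Int.negSucc 0, Int.ofNat 1, Int.negSucc 0, Int.ofNat 1, Int.ofNat 1, Int.ofNat 1, Int.ofNat 1, Int.ofNat 1, Int.ofNat 3],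
  [Int.negSucc 0, Int.negSucc 0, Int.negSucc 0, Int.negSucc 0, Int.ofNat 1, Int.ofNat 1, Int.negSucc 0, Int.negSucc 0, Int.ofNat 1, Int.ofNat 1, Int.ofNat 1, Int.ofNat 1, Int.negSucc 0, Int.negSucc 0, Int.ofNat 1, Int.ofNat 1, Int.ofNat 1, Int.negSucc 0, Int.negSucc 0, Int.ofNat 1, Int.ofNat 1, Int.ofNat 1, Int.negSucc 0, Int.ofNat 3],
  [Int.ofNat 1, Int.negSucc 0, Int.ofNat 1, Int.negSucc 0, Int.ofNat 1, Int.negSucc 0, Int.negSucc 0, Int.ofNat 1, Int.negSucc 0, Int.negSucc 0, Int.ofNat 1, Int.negSucc 0, Int.ofNat 1, Int.negSucc 0, Int.ofNat 1, Int.ofNat 1, Int.ofNat 1, Int.ofNat 1, Int.ofNat 1, Int.negSucc 0, Int.negSucc 0, Int.ofNat 1, Int.negSucc 0, Int.ofNat 3],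
  [Int.ofNat 1, Int.negSucc 0, Int.negSucc 0, Int.negSucc 0, Int.ofNat 1, Int.ofNat 1, Int.ofNat 1, Int.ofNat 1, Int.negSucc 0, Int.ofNat 1, Int.negSucc 0, Int.negSucc 0, Int.ofNat 1, Int.negSucc 0, Int.ofNat 1, Int.negSucc 0, Int.ofNat 1, Int.ofNat 1, Int.negSucc 0, Int.negSucc 0, Int.negSucc 0, Int.ofNat 1, Int.ofNat 1, Int.ofNat 3],
  [Int.ofNat 0, Int.ofNat 2, Int.ofNat 2, Int.negSucc 1, Int.ofNat 0, Int.ofNat 0, Int.ofNat 0, Int.ofNat 0, Int.ofNat 0, Int.ofNat 2, Int.ofNat 0, Int.ofNat 0, Int.ofNat 2, Int.negSucc 1, Int.ofNat 0, Int.ofNat 0, Int.ofNat 0, Int.ofNat 0, Int.ofNat 0, Int.negSucc 1, Int.ofNat 0, Int.ofNat 0, Int.ofNat 0, Int.negSucc 1],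
  [Int.ofNat 0, Int.ofNat 0, Int.ofNat 0, Int.negSucc 1, Int.ofNat 2, Int.ofNat 0, Int.ofNat 2, Int.ofNat 0, Int.ofNat 0, Int.ofNat 2, Int.ofNat 0, Int.negSucc 1, Int.ofNat 0, Int.ofNat 2, Int.ofNat 0, Int.ofNat 0, Int.negSucc 1, Int.ofNat 0, Int.ofNat 0, Int.ofNat 0, Int.ofNat 0, Int.ofNat 0, Int.ofNat 0, Int.negSucc 1],
  [Int.negSucc 0, Int.negSucc 0, Int.negSucc 0, Int.negSucc 0, Int.ofNat 1, Int.ofNat 1, Int.ofNat 1, Int.negSucc 0, Int.ofNat 1, Int.ofNat 1, Int.negSucc 0, Int.negSucc 0, Int.ofNat 1, Int.ofNat 1, Int.ofNat 1, Int.negSucc 0, Int.negSucc 2, Int.ofNat 1, Int.ofNat 1, Int.negSucc 0, Int.negSucc 0, Int.negSucc 0, Int.negSucc 0, Int.ofNat 1],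
  [Int.negSucc 0, Int.negSucc 0, Int.negSucc 0, Int.negSucc 0, Int.negSucc 0, Int.negSucc 0, Int.negSucc 0, Int.ofNat 1, Int.ofNat 1, Int.ofNat 1, Int.negSucc 0, Int.ofNat 1, Int.ofNat 1, Int.negSucc 0, Int.negSucc 0, Int.ofNat 1, Int.ofNat 1, Int.ofNat 1, Int.negSucc 0, Int.negSucc 2, Int.ofNat 1, Int.ofNat 1, Int.negSucc 0, Int.ofNat 1],
  [Int.ofNat 0, Int.ofNat 0, Int.ofNat 0, Int.ofNat 0, Int.ofNat 0, Int.ofNat 0, Int.ofNat 0, Int.ofNat 2, Int.ofNat 0, Int.ofNat 0, Int.negSucc 1, Int.ofNat 0, Int.ofNat 0, Int.ofNat 0, Int.ofNat 0, Int.ofNat 0, Int.ofNat 2, Int.ofNat 2, Int.negSucc 1, Int.negSucc 1, Int.ofNat 0, Int.ofNat 2, Int.ofNat 0, Int.negSucc 1],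
  [Int.ofNat 0, Int.ofNat 0, Int.ofNat 0, Int.ofNat 0, Int.ofNat 0, Int.ofNat 0, Int.ofNat 2, Int.ofNat 0, Int.ofNat 0, Int.negSucc 1, Int.ofNat 0, Int.ofNat 0, Int.ofNat 0, Int.ofNat 0, Int.ofNat 0, Int.ofNat 2, Int.ofNat 2, Int.negSucc 1, Int.negSucc 1, Int.ofNat 0, Int.ofNat 2, Int.ofNat 0, Int.ofNat 0, Int.negSucc 1],
  [Int.ofNat 0, Int.ofNat 0, Int.ofNat 0, Int.ofNat 0, Int.ofNat 0, Int.ofNat 0, Int.ofNat 2, Int.ofNat 0, Int.ofNat 0, Int.ofNat 2, Int.ofNat 0, Int.ofNat 0, Int.ofNat 0, Int.ofNat 0, Int.ofNat 0, Int.ofNat 2, Int.ofNat 2, Int.negSucc 1, Int.ofNat 2, Int.ofNat 0, Int.ofNat 2, Int.ofNat 0, Int.ofNat 0, Int.negSucc 1],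
  [Int.ofNat 0, Int.ofNat 0, Int.ofNat 0, Int.ofNat 0, Int.ofNat 0, Int.ofNat 0, Int.negSucc 1, Int.ofNat 0, Int.ofNat 0, Int.negSucc 1, Int.ofNat 0, Int.ofNat 0, Int.ofNat 0, Int.ofNat 0, Int.ofNat 0, Int.ofNat 2, Int.negSucc 1, Int.negSucc 1, Int.negSucc 1, Int.ofNat 0, Int.ofNat 2, Int.ofNat 0, Int.ofNat 0, Int.negSucc 1],
  [Int.ofNat 0, Int.ofNat 0, Int.negSucc 1, Int.ofNat 0, Int.ofNat 0, Int.ofNat 0, Int.ofNat 0, Int.ofNat 2, Int.negSucc 1, Int.negSucc 1, Int.ofNat 0, Int.ofNat 0, Int.ofNat 0, Int.ofNat 0, Int.ofNat 0, Int.ofNat 2, Int.ofNat 0, Int.ofNat 0, Int.negSucc 1, Int.negSucc 1, Int.ofNat 0, Int.ofNat 0, Int.ofNat 0, Int.negSucc 1],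
  [Int.ofNat 0, Int.ofNat 0, Int.ofNat 2, Int.ofNat 0, Int.ofNat 0, Int.ofNat 0, Int.ofNat 0, Int.negSucc 1, Int.negSucc 1, Int.ofNat 2, Int.ofNat 0, Int.ofNat 0, Int.ofNat 0, Int.ofNat 0, Int.ofNat 0, Int.ofNat 2, Int.ofNat 0, Int.ofNat 0, Int.ofNat 2, Int.negSucc 1, Int.ofNat 0, Int.ofNat 0, Int.ofNat 0, Int.negSucc 1],
  [Int.ofNat 0, Int.ofNat 0, Int.ofNat 0, Int.ofNat 2, Int.ofNat 0, Int.ofNat 0, Int.ofNat 0, Int.ofNat 0, Int.negSucc 1, Int.negSucc 1, Int.ofNat 2, Int.ofNat 0, Int.ofNat 0, Int.ofNat 0, Int.ofNat 0, Int.ofNat 0, Int.ofNat 2, Int.ofNat 0, Int.ofNat 0, Int.ofNat 2, Int.negSucc 1, Int.ofNat 0, Int.ofNat 0, Int.negSucc 1],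
  [Int.negSucc 0, Int.negSucc 0, Int.negSucc 0, Int.ofNat 1, Int.negSucc 0, Int.negSucc 0, Int.negSucc 0, Int.negSucc 0, Int.negSucc 0, Int.negSucc 0, Int.ofNat 3, Int.ofNat 1, Int.ofNat 1, Int.negSucc 0, Int.negSucc 0, Int.ofNat 1, Int.ofNat 1, Int.negSucc 0, Int.ofNat 1, Int.ofNat 1, Int.negSucc 0, Int.negSucc 0, Int.negSucc 0, Int.ofNat 1],
  [Int.ofNat 1, Int.negSucc 0, Int.negSucc 0, Int.negSucc 0, Int.negSucc 0, Int.negSucc 0, Int.negSucc 0, Int.ofNat 3, Int.ofNat 1, Int.ofNat 1, Int.negSucc 0, Int.negSucc 0, Int.ofNat 1, Int.ofNat 1, Int.negSucc 0, Int.ofNat 1, Int.ofNat 1, Int.negSucc 0, Int.negSucc 0, Int.negSucc 0, Int.negSucc 0, Int.negSucc 0, Int.negSucc 0, Int.ofNat 1],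
  [Int.negSucc 0, Int.ofNat 1, Int.ofNat 1, Int.ofNat 1, Int.negSucc 0, Int.ofNat 1, Int.negSucc 0, Int.ofNat 3, Int.ofNat 1, Int.ofNat 1, Int.negSucc 0, Int.negSucc 0, Int.ofNat 1, Int.ofNat 1, Int.ofNat 1, Int.ofNat 1, Int.ofNat 1, Int.ofNat 1, Int.negSucc 0, Int.negSucc 0, Int.negSucc 0, Int.negSucc 0, Int.negSucc 0, Int.negSucc 0],
  [Int.negSucc 0, Int.negSucc 0, Int.negSucc 0, Int.ofNat 1, Int.negSucc 0, Int.ofNat 3, Int.ofNat 1, Int.negSucc 0, Int.ofNat 1, Int.ofNat 1, Int.negSucc 0, Int.ofNat 1, Int.ofNat 1, Int.ofNat 1, Int.negSucc 0, Int.ofNat 1, Int.ofNat 1, Int.ofNat 1, Int.ofNat 1, Int.negSucc 0, Int.negSucc 0, Int.ofNat 1, Int.negSucc 0, Int.negSucc 0],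
  [Int.negSucc 0, Int.negSucc 0, Int.negSucc 0, Int.negSucc 0, Int.negSucc 0, Int.ofNat 1, Int.ofNat 1, Int.negSucc 0, Int.negSucc 0, Int.ofNat 1, Int.negSucc 0, Int.negSucc 0, Int.negSucc 0, Int.ofNat 1, Int.negSucc 2, Int.ofNat 1, Int.ofNat 1, Int.negSucc 0, Int.negSucc 0, Int.negSucc 0, Int.negSucc 0, Int.ofNat 1, Int.negSucc 0, Int.negSucc 0],
  [Int.negSucc 0, Int.negSucc 0, Int.ofNat 1, Int.negSucc 0, Int.negSucc 0, Int.negSucc 0, Int.negSucc 0, Int.negSucc 0, Int.negSucc 0, Int.negSucc 0, Int.ofNat 1, Int.negSucc 0, Int.negSucc 0, Int.ofNat 1, Int.negSucc 2, Int.negSucc 0, Int.ofNat 1, Int.negSucc 0, Int.ofNat 1, Int.negSucc 0, Int.negSucc 0, Int.ofNat 1, Int.ofNat 1, Int.negSucc 0],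
  [Int.ofNat 1, Int.ofNat 1, Int.negSucc 0, Int.negSucc 0, Int.negSucc 2, Int.negSucc 0, Int.ofNat 1, Int.negSucc 0, Int.negSucc 0, Int.negSucc 0, Int.ofNat 1, Int.negSucc 0, Int.negSucc 0, Int.negSucc 0, Int.negSucc 0, Int.ofNat 1, Int.negSucc 0, Int.negSucc 0, Int.negSucc 0, Int.ofNat 1, Int.negSucc 0, Int.negSucc 0, Int.ofNat 1, Int.negSucc 0],
  [Int.negSucc 0, Int.ofNat 1, Int.negSucc 0, Int.ofNat 1, Int.negSucc 0, Int.negSucc 0, Int.ofNat 1, Int.negSucc 0, Int.negSucc 0, Int.negSucc 0, Int.negSucc 0, Int.negSucc 0, Int.negSucc 0, Int.negSucc 0, Int.negSucc 0, Int.negSucc 0, Int.ofNat 1, Int.negSucc 2, Int.negSucc 0, Int.ofNat 1, Int.negSucc 0, Int.negSucc 0, Int.ofNat 1, Int.ofNat 1],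
  [Int.ofNat 1, Int.ofNat 1, Int.ofNat 1, Int.ofNat 1, Int.negSucc 0, Int.negSucc 0, Int.ofNat 1, Int.ofNat 1, Int.negSucc 0, Int.ofNat 1, Int.ofNat 1, Int.ofNat 1, Int.negSucc 0, Int.negSucc 0, Int.negSucc 0, Int.negSucc 0, Int.ofNat 1, Int.negSucc 2, Int.ofNat 1, Int.ofNat 1, Int.negSucc 0, Int.ofNat 1, Int.ofNat 1, Int.ofNat 1],
  [Int.ofNat 1, Int.ofNat 1, Int.ofNat 1, Int.ofNat 1, Int.ofNat 1, Int.negSucc 0, Int.negSucc 0, Int.ofNat 1, Int.ofNat 1, Int.negSucc 0, Int.ofNat 1, Int.ofNat 1, Int.ofNat 1, Int.negSucc 0, Int.negSucc 0, Int.negSucc 0, Int.negSucc 0, Int.ofNat 1, Int.negSucc 2, Int.ofNat 1, Int.ofNat 1, Int.negSucc 0, Int.ofNat 1, Int.ofNat 1],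
  [Int.ofNat 1, Int.ofNat 1, Int.ofNat 1, Int.ofNat 1, Int.ofNat 1, Int.negSucc 0, Int.negSucc 0, Int.ofNat 1, Int.ofNat 1, Int.negSucc 0, Int.ofNat 1, Int.ofNat 1, Int.ofNat 1, Int.negSucc 0, Int.negSucc 0, Int.negSucc 0, Int.negSucc 0, Int.ofNat 1, Int.negSucc 2, Int.ofNat 1, Int.ofNat 1, Int.negSucc 0, Int.ofNat 1, Int.ofNat 1],
  [Int.ofNat 1, Int.ofNat 1, Int.negSucc 0, Int.negSucc 0, Int.ofNat 1, Int.ofNat 1, Int.negSucc 0, Int.ofNat 1, Int.ofNat 1, Int.ofNat 1, Int.negSucc 0, Int.negSucc 0, Int.negSucc 0, Int.negSucc 0, Int.ofNat 1, Int.negSucc 2, Int.ofNat 1, Int.ofNat 1, Int.negSucc 0, Int.ofNat 1, Int.ofNat 1, Int.ofNat 1, Int.ofNat 1, Int.ofNat 1],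
  [Int.ofNat 0, Int.ofNat 0, Int.ofNat 2, Int.negSucc 1, Int.ofNat 0, Int.ofNat 0, Int.negSucc 1, Int.ofNat 0, Int.ofNat 2, Int.ofNat 2, Int.ofNat 0, Int.ofNat 0, Int.ofNat 0, Int.negSucc 1, Int.ofNat 0, Int.negSucc 1, Int.ofNat 0, Int.ofNat 0, Int.ofNat 0, Int.ofNat 0, Int.ofNat 2, Int.ofNat 0, Int.ofNat 0, Int.ofNat 0],
  [Int.ofNat 0, Int.negSucc 1, Int.ofNat 0, Int.negSucc 1, Int.ofNat 0, Int.ofNat 0, Int.ofNat 2, Int.ofNat 0, Int.ofNat 0, Int.negSucc 1, Int.ofNat 2, Int.ofNat 0, Int.ofNat 2, Int.ofNat 0, Int.ofNat 0, Int.negSucc 1, Int.ofNat 2, Int.ofNat 0, Int.ofNat 0, Int.ofNat 0, Int.ofNat 0, Int.ofNat 0, Int.ofNat 0, Int.ofNat 0],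
  [Int.negSucc 0, Int.ofNat 1, Int.negSucc 0, Int.negSucc 0, Int.negSucc 0, Int.ofNat 1, Int.ofNat 1, Int.negSucc 0, Int.negSucc 0, Int.negSucc 0, Int.ofNat 3, Int.negSucc 0, Int.ofNat 1, Int.negSucc 0, Int.ofNat 1, Int.negSucc 0, Int.ofNat 1, Int.ofNat 1, Int.negSucc 0, Int.negSucc 0, Int.ofNat 1, Int.negSucc 0, Int.negSucc 0, Int.negSucc 0],
  [Int.negSucc 0, Int.ofNat 1, Int.ofNat 1, Int.negSucc 0, Int.negSucc 0, Int.negSucc 0, Int.negSucc 0, Int.negSucc 0, Int.negSucc 0, Int.ofNat 1, Int.negSucc 2, Int.negSucc 0, Int.ofNat 1, Int.negSucc 0, Int.ofNat 1, Int.ofNat 1, Int.ofNat 1, Int.ofNat 1, Int.ofNat 1, Int.negSucc 0, Int.ofNat 1, Int.negSucc 0, Int.ofNat 1, Int.negSucc 0],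
  [Int.ofNat 1, Int.negSucc 0, Int.negSucc 0, Int.ofNat 1, Int.negSucc 0, Int.negSucc 0, Int.ofNat 1, Int.negSucc 2, Int.ofNat 1, Int.negSucc 0, Int.ofNat 1, Int.ofNat 1, Int.negSucc 0, Int.ofNat 1, Int.negSucc 0, Int.ofNat 1, Int.negSucc 0, Int.negSucc 0, Int.ofNat 1, Int.negSucc 0, Int.ofNat 1, Int.ofNat 1, Int.negSucc 0, Int.negSucc 0],
  [Int.ofNat 1, Int.negSucc 0, Int.ofNat 1, Int.ofNat 1, Int.negSucc 0, Int.ofNat 1, Int.negSucc 0, Int.negSucc 2, Int.ofNat 1, Int.ofNat 1, Int.negSucc 0, Int.ofNat 1, Int.negSucc 0, Int.ofNat 1, Int.negSucc 0, Int.negSucc 0, Int.negSucc 0, Int.negSucc 0, Int.negSucc 0, Int.negSucc 0, Int.ofNat 1, Int.ofNat 1, Int.ofNat 1, Int.negSucc 0],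
  [Int.negSucc 0, Int.ofNat 1, Int.negSucc 0, Int.ofNat 1, Int.negSucc 0, Int.ofNat 1, Int.ofNat 1, Int.negSucc 0, Int.ofNat 1, Int.ofNat 1, Int.negSucc 0, Int.ofNat 1, Int.negSucc 0, Int.ofNat 1, Int.negSucc 0, Int.negSucc 0, Int.negSucc 0, Int.negSucc 0, Int.negSucc 0, Int.ofNat 1, Int.ofNat 1, Int.ofNat 3, Int.ofNat 1, Int.ofNat 1],
  [Int.negSucc 0, Int.negSucc 0, Int.ofNat 1, Int.ofNat 1, Int.negSucc 0, Int.ofNat 3, Int.ofNat 1, Int.ofNat 1, Int.negSucc 0, Int.negSucc 0, Int.negSucc 0, Int.ofNat 1, Int.ofNat 1, Int.ofNat 1, Int.negSucc 0, Int.negSucc 0, Int.ofNat 1, Int.ofNat 1, Int.negSucc 0, Int.ofNat 1, Int.negSucc 0, Int.ofNat 1, Int.negSucc 0, Int.ofNat 1],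
  [Int.ofNat 1, Int.ofNat 1, Int.negSucc 0, Int.negSucc 0, Int.negSucc 0, Int.ofNat 1, Int.negSucc 0, Int.negSucc 0, Int.negSucc 0, Int.ofNat 1, Int.ofNat 1, Int.ofNat 1, Int.ofNat 1, Int.ofNat 1, Int.negSucc 2, Int.ofNat 1, Int.ofNat 1, Int.negSucc 0, Int.negSucc 0, Int.negSucc 0, Int.ofNat 1, Int.negSucc 0, Int.negSucc 0, Int.negSucc 0],
  [Int.ofNat 1, Int.negSucc 0, Int.negSucc 0, Int.ofNat 1, Int.ofNat 1, Int.negSucc 0, Int.negSucc 0, Int.negSucc 0, Int.ofNat 1, Int.negSucc 0, Int.negSucc 0, Int.negSucc 0, Int.ofNat 1, Int.ofNat 1, Int.ofNat 1, Int.ofNat 1, Int.ofNat 1, Int.negSucc 2, Int.ofNat 1, Int.ofNat 1, Int.negSucc 0, Int.negSucc 0, Int.negSucc 0, Int.negSucc 0],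
  [Int.negSucc 1, Int.ofNat 0, Int.ofNat 0, Int.ofNat 2, Int.ofNat 0, Int.ofNat 0, Int.ofNat 0, Int.ofNat 0, Int.ofNat 0, Int.ofNat 0, Int.ofNat 0, Int.negSucc 1, Int.ofNat 0, Int.ofNat 0, Int.ofNat 2, Int.ofNat 2, Int.ofNat 0, Int.negSucc 1, Int.ofNat 0, Int.ofNat 2, Int.ofNat 0, Int.ofNat 0, Int.negSucc 1, Int.ofNat 0],
  [Int.ofNat 0, Int.ofNat 0, Int.ofNat 2, Int.ofNat 0, Int.ofNat 0, Int.ofNat 0, Int.ofNat 0, Int.ofNat 0, Int.ofNat 0, Int.ofNat 0, Int.negSucc 1, Int.ofNat 0, Int.ofNat 0, Int.ofNat 2, Int.ofNat 2, Int.ofNat 0, Int.negSucc 1, Int.ofNat 0, Int.ofNat 2, Int.ofNat 0, Int.ofNat 0, Int.negSucc 1, Int.negSucc 1, Int.ofNat 0],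
  [Int.ofNat 0, Int.ofNat 0, Int.negSucc 1, Int.ofNat 0, Int.ofNat 0, Int.ofNat 0, Int.ofNat 0, Int.ofNat 0, Int.ofNat 0, Int.ofNat 0, Int.ofNat 2, Int.ofNat 0, Int.ofNat 0, Int.ofNat 2, Int.ofNat 2, Int.ofNat 0, Int.negSucc 1, Int.ofNat 0, Int.negSucc 1, Int.ofNat 0, Int.ofNat 0, Int.ofNat 2, Int.negSucc 1, Int.ofNat 0],
  [Int.ofNat 0, Int.ofNat 0, Int.ofNat 2, Int.ofNat 0, Int.ofNat 0, Int.ofNat 0, Int.ofNat 0, Int.ofNat 0, Int.ofNat 0, Int.ofNat 0, Int.ofNat 2, Int.ofNat 0, Int.ofNat 0, Int.negSucc 1, Int.ofNat 2, Int.ofNat 0, Int.ofNat 2, Int.ofNat 0, Int.ofNat 2, Int.ofNat 0, Int.ofNat 0, Int.ofNat 2, Int.negSucc 1, Int.ofNat 0],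
  [Int.ofNat 0, Int.ofNat 2, Int.ofNat 2, Int.ofNat 0, Int.ofNat 0, Int.ofNat 2, Int.ofNat 0, Int.ofNat 0, Int.ofNat 0, Int.ofNat 2, Int.ofNat 2, Int.ofNat 2, Int.negSucc 1, Int.ofNat 0, Int.ofNat 0, Int.ofNat 0, Int.ofNat 0, Int.negSucc 1, Int.ofNat 0, Int.ofNat 0, Int.ofNat 0, Int.ofNat 0, Int.ofNat 0, Int.ofNat 0],
  [Int.ofNat 0, Int.ofNat 2, Int.negSucc 1, Int.ofNat 0, Int.ofNat 0, Int.ofNat 2, Int.ofNat 0, Int.ofNat 0, Int.ofNat 0, Int.negSucc 1, Int.negSucc 1, Int.negSucc 1, Int.negSucc 1, Int.ofNat 0, Int.ofNat 0, Int.ofNat 0, Int.ofNat 0, Int.negSucc 1, Int.ofNat 0, Int.ofNat 0, Int.ofNat 0, Int.ofNat 0, Int.ofNat 0, Int.ofNat 0],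
  [Int.ofNat 0, Int.ofNat 0, Int.ofNat 2, Int.negSucc 1, Int.ofNat 0, Int.ofNat 0, Int.ofNat 2, Int.ofNat 0, Int.ofNat 0, Int.ofNat 0, Int.negSucc 1, Int.negSucc 1, Int.negSucc 1, Int.negSucc 1, Int.ofNat 0, Int.ofNat 0, Int.ofNat 0, Int.ofNat 0, Int.negSucc 1, Int.ofNat 0, Int.ofNat 0, Int.ofNat 0, Int.ofNat 0, Int.ofNat 0],
  [Int.ofNat 1, Int.ofNat 1, Int.negSucc 0, Int.negSucc 0, Int.ofNat 1, Int.ofNat 1, Int.ofNat 1, Int.negSucc 0, Int.ofNat 3, Int.ofNat 1, Int.negSucc 0, Int.ofNat 1, Int.ofNat 1, Int.negSucc 0, Int.ofNat 1, Int.ofNat 1, Int.ofNat 1, Int.ofNat 1, Int.ofNat 1, Int.negSucc 0, Int.ofNat 1, Int.negSucc 0, Int.ofNat 1, Int.ofNat 1],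
  [Int.negSucc 0, Int.ofNat 1, Int.ofNat 1, Int.ofNat 1, Int.negSucc 0, Int.ofNat 3, Int.ofNat 1, Int.negSucc 0, Int.ofNat 1, Int.ofNat 1, Int.negSucc 0, Int.ofNat 1, Int.ofNat 1, Int.ofNat 1, Int.ofNat 1, Int.ofNat 1, Int.negSucc 0, Int.ofNat 1, Int.negSucc 0, Int.ofNat 1, Int.ofNat 1, Int.ofNat 1, Int.negSucc 0, Int.ofNat 1],
  [Int.ofNat 2, Int.ofNat 0, Int.ofNat 0, Int.negSucc 1, Int.ofNat 0, Int.ofNat 0, Int.ofNat 0, Int.negSucc 1, Int.ofNat 0, Int.ofNat 0, Int.negSucc 1, Int.ofNat 0, Int.ofNat 0, Int.ofNat 2, Int.negSucc 1, Int.ofNat 0, Int.ofNat 0, Int.negSucc 1, Int.negSucc 1, Int.ofNat 0, Int.ofNat 0, Int.ofNat 0, Int.ofNat 0, Int.ofNat 0],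
  [Int.ofNat 2, Int.ofNat 0, Int.ofNat 0, Int.negSucc 1, Int.negSucc 1, Int.negSucc 1, Int.ofNat 0, Int.negSucc 1, Int.ofNat 0, Int.ofNat 2, Int.ofNat 0, Int.negSucc 1, Int.ofNat 0, Int.ofNat 0, Int.ofNat 0, Int.ofNat 0, Int.ofNat 0, Int.negSucc 1, Int.ofNat 0, Int.ofNat 0, Int.ofNat 0, Int.ofNat 0, Int.ofNat 0, Int.ofNat 0],
  [Int.negSucc 0, Int.ofNat 1, Int.ofNat 1, Int.ofNat 1, Int.negSucc 0, Int.ofNat 1, Int.ofNat 1, Int.negSucc 0, Int.ofNat 1, Int.ofNat 1, Int.negSucc 0, Int.negSucc 0, Int.ofNat 1, Int.ofNat 1, Int.ofNat 3, Int.negSucc 0, Int.ofNat 1, Int.ofNat 1, Int.ofNat 1, Int.ofNat 1, Int.negSucc 0, Int.ofNat 1, Int.ofNat 1, Int.ofNat 1],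
  [Int.negSucc 0, Int.ofNat 1, Int.negSucc 0, Int.ofNat 1, Int.negSucc 0, Int.negSucc 0, Int.negSucc 0, Int.negSucc 0, Int.ofNat 1, Int.negSucc 0, Int.ofNat 1, Int.negSucc 0, Int.ofNat 1, Int.ofNat 1, Int.ofNat 3, Int.ofNat 1, Int.ofNat 1, Int.ofNat 1, Int.negSucc 0, Int.ofNat 1, Int.negSucc 0, Int.ofNat 1, Int.negSucc 0, Int.ofNat 1],
  [Int.ofNat 1, Int.ofNat 1, Int.negSucc 0, Int.ofNat 1, Int.ofNat 3, Int.negSucc 0, Int.ofNat 1, Int.ofNat 1, Int.negSucc 0, Int.negSucc 0, Int.ofNat 1, Int.negSucc 0, Int.ofNat 1, Int.negSucc 0, Int.ofNat 1, Int.negSucc 0, Int.ofNat 1, Int.ofNat 1, Int.negSucc 0, Int.negSucc 0, Int.negSucc 0, Int.ofNat 1, Int.negSucc 0, Int.ofNat 1],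
  [Int.ofNat 1, Int.negSucc 0, Int.negSucc 0, Int.negSucc 0, Int.ofNat 1, Int.negSucc 0, Int.negSucc 0, Int.negSucc 0, Int.negSucc 0, Int.negSucc 0, Int.ofNat 1, Int.negSucc 0, Int.ofNat 1, Int.ofNat 1, Int.negSucc 0, Int.ofNat 1, Int.ofNat 1, Int.ofNat 3, Int.ofNat 1, Int.ofNat 1, Int.negSucc 0, Int.ofNat 1, Int.ofNat 1, Int.ofNat 1],
  [Int.negSucc 0, Int.negSucc 0, Int.ofNat 1, Int.negSucc 0, Int.ofNat 1, Int.negSucc 0, Int.negSucc 0, Int.ofNat 1, Int.negSucc 0, Int.ofNat 1, Int.negSucc 0, Int.ofNat 1, Int.ofNat 1, Int.ofNat 1, Int.negSucc 0, Int.ofNat 1, Int.ofNat 1, Int.ofNat 3, Int.negSucc 0, Int.ofNat 1, Int.negSucc 0, Int.negSucc 0, Int.ofNat 1, Int.ofNat 1],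
  [Int.ofNat 1, Int.negSucc 0, Int.negSucc 0, Int.ofNat 1, Int.negSucc 0, Int.ofNat 1, Int.negSucc 0, Int.negSucc 0, Int.ofNat 1, Int.negSucc 0, Int.ofNat 1, Int.negSucc 0, Int.ofNat 1, Int.ofNat 1, Int.ofNat 1, Int.negSucc 0, Int.ofNat 1, Int.ofNat 1, Int.ofNat 3, Int.negSucc 0, Int.ofNat 1, Int.negSucc 0, Int.negSucc 0, Int.ofNat 1],
  [Int.negSucc 0, Int.ofNat 1, Int.ofNat 1, Int.negSucc 0, Int.negSucc 0, Int.negSucc 0, Int.ofNat 1, Int.ofNat 1, Int.negSucc 0, Int.negSucc 0, Int.ofNat 1, Int.negSucc 2, Int.negSucc 0, Int.ofNat 1, Int.negSucc 0, Int.negSucc 0, Int.ofNat 1, Int.negSucc 0, Int.ofNat 1, Int.ofNat 1, Int.ofNat 1, Int.ofNat 1, Int.negSucc 0, Int.negSucc 0],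
  [Int.negSucc 0, Int.negSucc 0, Int.negSucc 0, Int.ofNat 1, Int.ofNat 1, Int.negSucc 0, Int.negSucc 0, Int.ofNat 1, Int.negSucc 2, Int.negSucc 0, Int.ofNat 1, Int.negSucc 0, Int.negSucc 0, Int.ofNat 1, Int.negSucc 0, Int.ofNat 1, Int.ofNat 1, Int.ofNat 1, Int.ofNat 1, Int.negSucc 0, Int.negSucc 0, Int.ofNat 1, Int.ofNat 1, Int.negSucc 0],
  [Int.negSucc 0, Int.negSucc 0, Int.negSucc 0, Int.ofNat 1, Int.negSucc 0, Int.negSucc 0, Int.negSucc 0, Int.ofNat 1, Int.negSucc 0, Int.negSucc 0, Int.ofNat 1, Int.ofNat 1, Int.ofNat 1, Int.negSucc 0, Int.negSucc 0, Int.ofNat 1, Int.negSucc 0, Int.ofNat 1, Int.ofNat 3, Int.negSucc 0, Int.negSucc 0, Int.ofNat 1, Int.negSucc 0, Int.negSucc 0],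
  [Int.negSucc 0, Int.negSucc 0, Int.negSucc 0, Int.ofNat 1, Int.ofNat 3, Int.ofNat 1, Int.negSucc 0, Int.ofNat 1, Int.ofNat 1, Int.negSucc 0, Int.negSucc 0, Int.ofNat 1, Int.negSucc 0, Int.negSucc 0, Int.negSucc 0, Int.ofNat 1, Int.negSucc 0, Int.negSucc 0, Int.negSucc 0, Int.ofNat 1, Int.ofNat 1, Int.negSucc 0, Int.negSucc 0, Int.negSucc 0],
  [Int.negSucc 0, Int.negSucc 0, Int.negSucc 0, Int.ofNat 1, Int.ofNat 3, Int.ofNat 1, Int.negSucc 0, Int.ofNat 1, Int.ofNat 1, Int.negSucc 0, Int.negSucc 0, Int.ofNat 1, Int.negSucc 0, Int.negSucc 0, Int.negSucc 0, Int.ofNat 1, Int.negSucc 0, Int.negSucc 0, Int.negSucc 0, Int.ofNat 1, Int.ofNat 1, Int.negSucc 0, Int.negSucc 0, Int.negSucc 0],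
  [Int.negSucc 0, Int.negSucc 0, Int.ofNat 1, Int.ofNat 1, Int.ofNat 3, Int.negSucc 0, Int.ofNat 1, Int.ofNat 1, Int.ofNat 1, Int.ofNat 1, Int.ofNat 1, Int.ofNat 1, Int.negSucc 0, Int.negSucc 0, Int.negSucc 0, Int.negSucc 0, Int.negSucc 0, Int.negSucc 0, Int.ofNat 1, Int.ofNat 1, Int.ofNat 1, Int.negSucc 0, Int.ofNat 1, Int.negSucc 0],
  [Int.ofNat 1, Int.negSucc 0, Int.negSucc 0, Int.ofNat 1, Int.ofNat 1, Int.negSucc 0, Int.negSucc 0, Int.ofNat 1, Int.ofNat 1, Int.ofNat 1, Int.negSucc 0, Int.negSucc 0, Int.negSucc 0, Int.ofNat 1, Int.ofNat 1, Int.negSucc 0, Int.ofNat 3, Int.ofNat 1, Int.negSucc 0, Int.ofNat 1, Int.negSucc 0, Int.ofNat 1, Int.ofNat 1, Int.negSucc 0],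
  [Int.ofNat 1, Int.negSucc 0, Int.ofNat 1, Int.ofNat 1, Int.ofNat 1, Int.ofNat 1, Int.ofNat 1, Int.ofNat 1, Int.ofNat 1, Int.negSucc 0, Int.ofNat 1, Int.negSucc 0, Int.negSucc 0, Int.ofNat 1, Int.ofNat 1, Int.ofNat 1, Int.ofNat 3, Int.ofNat 1, Int.ofNat 1, Int.ofNat 1, Int.negSucc 0, Int.ofNat 1, Int.negSucc 0, Int.negSucc 0],
  [Int.negSucc 0, Int.ofNat 1, Int.negSucc 0, Int.negSucc 0, Int.negSucc 0, Int.negSucc 0, Int.negSucc 0, Int.negSucc 0, Int.ofNat 1, Int.negSucc 0, Int.ofNat 1, Int.negSucc 0, Int.negSucc 0, Int.negSucc 0, Int.negSucc 0, Int.ofNat 1, Int.ofNat 1, Int.negSucc 0, Int.ofNat 1, Int.negSucc 0, Int.negSucc 0, Int.negSucc 0, Int.negSucc 2, Int.ofNat 1],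
  [Int.negSucc 0, Int.ofNat 1, Int.negSucc 0, Int.negSucc 0, Int.negSucc 0, Int.negSucc 0, Int.ofNat 1, Int.negSucc 0, Int.ofNat 1, Int.negSucc 0, Int.negSucc 0, Int.negSucc 0, Int.ofNat 1, Int.negSucc 0, Int.negSucc 0, Int.ofNat 1, Int.negSucc 0, Int.negSucc 0, Int.negSucc 0, Int.negSucc 2, Int.ofNat 1, Int.negSucc 0, Int.negSucc 0, Int.ofNat 1],
  [Int.ofNat 1, Int.negSucc 0, Int.ofNat 1, Int.ofNat 1, Int.ofNat 1, Int.ofNat 1, Int.ofNat 3, Int.ofNat 1, Int.ofNat 1, Int.negSucc 0, Int.negSucc 0, Int.negSucc 0, Int.ofNat 1, Int.ofNat 1, Int.ofNat 1, Int.ofNat 1, Int.ofNat 1, Int.ofNat 1, Int.negSucc 0, Int.negSucc 0, Int.ofNat 1, Int.ofNat 1, Int.ofNat 1, Int.negSucc 0],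
  [Int.ofNat 1, Int.ofNat 1, Int.ofNat 1, Int.ofNat 1, Int.negSucc 0, Int.ofNat 1, Int.ofNat 1, Int.ofNat 1, Int.ofNat 1, Int.ofNat 3, Int.ofNat 1, Int.ofNat 1, Int.negSucc 0, Int.negSucc 0, Int.negSucc 0, Int.ofNat 1, Int.ofNat 1, Int.ofNat 1, Int.ofNat 1, Int.ofNat 1, Int.ofNat 1, Int.negSucc 0, Int.negSucc 0, Int.negSucc 0],
  [Int.ofNat 0, Int.ofNat 0, Int.ofNat 0, Int.ofNat 0, Int.ofNat 0, Int.ofNat 0, Int.ofNat 0, Int.ofNat 0, Int.ofNat 0, Int.ofNat 0, Int.negSucc 1, Int.ofNat 0, Int.negSucc 1, Int.ofNat 0, Int.negSucc 1, Int.negSucc 1, Int.ofNat 2, Int.ofNat 0, Int.ofNat 0, Int.ofNat 0, Int.negSucc 1, Int.negSucc 1, Int.ofNat 0, Int.ofNat 2],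
  [Int.ofNat 0, Int.ofNat 0, Int.ofNat 0, Int.ofNat 0, Int.ofNat 0, Int.ofNat 0, Int.ofNat 0, Int.ofNat 0, Int.ofNat 0, Int.negSucc 1, Int.ofNat 0, Int.negSucc 1, Int.ofNat 0, Int.negSucc 1, Int.negSucc 1, Int.ofNat 2, Int.ofNat 0, Int.ofNat 0, Int.ofNat 0, Int.negSucc 1, Int.negSucc 1, Int.ofNat 0, Int.ofNat 0, Int.ofNat 2],
  [Int.ofNat 0, Int.ofNat 0, Int.ofNat 0, Int.ofNat 0, Int.ofNat 0, Int.ofNat 0, Int.ofNat 0, Int.ofNat 0, Int.ofNat 0, Int.ofNat 2, Int.ofNat 0, Int.ofNat 2, Int.ofNat 0, Int.negSucc 1, Int.negSucc 1, Int.ofNat 2, Int.ofNat 0, Int.ofNat 0, Int.ofNat 0, Int.negSucc 1, Int.negSucc 1, Int.ofNat 0, Int.ofNat 0, Int.ofNat 2],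
  [Int.ofNat 0, Int.ofNat 0, Int.ofNat 0, Int.ofNat 0, Int.ofNat 0, Int.ofNat 0, Int.ofNat 0, Int.ofNat 0, Int.ofNat 0, Int.negSucc 1, Int.ofNat 0, Int.ofNat 2, Int.ofNat 0, Int.ofNat 2, Int.negSucc 1, Int.ofNat 2, Int.ofNat 0, Int.ofNat 0, Int.ofNat 0, Int.negSucc 1, Int.negSucc 1, Int.ofNat 0, Int.ofNat 0, Int.ofNat 2],
  [Int.ofNat 0, Int.ofNat 0, Int.ofNat 0, Int.ofNat 0, Int.ofNat 0, Int.ofNat 0, Int.ofNat 0, Int.negSucc 1, Int.negSucc 1, Int.ofNat 0, Int.ofNat 0, Int.negSucc 1, Int.ofNat 2, Int.ofNat 0, Int.negSucc 1, Int.ofNat 2, Int.ofNat 0, Int.ofNat 0, Int.ofNat 0, Int.ofNat 0, Int.ofNat 0, Int.ofNat 0, Int.ofNat 2, Int.ofNat 2],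
  [Int.ofNat 0, Int.ofNat 0, Int.ofNat 0, Int.ofNat 0, Int.ofNat 0, Int.ofNat 0, Int.ofNat 0, Int.ofNat 2, Int.negSucc 1, Int.ofNat 0, Int.ofNat 0, Int.ofNat 2, Int.ofNat 2, Int.ofNat 0, Int.negSucc 1, Int.ofNat 2, Int.ofNat 0, Int.ofNat 0, Int.ofNat 0, Int.ofNat 0, Int.ofNat 0, Int.ofNat 0, Int.ofNat 2, Int.ofNat 2],
  [Int.ofNat 2, Int.ofNat 0, Int.ofNat 0, Int.ofNat 0, Int.ofNat 0, Int.ofNat 0, Int.ofNat 0, Int.ofNat 0, Int.ofNat 2, Int.negSucc 1, Int.ofNat 0, Int.ofNat 0, Int.ofNat 2, Int.ofNat 2, Int.ofNat 0, Int.negSucc 1, Int.ofNat 2, Int.ofNat 0, Int.ofNat 0, Int.ofNat 0, Int.ofNat 0, Int.ofNat 0, Int.ofNat 0, Int.ofNat 2],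
  [Int.ofNat 0, Int.ofNat 2, Int.ofNat 2, Int.ofNat 0, Int.negSucc 1, Int.ofNat 0, Int.ofNat 0, Int.ofNat 0, Int.ofNat 0, Int.ofNat 0, Int.ofNat 2, Int.negSucc 1, Int.ofNat 0, Int.ofNat 0, Int.ofNat 0, Int.ofNat 0, Int.ofNat 0, Int.ofNat 0, Int.negSucc 1, Int.ofNat 0, Int.ofNat 2, Int.ofNat 0, Int.negSucc 1, Int.ofNat 0],
  [Int.ofNat 0, Int.negSucc 1, Int.ofNat 0, Int.ofNat 0, Int.ofNat 0, Int.ofNat 0, Int.ofNat 0, Int.ofNat 2, Int.negSucc 1, Int.ofNat 0, Int.ofNat 0, Int.ofNat 0, Int.ofNat 0, Int.ofNat 0, Int.ofNat 0, Int.negSucc 1, Int.ofNat 0, Int.ofNat 2, Int.ofNat 0, Int.negSucc 1, Int.ofNat 0, Int.ofNat 2, Int.ofNat 2, Int.ofNat 0],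
  [Int.negSucc 0, Int.ofNat 1, Int.negSucc 0, Int.negSucc 0, Int.negSucc 0, Int.negSucc 0, Int.negSucc 0, Int.ofNat 1, Int.negSucc 0, Int.ofNat 1, Int.ofNat 1, Int.ofNat 1, Int.ofNat 1, Int.negSucc 0, Int.negSucc 0, Int.negSucc 0, Int.negSucc 0, Int.ofNat 1, Int.ofNat 1, Int.negSucc 2, Int.ofNat 1, Int.ofNat 1, Int.ofNat 1, Int.negSucc 0],
  [Int.negSucc 0, Int.negSucc 0, Int.negSucc 0, Int.negSucc 0, Int.ofNat 1, Int.ofNat 1, Int.negSucc 0, Int.ofNat 1, Int.ofNat 1, Int.negSucc 0, Int.ofNat 1, Int.ofNat 1, Int.ofNat 1, Int.negSucc 0, Int.ofNat 1, Int.negSucc 0, Int.negSucc 0, Int.negSucc 0, Int.ofNat 1, Int.ofNat 1, Int.ofNat 1, Int.negSucc 0, Int.negSucc 2, Int.negSucc 0],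
  [Int.negSucc 0, Int.negSucc 0, Int.negSucc 0, Int.negSucc 0, Int.ofNat 3, Int.ofNat 1, Int.negSucc 0, Int.ofNat 1, Int.negSucc 0, Int.negSucc 0, Int.ofNat 1, Int.negSucc 0, Int.negSucc 0, Int.ofNat 1, Int.ofNat 1, Int.negSucc 0, Int.ofNat 1, Int.negSucc 0, Int.negSucc 0, Int.ofNat 1, Int.ofNat 1, Int.negSucc 0, Int.negSucc 0, Int.negSucc 0],
  [Int.negSucc 0, Int.negSucc 0, Int.ofNat 1, Int.negSucc 0, Int.ofNat 3, Int.negSucc 0, Int.ofNat 1, Int.ofNat 1, Int.negSucc 0, Int.ofNat 1, Int.negSucc 0, Int.negSucc 0, Int.negSucc 0, Int.ofNat 1, Int.ofNat 1, Int.ofNat 1, Int.ofNat 1, Int.negSucc 0, Int.ofNat 1, Int.ofNat 1, Int.ofNat 1, Int.negSucc 0, Int.ofNat 1, Int.negSucc 0],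
  [Int.negSucc 0, Int.ofNat 1, Int.negSucc 0, Int.negSucc 0, Int.ofNat 1, Int.ofNat 1, Int.negSucc 0, Int.negSucc 0, Int.negSucc 0, Int.ofNat 1, Int.ofNat 1, Int.ofNat 1, Int.ofNat 1, Int.ofNat 3, Int.negSucc 0, Int.ofNat 1, Int.ofNat 1, Int.negSucc 0, Int.ofNat 1, Int.ofNat 1, Int.negSucc 0, Int.negSucc 0, Int.ofNat 1, Int.negSucc 0],
  [Int.negSucc 0, Int.ofNat 1, Int.ofNat 1, Int.ofNat 1, Int.negSucc 0, Int.ofNat 1, Int.ofNat 1, Int.ofNat 3, Int.negSucc 0, Int.ofNat 1, Int.ofNat 1, Int.negSucc 0, Int.negSucc 0, Int.negSucc 0, Int.ofNat 1, Int.negSucc 0, Int.ofNat 1, Int.ofNat 1, Int.negSucc 0, Int.negSucc 0, Int.negSucc 0, Int.ofNat 1, Int.ofNat 1, Int.negSucc 0],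
  [Int.ofNat 1, Int.ofNat 1, Int.negSucc 0, Int.ofNat 1, Int.negSucc 0, Int.ofNat 1, Int.ofNat 1, Int.negSucc 2, Int.negSucc 0, Int.negSucc 0, Int.negSucc 0, Int.ofNat 1, Int.negSucc 0, Int.negSucc 0, Int.ofNat 1, Int.negSucc 0, Int.ofNat 1, Int.ofNat 1, Int.ofNat 1, Int.negSucc 0, Int.negSucc 0, Int.negSucc 0, Int.ofNat 1, Int.negSucc 0],
  [Int.ofNat 1, Int.ofNat 1, Int.ofNat 1, Int.negSucc 0, Int.ofNat 1, Int.negSucc 0, Int.ofNat 1, Int.ofNat 1, Int.negSucc 2, Int.negSucc 0, Int.negSucc 0, Int.negSucc 0, Int.ofNat 1, Int.negSucc 0, Int.negSucc 0, Int.ofNat 1, Int.negSucc 0, Int.ofNat 1, Int.ofNat 1, Int.ofNat 1, Int.negSucc 0, Int.negSucc 0, Int.negSucc 0, Int.negSucc 0],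
  [Int.ofNat 0, Int.ofNat 0, Int.ofNat 0, Int.ofNat 0, Int.ofNat 2, Int.ofNat 0, Int.ofNat 0, Int.ofNat 0, Int.negSucc 1, Int.ofNat 0, Int.ofNat 0, Int.ofNat 0, Int.ofNat 2, Int.ofNat 0, Int.ofNat 0, Int.ofNat 2, Int.ofNat 0, Int.ofNat 2, Int.ofNat 2, Int.ofNat 0, Int.ofNat 0, Int.negSucc 1, Int.ofNat 0, Int.ofNat 2],
  [Int.ofNat 0, Int.ofNat 2, Int.ofNat 0, Int.ofNat 0, Int.ofNat 0, Int.negSucc 1, Int.ofNat 0, Int.ofNat 0, Int.ofNat 0, Int.ofNat 2, Int.ofNat 0, Int.ofNat 0, Int.ofNat 2, Int.ofNat 0, Int.ofNat 2, Int.ofNat 2, Int.ofNat 0, Int.ofNat 0, Int.negSucc 1, Int.ofNat 0, Int.ofNat 0, Int.ofNat 0, Int.ofNat 0, Int.ofNat 2],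
  [Int.ofNat 2, Int.ofNat 0, Int.ofNat 2, Int.ofNat 0, Int.ofNat 0, Int.negSucc 1, Int.ofNat 0, Int.ofNat 0, Int.ofNat 0, Int.ofNat 0, Int.negSucc 1, Int.ofNat 0, Int.ofNat 2, Int.ofNat 0, Int.ofNat 2, Int.ofNat 0, Int.ofNat 0, Int.ofNat 0, Int.negSucc 1, Int.ofNat 0, Int.negSucc 1, Int.ofNat 0, Int.ofNat 0, Int.ofNat 0],
  [Int.ofNat 2, Int.ofNat 0, Int.ofNat 0, Int.ofNat 0, Int.negSucc 1, Int.ofNat 0, Int.ofNat 2, Int.negSucc 1, Int.ofNat 2, Int.ofNat 0, Int.negSucc 1, Int.ofNat 0, Int.ofNat 0, Int.ofNat 0, Int.ofNat 0, Int.ofNat 0, Int.ofNat 0, Int.ofNat 2, Int.ofNat 0, Int.ofNat 0, Int.ofNat 0, Int.negSucc 1, Int.ofNat 0, Int.ofNat 0],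
  [Int.negSucc 0, Int.ofNat 1, Int.ofNat 1, Int.negSucc 0, Int.negSucc 0, Int.negSucc 0, Int.ofNat 3, Int.negSucc 0, Int.ofNat 1, Int.ofNat 1, Int.negSucc 0, Int.negSucc 0, Int.negSucc 0, Int.ofNat 1, Int.negSucc 0, Int.ofNat 1, Int.ofNat 1, Int.ofNat 1, Int.negSucc 0, Int.ofNat 1, Int.ofNat 1, Int.negSucc 0, Int.ofNat 1, Int.ofNat 1],
  [Int.negSucc 0, Int.ofNat 1, Int.negSucc 0, Int.negSucc 0, Int.negSucc 0, Int.ofNat 1, Int.negSucc 2, Int.negSucc 0, Int.ofNat 1, Int.negSucc 0, Int.ofNat 1, Int.negSucc 0, Int.negSucc 0, Int.ofNat 1, Int.negSucc 0, Int.negSucc 0, Int.ofNat 1, Int.ofNat 1, Int.ofNat 1, Int.ofNat 1, Int.ofNat 1, Int.negSucc 0, Int.negSucc 0, Int.ofNat 1],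
  [Int.ofNat 1, Int.ofNat 1, Int.ofNat 1, Int.negSucc 0, Int.negSucc 0, Int.negSucc 0, Int.negSucc 0, Int.ofNat 1, Int.ofNat 1, Int.negSucc 0, Int.negSucc 0, Int.ofNat 1, Int.negSucc 0, Int.negSucc 0, Int.ofNat 1, Int.ofNat 1, Int.negSucc 0, Int.ofNat 1, Int.negSucc 0, Int.negSucc 2, Int.ofNat 1, Int.negSucc 0, Int.negSucc 0, Int.ofNat 1],
  [Int.ofNat 1, Int.ofNat 1, Int.negSucc 0, Int.negSucc 0, Int.negSucc 0, Int.ofNat 1, Int.ofNat 1, Int.ofNat 1, Int.ofNat 1, Int.ofNat 1, Int.ofNat 1, Int.ofNat 1, Int.negSucc 0, Int.negSucc 0, Int.ofNat 1, Int.negSucc 0, Int.negSucc 0, Int.ofNat 1, Int.ofNat 1, Int.negSucc 2, Int.ofNat 1, Int.negSucc 0, Int.ofNat 1, Int.ofNat 1],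
  [Int.ofNat 0, Int.ofNat 0, Int.ofNat 2, Int.negSucc 1, Int.ofNat 0, Int.ofNat 0, Int.ofNat 2, Int.ofNat 2, Int.ofNat 0, Int.ofNat 0, Int.ofNat 0, Int.ofNat 0, Int.negSucc 1, Int.ofNat 0, Int.ofNat 0, Int.negSucc 1, Int.ofNat 0, Int.ofNat 0, Int.ofNat 0, Int.negSucc 1, Int.ofNat 0, Int.ofNat 0, Int.ofNat 2, Int.ofNat 0],
  [Int.ofNat 0, Int.ofNat 0, Int.ofNat 2, Int.negSucc 1, Int.ofNat 2, Int.ofNat 0, Int.ofNat 0, Int.ofNat 0, Int.ofNat 0, Int.negSucc 1, Int.ofNat 2, Int.negSucc 1, Int.ofNat 0, Int.ofNat 0, Int.ofNat 0, Int.negSucc 1, Int.ofNat 0, Int.ofNat 0, Int.ofNat 0, Int.ofNat 2, Int.ofNat 0, Int.ofNat 0, Int.ofNat 0, Int.ofNat 0],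
  [Int.ofNat 1, Int.ofNat 1, Int.negSucc 0, Int.negSucc 0, Int.ofNat 1, Int.ofNat 1, Int.negSucc 0, Int.negSucc 0, Int.ofNat 1, Int.negSucc 0, Int.ofNat 3, Int.negSucc 0, Int.ofNat 1, Int.negSucc 0, Int.ofNat 1, Int.negSucc 0, Int.negSucc 0, Int.ofNat 1, Int.ofNat 1, Int.ofNat 1, Int.ofNat 1, Int.negSucc 0, Int.negSucc 0, Int.ofNat 1],
  [Int.ofNat 1, Int.negSucc 0, Int.negSucc 0, Int.ofNat 1, Int.ofNat 1, Int.negSucc 0, Int.negSucc 0, Int.ofNat 1, Int.ofNat 1, Int.negSucc 0, Int.negSucc 0, Int.ofNat 1, Int.negSucc 0, Int.ofNat 3, Int.negSucc 0, Int.ofNat 1, Int.negSucc 0, Int.ofNat 1, Int.negSucc 0, Int.negSucc 0, Int.ofNat 1, Int.ofNat 1, Int.ofNat 1, Int.ofNat 1],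
  [Int.negSucc 0, Int.ofNat 1, Int.ofNat 1, Int.ofNat 1, Int.negSucc 0, Int.negSucc 0, Int.negSucc 0, Int.ofNat 1, Int.ofNat 1, Int.negSucc 0, Int.negSucc 0, Int.ofNat 1, Int.negSucc 0, Int.ofNat 1, Int.negSucc 0, Int.ofNat 1, Int.negSucc 2, Int.ofNat 1, Int.negSucc 0, Int.negSucc 0, Int.ofNat 1, Int.ofNat 1, Int.negSucc 0, Int.negSucc 0],
  [Int.ofNat 1, Int.ofNat 1, Int.ofNat 1, Int.negSucc 0, Int.negSucc 0, Int.negSucc 0, Int.ofNat 1, Int.ofNat 1, Int.negSucc 0, Int.negSucc 0, Int.ofNat 1, Int.negSucc 0, Int.ofNat 1, Int.negSucc 0, Int.ofNat 1, Int.negSucc 2, Int.ofNat 1, Int.negSucc 0, Int.negSucc 0, Int.ofNat 1, Int.ofNat 1, Int.negSucc 0, Int.negSucc 0, Int.negSucc 0],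
  [Int.negSucc 0, Int.ofNat 1, Int.negSucc 0, Int.negSucc 0, Int.negSucc 0, Int.negSucc 0, Int.ofNat 1, Int.negSucc 0, Int.negSucc 0, Int.ofNat 1, Int.negSucc 0, Int.ofNat 1, Int.ofNat 1, Int.negSucc 0, Int.ofNat 1, Int.negSucc 2, Int.ofNat 1, Int.negSucc 0, Int.ofNat 1, Int.ofNat 1, Int.ofNat 1, Int.ofNat 1, Int.negSucc 0, Int.negSucc 0],
  [Int.ofNat 1, Int.negSucc 0, Int.ofNat 1, Int.ofNat 1, Int.ofNat 1, Int.negSucc 0, Int.negSucc 0, Int.negSucc 0, Int.ofNat 1, Int.negSucc 0, Int.negSucc 0, Int.ofNat 1, Int.negSucc 0, Int.ofNat 1, Int.ofNat 1, Int.negSucc 2, Int.negSucc 0, Int.negSucc 0, Int.negSucc 0, Int.ofNat 1, Int.ofNat 1, Int.ofNat 1, Int.negSucc 0, Int.negSucc 0],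
  [Int.ofNat 1, Int.ofNat 1, Int.negSucc 0, Int.ofNat 1, Int.negSucc 0, Int.negSucc 0, Int.ofNat 1, Int.ofNat 1, Int.negSucc 0, Int.negSucc 0, Int.ofNat 1, Int.ofNat 1, Int.ofNat 1, Int.ofNat 1, Int.ofNat 1, Int.negSucc 2, Int.negSucc 0, Int.negSucc 0, Int.negSucc 0, Int.negSucc 0, Int.negSucc 0, Int.negSucc 0, Int.ofNat 1, Int.negSucc 0],
  [Int.negSucc 0, Int.ofNat 1, Int.ofNat 1, Int.ofNat 1, Int.negSucc 0, Int.negSucc 0, Int.ofNat 1, Int.negSucc 0, Int.negSucc 0, Int.ofNat 1, Int.negSucc 0, Int.negSucc 0, Int.ofNat 1, Int.ofNat 1, Int.ofNat 1, Int.negSucc 2, Int.negSucc 0, Int.negSucc 0, Int.ofNat 1, Int.negSucc 0, Int.negSucc 0, Int.ofNat 1, Int.ofNat 1, Int.negSucc 0],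
  [Int.ofNat 1, Int.negSucc 0, Int.ofNat 1, Int.ofNat 1, Int.ofNat 1, Int.negSucc 0, Int.negSucc 0, Int.ofNat 1, Int.negSucc 0, Int.negSucc 0, Int.ofNat 1, Int.negSucc 0, Int.negSucc 0, Int.ofNat 1, Int.ofNat 1, Int.ofNat 1, Int.negSucc 2, Int.negSucc 0, Int.negSucc 0, Int.ofNat 1, Int.negSucc 0, Int.negSucc 0, Int.ofNat 1, Int.negSucc 0],
  [Int.negSucc 0, Int.ofNat 1, Int.negSucc 0, Int.ofNat 1, Int.ofNat 1, Int.negSucc 0, Int.negSucc 0, Int.ofNat 1, Int.ofNat 1, Int.negSucc 0, Int.ofNat 1, Int.ofNat 1, Int.ofNat 1, Int.ofNat 1, Int.ofNat 1, Int.ofNat 1, Int.negSucc 2, Int.negSucc 0, Int.ofNat 1, Int.ofNat 1, Int.negSucc 0, Int.negSucc 0, Int.ofNat 1, Int.ofNat 1],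
  [Int.ofNat 1, Int.ofNat 1, Int.negSucc 0, Int.negSucc 0, Int.ofNat 1, Int.ofNat 1, Int.negSucc 0, Int.ofNat 1, Int.ofNat 1, Int.ofNat 1, Int.ofNat 1, Int.ofNat 1, Int.ofNat 1, Int.negSucc 2, Int.negSucc 0, Int.ofNat 1, Int.ofNat 1, Int.negSucc 0, Int.negSucc 0, Int.ofNat 1, Int.negSucc 0, Int.ofNat 1, Int.negSucc 0, Int.ofNat 1],
  [Int.ofNat 0, Int.ofNat 0, Int.ofNat 2, Int.ofNat 0, Int.ofNat 2, Int.ofNat 2, Int.negSucc 1, Int.ofNat 0, Int.ofNat 0, Int.ofNat 0, Int.ofNat 0, Int.ofNat 0, Int.ofNat 0, Int.negSucc 1, Int.ofNat 0, Int.ofNat 0, Int.ofNat 2, Int.ofNat 0, Int.negSucc 1, Int.ofNat 0, Int.negSucc 1, Int.ofNat 0, Int.ofNat 0, Int.ofNat 0],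
  [Int.ofNat 0, Int.negSucc 1, Int.ofNat 2, Int.ofNat 0, Int.negSucc 1, Int.ofNat 0, Int.ofNat 2, Int.ofNat 0, Int.ofNat 0, Int.negSucc 1, Int.negSucc 1, Int.ofNat 0, Int.ofNat 0, Int.ofNat 2, Int.ofNat 0, Int.ofNat 0, Int.ofNat 0, Int.ofNat 0, Int.ofNat 0, Int.ofNat 0, Int.ofNat 0, Int.ofNat 2, Int.ofNat 0, Int.ofNat 0],
  [Int.ofNat 0, Int.ofNat 2, Int.negSucc 1, Int.ofNat 0, Int.negSucc 1, Int.ofNat 0, Int.ofNat 0, Int.negSucc 1, Int.ofNat 0, Int.ofNat 0, Int.ofNat 0, Int.ofNat 0, Int.ofNat 0, Int.ofNat 2, Int.ofNat 0, Int.ofNat 2, Int.ofNat 0, Int.ofNat 0, Int.ofNat 0, Int.negSucc 1, Int.ofNat 2, Int.ofNat 0, Int.ofNat 0, Int.ofNat 0],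
  [Int.ofNat 0, Int.ofNat 2, Int.ofNat 2, Int.ofNat 0, Int.negSucc 1, Int.ofNat 0, Int.ofNat 0, Int.negSucc 1, Int.ofNat 0, Int.ofNat 0, Int.ofNat 0, Int.ofNat 0, Int.ofNat 0, Int.ofNat 2, Int.ofNat 0, Int.negSucc 1, Int.ofNat 0, Int.ofNat 0, Int.ofNat 0, Int.negSucc 1, Int.ofNat 2, Int.ofNat 0, Int.ofNat 0, Int.ofNat 0],
  [Int.ofNat 0, Int.ofNat 0, Int.ofNat 0, Int.ofNat 0, Int.ofNat 0, Int.ofNat 0, Int.ofNat 0, Int.ofNat 0, Int.ofNat 0, Int.ofNat 2, Int.ofNat 2, Int.negSucc 1, Int.negSucc 1, Int.negSucc 1, Int.ofNat 0, Int.ofNat 0, Int.negSucc 1, Int.ofNat 0, Int.ofNat 0, Int.ofNat 2, Int.ofNat 0, Int.ofNat 2, Int.ofNat 0, Int.ofNat 0],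
  [Int.ofNat 0, Int.ofNat 0, Int.negSucc 1, Int.ofNat 0, Int.ofNat 0, Int.ofNat 2, Int.ofNat 2, Int.negSucc 1, Int.ofNat 0, Int.ofNat 0, Int.negSucc 1, Int.ofNat 0, Int.ofNat 2, Int.ofNat 0, Int.ofNat 0, Int.ofNat 0, Int.ofNat 2, Int.ofNat 0, Int.ofNat 0, Int.ofNat 0, Int.ofNat 0, Int.negSucc 1, Int.ofNat 0, Int.ofNat 0],
  [Int.ofNat 0, Int.ofNat 0, Int.ofNat 2, Int.ofNat 0, Int.ofNat 0, Int.ofNat 2, Int.ofNat 2, Int.ofNat 2, Int.ofNat 0, Int.ofNat 0, Int.ofNat 2, Int.ofNat 0, Int.ofNat 2, Int.ofNat 0, Int.ofNat 0, Int.ofNat 0, Int.ofNat 2, Int.ofNat 0, Int.ofNat 0, Int.ofNat 0, Int.ofNat 0, Int.ofNat 2, Int.ofNat 0, Int.ofNat 0],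
  [Int.ofNat 0, Int.ofNat 0, Int.ofNat 0, Int.ofNat 2, Int.ofNat 0, Int.ofNat 0, Int.ofNat 2, Int.ofNat 2, Int.ofNat 2, Int.ofNat 0, Int.ofNat 0, Int.ofNat 2, Int.ofNat 0, Int.ofNat 2, Int.ofNat 0, Int.ofNat 0, Int.ofNat 0, Int.ofNat 2, Int.ofNat 0, Int.ofNat 0, Int.ofNat 0, Int.ofNat 0, Int.ofNat 2, Int.ofNat 0],
  [Int.ofNat 0, Int.ofNat 0, Int.ofNat 0, Int.ofNat 0, Int.negSucc 1, Int.negSucc 1, Int.ofNat 0, Int.ofNat 0, Int.ofNat 0, Int.ofNat 0, Int.ofNat 0, Int.ofNat 0, Int.negSucc 1, Int.ofNat 0, Int.negSucc 1, Int.ofNat 0, Int.negSucc 1, Int.ofNat 0, Int.negSucc 1, Int.negSucc 1, Int.ofNat 0, Int.negSucc 1, Int.ofNat 0, Int.ofNat 0],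
  [Int.ofNat 0, Int.negSucc 1, Int.negSucc 1, Int.ofNat 0, Int.ofNat 0, Int.ofNat 0, Int.ofNat 0, Int.ofNat 0, Int.ofNat 0, Int.negSucc 1, Int.ofNat 0, Int.negSucc 1, Int.ofNat 0, Int.negSucc 1, Int.ofNat 0, Int.negSucc 1, Int.negSucc 1, Int.ofNat 0, Int.negSucc 1, Int.ofNat 0, Int.ofNat 0, Int.ofNat 0, Int.ofNat 0, Int.ofNat 0],
  [Int.negSucc 1, Int.ofNat 0, Int.ofNat 0, Int.ofNat 0, Int.ofNat 2, Int.ofNat 0, Int.ofNat 0, Int.ofNat 0, Int.ofNat 2, Int.ofNat 0, Int.ofNat 2, Int.ofNat 0, Int.ofNat 2, Int.ofNat 0, Int.ofNat 0, Int.ofNat 0, Int.ofNat 0, Int.ofNat 0, Int.ofNat 0, Int.ofNat 0, Int.ofNat 2, Int.ofNat 0, Int.ofNat 2, Int.negSucc 1],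
  [Int.negSucc 1, Int.ofNat 0, Int.ofNat 2, Int.ofNat 0, Int.ofNat 0, Int.ofNat 0, Int.ofNat 0, Int.ofNat 2, Int.ofNat 2, Int.ofNat 0, Int.ofNat 2, Int.ofNat 0, Int.ofNat 0, Int.ofNat 0, Int.ofNat 2, Int.ofNat 0, Int.ofNat 2, Int.ofNat 0, Int.ofNat 0, Int.ofNat 0, Int.ofNat 0, Int.ofNat 0, Int.ofNat 0, Int.negSucc 1],
  [Int.ofNat 1, Int.negSucc 0, Int.negSucc 2, Int.negSucc 0, Int.negSucc 0, Int.negSucc 0, Int.negSucc 0, Int.ofNat 1, Int.ofNat 1, Int.negSucc 0, Int.ofNat 1, Int.negSucc 0, Int.negSucc 0, Int.negSucc 0, Int.ofNat 1, Int.negSucc 0, Int.ofNat 1, Int.negSucc 0, Int.negSucc 0, Int.negSucc 0, Int.negSucc 0, Int.negSucc 0, Int.negSucc 0, Int.ofNat 1],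
  [Int.ofNat 1, Int.negSucc 0, Int.ofNat 3, Int.negSucc 0, Int.negSucc 0, Int.ofNat 1, Int.ofNat 1, Int.ofNat 1, Int.ofNat 1, Int.ofNat 1, Int.negSucc 0, Int.negSucc 0, Int.negSucc 0, Int.negSucc 0, Int.ofNat 1, Int.ofNat 1, Int.ofNat 1, Int.negSucc 0, Int.ofNat 1, Int.negSucc 0, Int.negSucc 0, Int.negSucc 0, Int.ofNat 1, Int.ofNat 1],
  [Int.negSucc 0, Int.negSucc 0, Int.ofNat 1, Int.ofNat 3, Int.negSucc 0, Int.ofNat 1, Int.negSucc 0, Int.negSucc 0, Int.ofNat 1, Int.negSucc 0, Int.ofNat 1, Int.negSucc 0, Int.negSucc 0, Int.ofNat 1, Int.negSucc 0, Int.ofNat 1, Int.negSucc 0, Int.ofNat 1, Int.ofNat 1, Int.ofNat 1, Int.negSucc 0, Int.ofNat 1, Int.ofNat 1, Int.ofNat 1],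
  [Int.negSucc 0, Int.negSucc 0, Int.negSucc 0, Int.ofNat 3, Int.negSucc 0, Int.negSucc 0, Int.ofNat 1, Int.negSucc 0, Int.ofNat 1, Int.ofNat 1, Int.negSucc 0, Int.negSucc 0, Int.negSucc 0, Int.ofNat 1, Int.negSucc 0, Int.negSucc 0, Int.negSucc 0, Int.ofNat 1, Int.negSucc 0, Int.ofNat 1, Int.negSucc 0, Int.ofNat 1, Int.negSucc 0, Int.ofNat 1],
  [Int.ofNat 0, Int.ofNat 0, Int.ofNat 0, Int.ofNat 2, Int.ofNat 0, Int.negSucc 1, Int.ofNat 0, Int.negSucc 1, Int.ofNat 2, Int.ofNat 2, Int.ofNat 0, Int.ofNat 0, Int.ofNat 0, Int.ofNat 2, Int.negSucc 1, Int.ofNat 0, Int.ofNat 0, Int.ofNat 0, Int.ofNat 0, Int.ofNat 0, Int.ofNat 0, Int.ofNat 0, Int.ofNat 0, Int.negSucc 1],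
  [Int.ofNat 0, Int.ofNat 0, Int.ofNat 0, Int.ofNat 2, Int.ofNat 0, Int.ofNat 0, Int.ofNat 0, Int.negSucc 1, Int.ofNat 0, Int.ofNat 0, Int.negSucc 1, Int.ofNat 0, Int.ofNat 2, Int.ofNat 2, Int.ofNat 0, Int.ofNat 0, Int.ofNat 2, Int.ofNat 0, Int.ofNat 0, Int.ofNat 0, Int.ofNat 0, Int.ofNat 0, Int.negSucc 1, Int.negSucc 1],
  [Int.negSucc 0, Int.negSucc 0, Int.negSucc 0, Int.ofNat 1, Int.negSucc 0, Int.negSucc 0, Int.ofNat 1, Int.negSucc 0, Int.negSucc 0, Int.ofNat 1, Int.negSucc 0, Int.negSucc 0, Int.ofNat 1, Int.ofNat 1, Int.negSucc 0, Int.ofNat 1, Int.ofNat 1, Int.negSucc 0, Int.negSucc 0, Int.ofNat 1, Int.ofNat 1, Int.ofNat 1, Int.negSucc 2, Int.ofNat 1],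
  [Int.ofNat 1, Int.ofNat 1, Int.negSucc 2, Int.negSucc 0, Int.negSucc 0, Int.negSucc 0, Int.ofNat 1, Int.negSucc 0, Int.negSucc 0, Int.ofNat 1, Int.negSucc 0, Int.negSucc 0, Int.ofNat 1, Int.negSucc 0, Int.negSucc 0, Int.ofNat 1, Int.ofNat 1, Int.negSucc 0, Int.ofNat 1, Int.ofNat 1, Int.negSucc 0, Int.negSucc 0, Int.ofNat 1, Int.ofNat 1],
  [Int.negSucc 0, Int.negSucc 0, Int.ofNat 3, Int.ofNat 1, Int.negSucc 0, Int.ofNat 1, Int.ofNat 1, Int.negSucc 0, Int.negSucc 0, Int.ofNat 1, Int.negSucc 0, Int.negSucc 0, Int.ofNat 1, Int.negSucc 0, Int.ofNat 1, Int.ofNat 1, Int.ofNat 1, Int.ofNat 1, Int.ofNat 1, Int.ofNat 1, Int.negSucc 0, Int.negSucc 0, Int.ofNat 1, Int.negSucc 0],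
  [Int.negSucc 0, Int.ofNat 3, Int.ofNat 1, Int.negSucc 0, Int.ofNat 1, Int.ofNat 1, Int.negSucc 0, Int.negSucc 0, Int.ofNat 1, Int.negSucc 0, Int.negSucc 0, Int.ofNat 1, Int.negSucc 0, Int.ofNat 1, Int.ofNat 1, Int.ofNat 1, Int.ofNat 1, Int.ofNat 1, Int.ofNat 1, Int.negSucc 0, Int.negSucc 0, Int.ofNat 1, Int.negSucc 0, Int.negSucc 0],
  [Int.ofNat 1, Int.ofNat 3, Int.negSucc 0, Int.negSucc 0, Int.ofNat 1, Int.ofNat 1, Int.negSucc 0, Int.ofNat 1, Int.ofNat 1, Int.ofNat 1, Int.ofNat 1, Int.negSucc 0, Int.negSucc 0, Int.ofNat 1, Int.ofNat 1, Int.ofNat 1, Int.ofNat 1, Int.ofNat 1, Int.negSucc 0, Int.negSucc 0, Int.negSucc 0, Int.negSucc 0, Int.negSucc 0, Int.negSucc 0],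
  [Int.negSucc 0, Int.negSucc 2, Int.ofNat 1, Int.ofNat 1, Int.negSucc 0, Int.ofNat 1, Int.ofNat 1, Int.ofNat 1, Int.negSucc 0, Int.negSucc 0, Int.ofNat 1, Int.negSucc 0, Int.ofNat 1, Int.negSucc 0, Int.ofNat 1, Int.ofNat 1, Int.negSucc 0, Int.ofNat 1, Int.ofNat 1, Int.negSucc 0, Int.negSucc 0, Int.negSucc 0, Int.negSucc 0, Int.negSucc 0],
  [Int.negSucc 0, Int.ofNat 1, Int.ofNat 1, Int.ofNat 1, Int.negSucc 2, Int.ofNat 1, Int.negSucc 0, Int.negSucc 0, Int.negSucc 0, Int.negSucc 0, Int.negSucc 0, Int.ofNat 1, Int.negSucc 0, Int.negSucc 0, Int.negSucc 0, Int.ofNat 1, Int.ofNat 1, Int.negSucc 0, Int.ofNat 1, Int.ofNat 1, Int.ofNat 1, Int.ofNat 1, Int.negSucc 0, Int.negSucc 0],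
  [Int.ofNat 1, Int.ofNat 1, Int.negSucc 0, Int.ofNat 1, Int.negSucc 2, Int.ofNat 1, Int.negSucc 0, Int.ofNat 1, Int.negSucc 0, Int.ofNat 1, Int.ofNat 1, Int.negSucc 0, Int.negSucc 0, Int.negSucc 0, Int.negSucc 0, Int.ofNat 1, Int.ofNat 1, Int.negSucc 0, Int.negSucc 0, Int.ofNat 1, Int.ofNat 1, Int.negSucc 0, Int.negSucc 0, Int.negSucc 0],
  [Int.negSucc 0, Int.ofNat 1, Int.ofNat 1, Int.negSucc 0, Int.ofNat 1, Int.negSucc 2, Int.ofNat 1, Int.negSucc 0, Int.ofNat 1, Int.negSucc 0, Int.ofNat 1, Int.ofNat 1, Int.negSucc 0, Int.negSucc 0, Int.negSucc 0, Int.negSucc 0, Int.ofNat 1, Int.ofNat 1, Int.negSucc 0, Int.negSucc 0, Int.ofNat 1, Int.ofNat 1, Int.negSucc 0, Int.negSucc 0],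
  [Int.ofNat 1, Int.negSucc 0, Int.negSucc 0, Int.ofNat 1, Int.ofNat 1, Int.negSucc 0, Int.ofNat 1, Int.negSucc 0, Int.ofNat 1, Int.negSucc 0, Int.ofNat 1, Int.ofNat 1, Int.negSucc 0, Int.negSucc 0, Int.ofNat 1, Int.negSucc 0, Int.ofNat 1, Int.ofNat 3, Int.negSucc 0, Int.negSucc 0, Int.ofNat 1, Int.ofNat 1, Int.negSucc 0, Int.ofNat 1],
  [Int.ofNat 1, Int.ofNat 1, Int.negSucc 0, Int.ofNat 1, Int.negSucc 0, Int.ofNat 1, Int.negSucc 0, Int.ofNat 1, Int.ofNat 1, Int.negSucc 0, Int.negSucc 0, Int.ofNat 1, Int.negSucc 0, Int.ofNat 1, Int.ofNat 3, Int.negSucc 0, Int.negSucc 0, Int.ofNat 1, Int.ofNat 1, Int.negSucc 0, Int.ofNat 1, Int.negSucc 0, Int.negSucc 0, Int.ofNat 1],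
  [Int.ofNat 0, Int.ofNat 0, Int.ofNat 2, Int.negSucc 1, Int.ofNat 0, Int.negSucc 1, Int.ofNat 0, Int.ofNat 2, Int.ofNat 0, Int.ofNat 0, Int.ofNat 0, Int.ofNat 0, Int.negSucc 1, Int.ofNat 2, Int.ofNat 0, Int.ofNat 0, Int.ofNat 0, Int.negSucc 1, Int.ofNat 0, Int.ofNat 0, Int.ofNat 2, Int.ofNat 0, Int.ofNat 0, Int.ofNat 0],
  [Int.ofNat 0, Int.ofNat 0, Int.ofNat 0, Int.negSucc 1, Int.ofNat 0, Int.ofNat 2, Int.ofNat 2, Int.ofNat 0, Int.negSucc 1, Int.ofNat 2, Int.ofNat 2, Int.negSucc 1, Int.ofNat 0, Int.ofNat 0, Int.ofNat 0, Int.ofNat 0, Int.ofNat 0, Int.ofNat 0, Int.ofNat 0, Int.ofNat 0, Int.ofNat 0, Int.negSucc 1, Int.ofNat 0, Int.ofNat 0],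
  [Int.ofNat 0, Int.ofNat 0, Int.ofNat 0, Int.negSucc 1, Int.ofNat 0, Int.ofNat 2, Int.ofNat 2, Int.ofNat 0, Int.ofNat 0, Int.ofNat 0, Int.ofNat 0, Int.ofNat 0, Int.ofNat 2, Int.ofNat 0, Int.ofNat 0, Int.negSucc 1, Int.ofNat 0, Int.ofNat 0, Int.ofNat 2, Int.ofNat 0, Int.negSucc 1, Int.negSucc 1, Int.ofNat 0, Int.ofNat 0],
  [Int.ofNat 0, Int.ofNat 0, Int.ofNat 0, Int.negSucc 1, Int.ofNat 0, Int.negSucc 1, Int.negSucc 1, Int.ofNat 0, Int.ofNat 0, Int.ofNat 0, Int.ofNat 0, Int.ofNat 0, Int.ofNat 2, Int.ofNat 0, Int.ofNat 0, Int.ofNat 2, Int.ofNat 0, Int.ofNat 0, Int.negSucc 1, Int.ofNat 0, Int.negSucc 1, Int.negSucc 1, Int.ofNat 0, Int.ofNat 0],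
  [Int.ofNat 0, Int.ofNat 0, Int.ofNat 0, Int.ofNat 0, Int.ofNat 0, Int.negSucc 1, Int.negSucc 1, Int.negSucc 1, Int.negSucc 1, Int.negSucc 1, Int.ofNat 0, Int.ofNat 0, Int.ofNat 2, Int.ofNat 0, Int.ofNat 0, Int.negSucc 1, Int.ofNat 0, Int.ofNat 2, Int.ofNat 0, Int.ofNat 0, Int.ofNat 0, Int.ofNat 0, Int.ofNat 0, Int.ofNat 0],
  [Int.ofNat 0, Int.ofNat 0, Int.ofNat 0, Int.negSucc 1, Int.ofNat 2, Int.negSucc 1, Int.ofNat 0, Int.ofNat 0, Int.ofNat 0, Int.negSucc 1, Int.ofNat 0, Int.ofNat 0, Int.ofNat 0, Int.negSucc 1, Int.ofNat 0, Int.ofNat 0, Int.ofNat 0, Int.ofNat 0, Int.ofNat 0, Int.negSucc 1, Int.negSucc 1, Int.ofNat 2, Int.ofNat 0, Int.ofNat 0],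
  [Int.ofNat 0, Int.ofNat 0, Int.ofNat 0, Int.negSucc 1, Int.ofNat 2, Int.negSucc 1, Int.ofNat 0, Int.ofNat 0, Int.ofNat 0, Int.ofNat 2, Int.ofNat 0, Int.ofNat 0, Int.ofNat 0, Int.negSucc 1, Int.ofNat 0, Int.ofNat 0, Int.ofNat 0, Int.ofNat 0, Int.ofNat 0, Int.negSucc 1, Int.negSucc 1, Int.negSucc 1, Int.ofNat 0, Int.ofNat 0],
  [Int.ofNat 0, Int.ofNat 0, Int.ofNat 0, Int.ofNat 0, Int.negSucc 1, Int.ofNat 2, Int.negSucc 1, Int.ofNat 0, Int.ofNat 0, Int.ofNat 0, Int.ofNat 2, Int.ofNat 0, Int.ofNat 0, Int.ofNat 0, Int.negSucc 1, Int.ofNat 0, Int.ofNat 0, Int.ofNat 0, Int.ofNat 0, Int.ofNat 0, Int.negSucc 1, Int.negSucc 1, Int.negSucc 1, Int.ofNat 0],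
  [Int.ofNat 0, Int.ofNat 0, Int.ofNat 0, Int.ofNat 0, Int.ofNat 0, Int.ofNat 2, Int.ofNat 0, Int.ofNat 2, Int.ofNat 0, Int.ofNat 0, Int.ofNat 2, Int.ofNat 0, Int.ofNat 0, Int.ofNat 2, Int.negSucc 1, Int.ofNat 0, Int.ofNat 2, Int.ofNat 0, Int.ofNat 0, Int.ofNat 2, Int.negSucc 1, Int.ofNat 0, Int.ofNat 0, Int.ofNat 0],
  [Int.ofNat 0, Int.ofNat 0, Int.ofNat 2, Int.ofNat 0, Int.ofNat 2, Int.ofNat 0, Int.ofNat 0, Int.ofNat 2, Int.ofNat 0, Int.ofNat 0, Int.ofNat 2, Int.negSucc 1, Int.ofNat 0, Int.ofNat 2, Int.ofNat 0, Int.ofNat 0, Int.ofNat 2, Int.negSucc 1, Int.ofNat 0, Int.ofNat 0, Int.ofNat 0, Int.ofNat 0, Int.ofNat 0, Int.ofNat 0],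
  [Int.ofNat 1, Int.ofNat 1, Int.negSucc 0, Int.ofNat 1, Int.negSucc 0, Int.ofNat 1, Int.negSucc 0, Int.ofNat 1, Int.ofNat 1, Int.negSucc 0, Int.ofNat 1, Int.negSucc 0, Int.ofNat 1, Int.negSucc 0, Int.ofNat 1, Int.negSucc 0, Int.negSucc 0, Int.negSucc 0, Int.ofNat 1, Int.negSucc 0, Int.negSucc 0, Int.negSucc 0, Int.negSucc 2, Int.ofNat 1],
  [Int.ofNat 1, Int.negSucc 0, Int.negSucc 0, Int.ofNat 1, Int.ofNat 1, Int.ofNat 1, Int.negSucc 0, Int.ofNat 1, Int.ofNat 1, Int.negSucc 0, Int.negSucc 0, Int.negSucc 0, Int.negSucc 0, Int.negSucc 0, Int.negSucc 2, Int.negSucc 0, Int.ofNat 1, Int.ofNat 1, Int.ofNat 1, Int.negSucc 0, Int.negSucc 0, Int.ofNat 1, Int.negSucc 0, Int.ofNat 1],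
  [Int.negSucc 0, Int.ofNat 1, Int.ofNat 1, Int.ofNat 1, Int.ofNat 1, Int.ofNat 1, Int.negSucc 0, Int.ofNat 1, Int.ofNat 1, Int.ofNat 1, Int.ofNat 1, Int.negSucc 0, Int.negSucc 0, Int.negSucc 0, Int.negSucc 2, Int.ofNat 1, Int.ofNat 1, Int.ofNat 1, Int.ofNat 1, Int.negSucc 0, Int.ofNat 1, Int.ofNat 1, Int.negSucc 0, Int.negSucc 0],
  [Int.negSucc 0, Int.ofNat 1, Int.negSucc 0, Int.ofNat 1, Int.ofNat 1, Int.negSucc 0, Int.ofNat 1, Int.ofNat 1, Int.ofNat 1, Int.negSucc 0, Int.negSucc 0, Int.negSucc 0, Int.negSucc 0, Int.negSucc 0, Int.negSucc 2, Int.negSucc 0, Int.ofNat 1, Int.ofNat 1, Int.negSucc 0, Int.negSucc 0, Int.ofNat 1, Int.ofNat 1, Int.ofNat 1, Int.negSucc 0],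
  [Int.ofNat 1, Int.negSucc 0, Int.negSucc 0, Int.negSucc 0, Int.negSucc 0, Int.negSucc 0, Int.negSucc 0, Int.negSucc 0, Int.negSucc 0, Int.ofNat 1, Int.negSucc 0, Int.ofNat 1, Int.ofNat 1, Int.ofNat 1, Int.negSucc 0, Int.ofNat 1, Int.ofNat 1, Int.ofNat 1, Int.negSucc 2, Int.ofNat 1, Int.ofNat 1, Int.negSucc 0, Int.ofNat 1, Int.negSucc 0],
  [Int.ofNat 1, Int.negSucc 0, Int.ofNat 1, Int.negSucc 0, Int.negSucc 0, Int.ofNat 1, Int.ofNat 1, Int.negSucc 0, Int.negSucc 0, Int.negSucc 0, Int.ofNat 1, Int.ofNat 1, Int.ofNat 1, Int.ofNat 1, Int.negSucc 0, Int.negSucc 0, Int.ofNat 1, Int.ofNat 1, Int.ofNat 3, Int.ofNat 1, Int.ofNat 1, Int.negSucc 0, Int.negSucc 0, Int.negSucc 0],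
  [Int.negSucc 0, Int.ofNat 1, Int.negSucc 0, Int.negSucc 0, Int.negSucc 0, Int.ofNat 1, Int.ofNat 1, Int.negSucc 0, Int.negSucc 2, Int.negSucc 0, Int.ofNat 1, Int.negSucc 0, Int.negSucc 0, Int.ofNat 1, Int.negSucc 0, Int.negSucc 0, Int.ofNat 1, Int.ofNat 1, Int.ofNat 1, Int.ofNat 1, Int.ofNat 1, Int.negSucc 0, Int.negSucc 0, Int.ofNat 1],
  [Int.negSucc 0, Int.ofNat 1, Int.ofNat 1, Int.negSucc 0, Int.negSucc 0, Int.negSucc 0, Int.ofNat 1, Int.ofNat 1, Int.ofNat 1, Int.negSucc 0, Int.negSucc 0, Int.ofNat 1, Int.negSucc 2, Int.negSucc 0, Int.ofNat 1, Int.negSucc 0, Int.ofNat 1, Int.negSucc 0, Int.negSucc 0, Int.negSucc 0, Int.ofNat 1, Int.ofNat 1, Int.negSucc 0, Int.ofNat 1],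
  [Int.ofNat 2, Int.ofNat 0, Int.ofNat 0, Int.ofNat 0, Int.ofNat 0, Int.ofNat 0, Int.ofNat 0, Int.ofNat 0, Int.ofNat 2, Int.ofNat 0, Int.ofNat 0, Int.ofNat 2, Int.negSucc 1, Int.ofNat 0, Int.ofNat 2, Int.ofNat 0, Int.ofNat 2, Int.ofNat 0, Int.ofNat 0, Int.negSucc 1, Int.ofNat 2, Int.ofNat 0, Int.ofNat 0, Int.ofNat 0],
  [Int.ofNat 2, Int.ofNat 0, Int.ofNat 0, Int.ofNat 2, Int.ofNat 0, Int.ofNat 0, Int.ofNat 0, Int.ofNat 0, Int.ofNat 0, Int.ofNat 0, Int.ofNat 0, Int.ofNat 2, Int.ofNat 0, Int.ofNat 0, Int.ofNat 2, Int.negSucc 1, Int.ofNat 0, Int.ofNat 2, Int.ofNat 0, Int.ofNat 2, Int.ofNat 0, Int.ofNat 0, Int.negSucc 1, Int.ofNat 0],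
  [Int.negSucc 0, Int.ofNat 1, Int.ofNat 1, Int.negSucc 0, Int.ofNat 1, Int.negSucc 2, Int.negSucc 0, Int.negSucc 0, Int.negSucc 0, Int.ofNat 1, Int.ofNat 1, Int.ofNat 1, Int.negSucc 0, Int.ofNat 1, Int.negSucc 0, Int.negSucc 0, Int.ofNat 1, Int.negSucc 0, Int.negSucc 0, Int.ofNat 1, Int.ofNat 1, Int.negSucc 0, Int.negSucc 0, Int.ofNat 1],
  [Int.ofNat 1, Int.ofNat 1, Int.negSucc 0, Int.ofNat 1, Int.negSucc 2, Int.negSucc 0, Int.negSucc 0, Int.negSucc 0, Int.ofNat 1, Int.ofNat 1, Int.ofNat 1, Int.negSucc 0, Int.ofNat 1, Int.negSucc 0, Int.negSucc 0, Int.ofNat 1, Int.negSucc 0, Int.negSucc 0, Int.ofNat 1, Int.ofNat 1, Int.negSucc 0, Int.negSucc 0, Int.negSucc 0, Int.ofNat 1],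
  [Int.negSucc 0, Int.ofNat 1, Int.ofNat 1, Int.ofNat 1, Int.negSucc 2, Int.negSucc 0, Int.negSucc 0, Int.ofNat 1, Int.ofNat 1, Int.negSucc 0, Int.negSucc 0, Int.ofNat 1, Int.ofNat 1, Int.negSucc 0, Int.negSucc 0, Int.ofNat 1, Int.negSucc 0, Int.negSucc 0, Int.negSucc 0, Int.ofNat 1, Int.negSucc 0, Int.ofNat 1, Int.negSucc 0, Int.ofNat 1],
  [Int.ofNat 1, Int.negSucc 0, Int.negSucc 0, Int.negSucc 0, Int.ofNat 3, Int.negSucc 0, Int.ofNat 1, Int.ofNat 1, Int.negSucc 0, Int.ofNat 1, Int.negSucc 0, Int.ofNat 1, Int.negSucc 0, Int.ofNat 1, Int.negSucc 0, Int.ofNat 1, Int.ofNat 1, Int.negSucc 0, Int.ofNat 1, Int.ofNat 1, Int.negSucc 0, Int.ofNat 1, Int.negSucc 0, Int.ofNat 1],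
  [Int.ofNat 1, Int.negSucc 0, Int.ofNat 1, Int.negSucc 0, Int.negSucc 0, Int.negSucc 0, Int.ofNat 3, Int.negSucc 0, Int.ofNat 1, Int.ofNat 1, Int.ofNat 1, Int.negSucc 0, Int.ofNat 1, Int.negSucc 0, Int.ofNat 1, Int.ofNat 1, Int.negSucc 0, Int.negSucc 0, Int.ofNat 1, Int.negSucc 0, Int.negSucc 0, Int.ofNat 1, Int.ofNat 1, Int.ofNat 1],
  [Int.negSucc 0, Int.negSucc 0, Int.negSucc 0, Int.negSucc 0, Int.negSucc 0, Int.negSucc 0, Int.ofNat 3, Int.ofNat 1, Int.ofNat 1, Int.negSucc 0, Int.negSucc 0, Int.ofNat 1, Int.ofNat 1, Int.negSucc 0, Int.ofNat 1, Int.ofNat 1, Int.negSucc 0, Int.negSucc 0, Int.negSucc 0, Int.negSucc 0, Int.negSucc 0, Int.negSucc 0, Int.ofNat 1, Int.ofNat 1],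
  [Int.ofNat 1, Int.negSucc 0, Int.negSucc 0, Int.negSucc 0, Int.negSucc 0, Int.negSucc 0, Int.negSucc 0, Int.ofNat 3, Int.ofNat 1, Int.ofNat 1, Int.negSucc 0, Int.negSucc 0, Int.ofNat 1, Int.ofNat 1, Int.negSucc 0, Int.ofNat 1, Int.ofNat 1, Int.negSucc 0, Int.negSucc 0, Int.negSucc 0, Int.negSucc 0, Int.negSucc 0, Int.negSucc 0, Int.ofNat 1],
  [Int.negSucc 0, Int.ofNat 1, Int.ofNat 1, Int.ofNat 1, Int.negSucc 0, Int.ofNat 1, Int.negSucc 0, Int.ofNat 3, Int.ofNat 1, Int.ofNat 1, Int.negSucc 0, Int.negSucc 0, Int.ofNat 1, Int.ofNat 1, Int.ofNat 1, Int.ofNat 1, Int.ofNat 1, Int.ofNat 1, Int.negSucc 0, Int.negSucc 0, Int.negSucc 0, Int.negSucc 0, Int.negSucc 0, Int.negSucc 0],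
  [Int.ofNat 1, Int.negSucc 0, Int.ofNat 1, Int.negSucc 0, Int.ofNat 3, Int.ofNat 1, Int.ofNat 1, Int.negSucc 0, Int.negSucc 0, Int.ofNat 1, Int.ofNat 1, Int.ofNat 1, Int.ofNat 1, Int.ofNat 1, Int.ofNat 1, Int.negSucc 0, Int.negSucc 0, Int.negSucc 0, Int.negSucc 0, Int.negSucc 0, Int.negSucc 0, Int.ofNat 1, Int.ofNat 1, Int.negSucc 0],
  [Int.negSucc 0, Int.ofNat 1, Int.negSucc 0, Int.negSucc 0, Int.ofNat 1, Int.ofNat 1, Int.ofNat 1, Int.negSucc 0, Int.negSucc 0, Int.ofNat 1, Int.ofNat 1, Int.ofNat 1, Int.ofNat 1, Int.negSucc 0, Int.ofNat 1, Int.negSucc 0, Int.negSucc 2, Int.negSucc 0, Int.negSucc 0, Int.negSucc 0, Int.negSucc 0, Int.ofNat 1, Int.negSucc 0, Int.ofNat 1],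
  [Int.negSucc 0, Int.ofNat 1, Int.ofNat 1, Int.negSucc 0, Int.negSucc 0, Int.negSucc 0, Int.negSucc 0, Int.ofNat 1, Int.ofNat 1, Int.negSucc 0, Int.negSucc 0, Int.negSucc 0, Int.ofNat 1, Int.negSucc 2, Int.negSucc 0, Int.negSucc 0, Int.negSucc 0, Int.ofNat 1, Int.ofNat 1, Int.ofNat 1, Int.ofNat 1, Int.ofNat 1, Int.negSucc 0, Int.ofNat 1],
  [Int.ofNat 2, Int.ofNat 0, Int.ofNat 0, Int.ofNat 0, Int.ofNat 2, Int.ofNat 0, Int.negSucc 1, Int.ofNat 0, Int.ofNat 0, Int.ofNat 0, Int.ofNat 0, Int.negSucc 1, Int.ofNat 0, Int.ofNat 0, Int.ofNat 0, Int.ofNat 0, Int.ofNat 2, Int.ofNat 2, Int.ofNat 0, Int.ofNat 0, Int.ofNat 2, Int.ofNat 0, Int.ofNat 2, Int.ofNat 0],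
  [Int.ofNat 2, Int.ofNat 0, Int.ofNat 0, Int.ofNat 0, Int.ofNat 2, Int.ofNat 0, Int.ofNat 2, Int.ofNat 0, Int.ofNat 0, Int.ofNat 0, Int.ofNat 0, Int.negSucc 1, Int.ofNat 0, Int.ofNat 0, Int.ofNat 0, Int.ofNat 0, Int.ofNat 2, Int.ofNat 2, Int.ofNat 0, Int.ofNat 0, Int.ofNat 2, Int.ofNat 0, Int.negSucc 1, Int.ofNat 0],
  [Int.ofNat 0, Int.ofNat 2, Int.negSucc 1, Int.ofNat 0, Int.ofNat 0, Int.ofNat 2, Int.ofNat 0, Int.ofNat 0, Int.ofNat 0, Int.ofNat 2, Int.ofNat 0, Int.ofNat 0, Int.ofNat 0, Int.ofNat 2, Int.ofNat 2, Int.ofNat 0, Int.ofNat 0, Int.ofNat 0, Int.ofNat 0, Int.ofNat 0, Int.ofNat 2, Int.ofNat 0, Int.negSucc 1, Int.ofNat 0],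
  [Int.ofNat 0, Int.negSucc 1, Int.ofNat 0, Int.ofNat 0, Int.ofNat 0, Int.ofNat 2, Int.ofNat 0, Int.ofNat 2, Int.ofNat 2, Int.ofNat 2, Int.ofNat 0, Int.negSucc 1, Int.ofNat 0, Int.ofNat 0, Int.ofNat 0, Int.ofNat 0, Int.ofNat 0, Int.ofNat 0, Int.ofNat 2, Int.ofNat 0, Int.ofNat 0, Int.ofNat 0, Int.ofNat 2, Int.ofNat 0],
  [Int.ofNat 0, Int.negSucc 1, Int.ofNat 0, Int.ofNat 0, Int.ofNat 0, Int.ofNat 2, Int.ofNat 0, Int.negSucc 1, Int.ofNat 2, Int.negSucc 1, Int.ofNat 0, Int.ofNat 2, Int.ofNat 0, Int.ofNat 0, Int.ofNat 0, Int.ofNat 0, Int.ofNat 0, Int.ofNat 0, Int.negSucc 1, Int.ofNat 0, Int.ofNat 0, Int.ofNat 0, Int.ofNat 2, Int.ofNat 0],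
  [Int.ofNat 2, Int.ofNat 0, Int.negSucc 1, Int.ofNat 0, Int.ofNat 0, Int.ofNat 0, Int.ofNat 2, Int.ofNat 0, Int.negSucc 1, Int.ofNat 2, Int.negSucc 1, Int.ofNat 0, Int.ofNat 2, Int.ofNat 0, Int.ofNat 0, Int.ofNat 0, Int.ofNat 0, Int.ofNat 0, Int.ofNat 0, Int.negSucc 1, Int.ofNat 0, Int.ofNat 0, Int.ofNat 0, Int.ofNat 0],
  [Int.negSucc 1, Int.ofNat 0, Int.ofNat 2, Int.ofNat 0, Int.ofNat 0, Int.ofNat 0, Int.ofNat 2, Int.ofNat 0, Int.negSucc 1, Int.ofNat 2, Int.negSucc 1, Int.ofNat 0, Int.ofNat 2, Int.ofNat 0, Int.ofNat 0, Int.ofNat 0, Int.ofNat 0, Int.ofNat 0, Int.ofNat 0, Int.negSucc 1, Int.ofNat 0, Int.ofNat 0, Int.ofNat 0, Int.ofNat 0],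
  [Int.ofNat 0, Int.ofNat 0, Int.ofNat 0, Int.ofNat 2, Int.ofNat 0, Int.negSucc 1, Int.ofNat 2, Int.negSucc 1, Int.ofNat 0, Int.ofNat 2, Int.ofNat 0, Int.ofNat 0, Int.ofNat 0, Int.ofNat 0, Int.ofNat 0, Int.ofNat 0, Int.negSucc 1, Int.ofNat 0, Int.ofNat 0, Int.ofNat 0, Int.negSucc 1, Int.ofNat 0, Int.ofNat 2, Int.ofNat 0],
  [Int.ofNat 0, Int.ofNat 0, Int.ofNat 0, Int.ofNat 2, Int.ofNat 0, Int.negSucc 1, Int.ofNat 2, Int.negSucc 1, Int.ofNat 0, Int.ofNat 2, Int.ofNat 0, Int.ofNat 0, Int.ofNat 0, Int.ofNat 0, Int.ofNat 0, Int.ofNat 0, Int.negSucc 1, Int.ofNat 0, Int.ofNat 0, Int.ofNat 0, Int.negSucc 1, Int.ofNat 0, Int.ofNat 2, Int.ofNat 0],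
  [Int.ofNat 0, Int.ofNat 2, Int.ofNat 0, Int.ofNat 2, Int.ofNat 0, Int.negSucc 1, Int.ofNat 0, Int.ofNat 0, Int.ofNat 0, Int.ofNat 0, Int.negSucc 1, Int.ofNat 0, Int.ofNat 2, Int.negSucc 1, Int.ofNat 2, Int.ofNat 0, Int.ofNat 0, Int.ofNat 0, Int.ofNat 0, Int.ofNat 0, Int.ofNat 0, Int.negSucc 1, Int.ofNat 0, Int.ofNat 0],
  [Int.ofNat 1, Int.negSucc 0, Int.ofNat 1, Int.ofNat 1, Int.ofNat 1, Int.negSucc 2, Int.ofNat 1, Int.ofNat 1, Int.negSucc 0, Int.ofNat 1, Int.negSucc 0, Int.negSucc 0, Int.ofNat 1, Int.negSucc 0, Int.ofNat 1, Int.ofNat 1, Int.ofNat 1, Int.negSucc 0, Int.negSucc 0, Int.ofNat 1, Int.ofNat 1, Int.negSucc 0, Int.ofNat 1, Int.ofNat 1],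
  [Int.ofNat 1, Int.negSucc 0, Int.negSucc 0, Int.ofNat 1, Int.ofNat 1, Int.ofNat 3, Int.negSucc 0, Int.ofNat 1, Int.negSucc 0, Int.negSucc 0, Int.ofNat 1, Int.negSucc 0, Int.ofNat 1, Int.negSucc 0, Int.ofNat 1, Int.negSucc 0, Int.ofNat 1, Int.negSucc 0, Int.ofNat 1, Int.ofNat 1, Int.ofNat 1, Int.negSucc 0, Int.negSucc 0, Int.ofNat 1],
  [Int.ofNat 1, Int.negSucc 0, Int.ofNat 3, Int.negSucc 0, Int.negSucc 0, Int.ofNat 1, Int.ofNat 1, Int.ofNat 1, Int.ofNat 1, Int.ofNat 1, Int.negSucc 0, Int.negSucc 0, Int.negSucc 0, Int.negSucc 0, Int.ofNat 1, Int.ofNat 1, Int.ofNat 1, Int.negSucc 0, Int.ofNat 1, Int.negSucc 0, Int.negSucc 0, Int.negSucc 0, Int.ofNat 1, Int.ofNat 1],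
  [Int.ofNat 1, Int.negSucc 0, Int.negSucc 2, Int.negSucc 0, Int.negSucc 0, Int.negSucc 0, Int.negSucc 0, Int.ofNat 1, Int.ofNat 1, Int.negSucc 0, Int.ofNat 1, Int.negSucc 0, Int.negSucc 0, Int.negSucc 0, Int.ofNat 1, Int.negSucc 0, Int.ofNat 1, Int.negSucc 0, Int.negSucc 0, Int.negSucc 0, Int.negSucc 0, Int.negSucc 0, Int.negSucc 0, Int.ofNat 1],
  [Int.negSucc 1, Int.ofNat 0, Int.ofNat 2, Int.ofNat 0, Int.ofNat 0, Int.ofNat 0, Int.ofNat 0, Int.ofNat 2, Int.ofNat 2, Int.ofNat 0, Int.ofNat 2, Int.ofNat 0, Int.ofNat 0, Int.ofNat 0, Int.ofNat 2, Int.ofNat 0, Int.ofNat 2, Int.ofNat 0, Int.ofNat 0, Int.ofNat 0, Int.ofNat 0, Int.ofNat 0, Int.ofNat 0, Int.negSucc 1],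
  [Int.negSucc 1, Int.ofNat 0, Int.ofNat 0, Int.ofNat 0, Int.ofNat 2, Int.ofNat 0, Int.ofNat 0, Int.ofNat 0, Int.ofNat 2, Int.ofNat 0, Int.ofNat 2, Int.ofNat 0, Int.ofNat 2, Int.ofNat 0, Int.ofNat 0, Int.ofNat 0, Int.ofNat 0, Int.ofNat 0, Int.ofNat 0, Int.ofNat 0, Int.ofNat 2, Int.ofNat 0, Int.ofNat 2, Int.negSucc 1],
  [Int.ofNat 0, Int.negSucc 1, Int.negSucc 1, Int.ofNat 0, Int.ofNat 0, Int.ofNat 0, Int.ofNat 0, Int.ofNat 0, Int.ofNat 0, Int.negSucc 1, Int.ofNat 0, Int.negSucc 1, Int.ofNat 0, Int.negSucc 1, Int.ofNat 0, Int.negSucc 1, Int.negSucc 1, Int.ofNat 0, Int.negSucc 1, Int.ofNat 0, Int.ofNat 0, Int.ofNat 0, Int.ofNat 0, Int.ofNat 0],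
  [Int.ofNat 0, Int.ofNat 0, Int.ofNat 0, Int.ofNat 0, Int.negSucc 1, Int.negSucc 1, Int.ofNat 0, Int.ofNat 0, Int.ofNat 0, Int.ofNat 0, Int.ofNat 0, Int.ofNat 0, Int.negSucc 1, Int.ofNat 0, Int.negSucc 1, Int.ofNat 0, Int.negSucc 1, Int.ofNat 0, Int.negSucc 1, Int.negSucc 1, Int.ofNat 0, Int.negSucc 1, Int.ofNat 0, Int.ofNat 0],
  [Int.ofNat 0, Int.ofNat 0, Int.ofNat 0, Int.ofNat 2, Int.ofNat 0, Int.ofNat 0, Int.ofNat 2, Int.ofNat 2, Int.ofNat 2, Int.ofNat 0, Int.ofNat 0, Int.ofNat 2, Int.ofNat 0, Int.ofNat 2, Int.ofNat 0, Int.ofNat 0, Int.ofNat 0, Int.ofNat 2, Int.ofNat 0, Int.ofNat 0, Int.ofNat 0, Int.ofNat 0, Int.ofNat 2, Int.ofNat 0],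
  [Int.ofNat 0, Int.ofNat 0, Int.ofNat 2, Int.ofNat 0, Int.ofNat 0, Int.ofNat 2, Int.ofNat 2, Int.ofNat 2, Int.ofNat 0, Int.ofNat 0, Int.ofNat 2, Int.ofNat 0, Int.ofNat 2, Int.ofNat 0, Int.ofNat 0, Int.ofNat 0, Int.ofNat 2, Int.ofNat 0, Int.ofNat 0, Int.ofNat 0, Int.ofNat 0, Int.ofNat 2, Int.ofNat 0, Int.ofNat 0],
  [Int.ofNat 0, Int.ofNat 0, Int.negSucc 1, Int.ofNat 0, Int.ofNat 0, Int.ofNat 2, Int.ofNat 2, Int.negSucc 1, Int.ofNat 0, Int.ofNat 0, Int.negSucc 1, Int.ofNat 0, Int.ofNat 2, Int.ofNat 0, Int.ofNat 0, Int.ofNat 0, Int.ofNat 2, Int.ofNat 0, Int.ofNat 0, Int.ofNat 0, Int.ofNat 0, Int.negSucc 1, Int.ofNat 0, Int.ofNat 0],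
  [Int.ofNat 0, Int.ofNat 0, Int.ofNat 2, Int.ofNat 0, Int.ofNat 0, Int.ofNat 2, Int.negSucc 1, Int.negSucc 1, Int.ofNat 0, Int.ofNat 0, Int.negSucc 1, Int.ofNat 0, Int.negSucc 1, Int.ofNat 0, Int.ofNat 0, Int.ofNat 0, Int.negSucc 1, Int.ofNat 0, Int.ofNat 0, Int.ofNat 0, Int.ofNat 0, Int.negSucc 1, Int.ofNat 0, Int.ofNat 0],
  [Int.ofNat 0, Int.ofNat 2, Int.ofNat 0, Int.ofNat 0, Int.ofNat 0, Int.negSucc 1, Int.ofNat 0, Int.ofNat 0, Int.ofNat 0, Int.negSucc 1, Int.negSucc 1, Int.ofNat 0, Int.ofNat 0, Int.ofNat 0, Int.ofNat 0, Int.ofNat 0, Int.negSucc 1, Int.ofNat 0, Int.negSucc 1, Int.ofNat 0, Int.ofNat 2, Int.negSucc 1, Int.ofNat 0, Int.ofNat 0],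
  [Int.ofNat 0, Int.ofNat 2, Int.ofNat 0, Int.ofNat 0, Int.ofNat 0, Int.negSucc 1, Int.ofNat 0, Int.ofNat 0, Int.ofNat 0, Int.ofNat 2, Int.ofNat 2, Int.ofNat 0, Int.ofNat 0, Int.ofNat 0, Int.ofNat 0, Int.ofNat 0, Int.negSucc 1, Int.ofNat 0, Int.ofNat 2, Int.ofNat 0, Int.ofNat 2, Int.ofNat 2, Int.ofNat 0, Int.ofNat 0],
  [Int.ofNat 0, Int.ofNat 0, Int.ofNat 2, Int.ofNat 0, Int.ofNat 0, Int.ofNat 0, Int.negSucc 1, Int.ofNat 0, Int.ofNat 0, Int.ofNat 0, Int.ofNat 2, Int.ofNat 2, Int.ofNat 0, Int.ofNat 0, Int.ofNat 0, Int.ofNat 0, Int.ofNat 0, Int.negSucc 1, Int.ofNat 0, Int.ofNat 2, Int.ofNat 0, Int.ofNat 2, Int.ofNat 2, Int.ofNat 0],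
  [Int.ofNat 1, Int.ofNat 1, Int.negSucc 0, Int.ofNat 1, Int.negSucc 0, Int.ofNat 1, Int.negSucc 2, Int.negSucc 0, Int.negSucc 0, Int.negSucc 0, Int.ofNat 1, Int.ofNat 1, Int.negSucc 0, Int.negSucc 0, Int.ofNat 1, Int.negSucc 0, Int.negSucc 0, Int.negSucc 0, Int.negSucc 0, Int.ofNat 1, Int.negSucc 0, Int.ofNat 1, Int.ofNat 1, Int.ofNat 1],
  [Int.ofNat 1, Int.negSucc 0, Int.ofNat 1, Int.negSucc 2, Int.negSucc 0, Int.negSucc 0, Int.negSucc 0, Int.ofNat 1, Int.ofNat 1, Int.negSucc 0, Int.negSucc 0, Int.ofNat 1, Int.negSucc 0, Int.negSucc 0, Int.negSucc 0, Int.negSucc 0, Int.ofNat 1, Int.negSucc 0, Int.ofNat 1, Int.ofNat 1, Int.ofNat 1, Int.ofNat 1, Int.negSucc 0, Int.ofNat 1],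
  [Int.ofNat 0, Int.ofNat 2, Int.ofNat 0, Int.ofNat 0, Int.ofNat 0, Int.ofNat 2, Int.negSucc 1, Int.ofNat 0, Int.ofNat 0, Int.ofNat 0, Int.ofNat 0, Int.ofNat 0, Int.negSucc 1, Int.ofNat 0, Int.ofNat 2, Int.ofNat 0, Int.ofNat 2, Int.ofNat 2, Int.ofNat 0, Int.ofNat 0, Int.ofNat 2, Int.ofNat 0, Int.ofNat 0, Int.ofNat 0],
  [Int.ofNat 0, Int.negSucc 1, Int.ofNat 0, Int.ofNat 0, Int.ofNat 0, Int.ofNat 0, Int.ofNat 0, Int.ofNat 0, Int.negSucc 1, Int.ofNat 0, Int.ofNat 2, Int.ofNat 2, Int.ofNat 0, Int.ofNat 2, Int.ofNat 0, Int.ofNat 0, Int.ofNat 0, Int.ofNat 2, Int.ofNat 2, Int.ofNat 0, Int.ofNat 0, Int.ofNat 2, Int.ofNat 0, Int.ofNat 0],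
  [Int.negSucc 0, Int.ofNat 1, Int.negSucc 0, Int.negSucc 0, Int.negSucc 0, Int.negSucc 0, Int.negSucc 0, Int.negSucc 0, Int.negSucc 2, Int.negSucc 0, Int.ofNat 1, Int.ofNat 1, Int.negSucc 0, Int.ofNat 1, Int.negSucc 0, Int.negSucc 0, Int.negSucc 0, Int.ofNat 1, Int.ofNat 1, Int.negSucc 0, Int.negSucc 0, Int.ofNat 1, Int.negSucc 0, Int.negSucc 0],
  [Int.negSucc 0, Int.ofNat 1, Int.ofNat 1, Int.negSucc 0, Int.negSucc 0, Int.ofNat 1, Int.ofNat 1, Int.negSucc 0, Int.negSucc 2, Int.ofNat 1, Int.negSucc 0, Int.ofNat 1, Int.negSucc 0, Int.ofNat 1, Int.negSucc 0, Int.ofNat 1, Int.negSucc 0, Int.ofNat 1, Int.negSucc 0, Int.negSucc 0, Int.negSucc 0, Int.ofNat 1, Int.ofNat 1, Int.negSucc 0],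
  [Int.negSucc 0, Int.negSucc 0, Int.ofNat 1, Int.negSucc 2, Int.negSucc 0, Int.ofNat 1, Int.ofNat 1, Int.negSucc 0, Int.ofNat 1, Int.negSucc 0, Int.ofNat 1, Int.negSucc 0, Int.ofNat 1, Int.negSucc 0, Int.ofNat 1, Int.negSucc 0, Int.negSucc 0, Int.negSucc 0, Int.ofNat 1, Int.ofNat 1, Int.negSucc 0, Int.ofNat 1, Int.ofNat 1, Int.negSucc 0],
  [Int.negSucc 0, Int.ofNat 1, Int.negSucc 0, Int.negSucc 0, Int.negSucc 0, Int.negSucc 0, Int.ofNat 1, Int.negSucc 0, Int.negSucc 0, Int.ofNat 1, Int.negSucc 0, Int.ofNat 1, Int.ofNat 1, Int.negSucc 0, Int.ofNat 1, Int.negSucc 2, Int.ofNat 1, Int.negSucc 0, Int.ofNat 1, Int.ofNat 1, Int.ofNat 1, Int.ofNat 1, Int.negSucc 0, Int.negSucc 0],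
  [Int.ofNat 1, Int.ofNat 1, Int.ofNat 1, Int.negSucc 0, Int.negSucc 0, Int.negSucc 0, Int.ofNat 1, Int.ofNat 1, Int.negSucc 0, Int.negSucc 0, Int.ofNat 1, Int.negSucc 0, Int.ofNat 1, Int.negSucc 0, Int.ofNat 1, Int.negSucc 2, Int.ofNat 1, Int.negSucc 0, Int.negSucc 0, Int.ofNat 1, Int.ofNat 1, Int.negSucc 0, Int.negSucc 0, Int.negSucc 0],
  [Int.negSucc 0, Int.ofNat 1, Int.ofNat 1, Int.ofNat 1, Int.negSucc 0, Int.negSucc 0, Int.negSucc 0, Int.ofNat 1, Int.ofNat 1, Int.negSucc 0, Int.negSucc 0, Int.ofNat 1, Int.negSucc 0, Int.ofNat 1, Int.negSucc 0, Int.ofNat 1, Int.negSucc 2, Int.ofNat 1, Int.negSucc 0, Int.negSucc 0, Int.ofNat 1, Int.ofNat 1, Int.negSucc 0, Int.negSucc 0],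
  [Int.ofNat 1, Int.negSucc 0, Int.negSucc 0, Int.ofNat 1, Int.ofNat 1, Int.negSucc 0, Int.negSucc 0, Int.ofNat 1, Int.ofNat 1, Int.negSucc 0, Int.negSucc 0, Int.ofNat 1, Int.negSucc 0, Int.ofNat 3, Int.negSucc 0, Int.ofNat 1, Int.negSucc 0, Int.ofNat 1, Int.negSucc 0, Int.negSucc 0, Int.ofNat 1, Int.ofNat 1, Int.ofNat 1, Int.ofNat 1],
  [Int.ofNat 1, Int.ofNat 1, Int.negSucc 0, Int.negSucc 0, Int.ofNat 1, Int.ofNat 1, Int.negSucc 0, Int.negSucc 0, Int.ofNat 1, Int.negSucc 0, Int.ofNat 3, Int.negSucc 0, Int.ofNat 1, Int.negSucc 0, Int.ofNat 1, Int.negSucc 0, Int.negSucc 0, Int.ofNat 1, Int.ofNat 1, Int.ofNat 1, Int.ofNat 1, Int.negSucc 0, Int.negSucc 0, Int.ofNat 1],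
  [Int.ofNat 0, Int.ofNat 0, Int.ofNat 2, Int.negSucc 1, Int.ofNat 2, Int.ofNat 0, Int.ofNat 0, Int.ofNat 0, Int.ofNat 0, Int.negSucc 1, Int.ofNat 2, Int.negSucc 1, Int.ofNat 0, Int.ofNat 0, Int.ofNat 0, Int.negSucc 1, Int.ofNat 0, Int.ofNat 0, Int.ofNat 0, Int.ofNat 2, Int.ofNat 0, Int.ofNat 0, Int.ofNat 0, Int.ofNat 0],
  [Int.ofNat 0, Int.ofNat 0, Int.ofNat 2, Int.negSucc 1, Int.ofNat 0, Int.ofNat 0, Int.ofNat 2, Int.ofNat 2, Int.ofNat 0, Int.ofNat 0, Int.ofNat 0, Int.ofNat 0, Int.negSucc 1, Int.ofNat 0, Int.ofNat 0, Int.negSucc 1, Int.ofNat 0, Int.ofNat 0, Int.ofNat 0, Int.negSucc 1, Int.ofNat 0, Int.ofNat 0, Int.ofNat 2, Int.ofNat 0],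
  [Int.ofNat 1, Int.ofNat 1, Int.negSucc 0, Int.negSucc 0, Int.negSucc 0, Int.ofNat 1, Int.ofNat 1, Int.ofNat 1, Int.ofNat 1, Int.ofNat 1, Int.ofNat 1, Int.ofNat 1, Int.negSucc 0, Int.negSucc 0, Int.ofNat 1, Int.negSucc 0, Int.negSucc 0, Int.ofNat 1, Int.ofNat 1, Int.negSucc 2, Int.ofNat 1, Int.negSucc 0, Int.ofNat 1, Int.ofNat 1],
  [Int.ofNat 1, Int.ofNat 1, Int.ofNat 1, Int.negSucc 0, Int.negSucc 0, Int.negSucc 0, Int.negSucc 0, Int.ofNat 1, Int.ofNat 1, Int.negSucc 0, Int.negSucc 0, Int.ofNat 1, Int.negSucc 0, Int.negSucc 0, Int.ofNat 1, Int.ofNat 1, Int.negSucc 0, Int.ofNat 1, Int.negSucc 0, Int.negSucc 2, Int.ofNat 1, Int.negSucc 0, Int.negSucc 0, Int.ofNat 1],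
  [Int.ofNat 1, Int.negSucc 0, Int.negSucc 0, Int.ofNat 1, Int.ofNat 1, Int.ofNat 1, Int.negSucc 0, Int.negSucc 0, Int.negSucc 0, Int.negSucc 0, Int.ofNat 1, Int.ofNat 1, Int.negSucc 0, Int.negSucc 0, Int.negSucc 2, Int.negSucc 0, Int.negSucc 0, Int.ofNat 1, Int.ofNat 1, Int.negSucc 0, Int.ofNat 1, Int.negSucc 0, Int.ofNat 1, Int.ofNat 1],
  [Int.ofNat 1, Int.negSucc 0, Int.ofNat 1, Int.ofNat 1, Int.ofNat 1, Int.negSucc 0, Int.ofNat 1, Int.negSucc 0, Int.negSucc 0, Int.ofNat 1, Int.negSucc 0, Int.ofNat 1, Int.negSucc 0, Int.negSucc 0, Int.negSucc 2, Int.ofNat 1, Int.negSucc 0, Int.ofNat 1, Int.negSucc 0, Int.negSucc 0, Int.ofNat 1, Int.negSucc 0, Int.negSucc 0, Int.ofNat 1],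
  [Int.ofNat 0, Int.ofNat 2, Int.ofNat 0, Int.ofNat 2, Int.ofNat 2, Int.ofNat 0, Int.ofNat 2, Int.ofNat 0, Int.ofNat 0, Int.ofNat 0, Int.negSucc 1, Int.ofNat 2, Int.ofNat 0, Int.ofNat 0, Int.negSucc 1, Int.ofNat 0, Int.ofNat 0, Int.ofNat 2, Int.ofNat 0, Int.ofNat 0, Int.ofNat 0, Int.ofNat 0, Int.ofNat 0, Int.ofNat 0],
  [Int.ofNat 0, Int.ofNat 0, Int.ofNat 2, Int.ofNat 2, Int.ofNat 0, Int.ofNat 0, Int.ofNat 2, Int.ofNat 0, Int.ofNat 0, Int.ofNat 0, Int.ofNat 0, Int.ofNat 0, Int.ofNat 0, Int.ofNat 0, Int.ofNat 2, Int.ofNat 0, Int.ofNat 0, Int.ofNat 2, Int.ofNat 2, Int.ofNat 0, Int.negSucc 1, Int.ofNat 0, Int.negSucc 1, Int.ofNat 0],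
  [Int.ofNat 1, Int.ofNat 1, Int.negSucc 0, Int.negSucc 0, Int.ofNat 1, Int.negSucc 2, Int.ofNat 1, Int.negSucc 0, Int.negSucc 0, Int.ofNat 1, Int.ofNat 1, Int.negSucc 0, Int.negSucc 0, Int.ofNat 1, Int.negSucc 0, Int.ofNat 1, Int.ofNat 1, Int.negSucc 0, Int.ofNat 1, Int.negSucc 0, Int.negSucc 0, Int.negSucc 0, Int.negSucc 0, Int.ofNat 1],
  [Int.negSucc 0, Int.negSucc 0, Int.negSucc 0, Int.ofNat 1, Int.ofNat 1, Int.negSucc 0, Int.negSucc 0, Int.ofNat 1, Int.negSucc 2, Int.ofNat 1, Int.negSucc 0, Int.negSucc 0, Int.ofNat 1, Int.ofNat 1, Int.negSucc 0, Int.negSucc 0, Int.ofNat 1, Int.negSucc 0, Int.ofNat 1, Int.ofNat 1, Int.negSucc 0, Int.ofNat 1, Int.negSucc 0, Int.ofNat 1],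
  [Int.ofNat 0, Int.ofNat 0, Int.ofNat 0, Int.ofNat 2, Int.ofNat 0, Int.ofNat 0, Int.negSucc 1, Int.ofNat 0, Int.negSucc 1, Int.ofNat 2, Int.ofNat 0, Int.ofNat 0, Int.ofNat 2, Int.ofNat 0, Int.ofNat 0, Int.ofNat 0, Int.ofNat 0, Int.ofNat 0, Int.ofNat 2, Int.ofNat 0, Int.ofNat 0, Int.ofNat 0, Int.negSucc 1, Int.negSucc 1],
  [Int.ofNat 0, Int.ofNat 0, Int.ofNat 2, Int.ofNat 0, Int.ofNat 0, Int.negSucc 1, Int.ofNat 0, Int.negSucc 1, Int.ofNat 2, Int.ofNat 0, Int.ofNat 0, Int.ofNat 2, Int.ofNat 0, Int.ofNat 0, Int.ofNat 0, Int.ofNat 0, Int.ofNat 0, Int.ofNat 2, Int.ofNat 0, Int.ofNat 0, Int.ofNat 0, Int.negSucc 1, Int.ofNat 0, Int.negSucc 1],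
  [Int.ofNat 0, Int.ofNat 0, Int.negSucc 1, Int.ofNat 0, Int.ofNat 0, Int.negSucc 1, Int.ofNat 0, Int.ofNat 2, Int.ofNat 2, Int.ofNat 0, Int.ofNat 0, Int.negSucc 1, Int.ofNat 0, Int.ofNat 0, Int.ofNat 0, Int.ofNat 0, Int.ofNat 0, Int.ofNat 2, Int.ofNat 0, Int.ofNat 0, Int.ofNat 0, Int.ofNat 2, Int.ofNat 0, Int.negSucc 1],
  [Int.ofNat 0, Int.ofNat 0, Int.ofNat 2, Int.ofNat 0, Int.ofNat 0, Int.negSucc 1, Int.ofNat 0, Int.ofNat 2, Int.negSucc 1, Int.ofNat 0, Int.ofNat 0, Int.negSucc 1, Int.ofNat 0, Int.ofNat 0, Int.ofNat 0, Int.ofNat 0, Int.ofNat 0, Int.ofNat 2, Int.ofNat 0, Int.ofNat 0, Int.ofNat 0, Int.ofNat 2, Int.ofNat 0, Int.negSucc 1],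
  [Int.ofNat 0, Int.ofNat 2, Int.ofNat 0, Int.ofNat 0, Int.ofNat 0, Int.ofNat 0, Int.ofNat 0, Int.ofNat 0, Int.ofNat 0, Int.ofNat 0, Int.ofNat 2, Int.ofNat 0, Int.ofNat 0, Int.negSucc 1, Int.ofNat 0, Int.ofNat 0, Int.ofNat 0, Int.ofNat 0, Int.ofNat 0, Int.ofNat 2, Int.negSucc 1, Int.ofNat 2, Int.negSucc 1, Int.negSucc 1],
  [Int.ofNat 0, Int.ofNat 2, Int.ofNat 0, Int.ofNat 0, Int.ofNat 0, Int.ofNat 0, Int.ofNat 0, Int.ofNat 0, Int.ofNat 0, Int.ofNat 0, Int.negSucc 1, Int.ofNat 0, Int.ofNat 0, Int.negSucc 1, Int.ofNat 0, Int.ofNat 0, Int.ofNat 0, Int.ofNat 0, Int.ofNat 0, Int.ofNat 2, Int.negSucc 1, Int.negSucc 1, Int.negSucc 1, Int.negSucc 1],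
  [Int.negSucc 1, Int.ofNat 0, Int.ofNat 2, Int.ofNat 0, Int.ofNat 0, Int.ofNat 0, Int.ofNat 0, Int.ofNat 0, Int.ofNat 0, Int.ofNat 0, Int.ofNat 0, Int.negSucc 1, Int.ofNat 0, Int.ofNat 0, Int.negSucc 1, Int.ofNat 0, Int.ofNat 0, Int.ofNat 0, Int.ofNat 0, Int.ofNat 0, Int.ofNat 2, Int.negSucc 1, Int.negSucc 1, Int.negSucc 1],
  [Int.ofNat 1, Int.negSucc 0, Int.negSucc 2, Int.ofNat 1, Int.ofNat 1, Int.ofNat 1, Int.ofNat 1, Int.ofNat 1, Int.ofNat 1, Int.negSucc 0, Int.negSucc 0, Int.negSucc 0, Int.ofNat 1, Int.ofNat 1, Int.negSucc 0, Int.negSucc 0, Int.ofNat 1, Int.ofNat 1, Int.ofNat 1, Int.ofNat 1, Int.ofNat 1, Int.negSucc 0, Int.negSucc 0, Int.ofNat 1],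
  [Int.ofNat 1, Int.ofNat 1, Int.ofNat 1, Int.ofNat 1, Int.ofNat 1, Int.ofNat 1, Int.negSucc 0, Int.negSucc 0, Int.negSucc 0, Int.ofNat 1, Int.ofNat 1, Int.negSucc 0, Int.negSucc 0, Int.ofNat 1, Int.ofNat 1, Int.ofNat 1, Int.ofNat 1, Int.ofNat 1, Int.negSucc 0, Int.negSucc 0, Int.ofNat 1, Int.negSucc 0, Int.negSucc 2, Int.ofNat 1],
  [Int.ofNat 1, Int.ofNat 1, Int.ofNat 1, Int.negSucc 0, Int.ofNat 1, Int.negSucc 0, Int.ofNat 1, Int.ofNat 1, Int.ofNat 1, Int.negSucc 0, Int.negSucc 0, Int.ofNat 1, Int.ofNat 1, Int.ofNat 1, Int.negSucc 0, Int.negSucc 0, Int.ofNat 1, Int.negSucc 0, Int.ofNat 1, Int.ofNat 1, Int.negSucc 0, Int.ofNat 1, Int.negSucc 2, Int.ofNat 1],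
  [Int.ofNat 1, Int.ofNat 1, Int.ofNat 1, Int.negSucc 0, Int.ofNat 1, Int.ofNat 1, Int.ofNat 1, Int.negSucc 0, Int.ofNat 1, Int.ofNat 1, Int.negSucc 0, Int.negSucc 0, Int.negSucc 0, Int.ofNat 1, Int.negSucc 2, Int.negSucc 0, Int.ofNat 1, Int.negSucc 0, Int.ofNat 1, Int.ofNat 1, Int.ofNat 1, Int.negSucc 0, Int.ofNat 1, Int.ofNat 1],
  [Int.ofNat 1, Int.ofNat 1, Int.ofNat 1, Int.ofNat 1, Int.negSucc 0, Int.ofNat 3, Int.ofNat 1, Int.negSucc 0, Int.ofNat 1, Int.ofNat 1, Int.negSucc 0, Int.negSucc 0, Int.negSucc 0, Int.negSucc 0, Int.negSucc 0, Int.negSucc 0, Int.negSucc 0, Int.ofNat 1, Int.ofNat 1, Int.ofNat 1, Int.ofNat 1, Int.negSucc 0, Int.negSucc 0, Int.ofNat 1],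
  [Int.ofNat 1, Int.ofNat 1, Int.negSucc 0, Int.ofNat 1, Int.negSucc 0, Int.negSucc 2, Int.negSucc 0, Int.negSucc 0, Int.ofNat 1, Int.negSucc 0, Int.ofNat 1, Int.negSucc 0, Int.negSucc 0, Int.negSucc 0, Int.negSucc 0, Int.ofNat 1, Int.negSucc 0, Int.ofNat 1, Int.negSucc 0, Int.ofNat 1, Int.ofNat 1, Int.negSucc 0, Int.ofNat 1, Int.ofNat 1],
  [Int.ofNat 1, Int.negSucc 0, Int.negSucc 0, Int.ofNat 1, Int.negSucc 0, Int.negSucc 0, Int.negSucc 0, Int.ofNat 1, Int.negSucc 2, Int.ofNat 1, Int.negSucc 0, Int.negSucc 0, Int.ofNat 1, Int.negSucc 0, Int.ofNat 1, Int.negSucc 0, Int.ofNat 1, Int.negSucc 0, Int.negSucc 0, Int.negSucc 0, Int.ofNat 1, Int.ofNat 1, Int.ofNat 1, Int.ofNat 1],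
  [Int.ofNat 1, Int.ofNat 1, Int.negSucc 0, Int.negSucc 0, Int.negSucc 0, Int.ofNat 1, Int.negSucc 0, Int.negSucc 0, Int.ofNat 1, Int.negSucc 0, Int.ofNat 1, Int.negSucc 0, Int.ofNat 1, Int.ofNat 1, Int.negSucc 0, Int.ofNat 1, Int.negSucc 0, Int.negSucc 0, Int.ofNat 1, Int.negSucc 0, Int.negSucc 2, Int.ofNat 1, Int.negSucc 0, Int.ofNat 1],
  [Int.negSucc 0, Int.ofNat 1, Int.ofNat 1, Int.negSucc 0, Int.negSucc 0, Int.ofNat 1, Int.negSucc 0, Int.ofNat 1, Int.ofNat 1, Int.ofNat 1, Int.negSucc 0, Int.ofNat 1, Int.ofNat 1, Int.ofNat 1, Int.negSucc 0, Int.ofNat 1, Int.negSucc 0, Int.negSucc 0, Int.negSucc 0, Int.negSucc 0, Int.negSucc 2, Int.negSucc 0, Int.negSucc 0, Int.ofNat 1],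
  [Int.negSucc 0, Int.negSucc 0, Int.ofNat 1, Int.ofNat 1, Int.negSucc 0, Int.negSucc 0, Int.ofNat 1, Int.negSucc 0, Int.ofNat 1, Int.ofNat 1, Int.ofNat 1, Int.negSucc 0, Int.ofNat 1, Int.ofNat 1, Int.ofNat 1, Int.negSucc 0, Int.ofNat 1, Int.negSucc 0, Int.negSucc 0, Int.negSucc 0, Int.negSucc 0, Int.negSucc 2, Int.negSucc 0, Int.ofNat 1],
  [Int.ofNat 1, Int.ofNat 1, Int.negSucc 0, Int.ofNat 1, Int.negSucc 0, Int.negSucc 0, Int.ofNat 3, Int.ofNat 1, Int.ofNat 1, Int.ofNat 1, Int.ofNat 1, Int.negSucc 0, Int.ofNat 1, Int.ofNat 1, Int.ofNat 1, Int.negSucc 0, Int.ofNat 1, Int.negSucc 0, Int.negSucc 0, Int.ofNat 1, Int.negSucc 0, Int.negSucc 0, Int.negSucc 0, Int.negSucc 0],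
  [Int.ofNat 1, Int.negSucc 0, Int.negSucc 0, Int.ofNat 3, Int.ofNat 1, Int.ofNat 1, Int.ofNat 1, Int.ofNat 1, Int.negSucc 0, Int.ofNat 1, Int.ofNat 1, Int.ofNat 1, Int.negSucc 0, Int.ofNat 1, Int.negSucc 0, Int.negSucc 0, Int.ofNat 1, Int.negSucc 0, Int.negSucc 0, Int.negSucc 0, Int.ofNat 1, Int.ofNat 1, Int.negSucc 0, Int.negSucc 0],
  [Int.negSucc 1, Int.ofNat 0, Int.ofNat 0, Int.ofNat 2, Int.ofNat 0, Int.ofNat 0, Int.ofNat 0, Int.ofNat 0, Int.ofNat 0, Int.ofNat 0, Int.ofNat 0, Int.ofNat 2, Int.ofNat 0, Int.ofNat 0, Int.negSucc 1, Int.negSucc 1, Int.ofNat 0, Int.negSucc 1, Int.ofNat 0, Int.negSucc 1, Int.ofNat 0, Int.ofNat 0, Int.negSucc 1, Int.ofNat 0],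
  [Int.negSucc 1, Int.ofNat 0, Int.ofNat 0, Int.ofNat 2, Int.ofNat 0, Int.ofNat 0, Int.ofNat 0, Int.ofNat 0, Int.ofNat 0, Int.ofNat 0, Int.ofNat 0, Int.negSucc 1, Int.ofNat 0, Int.ofNat 0, Int.negSucc 1, Int.negSucc 1, Int.ofNat 0, Int.negSucc 1, Int.ofNat 0, Int.ofNat 2, Int.ofNat 0, Int.ofNat 0, Int.negSucc 1, Int.ofNat 0],
  [Int.ofNat 1, Int.negSucc 0, Int.negSucc 0, Int.ofNat 3, Int.ofNat 1, Int.ofNat 1, Int.negSucc 0, Int.negSucc 0, Int.ofNat 1, Int.ofNat 1, Int.ofNat 1, Int.negSucc 0, Int.ofNat 1, Int.ofNat 1, Int.negSucc 0, Int.negSucc 0, Int.ofNat 1, Int.negSucc 0, Int.ofNat 1, Int.ofNat 1, Int.ofNat 1, Int.negSucc 0, Int.negSucc 0, Int.negSucc 0],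
  [Int.ofNat 1, Int.negSucc 0, Int.ofNat 1, Int.ofNat 3, Int.ofNat 1, Int.negSucc 0, Int.ofNat 1, Int.negSucc 0, Int.ofNat 1, Int.negSucc 0, Int.negSucc 0, Int.negSucc 0, Int.ofNat 1, Int.ofNat 1, Int.negSucc 0, Int.ofNat 1, Int.ofNat 1, Int.negSucc 0, Int.negSucc 0, Int.ofNat 1, Int.ofNat 1, Int.negSucc 0, Int.ofNat 1, Int.negSucc 0],
  [Int.ofNat 1, Int.ofNat 1, Int.negSucc 0, Int.ofNat 1, Int.negSucc 0, Int.ofNat 1, Int.ofNat 1, Int.negSucc 0, Int.negSucc 0, Int.ofNat 3, Int.ofNat 1, Int.negSucc 0, Int.negSucc 0, Int.ofNat 1, Int.ofNat 1, Int.ofNat 1, Int.ofNat 1, Int.ofNat 1, Int.negSucc 0, Int.ofNat 1, Int.negSucc 0, Int.negSucc 0, Int.negSucc 0, Int.negSucc 0],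
  [Int.ofNat 1, Int.ofNat 1, Int.ofNat 1, Int.ofNat 1, Int.negSucc 0, Int.negSucc 0, Int.negSucc 0, Int.negSucc 0, Int.negSucc 0, Int.negSucc 2, Int.negSucc 0, Int.negSucc 0, Int.negSucc 0, Int.ofNat 1, Int.ofNat 1, Int.negSucc 0, Int.ofNat 1, Int.ofNat 1, Int.ofNat 1, Int.ofNat 1, Int.negSucc 0, Int.negSucc 0, Int.ofNat 1, Int.negSucc 0],
  [Int.ofNat 0, Int.ofNat 0, Int.ofNat 0, Int.ofNat 0, Int.negSucc 1, Int.negSucc 1, Int.ofNat 0, Int.ofNat 0, Int.ofNat 0, Int.ofNat 0, Int.ofNat 2, Int.ofNat 0, Int.ofNat 0, Int.ofNat 0, Int.ofNat 0, Int.ofNat 2, Int.ofNat 0, Int.ofNat 0, Int.ofNat 2, Int.ofNat 2, Int.ofNat 2, Int.ofNat 0, Int.ofNat 0, Int.ofNat 2],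
  [Int.ofNat 0, Int.ofNat 2, Int.ofNat 0, Int.ofNat 0, Int.ofNat 0, Int.ofNat 0, Int.ofNat 0, Int.negSucc 1, Int.ofNat 0, Int.ofNat 0, Int.ofNat 0, Int.ofNat 2, Int.ofNat 0, Int.ofNat 0, Int.ofNat 0, Int.ofNat 2, Int.ofNat 0, Int.ofNat 0, Int.negSucc 1, Int.ofNat 0, Int.ofNat 2, Int.ofNat 2, Int.ofNat 0, Int.ofNat 2],
  [Int.ofNat 2, Int.ofNat 0, Int.ofNat 2, Int.ofNat 0, Int.ofNat 0, Int.ofNat 0, Int.ofNat 0, Int.negSucc 1, Int.ofNat 0, Int.negSucc 1, Int.negSucc 1, Int.ofNat 2, Int.ofNat 0, Int.ofNat 0, Int.ofNat 0, Int.ofNat 0, Int.ofNat 0, Int.ofNat 0, Int.negSucc 1, Int.ofNat 0, Int.ofNat 0, Int.ofNat 2, Int.ofNat 0, Int.ofNat 0],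
  [Int.ofNat 0, Int.ofNat 2, Int.ofNat 0, Int.ofNat 2, Int.ofNat 0, Int.ofNat 2, Int.ofNat 0, Int.ofNat 0, Int.ofNat 0, Int.ofNat 0, Int.negSucc 1, Int.ofNat 0, Int.negSucc 1, Int.negSucc 1, Int.ofNat 2, Int.ofNat 0, Int.ofNat 0, Int.ofNat 0, Int.ofNat 0, Int.ofNat 0, Int.ofNat 0, Int.negSucc 1, Int.ofNat 0, Int.ofNat 0],
  [Int.ofNat 1, Int.negSucc 0, Int.ofNat 1, Int.negSucc 0, Int.ofNat 1, Int.negSucc 0, Int.ofNat 1, Int.ofNat 1, Int.ofNat 1, Int.ofNat 1, Int.negSucc 0, Int.ofNat 1, Int.negSucc 0, Int.negSucc 0, Int.negSucc 0, Int.ofNat 1, Int.ofNat 1, Int.negSucc 2, Int.ofNat 1, Int.ofNat 1, Int.ofNat 1, Int.negSucc 0, Int.ofNat 1, Int.ofNat 1],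
  [Int.negSucc 0, Int.ofNat 1, Int.negSucc 0, Int.ofNat 1, Int.negSucc 0, Int.ofNat 1, Int.ofNat 1, Int.ofNat 1, Int.ofNat 1, Int.negSucc 0, Int.ofNat 1, Int.negSucc 0, Int.negSucc 0, Int.negSucc 0, Int.ofNat 1, Int.ofNat 1, Int.negSucc 2, Int.ofNat 1, Int.ofNat 1, Int.ofNat 1, Int.negSucc 0, Int.ofNat 1, Int.ofNat 1, Int.ofNat 1],
  [Int.ofNat 1, Int.ofNat 1, Int.ofNat 1, Int.ofNat 1, Int.negSucc 0, Int.ofNat 1, Int.ofNat 1, Int.negSucc 0, Int.ofNat 1, Int.ofNat 1, Int.negSucc 0, Int.ofNat 1, Int.negSucc 0, Int.negSucc 0, Int.ofNat 1, Int.ofNat 1, Int.negSucc 2, Int.ofNat 1, Int.negSucc 0, Int.ofNat 1, Int.negSucc 0, Int.negSucc 0, Int.ofNat 1, Int.ofNat 1],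
  [Int.negSucc 0, Int.negSucc 0, Int.negSucc 0, Int.negSucc 0, Int.ofNat 1, Int.ofNat 1, Int.negSucc 0, Int.negSucc 0, Int.negSucc 0, Int.negSucc 0, Int.negSucc 0, Int.ofNat 1, Int.ofNat 1, Int.ofNat 1, Int.ofNat 1, Int.ofNat 1, Int.ofNat 3, Int.ofNat 1, Int.ofNat 1, Int.ofNat 1, Int.negSucc 0, Int.negSucc 0, Int.ofNat 1, Int.ofNat 1],
  [Int.negSucc 0, Int.negSucc 0, Int.ofNat 1, Int.negSucc 0, Int.negSucc 0, Int.negSucc 0, Int.ofNat 1, Int.negSucc 0, Int.negSucc 0, Int.ofNat 3, Int.negSucc 0, Int.ofNat 1, Int.ofNat 1, Int.negSucc 0, Int.ofNat 1, Int.ofNat 1, Int.ofNat 1, Int.ofNat 1, Int.negSucc 0, Int.ofNat 1, Int.ofNat 1, Int.negSucc 0, Int.ofNat 1, Int.ofNat 1],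
  [Int.ofNat 1, Int.negSucc 0, Int.negSucc 0, Int.negSucc 0, Int.negSucc 0, Int.negSucc 0, Int.ofNat 1, Int.ofNat 1, Int.negSucc 0, Int.negSucc 2, Int.ofNat 1, Int.negSucc 0, Int.ofNat 1, Int.negSucc 0, Int.ofNat 1, Int.ofNat 1, Int.ofNat 1, Int.ofNat 1, Int.ofNat 1, Int.ofNat 1, Int.ofNat 1, Int.ofNat 1, Int.ofNat 1, Int.ofNat 1],
  [Int.ofNat 1, Int.ofNat 1, Int.negSucc 0, Int.negSucc 0, Int.negSucc 0, Int.negSucc 0, Int.negSucc 0, Int.ofNat 1, Int.ofNat 1, Int.negSucc 0, Int.negSucc 2, Int.ofNat 1, Int.negSucc 0, Int.ofNat 1, Int.negSucc 0, Int.ofNat 1, Int.ofNat 1, Int.ofNat 1, Int.ofNat 1, Int.ofNat 1, Int.ofNat 1, Int.ofNat 1, Int.ofNat 1, Int.ofNat 1],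
  [Int.ofNat 0, Int.ofNat 0, Int.ofNat 2, Int.ofNat 0, Int.negSucc 1, Int.ofNat 0, Int.negSucc 1, Int.ofNat 0, Int.ofNat 0, Int.ofNat 0, Int.negSucc 1, Int.ofNat 0, Int.negSucc 1, Int.ofNat 0, Int.ofNat 0, Int.ofNat 2, Int.ofNat 0, Int.ofNat 2, Int.ofNat 0, Int.ofNat 0, Int.ofNat 2, Int.ofNat 0, Int.ofNat 0, Int.ofNat 0],
  [Int.ofNat 0, Int.negSucc 1, Int.ofNat 0, Int.negSucc 1, Int.ofNat 0, Int.ofNat 0, Int.ofNat 0, Int.negSucc 1, Int.ofNat 0, Int.negSucc 1, Int.ofNat 0, Int.ofNat 0, Int.ofNat 2, Int.ofNat 0, Int.ofNat 2, Int.ofNat 0, Int.ofNat 0, Int.ofNat 2, Int.ofNat 0, Int.ofNat 0, Int.ofNat 0, Int.ofNat 0, Int.ofNat 2, Int.ofNat 0],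
  [Int.negSucc 0, Int.ofNat 1, Int.negSucc 0, Int.negSucc 2, Int.negSucc 0, Int.negSucc 0, Int.ofNat 1, Int.negSucc 0, Int.negSucc 0, Int.negSucc 0, Int.ofNat 1, Int.negSucc 0, Int.ofNat 1, Int.negSucc 0, Int.ofNat 1, Int.ofNat 1, Int.negSucc 0, Int.ofNat 1, Int.negSucc 0, Int.ofNat 1, Int.ofNat 1, Int.ofNat 1, Int.ofNat 1, Int.negSucc 0],
  [Int.negSucc 0, Int.ofNat 1, Int.negSucc 0, Int.negSucc 2, Int.negSucc 0, Int.negSucc 0, Int.negSucc 0, Int.ofNat 1, Int.ofNat 1, Int.negSucc 0, Int.ofNat 1, Int.ofNat 1, Int.negSucc 0, Int.negSucc 0, Int.ofNat 1, Int.ofNat 1, Int.negSucc 0, Int.ofNat 1, Int.ofNat 1, Int.negSucc 0, Int.ofNat 1, Int.negSucc 0, Int.ofNat 1, Int.negSucc 0],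
  [Int.ofNat 0, Int.negSucc 1, Int.ofNat 0, Int.negSucc 1, Int.ofNat 0, Int.ofNat 0, Int.ofNat 0, Int.ofNat 2, Int.ofNat 0, Int.negSucc 1, Int.ofNat 0, Int.ofNat 0, Int.negSucc 1, Int.ofNat 0, Int.ofNat 2, Int.ofNat 0, Int.ofNat 0, Int.ofNat 2, Int.ofNat 0, Int.ofNat 0, Int.ofNat 0, Int.ofNat 0, Int.ofNat 2, Int.ofNat 0],
  [Int.ofNat 0, Int.negSucc 1, Int.ofNat 0, Int.negSucc 1, Int.ofNat 0, Int.ofNat 0, Int.ofNat 0, Int.ofNat 2, Int.ofNat 0, Int.ofNat 2, Int.ofNat 0, Int.ofNat 0, Int.negSucc 1, Int.ofNat 0, Int.ofNat 2, Int.ofNat 0, Int.ofNat 0, Int.ofNat 2, Int.ofNat 0, Int.ofNat 0, Int.ofNat 0, Int.ofNat 0, Int.negSucc 1, Int.ofNat 0],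
  [Int.ofNat 0, Int.ofNat 0, Int.ofNat 0, Int.ofNat 0, Int.ofNat 2, Int.ofNat 0, Int.ofNat 0, Int.negSucc 1, Int.ofNat 0, Int.ofNat 0, Int.ofNat 0, Int.ofNat 2, Int.ofNat 0, Int.ofNat 0, Int.ofNat 2, Int.ofNat 0, Int.ofNat 0, Int.negSucc 1, Int.ofNat 2, Int.ofNat 0, Int.ofNat 0, Int.negSucc 1, Int.negSucc 1, Int.ofNat 0],
  [Int.ofNat 0, Int.negSucc 1, Int.ofNat 2, Int.ofNat 0, Int.negSucc 1, Int.ofNat 0, Int.ofNat 0, Int.ofNat 0, Int.ofNat 0, Int.ofNat 0, Int.ofNat 0, Int.ofNat 0, Int.negSucc 1, Int.negSucc 1, Int.ofNat 2, Int.ofNat 0, Int.ofNat 0, Int.ofNat 2, Int.ofNat 2, Int.ofNat 0, Int.ofNat 0, Int.ofNat 0, Int.ofNat 0, Int.ofNat 0],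
  [Int.ofNat 0, Int.negSucc 1, Int.negSucc 1, Int.ofNat 0, Int.negSucc 1, Int.ofNat 0, Int.ofNat 0, Int.ofNat 0, Int.ofNat 0, Int.ofNat 0, Int.ofNat 0, Int.ofNat 0, Int.negSucc 1, Int.negSucc 1, Int.ofNat 2, Int.ofNat 0, Int.ofNat 0, Int.ofNat 2, Int.negSucc 1, Int.ofNat 0, Int.ofNat 0, Int.ofNat 0, Int.ofNat 0, Int.ofNat 0],
  [Int.ofNat 0, Int.ofNat 0, Int.negSucc 1, Int.negSucc 1, Int.ofNat 0, Int.negSucc 1, Int.ofNat 0, Int.ofNat 0, Int.ofNat 0, Int.ofNat 0, Int.ofNat 0, Int.ofNat 0, Int.ofNat 0, Int.negSucc 1, Int.negSucc 1, Int.ofNat 2, Int.ofNat 0, Int.ofNat 0, Int.ofNat 2, Int.negSucc 1, Int.ofNat 0, Int.ofNat 0, Int.ofNat 0, Int.ofNat 0],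
  [Int.negSucc 0, Int.negSucc 0, Int.ofNat 1, Int.ofNat 1, Int.ofNat 1, Int.ofNat 1, Int.ofNat 1, Int.ofNat 1, Int.negSucc 0, Int.negSucc 0, Int.negSucc 0, Int.negSucc 0, Int.negSucc 0, Int.negSucc 0, Int.ofNat 1, Int.ofNat 1, Int.ofNat 1, Int.ofNat 3, Int.ofNat 1, Int.negSucc 0, Int.negSucc 0, Int.ofNat 1, Int.ofNat 1, Int.negSucc 0],
  [Int.ofNat 1, Int.ofNat 1, Int.ofNat 1, Int.ofNat 1, Int.ofNat 1, Int.negSucc 0, Int.negSucc 0, Int.negSucc 0, Int.negSucc 0, Int.negSucc 0, Int.negSucc 0, Int.ofNat 1, Int.ofNat 1, Int.ofNat 1, Int.ofNat 3, Int.ofNat 1, Int.negSucc 0, Int.negSucc 0, Int.ofNat 1, Int.ofNat 1, Int.negSucc 0, Int.negSucc 0, Int.ofNat 1, Int.negSucc 0],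
  [Int.ofNat 0, Int.ofNat 0, Int.ofNat 0, Int.ofNat 0, Int.ofNat 0, Int.negSucc 1, Int.ofNat 0, Int.ofNat 0, Int.negSucc 1, Int.ofNat 0, Int.ofNat 0, Int.ofNat 0, Int.ofNat 0, Int.ofNat 0, Int.ofNat 2, Int.ofNat 2, Int.negSucc 1, Int.negSucc 1, Int.ofNat 0, Int.ofNat 2, Int.ofNat 0, Int.ofNat 0, Int.ofNat 0, Int.ofNat 2],
  [Int.ofNat 0, Int.ofNat 0, Int.ofNat 0, Int.ofNat 0, Int.ofNat 0, Int.ofNat 0, Int.ofNat 0, Int.ofNat 0, Int.ofNat 0, Int.ofNat 0, Int.ofNat 0, Int.negSucc 1, Int.ofNat 0, Int.negSucc 1, Int.ofNat 0, Int.ofNat 2, Int.negSucc 1, Int.ofNat 2, Int.ofNat 0, Int.ofNat 0, Int.ofNat 0, Int.negSucc 1, Int.ofNat 2, Int.ofNat 2],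
  [Int.ofNat 1, Int.ofNat 1, Int.ofNat 1, Int.negSucc 0, Int.ofNat 1, Int.negSucc 0, Int.ofNat 1, Int.ofNat 1, Int.ofNat 1, Int.negSucc 0, Int.negSucc 0, Int.negSucc 0, Int.ofNat 1, Int.negSucc 0, Int.negSucc 0, Int.ofNat 1, Int.negSucc 0, Int.ofNat 1, Int.ofNat 1, Int.ofNat 1, Int.negSucc 0, Int.negSucc 0, Int.ofNat 3, Int.negSucc 0],
  [Int.ofNat 1, Int.ofNat 1, Int.negSucc 0, Int.negSucc 0, Int.ofNat 1, Int.ofNat 1, Int.negSucc 0, Int.ofNat 1, Int.ofNat 1, Int.ofNat 1, Int.ofNat 1, Int.negSucc 0, Int.ofNat 1, Int.negSucc 0, Int.negSucc 0, Int.negSucc 0, Int.negSucc 0, Int.ofNat 1, Int.negSucc 0, Int.ofNat 1, Int.negSucc 0, Int.negSucc 0, Int.negSucc 2, Int.negSucc 0],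
  [Int.negSucc 0, Int.negSucc 0, Int.ofNat 1, Int.negSucc 0, Int.negSucc 0, Int.ofNat 1, Int.ofNat 1, Int.ofNat 1, Int.negSucc 0, Int.negSucc 0, Int.negSucc 0, Int.ofNat 1, Int.negSucc 0, Int.negSucc 2, Int.ofNat 1, Int.negSucc 0, Int.ofNat 1, Int.ofNat 1, Int.negSucc 0, Int.negSucc 0, Int.ofNat 1, Int.ofNat 1, Int.ofNat 1, Int.negSucc 0],
  [Int.negSucc 0, Int.negSucc 0, Int.negSucc 0, Int.negSucc 0, Int.negSucc 0, Int.negSucc 0, Int.negSucc 0, Int.ofNat 1, Int.negSucc 0, Int.ofNat 1, Int.ofNat 1, Int.ofNat 1, Int.negSucc 0, Int.negSucc 2, Int.ofNat 1, Int.ofNat 1, Int.ofNat 1, Int.ofNat 1, Int.ofNat 1, Int.negSucc 0, Int.ofNat 1, Int.ofNat 1, Int.negSucc 0, Int.negSucc 0],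
  [Int.negSucc 0, Int.negSucc 0, Int.negSucc 0, Int.negSucc 0, Int.ofNat 1, Int.negSucc 0, Int.negSucc 0, Int.ofNat 1, Int.negSucc 0, Int.negSucc 0, Int.negSucc 0, Int.ofNat 1, Int.negSucc 0, Int.negSucc 0, Int.ofNat 1, Int.negSucc 0, Int.ofNat 3, Int.ofNat 1, Int.ofNat 1, Int.negSucc 0, Int.negSucc 0, Int.ofNat 1, Int.ofNat 1, Int.negSucc 0],
  [Int.negSucc 0, Int.ofNat 1, Int.negSucc 0, Int.negSucc 0, Int.negSucc 0, Int.ofNat 1, Int.negSucc 0, Int.negSucc 0, Int.ofNat 3, Int.negSucc 0, Int.ofNat 1, Int.negSucc 0, Int.negSucc 0, Int.negSucc 0, Int.ofNat 1, Int.negSucc 0, Int.negSucc 0, Int.ofNat 1, Int.ofNat 1, Int.ofNat 1, Int.negSucc 0, Int.negSucc 0, Int.ofNat 1, Int.negSucc 0],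
  [Int.ofNat 0, Int.negSucc 1, Int.ofNat 0, Int.negSucc 1, Int.ofNat 0, Int.ofNat 0, Int.ofNat 0, Int.ofNat 0, Int.ofNat 2, Int.ofNat 0, Int.ofNat 2, Int.negSucc 1, Int.negSucc 1, Int.ofNat 0, Int.ofNat 0, Int.ofNat 0, Int.ofNat 0, Int.ofNat 0, Int.ofNat 0, Int.ofNat 2, Int.ofNat 0, Int.ofNat 0, Int.ofNat 2, Int.ofNat 0],
  [Int.ofNat 0, Int.ofNat 0, Int.ofNat 2, Int.ofNat 0, Int.negSucc 1, Int.ofNat 0, Int.negSucc 1, Int.ofNat 0, Int.ofNat 0, Int.ofNat 0, Int.ofNat 0, Int.ofNat 2, Int.ofNat 0, Int.ofNat 2, Int.negSucc 1, Int.negSucc 1, Int.ofNat 0, Int.ofNat 0, Int.ofNat 0, Int.ofNat 0, Int.ofNat 0, Int.ofNat 0, Int.ofNat 2, Int.ofNat 0],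
  [Int.ofNat 1, Int.ofNat 1, Int.negSucc 0, Int.ofNat 1, Int.negSucc 2, Int.ofNat 1, Int.negSucc 0, Int.ofNat 1, Int.negSucc 0, Int.ofNat 1, Int.ofNat 1, Int.ofNat 1, Int.negSucc 0, Int.ofNat 1, Int.negSucc 0, Int.negSucc 0, Int.negSucc 0, Int.ofNat 1, Int.negSucc 0, Int.ofNat 1, Int.ofNat 1, Int.ofNat 1, Int.ofNat 1, Int.ofNat 1],
  [Int.ofNat 1, Int.negSucc 0, Int.ofNat 1, Int.negSucc 2, Int.ofNat 1, Int.negSucc 0, Int.ofNat 1, Int.negSucc 0, Int.ofNat 1, Int.ofNat 1, Int.ofNat 1, Int.negSucc 0, Int.ofNat 1, Int.negSucc 0, Int.negSucc 0, Int.negSucc 0, Int.ofNat 1, Int.negSucc 0, Int.ofNat 1, Int.ofNat 1, Int.ofNat 1, Int.ofNat 1, Int.ofNat 1, Int.ofNat 1],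
  [Int.negSucc 0, Int.negSucc 0, Int.negSucc 0, Int.negSucc 2, Int.ofNat 1, Int.negSucc 0, Int.ofNat 1, Int.ofNat 1, Int.ofNat 1, Int.negSucc 0, Int.negSucc 0, Int.ofNat 1, Int.ofNat 1, Int.negSucc 0, Int.negSucc 0, Int.negSucc 0, Int.ofNat 1, Int.negSucc 0, Int.negSucc 0, Int.ofNat 1, Int.ofNat 1, Int.negSucc 0, Int.ofNat 1, Int.ofNat 1],
  [Int.ofNat 1, Int.ofNat 1, Int.ofNat 1, Int.ofNat 3, Int.negSucc 0, Int.negSucc 0, Int.negSucc 0, Int.ofNat 1, Int.negSucc 0, Int.ofNat 1, Int.negSucc 0, Int.ofNat 1, Int.negSucc 0, Int.ofNat 1, Int.negSucc 0, Int.negSucc 0, Int.negSucc 0, Int.negSucc 0, Int.ofNat 1, Int.ofNat 1, Int.ofNat 1, Int.negSucc 0, Int.ofNat 1, Int.ofNat 1],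
  [Int.ofNat 1, Int.ofNat 1, Int.ofNat 1, Int.ofNat 3, Int.ofNat 1, Int.negSucc 0, Int.negSucc 0, Int.ofNat 1, Int.ofNat 1, Int.negSucc 0, Int.negSucc 0, Int.negSucc 0, Int.ofNat 1, Int.negSucc 0, Int.ofNat 1, Int.negSucc 0, Int.negSucc 0, Int.ofNat 1, Int.negSucc 0, Int.negSucc 0, Int.negSucc 0, Int.ofNat 1, Int.ofNat 1, Int.ofNat 1],
  [Int.negSucc 0, Int.ofNat 1, Int.negSucc 0, Int.ofNat 3, Int.ofNat 1, Int.negSucc 0, Int.negSucc 0, Int.negSucc 0, Int.ofNat 1, Int.ofNat 1, Int.ofNat 1, Int.ofNat 1, Int.ofNat 1, Int.negSucc 0, Int.ofNat 1, Int.negSucc 0, Int.negSucc 0, Int.ofNat 1, Int.ofNat 1, Int.negSucc 0, Int.negSucc 0, Int.negSucc 0, Int.ofNat 1, Int.ofNat 1],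
  [Int.ofNat 1, Int.negSucc 0, Int.ofNat 1, Int.negSucc 0, Int.ofNat 3, Int.ofNat 1, Int.negSucc 0, Int.negSucc 0, Int.negSucc 0, Int.ofNat 1, Int.ofNat 1, Int.ofNat 1, Int.ofNat 1, Int.ofNat 1, Int.negSucc 0, Int.ofNat 1, Int.negSucc 0, Int.negSucc 0, Int.ofNat 1, Int.ofNat 1, Int.negSucc 0, Int.negSucc 0, Int.negSucc 0, Int.ofNat 1],
  [Int.ofNat 0, Int.ofNat 2, Int.ofNat 0, Int.ofNat 0, Int.ofNat 2, Int.ofNat 2, Int.ofNat 0, Int.ofNat 0, Int.negSucc 1, Int.ofNat 0, Int.ofNat 0, Int.ofNat 0, Int.ofNat 0, Int.ofNat 0, Int.ofNat 0, Int.ofNat 0, Int.negSucc 1, Int.ofNat 0, Int.ofNat 0, Int.ofNat 2, Int.negSucc 1, Int.ofNat 0, Int.negSucc 1, Int.ofNat 0],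
  [Int.ofNat 0, Int.ofNat 2, Int.ofNat 2, Int.ofNat 0, Int.ofNat 0, Int.negSucc 1, Int.ofNat 0, Int.ofNat 0, Int.ofNat 0, Int.ofNat 0, Int.ofNat 0, Int.ofNat 0, Int.ofNat 0, Int.negSucc 1, Int.ofNat 0, Int.ofNat 0, Int.ofNat 2, Int.negSucc 1, Int.ofNat 0, Int.negSucc 1, Int.ofNat 0, Int.ofNat 2, Int.ofNat 0, Int.ofNat 0],
  [Int.ofNat 2, Int.ofNat 0, Int.ofNat 0, Int.ofNat 2, Int.ofNat 0, Int.ofNat 0, Int.ofNat 0, Int.ofNat 0, Int.ofNat 0, Int.ofNat 0, Int.ofNat 0, Int.ofNat 0, Int.ofNat 0, Int.negSucc 1, Int.ofNat 2, Int.ofNat 0, Int.ofNat 2, Int.ofNat 0, Int.ofNat 0, Int.negSucc 1, Int.ofNat 0, Int.ofNat 2, Int.ofNat 0, Int.ofNat 2],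
  [Int.ofNat 2, Int.ofNat 0, Int.ofNat 0, Int.ofNat 2, Int.ofNat 0, Int.ofNat 0, Int.ofNat 0, Int.ofNat 0, Int.ofNat 0, Int.negSucc 1, Int.ofNat 0, Int.ofNat 0, Int.ofNat 0, Int.ofNat 2, Int.ofNat 0, Int.ofNat 0, Int.ofNat 0, Int.ofNat 2, Int.ofNat 0, Int.ofNat 0, Int.ofNat 2, Int.ofNat 0, Int.negSucc 1, Int.ofNat 2],
  [Int.ofNat 0, Int.ofNat 2, Int.ofNat 2, Int.ofNat 0, Int.ofNat 0, Int.negSucc 1, Int.ofNat 0, Int.ofNat 0, Int.ofNat 0, Int.negSucc 1, Int.ofNat 0, Int.ofNat 0, Int.ofNat 0, Int.ofNat 2, Int.negSucc 1, Int.ofNat 0, Int.ofNat 0, Int.ofNat 0, Int.ofNat 0, Int.ofNat 0, Int.ofNat 2, Int.ofNat 0, Int.negSucc 1, Int.ofNat 0],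
  [Int.ofNat 0, Int.ofNat 2, Int.negSucc 1, Int.ofNat 0, Int.ofNat 0, Int.ofNat 2, Int.ofNat 0, Int.ofNat 0, Int.ofNat 0, Int.ofNat 2, Int.ofNat 0, Int.ofNat 0, Int.ofNat 0, Int.ofNat 2, Int.negSucc 1, Int.ofNat 0, Int.ofNat 0, Int.ofNat 0, Int.ofNat 0, Int.ofNat 0, Int.ofNat 2, Int.ofNat 0, Int.ofNat 2, Int.ofNat 0],
  [Int.ofNat 0, Int.ofNat 0, Int.ofNat 0, Int.ofNat 0, Int.negSucc 1, Int.ofNat 0, Int.ofNat 0, Int.ofNat 0, Int.ofNat 2, Int.ofNat 2, Int.ofNat 2, Int.ofNat 0, Int.ofNat 0, Int.ofNat 0, Int.ofNat 0, Int.ofNat 0, Int.ofNat 0, Int.ofNat 0, Int.ofNat 2, Int.negSucc 1, Int.ofNat 0, Int.ofNat 2, Int.ofNat 2, Int.ofNat 0],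
  [Int.ofNat 0, Int.ofNat 2, Int.ofNat 0, Int.ofNat 0, Int.ofNat 0, Int.ofNat 2, Int.negSucc 1, Int.ofNat 0, Int.ofNat 0, Int.ofNat 0, Int.ofNat 0, Int.ofNat 0, Int.ofNat 2, Int.ofNat 0, Int.ofNat 2, Int.ofNat 0, Int.ofNat 2, Int.negSucc 1, Int.ofNat 0, Int.ofNat 0, Int.ofNat 2, Int.ofNat 0, Int.ofNat 0, Int.ofNat 0],
  [Int.ofNat 0, Int.ofNat 2, Int.ofNat 0, Int.ofNat 0, Int.ofNat 0, Int.ofNat 2, Int.negSucc 1, Int.ofNat 0, Int.ofNat 0, Int.ofNat 0, Int.ofNat 0, Int.ofNat 0, Int.ofNat 2, Int.ofNat 0, Int.ofNat 2, Int.ofNat 0, Int.ofNat 2, Int.negSucc 1, Int.ofNat 0, Int.ofNat 0, Int.ofNat 2, Int.ofNat 0, Int.ofNat 0, Int.ofNat 0],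
  [Int.ofNat 0, Int.ofNat 0, Int.ofNat 2, Int.ofNat 0, Int.ofNat 0, Int.ofNat 0, Int.ofNat 2, Int.negSucc 1, Int.ofNat 0, Int.ofNat 0, Int.ofNat 0, Int.ofNat 0, Int.ofNat 0, Int.ofNat 2, Int.ofNat 0, Int.ofNat 2, Int.ofNat 0, Int.ofNat 2, Int.negSucc 1, Int.ofNat 0, Int.ofNat 0, Int.ofNat 2, Int.ofNat 0, Int.ofNat 0],
  [Int.ofNat 1, Int.ofNat 1, Int.negSucc 0, Int.negSucc 0, Int.negSucc 0, Int.negSucc 0, Int.ofNat 1, Int.negSucc 2, Int.ofNat 1, Int.negSucc 0, Int.negSucc 0, Int.ofNat 1, Int.ofNat 1, Int.ofNat 1, Int.negSucc 0, Int.ofNat 1, Int.negSucc 0, Int.ofNat 1, Int.negSucc 0, Int.negSucc 0, Int.negSucc 0, Int.ofNat 1, Int.negSucc 0, Int.ofNat 1],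
  [Int.negSucc 0, Int.negSucc 0, Int.negSucc 0, Int.ofNat 1, Int.negSucc 2, Int.ofNat 1, Int.negSucc 0, Int.negSucc 0, Int.ofNat 1, Int.ofNat 1, Int.ofNat 1, Int.negSucc 0, Int.ofNat 1, Int.negSucc 0, Int.ofNat 1, Int.negSucc 0, Int.negSucc 0, Int.negSucc 0, Int.ofNat 1, Int.negSucc 0, Int.ofNat 1, Int.ofNat 1, Int.negSucc 0, Int.ofNat 1],
  [Int.ofNat 0, Int.ofNat 0, Int.ofNat 0, Int.ofNat 0, Int.ofNat 0, Int.ofNat 0, Int.ofNat 0, Int.ofNat 0, Int.ofNat 0, Int.ofNat 0, Int.ofNat 0, Int.negSucc 1, Int.ofNat 0, Int.ofNat 2, Int.ofNat 0, Int.negSucc 1, Int.ofNat 2, Int.negSucc 1, Int.ofNat 0, Int.ofNat 0, Int.ofNat 0, Int.ofNat 2, Int.ofNat 2, Int.negSucc 1],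
  [Int.ofNat 0, Int.ofNat 0, Int.ofNat 0, Int.ofNat 0, Int.ofNat 0, Int.ofNat 0, Int.ofNat 0, Int.ofNat 0, Int.ofNat 0, Int.ofNat 2, Int.ofNat 0, Int.negSucc 1, Int.ofNat 0, Int.ofNat 2, Int.ofNat 2, Int.negSucc 1, Int.ofNat 0, Int.ofNat 0, Int.ofNat 0, Int.negSucc 1, Int.ofNat 2, Int.ofNat 0, Int.ofNat 0, Int.negSucc 1],
  [Int.negSucc 0, Int.negSucc 0, Int.negSucc 0, Int.negSucc 0, Int.negSucc 0, Int.negSucc 0, Int.ofNat 1, Int.ofNat 1, Int.ofNat 1, Int.ofNat 1, Int.negSucc 0, Int.negSucc 0, Int.ofNat 1, Int.ofNat 1, Int.ofNat 1, Int.negSucc 2, Int.negSucc 0, Int.negSucc 0, Int.ofNat 1, Int.negSucc 0, Int.ofNat 1, Int.ofNat 1, Int.negSucc 0, Int.ofNat 1],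
  [Int.negSucc 0, Int.negSucc 0, Int.ofNat 1, Int.negSucc 0, Int.negSucc 0, Int.ofNat 1, Int.negSucc 0, Int.ofNat 1, Int.ofNat 1, Int.negSucc 0, Int.ofNat 1, Int.negSucc 0, Int.ofNat 1, Int.ofNat 1, Int.ofNat 1, Int.ofNat 3, Int.negSucc 0, Int.negSucc 0, Int.negSucc 0, Int.negSucc 0, Int.ofNat 1, Int.ofNat 1, Int.ofNat 1, Int.ofNat 1],
  [Int.ofNat 1, Int.ofNat 1, Int.ofNat 1, Int.ofNat 1, Int.negSucc 0, Int.negSucc 0, Int.ofNat 1, Int.ofNat 1, Int.negSucc 0, Int.negSucc 0, Int.ofNat 3, Int.negSucc 0, Int.ofNat 1, Int.ofNat 1, Int.negSucc 0, Int.negSucc 0, Int.negSucc 0, Int.ofNat 1, Int.ofNat 1, Int.negSucc 0, Int.negSucc 0, Int.negSucc 0, Int.ofNat 1, Int.ofNat 1],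
  [Int.ofNat 1, Int.ofNat 1, Int.negSucc 0, Int.ofNat 1, Int.negSucc 0, Int.ofNat 1, Int.negSucc 0, Int.ofNat 1, Int.negSucc 0, Int.ofNat 1, Int.negSucc 2, Int.negSucc 0, Int.ofNat 1, Int.ofNat 1, Int.negSucc 0, Int.ofNat 1, Int.negSucc 0, Int.ofNat 1, Int.negSucc 0, Int.negSucc 0, Int.negSucc 0, Int.negSucc 0, Int.negSucc 0, Int.ofNat 1],
  [Int.ofNat 0, Int.ofNat 0, Int.ofNat 2, Int.ofNat 0, Int.ofNat 0, Int.ofNat 0, Int.ofNat 0, Int.ofNat 2, Int.ofNat 0, Int.ofNat 2, Int.negSucc 1, Int.ofNat 0, Int.ofNat 2, Int.ofNat 2, Int.negSucc 1, Int.ofNat 2, Int.ofNat 0, Int.ofNat 0, Int.ofNat 0, Int.ofNat 0, Int.ofNat 0, Int.ofNat 0, Int.ofNat 0, Int.ofNat 0],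
  [Int.ofNat 0, Int.ofNat 0, Int.ofNat 0, Int.ofNat 0, Int.ofNat 2, Int.ofNat 0, Int.ofNat 0, Int.ofNat 0, Int.ofNat 0, Int.ofNat 2, Int.ofNat 2, Int.ofNat 0, Int.ofNat 0, Int.ofNat 2, Int.ofNat 0, Int.ofNat 2, Int.ofNat 2, Int.ofNat 0, Int.ofNat 0, Int.ofNat 0, Int.negSucc 1, Int.ofNat 0, Int.negSucc 1, Int.ofNat 0],
  [Int.ofNat 0, Int.ofNat 0, Int.ofNat 0, Int.ofNat 0, Int.ofNat 0, Int.ofNat 0, Int.ofNat 0, Int.ofNat 0, Int.ofNat 0, Int.ofNat 0, Int.ofNat 0, Int.ofNat 0, Int.ofNat 0, Int.ofNat 0, Int.ofNat 0, Int.ofNat 0, Int.ofNat 0, Int.ofNat 0, Int.ofNat 0, Int.ofNat 0, Int.negSucc 3, Int.ofNat 0, Int.negSucc 3, Int.ofNat 0],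
  [Int.negSucc 3, Int.ofNat 0, Int.negSucc 3, Int.ofNat 0, Int.ofNat 0, Int.ofNat 0, Int.ofNat 0, Int.ofNat 0, Int.ofNat 0, Int.ofNat 0, Int.ofNat 0, Int.ofNat 0, Int.ofNat 0, Int.ofNat 0, Int.ofNat 0, Int.ofNat 0, Int.ofNat 0, Int.ofNat 0, Int.ofNat 0, Int.ofNat 0, Int.ofNat 0, Int.ofNat 0, Int.ofNat 0, Int.ofNat 0],
  [Int.ofNat 0, Int.negSucc 3, Int.ofNat 0, Int.ofNat 0, Int.ofNat 0, Int.ofNat 0, Int.ofNat 0, Int.ofNat 0, Int.ofNat 0, Int.ofNat 0, Int.ofNat 0, Int.ofNat 0, Int.ofNat 0, Int.ofNat 0, Int.ofNat 0, Int.ofNat 0, Int.ofNat 0, Int.ofNat 0, Int.ofNat 0, Int.ofNat 0, Int.ofNat 0, Int.ofNat 0, Int.ofNat 0, Int.negSucc 3],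
  [Int.negSucc 3, Int.ofNat 0, Int.ofNat 0, Int.ofNat 0, Int.ofNat 0, Int.ofNat 0, Int.ofNat 0, Int.ofNat 0, Int.ofNat 0, Int.ofNat 0, Int.ofNat 0, Int.ofNat 0, Int.ofNat 0, Int.ofNat 0, Int.ofNat 0, Int.ofNat 0, Int.ofNat 0, Int.ofNat 0, Int.ofNat 0, Int.ofNat 0, Int.ofNat 0, Int.ofNat 0, Int.ofNat 0, Int.negSucc 3],
  [Int.ofNat 4, Int.ofNat 0, Int.ofNat 0, Int.ofNat 0, Int.ofNat 0, Int.ofNat 0, Int.ofNat 0, Int.ofNat 0, Int.ofNat 0, Int.ofNat 0, Int.ofNat 0, Int.ofNat 0, Int.ofNat 0, Int.ofNat 0, Int.ofNat 0, Int.ofNat 0, Int.ofNat 0, Int.ofNat 0, Int.ofNat 0, Int.ofNat 0, Int.ofNat 0, Int.ofNat 0, Int.ofNat 0, Int.negSucc 3],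
  [Int.negSucc 3, Int.ofNat 0, Int.ofNat 0, Int.ofNat 0, Int.ofNat 0, Int.ofNat 0, Int.ofNat 0, Int.ofNat 0, Int.ofNat 0, Int.ofNat 0, Int.ofNat 0, Int.ofNat 0, Int.ofNat 0, Int.ofNat 0, Int.ofNat 0, Int.ofNat 0, Int.ofNat 0, Int.ofNat 0, Int.ofNat 0, Int.ofNat 0, Int.ofNat 0, Int.ofNat 0, Int.ofNat 0, Int.negSucc 3],
  [Int.negSucc 3, Int.ofNat 0, Int.ofNat 0, Int.ofNat 0, Int.ofNat 0, Int.ofNat 0, Int.ofNat 0, Int.ofNat 0, Int.ofNat 0, Int.ofNat 0, Int.ofNat 0, Int.ofNat 0, Int.ofNat 0, Int.ofNat 0, Int.ofNat 0, Int.ofNat 0, Int.ofNat 0, Int.ofNat 0, Int.ofNat 0, Int.ofNat 0, Int.ofNat 0, Int.ofNat 0, Int.ofNat 0, Int.negSucc 3],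
  [Int.ofNat 4, Int.ofNat 0, Int.ofNat 0, Int.ofNat 0, Int.ofNat 0, Int.ofNat 0, Int.ofNat 0, Int.ofNat 0, Int.ofNat 0, Int.ofNat 0, Int.ofNat 0, Int.ofNat 0, Int.ofNat 0, Int.ofNat 0, Int.ofNat 0, Int.ofNat 0, Int.ofNat 0, Int.ofNat 0, Int.ofNat 0, Int.ofNat 0, Int.ofNat 0, Int.ofNat 0, Int.ofNat 0, Int.negSucc 3],
  [Int.ofNat 0, Int.ofNat 4, Int.ofNat 0, Int.ofNat 0, Int.ofNat 0, Int.ofNat 0, Int.ofNat 0, Int.ofNat 0, Int.ofNat 0, Int.ofNat 0, Int.ofNat 0, Int.ofNat 0, Int.ofNat 0, Int.ofNat 0, Int.ofNat 0, Int.ofNat 0, Int.ofNat 0, Int.ofNat 0, Int.ofNat 0, Int.ofNat 0, Int.ofNat 0, Int.ofNat 0, Int.ofNat 0, Int.negSucc 3],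
  [Int.ofNat 0, Int.negSucc 3, Int.ofNat 0, Int.ofNat 0, Int.ofNat 0, Int.ofNat 0, Int.ofNat 0, Int.ofNat 0, Int.ofNat 0, Int.ofNat 0, Int.ofNat 0, Int.ofNat 0, Int.ofNat 0, Int.ofNat 0, Int.ofNat 0, Int.ofNat 0, Int.ofNat 0, Int.ofNat 0, Int.ofNat 0, Int.ofNat 0, Int.ofNat 0, Int.ofNat 0, Int.ofNat 0, Int.ofNat 4],
  [Int.ofNat 0, Int.ofNat 0, Int.ofNat 0, Int.ofNat 0, Int.ofNat 0, Int.ofNat 0, Int.ofNat 0, Int.ofNat 0, Int.ofNat 0, Int.ofNat 0, Int.ofNat 0, Int.ofNat 0, Int.ofNat 0, Int.ofNat 0, Int.ofNat 0, Int.ofNat 0, Int.ofNat 0, Int.ofNat 0, Int.ofNat 0, Int.ofNat 0, Int.ofNat 0, Int.negSucc 3, Int.ofNat 0, Int.ofNat 4],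
  [Int.ofNat 2, Int.ofNat 2, Int.ofNat 2, Int.ofNat 0, Int.ofNat 0, Int.ofNat 0, Int.ofNat 2, Int.ofNat 2, Int.ofNat 0, Int.ofNat 0, Int.ofNat 0, Int.ofNat 0, Int.ofNat 0, Int.ofNat 0, Int.ofNat 0, Int.ofNat 0, Int.ofNat 0, Int.ofNat 0, Int.ofNat 0, Int.ofNat 2, Int.ofNat 0, Int.negSucc 1, Int.ofNat 0, Int.negSucc 1],
  [Int.ofNat 2, Int.ofNat 2, Int.ofNat 0, Int.ofNat 0, Int.ofNat 0, Int.ofNat 2, Int.ofNat 2, Int.ofNat 0, Int.ofNat 0, Int.ofNat 0, Int.ofNat 0, Int.ofNat 0, Int.ofNat 0, Int.ofNat 0, Int.ofNat 0, Int.ofNat 0, Int.ofNat 0, Int.ofNat 0, Int.ofNat 2, Int.ofNat 0, Int.negSucc 1, Int.ofNat 0, Int.ofNat 2, Int.negSucc 1],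
  [Int.negSucc 0, Int.negSucc 0, Int.ofNat 1, Int.negSucc 0, Int.negSucc 0, Int.ofNat 1, Int.ofNat 1, Int.negSucc 0, Int.negSucc 0, Int.ofNat 1, Int.ofNat 1, Int.negSucc 0, Int.negSucc 0, Int.negSucc 0, Int.negSucc 0, Int.ofNat 1, Int.negSucc 0, Int.negSucc 0, Int.ofNat 1, Int.negSucc 0, Int.negSucc 0, Int.negSucc 0, Int.ofNat 1, Int.ofNat 3],
  [Int.negSucc 0, Int.negSucc 0, Int.negSucc 0, Int.negSucc 0, Int.negSucc 0, Int.negSucc 0, Int.negSucc 0, Int.negSucc 0, Int.negSucc 0, Int.negSucc 0, Int.negSucc 0, Int.negSucc 0, Int.negSucc 0, Int.negSucc 0, Int.negSucc 0, Int.negSucc 0, Int.negSucc 0, Int.negSucc 0, Int.negSucc 0, Int.negSucc 0, Int.negSucc 0, Int.negSucc 0, Int.negSucc 0, Int.ofNat 3],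
  [Int.negSucc 0, Int.negSucc 0, Int.negSucc 0, Int.negSucc 0, Int.negSucc 0, Int.negSucc 0, Int.negSucc 0, Int.negSucc 0, Int.negSucc 0, Int.negSucc 0, Int.negSucc 0, Int.negSucc 0, Int.negSucc 0, Int.negSucc 0, Int.negSucc 0, Int.negSucc 0, Int.negSucc 0, Int.negSucc 0, Int.negSucc 0, Int.negSucc 0, Int.negSucc 0, Int.negSucc 0, Int.negSucc 0, Int.ofNat 3],
  [Int.ofNat 3, Int.negSucc 0, Int.negSucc 0, Int.negSucc 0, Int.negSucc 0, Int.negSucc 0, Int.negSucc 0, Int.negSucc 0, Int.negSucc 0, Int.negSucc 0, Int.negSucc 0, Int.negSucc 0, Int.negSucc 0, Int.negSucc 0, Int.negSucc 0, Int.negSucc 0, Int.negSucc 0, Int.negSucc 0, Int.negSucc 0, Int.negSucc 0, Int.negSucc 0, Int.negSucc 0, Int.negSucc 0, Int.negSucc 0],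
  [Int.negSucc 2, Int.negSucc 0, Int.ofNat 1, Int.negSucc 0, Int.negSucc 0, Int.negSucc 0, Int.negSucc 0, Int.ofNat 1, Int.negSucc 0, Int.ofNat 1, Int.ofNat 1, Int.ofNat 1, Int.negSucc 0, Int.negSucc 0, Int.negSucc 0, Int.negSucc 0, Int.negSucc 0, Int.negSucc 0, Int.ofNat 1, Int.negSucc 0, Int.negSucc 0, Int.ofNat 1, Int.negSucc 0, Int.negSucc 0],
  [Int.negSucc 0, Int.negSucc 2, Int.negSucc 0, Int.ofNat 1, Int.negSucc 0, Int.negSucc 0, Int.negSucc 0, Int.negSucc 0, Int.ofNat 1, Int.negSucc 0, Int.ofNat 1, Int.ofNat 1, Int.ofNat 1, Int.negSucc 0, Int.negSucc 0, Int.negSucc 0, Int.negSucc 0, Int.negSucc 0, Int.negSucc 0, Int.ofNat 1, Int.negSucc 0, Int.negSucc 0, Int.ofNat 1, Int.negSucc 0],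
  [Int.negSucc 1, Int.ofNat 0, Int.negSucc 1, Int.ofNat 2, Int.ofNat 0, Int.ofNat 0, Int.ofNat 0, Int.ofNat 0, Int.ofNat 0, Int.ofNat 0, Int.ofNat 2, Int.ofNat 0, Int.ofNat 0, Int.ofNat 0, Int.ofNat 0, Int.ofNat 0, Int.ofNat 0, Int.ofNat 0, Int.negSucc 1, Int.ofNat 2, Int.ofNat 0, Int.ofNat 0, Int.ofNat 2, Int.negSucc 1],
  [Int.ofNat 2, Int.ofNat 0, Int.ofNat 0, Int.ofNat 0, Int.ofNat 0, Int.ofNat 0, Int.ofNat 0, Int.ofNat 2, Int.ofNat 0, Int.ofNat 0, Int.ofNat 0, Int.ofNat 0, Int.ofNat 0, Int.ofNat 0, Int.ofNat 0, Int.negSucc 1, Int.ofNat 2, Int.ofNat 0, Int.ofNat 0, Int.ofNat 2, Int.negSucc 1, Int.ofNat 0, Int.negSucc 1, Int.negSucc 1],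
  [Int.negSucc 1, Int.ofNat 0, Int.ofNat 0, Int.ofNat 0, Int.ofNat 0, Int.ofNat 0, Int.negSucc 1, Int.ofNat 0, Int.ofNat 0, Int.ofNat 2, Int.ofNat 2, Int.ofNat 0, Int.ofNat 0, Int.ofNat 0, Int.ofNat 0, Int.ofNat 0, Int.ofNat 2, Int.ofNat 0, Int.ofNat 0, Int.ofNat 0, Int.ofNat 0, Int.negSucc 1, Int.negSucc 1, Int.ofNat 2],
  [Int.negSucc 1, Int.negSucc 1, Int.ofNat 0, Int.ofNat 0, Int.ofNat 0, Int.ofNat 0, Int.ofNat 0, Int.ofNat 2, Int.ofNat 0, Int.ofNat 0, Int.ofNat 0, Int.ofNat 0, Int.ofNat 2, Int.ofNat 2, Int.negSucc 1, Int.ofNat 0, Int.ofNat 0, Int.ofNat 0, Int.ofNat 0, Int.ofNat 0, Int.negSucc 1, Int.ofNat 0, Int.ofNat 0, Int.ofNat 2],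
  [Int.ofNat 1, Int.ofNat 1, Int.negSucc 0, Int.ofNat 1, Int.negSucc 0, Int.ofNat 1, Int.negSucc 0, Int.ofNat 1, Int.negSucc 0, Int.ofNat 1, Int.ofNat 1, Int.negSucc 0, Int.ofNat 1, Int.ofNat 1, Int.negSucc 0, Int.ofNat 1, Int.negSucc 0, Int.ofNat 1, Int.negSucc 0, Int.negSucc 0, Int.negSucc 0, Int.negSucc 0, Int.negSucc 0, Int.negSucc 2],
  [Int.ofNat 1, Int.ofNat 1, Int.ofNat 1, Int.ofNat 1, Int.negSucc 0, Int.negSucc 0, Int.ofNat 1, Int.ofNat 1, Int.negSucc 0, Int.negSucc 0, Int.negSucc 0, Int.negSucc 0, Int.ofNat 1, Int.ofNat 1, Int.negSucc 0, Int.negSucc 0, Int.negSucc 0, Int.ofNat 1, Int.ofNat 1, Int.negSucc 0, Int.negSucc 0, Int.negSucc 0, Int.ofNat 1, Int.negSucc 2],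
  [Int.negSucc 0, Int.ofNat 1, Int.negSucc 0, Int.ofNat 1, Int.negSucc 0, Int.ofNat 1, Int.ofNat 1, Int.negSucc 0, Int.ofNat 1, Int.ofNat 1, Int.negSucc 0, Int.ofNat 1, Int.negSucc 0, Int.ofNat 1, Int.negSucc 0, Int.negSucc 0, Int.negSucc 0, Int.negSucc 0, Int.negSucc 0, Int.ofNat 1, Int.ofNat 1, Int.negSucc 0, Int.ofNat 1, Int.negSucc 2],
  [Int.negSucc 0, Int.ofNat 1, Int.ofNat 1, Int.ofNat 1, Int.negSucc 0, Int.negSucc 0, Int.negSucc 0, Int.negSucc 0, Int.ofNat 1, Int.negSucc 0, Int.ofNat 1, Int.ofNat 1, Int.negSucc 0, Int.ofNat 1, Int.negSucc 0, Int.ofNat 1, Int.negSucc 0, Int.negSucc 0, Int.ofNat 1, Int.ofNat 1, Int.ofNat 1, Int.negSucc 0, Int.negSucc 0, Int.negSucc 2],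
  [Int.ofNat 0, Int.negSucc 1, Int.negSucc 1, Int.ofNat 2, Int.ofNat 0, Int.ofNat 0, Int.ofNat 0, Int.ofNat 0, Int.ofNat 0, Int.negSucc 1, Int.ofNat 0, Int.ofNat 0, Int.negSucc 1, Int.ofNat 2, Int.ofNat 0, Int.ofNat 0, Int.ofNat 0, Int.ofNat 0, Int.ofNat 0, Int.ofNat 2, Int.ofNat 0, Int.ofNat 0, Int.ofNat 0, Int.ofNat 2],
  [Int.ofNat 0, Int.ofNat 0, Int.ofNat 0, Int.ofNat 2, Int.negSucc 1, Int.ofNat 0, Int.negSucc 1, Int.ofNat 0, Int.ofNat 0, Int.negSucc 1, Int.ofNat 0, Int.ofNat 2, Int.ofNat 0, Int.negSucc 1, Int.ofNat 0, Int.ofNat 0, Int.ofNat 2, Int.ofNat 0, Int.ofNat 0, Int.ofNat 0, Int.ofNat 0, Int.ofNat 0, Int.ofNat 0, Int.ofNat 2],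
  [Int.ofNat 1, Int.ofNat 1, Int.ofNat 1, Int.ofNat 1, Int.negSucc 0, Int.negSucc 0, Int.negSucc 0, Int.ofNat 1, Int.negSucc 0, Int.negSucc 0, Int.ofNat 1, Int.ofNat 1, Int.negSucc 0, Int.negSucc 0, Int.negSucc 0, Int.ofNat 1, Int.ofNat 3, Int.negSucc 0, Int.negSucc 0, Int.ofNat 1, Int.ofNat 1, Int.ofNat 1, Int.ofNat 1, Int.negSucc 0],
  [Int.ofNat 1, Int.ofNat 1, Int.ofNat 1, Int.ofNat 1, Int.ofNat 1, Int.ofNat 1, Int.ofNat 1, Int.negSucc 0, Int.negSucc 0, Int.negSucc 0, Int.ofNat 1, Int.negSucc 0, Int.negSucc 0, Int.ofNat 1, Int.ofNat 1, Int.negSucc 0, Int.negSucc 0, Int.negSucc 0, Int.ofNat 1, Int.ofNat 3, Int.negSucc 0, Int.negSucc 0, Int.ofNat 1, Int.negSucc 0],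
  [Int.ofNat 0, Int.ofNat 0, Int.ofNat 0, Int.ofNat 0, Int.ofNat 0, Int.ofNat 0, Int.ofNat 0, Int.negSucc 1, Int.ofNat 0, Int.ofNat 0, Int.ofNat 2, Int.ofNat 0, Int.ofNat 0, Int.ofNat 0, Int.ofNat 0, Int.ofNat 0, Int.negSucc 1, Int.negSucc 1, Int.ofNat 2, Int.ofNat 2, Int.ofNat 0, Int.negSucc 1, Int.ofNat 0, Int.ofNat 2],
  [Int.ofNat 0, Int.ofNat 0, Int.ofNat 0, Int.ofNat 0, Int.ofNat 0, Int.ofNat 0, Int.negSucc 1, Int.ofNat 0, Int.ofNat 0, Int.ofNat 2, Int.ofNat 0, Int.ofNat 0, Int.ofNat 0, Int.ofNat 0, Int.ofNat 0, Int.negSucc 1, Int.negSucc 1, Int.ofNat 2, Int.ofNat 2, Int.ofNat 0, Int.negSucc 1, Int.ofNat 0, Int.ofNat 0, Int.ofNat 2],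
  [Int.ofNat 0, Int.ofNat 0, Int.ofNat 0, Int.ofNat 0, Int.ofNat 0, Int.ofNat 0, Int.negSucc 1, Int.ofNat 0, Int.ofNat 0, Int.negSucc 1, Int.ofNat 0, Int.ofNat 0, Int.ofNat 0, Int.ofNat 0, Int.ofNat 0, Int.negSucc 1, Int.negSucc 1, Int.ofNat 2, Int.negSucc 1, Int.ofNat 0, Int.negSucc 1, Int.ofNat 0, Int.ofNat 0, Int.ofNat 2],
  [Int.ofNat 0, Int.ofNat 0, Int.ofNat 0, Int.ofNat 0, Int.ofNat 0, Int.ofNat 0, Int.ofNat 2, Int.ofNat 0, Int.ofNat 0, Int.ofNat 2, Int.ofNat 0, Int.ofNat 0, Int.ofNat 0, Int.ofNat 0, Int.ofNat 0, Int.negSucc 1, Int.ofNat 2, Int.ofNat 2, Int.ofNat 2, Int.ofNat 0, Int.negSucc 1, Int.ofNat 0, Int.ofNat 0, Int.ofNat 2],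
  [Int.ofNat 0, Int.ofNat 0, Int.ofNat 2, Int.ofNat 0, Int.ofNat 0, Int.ofNat 0, Int.ofNat 0, Int.negSucc 1, Int.ofNat 2, Int.ofNat 2, Int.ofNat 0, Int.ofNat 0, Int.ofNat 0, Int.ofNat 0, Int.ofNat 0, Int.negSucc 1, Int.ofNat 0, Int.ofNat 0, Int.ofNat 2, Int.ofNat 2, Int.ofNat 0, Int.ofNat 0, Int.ofNat 0, Int.ofNat 2],
  [Int.ofNat 0, Int.ofNat 0, Int.negSucc 1, Int.ofNat 0, Int.ofNat 0, Int.ofNat 0, Int.ofNat 0, Int.ofNat 2, Int.ofNat 2, Int.negSucc 1, Int.ofNat 0, Int.ofNat 0, Int.ofNat 0, Int.ofNat 0, Int.ofNat 0, Int.negSucc 1, Int.ofNat 0, Int.ofNat 0, Int.negSucc 1, Int.ofNat 2, Int.ofNat 0, Int.ofNat 0, Int.ofNat 0, Int.ofNat 2],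
  [Int.ofNat 0, Int.ofNat 0, Int.ofNat 0, Int.negSucc 1, Int.ofNat 0, Int.ofNat 0, Int.ofNat 0, Int.ofNat 0, Int.ofNat 2, Int.ofNat 2, Int.negSucc 1, Int.ofNat 0, Int.ofNat 0, Int.ofNat 0, Int.ofNat 0, Int.ofNat 0, Int.negSucc 1, Int.ofNat 0, Int.ofNat 0, Int.negSucc 1, Int.ofNat 2, Int.ofNat 0, Int.ofNat 0, Int.ofNat 2],
  [Int.ofNat 1, Int.ofNat 1, Int.ofNat 1, Int.negSucc 0, Int.ofNat 1, Int.ofNat 1, Int.ofNat 1, Int.ofNat 1, Int.ofNat 1, Int.ofNat 1, Int.negSucc 2, Int.negSucc 0, Int.negSucc 0, Int.ofNat 1, Int.ofNat 1, Int.negSucc 0, Int.negSucc 0, Int.ofNat 1, Int.negSucc 0, Int.negSucc 0, Int.ofNat 1, Int.ofNat 1, Int.ofNat 1, Int.negSucc 0],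
  [Int.negSucc 0, Int.ofNat 1, Int.ofNat 1, Int.ofNat 1, Int.ofNat 1, Int.ofNat 1, Int.ofNat 1, Int.negSucc 2, Int.negSucc 0, Int.negSucc 0, Int.ofNat 1, Int.ofNat 1, Int.negSucc 0, Int.negSucc 0, Int.ofNat 1, Int.negSucc 0, Int.negSucc 0, Int.ofNat 1, Int.ofNat 1, Int.ofNat 1, Int.ofNat 1, Int.ofNat 1, Int.ofNat 1, Int.negSucc 0],
  [Int.ofNat 1, Int.negSucc 0, Int.negSucc 0, Int.negSucc 0, Int.ofNat 1, Int.negSucc 0, Int.ofNat 1, Int.negSucc 2, Int.negSucc 0, Int.negSucc 0, Int.ofNat 1, Int.ofNat 1, Int.negSucc 0, Int.negSucc 0, Int.negSucc 0, Int.negSucc 0, Int.negSucc 0, Int.negSucc 0, Int.ofNat 1, Int.ofNat 1, Int.ofNat 1, Int.ofNat 1, Int.ofNat 1, Int.ofNat 1],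
  [Int.ofNat 1, Int.ofNat 1, Int.ofNat 1, Int.negSucc 0, Int.ofNat 1, Int.negSucc 2, Int.negSucc 0, Int.ofNat 1, Int.negSucc 0, Int.negSucc 0, Int.ofNat 1, Int.negSucc 0, Int.negSucc 0, Int.negSucc 0, Int.ofNat 1, Int.negSucc 0, Int.negSucc 0, Int.negSucc 0, Int.negSucc 0, Int.ofNat 1, Int.ofNat 1, Int.negSucc 0, Int.ofNat 1, Int.ofNat 1],
  [Int.ofNat 1, Int.ofNat 1, Int.ofNat 1, Int.ofNat 1, Int.ofNat 1, Int.negSucc 0, Int.negSucc 0, Int.ofNat 1, Int.ofNat 1, Int.negSucc 0, Int.ofNat 1, Int.ofNat 1, Int.ofNat 1, Int.negSucc 0, Int.ofNat 3, Int.negSucc 0, Int.negSucc 0, Int.ofNat 1, Int.ofNat 1, Int.ofNat 1, Int.ofNat 1, Int.negSucc 0, Int.ofNat 1, Int.ofNat 1],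
  [Int.ofNat 1, Int.ofNat 1, Int.negSucc 0, Int.ofNat 1, Int.ofNat 1, Int.ofNat 1, Int.ofNat 1, Int.ofNat 1, Int.ofNat 1, Int.ofNat 1, Int.negSucc 0, Int.ofNat 1, Int.ofNat 1, Int.negSucc 0, Int.ofNat 3, Int.ofNat 1, Int.negSucc 0, Int.ofNat 1, Int.negSucc 0, Int.ofNat 1, Int.ofNat 1, Int.negSucc 0, Int.negSucc 0, Int.ofNat 1],
  [Int.negSucc 0, Int.negSucc 0, Int.ofNat 1, Int.ofNat 1, Int.ofNat 3, Int.ofNat 1, Int.negSucc 0, Int.ofNat 1, Int.ofNat 1, Int.ofNat 1, Int.negSucc 0, Int.ofNat 1, Int.ofNat 1, Int.ofNat 1, Int.ofNat 1, Int.negSucc 0, Int.ofNat 1, Int.ofNat 1, Int.ofNat 1, Int.negSucc 0, Int.ofNat 1, Int.ofNat 1, Int.negSucc 0, Int.ofNat 1],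
  [Int.ofNat 1, Int.negSucc 0, Int.ofNat 1, Int.negSucc 0, Int.ofNat 1, Int.ofNat 1, Int.negSucc 0, Int.ofNat 1, Int.ofNat 1, Int.ofNat 1, Int.ofNat 1, Int.ofNat 1, Int.ofNat 1, Int.ofNat 1, Int.ofNat 1, Int.ofNat 1, Int.negSucc 0, Int.ofNat 3, Int.ofNat 1, Int.negSucc 0, Int.ofNat 1, Int.ofNat 1, Int.negSucc 0, Int.negSucc 0],
  [Int.negSucc 0, Int.negSucc 0, Int.negSucc 0, Int.negSucc 0, Int.ofNat 1, Int.ofNat 1, Int.negSucc 0, Int.negSucc 0, Int.ofNat 1, Int.negSucc 0, Int.negSucc 0, Int.negSucc 0, Int.ofNat 1, Int.ofNat 1, Int.ofNat 1, Int.ofNat 1, Int.negSucc 0, Int.ofNat 3, Int.negSucc 0, Int.negSucc 0, Int.ofNat 1, Int.negSucc 0, Int.negSucc 0, Int.negSucc 0],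
  [Int.negSucc 0, Int.negSucc 0, Int.negSucc 0, Int.negSucc 0, Int.negSucc 0, Int.ofNat 1, Int.ofNat 1, Int.negSucc 0, Int.negSucc 0, Int.ofNat 1, Int.negSucc 0, Int.negSucc 0, Int.negSucc 0, Int.ofNat 1, Int.ofNat 1, Int.ofNat 1, Int.ofNat 1, Int.negSucc 0, Int.ofNat 3, Int.negSucc 0, Int.negSucc 0, Int.ofNat 1, Int.negSucc 0, Int.negSucc 0],
  [Int.negSucc 0, Int.negSucc 0, Int.negSucc 0, Int.negSucc 0, Int.negSucc 0, Int.ofNat 1, Int.ofNat 1, Int.negSucc 0, Int.negSucc 0, Int.ofNat 1, Int.negSucc 0, Int.negSucc 0, Int.negSucc 0, Int.ofNat 1, Int.ofNat 1, Int.ofNat 1, Int.ofNat 1, Int.negSucc 0, Int.ofNat 3, Int.negSucc 0, Int.negSucc 0, Int.ofNat 1, Int.negSucc 0, Int.negSucc 0],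
  [Int.negSucc 0, Int.negSucc 0, Int.ofNat 1, Int.ofNat 1, Int.negSucc 0, Int.negSucc 0, Int.ofNat 1, Int.negSucc 0, Int.negSucc 0, Int.negSucc 0, Int.ofNat 1, Int.ofNat 1, Int.ofNat 1, Int.ofNat 1, Int.negSucc 0, Int.ofNat 3, Int.negSucc 0, Int.negSucc 0, Int.ofNat 1, Int.negSucc 0, Int.negSucc 0, Int.negSucc 0, Int.negSucc 0, Int.negSucc 0],
  [Int.ofNat 0, Int.ofNat 0, Int.negSucc 1, Int.ofNat 2, Int.ofNat 0, Int.ofNat 0, Int.ofNat 2, Int.ofNat 0, Int.negSucc 1, Int.negSucc 1, Int.ofNat 0, Int.ofNat 0, Int.ofNat 0, Int.ofNat 2, Int.ofNat 0, Int.ofNat 2, Int.ofNat 0, Int.ofNat 0, Int.ofNat 0, Int.ofNat 0, Int.negSucc 1, Int.ofNat 0, Int.ofNat 0, Int.ofNat 0],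
  [Int.ofNat 0, Int.ofNat 2, Int.ofNat 0, Int.ofNat 2, Int.ofNat 0, Int.ofNat 0, Int.negSucc 1, Int.ofNat 0, Int.ofNat 0, Int.ofNat 2, Int.negSucc 1, Int.ofNat 0, Int.negSucc 1, Int.ofNat 0, Int.ofNat 0, Int.ofNat 2, Int.negSucc 1, Int.ofNat 0, Int.ofNat 0, Int.ofNat 0, Int.ofNat 0, Int.ofNat 0, Int.ofNat 0, Int.ofNat 0],
  [Int.ofNat 1, Int.negSucc 0, Int.ofNat 1, Int.ofNat 1, Int.ofNat 1, Int.negSucc 0, Int.negSucc 0, Int.ofNat 1, Int.ofNat 1, Int.ofNat 1, Int.negSucc 2, Int.ofNat 1, Int.negSucc 0, Int.ofNat 1, Int.negSucc 0, Int.ofNat 1, Int.negSucc 0, Int.negSucc 0, Int.ofNat 1, Int.ofNat 1, Int.negSucc 0, Int.ofNat 1, Int.ofNat 1, Int.ofNat 1],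
  [Int.ofNat 1, Int.negSucc 0, Int.negSucc 0, Int.ofNat 1, Int.ofNat 1, Int.ofNat 1, Int.ofNat 1, Int.ofNat 1, Int.ofNat 1, Int.negSucc 0, Int.ofNat 3, Int.ofNat 1, Int.negSucc 0, Int.ofNat 1, Int.negSucc 0, Int.negSucc 0, Int.negSucc 0, Int.negSucc 0, Int.negSucc 0, Int.ofNat 1, Int.negSucc 0, Int.ofNat 1, Int.negSucc 0, Int.ofNat 1],
  [Int.negSucc 0, Int.ofNat 1, Int.ofNat 1, Int.negSucc 0, Int.ofNat 1, Int.ofNat 1, Int.negSucc 0, Int.ofNat 3, Int.negSucc 0, Int.ofNat 1, Int.negSucc 0, Int.negSucc 0, Int.ofNat 1, Int.negSucc 0, Int.ofNat 1, Int.negSucc 0, Int.ofNat 1, Int.ofNat 1, Int.negSucc 0, Int.ofNat 1, Int.negSucc 0, Int.negSucc 0, Int.ofNat 1, Int.ofNat 1],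
  [Int.negSucc 0, Int.ofNat 1, Int.negSucc 0, Int.negSucc 0, Int.ofNat 1, Int.negSucc 0, Int.ofNat 1, Int.ofNat 3, Int.negSucc 0, Int.negSucc 0, Int.ofNat 1, Int.negSucc 0, Int.ofNat 1, Int.negSucc 0, Int.ofNat 1, Int.ofNat 1, Int.ofNat 1, Int.ofNat 1, Int.ofNat 1, Int.ofNat 1, Int.negSucc 0, Int.negSucc 0, Int.negSucc 0, Int.ofNat 1],
  [Int.ofNat 1, Int.negSucc 0, Int.ofNat 1, Int.negSucc 0, Int.ofNat 1, Int.negSucc 0, Int.negSucc 0, Int.ofNat 1, Int.negSucc 0, Int.negSucc 0, Int.ofNat 1, Int.negSucc 0, Int.ofNat 1, Int.negSucc 0, Int.ofNat 1, Int.ofNat 1, Int.ofNat 1, Int.ofNat 1, Int.ofNat 1, Int.negSucc 0, Int.negSucc 0, Int.negSucc 2, Int.negSucc 0, Int.negSucc 0],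
  [Int.ofNat 1, Int.ofNat 1, Int.negSucc 0, Int.negSucc 0, Int.ofNat 1, Int.negSucc 2, Int.negSucc 0, Int.negSucc 0, Int.ofNat 1, Int.ofNat 1, Int.ofNat 1, Int.negSucc 0, Int.negSucc 0, Int.negSucc 0, Int.ofNat 1, Int.ofNat 1, Int.negSucc 0, Int.negSucc 0, Int.ofNat 1, Int.negSucc 0, Int.ofNat 1, Int.negSucc 0, Int.ofNat 1, Int.negSucc 0],
  [Int.negSucc 0, Int.negSucc 0, Int.ofNat 1, Int.ofNat 1, Int.ofNat 1, Int.negSucc 0, Int.ofNat 1, Int.ofNat 1, Int.ofNat 1, Int.negSucc 0, Int.negSucc 0, Int.negSucc 0, Int.negSucc 0, Int.negSucc 0, Int.ofNat 3, Int.negSucc 0, Int.negSucc 0, Int.ofNat 1, Int.ofNat 1, Int.ofNat 1, Int.negSucc 0, Int.ofNat 1, Int.ofNat 1, Int.ofNat 1],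
  [Int.negSucc 0, Int.ofNat 1, Int.ofNat 1, Int.negSucc 0, Int.negSucc 0, Int.ofNat 1, Int.ofNat 1, Int.ofNat 1, Int.negSucc 0, Int.ofNat 1, Int.ofNat 1, Int.ofNat 1, Int.negSucc 0, Int.negSucc 0, Int.negSucc 0, Int.negSucc 0, Int.negSucc 0, Int.ofNat 3, Int.negSucc 0, Int.negSucc 0, Int.ofNat 1, Int.ofNat 1, Int.ofNat 1, Int.ofNat 1],
  [Int.ofNat 2, Int.ofNat 0, Int.ofNat 0, Int.negSucc 1, Int.ofNat 0, Int.ofNat 0, Int.ofNat 0, Int.ofNat 0, Int.ofNat 0, Int.ofNat 0, Int.ofNat 0, Int.ofNat 2, Int.ofNat 0, Int.ofNat 0, Int.negSucc 1, Int.negSucc 1, Int.ofNat 0, Int.ofNat 2, Int.ofNat 0, Int.negSucc 1, Int.ofNat 0, Int.ofNat 0, Int.ofNat 2, Int.ofNat 0],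
  [Int.ofNat 0, Int.ofNat 0, Int.negSucc 1, Int.ofNat 0, Int.ofNat 0, Int.ofNat 0, Int.ofNat 0, Int.ofNat 0, Int.ofNat 0, Int.ofNat 0, Int.ofNat 2, Int.ofNat 0, Int.ofNat 0, Int.negSucc 1, Int.negSucc 1, Int.ofNat 0, Int.ofNat 2, Int.ofNat 0, Int.negSucc 1, Int.ofNat 0, Int.ofNat 0, Int.ofNat 2, Int.ofNat 2, Int.ofNat 0],
  [Int.ofNat 0, Int.ofNat 0, Int.ofNat 2, Int.ofNat 0, Int.ofNat 0, Int.ofNat 0, Int.ofNat 0, Int.ofNat 0, Int.ofNat 0, Int.ofNat 0, Int.negSucc 1, Int.ofNat 0, Int.ofNat 0, Int.negSucc 1, Int.negSucc 1, Int.ofNat 0, Int.ofNat 2, Int.ofNat 0, Int.ofNat 2, Int.ofNat 0, Int.ofNat 0, Int.negSucc 1, Int.ofNat 2, Int.ofNat 0],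
  [Int.ofNat 0, Int.ofNat 0, Int.negSucc 1, Int.ofNat 0, Int.ofNat 0, Int.ofNat 0, Int.ofNat 0, Int.ofNat 0, Int.ofNat 0, Int.ofNat 0, Int.negSucc 1, Int.ofNat 0, Int.ofNat 0, Int.ofNat 2, Int.negSucc 1, Int.ofNat 0, Int.negSucc 1, Int.ofNat 0, Int.negSucc 1, Int.ofNat 0, Int.ofNat 0, Int.negSucc 1, Int.ofNat 2, Int.ofNat 0],
  [Int.ofNat 0, Int.negSucc 1, Int.negSucc 1, Int.ofNat 0, Int.ofNat 0, Int.negSucc 1, Int.ofNat 0, Int.ofNat 0, Int.ofNat 0, Int.negSucc 1, Int.negSucc 1, Int.negSucc 1, Int.ofNat 2, Int.ofNat 0, Int.ofNat 0, Int.ofNat 0, Int.ofNat 0, Int.ofNat 2, Int.ofNat 0, Int.ofNat 0, Int.ofNat 0, Int.ofNat 0, Int.ofNat 0, Int.ofNat 0],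
  [Int.ofNat 0, Int.negSucc 1, Int.ofNat 2, Int.ofNat 0, Int.ofNat 0, Int.negSucc 1, Int.ofNat 0, Int.ofNat 0, Int.ofNat 0, Int.ofNat 2, Int.ofNat 2, Int.ofNat 2, Int.ofNat 2, Int.ofNat 0, Int.ofNat 0, Int.ofNat 0, Int.ofNat 0, Int.ofNat 2, Int.ofNat 0, Int.ofNat 0, Int.ofNat 0, Int.ofNat 0, Int.ofNat 0, Int.ofNat 0],
  [Int.ofNat 0, Int.ofNat 0, Int.negSucc 1, Int.ofNat 2, Int.ofNat 0, Int.ofNat 0, Int.negSucc 1, Int.ofNat 0, Int.ofNat 0, Int.ofNat 0, Int.ofNat 2, Int.ofNat 2, Int.ofNat 2, Int.ofNat 2, Int.ofNat 0, Int.ofNat 0, Int.ofNat 0, Int.ofNat 0, Int.ofNat 2, Int.ofNat 0, Int.ofNat 0, Int.ofNat 0, Int.ofNat 0, Int.ofNat 0],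
  [Int.negSucc 0, Int.negSucc 0, Int.ofNat 1, Int.ofNat 1, Int.negSucc 0, Int.negSucc 0, Int.negSucc 0, Int.ofNat 1, Int.negSucc 2, Int.negSucc 0, Int.ofNat 1, Int.negSucc 0, Int.negSucc 0, Int.ofNat 1, Int.negSucc 0, Int.negSucc 0, Int.negSucc 0, Int.negSucc 0, Int.negSucc 0, Int.ofNat 1, Int.negSucc 0, Int.ofNat 1, Int.negSucc 0, Int.negSucc 0],
  [Int.ofNat 1, Int.negSucc 0, Int.negSucc 0, Int.negSucc 0, Int.ofNat 1, Int.negSucc 2, Int.negSucc 0, Int.ofNat 1, Int.negSucc 0, Int.negSucc 0, Int.ofNat 1, Int.negSucc 0, Int.negSucc 0, Int.negSucc 0, Int.negSucc 0, Int.negSucc 0, Int.ofNat 1, Int.negSucc 0, Int.ofNat 1, Int.negSucc 0, Int.negSucc 0, Int.negSucc 0, Int.ofNat 1, Int.negSucc 0],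
  [Int.negSucc 1, Int.ofNat 0, Int.ofNat 0, Int.ofNat 2, Int.ofNat 0, Int.ofNat 0, Int.ofNat 0, Int.ofNat 2, Int.ofNat 0, Int.ofNat 0, Int.ofNat 2, Int.ofNat 0, Int.ofNat 0, Int.negSucc 1, Int.ofNat 2, Int.ofNat 0, Int.ofNat 0, Int.ofNat 2, Int.ofNat 2, Int.ofNat 0, Int.ofNat 0, Int.ofNat 0, Int.ofNat 0, Int.ofNat 0],
  [Int.negSucc 1, Int.ofNat 0, Int.ofNat 0, Int.ofNat 2, Int.ofNat 2, Int.ofNat 2, Int.ofNat 0, Int.ofNat 2, Int.ofNat 0, Int.negSucc 1, Int.ofNat 0, Int.ofNat 2, Int.ofNat 0, Int.ofNat 0, Int.ofNat 0, Int.ofNat 0, Int.ofNat 0, Int.ofNat 2, Int.ofNat 0, Int.ofNat 0, Int.ofNat 0, Int.ofNat 0, Int.ofNat 0, Int.ofNat 0],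
  [Int.ofNat 1, Int.negSucc 0, Int.negSucc 0, Int.negSucc 0, Int.ofNat 1, Int.negSucc 0, Int.negSucc 0, Int.ofNat 1, Int.negSucc 0, Int.negSucc 0, Int.ofNat 1, Int.ofNat 1, Int.negSucc 0, Int.negSucc 0, Int.negSucc 2, Int.ofNat 1, Int.negSucc 0, Int.negSucc 0, Int.negSucc 0, Int.negSucc 0, Int.ofNat 1, Int.negSucc 0, Int.negSucc 0, Int.negSucc 0],
  [Int.ofNat 1, Int.negSucc 0, Int.ofNat 1, Int.negSucc 0, Int.ofNat 1, Int.ofNat 1, Int.ofNat 1, Int.ofNat 1, Int.negSucc 0, Int.ofNat 1, Int.negSucc 0, Int.ofNat 1, Int.negSucc 0, Int.negSucc 0, Int.negSucc 2, Int.negSucc 0, Int.negSucc 0, Int.negSucc 0, Int.ofNat 1, Int.negSucc 0, Int.ofNat 1, Int.negSucc 0, Int.ofNat 1, Int.negSucc 0],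
  [Int.negSucc 0, Int.negSucc 0, Int.ofNat 1, Int.negSucc 0, Int.negSucc 2, Int.ofNat 1, Int.negSucc 0, Int.negSucc 0, Int.ofNat 1, Int.ofNat 1, Int.negSucc 0, Int.ofNat 1, Int.negSucc 0, Int.ofNat 1, Int.negSucc 0, Int.ofNat 1, Int.negSucc 0, Int.negSucc 0, Int.ofNat 1, Int.ofNat 1, Int.ofNat 1, Int.negSucc 0, Int.ofNat 1, Int.negSucc 0],
  [Int.negSucc 0, Int.ofNat 1, Int.ofNat 1, Int.ofNat 1, Int.negSucc 0, Int.ofNat 1, Int.ofNat 1, Int.ofNat 1, Int.ofNat 1, Int.ofNat 1, Int.negSucc 0, Int.ofNat 1, Int.negSucc 0, Int.negSucc 0, Int.ofNat 1, Int.negSucc 0, Int.negSucc 0, Int.negSucc 2, Int.negSucc 0, Int.negSucc 0, Int.ofNat 1, Int.negSucc 0, Int.negSucc 0, Int.negSucc 0],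
  [Int.ofNat 1, Int.ofNat 1, Int.negSucc 0, Int.ofNat 1, Int.negSucc 0, Int.ofNat 1, Int.ofNat 1, Int.negSucc 0, Int.ofNat 1, Int.negSucc 0, Int.ofNat 1, Int.negSucc 0, Int.negSucc 0, Int.negSucc 0, Int.ofNat 1, Int.negSucc 0, Int.negSucc 0, Int.negSucc 2, Int.ofNat 1, Int.negSucc 0, Int.ofNat 1, Int.ofNat 1, Int.negSucc 0, Int.negSucc 0],
  [Int.negSucc 0, Int.ofNat 1, Int.ofNat 1, Int.negSucc 0, Int.ofNat 1, Int.negSucc 0, Int.ofNat 1, Int.ofNat 1, Int.negSucc 0, Int.ofNat 1, Int.negSucc 0, Int.ofNat 1, Int.negSucc 0, Int.negSucc 0, Int.negSucc 0, Int.ofNat 1, Int.negSucc 0, Int.negSucc 0, Int.negSucc 2, Int.ofNat 1, Int.negSucc 0, Int.ofNat 1, Int.ofNat 1, Int.negSucc 0],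
  [Int.ofNat 1, Int.negSucc 0, Int.negSucc 0, Int.ofNat 1, Int.ofNat 1, Int.ofNat 1, Int.negSucc 0, Int.negSucc 0, Int.ofNat 1, Int.ofNat 1, Int.negSucc 0, Int.ofNat 3, Int.ofNat 1, Int.negSucc 0, Int.ofNat 1, Int.ofNat 1, Int.negSucc 0, Int.ofNat 1, Int.negSucc 0, Int.negSucc 0, Int.negSucc 0, Int.negSucc 0, Int.ofNat 1, Int.ofNat 1],
  [Int.ofNat 1, Int.ofNat 1, Int.ofNat 1, Int.negSucc 0, Int.negSucc 0, Int.ofNat 1, Int.ofNat 1, Int.negSucc 0, Int.ofNat 3, Int.ofNat 1, Int.negSucc 0, Int.ofNat 1, Int.ofNat 1, Int.negSucc 0, Int.ofNat 1, Int.negSucc 0, Int.negSucc 0, Int.negSucc 0, Int.negSucc 0, Int.ofNat 1, Int.ofNat 1, Int.negSucc 0, Int.negSucc 0, Int.ofNat 1],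
  [Int.ofNat 1, Int.ofNat 1, Int.ofNat 1, Int.negSucc 0, Int.ofNat 1, Int.ofNat 1, Int.ofNat 1, Int.negSucc 0, Int.ofNat 1, Int.ofNat 1, Int.negSucc 0, Int.negSucc 0, Int.negSucc 0, Int.ofNat 1, Int.ofNat 1, Int.negSucc 0, Int.ofNat 1, Int.negSucc 0, Int.negSucc 2, Int.ofNat 1, Int.ofNat 1, Int.negSucc 0, Int.ofNat 1, Int.ofNat 1],
  [Int.ofNat 1, Int.ofNat 1, Int.ofNat 1, Int.negSucc 0, Int.negSucc 2, Int.negSucc 0, Int.ofNat 1, Int.negSucc 0, Int.negSucc 0, Int.ofNat 1, Int.ofNat 1, Int.negSucc 0, Int.ofNat 1, Int.ofNat 1, Int.ofNat 1, Int.negSucc 0, Int.ofNat 1, Int.ofNat 1, Int.ofNat 1, Int.negSucc 0, Int.negSucc 0, Int.ofNat 1, Int.ofNat 1, Int.ofNat 1],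
  [Int.ofNat 1, Int.ofNat 1, Int.ofNat 1, Int.negSucc 0, Int.negSucc 2, Int.negSucc 0, Int.ofNat 1, Int.negSucc 0, Int.negSucc 0, Int.ofNat 1, Int.ofNat 1, Int.negSucc 0, Int.ofNat 1, Int.ofNat 1, Int.ofNat 1, Int.negSucc 0, Int.ofNat 1, Int.ofNat 1, Int.ofNat 1, Int.negSucc 0, Int.negSucc 0, Int.ofNat 1, Int.ofNat 1, Int.ofNat 1],
  [Int.ofNat 1, Int.ofNat 1, Int.negSucc 0, Int.negSucc 0, Int.negSucc 2, Int.ofNat 1, Int.negSucc 0, Int.negSucc 0, Int.negSucc 0, Int.negSucc 0, Int.negSucc 0, Int.negSucc 0, Int.ofNat 1, Int.ofNat 1, Int.ofNat 1, Int.ofNat 1, Int.ofNat 1, Int.ofNat 1, Int.negSucc 0, Int.negSucc 0, Int.negSucc 0, Int.ofNat 1, Int.negSucc 0, Int.ofNat 1],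
  [Int.negSucc 0, Int.ofNat 1, Int.ofNat 1, Int.negSucc 0, Int.negSucc 0, Int.ofNat 1, Int.ofNat 1, Int.negSucc 0, Int.negSucc 0, Int.negSucc 0, Int.ofNat 1, Int.ofNat 1, Int.ofNat 1, Int.negSucc 0, Int.negSucc 0, Int.ofNat 1, Int.negSucc 2, Int.negSucc 0, Int.ofNat 1, Int.negSucc 0, Int.ofNat 1, Int.negSucc 0, Int.negSucc 0, Int.ofNat 1],
  [Int.negSucc 0, Int.ofNat 1, Int.negSucc 0, Int.negSucc 0, Int.negSucc 0, Int.negSucc 0, Int.negSucc 0, Int.negSucc 0, Int.negSucc 0, Int.ofNat 1, Int.negSucc 0, Int.ofNat 1, Int.ofNat 1, Int.negSucc 0, Int.negSucc 0, Int.negSucc 0, Int.negSucc 2, Int.negSucc 0, Int.negSucc 0, Int.negSucc 0, Int.ofNat 1, Int.negSucc 0, Int.ofNat 1, Int.ofNat 1],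
  [Int.ofNat 1, Int.negSucc 0, Int.ofNat 1, Int.ofNat 1, Int.ofNat 1, Int.ofNat 1, Int.ofNat 1, Int.ofNat 1, Int.negSucc 0, Int.ofNat 1, Int.negSucc 0, Int.ofNat 1, Int.ofNat 1, Int.ofNat 1, Int.ofNat 1, Int.negSucc 0, Int.negSucc 0, Int.ofNat 1, Int.negSucc 0, Int.ofNat 1, Int.ofNat 1, Int.ofNat 1, Int.ofNat 3, Int.negSucc 0],
  [Int.ofNat 1, Int.negSucc 0, Int.ofNat 1, Int.ofNat 1, Int.ofNat 1, Int.ofNat 1, Int.negSucc 0, Int.ofNat 1, Int.negSucc 0, Int.ofNat 1, Int.ofNat 1, Int.ofNat 1, Int.negSucc 0, Int.ofNat 1, Int.ofNat 1, Int.negSucc 0, Int.ofNat 1, Int.ofNat 1, Int.ofNat 1, Int.ofNat 3, Int.negSucc 0, Int.ofNat 1, Int.ofNat 1, Int.negSucc 0],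
  [Int.negSucc 0, Int.ofNat 1, Int.negSucc 0, Int.negSucc 0, Int.negSucc 0, Int.negSucc 0, Int.negSucc 2, Int.negSucc 0, Int.negSucc 0, Int.ofNat 1, Int.ofNat 1, Int.ofNat 1, Int.negSucc 0, Int.negSucc 0, Int.negSucc 0, Int.negSucc 0, Int.negSucc 0, Int.negSucc 0, Int.ofNat 1, Int.ofNat 1, Int.negSucc 0, Int.negSucc 0, Int.negSucc 0, Int.ofNat 1],
  [Int.negSucc 0, Int.negSucc 0, Int.negSucc 0, Int.negSucc 0, Int.ofNat 1, Int.negSucc 0, Int.negSucc 0, Int.negSucc 0, Int.negSucc 0, Int.negSucc 2, Int.negSucc 0, Int.negSucc 0, Int.ofNat 1, Int.ofNat 1, Int.ofNat 1, Int.negSucc 0, Int.negSucc 0, Int.negSucc 0, Int.negSucc 0, Int.negSucc 0, Int.negSucc 0, Int.ofNat 1, Int.ofNat 1, Int.ofNat 1],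
  [Int.ofNat 0, Int.ofNat 0, Int.ofNat 0, Int.ofNat 0, Int.ofNat 0, Int.ofNat 0, Int.ofNat 0, Int.ofNat 0, Int.ofNat 0, Int.ofNat 0, Int.ofNat 2, Int.ofNat 0, Int.ofNat 2, Int.ofNat 0, Int.ofNat 2, Int.ofNat 2, Int.negSucc 1, Int.ofNat 0, Int.ofNat 0, Int.ofNat 0, Int.ofNat 2, Int.ofNat 2, Int.ofNat 0, Int.negSucc 1],
  [Int.ofNat 0, Int.ofNat 0, Int.ofNat 0, Int.ofNat 0, Int.ofNat 0, Int.ofNat 0, Int.ofNat 0, Int.ofNat 0, Int.ofNat 0, Int.ofNat 2, Int.ofNat 0, Int.ofNat 2, Int.ofNat 0, Int.ofNat 2, Int.ofNat 2, Int.negSucc 1, Int.ofNat 0, Int.ofNat 0, Int.ofNat 0, Int.ofNat 2, Int.ofNat 2, Int.ofNat 0, Int.ofNat 0, Int.negSucc 1],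
  [Int.ofNat 0, Int.ofNat 0, Int.ofNat 0, Int.ofNat 0, Int.ofNat 0, Int.ofNat 0, Int.ofNat 0, Int.ofNat 0, Int.ofNat 0, Int.negSucc 1, Int.ofNat 0, Int.negSucc 1, Int.ofNat 0, Int.ofNat 2, Int.ofNat 2, Int.negSucc 1, Int.ofNat 0, Int.ofNat 0, Int.ofNat 0, Int.ofNat 2, Int.ofNat 2, Int.ofNat 0, Int.ofNat 0, Int.negSucc 1]]

set_option maxRecDepth 100000 in
theorem c1te22_chk : pmChk (List.replicate 14 [22, 0, 26, 25]).flatten nxL c1te22M 0 0 = true := by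
  decide +kernel

theorem c1te22_ne : wE letE2 (List.replicate 14 [22, 0, 26, 25]).flatten ≠ 1 ∧ wE letE2 (List.replicate 14 [22, 0, 26, 25]).flatten ≠ negElt :=
  ne_pm_of_chk nxL_mem c1te22_chk

end Cfsg.Agent.Lib.Helper92.OC1
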